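import Cfsg.Agent.Lib.J4Index.CardLe
import Cfsg.Agent.Lib.J4P.Rep

/-!
# The index of the subgroup generated by x, y and the third element in the presented J4
-/

set_option autoImplicit false
set_option maxRecDepth 100000
set_option linter.constructorNameAsVariable false

namespace CfsgLib.J4Index

open Cfsg.Spor CfsgLib.J4P
open CfsgLib.HNxyz (evalW evalW_nil evalW_cons)

/-- The three generators of the subgroup. -/
def kpGens : Set (FreeGroup J4.Gen) :=
  {J4.x, J4.y,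
    (J4.y * ((J4.y * J4.x) ^ 4 * J4.y⁻¹ * J4.x)⁻¹ * J4.t * ((J4.y * J4.x) ^ 4 * J4.y⁻¹ * J4.x)) ^ 3}

/-- The subgroup generated by x, y and the third element. -/
def kp : Subgroup Cfsg.Spor.J4 :=
  (Subgroup.closure kpGens).map (PresentedGroup.mk (coxRelators J4.edges ∪ {r | r ∈ J4.extra}))

theorem wv_low {M : Type*} [Group M] (a b : M) {w : List ℕ} (h : ∀ g ∈ w, g < 4) :
    wv a b w = evalW (eltL [a, b]) w := by rw [wv_flat, flat_id h]

theorem extra_one (i : ℕ) {r : FreeGroup J4.Gen} (h : J4.extra[i]? = some r) :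
    PresentedGroup.mk (coxRelators J4.edges ∪ {r | r ∈ J4.extra}) r = 1 :=
  PresentedGroup.mk_eq_one_iff.2
    (Subgroup.subset_normalClosure (Or.inr (List.mem_of_getElem? h)))

/-- The generators. -/
abbrev jg (i : J4.Gen) : Cfsg.Spor.J4 := PresentedGroup.of i

theorem mk_x : PresentedGroup.mk (coxRelators J4.edges ∪ {r | r ∈ J4.extra}) J4.x = jg .x := rfl

theorem mk_y : PresentedGroup.mk (coxRelators J4.edges ∪ {r | r ∈ J4.extra}) J4.y = jg .y := rfl

theorem mk_t : PresentedGroup.mk (coxRelators J4.edges ∪ {r | r ∈ J4.extra}) J4.t = jg .t := rfl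

theorem j4_t_sq : jg .t * jg .t = 1 := by
  have h := extra_one 7 (r := J4.t ^ 2) rfl
  simpa [mk_t, pow_two] using h

theorem j4_t_x : Commute (jg .t) (jg .x) := by
  have h := extra_one 9 (r := J4.t⁻¹ * J4.x⁻¹ * J4.t * J4.x) rfl
  simp only [map_mul, map_inv, mk_t, mk_x] at h
  calc jg .t * jg .x = jg .x * jg .t * ((jg .t)⁻¹ * (jg .x)⁻¹ * jg .t * jg .x) := by group
    _ = jg .x * jg .t := by rw [h, mul_one]

theorem j4_t_w : Commute (jg .t) (evalW (eltL [jg .x, jg .y]) wWord) := by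
  have h := extra_one 8 (r := J4.t⁻¹ * (J4.y * J4.x * J4.y * ((J4.x * (J4.y⁻¹)) ^ 2) *
    ((J4.x * J4.y) ^ 3))⁻¹ * J4.t * (J4.y * J4.x * J4.y * ((J4.x * (J4.y⁻¹)) ^ 2) *
    ((J4.x * J4.y) ^ 3))) rfl
  simp only [map_mul, map_inv, map_pow, mk_t, mk_x, mk_y] at h
  have e : evalW (eltL [jg .x, jg .y]) wWord = jg .y * jg .x * jg .y * (jg .x * (jg .y)⁻¹) ^ 2 *
      (jg .x * jg .y) ^ 3 := by
    simp [evalW, eltL, wWord, pow_succ, mul_assoc]
  rw [e]
  generalize jg .y * jg .x * jg .y * (jg .x * (jg .y)⁻¹) ^ 2 * (jg .x * jg .y) ^ 3 = m at h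
  calc jg .t * m = m * jg .t * ((jg .t)⁻¹ * m⁻¹ * jg .t * m) := by group
    _ = m * jg .t := by rw [h, mul_one]

theorem x_inv : (jg .x)⁻¹ = jg .x := by
  have h := extra_one 0 (r := J4.x ^ 2) rfl
  refine inv_eq_of_mul_eq_one_right ?_
  simpa [mk_x, pow_two] using h

theorem conj_pow_one {M : Type*} [Group M] (g m : M) (n : ℕ) (h : m ^ n = 1) :
    (g * m * g⁻¹) ^ n = 1 := by rw [conj_pow, h, mul_one, mul_inv_cancel]

theorem j4_relOne : (wv (jg .x) (jg .y) relA * jg .t) ^ 3 = 1 := by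
  have h := extra_one 10 (r := (J4.y * ((J4.y * J4.x * (J4.y⁻¹) * J4.x * J4.y * J4.x * (J4.y⁻¹) *
    J4.x)⁻¹ * J4.t * (J4.y * J4.x * (J4.y⁻¹) * J4.x * J4.y * J4.x * (J4.y⁻¹) * J4.x))) ^ 3) rfl
  simp only [map_mul, map_inv, map_pow, mk_t, mk_x, mk_y] at h
  rw [wv_low _ _ (by decide)]
  set u := jg .y * jg .x * (jg .y)⁻¹ * jg .x * jg .y * jg .x * (jg .y)⁻¹ * jg .x with hu
  have e : evalW (eltL [jg .x, jg .y]) relA = u * jg .y * u⁻¹ := by
    rw [hu]; simp [evalW, eltL, relA, mul_assoc, x_inv]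
  rw [e, show u * jg .y * u⁻¹ * jg .t = u * (jg .y * (u⁻¹ * jg .t * u)) * u⁻¹ by group]
  exact conj_pow_one _ _ _ h

theorem j4_relTwo :
    (wv (jg .x) (jg .y) relB * jg .t * wv (jg .x) (jg .y) relC * jg .t) ^ 2 = 1 := by
  have h := extra_one 11 (r := (((J4.y * J4.x * J4.y * J4.x * J4.y * J4.x * J4.y) ^ 3) * J4.t *
    ((((J4.x * J4.y) ^ 3) * J4.y * ((J4.x * J4.y) ^ 6) * J4.y)⁻¹ * J4.t *
      (((J4.x * J4.y) ^ 3) * J4.y * ((J4.x * J4.y) ^ 6) * J4.y))) ^ 2) rfl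
  simp only [map_mul, map_inv, map_pow, mk_t, mk_x, mk_y] at h
  rw [wv_low _ _ (by decide), wv_low _ _ (by decide)]
  set A := (jg .y * jg .x * jg .y * jg .x * jg .y * jg .x * jg .y) ^ 3 with hA
  set u := (jg .x * jg .y) ^ 3 * jg .y * (jg .x * jg .y) ^ 6 * jg .y with hu
  have eB : evalW (eltL [jg .x, jg .y]) relB = u⁻¹ := by
    rw [hu]; simp [evalW, eltL, relB, pow_succ, mul_assoc, x_inv]
  have eC : evalW (eltL [jg .x, jg .y]) relC = u * A := by
    rw [hu, hA]; simp [evalW, eltL, relC, pow_succ, mul_assoc]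
  rw [eB, eC, show u⁻¹ * jg .t * (u * A) * jg .t =
    (A * jg .t)⁻¹ * (A * jg .t * (u⁻¹ * jg .t * u)) * ((A * jg .t)⁻¹)⁻¹ by group]
  exact conj_pow_one _ _ _ h

theorem relFix_mem :
    (wv (jg .x) (jg .y) relV * jg .t * wv (jg .x) (jg .y) relU) ^ 3 ∈ kp := by
  refine ⟨_, Subgroup.subset_closure (Or.inr (Or.inr rfl)), ?_⟩
  rw [wv_low _ _ (by decide), wv_low _ _ (by decide)]
  simp only [map_mul, map_inv, map_pow, mk_t, mk_x, mk_y]
  congr 1
  simp [evalW, eltL, relU, relV, pow_succ, mul_assoc, x_inv]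

/-- The action of the presented group on the cosets. -/
def j4Ctx : Ctx Cfsg.Spor.J4 (Cfsg.Spor.J4 ⧸ kp) where
  a := jg .x
  b := jg .y
  t := jg .t
  p0 := ((1 : Cfsg.Spor.J4) : Cfsg.Spor.J4 ⧸ kp)
  rels := xy_rels
  t_sq := j4_t_sq
  t_x := j4_t_x
  t_w := j4_t_w
  fix_a := by
    rw [MulAction.Quotient.smul_coe, QuotientGroup.eq, smul_eq_mul, mul_one, mul_one]
    exact inv_mem ⟨J4.x, Subgroup.subset_closure (Or.inl rfl), rfl⟩
  fix_b := by
    rw [MulAction.Quotient.smul_coe, QuotientGroup.eq, smul_eq_mul, mul_one, mul_one]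
    exact inv_mem ⟨J4.y, Subgroup.subset_closure (Or.inr (Or.inl rfl)), rfl⟩
  relOne := j4_relOne
  relTwo := j4_relTwo
  relFix := by
    rw [MulAction.Quotient.smul_coe, QuotientGroup.eq, smul_eq_mul, mul_one, mul_one]
    exact inv_mem relFix_mem

theorem j4_gen :
    Subgroup.closure {j4Ctx.a, j4Ctx.b, j4Ctx.t} = (⊤ : Subgroup Cfsg.Spor.J4) := by
  rw [eq_top_iff, ← PresentedGroup.closure_range_of (coxRelators J4.edges ∪ {r | r ∈ J4.extra})]
  refine Subgroup.closure_mono ?_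
  rintro _ ⟨i, rfl⟩
  cases i
  · exact Or.inl rfl
  · exact Or.inr (Or.inl rfl)
  · exact Or.inr (Or.inr rfl)

theorem cosets_finite : Finite (Cfsg.Spor.J4 ⧸ kp) := (card_le j4Ctx j4_gen).1

theorem index_le : kp.index ≤ 173067389 := (card_le j4Ctx j4_gen).2

theorem index_ne_zero : kp.index ≠ 0 := by
  haveI := cosets_finite
  rw [Subgroup.index]
  exact Nat.card_pos.ne'

end CfsgLib.J4Index
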