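import Cfsg.Agent.Lib.J4Index.Trios

/-!
# Checks of the table (generated)
-/

set_option autoImplicit false
set_option maxRecDepth 100000

namespace CfsgLib.J4Index

theorem rows_0 : rowsOk 0 64 = true := by decide +kernel

theorem rows_1 : rowsOk 64 64 = true := by decide +kernel

theorem rows_2 : rowsOk 128 64 = true := by decide +kernel

theorem rows_3 : rowsOk 192 64 = true := by decide +kernel

theorem rows_4 : rowsOk 256 64 = true := by decide +kernel

theorem rows_5 : rowsOk 320 64 = true := by decide +kernel

theorem rows_6 : rowsOk 384 64 = true := by decide +kernel

theorem rows_7 : rowsOk 448 64 = true := by decide +kernel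

theorem rows_8 : rowsOk 512 64 = true := by decide +kernel

theorem rows_9 : rowsOk 576 64 = true := by decide +kernel

theorem rows_10 : rowsOk 640 64 = true := by decide +kernel

theorem rows_11 : rowsOk 704 64 = true := by decide +kernel

theorem rows_12 : rowsOk 768 64 = true := by decide +kernel

theorem rows_13 : rowsOk 832 64 = true := by decide +kernel

theorem rows_14 : rowsOk 896 64 = true := by decide +kernel

end CfsgLib.J4Index
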