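import Cfsg.Agent.Lib.J4Index.Trios

/-!
# Checks of the table (generated)
-/

set_option autoImplicit false
set_option maxRecDepth 100000

namespace CfsgLib.J4Index

theorem rows_15 : rowsOk 960 64 = true := by decide +kernel

theorem rows_16 : rowsOk 1024 64 = true := by decide +kernel

theorem rows_17 : rowsOk 1088 64 = true := by decide +kernel

theorem rows_18 : rowsOk 1152 64 = true := by decide +kernel

theorem rows_19 : rowsOk 1216 64 = true := by decide +kernel

theorem rows_20 : rowsOk 1280 64 = true := by decide +kernel

theorem rows_21 : rowsOk 1344 64 = true := by decide +kernel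

theorem rows_22 : rowsOk 1408 64 = true := by decide +kernel

theorem rows_23 : rowsOk 1472 64 = true := by decide +kernel

theorem rows_24 : rowsOk 1536 64 = true := by decide +kernel

theorem rows_25 : rowsOk 1600 64 = true := by decide +kernel

theorem rows_26 : rowsOk 1664 64 = true := by decide +kernel

theorem rows_27 : rowsOk 1728 64 = true := by decide +kernel

theorem rows_28 : rowsOk 1792 64 = true := by decide +kernel

theorem rows_29 : rowsOk 1856 64 = true := by decide +kernel

end CfsgLib.J4Index
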