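import Cfsg.Agent.Lib.J4Index.Trios

/-!
# Checks of the table (generated)
-/

set_option autoImplicit false
set_option maxRecDepth 100000

namespace CfsgLib.J4Index

theorem rows_30 : rowsOk 1920 64 = true := by decide +kernel

theorem rows_31 : rowsOk 1984 64 = true := by decide +kernel

theorem rows_32 : rowsOk 2048 64 = true := by decide +kernel

theorem rows_33 : rowsOk 2112 64 = true := by decide +kernel

theorem rows_34 : rowsOk 2176 64 = true := by decide +kernel

theorem rows_35 : rowsOk 2240 64 = true := by decide +kernel

theorem rows_36 : rowsOk 2304 64 = true := by decide +kernel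

theorem rows_37 : rowsOk 2368 64 = true := by decide +kernel

theorem rows_38 : rowsOk 2432 64 = true := by decide +kernel

theorem rows_39 : rowsOk 2496 64 = true := by decide +kernel

theorem rows_40 : rowsOk 2560 64 = true := by decide +kernel

theorem rows_41 : rowsOk 2624 64 = true := by decide +kernel

theorem rows_42 : rowsOk 2688 64 = true := by decide +kernel

theorem rows_43 : rowsOk 2752 64 = true := by decide +kernel

theorem rows_44 : rowsOk 2816 64 = true := by decide +kernel

end CfsgLib.J4Index
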