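import Cfsg.Agent.Lib.J4Index.Live

/-!
# Orbit and directions of vertex 15 (generated)
-/

set_option autoImplicit false
set_option maxRecDepth 100000
set_option linter.style.longLine false

namespace CfsgLib.J4Index

variable {G X : Type} [Group G] [MulAction G X] (C : Ctx G X)

/-- A chain in the stabiliser of vertex 15. -/
def chain15 : List (ℕ × List (List ℕ)) := [
  (0, [[], [20, 46, 63, 77, 100, 109, 114], [24, 41, 66, 78, 108, 114], [25, 47, 66, 86, 107, 124]]),
  (1, [[], [31, 53, 71, 96, 116], [33, 51, 93, 109, 123], [34, 69, 79, 92, 114]]),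
  (2, [[]]),
  (3, [[]]),
  (4, [[]]),
  (12, [[]]),
  (5, [[]])]

theorem chain15_ok : (chainOk [] chain15 && Nat.beq (chainSize chain15) 16) = true := by decide +kernel

theorem chain15_mem : ∀ L ∈ chain15, ∀ w ∈ L.2, C.S (v15 C) w := by
  simp only [chain15, List.forall_mem_cons, List.not_mem_nil, IsEmpty.forall_iff, implies_true, and_true]
  exact ⟨⟨f18380 C, f2565 C, f2569 C, f18381 C⟩,
    ⟨f18380 C, f18382 C, f2581 C, f18384 C⟩,
    f18380 C,
    f18380 C,
    f18380 C,
    f18380 C,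
    f18380 C⟩

theorem orbit15 : (orbSet C (v15 C)).Finite ∧ (orbSet C (v15 C)).ncard ≤ 15301440 := by
  obtain ⟨h1, h2⟩ := Bool.and_eq_true_iff.1 chain15_ok
  obtain ⟨hf, hc⟩ := orb_bound C h1 (chain15_mem C)
  rw [Nat.eq_of_beq_eq_true h2] at hc
  exact ⟨hf, by omega⟩

theorem s15_0 : Good C (vlist C) (v15 C) 0 :=
  good_seed C (f2570 C) 0 [] (v5_mem C) (by decide +kernel) (by decide +kernel)

theorem s15_1 : Good C (vlist C) (v15 C) 1 :=
  good_seed C (f16321 C) 1 [132, 154, 170, 175, 178] (v19_mem C) (by decide +kernel) (by decide +kernel)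

theorem s15_2 : Good C (vlist C) (v15 C) 2505 :=
  good_seed C (f14521 C) 2505 [140, 161, 168, 175] (v18_mem C) (by decide +kernel) (by decide +kernel)

theorem s15_3 : Good C (vlist C) (v15 C) 419 :=
  good_seed C (f4176 C) 419 [144, 152, 174, 177] (v17_mem C) (by decide +kernel) (by decide +kernel)

theorem s15_4 : Good C (vlist C) (v15 C) 2245 :=
  good_seed C (f5570 C) 2245 [137, 162, 166, 177] (v17_mem C) (by decide +kernel) (by decide +kernel)

theorem s15_5 : Good C (vlist C) (v15 C) 2908 :=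
  good_seed C (f6336 C) 2908 [126, 156, 169, 172] (v17_mem C) (by decide +kernel) (by decide +kernel)

theorem s15_6 : Good C (vlist C) (v15 C) 1548 :=
  good_seed C (f8453 C) 1548 [127, 160, 170, 172] (v18_mem C) (by decide +kernel) (by decide +kernel)

theorem s15_7 : Good C (vlist C) (v15 C) 816 :=
  good_seed C (f2866 C) 816 [145, 149, 167, 174, 178] (v15_mem C) (by decide +kernel) (by decide +kernel)

theorem s15_8 : Good C (vlist C) (v15 C) 9 :=
  good_seed C (f3260 C) 9 [150, 167, 176, 177] (v15_mem C) (by decide +kernel) (by decide +kernel)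

theorem s15_9 : Good C (vlist C) (v15 C) 2985 :=
  good_seed C (f2976 C) 2985 [142, 149, 173, 177] (v9_mem C) (by decide +kernel) (by decide +kernel)

theorem s15_10 : Good C (vlist C) (v15 C) 3705 :=
  good_seed C (f10106 C) 3705 [144, 154, 165] (v18_mem C) (by decide +kernel) (by decide +kernel)

theorem s15_11 : Good C (vlist C) (v15 C) 3401 :=
  good_seed C (f2643 C) 3401 [130, 152, 173, 178] (v4_mem C) (by decide +kernel) (by decide +kernel)

theorem s15_12 : Good C (vlist C) (v15 C) 2868 :=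
  good_seed C (f6802 C) 2868 [155, 165] (v17_mem C) (by decide +kernel) (by decide +kernel)

theorem s15_13 : Good C (vlist C) (v15 C) 2123 :=
  good_seed C (f8264 C) 2123 [148, 161, 168, 174, 177] (v18_mem C) (by decide +kernel) (by decide +kernel)

theorem s15_14 : Good C (vlist C) (v15 C) 3334 :=
  good_seed C (f4021 C) 3334 [136, 159, 164, 174] (v16_mem C) (by decide +kernel) (by decide +kernel)

theorem s15_15 : Good C (vlist C) (v15 C) 2365 :=
  good_seed C (f5141 C) 2365 [128, 162, 175, 178] (v17_mem C) (by decide +kernel) (by decide +kernel)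

theorem s15_16 : Good C (vlist C) (v15 C) 2089 :=
  good_seed C (f12464 C) 2089 [140, 160, 164, 175, 178] (v18_mem C) (by decide +kernel) (by decide +kernel)

theorem s15_17 : Good C (vlist C) (v15 C) 995 :=
  good_seed C (f3194 C) 995 [144, 163, 167, 178] (v15_mem C) (by decide +kernel) (by decide +kernel)

theorem s15_18 : Good C (vlist C) (v15 C) 1389 :=
  good_seed C (f3186 C) 1389 [130, 160, 169, 171, 178] (v9_mem C) (by decide +kernel) (by decide +kernel)

theorem s15_19 : Good C (vlist C) (v15 C) 3431 :=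
  good_seed C (f3175 C) 3431 [141, 152, 170, 178] (v10_mem C) (by decide +kernel) (by decide +kernel)

theorem s15_20 : Good C (vlist C) (v15 C) 3109 :=
  good_seed C (f2574 C) 3109 [129, 159, 164, 176, 178] (v4_mem C) (by decide +kernel) (by decide +kernel)

theorem s15_21 : Good C (vlist C) (v15 C) 24 :=
  good_seed C (f5222 C) 24 [141, 158, 165, 176] (v17_mem C) (by decide +kernel) (by decide +kernel)

theorem s15_22 : Good C (vlist C) (v15 C) 3129 :=
  good_seed C (f10548 C) 3129 [134, 153, 164, 172, 178] (v18_mem C) (by decide +kernel) (by decide +kernel)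

theorem s15_23 : Good C (vlist C) (v15 C) 926 :=
  good_seed C (f2614 C) 926 [139, 162, 167, 176, 177] (v4_mem C) (by decide +kernel) (by decide +kernel)

theorem s15_24 : Good C (vlist C) (v15 C) 1291 :=
  good_seed C (f8748 C) 1291 [143, 160, 165, 173] (v18_mem C) (by decide +kernel) (by decide +kernel)

theorem s15_25 : Good C (vlist C) (v15 C) 1356 :=
  good_seed C (f13579 C) 1356 [143, 162, 170, 171] (v18_mem C) (by decide +kernel) (by decide +kernel)

theorem s15_26 : Good C (vlist C) (v15 C) 354 :=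
  good_seed C (f7557 C) 354 [145, 149, 169, 173] (v18_mem C) (by decide +kernel) (by decide +kernel)

theorem s15_27 : Good C (vlist C) (v15 C) 1227 :=
  good_seed C (f5577 C) 1227 [136, 160, 170] (v17_mem C) (by decide +kernel) (by decide +kernel)

theorem s15_28 : Good C (vlist C) (v15 C) 318 :=
  good_seed C (f12295 C) 318 [148, 149, 168, 173, 178] (v18_mem C) (by decide +kernel) (by decide +kernel)

theorem s15_29 : Good C (vlist C) (v15 C) 171 :=
  good_seed C (f11233 C) 171 [128, 159, 167, 175] (v18_mem C) (by decide +kernel) (by decide +kernel)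

theorem s15_30 : Good C (vlist C) (v15 C) 1056 :=
  good_seed C (f11456 C) 1056 [148, 151, 169, 175, 177] (v18_mem C) (by decide +kernel) (by decide +kernel)

theorem s15_31 : Good C (vlist C) (v15 C) 2250 :=
  good_seed C (f3124 C) 2250 [141, 152, 170, 174] (v5_mem C) (by decide +kernel) (by decide +kernel)

theorem s15_32 : Good C (vlist C) (v15 C) 3008 :=
  good_seed C (f4700 C) 3008 [127, 156, 166, 173] (v17_mem C) (by decide +kernel) (by decide +kernel)

theorem s15_33 : Good C (vlist C) (v15 C) 1571 :=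
  good_seed C (f3368 C) 1571 [141, 156, 176] (v15_mem C) (by decide +kernel) (by decide +kernel)

theorem s15_34 : Good C (vlist C) (v15 C) 1178 :=
  good_seed C (f5616 C) 1178 [127, 158, 167, 171, 178] (v17_mem C) (by decide +kernel) (by decide +kernel)

theorem s15_35 : Good C (vlist C) (v15 C) 2654 :=
  good_seed C (f2989 C) 2654 [136, 155, 168, 174] (v15_mem C) (by decide +kernel) (by decide +kernel)

theorem s15_36 : Good C (vlist C) (v15 C) 1438 :=
  good_seed C (f8760 C) 1438 [143, 161, 166, 171, 177] (v18_mem C) (by decide +kernel) (by decide +kernel)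

theorem s15_37 : Good C (vlist C) (v15 C) 1461 :=
  good_seed C (f11253 C) 1461 [159, 164, 175, 177] (v18_mem C) (by decide +kernel) (by decide +kernel)

theorem s15_38 : Good C (vlist C) (v15 C) 1503 :=
  good_seed C (f16767 C) 1503 [137, 156, 164] (v19_mem C) (by decide +kernel) (by decide +kernel)

theorem s15_39 : Good C (vlist C) (v15 C) 2436 :=
  good_seed C (f7763 C) 2436 [130, 151, 173] (v18_mem C) (by decide +kernel) (by decide +kernel)

theorem s15_40 : Good C (vlist C) (v15 C) 2892 :=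
  good_seed C (f6207 C) 2892 [138, 157, 173] (v17_mem C) (by decide +kernel) (by decide +kernel)

theorem s15_41 : Good C (vlist C) (v15 C) 2226 :=
  good_seed C (f10976 C) 2226 [132, 150, 166, 177] (v18_mem C) (by decide +kernel) (by decide +kernel)

theorem s15_42 : Good C (vlist C) (v15 C) 1545 :=
  good_seed C (f2700 C) 1545 [142, 157, 170, 175, 177] (v5_mem C) (by decide +kernel) (by decide +kernel)

theorem s15_43 : Good C (vlist C) (v15 C) 3060 :=
  good_seed C (f10369 C) 3060 [141, 158, 165] (v18_mem C) (by decide +kernel) (by decide +kernel)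

theorem s15_44 : Good C (vlist C) (v15 C) 558 :=
  good_seed C (f9088 C) 558 [148, 155, 165, 176] (v18_mem C) (by decide +kernel) (by decide +kernel)

theorem s15_45 : Good C (vlist C) (v15 C) 413 :=
  good_seed C (f12331 C) 413 [140, 152, 174, 177] (v18_mem C) (by decide +kernel) (by decide +kernel)

theorem s15_46 : Good C (vlist C) (v15 C) 53 :=
  good_seed C (f7527 C) 53 [130, 149, 168, 173] (v18_mem C) (by decide +kernel) (by decide +kernel)

theorem s15_47 : Good C (vlist C) (v15 C) 2432 :=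
  good_seed C (f12643 C) 2432 [137, 157, 174] (v18_mem C) (by decide +kernel) (by decide +kernel)

theorem s15_48 : Good C (vlist C) (v15 C) 3140 :=
  good_seed C (f4150 C) 3140 [137, 161, 166, 175, 177] (v17_mem C) (by decide +kernel) (by decide +kernel)

theorem s15_49 : Good C (vlist C) (v15 C) 1912 :=
  good_seed C (f2950 C) 1912 [144, 153, 164, 176, 178] (v4_mem C) (by decide +kernel) (by decide +kernel)

theorem s15_50 : Good C (vlist C) (v15 C) 3416 :=
  good_seed C (f12910 C) 3416 [147, 152, 175] (v18_mem C) (by decide +kernel) (by decide +kernel)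

theorem s15_51 : Good C (vlist C) (v15 C) 3464 :=
  good_seed C (f13560 C) 3464 [126, 161, 166, 175, 178] (v18_mem C) (by decide +kernel) (by decide +kernel)

theorem s15_52 : Good C (vlist C) (v15 C) 2303 :=
  good_seed C (f4857 C) 2303 [144, 154, 169, 176, 177] (v17_mem C) (by decide +kernel) (by decide +kernel)

theorem s15_53 : Good C (vlist C) (v15 C) 2154 :=
  good_seed C (f9503 C) 2154 [148, 160, 166, 175] (v18_mem C) (by decide +kernel) (by decide +kernel)

theorem s15_54 : Good C (vlist C) (v15 C) 2121 :=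
  good_seed C (f10495 C) 2121 [132, 152, 166, 173] (v18_mem C) (by decide +kernel) (by decide +kernel)

theorem s15_55 : Good C (vlist C) (v15 C) 109 :=
  good_seed C (f4064 C) 109 [126, 160, 167, 171] (v16_mem C) (by decide +kernel) (by decide +kernel)

theorem s15_56 : Good C (vlist C) (v15 C) 2083 :=
  good_seed C (f10398 C) 2083 [140, 153, 164, 172] (v18_mem C) (by decide +kernel) (by decide +kernel)

theorem s15_57 : Good C (vlist C) (v15 C) 3324 :=
  good_seed C (f5540 C) 3324 [146, 154, 168, 174, 178] (v17_mem C) (by decide +kernel) (by decide +kernel)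

theorem s15_58 : Good C (vlist C) (v15 C) 1107 :=
  good_seed C (f15214 C) 1107 [126, 165, 176, 177] (v18_mem C) (by decide +kernel) (by decide +kernel)

theorem s15_59 : Good C (vlist C) (v15 C) 2832 :=
  good_seed C (f10360 C) 2832 [142, 156, 164, 174, 177] (v18_mem C) (by decide +kernel) (by decide +kernel)

theorem s15_60 : Good C (vlist C) (v15 C) 1237 :=
  good_seed C (f2775 C) 1237 [146, 159, 170, 174, 178] (v5_mem C) (by decide +kernel) (by decide +kernel)

theorem s15_61 : Good C (vlist C) (v15 C) 532 :=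
  good_seed C (f11352 C) 532 [148, 160, 164, 173] (v18_mem C) (by decide +kernel) (by decide +kernel)

theorem s15_62 : Good C (vlist C) (v15 C) 1759 :=
  good_seed C (f4214 C) 1759 [128, 149, 168, 172, 178] (v17_mem C) (by decide +kernel) (by decide +kernel)

theorem s15_63 : Good C (vlist C) (v15 C) 2877 :=
  good_seed C (f3927 C) 2877 [162, 165, 175, 177] (v16_mem C) (by decide +kernel) (by decide +kernel)

theorem s15_64 : Good C (vlist C) (v15 C) 1935 :=
  good_seed C (f7734 C) 1935 [130, 163, 177] (v18_mem C) (by decide +kernel) (by decide +kernel)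

theorem s15_65 : Good C (vlist C) (v15 C) 183 :=
  good_seed C (f3077 C) 183 [144, 150] (v10_mem C) (by decide +kernel) (by decide +kernel)

theorem s15_66 : Good C (vlist C) (v15 C) 3016 :=
  good_seed C (f8787 C) 3016 [135, 156, 167, 174] (v18_mem C) (by decide +kernel) (by decide +kernel)

theorem s15_67 : Good C (vlist C) (v15 C) 1287 :=
  good_seed C (f3214 C) 1287 [156, 168, 176] (v15_mem C) (by decide +kernel) (by decide +kernel)

theorem s15_68 : Good C (vlist C) (v15 C) 1343 :=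
  good_seed C (f13140 C) 1343 [132, 154, 166, 171, 178] (v18_mem C) (by decide +kernel) (by decide +kernel)

theorem s15_69 : Good C (vlist C) (v15 C) 106 :=
  good_seed C (f10481 C) 106 [134, 155, 166, 174, 177] (v18_mem C) (by decide +kernel) (by decide +kernel)

theorem s15_70 : Good C (vlist C) (v15 C) 1375 :=
  good_seed C (f5636 C) 1375 [132, 150, 167, 173, 177] (v17_mem C) (by decide +kernel) (by decide +kernel)

theorem s15_71 : Good C (vlist C) (v15 C) 2469 :=
  good_seed C (f2801 C) 2469 [146, 152, 165, 177] (v15_mem C) (by decide +kernel) (by decide +kernel)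

theorem s15_72 : Good C (vlist C) (v15 C) 416 :=
  good_seed C (f6007 C) 416 [144, 160, 164, 173] (v17_mem C) (by decide +kernel) (by decide +kernel)

theorem s15_73 : Good C (vlist C) (v15 C) 1842 :=
  good_seed C (f11309 C) 1842 [135, 158, 164, 174, 178] (v18_mem C) (by decide +kernel) (by decide +kernel)

theorem s15_74 : Good C (vlist C) (v15 C) 1108 :=
  good_seed C (f11176 C) 1108 [141, 150, 164, 176] (v18_mem C) (by decide +kernel) (by decide +kernel)

theorem s15_75 : Good C (vlist C) (v15 C) 371 :=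
  good_seed C (f3008 C) 371 [134, 154, 164, 177] (v10_mem C) (by decide +kernel) (by decide +kernel)

theorem s15_76 : Good C (vlist C) (v15 C) 3782 :=
  good_seed C (f16053 C) 3782 [139, 154, 164, 174, 178] (v19_mem C) (by decide +kernel) (by decide +kernel)

theorem s15_77 : Good C (vlist C) (v15 C) 3762 :=
  good_seed C (f8155 C) 3762 [145, 156, 167, 172, 178] (v18_mem C) (by decide +kernel) (by decide +kernel)

theorem s15_78 : Good C (vlist C) (v15 C) 96 :=
  good_seed C (f7082 C) 96 [140, 160, 165, 171] (v18_mem C) (by decide +kernel) (by decide +kernel)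

theorem s15_79 : Good C (vlist C) (v15 C) 3089 :=
  good_seed C (f7944 C) 3089 [131, 151, 164, 172, 178] (v18_mem C) (by decide +kernel) (by decide +kernel)

theorem s15_80 : Good C (vlist C) (v15 C) 757 :=
  good_seed C (f3340 C) 757 [127, 151, 170, 173, 178] (v15_mem C) (by decide +kernel) (by decide +kernel)

theorem s15_81 : Good C (vlist C) (v15 C) 2021 :=
  good_seed C (f2929 C) 2021 [144, 164, 175] (v9_mem C) (by decide +kernel) (by decide +kernel)

theorem s15_82 : Good C (vlist C) (v15 C) 1153 :=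
  good_seed C (f9030 C) 1153 [134, 152, 168, 171, 178] (v18_mem C) (by decide +kernel) (by decide +kernel)

theorem s15_83 : Good C (vlist C) (v15 C) 1675 :=
  good_seed C (f6225 C) 1675 [147, 161, 167, 175] (v17_mem C) (by decide +kernel) (by decide +kernel)

theorem s15_84 : Good C (vlist C) (v15 C) 319 :=
  good_seed C (f13177 C) 319 [146, 160, 165, 171] (v18_mem C) (by decide +kernel) (by decide +kernel)

theorem s15_85 : Good C (vlist C) (v15 C) 623 :=
  good_seed C (f3581 C) 623 [141, 163, 165, 171] (v16_mem C) (by decide +kernel) (by decide +kernel)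

theorem s15_86 : Good C (vlist C) (v15 C) 2810 :=
  good_seed C (f12822 C) 2810 [143, 159, 168, 176, 178] (v18_mem C) (by decide +kernel) (by decide +kernel)

theorem s15_87 : Good C (vlist C) (v15 C) 256 :=
  good_seed C (f11827 C) 256 [147, 164, 172, 177] (v18_mem C) (by decide +kernel) (by decide +kernel)

theorem s15_88 : Good C (vlist C) (v15 C) 176 :=
  good_seed C (f5553 C) 176 [138, 150, 165, 174, 178] (v17_mem C) (by decide +kernel) (by decide +kernel)

theorem s15_89 : Good C (vlist C) (v15 C) 2643 :=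
  good_seed C (f11906 C) 2643 [126, 151, 167, 172, 177] (v18_mem C) (by decide +kernel) (by decide +kernel)

theorem s15_90 : Good C (vlist C) (v15 C) 1449 :=
  good_seed C (f2851 C) 1449 [132, 153, 166, 176, 178] (v15_mem C) (by decide +kernel) (by decide +kernel)

theorem s15_91 : Good C (vlist C) (v15 C) 1639 :=
  good_seed C (f9213 C) 1639 [144, 166, 174, 178] (v18_mem C) (by decide +kernel) (by decide +kernel)

theorem s15_92 : Good C (vlist C) (v15 C) 116 :=
  good_seed C (f11746 C) 116 [136, 153, 168, 173] (v18_mem C) (by decide +kernel) (by decide +kernel)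

theorem s15_93 : Good C (vlist C) (v15 C) 1335 :=
  good_seed C (f13182 C) 1335 [138, 158, 165, 178] (v18_mem C) (by decide +kernel) (by decide +kernel)

theorem s15_94 : Good C (vlist C) (v15 C) 2202 :=
  good_seed C (f11472 C) 2202 [131, 155, 169, 176, 177] (v18_mem C) (by decide +kernel) (by decide +kernel)

theorem s15_95 : Good C (vlist C) (v15 C) 1986 :=
  good_seed C (f7060 C) 1986 [147, 161, 165, 176, 178] (v18_mem C) (by decide +kernel) (by decide +kernel)

theorem s15_96 : Good C (vlist C) (v15 C) 3484 :=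
  good_seed C (f3143 C) 3484 [143, 158, 173] (v15_mem C) (by decide +kernel) (by decide +kernel)

theorem s15_97 : Good C (vlist C) (v15 C) 1753 :=
  good_seed C (f15497 C) 1753 [136, 158, 168, 175, 178] (v18_mem C) (by decide +kernel) (by decide +kernel)

theorem s15_98 : Good C (vlist C) (v15 C) 126 :=
  good_seed C (f4452 C) 126 [143, 156, 172, 178] (v17_mem C) (by decide +kernel) (by decide +kernel)

theorem s15_99 : Good C (vlist C) (v15 C) 2543 :=
  good_seed C (f8772 C) 2543 [137, 152, 168, 171, 178] (v18_mem C) (by decide +kernel) (by decide +kernel)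

theorem s15_100 : Good C (vlist C) (v15 C) 803 :=
  good_seed C (f13429 C) 803 [136, 155, 168, 177] (v18_mem C) (by decide +kernel) (by decide +kernel)

theorem s15_101 : Good C (vlist C) (v15 C) 3405 :=
  good_seed C (f5627 C) 3405 [130, 161, 166, 173, 177] (v17_mem C) (by decide +kernel) (by decide +kernel)

theorem s15_102 : Good C (vlist C) (v15 C) 3703 :=
  good_seed C (f4511 C) 3703 [127, 157, 166, 175, 178] (v17_mem C) (by decide +kernel) (by decide +kernel)

theorem s15_103 : Good C (vlist C) (v15 C) 3162 :=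
  good_seed C (f16954 C) 3162 [166, 176, 178] (v19_mem C) (by decide +kernel) (by decide +kernel)

theorem s15_104 : Good C (vlist C) (v15 C) 2065 :=
  good_seed C (f4852 C) 2065 [129, 152, 169, 173, 177] (v17_mem C) (by decide +kernel) (by decide +kernel)

theorem s15_105 : Good C (vlist C) (v15 C) 589 :=
  good_seed C (f13570 C) 589 [132, 154, 164, 174, 177] (v18_mem C) (by decide +kernel) (by decide +kernel)

theorem s15_106 : Good C (vlist C) (v15 C) 3313 :=
  good_seed C (f12362 C) 3313 [156, 164, 176, 178] (v18_mem C) (by decide +kernel) (by decide +kernel)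

theorem s15_107 : Good C (vlist C) (v15 C) 543 :=
  good_seed C (f10996 C) 543 [139, 158, 169, 172] (v18_mem C) (by decide +kernel) (by decide +kernel)

theorem s15_108 : Good C (vlist C) (v15 C) 2094 :=
  good_seed C (f8738 C) 2094 [139, 162, 164, 171, 177] (v18_mem C) (by decide +kernel) (by decide +kernel)

theorem s15_109 : Good C (vlist C) (v15 C) 2171 :=
  good_seed C (f8567 C) 2171 [148, 151, 164, 172, 177] (v18_mem C) (by decide +kernel) (by decide +kernel)

theorem s15_110 : Good C (vlist C) (v15 C) 2879 :=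
  good_seed C (f8643 C) 2879 [143, 162, 167, 171, 177] (v18_mem C) (by decide +kernel) (by decide +kernel)

theorem s15_111 : Good C (vlist C) (v15 C) 1778 :=
  good_seed C (f2994 C) 1778 [128, 160, 167, 177] (v15_mem C) (by decide +kernel) (by decide +kernel)

theorem s15_112 : Good C (vlist C) (v15 C) 1841 :=
  good_seed C (f5241 C) 1841 [132, 156, 166, 175] (v17_mem C) (by decide +kernel) (by decide +kernel)

theorem s15_113 : Good C (vlist C) (v15 C) 866 :=
  good_seed C (f15032 C) 866 [138, 151, 164, 174, 177] (v18_mem C) (by decide +kernel) (by decide +kernel)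

theorem s15_114 : Good C (vlist C) (v15 C) 1543 :=
  good_seed C (f10474 C) 1543 [141, 150, 169, 174, 177] (v18_mem C) (by decide +kernel) (by decide +kernel)

theorem s15_115 : Good C (vlist C) (v15 C) 3557 :=
  good_seed C (f5561 C) 3557 [133, 161, 175, 177] (v17_mem C) (by decide +kernel) (by decide +kernel)

theorem s15_116 : Good C (vlist C) (v15 C) 156 :=
  good_seed C (f9069 C) 156 [138, 161, 167, 172] (v18_mem C) (by decide +kernel) (by decide +kernel)

theorem s15_117 : Good C (vlist C) (v15 C) 339 :=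
  good_seed C (f3167 C) 339 [147, 165, 171] (v3_mem C) (by decide +kernel) (by decide +kernel)

theorem s15_118 : Good C (vlist C) (v15 C) 159 :=
  good_seed C (f2816 C) 159 [130, 158, 164, 178] (v5_mem C) (by decide +kernel) (by decide +kernel)

theorem s15_119 : Good C (vlist C) (v15 C) 160 :=
  good_seed C (f3437 C) 160 [140, 157, 166, 175] (v12_mem C) (by decide +kernel) (by decide +kernel)

theorem s15_120 : Good C (vlist C) (v15 C) 2676 :=
  good_seed C (f7357 C) 2676 [147, 161, 171, 177] (v18_mem C) (by decide +kernel) (by decide +kernel)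

theorem s15_121 : Good C (vlist C) (v15 C) 3220 :=
  good_seed C (f9683 C) 3220 [127, 151, 167, 173, 177] (v18_mem C) (by decide +kernel) (by decide +kernel)

theorem s15_122 : Good C (vlist C) (v15 C) 1145 :=
  good_seed C (f12562 C) 1145 [130, 154, 167, 171] (v18_mem C) (by decide +kernel) (by decide +kernel)

theorem s15_123 : Good C (vlist C) (v15 C) 1248 :=
  good_seed C (f2686 C) 1248 [139, 163, 167, 174, 177] (v15_mem C) (by decide +kernel) (by decide +kernel)

theorem s15_124 : Good C (vlist C) (v15 C) 1734 :=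
  good_seed C (f2988 C) 1734 [130, 154, 175, 177] (v15_mem C) (by decide +kernel) (by decide +kernel)

theorem s15_125 : Good C (vlist C) (v15 C) 3314 :=
  good_seed C (f2718 C) 3314 [129, 161, 172, 177] (v4_mem C) (by decide +kernel) (by decide +kernel)

theorem s15_126 : Good C (vlist C) (v15 C) 1695 :=
  good_seed C (f10699 C) 1695 [142, 157, 167, 176, 178] (v18_mem C) (by decide +kernel) (by decide +kernel)

theorem s15_127 : Good C (vlist C) (v15 C) 3201 :=
  good_seed C (f2594 C) 3201 [146, 160, 171, 177] (v6_mem C) (by decide +kernel) (by decide +kernel)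

theorem s15_128 : Good C (vlist C) (v15 C) 3420 :=
  good_seed C (f3299 C) 3420 [131, 151, 170, 172, 178] (v15_mem C) (by decide +kernel) (by decide +kernel)

theorem s15_129 : Good C (vlist C) (v15 C) 3370 :=
  good_seed C (f13565 C) 3370 [141, 159, 174] (v18_mem C) (by decide +kernel) (by decide +kernel)

theorem s15_130 : Good C (vlist C) (v15 C) 231 :=
  good_seed C (f11797 C) 231 [128, 155, 169, 178] (v18_mem C) (by decide +kernel) (by decide +kernel)

theorem s15_131 : Good C (vlist C) (v15 C) 3036 :=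
  good_seed C (f9833 C) 3036 [132, 169, 175, 177] (v18_mem C) (by decide +kernel) (by decide +kernel)

theorem s15_132 : Good C (vlist C) (v15 C) 1512 :=
  good_seed C (f6408 C) 1512 [139, 163, 170, 176, 178] (v17_mem C) (by decide +kernel) (by decide +kernel)

theorem s15_133 : Good C (vlist C) (v15 C) 2915 :=
  good_seed C (f2627 C) 2915 [138, 158, 170, 174, 178] (v4_mem C) (by decide +kernel) (by decide +kernel)

theorem s15_134 : Good C (vlist C) (v15 C) 1515 :=
  good_seed C (f5388 C) 1515 [147, 154, 168, 173, 177] (v17_mem C) (by decide +kernel) (by decide +kernel)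

theorem s15_135 : Good C (vlist C) (v15 C) 3351 :=
  good_seed C (f8815 C) 3351 [127, 149, 167, 173, 178] (v18_mem C) (by decide +kernel) (by decide +kernel)

theorem s15_136 : Good C (vlist C) (v15 C) 3770 :=
  good_seed C (f16680 C) 3770 [139, 162, 169, 174, 178] (v19_mem C) (by decide +kernel) (by decide +kernel)

theorem s15_137 : Good C (vlist C) (v15 C) 1284 :=
  good_seed C (f6748 C) 1284 [143, 150, 166, 175] (v17_mem C) (by decide +kernel) (by decide +kernel)

theorem s15_138 : Good C (vlist C) (v15 C) 3006 :=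
  good_seed C (f14688 C) 3006 [144, 151, 164, 175, 177] (v18_mem C) (by decide +kernel) (by decide +kernel)

theorem s15_139 : Good C (vlist C) (v15 C) 1142 :=
  good_seed C (f5494 C) 1142 [132, 168, 175] (v17_mem C) (by decide +kernel) (by decide +kernel)

theorem s15_140 : Good C (vlist C) (v15 C) 702 :=
  good_seed C (f2745 C) 702 [142, 154, 169, 172] (v4_mem C) (by decide +kernel) (by decide +kernel)

theorem s15_141 : Good C (vlist C) (v15 C) 1534 :=
  good_seed C (f4162 C) 1534 [141, 163, 168, 174, 178] (v17_mem C) (by decide +kernel) (by decide +kernel)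

theorem s15_142 : Good C (vlist C) (v15 C) 3328 :=
  good_seed C (f8272 C) 3328 [147, 158, 164, 178] (v18_mem C) (by decide +kernel) (by decide +kernel)

theorem s15_143 : Good C (vlist C) (v15 C) 3493 :=
  good_seed C (f16794 C) 3493 [135, 156, 165, 174, 177] (v19_mem C) (by decide +kernel) (by decide +kernel)

theorem s15_144 : Good C (vlist C) (v15 C) 1090 :=
  good_seed C (f10391 C) 1090 [144, 157, 169, 173, 177] (v18_mem C) (by decide +kernel) (by decide +kernel)

theorem s15_145 : Good C (vlist C) (v15 C) 3418 :=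
  good_seed C (f8805 C) 3418 [156, 170] (v18_mem C) (by decide +kernel) (by decide +kernel)

theorem s15_146 : Good C (vlist C) (v15 C) 316 :=
  good_seed C (f6959 C) 316 [133, 149, 168, 171, 178] (v18_mem C) (by decide +kernel) (by decide +kernel)

theorem s15_147 : Good C (vlist C) (v15 C) 3099 :=
  good_seed C (f2735 C) 3099 [143, 160, 168, 175] (v4_mem C) (by decide +kernel) (by decide +kernel)

theorem s15_148 : Good C (vlist C) (v15 C) 3270 :=
  good_seed C (f14871 C) 3270 [136, 154, 164, 175] (v18_mem C) (by decide +kernel) (by decide +kernel)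

theorem s15_149 : Good C (vlist C) (v15 C) 2765 :=
  good_seed C (f8398 C) 2765 [134, 150, 169, 171, 178] (v18_mem C) (by decide +kernel) (by decide +kernel)

theorem s15_150 : Good C (vlist C) (v15 C) 2222 :=
  good_seed C (f4846 C) 2222 [132, 153, 167, 173, 178] (v17_mem C) (by decide +kernel) (by decide +kernel)

theorem s15_151 : Good C (vlist C) (v15 C) 3548 :=
  good_seed C (f3291 C) 3548 [136, 159, 169, 177] (v6_mem C) (by decide +kernel) (by decide +kernel)

theorem s15_152 : Good C (vlist C) (v15 C) 819 :=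
  good_seed C (f16902 C) 819 [140, 159, 168, 174, 178] (v19_mem C) (by decide +kernel) (by decide +kernel)

theorem s15_153 : Good C (vlist C) (v15 C) 3155 :=
  good_seed C (f4657 C) 3155 [142, 161, 170, 176, 178] (v17_mem C) (by decide +kernel) (by decide +kernel)

theorem s15_154 : Good C (vlist C) (v15 C) 3606 :=
  good_seed C (f5772 C) 3606 [129, 161, 165, 177] (v17_mem C) (by decide +kernel) (by decide +kernel)

theorem s15_155 : Good C (vlist C) (v15 C) 2530 :=
  good_seed C (f3245 C) 2530 [135, 163, 169, 176, 178] (v15_mem C) (by decide +kernel) (by decide +kernel)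

theorem s15_156 : Good C (vlist C) (v15 C) 1856 :=
  good_seed C (f6216 C) 1856 [136, 158, 169, 171, 177] (v17_mem C) (by decide +kernel) (by decide +kernel)

theorem s15_157 : Good C (vlist C) (v15 C) 358 :=
  good_seed C (f11291 C) 358 [148, 163, 166, 173, 177] (v18_mem C) (by decide +kernel) (by decide +kernel)

theorem s15_158 : Good C (vlist C) (v15 C) 226 :=
  good_seed C (f7130 C) 226 [135, 159, 170, 175, 178] (v18_mem C) (by decide +kernel) (by decide +kernel)

theorem s15_159 : Good C (vlist C) (v15 C) 2239 :=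
  good_seed C (f4563 C) 2239 [134, 160, 166, 171] (v17_mem C) (by decide +kernel) (by decide +kernel)

theorem s15_160 : Good C (vlist C) (v15 C) 518 :=
  good_seed C (f14635 C) 518 [141, 165, 177] (v18_mem C) (by decide +kernel) (by decide +kernel)

theorem s15_161 : Good C (vlist C) (v15 C) 3087 :=
  good_seed C (f5754 C) 3087 [127, 154, 165, 173, 178] (v17_mem C) (by decide +kernel) (by decide +kernel)

theorem s15_162 : Good C (vlist C) (v15 C) 1348 :=
  good_seed C (f11755 C) 1348 [127, 163, 167, 172, 177] (v18_mem C) (by decide +kernel) (by decide +kernel)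

theorem s15_163 : Good C (vlist C) (v15 C) 3508 :=
  good_seed C (f5083 C) 3508 [136, 149, 167, 173, 178] (v17_mem C) (by decide +kernel) (by decide +kernel)

theorem s15_164 : Good C (vlist C) (v15 C) 2646 :=
  good_seed C (f12119 C) 2646 [137, 157, 166, 178] (v18_mem C) (by decide +kernel) (by decide +kernel)

theorem s15_165 : Good C (vlist C) (v15 C) 2689 :=
  good_seed C (f4488 C) 2689 [138, 154, 168, 171, 177] (v17_mem C) (by decide +kernel) (by decide +kernel)

theorem s15_166 : Good C (vlist C) (v15 C) 2783 :=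
  good_seed C (f14601 C) 2783 [137, 152, 170, 175, 177] (v18_mem C) (by decide +kernel) (by decide +kernel)

theorem s15_167 : Good C (vlist C) (v15 C) 1016 :=
  good_seed C (f3039 C) 1016 [128, 155, 167, 174] (v9_mem C) (by decide +kernel) (by decide +kernel)

theorem s15_168 : Good C (vlist C) (v15 C) 2968 :=
  good_seed C (f3355 C) 2968 [148, 149, 165, 176, 178] (v15_mem C) (by decide +kernel) (by decide +kernel)

theorem s15_169 : Good C (vlist C) (v15 C) 2058 :=
  good_seed C (f10309 C) 2058 [129, 159, 165, 171, 177] (v18_mem C) (by decide +kernel) (by decide +kernel)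

theorem s15_170 : Good C (vlist C) (v15 C) 2355 :=
  good_seed C (f17535 C) 2355 [136, 158, 165, 174] (v20_mem C) (by decide +kernel) (by decide +kernel)

theorem s15_171 : Good C (vlist C) (v15 C) 1902 :=
  good_seed C (f7702 C) 1902 [145, 159, 168, 178] (v18_mem C) (by decide +kernel) (by decide +kernel)

theorem s15_172 : Good C (vlist C) (v15 C) 262 :=
  good_seed C (f6482 C) 262 [144, 154, 165, 176, 178] (v17_mem C) (by decide +kernel) (by decide +kernel)

theorem s15_173 : Good C (vlist C) (v15 C) 3453 :=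
  good_seed C (f4000 C) 3453 [144, 163, 166, 171, 177] (v16_mem C) (by decide +kernel) (by decide +kernel)

theorem s15_174 : Good C (vlist C) (v15 C) 570 :=
  good_seed C (f4637 C) 570 [127, 159, 167, 173, 177] (v17_mem C) (by decide +kernel) (by decide +kernel)

theorem s15_175 : Good C (vlist C) (v15 C) 2463 :=
  good_seed C (f8899 C) 2463 [141, 155, 169, 175] (v18_mem C) (by decide +kernel) (by decide +kernel)

theorem s15_176 : Good C (vlist C) (v15 C) 642 :=
  good_seed C (f11051 C) 642 [130, 149, 168, 173] (v18_mem C) (by decide +kernel) (by decide +kernel)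

theorem s15_177 : Good C (vlist C) (v15 C) 1106 :=
  good_seed C (f12426 C) 1106 [144, 160, 171, 177] (v18_mem C) (by decide +kernel) (by decide +kernel)

theorem s15_178 : Good C (vlist C) (v15 C) 2359 :=
  good_seed C (f4726 C) 2359 [136, 165, 176, 178] (v17_mem C) (by decide +kernel) (by decide +kernel)

theorem s15_179 : Good C (vlist C) (v15 C) 1406 :=
  good_seed C (f14150 C) 1406 [140, 160, 169, 175, 177] (v18_mem C) (by decide +kernel) (by decide +kernel)

theorem s15_180 : Good C (vlist C) (v15 C) 647 :=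
  good_seed C (f5516 C) 647 [130, 159, 177] (v17_mem C) (by decide +kernel) (by decide +kernel)

theorem s15_181 : Good C (vlist C) (v15 C) 287 :=
  good_seed C (f9188 C) 287 [146, 152, 167, 172, 178] (v18_mem C) (by decide +kernel) (by decide +kernel)

theorem s15_182 : Good C (vlist C) (v15 C) 1226 :=
  good_seed C (f8835 C) 1226 [139, 161, 173, 178] (v18_mem C) (by decide +kernel) (by decide +kernel)

theorem s15_183 : Good C (vlist C) (v15 C) 2724 :=
  good_seed C (f5978 C) 2724 [142, 149, 168, 172, 178] (v17_mem C) (by decide +kernel) (by decide +kernel)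

theorem s15_184 : Good C (vlist C) (v15 C) 2338 :=
  good_seed C (f5721 C) 2338 [136, 150, 166, 173, 177] (v17_mem C) (by decide +kernel) (by decide +kernel)

theorem s15_185 : Good C (vlist C) (v15 C) 2665 :=
  good_seed C (f6165 C) 2665 [141, 163, 169, 174, 177] (v17_mem C) (by decide +kernel) (by decide +kernel)

theorem s15_186 : Good C (vlist C) (v15 C) 2117 :=
  good_seed C (f12072 C) 2117 [146, 160, 170, 176, 177] (v18_mem C) (by decide +kernel) (by decide +kernel)

theorem s15_187 : Good C (vlist C) (v15 C) 2659 :=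
  good_seed C (f2890 C) 2659 [133, 155, 167, 174, 178] (v15_mem C) (by decide +kernel) (by decide +kernel)

theorem s15_188 : Good C (vlist C) (v15 C) 2181 :=
  good_seed C (f13300 C) 2181 [148, 153, 174] (v18_mem C) (by decide +kernel) (by decide +kernel)

theorem s15_189 : Good C (vlist C) (v15 C) 3070 :=
  good_seed C (f5959 C) 3070 [127, 166, 176, 177] (v17_mem C) (by decide +kernel) (by decide +kernel)

theorem s15_190 : Good C (vlist C) (v15 C) 2371 :=
  good_seed C (f3313 C) 2371 [148, 159, 167, 173, 177] (v15_mem C) (by decide +kernel) (by decide +kernel)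

theorem s15_191 : Good C (vlist C) (v15 C) 317 :=
  good_seed C (f2705 C) 317 [146, 157, 169, 177] (v15_mem C) (by decide +kernel) (by decide +kernel)

theorem s15_192 : Good C (vlist C) (v15 C) 3417 :=
  good_seed C (f14489 C) 3417 [135, 149, 167, 173] (v18_mem C) (by decide +kernel) (by decide +kernel)

theorem s15_193 : Good C (vlist C) (v15 C) 983 :=
  good_seed C (f8826 C) 983 [126, 163, 170, 174, 178] (v18_mem C) (by decide +kernel) (by decide +kernel)

theorem s15_194 : Good C (vlist C) (v15 C) 1187 :=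
  good_seed C (f4839 C) 1187 [141, 149, 176, 178] (v17_mem C) (by decide +kernel) (by decide +kernel)

theorem s15_195 : Good C (vlist C) (v15 C) 3585 :=
  good_seed C (f8610 C) 3585 [140, 154, 164, 172, 178] (v18_mem C) (by decide +kernel) (by decide +kernel)

theorem s15_196 : Good C (vlist C) (v15 C) 805 :=
  good_seed C (f6197 C) 805 [145, 157, 169, 178] (v17_mem C) (by decide +kernel) (by decide +kernel)

theorem s15_197 : Good C (vlist C) (v15 C) 1804 :=
  good_seed C (f17340 C) 1804 [130, 152, 169, 172, 178] (v19_mem C) (by decide +kernel) (by decide +kernel)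

theorem s15_198 : Good C (vlist C) (v15 C) 3173 :=
  good_seed C (f6239 C) 3173 [137, 162, 164, 173] (v17_mem C) (by decide +kernel) (by decide +kernel)

theorem s15_199 : Good C (vlist C) (v15 C) 2128 :=
  good_seed C (f2961 C) 2128 [144, 152, 164, 175, 178] (v15_mem C) (by decide +kernel) (by decide +kernel)

theorem s15_200 : Good C (vlist C) (v15 C) 343 :=
  good_seed C (f2835 C) 343 [140, 159, 166, 171, 177] (v15_mem C) (by decide +kernel) (by decide +kernel)

theorem s15_201 : Good C (vlist C) (v15 C) 3658 :=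
  good_seed C (f4824 C) 3658 [134, 163, 170, 172, 178] (v17_mem C) (by decide +kernel) (by decide +kernel)

theorem s15_202 : Good C (vlist C) (v15 C) 2473 :=
  good_seed C (f3398 C) 2473 [152, 166, 174, 177] (v15_mem C) (by decide +kernel) (by decide +kernel)

theorem s15_203 : Good C (vlist C) (v15 C) 1855 :=
  good_seed C (f4094 C) 1855 [148, 153, 164, 176, 178] (v16_mem C) (by decide +kernel) (by decide +kernel)

theorem s15_204 : Good C (vlist C) (v15 C) 2437 :=
  good_seed C (f4735 C) 2437 [134, 152, 170, 174, 178] (v17_mem C) (by decide +kernel) (by decide +kernel)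

theorem s15_205 : Good C (vlist C) (v15 C) 3278 :=
  good_seed C (f9204 C) 3278 [133, 156, 178] (v18_mem C) (by decide +kernel) (by decide +kernel)

theorem s15_206 : Good C (vlist C) (v15 C) 1209 :=
  good_seed C (f7077 C) 1209 [135, 165, 175] (v18_mem C) (by decide +kernel) (by decide +kernel)

theorem s15_207 : Good C (vlist C) (v15 C) 381 :=
  good_seed C (f3064 C) 381 [156, 164, 173, 177] (v14_mem C) (by decide +kernel) (by decide +kernel)

theorem s15_208 : Good C (vlist C) (v15 C) 3326 :=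
  good_seed C (f6527 C) 3326 [141, 157, 171, 177] (v17_mem C) (by decide +kernel) (by decide +kernel)

theorem s15_209 : Good C (vlist C) (v15 C) 388 :=
  good_seed C (f13588 C) 388 [142, 154, 167, 175, 178] (v18_mem C) (by decide +kernel) (by decide +kernel)

theorem s15_210 : Good C (vlist C) (v15 C) 2249 :=
  good_seed C (f3279 C) 2249 [132, 152, 165, 172, 178] (v15_mem C) (by decide +kernel) (by decide +kernel)

theorem s15_211 : Good C (vlist C) (v15 C) 2096 :=
  good_seed C (f2903 C) 2096 [138, 150, 166, 171, 178] (v3_mem C) (by decide +kernel) (by decide +kernel)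

theorem s15_212 : Good C (vlist C) (v15 C) 781 :=
  good_seed C (f2782 C) 781 [147, 156, 169, 171, 177] (v10_mem C) (by decide +kernel) (by decide +kernel)

theorem s15_213 : Good C (vlist C) (v15 C) 1096 :=
  good_seed C (f2729 C) 1096 [135, 151, 165, 174, 177] (v4_mem C) (by decide +kernel) (by decide +kernel)

theorem s15_214 : Good C (vlist C) (v15 C) 1587 :=
  good_seed C (f5074 C) 1587 [126, 156, 168, 175, 177] (v17_mem C) (by decide +kernel) (by decide +kernel)

theorem s15_215 : Good C (vlist C) (v15 C) 1353 :=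
  good_seed C (f10506 C) 1353 [146, 160, 175] (v18_mem C) (by decide +kernel) (by decide +kernel)

theorem s15_216 : Good C (vlist C) (v15 C) 3040 :=
  good_seed C (f6966 C) 3040 [149, 168, 171, 178] (v18_mem C) (by decide +kernel) (by decide +kernel)

theorem s15_217 : Good C (vlist C) (v15 C) 1232 :=
  good_seed C (f15926 C) 1232 [135, 152, 166, 172] (v19_mem C) (by decide +kernel) (by decide +kernel)

theorem s15_218 : Good C (vlist C) (v15 C) 1361 :=
  good_seed C (f4867 C) 1361 [135, 152, 165, 177] (v17_mem C) (by decide +kernel) (by decide +kernel)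

theorem s15_219 : Good C (vlist C) (v15 C) 423 :=
  good_seed C (f14750 C) 423 [146, 160, 164, 173, 178] (v18_mem C) (by decide +kernel) (by decide +kernel)

theorem s15_220 : Good C (vlist C) (v15 C) 424 :=
  good_seed C (f3016 C) 424 [138, 150, 172, 178] (v6_mem C) (by decide +kernel) (by decide +kernel)

theorem s15_221 : Good C (vlist C) (v15 C) 3730 :=
  good_seed C (f4922 C) 3730 [136, 158, 168, 177] (v17_mem C) (by decide +kernel) (by decide +kernel)

theorem s15_222 : Good C (vlist C) (v15 C) 747 :=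
  good_seed C (f12341 C) 747 [135, 149, 164, 176, 178] (v18_mem C) (by decide +kernel) (by decide +kernel)

theorem s15_223 : Good C (vlist C) (v15 C) 2850 :=
  good_seed C (f3195 C) 2850 [132, 159, 170, 173] (v15_mem C) (by decide +kernel) (by decide +kernel)

theorem s15_224 : Good C (vlist C) (v15 C) 1463 :=
  good_seed C (f2599 C) 1463 [147, 149, 164, 176] (v15_mem C) (by decide +kernel) (by decide +kernel)

theorem s15_225 : Good C (vlist C) (v15 C) 437 :=
  good_seed C (f10739 C) 437 [140, 157, 167, 171, 178] (v18_mem C) (by decide +kernel) (by decide +kernel)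

theorem s15_226 : Good C (vlist C) (v15 C) 2580 :=
  good_seed C (f16801 C) 2580 [136, 155, 166, 174, 177] (v19_mem C) (by decide +kernel) (by decide +kernel)

theorem s15_227 : Good C (vlist C) (v15 C) 3166 :=
  good_seed C (f5029 C) 3166 [143, 153, 164, 176, 177] (v17_mem C) (by decide +kernel) (by decide +kernel)

theorem s15_228 : Good C (vlist C) (v15 C) 469 :=
  good_seed C (f4478 C) 469 [143, 152, 169, 175] (v17_mem C) (by decide +kernel) (by decide +kernel)

theorem s15_229 : Good C (vlist C) (v15 C) 1524 :=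
  good_seed C (f2754 C) 1524 [138, 160, 173, 177] (v4_mem C) (by decide +kernel) (by decide +kernel)

theorem s15_230 : Good C (vlist C) (v15 C) 2296 :=
  good_seed C (f10540 C) 2296 [129, 149, 166, 171] (v18_mem C) (by decide +kernel) (by decide +kernel)

theorem s15_231 : Good C (vlist C) (v15 C) 1181 :=
  good_seed C (f2639 C) 1181 [140, 154, 170, 176] (v2_mem C) (by decide +kernel) (by decide +kernel)

theorem s15_232 : Good C (vlist C) (v15 C) 1263 :=
  good_seed C (f16512 C) 1263 [130, 155, 164, 176, 178] (v19_mem C) (by decide +kernel) (by decide +kernel)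

theorem s15_233 : Good C (vlist C) (v15 C) 2871 :=
  good_seed C (f5017 C) 2871 [135, 163, 167, 172] (v17_mem C) (by decide +kernel) (by decide +kernel)

theorem s15_234 : Good C (vlist C) (v15 C) 3492 :=
  good_seed C (f9197 C) 3492 [137, 161, 170, 176, 178] (v18_mem C) (by decide +kernel) (by decide +kernel)

theorem s15_235 : Good C (vlist C) (v15 C) 2217 :=
  good_seed C (f2827 C) 2217 [137, 157, 169, 176] (v15_mem C) (by decide +kernel) (by decide +kernel)

theorem s15_236 : Good C (vlist C) (v15 C) 3607 :=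
  good_seed C (f16152 C) 3607 [147, 162, 164, 176, 178] (v19_mem C) (by decide +kernel) (by decide +kernel)

theorem s15_237 : Good C (vlist C) (v15 C) 2482 :=
  good_seed C (f14268 C) 2482 [126, 154, 164, 172, 177] (v18_mem C) (by decide +kernel) (by decide +kernel)

theorem s15_238 : Good C (vlist C) (v15 C) 1800 :=
  good_seed C (f3052 C) 1800 [140, 151, 165, 173, 177] (v9_mem C) (by decide +kernel) (by decide +kernel)

theorem s15_239 : Good C (vlist C) (v15 C) 531 :=
  good_seed C (f3378 C) 531 [126, 163, 165, 172] (v7_mem C) (by decide +kernel) (by decide +kernel)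

theorem s15_240 : Good C (vlist C) (v15 C) 2835 :=
  good_seed C (f2763 C) 2835 [127, 159, 164, 172, 177] (v4_mem C) (by decide +kernel) (by decide +kernel)

theorem s15_241 : Good C (vlist C) (v15 C) 1711 :=
  good_seed C (f2936 C) 1711 [146, 151, 167, 174] (v15_mem C) (by decide +kernel) (by decide +kernel)

theorem s15_242 : Good C (vlist C) (v15 C) 554 :=
  good_seed C (f11820 C) 554 [145, 154, 167] (v18_mem C) (by decide +kernel) (by decide +kernel)

theorem s15_243 : Good C (vlist C) (v15 C) 1656 :=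
  good_seed C (f10068 C) 1656 [135, 162, 170, 176] (v18_mem C) (by decide +kernel) (by decide +kernel)

theorem s15_244 : Good C (vlist C) (v15 C) 2778 :=
  good_seed C (f3230 C) 2778 [133, 161, 166, 173, 177] (v15_mem C) (by decide +kernel) (by decide +kernel)

theorem s15_245 : Good C (vlist C) (v15 C) 3059 :=
  good_seed C (f16879 C) 3059 [142, 150, 169, 172, 178] (v19_mem C) (by decide +kernel) (by decide +kernel)

theorem s15_246 : Good C (vlist C) (v15 C) 572 :=
  good_seed C (f2921 C) 572 [140, 151, 169, 173, 178] (v15_mem C) (by decide +kernel) (by decide +kernel)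

theorem s15_247 : Good C (vlist C) (v15 C) 583 :=
  good_seed C (f3117 C) 583 [136, 157, 165, 174, 177] (v10_mem C) (by decide +kernel) (by decide +kernel)

theorem s15_248 : Good C (vlist C) (v15 C) 662 :=
  good_seed C (f16384 C) 662 [141, 150, 166, 176, 178] (v19_mem C) (by decide +kernel) (by decide +kernel)

theorem s15_249 : Good C (vlist C) (v15 C) 1155 :=
  good_seed C (f3498 C) 1155 [140, 166, 172] (v16_mem C) (by decide +kernel) (by decide +kernel)

theorem s15_250 : Good C (vlist C) (v15 C) 889 :=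
  good_seed C (f2663 C) 889 [142, 156, 165, 171] (v4_mem C) (by decide +kernel) (by decide +kernel)

theorem s15_251 : Good C (vlist C) (v15 C) 1615 :=
  good_seed C (f2842 C) 1615 [133, 160, 164, 173, 178] (v15_mem C) (by decide +kernel) (by decide +kernel)

theorem s15_252 : Good C (vlist C) (v15 C) 655 :=
  good_seed C (f2878 C) 655 [146, 163, 165, 174, 177] (v15_mem C) (by decide +kernel) (by decide +kernel)

theorem s15_253 : Good C (vlist C) (v15 C) 697 :=
  good_seed C (f4833 C) 697 [136, 153, 167, 174, 178] (v17_mem C) (by decide +kernel) (by decide +kernel)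

theorem s15_254 : Good C (vlist C) (v15 C) 661 :=
  good_seed C (f2650 C) 661 [131, 153, 168, 171, 177] (v15_mem C) (by decide +kernel) (by decide +kernel)

theorem s15_255 : Good C (vlist C) (v15 C) 3090 :=
  good_seed C (f2677 C) 3090 [144, 156, 168, 171, 178] (v15_mem C) (by decide +kernel) (by decide +kernel)

theorem s15_256 : Good C (vlist C) (v15 C) 842 :=
  good_seed C (f15891 C) 842 [127, 158, 168, 178] (v19_mem C) (by decide +kernel) (by decide +kernel)

theorem s15_257 : Good C (vlist C) (v15 C) 698 :=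
  good_seed C (f3111 C) 698 [128, 151, 170, 173] (v10_mem C) (by decide +kernel) (by decide +kernel)

theorem s15_258 : Good C (vlist C) (v15 C) 1041 :=
  good_seed C (f8255 C) 1041 [134, 160, 167, 173, 177] (v18_mem C) (by decide +kernel) (by decide +kernel)

theorem s15_259 : Good C (vlist C) (v15 C) 1469 :=
  good_seed C (f3503 C) 1469 [134, 149, 167, 174] (v16_mem C) (by decide +kernel) (by decide +kernel)

theorem s15_260 : Good C (vlist C) (v15 C) 1865 :=
  good_seed C (f3270 C) 1865 [138, 156, 164, 174, 177] (v15_mem C) (by decide +kernel) (by decide +kernel)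

theorem s15_261 : Good C (vlist C) (v15 C) 1474 :=
  good_seed C (f4396 C) 1474 [142, 155, 165] (v17_mem C) (by decide +kernel) (by decide +kernel)

theorem s15_262 : Good C (vlist C) (v15 C) 2749 :=
  good_seed C (f3201 C) 2749 [147, 155, 168, 176, 178] (v15_mem C) (by decide +kernel) (by decide +kernel)

theorem s15_263 : Good C (vlist C) (v15 C) 2335 :=
  good_seed C (f3687 C) 2335 [144, 153, 172, 177] (v16_mem C) (by decide +kernel) (by decide +kernel)

theorem s15_264 : Good C (vlist C) (v15 C) 2748 :=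
  good_seed C (f10270 C) 2748 [150, 169, 178] (v18_mem C) (by decide +kernel) (by decide +kernel)

theorem s15_265 : Good C (vlist C) (v15 C) 1257 :=
  good_seed C (f3096 C) 1257 [148, 157, 165, 176, 178] (v15_mem C) (by decide +kernel) (by decide +kernel)

theorem s15_266 : Good C (vlist C) (v15 C) 821 :=
  good_seed C (f2914 C) 821 [128, 157, 167, 171, 177] (v15_mem C) (by decide +kernel) (by decide +kernel)

theorem s15_267 : Good C (vlist C) (v15 C) 2152 :=
  good_seed C (f7637 C) 2152 [134, 162, 164, 171, 177] (v18_mem C) (by decide +kernel) (by decide +kernel)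

theorem s15_268 : Good C (vlist C) (v15 C) 1814 :=
  good_seed C (f16312 C) 1814 [160, 166, 174, 178] (v19_mem C) (by decide +kernel) (by decide +kernel)

theorem s15_269 : Good C (vlist C) (v15 C) 2635 :=
  good_seed C (f4708 C) 2635 [148, 161, 164, 174, 178] (v17_mem C) (by decide +kernel) (by decide +kernel)

theorem s15_270 : Good C (vlist C) (v15 C) 857 :=
  good_seed C (f16820 C) 857 [142, 162, 166, 177] (v19_mem C) (by decide +kernel) (by decide +kernel)

theorem s15_271 : Good C (vlist C) (v15 C) 3474 :=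
  good_seed C (f5380 C) 3474 [140, 153, 176, 177] (v17_mem C) (by decide +kernel) (by decide +kernel)

theorem s15_272 : Good C (vlist C) (v15 C) 3382 :=
  good_seed C (f4441 C) 3382 [148, 164, 173] (v17_mem C) (by decide +kernel) (by decide +kernel)

theorem s15_273 : Good C (vlist C) (v15 C) 1721 :=
  good_seed C (f3572 C) 1721 [134, 157, 169, 173, 178] (v16_mem C) (by decide +kernel) (by decide +kernel)

theorem s15_274 : Good C (vlist C) (v15 C) 2570 :=
  good_seed C (f3085 C) 2570 [130, 150, 165, 174, 178] (v15_mem C) (by decide +kernel) (by decide +kernel)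

theorem s15_275 : Good C (vlist C) (v15 C) 1208 :=
  good_seed C (f3154 C) 1208 [144, 152, 164, 176, 177] (v15_mem C) (by decide +kernel) (by decide +kernel)

theorem s15_276 : Good C (vlist C) (v15 C) 1322 :=
  good_seed C (f11195 C) 1322 [144, 159, 166, 176, 177] (v18_mem C) (by decide +kernel) (by decide +kernel)

theorem s15_277 : Good C (vlist C) (v15 C) 3693 :=
  good_seed C (f3026 C) 3693 [162, 167, 172, 177] (v9_mem C) (by decide +kernel) (by decide +kernel)

theorem s15_278 : Good C (vlist C) (v15 C) 1329 :=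
  good_seed C (f2791 C) 1329 [144, 163, 170, 173, 178] (v6_mem C) (by decide +kernel) (by decide +kernel)

theorem s15_279 : Good C (vlist C) (v15 C) 2150 :=
  good_seed C (f4718 C) 2150 [135, 161, 165, 172, 177] (v17_mem C) (by decide +kernel) (by decide +kernel)

theorem s15_280 : Good C (vlist C) (v15 C) 1582 :=
  good_seed C (f3323 C) 1582 [134, 171, 177] (v9_mem C) (by decide +kernel) (by decide +kernel)

theorem s15_281 : Good C (vlist C) (v15 C) 1882 :=
  good_seed C (f3426 C) 1882 [156, 171, 178] (v15_mem C) (by decide +kernel) (by decide +kernel)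

theorem s15_282 : Good C (vlist C) (v15 C) 2386 :=
  good_seed C (f3443 C) 2386 [127, 157, 169, 176, 177] (v15_mem C) (by decide +kernel) (by decide +kernel)

theorem s15_283 : Good C (vlist C) (v15 C) 2474 :=
  good_seed C (f3131 C) 2474 [134, 149, 173] (v10_mem C) (by decide +kernel) (by decide +kernel)

theorem s15_284 : Good C (vlist C) (v15 C) 2602 :=
  good_seed C (f3331 C) 2602 [142, 150, 171, 178] (v15_mem C) (by decide +kernel) (by decide +kernel)

theorem s15_285 : Good C (vlist C) (v15 C) 2640 :=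
  good_seed C (f3384 C) 2640 [130, 150, 167, 172, 178] (v15_mem C) (by decide +kernel) (by decide +kernel)

theorem s15_286 : Good C (vlist C) (v15 C) 2660 :=
  good_seed C (f3410 C) 2660 [144, 155, 176, 178] (v15_mem C) (by decide +kernel) (by decide +kernel)

/-- Seeds. -/
def seedsPart15_0 : List ℕ := [0, 1, 2505, 419, 2245, 2908, 1548, 816, 9, 2985, 3705, 3401, 2868, 2123, 3334, 2365, 2089, 995, 1389, 3431, 3109, 24, 3129, 926, 1291]

theorem seeds15_0 : ∀ k ∈ seedsPart15_0, Good C (vlist C) (v15 C) k := by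
  simp only [seedsPart15_0, List.forall_mem_cons, List.not_mem_nil, IsEmpty.forall_iff, implies_true, and_true]
  exact ⟨s15_0 C, s15_1 C, s15_2 C, s15_3 C, s15_4 C, s15_5 C, s15_6 C, s15_7 C, s15_8 C, s15_9 C, s15_10 C, s15_11 C, s15_12 C, s15_13 C, s15_14 C, s15_15 C, s15_16 C, s15_17 C, s15_18 C, s15_19 C, s15_20 C, s15_21 C, s15_22 C, s15_23 C, s15_24 C⟩

/-- Seeds. -/
def seedsPart15_1 : List ℕ := [1356, 354, 1227, 318, 171, 1056, 2250, 3008, 1571, 1178, 2654, 1438, 1461, 1503, 2436, 2892, 2226, 1545, 3060, 558, 413, 53, 2432, 3140, 1912]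

theorem seeds15_1 : ∀ k ∈ seedsPart15_1, Good C (vlist C) (v15 C) k := by
  simp only [seedsPart15_1, List.forall_mem_cons, List.not_mem_nil, IsEmpty.forall_iff, implies_true, and_true]
  exact ⟨s15_25 C, s15_26 C, s15_27 C, s15_28 C, s15_29 C, s15_30 C, s15_31 C, s15_32 C, s15_33 C, s15_34 C, s15_35 C, s15_36 C, s15_37 C, s15_38 C, s15_39 C, s15_40 C, s15_41 C, s15_42 C, s15_43 C, s15_44 C, s15_45 C, s15_46 C, s15_47 C, s15_48 C, s15_49 C⟩

/-- Seeds. -/
def seedsPart15_2 : List ℕ := [3416, 3464, 2303, 2154, 2121, 109, 2083, 3324, 1107, 2832, 1237, 532, 1759, 2877, 1935, 183, 3016, 1287, 1343, 106, 1375, 2469, 416, 1842, 1108]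

theorem seeds15_2 : ∀ k ∈ seedsPart15_2, Good C (vlist C) (v15 C) k := by
  simp only [seedsPart15_2, List.forall_mem_cons, List.not_mem_nil, IsEmpty.forall_iff, implies_true, and_true]
  exact ⟨s15_50 C, s15_51 C, s15_52 C, s15_53 C, s15_54 C, s15_55 C, s15_56 C, s15_57 C, s15_58 C, s15_59 C, s15_60 C, s15_61 C, s15_62 C, s15_63 C, s15_64 C, s15_65 C, s15_66 C, s15_67 C, s15_68 C, s15_69 C, s15_70 C, s15_71 C, s15_72 C, s15_73 C, s15_74 C⟩

/-- Seeds. -/
def seedsPart15_3 : List ℕ := [371, 3782, 3762, 96, 3089, 757, 2021, 1153, 1675, 319, 623, 2810, 256, 176, 2643, 1449, 1639, 116, 1335, 2202, 1986, 3484, 1753, 126, 2543]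

theorem seeds15_3 : ∀ k ∈ seedsPart15_3, Good C (vlist C) (v15 C) k := by
  simp only [seedsPart15_3, List.forall_mem_cons, List.not_mem_nil, IsEmpty.forall_iff, implies_true, and_true]
  exact ⟨s15_75 C, s15_76 C, s15_77 C, s15_78 C, s15_79 C, s15_80 C, s15_81 C, s15_82 C, s15_83 C, s15_84 C, s15_85 C, s15_86 C, s15_87 C, s15_88 C, s15_89 C, s15_90 C, s15_91 C, s15_92 C, s15_93 C, s15_94 C, s15_95 C, s15_96 C, s15_97 C, s15_98 C, s15_99 C⟩

/-- Seeds. -/
def seedsPart15_4 : List ℕ := [803, 3405, 3703, 3162, 2065, 589, 3313, 543, 2094, 2171, 2879, 1778, 1841, 866, 1543, 3557, 156, 339, 159, 160, 2676, 3220, 1145, 1248, 1734]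

theorem seeds15_4 : ∀ k ∈ seedsPart15_4, Good C (vlist C) (v15 C) k := by
  simp only [seedsPart15_4, List.forall_mem_cons, List.not_mem_nil, IsEmpty.forall_iff, implies_true, and_true]
  exact ⟨s15_100 C, s15_101 C, s15_102 C, s15_103 C, s15_104 C, s15_105 C, s15_106 C, s15_107 C, s15_108 C, s15_109 C, s15_110 C, s15_111 C, s15_112 C, s15_113 C, s15_114 C, s15_115 C, s15_116 C, s15_117 C, s15_118 C, s15_119 C, s15_120 C, s15_121 C, s15_122 C, s15_123 C, s15_124 C⟩

/-- Seeds. -/
def seedsPart15_5 : List ℕ := [3314, 1695, 3201, 3420, 3370, 231, 3036, 1512, 2915, 1515, 3351, 3770, 1284, 3006, 1142, 702, 1534, 3328, 3493, 1090, 3418, 316, 3099, 3270, 2765]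

theorem seeds15_5 : ∀ k ∈ seedsPart15_5, Good C (vlist C) (v15 C) k := by
  simp only [seedsPart15_5, List.forall_mem_cons, List.not_mem_nil, IsEmpty.forall_iff, implies_true, and_true]
  exact ⟨s15_125 C, s15_126 C, s15_127 C, s15_128 C, s15_129 C, s15_130 C, s15_131 C, s15_132 C, s15_133 C, s15_134 C, s15_135 C, s15_136 C, s15_137 C, s15_138 C, s15_139 C, s15_140 C, s15_141 C, s15_142 C, s15_143 C, s15_144 C, s15_145 C, s15_146 C, s15_147 C, s15_148 C, s15_149 C⟩

/-- Seeds. -/
def seedsPart15_6 : List ℕ := [2222, 3548, 819, 3155, 3606, 2530, 1856, 358, 226, 2239, 518, 3087, 1348, 3508, 2646, 2689, 2783, 1016, 2968, 2058, 2355, 1902, 262, 3453, 570]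

theorem seeds15_6 : ∀ k ∈ seedsPart15_6, Good C (vlist C) (v15 C) k := by
  simp only [seedsPart15_6, List.forall_mem_cons, List.not_mem_nil, IsEmpty.forall_iff, implies_true, and_true]
  exact ⟨s15_150 C, s15_151 C, s15_152 C, s15_153 C, s15_154 C, s15_155 C, s15_156 C, s15_157 C, s15_158 C, s15_159 C, s15_160 C, s15_161 C, s15_162 C, s15_163 C, s15_164 C, s15_165 C, s15_166 C, s15_167 C, s15_168 C, s15_169 C, s15_170 C, s15_171 C, s15_172 C, s15_173 C, s15_174 C⟩

/-- Seeds. -/
def seedsPart15_7 : List ℕ := [2463, 642, 1106, 2359, 1406, 647, 287, 1226, 2724, 2338, 2665, 2117, 2659, 2181, 3070, 2371, 317, 3417, 983, 1187, 3585, 805, 1804, 3173, 2128]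

theorem seeds15_7 : ∀ k ∈ seedsPart15_7, Good C (vlist C) (v15 C) k := by
  simp only [seedsPart15_7, List.forall_mem_cons, List.not_mem_nil, IsEmpty.forall_iff, implies_true, and_true]
  exact ⟨s15_175 C, s15_176 C, s15_177 C, s15_178 C, s15_179 C, s15_180 C, s15_181 C, s15_182 C, s15_183 C, s15_184 C, s15_185 C, s15_186 C, s15_187 C, s15_188 C, s15_189 C, s15_190 C, s15_191 C, s15_192 C, s15_193 C, s15_194 C, s15_195 C, s15_196 C, s15_197 C, s15_198 C, s15_199 C⟩

/-- Seeds. -/
def seedsPart15_8 : List ℕ := [343, 3658, 2473, 1855, 2437, 3278, 1209, 381, 3326, 388, 2249, 2096, 781, 1096, 1587, 1353, 3040, 1232, 1361, 423, 424, 3730, 747, 2850, 1463]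

theorem seeds15_8 : ∀ k ∈ seedsPart15_8, Good C (vlist C) (v15 C) k := by
  simp only [seedsPart15_8, List.forall_mem_cons, List.not_mem_nil, IsEmpty.forall_iff, implies_true, and_true]
  exact ⟨s15_200 C, s15_201 C, s15_202 C, s15_203 C, s15_204 C, s15_205 C, s15_206 C, s15_207 C, s15_208 C, s15_209 C, s15_210 C, s15_211 C, s15_212 C, s15_213 C, s15_214 C, s15_215 C, s15_216 C, s15_217 C, s15_218 C, s15_219 C, s15_220 C, s15_221 C, s15_222 C, s15_223 C, s15_224 C⟩

/-- Seeds. -/
def seedsPart15_9 : List ℕ := [437, 2580, 3166, 469, 1524, 2296, 1181, 1263, 2871, 3492, 2217, 3607, 2482, 1800, 531, 2835, 1711, 554, 1656, 2778, 3059, 572, 583, 662, 1155]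

theorem seeds15_9 : ∀ k ∈ seedsPart15_9, Good C (vlist C) (v15 C) k := by
  simp only [seedsPart15_9, List.forall_mem_cons, List.not_mem_nil, IsEmpty.forall_iff, implies_true, and_true]
  exact ⟨s15_225 C, s15_226 C, s15_227 C, s15_228 C, s15_229 C, s15_230 C, s15_231 C, s15_232 C, s15_233 C, s15_234 C, s15_235 C, s15_236 C, s15_237 C, s15_238 C, s15_239 C, s15_240 C, s15_241 C, s15_242 C, s15_243 C, s15_244 C, s15_245 C, s15_246 C, s15_247 C, s15_248 C, s15_249 C⟩

/-- Seeds. -/
def seedsPart15_10 : List ℕ := [889, 1615, 655, 697, 661, 3090, 842, 698, 1041, 1469, 1865, 1474, 2749, 2335, 2748, 1257, 821, 2152, 1814, 2635, 857, 3474, 3382, 1721, 2570]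

theorem seeds15_10 : ∀ k ∈ seedsPart15_10, Good C (vlist C) (v15 C) k := by
  simp only [seedsPart15_10, List.forall_mem_cons, List.not_mem_nil, IsEmpty.forall_iff, implies_true, and_true]
  exact ⟨s15_250 C, s15_251 C, s15_252 C, s15_253 C, s15_254 C, s15_255 C, s15_256 C, s15_257 C, s15_258 C, s15_259 C, s15_260 C, s15_261 C, s15_262 C, s15_263 C, s15_264 C, s15_265 C, s15_266 C, s15_267 C, s15_268 C, s15_269 C, s15_270 C, s15_271 C, s15_272 C, s15_273 C, s15_274 C⟩

/-- Seeds. -/
def seedsPart15_11 : List ℕ := [1208, 1322, 3693, 1329, 2150, 1582, 1882, 2386, 2474, 2602, 2640, 2660]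

theorem seeds15_11 : ∀ k ∈ seedsPart15_11, Good C (vlist C) (v15 C) k := by
  simp only [seedsPart15_11, List.forall_mem_cons, List.not_mem_nil, IsEmpty.forall_iff, implies_true, and_true]
  exact ⟨s15_275 C, s15_276 C, s15_277 C, s15_278 C, s15_279 C, s15_280 C, s15_281 C, s15_282 C, s15_283 C, s15_284 C, s15_285 C, s15_286 C⟩

/-- The seeds, first group. -/
def seedsUpTo15_0 : List ℕ := seedsPart15_0

theorem upTo15_0 : ∀ k ∈ seedsUpTo15_0, Good C (vlist C) (v15 C) k := seeds15_0 C

/-- The seeds, first groups. -/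
def seedsUpTo15_1 : List ℕ := seedsUpTo15_0 ++ seedsPart15_1

theorem upTo15_1 : ∀ k ∈ seedsUpTo15_1, Good C (vlist C) (v15 C) k :=
  List.forall_mem_append.2 ⟨upTo15_0 C, seeds15_1 C⟩

/-- The seeds, first groups. -/
def seedsUpTo15_2 : List ℕ := seedsUpTo15_1 ++ seedsPart15_2

theorem upTo15_2 : ∀ k ∈ seedsUpTo15_2, Good C (vlist C) (v15 C) k :=
  List.forall_mem_append.2 ⟨upTo15_1 C, seeds15_2 C⟩

/-- The seeds, first groups. -/
def seedsUpTo15_3 : List ℕ := seedsUpTo15_2 ++ seedsPart15_3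

theorem upTo15_3 : ∀ k ∈ seedsUpTo15_3, Good C (vlist C) (v15 C) k :=
  List.forall_mem_append.2 ⟨upTo15_2 C, seeds15_3 C⟩

/-- The seeds, first groups. -/
def seedsUpTo15_4 : List ℕ := seedsUpTo15_3 ++ seedsPart15_4

theorem upTo15_4 : ∀ k ∈ seedsUpTo15_4, Good C (vlist C) (v15 C) k :=
  List.forall_mem_append.2 ⟨upTo15_3 C, seeds15_4 C⟩

/-- The seeds, first groups. -/
def seedsUpTo15_5 : List ℕ := seedsUpTo15_4 ++ seedsPart15_5

theorem upTo15_5 : ∀ k ∈ seedsUpTo15_5, Good C (vlist C) (v15 C) k :=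
  List.forall_mem_append.2 ⟨upTo15_4 C, seeds15_5 C⟩

/-- The seeds, first groups. -/
def seedsUpTo15_6 : List ℕ := seedsUpTo15_5 ++ seedsPart15_6

theorem upTo15_6 : ∀ k ∈ seedsUpTo15_6, Good C (vlist C) (v15 C) k :=
  List.forall_mem_append.2 ⟨upTo15_5 C, seeds15_6 C⟩

/-- The seeds, first groups. -/
def seedsUpTo15_7 : List ℕ := seedsUpTo15_6 ++ seedsPart15_7

theorem upTo15_7 : ∀ k ∈ seedsUpTo15_7, Good C (vlist C) (v15 C) k :=
  List.forall_mem_append.2 ⟨upTo15_6 C, seeds15_7 C⟩

/-- The seeds, first groups. -/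
def seedsUpTo15_8 : List ℕ := seedsUpTo15_7 ++ seedsPart15_8

theorem upTo15_8 : ∀ k ∈ seedsUpTo15_8, Good C (vlist C) (v15 C) k :=
  List.forall_mem_append.2 ⟨upTo15_7 C, seeds15_8 C⟩

/-- The seeds, first groups. -/
def seedsUpTo15_9 : List ℕ := seedsUpTo15_8 ++ seedsPart15_9

theorem upTo15_9 : ∀ k ∈ seedsUpTo15_9, Good C (vlist C) (v15 C) k :=
  List.forall_mem_append.2 ⟨upTo15_8 C, seeds15_9 C⟩

/-- The seeds, first groups. -/
def seedsUpTo15_10 : List ℕ := seedsUpTo15_9 ++ seedsPart15_10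

theorem upTo15_10 : ∀ k ∈ seedsUpTo15_10, Good C (vlist C) (v15 C) k :=
  List.forall_mem_append.2 ⟨upTo15_9 C, seeds15_10 C⟩

/-- The seeds, first groups. -/
def seedsUpTo15_11 : List ℕ := seedsUpTo15_10 ++ seedsPart15_11

theorem upTo15_11 : ∀ k ∈ seedsUpTo15_11, Good C (vlist C) (v15 C) k :=
  List.forall_mem_append.2 ⟨upTo15_10 C, seeds15_11 C⟩

/-- The seeds of vertex 15. -/
def seeds15 : List ℕ := seedsUpTo15_11

theorem seeds15_good : ∀ k ∈ seeds15, Good C (vlist C) (v15 C) k := upTo15_11 C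

/-- Generators fixing vertex 15. -/
def gens15 : List (List ℕ × ℕ) := [
  ([20, 46, 63, 77, 100, 109, 114], 0xbd6cf9a802a35cc5c928184a43c0d1),
  ([24, 41, 66, 78, 108, 114], 0x7440a33ecc916e285067491a142e75),
  ([33, 51, 93, 109, 123], 0x85ab43ca377b16e6a8c19a44321500)]

theorem gens15_fix : ∀ g ∈ gens15, C.S (v15 C) g.1 := by
  simp only [gens15, List.forall_mem_cons, List.not_mem_nil, IsEmpty.forall_iff, implies_true, and_true]
  exact ⟨f2565 C, f2569 C, f2581 C⟩

theorem gens15_ok : (gens15.all fun g => genOk g.1 g.2) = true := by decide +kernel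

/-- Steps. -/
def rows15_0 : List (ℕ × ℕ × ℕ × ℕ) := [(0, 2, 811, 225), (1, 0, 1402, 228), (1, 1, 386, 225), (1, 2, 2160, 216), (2505, 0, 1233, 198), (2505, 1, 37, 225), (2505, 2, 1928, 198), (419, 0, 783, 228), (419, 1, 908, 210), (419, 2, 711, 198), (2245, 0, 2793, 210), (2245, 1, 2627, 210), (2245, 2, 2268, 225), (2908, 0, 3074, 228), (2908, 1, 1705, 201), (2908, 2, 2145, 216), (1548, 0, 6, 210), (1548, 1, 1514, 228), (1548, 2, 3175, 216), (816, 0, 2688, 198), (816, 1, 1824, 216), (816, 2, 1199, 216), (9, 0, 1844, 201), (9, 1, 3721, 201), (9, 2, 3067, 198), (2985, 1, 10, 228), (2985, 2, 15, 228), (3705, 0, 2735, 210), (3705, 1, 3448, 228), (3705, 2, 812, 225), (3401, 0, 3478, 225), (3401, 2, 12, 216), (2868, 0, 3034, 216), (2868, 1, 2054, 216), (2868, 2, 1270, 198), (2123, 0, 2970, 201), (2123, 1, 890, 210), (2123, 2, 1160, 201), (3334, 0, 2229, 216), (3334, 1, 3653, 210), (3334, 2, 1351, 210), (2365, 0, 1650, 210), (2365, 1, 3171, 198), (2365, 2, 1879, 228), (2089,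 0, 19, 225), (2089, 1, 3295, 216), (2089, 2, 490, 228), (995, 0, 734, 216), (995, 1, 20, 198), (995, 2, 3759, 216), (1389, 1, 21, 201), (1389, 2, 922, 216), (3431, 0, 295, 210), (3431, 1, 2281, 228), (3431, 2, 1052, 228), (3109, 0, 223, 216), (3109, 1, 651, 201), (24, 0, 2501, 225), (24, 1, 3732, 210), (24, 2, 539, 225), (3129, 0, 2542, 198), (3129, 1, 2203, 201), (3129, 2, 1527, 216), (926, 0, 1538, 201), (926, 1, 834, 210), (926, 2, 1960, 216), (1291, 0, 2666, 225), (1291, 1, 1780, 228), (1291, 2, 2342, 210), (1356, 0, 3562, 225), (1356, 1, 1289, 216), (1356, 2, 45, 210), (354, 0, 29, 210), (354, 1, 804, 201), (354, 2, 592, 210), (1227, 0, 30, 225), (1227, 1, 93, 210), (1227, 2, 561, 228), (318, 0, 31, 201), (318, 1, 2597, 228), (318, 2, 2993, 201), (171, 0, 1530, 228), (171, 1, 1192, 210), (171, 2, 966, 216), (1056, 0, 1982, 198), (1056, 1, 1039, 225), (1056, 2, 3718, 216), (2250, 0, 3374, 198), (2250, 1, 1138, 228), (2250, 2, 867, 201), (3008, 0, 2367, 216), (3008, 1,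 1971, 210), (3008, 2, 3103, 228), (1571, 0, 89, 210), (1571, 1, 1564, 210), (1571, 2, 2388, 198), (1178, 0, 1680, 198), (1178, 1, 2941, 216), (1178, 2, 973, 198), (2654, 0, 2980, 201), (2654, 1, 2136, 228), (2654, 2, 3765, 210), (1438, 0, 3412, 201), (1438, 1, 1306, 225), (1438, 2, 40, 198), (1461, 0, 2465, 198), (1461, 1, 3442, 198), (1461, 2, 3777, 225), (1503, 1, 251, 225), (1503, 2, 44, 198), (2436, 0, 455, 210), (2436, 1, 2404, 216), (2436, 2, 1288, 216), (2892, 0, 47, 201), (2892, 1, 1592, 216), (2892, 2, 3323, 228), (2226, 0, 3649, 201), (2226, 1, 2910, 210), (2226, 2, 1528, 198), (1545, 0, 237, 225), (1545, 1, 1737, 228), (1545, 2, 2164, 201), (3060, 0, 401, 198), (3060, 1, 81, 225), (3060, 2, 1393, 210), (558, 0, 1625, 198), (558, 1, 992, 216), (558, 2, 2215, 228), (413, 0, 670, 210), (413, 1, 3434, 201), (413, 2, 1339, 225), (53, 0, 985, 216), (53, 1, 3551, 201), (53, 2, 2988, 201), (2432, 0, 785, 201), (2432, 1, 2406, 216), (2432, 2, 1662, 225), (3140, 1, 239,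 228), (3140, 2, 1367, 225), (1912, 1, 745, 201), (1912, 2, 57, 198), (3416, 0, 62, 201), (3416, 1, 3027, 216), (3416, 2, 1235, 228), (3464, 0, 3357, 201), (3464, 1, 984, 225), (3464, 2, 1817, 216), (2303, 0, 3045, 210), (2303, 1, 3229, 210), (2303, 2, 2237, 210), (2154, 0, 2613, 210), (2154, 1, 2294, 210), (2154, 2, 2375, 198), (2121, 0, 288, 228), (2121, 1, 2318, 201), (2121, 2, 2848, 201), (109, 0, 1593, 225), (109, 1, 2471, 198), (109, 2, 3475, 201), (2083, 0, 1013, 198), (2083, 1, 2747, 216), (2083, 2, 1440, 198), (3324, 0, 2398, 228), (3324, 1, 66, 210), (3324, 2, 2830, 198), (1107, 0, 688, 228), (1107, 1, 2003, 201), (1107, 2, 2259, 201), (2832, 0, 2575, 216), (2832, 1, 2829, 225), (2832, 2, 649, 198), (1237, 1, 750, 216), (1237, 2, 69, 201), (532, 0, 1455, 201), (532, 1, 356, 201), (532, 2, 3108, 210), (1759, 1, 300, 201), (1759, 2, 603, 225), (2877, 0, 3363, 201), (2877, 1, 3683, 225), (2877, 2, 2578, 201), (1935, 0, 2308, 228), (1935, 1, 2757, 225), (1935, 2, 1554,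 225), (183, 0, 895, 228), (183, 1, 78, 225), (183, 2, 2865, 225), (3016, 0, 2062, 216), (3016, 1, 2880, 198), (3016, 2, 2440, 228), (1287, 0, 2273, 216), (1287, 1, 82, 210), (1343, 0, 1229, 225), (1343, 1, 739, 210), (1343, 2, 636, 228), (106, 0, 1852, 201), (106, 1, 1643, 201), (106, 2, 794, 216), (1375, 0, 254, 201), (1375, 1, 2893, 210), (1375, 2, 628, 210), (2469, 0, 511, 210), (2469, 1, 522, 216), (2469, 2, 2559, 198), (416, 0, 953, 228), (416, 1, 3226, 210), (416, 2, 1523, 216), (1842, 0, 3601, 225), (1842, 1, 679, 228), (1842, 2, 3288, 198), (1108, 0, 90, 198), (1108, 1, 962, 225), (1108, 2, 1258, 228), (371, 1, 92, 210), (371, 2, 303, 210), (3782, 0, 329, 216), (3782, 1, 3570, 210), (3782, 2, 2000, 210), (3762, 0, 903, 225), (3762, 1, 533, 198), (3762, 2, 881, 201), (96, 0, 1228, 225), (96, 1, 3078, 228), (96, 2, 449, 225), (3089, 0, 97, 228), (3089, 1, 3519, 225), (3089, 2, 3419, 210), (757, 0, 2278, 198), (757, 1, 3603, 210), (757, 2, 3195, 225), (2021, 0, 1607,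 198), (2021, 1, 2223, 201), (2021, 2, 1436, 225), (1153, 0, 2563, 198), (1153, 1, 1762, 228), (1153, 2, 3692, 228), (1675, 0, 2605, 225), (1675, 1, 2620, 225), (1675, 2, 103, 228), (319, 0, 3414, 225), (319, 1, 2008, 201), (319, 2, 296, 228), (623, 0, 380, 225), (623, 1, 865, 225), (623, 2, 2523, 201), (2810, 0, 108, 225), (2810, 1, 3694, 228), (2810, 2, 3259, 228), (256, 0, 2416, 198), (256, 1, 450, 198)]

/-- Steps. -/
def rows15_1 : List (ℕ × ℕ × ℕ × ℕ) := [(256, 2, 2197, 198), (176, 0, 285, 201), (176, 1, 298, 198), (176, 2, 3535, 216), (2643, 0, 3753, 201), (2643, 1, 2934, 225), (2643, 2, 151, 201), (1449, 0, 719, 201), (1449, 2, 114, 201), (1639, 0, 115, 201), (1639, 1, 2876, 198), (1639, 2, 2664, 228), (116, 0, 2875, 201), (116, 1, 3000, 216), (116, 2, 3646, 225), (1335, 0, 119, 228), (1335, 1, 1929, 225), (1335, 2, 3421, 216), (2202, 0, 2496, 198), (2202, 1, 1488, 198), (2202, 2, 1319, 210), (1986, 0, 2247, 201), (1986, 1, 3342, 225), (1986, 2, 375, 225), (3484,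 0, 1240, 225), (3484, 1, 690, 198), (3484, 2, 2220, 210), (1753, 0, 2333, 216), (1753, 1, 2119, 210), (1753, 2, 2306, 210), (126, 0, 2297, 228), (126, 1, 841, 225), (126, 2, 1988, 216), (2543, 0, 944, 225), (2543, 1, 1176, 198), (2543, 2, 1128, 201), (803, 0, 3403, 228), (803, 1, 3244, 201), (803, 2, 725, 216), (3405, 0, 524, 216), (3405, 1, 3085, 225), (3405, 2, 3327, 210), (3703, 0, 2051, 198), (3703, 1, 2506, 225), (3703, 2, 3309, 216), (3162, 0, 2284, 201), (3162, 1, 1709, 198), (3162, 2, 1104, 216), (2065, 0, 1100, 225), (2065, 1, 2671, 225), (2065, 2, 3757, 201), (589, 0, 2819, 228), (589, 1, 180, 198), (589, 2, 3550, 198), (3313, 0, 2962, 228), (3313, 1, 1033, 216), (3313, 2, 2074, 228), (543, 0, 2824, 216), (543, 1, 3566, 225), (543, 2, 2399, 201), (2094, 0, 2372, 198), (2094, 1, 3647, 216), (2094, 2, 771, 210), (2171, 0, 2039, 225), (2171, 1, 3022, 225), (2171, 2, 260, 201), (2879, 0, 463, 201), (2879, 1, 3232, 210), (2879, 2, 1005, 198), (1778, 0, 608, 198), (1778,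 1, 1102, 228), (1778, 2, 3196, 198), (1841, 0, 302, 225), (1841, 1, 152, 216), (1841, 2, 309, 198), (866, 0, 2081, 228), (866, 1, 2118, 201), (866, 2, 3381, 225), (1543, 0, 154, 216), (1543, 1, 3608, 210), (1543, 2, 977, 201), (3557, 0, 155, 210), (3557, 1, 1952, 201), (3557, 2, 2582, 216), (156, 0, 728, 216), (156, 1, 398, 216), (156, 2, 2683, 228), (339, 0, 157, 225), (339, 1, 1568, 228), (339, 2, 1261, 210), (159, 0, 2732, 216), (159, 1, 1342, 225), (160, 0, 1417, 210), (2676, 0, 161, 201), (2676, 1, 3159, 198), (2676, 2, 3336, 228), (3220, 0, 3456, 210), (3220, 1, 3224, 201), (3220, 2, 1647, 225), (1145, 0, 353, 210), (1145, 1, 3390, 210), (1145, 2, 163, 225), (1248, 0, 2459, 198), (1248, 1, 2144, 201), (1248, 2, 971, 225), (1734, 0, 1579, 216), (1734, 1, 169, 228), (1734, 2, 1018, 228), (3314, 0, 900, 201), (3314, 2, 3051, 228), (1695, 0, 3031, 201), (1695, 1, 809, 201), (1695, 2, 2508, 201), (3201, 0, 174, 225), (3420, 0, 1659, 216), (3420, 1, 2196, 228), (3420, 2,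 1631, 198), (3370, 0, 1813, 225), (3370, 1, 741, 210), (3370, 2, 1872, 228), (231, 0, 916, 201), (231, 1, 215, 225), (231, 2, 3560, 201), (3036, 0, 1098, 201), (3036, 1, 3441, 198), (3036, 2, 252, 198), (1512, 0, 2288, 201), (1512, 1, 2843, 201), (1512, 2, 1784, 216), (2915, 0, 2362, 210), (2915, 1, 2105, 210), (2915, 2, 2151, 201), (1515, 0, 3736, 210), (1515, 1, 644, 228), (1515, 2, 255, 225), (3351, 0, 2751, 201), (3351, 1, 2264, 198), (3351, 2, 1205, 225), (3770, 0, 1252, 210), (3770, 1, 2383, 201), (3770, 2, 1886, 225), (1284, 0, 1550, 228), (1284, 1, 1741, 201), (1284, 2, 1308, 228), (3006, 0, 1222, 201), (3006, 1, 1764, 225), (3006, 2, 1787, 228), (1142, 0, 229, 210), (1142, 1, 3079, 210), (1142, 2, 2493, 210), (702, 0, 3720, 210), (702, 1, 1418, 201), (702, 2, 3458, 228), (1534, 1, 3260, 225), (1534, 2, 197, 210), (3328, 0, 1917, 216), (3328, 1, 3708, 216), (3328, 2, 3303, 210), (3493, 0, 2836, 210), (3493, 1, 1648, 201), (3493, 2, 987, 210), (1090, 0, 2919, 225),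 (1090, 1, 326, 228), (1090, 2, 395, 216), (3418, 0, 1196, 228), (3418, 1, 206, 201), (3418, 2, 860, 216), (316, 0, 2015, 198), (316, 1, 1407, 201), (316, 2, 3230, 228), (3099, 0, 1476, 228), (3099, 1, 3189, 216), (3099, 2, 1445, 210), (3270, 0, 2990, 225), (3270, 1, 3452, 198), (3270, 2, 1408, 228), (2765, 0, 3626, 216), (2765, 1, 488, 210), (2765, 2, 2891, 228), (2222, 0, 2253, 228), (2222, 1, 2610, 216), (2222, 2, 1302, 198), (3548, 0, 1050, 216), (3548, 2, 216, 198), (819, 0, 2161, 225), (819, 1, 414, 201), (819, 2, 2461, 210), (3155, 0, 1026, 198), (3155, 1, 2233, 225), (3155, 2, 3091, 210), (3606, 0, 2648, 225), (3606, 1, 2036, 225), (3606, 2, 3764, 198), (2530, 0, 3320, 201), (2530, 1, 1577, 210), (2530, 2, 341, 201), (1856, 0, 874, 225), (1856, 1, 224, 198), (1856, 2, 2813, 201), (358, 0, 2977, 216), (358, 1, 2169, 228), (358, 2, 2931, 216), (226, 0, 2922, 225), (226, 1, 3400, 210), (226, 2, 848, 216), (2239, 0, 1268, 225), (2239, 1, 2218, 201), (2239, 2, 875, 198),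 (518, 0, 2413, 201), (518, 1, 3514, 201), (518, 2, 234, 210), (3087, 0, 2429, 228), (3087, 1, 573, 198), (3087, 2, 3515, 198), (1348, 0, 1993, 225), (1348, 1, 2864, 201), (1348, 2, 241, 210), (3508, 0, 1618, 225), (3508, 1, 1899, 216), (3508, 2, 242, 198), (2646, 0, 3271, 225), (2646, 1, 1386, 201), (2646, 2, 2754, 225), (2689, 0, 2133, 201), (2689, 1, 1432, 210), (2689, 2, 3523, 216), (2783, 0, 2984, 228), (2783, 1, 2862, 225), (2783, 2, 1815, 228), (1016, 0, 2978, 198), (1016, 1, 3213, 210), (1016, 2, 3355, 225), (2968, 1, 2655, 201), (2968, 2, 250, 201), (2058, 0, 1974, 198), (2058, 1, 692, 216), (2058, 2, 3581, 201), (2355, 0, 2837, 228), (2355, 1, 3318, 201), (2355, 2, 1385, 201), (1902, 0, 3639, 198), (1902, 1, 2393, 216), (1902, 2, 3131, 198), (262, 0, 1874, 228), (262, 1, 653, 216), (262, 2, 945, 198), (3453, 0, 1269, 228), (3453, 1, 263, 201), (3453, 2, 605, 201), (570, 0, 3596, 201)]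

/-- Steps. -/
def rows15_2 : List (ℕ × ℕ × ℕ × ℕ) := [(570, 1, 3238, 228), (570, 2, 1419, 198), (2463, 0, 2290, 228), (2463, 1, 930, 225), (2463, 2, 3084, 216), (642, 0, 1707, 201), (642, 1, 350, 216), (642, 2, 3530, 201), (1106, 0, 1583, 201), (1106, 1, 3290, 198), (1106, 2, 730, 228), (2359, 0, 792, 216), (2359, 1, 2784, 225), (2359, 2, 2462, 228), (1406, 0, 3121, 198), (1406, 1, 2232, 198), (1406, 2, 281, 216), (647, 0, 955, 225), (647, 1, 817, 201), (647, 2, 2909, 228), (287, 0, 1427, 225), (287, 1, 1698, 216), (287, 2, 2439, 228), (1226, 0, 3477, 225), (1226, 1, 1219, 228), (1226, 2, 370, 210), (2724, 0, 2041, 198), (2724, 1, 567, 228), (2724, 2, 3544, 210), (2338, 0, 752, 201), (2338, 1, 2745, 201), (2338, 2, 1373, 228), (2665, 0, 2188, 210), (2665, 1, 1903, 201), (2665, 2, 1139, 201), (2117, 0, 610, 210), (2117, 1, 3077, 210), (2117, 2, 1384, 201), (2659, 0, 627, 216), (2659, 1, 3436, 210), (2659, 2, 3684, 225), (2181, 0, 3536, 201), (2181, 1, 3249, 210), (2181,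 2, 3261, 210), (3070, 0, 621, 228), (3070, 1, 3038, 198), (3070, 2, 814, 228), (2371, 0, 2005, 198), (2371, 1, 2842, 198), (3417, 0, 3468, 228), (3417, 1, 2252, 210), (3417, 2, 3624, 228), (983, 0, 976, 210), (983, 1, 666, 228), (983, 2, 3349, 216), (1187, 0, 793, 210), (1187, 1, 1877, 216), (1187, 2, 2135, 198), (3585, 0, 1156, 198), (3585, 1, 1900, 198), (3585, 2, 1926, 198), (805, 0, 3406, 225), (805, 1, 1962, 201), (805, 2, 1510, 210), (1804, 0, 336, 225), (1804, 1, 3454, 228), (1804, 2, 862, 216), (3173, 0, 598, 225), (3173, 1, 1714, 228), (3173, 2, 495, 210), (2128, 0, 574, 225), (2128, 1, 342, 210), (2128, 2, 2311, 228), (3658, 0, 640, 198), (3658, 1, 927, 198), (3658, 2, 1898, 210), (2473, 0, 2070, 228), (2473, 1, 2890, 201), (2473, 2, 952, 198), (1855, 0, 3205, 198), (1855, 1, 2087, 201), (1855, 2, 2852, 210), (2437, 0, 3286, 228), (2437, 1, 2149, 225), (2437, 2, 760, 228), (3278, 0, 2175, 210), (3278, 1, 909, 228), (3278, 2, 1044, 225), (1209, 0, 872, 210), (1209,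 1, 374, 228), (1209, 2, 1444, 201), (381, 2, 1120, 216), (3326, 0, 1763, 216), (3326, 1, 2085, 198), (3326, 2, 1086, 225), (388, 0, 2141, 228), (388, 1, 1171, 228), (388, 2, 2668, 228), (2249, 0, 2025, 198), (2249, 1, 390, 228), (2096, 0, 2431, 228), (2096, 1, 1380, 228), (2096, 2, 2110, 228), (781, 0, 3267, 210), (781, 1, 2744, 210), (1096, 0, 3623, 198), (1096, 1, 832, 228), (1096, 2, 1123, 210), (1587, 0, 2741, 225), (1587, 1, 2331, 216), (1587, 2, 1328, 198), (1353, 0, 1519, 225), (1353, 1, 444, 228), (1353, 2, 2244, 228), (3040, 0, 3435, 228), (3040, 1, 1070, 201), (3040, 2, 3369, 228), (1232, 0, 1374, 216), (1232, 1, 1215, 225), (1232, 2, 1602, 225), (1361, 1, 2441, 210), (1361, 2, 3594, 216), (423, 0, 2427, 198), (423, 1, 2907, 201), (423, 2, 2313, 216), (424, 2, 2204, 201), (3730, 0, 429, 228), (3730, 1, 1471, 201), (3730, 2, 560, 216), (747, 0, 1334, 201), (747, 1, 433, 198), (747, 2, 2080, 228), (2850, 0, 1346, 228), (2850, 1, 2453, 198), (1463, 0, 2612, 216),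 (1463, 2, 1184, 216), (437, 0, 1748, 216), (437, 1, 960, 198), (437, 2, 3026, 216), (2580, 1, 559, 216), (2580, 2, 1112, 210), (3166, 0, 459, 228), (3166, 1, 3200, 225), (3166, 2, 3451, 201), (469, 0, 1211, 216), (469, 1, 3269, 216), (469, 2, 1473, 198), (1524, 0, 1400, 198), (1524, 2, 2540, 216), (2296, 0, 3648, 216), (2296, 1, 1826, 228), (2296, 2, 1320, 198), (1181, 0, 982, 210), (1181, 1, 486, 210), (1181, 2, 824, 210), (1263, 0, 2565, 216), (1263, 1, 2971, 198), (1263, 2, 1835, 228), (2871, 0, 2107, 216), (2871, 1, 892, 198), (2871, 2, 3234, 198), (3492, 0, 1271, 225), (3492, 1, 500, 228), (3492, 2, 1497, 210), (2217, 0, 3545, 225), (2217, 2, 3185, 216), (3607, 0, 2520, 201), (3607, 1, 2853, 198), (3607, 2, 513, 210), (2482, 0, 3529, 210), (2482, 1, 3771, 228), (2482, 2, 1036, 225), (1800, 1, 3275, 225), (1800, 2, 2319, 228), (531, 2, 3102, 210), (2835, 0, 2444, 201), (2835, 1, 2504, 198), (2835, 2, 541, 216), (1711, 0, 858, 198), (1711, 1, 3663, 210), (1711, 2, 1144,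 198), (554, 0, 1415, 201), (554, 1, 1563, 225), (554, 2, 3758, 225), (1656, 0, 2916, 225), (1656, 1, 562, 225), (1656, 2, 1630, 228), (2778, 0, 2841, 201), (2778, 1, 563, 225), (2778, 2, 1462, 210), (3059, 0, 3754, 198), (3059, 1, 3402, 228), (572, 0, 2446, 198), (572, 1, 3444, 225), (583, 0, 3164, 201), (583, 1, 1871, 216), (662, 0, 1743, 201), (662, 1, 1781, 216), (662, 2, 1015, 228), (1155, 1, 991, 210), (1155, 2, 1940, 210), (889, 0, 3598, 228), (889, 1, 2417, 210), (889, 2, 1485, 201), (1615, 0, 2280, 210), (1615, 1, 1097, 201), (1615, 2, 1129, 216), (697, 0, 714, 228), (697, 1, 657, 225), (697, 2, 2903, 228), (3090, 0, 970, 216), (3090, 1, 1274, 225), (3090, 2, 2567, 228), (842, 1, 1632, 228), (842, 2, 695, 225), (698, 0, 3052, 225), (698, 1, 736, 198), (1041, 0, 2902, 198), (1041, 1, 1909, 210), (1041, 2, 2108, 216), (1469, 0, 1394, 201), (1469, 1, 1395, 201), (1865, 0, 732, 228), (1865, 1, 2060, 210), (1474, 0, 1996, 198), (1474, 1, 3644, 210), (1474, 2, 3301, 210),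 (2749, 0, 820, 216), (2749, 1, 2295, 210), (2749, 2, 3092, 225), (2335, 0, 2956, 216), (2335, 1, 762, 201), (2335, 2, 1159, 198), (2748, 0, 3595, 210), (2748, 1, 1221, 216), (2748, 2, 2545, 210), (1257, 0, 3702, 201), (1257, 1, 2456, 210), (1257, 2, 3207, 228), (821, 0, 1703, 210), (2152, 0, 3239, 225), (2152, 1, 1875, 228), (2152, 2, 2945, 216), (1814, 0, 3549, 228), (1814, 1, 1341, 216), (1814, 2, 849, 198), (2635, 0, 1459, 228), (2635, 1, 2820, 201), (2635, 2, 1745, 198), (857, 0, 2554, 201)]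

/-- Steps. -/
def rows15_3 : List (ℕ × ℕ × ℕ × ℕ) := [(857, 1, 2821, 201), (857, 2, 3392, 216), (3474, 0, 1517, 210), (3474, 1, 1892, 216), (3474, 2, 1868, 228), (3382, 0, 3518, 228), (3382, 1, 2639, 210), (1721, 0, 1043, 201), (1721, 1, 3638, 225), (2570, 0, 1182, 201), (2570, 1, 2326, 216), (1208, 0, 2619, 198), (1322, 0, 3187, 198), (1322, 1, 1836, 216), (1322, 2, 1884, 216), (3693, 0, 2653, 201), (3693, 1, 3507, 210), (3693, 2, 2637, 210), (1329, 0, 3521, 201), (1329, 2, 3337, 201), (2150, 0, 1423, 210), (2150, 1, 3358, 225), (1582, 1, 2726, 216), (1582, 2, 2969, 228), (1882, 1, 2261, 198), (2474, 0, 2964, 225), (2474, 1, 3742, 201), (2640, 1, 2647, 210), (1402, 1, 14, 210), (1402, 2, 2630, 228), (386, 2, 2711, 216), (1233, 1, 1062, 210), (1233, 2, 3179, 201), (37, 0, 3659, 198), (37, 1, 3081, 198), (37, 2, 2031, 201), (1928, 0, 1433, 216), (783, 1, 1401, 228), (783, 2, 1200, 201), (908, 2, 947, 225), (2793, 1, 4, 216), (2793, 2, 2004, 225), (2627, 0, 3163, 210), (2627,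 1, 1010, 201), (2627, 2, 2998, 228), (2268, 0, 581, 198), (3074, 1, 5, 228), (3074, 2, 3449, 228), (1705, 0, 290, 201), (1705, 1, 1878, 198), (1705, 2, 2669, 228), (2145, 0, 3167, 198), (6, 1, 2380, 198), (6, 2, 3469, 201), (1514, 0, 2768, 210), (1514, 1, 483, 225), (1514, 2, 2337, 201), (3175, 0, 367, 201), (2688, 1, 167, 216), (2688, 2, 1920, 228), (1824, 0, 782, 198), (1824, 1, 3652, 210), (1824, 2, 2451, 216), (1199, 0, 2013, 216), (1844, 1, 3237, 198), (1844, 2, 3531, 216), (3721, 0, 3593, 210), (3721, 1, 3235, 216), (3721, 2, 3003, 210), (3067, 0, 489, 216), (10, 2, 2947, 228), (2735, 1, 1536, 225), (2735, 2, 11, 216), (3448, 0, 634, 228), (3448, 1, 1578, 225), (3448, 2, 1636, 225), (812, 0, 1133, 198), (3478, 1, 1376, 210), (3478, 2, 1668, 210), (12, 0, 2999, 225), (3034, 1, 2028, 198), (3034, 2, 1295, 210), (2054, 0, 2698, 201), (2054, 1, 3740, 216), (2054, 2, 1372, 216), (1270, 0, 967, 201), (2970, 1, 2067, 216), (2970, 2, 3632, 210), (890, 0, 3413, 201), (890,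 1, 3138, 216), (890, 2, 551, 216), (1160, 0, 3268, 216), (2229, 1, 2354, 198), (2229, 2, 906, 210), (3653, 0, 1447, 210), (3653, 1, 2687, 210), (3653, 2, 43, 216), (1351, 0, 3776, 216), (1650, 1, 3564, 210), (1650, 2, 1925, 216), (3171, 0, 1493, 228), (3171, 1, 997, 225), (3171, 2, 18, 201), (1879, 0, 3071, 198), (19, 1, 3590, 216), (19, 2, 3773, 216), (3295, 0, 2707, 228), (3295, 1, 2302, 210), (3295, 2, 165, 225), (490, 0, 2584, 201), (734, 1, 71, 210), (734, 2, 1429, 201), (20, 2, 629, 210), (21, 2, 3472, 210), (295, 1, 3746, 210), (295, 2, 22, 228), (2281, 0, 1076, 228), (2281, 1, 2791, 225), (2281, 2, 2706, 201), (1052, 0, 941, 210), (223, 1, 23, 216), (223, 2, 477, 225), (651, 0, 815, 210), (651, 1, 2948, 228), (2501, 1, 759, 210), (2501, 2, 2405, 228), (3732, 0, 3222, 216), (3732, 1, 517, 228), (3732, 2, 42, 225), (539, 0, 2242, 201), (2542, 1, 898, 228), (2542, 2, 646, 201), (2203, 0, 1118, 210), (2203, 1, 1979, 201), (2203, 2, 3294, 216), (1527, 0, 1612, 228), (1538,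 1, 502, 216), (1538, 2, 26, 225), (834, 0, 232, 216), (834, 1, 3048, 198), (834, 2, 143, 201), (1960, 0, 347, 216), (2666, 1, 1234, 201), (2666, 2, 1064, 198), (1780, 0, 3491, 201), (1780, 1, 1681, 210), (1780, 2, 3148, 228), (2342, 0, 2981, 216), (3562, 1, 468, 201), (3562, 2, 28, 216), (1289, 0, 1609, 210), (1289, 1, 704, 210), (1289, 2, 3476, 216), (45, 0, 691, 225), (29, 1, 323, 216), (29, 2, 1649, 198), (804, 0, 974, 210), (804, 1, 1565, 201), (804, 2, 3744, 201), (592, 0, 422, 216), (30, 1, 2733, 201), (30, 2, 3001, 216), (93, 0, 2844, 210), (93, 1, 1278, 225), (93, 2, 1567, 210), (561, 0, 222, 225), (31, 1, 1204, 228), (31, 2, 1718, 210), (2597, 0, 1572, 228), (2597, 1, 859, 198), (2597, 2, 1918, 210), (2993, 0, 1931, 228), (1530, 1, 32, 216), (1530, 2, 3396, 225), (1192, 0, 538, 216), (1192, 1, 131, 198), (1192, 2, 2577, 210), (966, 0, 1220, 225), (1982, 1, 2940, 201), (1982, 2, 2449, 216), (1039, 0, 2632, 225), (1039, 1, 2658, 201), (1039, 2, 3679, 210), (3718,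 0, 3193, 228), (3374, 1, 492, 225), (3374, 2, 1366, 198), (1138, 0, 837, 216), (1138, 1, 34, 216), (1138, 2, 3376, 198), (867, 0, 1816, 210), (2367, 1, 35, 210), (2367, 2, 3621, 225), (1971, 0, 899, 225), (1971, 1, 349, 201), (1971, 2, 1689, 216), (3103, 0, 2861, 228), (89, 1, 1966, 201), (89, 2, 3489, 198), (1564, 0, 2146, 216), (1564, 1, 355, 201), (1564, 2, 3158, 225), (2388, 0, 2114, 198), (1680, 1, 3037, 201), (1680, 2, 2738, 216), (2941, 0, 656, 198), (2941, 1, 2961, 225), (2941, 2, 2769, 228), (973, 0, 2534, 228), (2980, 1, 3341, 216), (2980, 2, 1864, 198), (2136, 0, 2839, 201), (2136, 1, 2870, 198), (2136, 2, 39, 216), (3765, 0, 2601, 228), (3412, 1, 2179, 216), (3412, 2, 1051, 198), (1306, 0, 79, 198), (1306, 1, 2098, 198), (1306, 2, 3111, 225), (40, 0, 3018, 216), (2465, 1, 1458, 216), (2465, 2, 2034, 216), (3442, 0, 3135, 201), (3442, 1, 2293, 216), (3442, 2, 41, 210), (3777, 0, 3344, 228), (251, 0, 2270, 228), (251, 1, 75, 216), (251, 2, 3611, 225), (44, 0, 384,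 198), (455, 1, 735, 216), (455, 2, 46, 198), (2404, 0, 1950, 198), (2404, 1, 1245, 201), (2404, 2, 1768, 210), (1288, 0, 1951, 210), (47, 1, 1114, 210), (47, 2, 3346, 216), (1592, 0, 1315, 228), (1592, 1, 802, 225), (1592, 2, 3395, 225), (3323, 0, 717, 225), (3649, 1, 48, 216), (3649, 2, 1099, 228), (2910, 0, 3498, 201), (2910, 1, 3781, 198), (2910, 2, 3252, 198), (1528, 0, 2510, 225), (237, 1, 2644, 210), (237, 2, 654, 225)]

/-- Steps. -/
def rows15_4 : List (ℕ × ℕ × ℕ × ℕ) := [(1737, 0, 2611, 225), (1737, 1, 3030, 228), (1737, 2, 1537, 210), (2164, 0, 49, 198), (401, 1, 1725, 216), (401, 2, 3264, 198), (81, 0, 1776, 201), (81, 1, 669, 225), (81, 2, 2163, 198), (1393, 0, 1896, 225), (1625, 1, 1345, 201), (1625, 2, 2392, 228), (992, 0, 919, 198), (992, 1, 1559, 228), (992, 2, 1694, 228), (2215, 0, 1891, 228), (670, 1, 579, 198), (670, 2, 979, 225), (3434, 0, 2797, 225), (3434, 1, 769, 228), (3434, 2, 693, 210), (1339, 0, 3329, 228), (985, 1, 2466, 216), (985, 2, 1888, 228),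 (3551, 0, 2818, 225), (3551, 1, 731, 198), (3551, 2, 2581, 228), (2988, 0, 3778, 198), (785, 1, 766, 210), (785, 2, 3154, 225), (2406, 0, 1964, 216), (2406, 1, 3206, 216), (2406, 2, 3266, 225), (1662, 0, 703, 201), (239, 0, 55, 198), (239, 1, 2452, 198), (239, 2, 164, 198), (1367, 0, 917, 228), (745, 0, 1126, 228), (745, 1, 127, 201), (745, 2, 3387, 198), (57, 0, 925, 228), (62, 1, 2728, 201), (62, 2, 2199, 201), (3027, 0, 3097, 210), (3027, 1, 3577, 201), (3027, 2, 2550, 228), (1235, 0, 58, 198), (3357, 1, 59, 225), (3357, 2, 709, 201), (984, 0, 1701, 210), (984, 1, 3024, 201), (984, 2, 3743, 228), (1817, 0, 2975, 216), (3045, 1, 3145, 225), (3045, 2, 60, 198), (3229, 0, 920, 201), (3229, 1, 118, 225), (3229, 2, 3501, 201), (2237, 0, 1084, 198), (2613, 1, 1150, 228), (2613, 2, 3360, 210), (2294, 0, 1067, 201), (2294, 1, 3017, 228), (2294, 2, 3752, 228), (2375, 0, 3321, 201), (288, 1, 1388, 210), (288, 2, 512, 201), (2318, 0, 1250, 198), (2318, 1, 2511, 225), (2318, 2, 63,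 225), (2848, 0, 1496, 225), (1593, 1, 576, 216), (1593, 2, 1708, 201), (2471, 0, 1687, 210), (2471, 1, 1340, 228), (2471, 2, 1808, 216), (3475, 0, 2045, 198), (1013, 1, 720, 225), (1013, 2, 2339, 210), (2747, 0, 504, 216), (2747, 1, 65, 228), (2747, 2, 1611, 216), (1440, 0, 3582, 201), (2398, 1, 166, 198), (2398, 2, 120, 198), (66, 0, 2667, 228), (66, 1, 2840, 210), (66, 2, 2616, 198), (2830, 0, 3240, 201), (688, 1, 1788, 201), (688, 2, 2176, 216), (2003, 0, 67, 225), (2003, 1, 723, 198), (2003, 2, 2208, 216), (2259, 0, 1276, 228), (2575, 1, 1486, 210), (2575, 2, 68, 216), (2829, 0, 580, 225), (2829, 1, 221, 210), (2829, 2, 1696, 228), (649, 0, 787, 210), (750, 2, 506, 201), (1455, 1, 749, 201), (1455, 2, 1453, 201), (356, 0, 1796, 228), (356, 1, 880, 225), (356, 2, 1294, 198), (3108, 0, 2433, 216), (300, 0, 1811, 210), (300, 1, 3552, 225), (300, 2, 825, 225), (603, 0, 72, 228), (3363, 1, 2547, 210), (3363, 2, 76, 198), (3683, 0, 1352, 198), (3683, 1, 2497, 201), (3683,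 2, 2519, 201), (2578, 0, 3126, 228), (2308, 1, 768, 201), (2308, 2, 1876, 225), (2757, 0, 1885, 198), (2757, 1, 1292, 198), (2757, 2, 2894, 210), (1554, 0, 959, 216), (895, 1, 3714, 201), (895, 2, 2376, 198), (78, 0, 1431, 228), (78, 1, 510, 216), (78, 2, 972, 198), (2865, 0, 1448, 225), (2062, 1, 361, 201), (2062, 2, 3113, 198), (2880, 0, 1792, 201), (2880, 1, 2068, 228), (2880, 2, 2262, 198), (2440, 0, 790, 225), (2273, 1, 1421, 198), (2273, 2, 1955, 210), (82, 0, 1166, 210), (82, 1, 1001, 201), (1229, 1, 1504, 210), (1229, 2, 2170, 225), (739, 0, 1470, 216), (739, 1, 83, 201), (739, 2, 2994, 225), (636, 0, 3221, 210), (1852, 1, 525, 210), (1852, 2, 426, 225), (1643, 0, 672, 210), (1643, 1, 877, 198), (1643, 2, 2276, 228), (794, 0, 3490, 228), (254, 1, 2982, 198), (254, 2, 2845, 228), (2893, 0, 3033, 225), (2893, 1, 1134, 210), (2893, 2, 3194, 225), (628, 0, 85, 210), (511, 1, 2191, 228), (522, 0, 2806, 201), (522, 2, 2412, 225), (2559, 0, 86, 198), (953, 1, 301, 201),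 (953, 2, 1457, 228), (3226, 0, 2714, 198), (3226, 1, 91, 201), (3226, 2, 2838, 225), (1523, 0, 2641, 198), (3601, 1, 88, 210), (3601, 2, 729, 198), (679, 0, 2869, 201), (679, 1, 1409, 216), (679, 2, 1973, 228), (3288, 0, 1629, 225), (90, 1, 961, 216), (90, 2, 2593, 210), (962, 0, 1071, 228), (962, 1, 2617, 198), (962, 2, 1627, 210), (1258, 0, 2470, 216), (92, 2, 2373, 228), (329, 1, 1623, 228), (329, 2, 3204, 228), (3570, 0, 3470, 228), (3570, 1, 1797, 210), (3570, 2, 94, 201), (2000, 0, 340, 216), (903, 1, 1913, 225), (903, 2, 1750, 225), (533, 0, 2072, 228), (533, 1, 2758, 225), (533, 2, 3614, 210), (881, 0, 3690, 216), (1228, 1, 3340, 198), (1228, 2, 923, 201), (3078, 0, 1880, 216), (3078, 1, 3700, 216), (3078, 2, 2600, 198), (449, 0, 2201, 228), (97, 1, 2389, 198), (97, 2, 3064, 216), (3519, 0, 3727, 210), (3519, 1, 3216, 216), (3519, 2, 931, 210), (3419, 0, 461, 210), (2278, 1, 1626, 225), (2278, 2, 1023, 216), (3603, 0, 3666, 228), (3603, 1, 607, 228), (3603, 2, 377,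 228), (3195, 0, 3191, 210), (1607, 1, 1028, 210), (1607, 2, 278, 198), (2223, 0, 3178, 216), (2223, 1, 100, 198), (2223, 2, 1194, 216), (1436, 0, 2759, 228), (2563, 1, 149, 216), (2563, 2, 3616, 225), (1762, 0, 1069, 228), (1762, 1, 618, 210), (1762, 2, 3423, 225), (3692, 0, 3640, 225), (2605, 1, 1739, 216), (2605, 2, 612, 225), (2620, 0, 189, 198), (2620, 1, 1837, 210), (2620, 2, 537, 201), (103, 0, 3710, 225), (3414, 1, 622, 228), (3414, 2, 439, 228), (2008, 0, 1344, 201), (2008, 1, 2957, 210), (2008, 2, 104, 201), (296, 0, 963, 210), (380, 1, 2736, 201), (380, 2, 1910, 228), (865, 0, 2211, 228), (865, 1, 3289, 201), (865, 2, 2407, 225), (2523, 0, 150, 201), (108, 1, 3512, 201), (108, 2, 421, 201), (3694, 0, 1413, 210), (3694, 1, 673, 225), (3694, 2, 3007, 216), (3259, 0, 1359, 210), (2416, 1, 2541, 216), (2416, 2, 357, 216)]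

/-- Steps. -/
def rows15_5 : List (ℕ × ℕ × ℕ × ℕ) := [(450, 0, 140, 228), (450, 1, 619, 216), (450, 2, 1934, 198), (2197, 0, 404, 216), (285, 1, 484, 198), (285, 2, 1296, 225), (298, 0, 845, 210), (298, 1, 2943, 225), (298, 2, 2805, 210), (3535, 0, 1336, 225), (3753, 1, 2979, 198), (3753, 2, 1007, 228), (2934, 0, 3681, 201), (2934, 1, 3634, 210), (2934, 2, 2614, 198), (151, 0, 1757, 225), (719, 2, 447, 201), (115, 1, 1854, 225), (115, 2, 2358, 201), (2876, 0, 474, 225), (2876, 1, 1946, 201), (2876, 2, 2734, 201), (2664, 0, 1549, 225), (2875, 1, 2415, 225), (2875, 2, 2787, 210), (3000, 0, 2132, 201), (3000, 1, 1177, 225), (3000, 2, 2257, 198), (3646, 0, 3749, 201), (119, 1, 3650, 198), (119, 2, 2330, 198), (1929, 0, 2055, 225), (1929, 1, 1478, 225), (1929, 2, 467, 228), (3421, 0, 1310, 201), (2496, 1, 3587, 216), (2496, 2, 1938, 198), (1488, 0, 2409, 198), (1488, 1, 2701, 210), (1488, 2, 121, 225), (1319, 0, 1679, 225), (2247, 1, 706, 201), (2247, 2, 2781, 201), (3342, 0,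 2533, 225), (3342, 1, 122, 198), (3342, 2, 668, 216), (375, 0, 638, 198), (1240, 1, 2888, 225), (1240, 2, 3100, 225), (690, 0, 1040, 198), (690, 1, 123, 210), (690, 2, 2277, 201), (2220, 0, 3255, 216), (2333, 1, 2227, 225), (2333, 2, 2035, 228), (2119, 0, 335, 228), (2119, 1, 1959, 216), (2119, 2, 3499, 228), (2306, 0, 2795, 198), (2297, 1, 2899, 210), (2297, 2, 2965, 198), (841, 0, 2553, 210), (841, 1, 2038, 210), (841, 2, 2997, 198), (1988, 0, 3311, 216), (944, 1, 1600, 201), (944, 2, 3573, 216), (1176, 0, 3408, 228), (1176, 1, 128, 198), (1176, 2, 2090, 216), (1128, 0, 2796, 216), (3403, 1, 2086, 210), (3403, 2, 407, 198), (3244, 0, 2366, 225), (3244, 1, 3437, 225), (3244, 2, 2382, 210), (725, 0, 351, 225), (524, 1, 2050, 210), (524, 2, 2555, 201), (3085, 0, 233, 225), (3085, 1, 2895, 210), (3085, 2, 133, 216), (3327, 0, 2579, 198), (2051, 1, 247, 201), (2051, 2, 268, 228), (2506, 0, 2914, 210), (2506, 1, 3704, 228), (2506, 2, 1939, 228), (3309, 0, 2111, 225), (2284,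 1, 575, 198), (2284, 2, 1316, 225), (1709, 0, 988, 225), (1709, 1, 686, 210), (1709, 2, 838, 201), (1104, 0, 2057, 201), (1100, 1, 2663, 201), (1100, 2, 2214, 201), (2671, 0, 2560, 225), (2671, 1, 727, 225), (2671, 2, 683, 198), (3757, 0, 3256, 201), (2819, 1, 139, 210), (2819, 2, 1360, 228), (180, 0, 1060, 201), (180, 1, 2344, 216), (180, 2, 2310, 210), (3550, 0, 187, 198), (2962, 1, 141, 201), (2962, 2, 566, 225), (1033, 0, 2224, 210), (1033, 1, 432, 198), (1033, 2, 2715, 210), (2074, 0, 1791, 210), (2824, 1, 1030, 201), (2824, 2, 1606, 228), (3566, 0, 3430, 228), (3566, 1, 1840, 216), (3566, 2, 818, 210), (2399, 0, 2944, 201), (2372, 1, 1887, 198), (2372, 2, 2424, 198), (3647, 0, 3429, 216), (3647, 1, 144, 198), (3647, 2, 3687, 210), (771, 0, 2887, 216), (2039, 1, 276, 216), (2039, 2, 2075, 198), (3022, 0, 553, 210), (3022, 1, 194, 216), (3022, 2, 2020, 210), (260, 0, 3211, 216), (463, 1, 742, 216), (463, 2, 1866, 225), (3232, 0, 2650, 198), (3232, 1, 1697, 216), (3232,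 2, 774, 216), (1005, 0, 1412, 216), (608, 1, 3065, 210), (608, 2, 172, 228), (1102, 0, 330, 216), (1102, 1, 1472, 216), (1102, 2, 253, 201), (3196, 0, 2282, 198), (302, 1, 2155, 201), (302, 2, 2996, 210), (152, 0, 2370, 216), (152, 1, 3141, 198), (152, 2, 2048, 201), (309, 0, 1101, 216), (2081, 1, 2776, 198), (2081, 2, 3422, 198), (2118, 0, 1365, 228), (2118, 1, 1624, 228), (2118, 2, 3223, 210), (3381, 0, 3253, 201), (154, 1, 3715, 201), (154, 2, 2049, 228), (3608, 0, 3262, 198), (3608, 1, 2585, 198), (3608, 2, 3190, 198), (977, 0, 2592, 225), (155, 1, 3768, 198), (155, 2, 3298, 201), (1952, 0, 3132, 228), (1952, 1, 1451, 198), (1952, 2, 2104, 225), (2582, 0, 315, 216), (728, 1, 998, 228), (728, 2, 3118, 198), (398, 0, 2625, 201), (398, 1, 478, 198), (398, 2, 3134, 225), (2683, 0, 2814, 225), (157, 1, 2011, 225), (157, 2, 2325, 198), (1568, 0, 2557, 210), (1568, 1, 2932, 216), (1568, 2, 3769, 216), (1261, 0, 873, 216), (2732, 1, 3728, 216), (2732, 2, 1479, 228), (1342, 0,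 3072, 225), (1342, 1, 230, 225), (161, 1, 1605, 225), (161, 2, 2387, 210), (3159, 0, 2167, 228), (3159, 1, 1265, 201), (3159, 2, 372, 216), (3336, 0, 2347, 216), (3456, 1, 1484, 210), (3456, 2, 1933, 201), (3224, 0, 3425, 201), (3224, 1, 2166, 198), (3224, 2, 1712, 198), (1647, 0, 266, 225), (353, 1, 3642, 210), (353, 2, 1151, 201), (3390, 0, 1724, 216), (3390, 1, 1502, 216), (3390, 2, 2018, 201), (163, 0, 403, 210), (2459, 1, 1704, 228), (2459, 2, 680, 228), (2144, 0, 3597, 216), (2144, 1, 2495, 228), (2144, 2, 1312, 201), (971, 0, 168, 225), (1579, 1, 788, 201), (1579, 2, 2882, 225), (169, 0, 2006, 216), (169, 1, 2594, 201), (169, 2, 738, 198), (1018, 0, 3049, 216), (900, 1, 3218, 228), (900, 2, 1327, 225), (3051, 0, 501, 210), (3031, 1, 3307, 216), (3031, 2, 1948, 228), (809, 0, 3719, 210), (809, 1, 442, 210), (809, 2, 1032, 198), (2508, 0, 2562, 210), (1659, 1, 1851, 216), (1659, 2, 2912, 228), (2196, 0, 956, 216), (2196, 1, 175, 225), (2196, 2, 3120, 198), (1631, 0,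 540, 210), (1813, 1, 1467, 225), (1813, 2, 810, 228), (741, 0, 178, 228), (741, 1, 2095, 198), (741, 2, 1135, 225), (1872, 0, 754, 216), (916, 1, 1262, 225), (916, 2, 2867, 198), (215, 0, 896, 228), (215, 1, 481, 216), (215, 2, 597, 210), (3560, 0, 1658, 201), (1098, 1, 2088, 210), (1098, 2, 2374, 198), (3441, 0, 181, 216), (3441, 1, 2546, 228), (3441, 2, 3415, 210), (252, 0, 3285, 225), (2288, 1, 238, 216), (2288, 2, 2521, 225), (2843, 0, 451, 216), (2843, 1, 2929, 216)]

/-- Steps. -/
def rows15_6 : List (ℕ × ℕ × ℕ × ℕ) := [(2843, 2, 2710, 210), (1784, 0, 2680, 225), (2362, 1, 593, 210), (2362, 2, 1437, 228), (2105, 0, 185, 198), (2105, 1, 3330, 228), (2105, 2, 3246, 201), (2151, 0, 3274, 201), (3736, 1, 2764, 198), (3736, 2, 186, 225), (644, 0, 199, 210), (644, 1, 1646, 201), (644, 2, 3756, 225), (255, 0, 425, 225), (2751, 1, 291, 210), (2751, 2, 1801, 201), (2264, 0, 2379, 216), (2264, 1, 549, 198), (2264, 2, 2093, 201), (1205, 0, 831, 210), (1252, 1, 2266, 216), (1252,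 2, 682, 228), (2383, 0, 348, 210), (2383, 1, 1531, 216), (2383, 2, 1494, 228), (1886, 0, 3053, 198), (1550, 1, 2588, 210), (1550, 2, 458, 216), (1741, 0, 487, 210), (1741, 1, 2766, 225), (1741, 2, 192, 201), (1308, 0, 2925, 225), (1222, 1, 204, 228), (1222, 2, 1190, 225), (1764, 0, 2385, 210), (1764, 1, 193, 216), (1764, 2, 2435, 216), (1787, 0, 2703, 228), (229, 1, 2147, 228), (229, 2, 195, 228), (3079, 0, 664, 201), (3079, 1, 2007, 201), (3079, 2, 2633, 225), (2493, 0, 3257, 216), (3720, 2, 196, 210), (1418, 0, 1206, 216), (1418, 2, 631, 225), (3260, 0, 2976, 198), (3260, 1, 2012, 228), (3260, 2, 3481, 201), (197, 0, 431, 216), (1917, 1, 1755, 198), (1917, 2, 2124, 216), (3708, 0, 198, 198), (3708, 1, 2438, 198), (3708, 2, 3511, 228), (3303, 0, 3165, 201), (2836, 1, 1059, 228), (2836, 2, 201, 225), (1648, 0, 3002, 225), (1648, 1, 1761, 201), (1648, 2, 2165, 210), (987, 0, 3308, 210), (2919, 1, 1143, 225), (2919, 2, 3471, 225), (326, 0, 344, 216), (326, 1, 630, 216), (326,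 2, 203, 216), (395, 0, 1450, 225), (1196, 1, 1535, 225), (1196, 2, 590, 228), (206, 0, 3146, 198), (206, 1, 2973, 225), (206, 2, 3774, 201), (860, 0, 3794, 201), (2015, 1, 505, 210), (2015, 2, 1390, 201), (1407, 0, 2198, 225), (1407, 1, 207, 225), (1407, 2, 2157, 201), (3230, 0, 544, 228), (1476, 1, 885, 216), (1476, 2, 1188, 198), (3189, 0, 3284, 198), (3189, 1, 2499, 216), (3189, 2, 208, 198), (1445, 0, 2657, 201), (2990, 1, 210, 228), (2990, 2, 939, 216), (3452, 0, 1883, 225), (3452, 1, 3209, 228), (3452, 2, 1645, 216), (1408, 0, 808, 225), (3626, 1, 1323, 198), (3626, 2, 879, 228), (488, 0, 2047, 216), (488, 1, 3480, 201), (488, 2, 1085, 225), (2891, 0, 1921, 201), (2253, 1, 850, 201), (2610, 0, 1430, 210), (2610, 2, 652, 216), (1302, 0, 214, 198), (1050, 2, 2027, 210), (2161, 1, 1244, 201), (2161, 2, 2569, 216), (414, 0, 217, 201), (414, 1, 2131, 216), (414, 2, 637, 216), (2461, 0, 2705, 210), (1026, 1, 2986, 210), (1026, 2, 1830, 225), (2233, 0, 699, 201), (2233, 1,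 3080, 225), (2233, 2, 2138, 198), (3091, 0, 3726, 198), (2648, 1, 2332, 201), (2648, 2, 2340, 210), (2036, 0, 1671, 228), (2036, 1, 1569, 201), (2036, 2, 3214, 216), (3764, 0, 219, 201), (3320, 1, 220, 201), (3320, 2, 2670, 201), (1577, 0, 726, 225), (1577, 1, 2129, 210), (1577, 2, 951, 225), (341, 0, 368, 216), (874, 1, 1967, 228), (874, 2, 1371, 198), (224, 0, 1117, 201), (224, 1, 2816, 216), (224, 2, 1333, 210), (2813, 0, 2936, 198), (2977, 1, 225, 201), (2977, 2, 2590, 201), (2169, 0, 2002, 216), (2169, 1, 2193, 225), (2169, 2, 2467, 201), (2931, 0, 3371, 228), (2922, 1, 1904, 198), (2922, 2, 2349, 225), (3400, 0, 3110, 216), (3400, 1, 3020, 225), (3400, 2, 2656, 201), (848, 0, 1111, 201), (1268, 1, 227, 198), (2218, 0, 1525, 216), (2218, 2, 1074, 210), (875, 0, 663, 228), (2413, 1, 3688, 225), (2413, 2, 387, 201), (3514, 0, 1157, 216), (3514, 1, 1897, 198), (3514, 2, 3283, 201), (234, 0, 1598, 210), (2429, 1, 3409, 198), (2429, 2, 2410, 210), (573, 0, 2828, 225), (573,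 1, 555, 216), (573, 2, 772, 201), (3515, 0, 2486, 225), (1993, 1, 565, 228), (1993, 2, 1061, 201), (2864, 0, 385, 198), (2864, 1, 2464, 201), (2864, 2, 3029, 210), (241, 0, 306, 228), (1618, 1, 1634, 210), (1618, 2, 740, 198), (1899, 0, 274, 201), (1899, 1, 591, 216), (1899, 2, 3711, 216), (242, 0, 1613, 201), (3271, 1, 2775, 201), (3271, 2, 2631, 210), (1386, 0, 1758, 225), (1386, 1, 2322, 198), (1386, 2, 1477, 216), (2754, 0, 937, 201), (2133, 1, 2212, 201), (2133, 2, 3304, 210), (1432, 0, 968, 201), (1432, 1, 3139, 201), (1432, 2, 1325, 216), (3523, 0, 2607, 198), (2984, 1, 1377, 201), (2984, 2, 1744, 216), (2862, 0, 248, 228), (2862, 1, 684, 198), (2862, 2, 362, 228), (1815, 0, 1483, 216), (2978, 1, 2205, 216), (2978, 2, 1020, 225), (3213, 0, 639, 198), (3213, 1, 249, 198), (3213, 2, 2729, 210), (3355, 0, 1999, 225), (2655, 0, 3251, 198), (2655, 1, 1224, 210), (2655, 2, 1516, 216), (250, 0, 271, 216), (1974, 1, 471, 198), (1974, 2, 800, 201), (692, 0, 557, 228), (692,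 1, 3494, 216), (692, 2, 1720, 210), (3581, 0, 2019, 210), (2837, 1, 2730, 216), (2837, 2, 3619, 216), (3318, 0, 272, 228), (3318, 1, 674, 216), (3318, 2, 259, 198), (1385, 0, 3656, 225), (3639, 1, 1301, 225), (3639, 2, 758, 210), (2393, 0, 2536, 228), (2393, 1, 2731, 228), (2393, 2, 1906, 228), (3131, 0, 2285, 198), (1874, 1, 1949, 198), (1874, 2, 2674, 210), (653, 0, 3312, 228), (653, 1, 2649, 210), (653, 2, 3686, 228), (945, 0, 1638, 225), (1269, 1, 1042, 210), (1269, 2, 2345, 225), (263, 0, 3680, 228), (263, 1, 428, 210), (263, 2, 3525, 198), (605, 0, 2528, 210), (3596, 1, 542, 228), (3238, 0, 264, 216), (3238, 2, 2346, 216), (1419, 0, 1511, 210), (2290, 1, 405, 225), (2290, 2, 2991, 201), (930, 0, 1980, 228), (930, 1, 1692, 198), (930, 2, 2109, 201), (3084, 0, 1782, 201), (1707, 1, 1870, 225), (1707, 2, 1586, 216), (350, 0, 2442, 201), (350, 1, 2847, 198), (350, 2, 936, 210), (3530, 0, 269, 228), (1583, 1, 2817, 210), (1583, 2, 2076, 198)]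

/-- Steps. -/
def rows15_7 : List (ℕ × ℕ × ℕ × ℕ) := [(3290, 0, 765, 201), (3290, 1, 861, 225), (3290, 2, 2946, 225), (730, 0, 3130, 198), (792, 1, 713, 210), (792, 2, 2911, 216), (2784, 0, 2904, 225), (2784, 1, 546, 228), (2784, 2, 2301, 216), (2462, 0, 1802, 225), (3121, 1, 2856, 225), (3121, 2, 602, 228), (2232, 0, 493, 210), (2232, 1, 1243, 210), (2232, 2, 3546, 198), (281, 0, 3671, 225), (955, 1, 1355, 216), (955, 2, 282, 216), (817, 0, 3709, 210), (817, 1, 3004, 225), (817, 2, 3353, 210), (2909, 0, 1881, 201), (1427, 1, 2492, 216), (1427, 2, 2421, 216), (1698, 0, 498, 201), (1698, 1, 1088, 201), (1698, 2, 801, 228), (2439, 0, 1382, 225), (3477, 1, 3176, 210), (3477, 2, 2526, 225), (1219, 0, 1684, 198), (1219, 1, 289, 198), (1219, 2, 3636, 216), (370, 0, 1735, 201), (2041, 1, 3115, 228), (2041, 2, 3635, 201), (567, 0, 1303, 228), (567, 1, 1500, 201), (567, 2, 292, 225), (3544, 0, 3735, 228), (752, 1, 2822, 210), (752, 2, 2143, 210), (2745, 0, 3054, 225), (2745, 1,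 1706, 216), (2745, 2, 2064, 201), (1373, 0, 3273, 201), (2188, 1, 1805, 210), (2188, 2, 3527, 228), (1903, 0, 1641, 225), (1903, 1, 441, 228), (1903, 2, 1387, 198), (1139, 0, 1338, 228), (610, 1, 2851, 216), (610, 2, 352, 216), (3077, 0, 307, 210), (3077, 1, 2091, 210), (3077, 2, 822, 225), (1384, 0, 2857, 216), (627, 1, 2529, 225), (627, 2, 1132, 225), (3436, 0, 2566, 228), (3436, 1, 3558, 210), (3436, 2, 520, 216), (3684, 0, 1911, 228), (3536, 1, 1544, 225), (3536, 2, 2574, 228), (3249, 0, 346, 210), (3249, 1, 311, 216), (3249, 2, 707, 225), (3261, 0, 2672, 216), (621, 1, 2938, 201), (621, 2, 1368, 201), (3038, 0, 1058, 201), (3038, 1, 1995, 198), (3038, 2, 3335, 210), (814, 0, 2589, 198), (2005, 1, 313, 228), (3468, 1, 907, 216), (3468, 2, 3790, 228), (2252, 0, 2618, 198), (2252, 1, 1674, 228), (2252, 2, 1379, 198), (3624, 0, 1742, 210), (976, 1, 929, 210), (976, 2, 2434, 210), (666, 0, 2137, 210), (666, 1, 3339, 198), (666, 2, 1092, 225), (3349, 0, 1272, 228), (793,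 1, 2485, 210), (793, 2, 1975, 210), (1877, 0, 2241, 225), (1877, 1, 2512, 225), (1877, 2, 418, 198), (2135, 0, 2831, 201), (1156, 1, 3157, 225), (1156, 2, 797, 201), (1900, 0, 3169, 216), (1900, 1, 1195, 210), (1900, 2, 1172, 201), (1926, 0, 332, 216), (3406, 1, 3062, 198), (3406, 2, 2484, 198), (1962, 0, 2539, 225), (1962, 1, 448, 210), (1962, 2, 1253, 216), (1510, 0, 1541, 201), (336, 1, 1838, 228), (3454, 0, 3630, 198), (3454, 2, 1667, 225), (862, 0, 2720, 210), (598, 1, 2661, 198), (598, 2, 3055, 216), (1714, 0, 2591, 216), (1714, 1, 466, 210), (1714, 2, 1125, 201), (495, 0, 3675, 225), (574, 1, 3227, 216), (574, 2, 2189, 216), (342, 0, 641, 228), (342, 1, 1378, 210), (342, 2, 2142, 216), (2311, 0, 888, 210), (640, 1, 1819, 201), (640, 2, 345, 216), (927, 0, 3707, 198), (927, 1, 1619, 210), (927, 2, 1216, 201), (1898, 0, 3534, 216), (2070, 1, 764, 216), (2070, 2, 3338, 228), (2890, 0, 829, 201), (2890, 1, 3354, 210), (2890, 2, 1655, 216), (952, 0, 2583, 210), (3205,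 1, 2645, 228), (3205, 2, 1513, 216), (2087, 0, 901, 210), (2087, 1, 3236, 216), (2087, 2, 2682, 228), (2852, 0, 3305, 210), (3286, 1, 366, 201), (3286, 2, 1034, 225), (2149, 0, 1756, 198), (2149, 1, 3604, 210), (2149, 2, 3513, 228), (760, 0, 3299, 228), (2175, 1, 3347, 198), (2175, 2, 1298, 216), (909, 0, 1665, 198), (909, 1, 369, 225), (909, 2, 2770, 228), (1044, 0, 1337, 210), (872, 1, 2390, 225), (872, 2, 2101, 216), (374, 0, 2725, 225), (374, 1, 3183, 228), (374, 2, 2773, 228), (1444, 0, 1992, 225), (1763, 1, 2992, 201), (1763, 2, 2243, 228), (2085, 0, 2955, 210), (2085, 1, 1318, 216), (2085, 2, 1491, 225), (1086, 0, 2315, 225), (2141, 1, 530, 201), (2141, 2, 1501, 210), (1171, 0, 2677, 216), (1171, 1, 2192, 216), (1171, 2, 3397, 198), (2668, 0, 1003, 198), (2025, 1, 2236, 198), (2025, 2, 1454, 216), (390, 0, 980, 216), (390, 1, 462, 225), (2431, 2, 2762, 228), (1380, 0, 391, 216), (1380, 2, 2329, 210), (3267, 1, 671, 228), (3267, 2, 3143, 210), (2744, 0, 3516, 225),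 (2744, 1, 392, 228), (3623, 1, 886, 228), (3623, 2, 746, 216), (832, 0, 3093, 216), (832, 1, 394, 201), (832, 2, 2535, 210), (1123, 0, 660, 216), (2741, 1, 402, 210), (2741, 2, 3569, 225), (2331, 0, 1846, 198), (2331, 1, 994, 198), (2331, 2, 2235, 210), (1328, 0, 3281, 198), (1519, 1, 1790, 228), (1519, 2, 408, 201), (444, 0, 3144, 198), (444, 1, 1825, 210), (444, 2, 1997, 198), (2244, 0, 1420, 225), (3435, 1, 2079, 216), (3435, 2, 1238, 198), (1070, 0, 503, 210), (1070, 1, 1770, 210), (1070, 2, 3731, 228), (3369, 0, 2361, 228), (1374, 1, 1273, 216), (1374, 2, 415, 210), (1215, 0, 705, 228), (1215, 1, 2477, 210), (1215, 2, 1969, 210), (1602, 0, 1693, 210), (2441, 0, 420, 216), (2441, 1, 681, 201), (2441, 2, 3445, 198), (3594, 0, 1669, 228), (2427, 1, 3383, 228), (2427, 2, 3241, 228), (2907, 0, 1990, 198), (2907, 1, 3149, 225), (2907, 2, 667, 216), (2313, 0, 3689, 201), (429, 1, 2743, 201), (429, 2, 620, 216), (1471, 0, 1264, 228), (1471, 1, 946, 201), (1471, 2, 2576, 216),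 (560, 0, 2272, 201), (1334, 1, 2078, 216), (1334, 2, 2794, 201), (433, 0, 1193, 228), (433, 1, 1821, 228), (433, 2, 2995, 210), (2080, 0, 2317, 201), (1346, 1, 3210, 216), (1346, 2, 3075, 198), (2453, 0, 1635, 228), (2453, 1, 1124, 201), (2612, 2, 436, 210), (1748, 1, 2509, 210), (1748, 2, 2568, 228), (960, 0, 1201, 198), (960, 1, 3153, 201), (960, 2, 548, 210), (3026, 0, 2558, 225), (559, 0, 445, 228), (559, 1, 2120, 228), (559, 2, 2798, 210), (1112, 0, 1350, 228), (459, 1, 3459, 225)]

/-- Steps. -/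
def rows15_8 : List (ℕ × ℕ × ℕ × ℕ) := [(459, 2, 2426, 210), (3200, 0, 904, 210), (3200, 1, 2397, 228), (3200, 2, 3668, 216), (3451, 0, 1832, 225), (1211, 1, 1239, 228), (1211, 2, 3306, 198), (3269, 2, 2896, 201), (1400, 1, 3272, 216), (1400, 2, 2168, 210), (2540, 0, 2287, 225), (3648, 1, 1873, 228), (3648, 2, 2077, 216), (1826, 0, 2920, 210), (1826, 1, 2418, 225), (1826, 2, 1364, 225), (1320, 0, 1823, 198), (982, 2, 1620, 225), (486, 0, 2873, 225), (486, 2, 2476, 198), (2565, 1, 2788, 225), (2565, 2, 3780, 228), (2971, 0, 910, 228), (2971, 1, 676, 225), (2971, 2, 3378, 198), (1835, 0, 1601, 210), (2107, 1, 855, 225), (2107, 2, 1774, 216), (892, 0, 496, 198), (892, 1, 1573, 216), (892, 2, 2746, 225), (3234, 0, 1019, 228), (1271, 1, 596, 198), (1271, 2, 2544, 216), (500, 0, 3738, 225), (500, 1, 2935, 201), (500, 2, 3495, 198), (1497, 0, 2172, 198), (3545, 1, 2721, 225), (3545, 2, 700, 198), (3185, 0, 508, 201), (2520, 1, 3428, 201), (2520, 2, 3553, 201), (2853, 0, 753, 225),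 (2853, 1, 3133, 228), (2853, 2, 1690, 201), (513, 0, 3789, 198), (3529, 1, 2489, 225), (3529, 2, 2686, 210), (3771, 0, 3350, 201), (3771, 1, 835, 225), (3771, 2, 514, 198), (1036, 0, 2642, 210), (3275, 0, 1978, 228), (3275, 1, 1137, 225), (3275, 2, 2069, 225), (2319, 0, 526, 216), (2444, 2, 3439, 228), (2504, 0, 1672, 201), (2504, 2, 724, 198), (858, 1, 1275, 228), (858, 2, 1807, 228), (3663, 0, 1428, 201), (3663, 1, 3739, 198), (3663, 2, 547, 228), (1144, 0, 1475, 225), (1415, 1, 1915, 198), (1415, 2, 611, 228), (1563, 0, 3637, 225), (1563, 1, 773, 228), (1563, 2, 3197, 216), (3758, 0, 828, 198), (2916, 1, 2897, 225), (2916, 2, 2719, 210), (562, 0, 1331, 201), (562, 1, 3315, 225), (562, 2, 3787, 210), (1630, 0, 1452, 216), (2841, 1, 3098, 225), (2841, 2, 1246, 216), (563, 0, 3488, 228), (563, 1, 1818, 210), (563, 2, 1185, 201), (1462, 0, 1822, 201), (3754, 1, 568, 198), (3754, 2, 3122, 225), (3402, 0, 3678, 225), (3402, 1, 2225, 198), (2446, 1, 1588, 216), (3164, 1, 2162,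 225), (1743, 1, 3555, 201), (1743, 2, 3755, 198), (1781, 0, 2792, 198), (1781, 1, 1077, 201), (1781, 2, 1566, 228), (1015, 0, 2906, 210), (991, 2, 588, 225), (3598, 2, 614, 228), (2417, 0, 3156, 216), (2417, 2, 3225, 228), (2280, 2, 2472, 198), (1097, 0, 3391, 198), (1097, 2, 3058, 210), (714, 1, 1551, 201), (657, 0, 1989, 228), (657, 2, 1179, 201), (2903, 0, 770, 228), (970, 1, 3609, 210), (970, 2, 2298, 198), (1274, 0, 847, 225), (1274, 1, 2228, 216), (1274, 2, 3791, 216), (2567, 0, 1203, 201), (1632, 0, 2538, 225), (1632, 1, 2481, 210), (1632, 2, 3792, 225), (695, 0, 2343, 198), (3052, 1, 1924, 216), (3052, 2, 3117, 216), (736, 0, 2889, 216), (736, 1, 1210, 225), (2902, 1, 1654, 216), (2902, 2, 1103, 228), (1909, 0, 1670, 201), (1909, 1, 3057, 198), (1909, 2, 2066, 228), (2108, 0, 1685, 225), (1394, 1, 1965, 201), (1394, 2, 3617, 198), (1395, 0, 2443, 201), (1395, 1, 913, 216), (732, 1, 2937, 210), (1996, 1, 1599, 216), (1996, 2, 851, 216), (3644, 0, 3457, 216), (3644,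 1, 737, 225), (3644, 2, 3094, 210), (3301, 0, 3496, 201), (820, 1, 1677, 198), (820, 2, 1416, 198), (2295, 0, 924, 225), (2295, 1, 3316, 201), (2295, 2, 1795, 225), (3092, 0, 2411, 201), (3595, 1, 2040, 210), (3595, 2, 3747, 216), (1221, 0, 1498, 198), (1221, 1, 1983, 210), (1221, 2, 1073, 216), (2545, 0, 3578, 198), (3702, 1, 3411, 216), (3702, 2, 3152, 228), (2456, 0, 3767, 210), (2456, 1, 3610, 225), (2456, 2, 2963, 228), (3207, 0, 1441, 216), (3239, 1, 1637, 210), (3239, 2, 1396, 198), (1875, 0, 3174, 198), (1875, 1, 2926, 225), (1875, 2, 2881, 210), (2945, 0, 840, 216), (3549, 1, 3243, 198), (3549, 2, 3520, 216), (1341, 0, 1981, 210), (1341, 1, 3296, 228), (1341, 2, 2608, 228), (849, 0, 2305, 198), (1459, 1, 1029, 225), (1459, 2, 1683, 216), (2820, 0, 2156, 210), (2820, 1, 853, 228), (2820, 2, 2983, 225), (1745, 0, 1081, 228), (2554, 1, 1025, 210), (2554, 2, 2638, 210), (2821, 0, 2029, 210), (2821, 1, 3631, 201), (2821, 2, 1570, 225), (3392, 0, 1767, 228), (1517, 1,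 3466, 225), (1517, 2, 1831, 228), (1892, 0, 2884, 210), (1892, 1, 1358, 216), (1892, 2, 2024, 228), (1868, 0, 1465, 198), (3518, 1, 1009, 210), (3518, 2, 3667, 228), (2639, 0, 2455, 228), (2639, 1, 3502, 201), (1043, 1, 3625, 216), (1182, 1, 2391, 225), (3187, 1, 1688, 216), (3187, 2, 2928, 201), (1836, 0, 2859, 216), (1836, 1, 2254, 201), (1836, 2, 3032, 201), (1884, 0, 1299, 198), (2653, 1, 2518, 210), (3507, 0, 1313, 198), (3507, 2, 3426, 210), (2637, 0, 2316, 201), (3521, 2, 1849, 201), (1423, 1, 3713, 198), (1423, 2, 3589, 201), (3358, 0, 3554, 228), (3358, 1, 1828, 201), (2726, 2, 2419, 198), (2964, 1, 3538, 210), (14, 2, 1499, 216), (1062, 0, 3586, 228), (1062, 1, 2475, 198), (1062, 2, 2286, 198), (3179, 0, 1953, 210), (3659, 2, 799, 198), (1401, 2, 3, 216), (4, 0, 3524, 198), (4, 1, 2112, 198), (4, 2, 3356, 228), (2004, 0, 322, 216), (3163, 2, 360, 225), (5, 0, 1435, 201), (5, 1, 2291, 225), (5, 2, 7, 198), (3449, 0, 3506, 216), (290, 2, 499, 210), (2380, 0, 3377,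 228), (2380, 1, 2958, 201), (2380, 2, 957, 225), (3469, 0, 3010, 210), (2768, 2, 2709, 225), (167, 0, 1424, 225), (167, 1, 3068, 210), (167, 2, 1146, 198), (1920, 0, 8, 216), (782, 2, 733, 216), (3237, 0, 1231, 216), (3237, 1, 305, 201), (3237, 2, 659, 225), (3531, 0, 1957, 210), (3593, 2, 3440, 216), (1536, 0, 884, 216), (1536, 1, 283, 216), (1536, 2, 476, 216), (11, 0, 3389, 228), (634, 2, 527, 225), (1376, 0, 2483, 228), (1376, 2, 389, 210), (2028, 0, 3697, 210), (2028, 1, 2742, 216)]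

/-- Steps. -/
def rows15_9 : List (ℕ × ℕ × ℕ × ℕ) := [(2028, 2, 1597, 216), (1295, 0, 813, 225), (2698, 2, 13, 225), (2067, 0, 843, 228), (2067, 1, 1682, 210), (2067, 2, 523, 225), (3632, 0, 776, 216), (3413, 2, 1954, 228), (2354, 0, 17, 225), (2354, 1, 2803, 201), (2354, 2, 1304, 216), (906, 0, 2216, 216), (1447, 2, 3181, 201), (3564, 0, 1017, 201), (3564, 1, 3583, 210), (3564, 2, 2517, 198), (1925, 0, 3043, 198), (1493, 2, 1652, 228), (3590, 0, 3112, 198), (3590, 1, 600, 201), (3590, 2, 2524, 198), (3773, 0, 2454, 228), (2707, 2, 887, 228), (71, 2, 333, 201), (3746, 0, 1053, 210), (3746, 1, 124, 201), (3746, 2, 1622, 201), (22, 0, 3035, 198), (1076, 2, 2001, 210), (23, 0, 314, 228), (759, 0, 2700, 228), (759, 1, 978, 201), (759, 2, 2739, 210), (2405, 0, 1861, 228), (3222, 2, 1283, 216), (898, 0, 1251, 216), (898, 1, 1772, 198), (898, 2, 25, 201), (646, 0, 2099, 216), (1118, 2, 1207, 210), (502, 0, 685, 216), (502, 1, 2430, 210), (502, 2, 2609, 210), (26, 0, 2378, 228),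 (232, 2, 3136, 210), (1234, 0, 3641, 216), (1234, 1, 3487, 201), (1234, 2, 1663, 228), (1064, 0, 2949, 210), (3491, 2, 2846, 216), (468, 0, 3509, 198), (468, 1, 1576, 201), (468, 2, 1890, 216), (28, 0, 3543, 210), (1609, 2, 876, 225), (323, 0, 534, 225), (323, 1, 586, 198), (323, 2, 2190, 228), (1649, 0, 777, 201), (974, 2, 1282, 210), (2733, 0, 1362, 228), (2733, 1, 412, 201), (2733, 2, 111, 225), (3001, 0, 3766, 210), (2844, 2, 823, 228), (1204, 0, 650, 216), (1204, 1, 2712, 201), (1204, 2, 1779, 216), (1718, 0, 1858, 228), (1572, 2, 3208, 198), (32, 0, 1154, 228), (32, 1, 1300, 216), (32, 2, 3556, 201), (3396, 0, 2183, 198), (538, 2, 243, 225), (2940, 0, 1397, 201), (2940, 1, 33, 228), (2940, 2, 1715, 201), (2449, 0, 2777, 201), (2632, 2, 411, 201), (492, 0, 1054, 210), (492, 1, 2697, 210), (492, 2, 2525, 216), (1366, 0, 1845, 228), (837, 2, 267, 210), (35, 0, 1260, 198), (35, 1, 2323, 210), (35, 2, 3215, 216), (3621, 0, 2826, 216), (899, 2, 3575, 228), (1966, 0, 2447,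 201), (1966, 1, 2348, 201), (1966, 2, 36, 198), (3489, 0, 3192, 201), (2146, 2, 443, 198), (3037, 0, 1941, 216), (3037, 1, 996, 228), (3037, 2, 38, 210), (2738, 0, 73, 201), (656, 2, 2652, 201), (3341, 0, 3170, 225), (3341, 1, 1021, 198), (3341, 2, 2598, 210), (1864, 0, 378, 210), (2839, 2, 1552, 225), (2179, 0, 3605, 201), (2179, 1, 1460, 210), (2179, 2, 177, 210), (1051, 0, 1560, 210), (79, 2, 3250, 225), (1458, 0, 839, 201), (1458, 1, 2927, 228), (1458, 2, 2537, 216), (2034, 0, 701, 225), (3135, 2, 1410, 198), (2270, 2, 1012, 198), (735, 0, 3276, 225), (735, 1, 1297, 228), (735, 2, 1729, 210), (46, 0, 3786, 228), (1950, 2, 2779, 216), (1114, 0, 912, 228), (1114, 1, 3695, 198), (1114, 2, 1131, 198), (3346, 0, 129, 225), (1315, 2, 3672, 228), (48, 0, 2804, 228), (48, 1, 1603, 210), (48, 2, 1242, 216), (1099, 0, 3142, 201), (3498, 2, 1809, 225), (2644, 0, 1798, 198), (2644, 1, 379, 228), (2644, 2, 364, 228), (654, 0, 3737, 198), (2611, 2, 2527, 225), (1725, 0, 1130, 210),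 (1725, 1, 1175, 198), (1725, 2, 1277, 216), (3264, 0, 3393, 228), (1776, 2, 2425, 210), (1345, 0, 135, 225), (1345, 1, 2103, 228), (1345, 2, 1594, 198), (2392, 0, 3046, 228), (919, 2, 51, 201), (579, 0, 2033, 201), (579, 1, 2763, 210), (579, 2, 52, 198), (979, 0, 1616, 225), (2797, 2, 1305, 198), (2466, 0, 3628, 201), (2466, 1, 130, 216), (2466, 2, 454, 198), (1888, 0, 284, 225), (2818, 2, 1286, 198), (766, 0, 3643, 225), (766, 1, 117, 201), (766, 2, 2849, 201), (3154, 0, 1984, 216), (1964, 2, 54, 201), (55, 2, 3245, 210), (1126, 2, 556, 210), (2728, 0, 2621, 210), (2728, 1, 1093, 216), (2728, 2, 2357, 225), (2199, 0, 2289, 216), (3097, 2, 438, 198), (59, 0, 1290, 228), (59, 1, 528, 210), (59, 2, 205, 198), (709, 0, 2812, 225), (1701, 2, 74, 216), (3145, 0, 1775, 198), (3145, 1, 2219, 198), (3145, 2, 2260, 198), (60, 0, 102, 225), (920, 2, 3775, 228), (1150, 0, 1046, 228), (1150, 1, 1414, 216), (1150, 2, 2097, 210), (3360, 0, 2966, 201), (1067, 2, 61, 201), (1388, 0, 3674,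 216), (1388, 1, 3503, 225), (1388, 2, 1848, 210), (512, 0, 2180, 216), (1250, 2, 761, 201), (576, 0, 2255, 216), (576, 1, 2809, 210), (576, 2, 1212, 201), (1708, 0, 1110, 198), (1687, 2, 64, 228), (720, 0, 3404, 225), (720, 1, 3677, 216), (720, 2, 515, 216), (2339, 0, 722, 198), (504, 2, 286, 225), (166, 0, 244, 216), (166, 1, 1464, 228), (166, 2, 457, 210), (120, 0, 2717, 216), (2667, 2, 212, 216), (1788, 0, 2127, 225), (1788, 1, 2834, 228), (1788, 2, 3664, 201), (2176, 0, 1936, 210), (67, 2, 696, 216), (1486, 0, 1676, 228), (1486, 1, 2690, 198), (1486, 2, 519, 225), (68, 0, 3172, 225), (580, 2, 456, 210), (749, 0, 2195, 225), (749, 1, 2930, 228), (749, 2, 280, 225), (1453, 0, 3150, 228), (1796, 2, 2503, 225), (1811, 2, 2599, 216), (2547, 0, 1083, 198), (2547, 1, 2043, 210), (2547, 2, 2037, 210), (76, 0, 3161, 198), (1352, 2, 1136, 216), (768, 0, 3615, 216), (768, 1, 464, 228), (768, 2, 1267, 201), (1876, 0, 77, 198), (1885, 2, 1293, 225), (3714, 0, 2320, 225), (3714, 1,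 3188, 198), (3714, 2, 3729, 228), (2376, 0, 2468, 210), (1431, 2, 3364, 228), (361, 0, 2209, 228), (361, 1, 3015, 198), (361, 2, 491, 198), (3113, 0, 1080, 216), (1792, 2, 158, 198), (1421, 0, 480, 201), (1504, 0, 1546, 225), (1504, 1, 1937, 228), (1504, 2, 453, 201), (2170, 0, 891, 198), (1470, 2, 2691, 225), (525, 0, 1555, 216), (525, 1, 1363, 201), (525, 2, 1122, 198), (426, 0, 1585, 225), (672, 2, 145, 225)]

/-- Steps. -/
def rows15_10 : List (ℕ × ℕ × ℕ × ℕ) := [(2982, 0, 3446, 198), (2982, 1, 1604, 216), (2982, 2, 209, 216), (2845, 0, 213, 216), (3033, 2, 2629, 225), (301, 0, 2448, 216), (301, 1, 87, 225), (301, 2, 2022, 198), (1457, 0, 3533, 198), (2714, 2, 328, 216), (88, 0, 2384, 225), (88, 1, 1834, 216), (88, 2, 2755, 210), (729, 0, 2304, 198), (2869, 2, 2177, 198), (961, 0, 134, 198), (961, 1, 807, 210), (961, 2, 1944, 228), (2593, 0, 3242, 216), (1071, 2, 648, 228), (1623, 0, 3504, 201), (1623, 1, 3345, 198), (1623, 2, 2515, 216), (3204, 0, 1595, 198), (3470,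 2, 2872, 216), (1913, 0, 190, 216), (1913, 1, 95, 228), (1913, 2, 417, 225), (1750, 0, 3734, 216), (2072, 2, 452, 210), (3340, 0, 3579, 201), (3340, 1, 1022, 228), (3340, 2, 397, 225), (923, 0, 2878, 210), (1880, 2, 107, 198), (2389, 0, 3783, 210), (2389, 1, 795, 228), (2389, 2, 3203, 228), (3064, 0, 2782, 228), (3727, 2, 1357, 216), (1626, 0, 324, 198), (1626, 1, 310, 228), (1626, 2, 1170, 198), (1023, 0, 2624, 210), (3666, 2, 1956, 198), (1028, 0, 3620, 225), (1028, 1, 3698, 225), (1028, 2, 2863, 210), (278, 0, 1087, 210), (3178, 2, 577, 201), (149, 0, 854, 210), (149, 1, 2498, 228), (149, 2, 2685, 228), (3616, 0, 2874, 210), (1069, 2, 101, 228), (1739, 0, 2092, 210), (1739, 1, 1115, 198), (1739, 2, 3528, 225), (612, 0, 882, 198), (189, 2, 1540, 225), (622, 0, 2158, 216), (622, 1, 950, 210), (622, 2, 2737, 216), (439, 0, 2750, 210), (1344, 2, 2032, 198), (2736, 0, 3263, 225), (2736, 1, 105, 210), (2736, 2, 1985, 216), (1910, 0, 3302, 201), (2211, 2, 1089, 210), (3512,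 0, 712, 210), (3512, 1, 382, 225), (3512, 2, 1829, 225), (421, 0, 942, 201), (1413, 2, 2479, 216), (2541, 0, 110, 228), (2541, 1, 645, 198), (2541, 2, 933, 216), (357, 0, 1213, 198), (140, 2, 3199, 216), (484, 0, 112, 198), (484, 1, 1024, 216), (484, 2, 1225, 228), (1296, 0, 3559, 201), (845, 2, 1399, 198), (2979, 0, 1035, 228), (2979, 1, 1859, 228), (2979, 2, 299, 210), (1007, 0, 905, 216), (3681, 2, 113, 216), (1854, 0, 1754, 216), (1854, 1, 1072, 228), (1854, 2, 3198, 201), (2358, 0, 2265, 210), (474, 2, 1590, 201), (2415, 0, 878, 225), (2415, 1, 1162, 198), (2415, 2, 3297, 228), (2787, 0, 3019, 216), (2132, 2, 3186, 201), (3650, 0, 2987, 228), (3650, 1, 897, 201), (3650, 2, 3685, 228), (2330, 0, 3725, 216), (2055, 2, 279, 225), (3587, 0, 784, 225), (3587, 1, 1249, 225), (3587, 2, 3367, 198), (1938, 0, 2854, 225), (2409, 2, 3670, 216), (706, 0, 3485, 225), (706, 1, 1354, 225), (706, 2, 1518, 225), (2781, 0, 3104, 216), (2533, 2, 1045, 201), (2888, 0, 3366, 228), (2888,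 1, 1487, 210), (2888, 2, 1691, 216), (3100, 0, 3384, 216), (1040, 2, 993, 210), (2227, 0, 3600, 216), (2227, 1, 3012, 225), (2227, 2, 125, 228), (2035, 0, 2807, 198), (335, 2, 1079, 201), (2899, 0, 1049, 201), (2899, 1, 1167, 228), (2899, 2, 1218, 198), (2965, 0, 3361, 225), (2553, 2, 1789, 228), (1600, 0, 3574, 201), (1600, 1, 2767, 228), (1600, 2, 1773, 216), (3573, 0, 775, 228), (3408, 2, 751, 201), (2086, 0, 132, 201), (2086, 1, 2082, 198), (2086, 2, 507, 210), (407, 0, 2713, 198), (2366, 2, 2279, 210), (2050, 0, 1932, 210), (2050, 1, 1922, 210), (2050, 2, 182, 210), (2555, 0, 3627, 210), (233, 2, 400, 198), (247, 0, 136, 198), (247, 1, 3463, 210), (247, 2, 1976, 216), (268, 0, 3042, 201), (2914, 2, 273, 210), (575, 0, 2256, 216), (575, 1, 1657, 228), (575, 2, 2106, 201), (1316, 0, 2334, 225), (988, 2, 137, 216), (2663, 0, 138, 198), (2663, 1, 1105, 198), (2663, 2, 2178, 210), (2214, 0, 3228, 228), (2560, 2, 3359, 201), (139, 0, 601, 216), (139, 1, 1311, 201), (139,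 2, 1769, 198), (1360, 0, 1116, 225), (1060, 2, 3372, 198), (141, 0, 3386, 210), (141, 1, 2292, 201), (141, 2, 1766, 210), (566, 0, 473, 216), (2224, 2, 3147, 201), (1030, 0, 780, 210), (1030, 1, 1481, 225), (1030, 2, 1495, 216), (1606, 0, 142, 216), (3430, 2, 1847, 198), (1887, 0, 856, 225), (1887, 1, 3107, 198), (1887, 2, 1505, 198), (2424, 0, 1747, 228), (3429, 2, 1202, 201), (276, 0, 2531, 216), (276, 1, 1653, 216), (276, 2, 200, 225), (2075, 0, 935, 198), (553, 2, 1867, 225), (742, 0, 2681, 210), (742, 1, 2309, 216), (742, 2, 2532, 210), (1866, 0, 147, 216), (2650, 2, 3088, 225), (3065, 0, 2626, 228), (3065, 1, 148, 216), (3065, 2, 2073, 216), (172, 0, 3661, 225), (330, 2, 2046, 201), (2155, 0, 2901, 216), (2155, 1, 1000, 210), (2155, 2, 604, 228), (2996, 0, 1456, 216), (2370, 2, 3394, 198), (2776, 0, 1628, 228), (2776, 1, 830, 216), (2776, 2, 3510, 201), (3422, 0, 153, 228), (1365, 2, 2139, 228), (3715, 0, 2394, 216), (3715, 1, 3219, 210), (3715, 2, 2231, 198), (2049,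 0, 1140, 201), (3262, 2, 3202, 225), (3768, 0, 2363, 225), (3768, 1, 2952, 210), (3768, 2, 2159, 198), (3298, 0, 743, 210), (3132, 2, 2408, 216), (998, 0, 852, 216), (998, 1, 240, 198), (998, 2, 1075, 201), (3118, 0, 2100, 225), (2625, 2, 2400, 210), (2011, 0, 3599, 225), (2011, 1, 643, 228), (2011, 2, 1793, 216), (2325, 0, 1542, 225), (2557, 2, 1557, 225), (3728, 0, 1119, 210), (1605, 0, 1642, 198), (1605, 1, 202, 228), (1605, 2, 2723, 198), (2387, 0, 3716, 210), (2167, 2, 2679, 198), (1484, 0, 3265, 210), (1484, 1, 1466, 210), (1484, 2, 2238, 228), (1933, 0, 694, 201), (3425, 2, 3784, 198), (3642, 0, 1197, 198), (3642, 1, 2606, 198), (3642, 2, 3106, 225), (1151, 0, 1158, 228), (1724, 2, 716, 216), (1704, 0, 1539, 201), (1704, 1, 3119, 210), (1704, 2, 1994, 201), (680, 0, 2696, 216), (3597, 2, 3455, 228), (788, 0, 571, 225), (788, 1, 3373, 201), (788, 2, 2396, 210), (2882, 0, 1186, 216)]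

/-- Steps. -/
def rows15_11 : List (ℕ × ℕ × ℕ × ℕ) := [(2006, 2, 3105, 228), (3218, 0, 1405, 228), (3218, 2, 170, 201), (3307, 0, 173, 228), (3307, 1, 2939, 198), (3307, 2, 3319, 198), (1948, 0, 2206, 201), (3719, 2, 2140, 216), (1851, 0, 529, 198), (1851, 1, 3291, 228), (1851, 2, 2800, 198), (2912, 0, 1280, 216), (956, 2, 1038, 210), (1467, 0, 2221, 225), (1467, 1, 1860, 225), (1467, 2, 1321, 225), (810, 0, 2350, 210), (178, 2, 915, 201), (1262, 0, 678, 225), (1262, 1, 179, 210), (1262, 2, 1468, 228), (2867, 0, 363, 201), (896, 2, 304, 210), (2088, 0, 550, 216), (2088, 1, 3660, 228), (2088, 2, 552, 225), (2374, 0, 1057, 228), (181, 2, 1241, 210), (238, 0, 2756, 225), (238, 1, 1749, 210), (238, 2, 1558, 228), (2521, 0, 1722, 198), (451, 2, 184, 228), (593, 0, 3375, 228), (593, 1, 1799, 210), (593, 2, 3056, 225), (1437, 0, 1164, 201), (185, 2, 569, 225), (2764, 0, 1738, 201), (2764, 1, 1581, 201), (2764, 2, 277, 198), (186, 0, 3160, 225), (199, 2, 3561, 210), (291, 0, 1347,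 225), (291, 1, 3438, 216), (291, 2, 188, 198), (1801, 0, 606, 198), (2379, 2, 3751, 198), (2266, 0, 3061, 201), (2266, 1, 2352, 228), (2266, 2, 191, 216), (682, 0, 3168, 228), (348, 2, 3333, 228), (2588, 0, 2328, 210), (2588, 1, 2695, 201), (2588, 2, 1958, 228), (458, 0, 1526, 201), (487, 2, 911, 198), (204, 0, 1191, 210), (204, 1, 1644, 210), (204, 2, 3479, 210), (1190, 0, 440, 210), (2385, 2, 1254, 225), (2147, 0, 3095, 201), (2147, 1, 846, 198), (2147, 2, 2351, 201), (195, 0, 3182, 210), (664, 2, 1425, 216), (196, 0, 2030, 216), (2976, 2, 1843, 225), (1755, 0, 2917, 210), (1755, 1, 321, 228), (1755, 2, 409, 228), (2124, 0, 3317, 228), (198, 2, 868, 225), (1059, 0, 1152, 225), (1059, 1, 1002, 210), (1059, 2, 3622, 225), (201, 0, 2207, 228), (3002, 2, 2125, 216), (1143, 0, 2634, 210), (1143, 1, 755, 201), (1143, 2, 2240, 225), (3471, 0, 3248, 228), (344, 2, 2603, 201), (1535, 0, 1174, 201), (1535, 1, 1490, 216), (1535, 2, 2752, 201), (590, 0, 3760, 216), (3146, 2, 1533,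 201), (505, 0, 3325, 225), (505, 1, 1391, 216), (505, 2, 1812, 210), (1390, 0, 779, 216), (2198, 2, 3124, 201), (885, 0, 2942, 198), (885, 1, 2692, 216), (885, 2, 2959, 216), (1188, 0, 1063, 201), (3284, 2, 1446, 216), (210, 0, 2727, 201), (210, 1, 3300, 201), (210, 2, 1168, 228), (939, 0, 1947, 201), (1883, 2, 599, 201), (1323, 0, 2950, 201), (1323, 1, 948, 201), (1323, 2, 1047, 228), (879, 0, 2360, 225), (2047, 2, 211, 216), (1244, 0, 509, 216), (1244, 1, 1943, 228), (1244, 2, 497, 198), (2569, 0, 3116, 198), (217, 2, 338, 225), (2986, 0, 665, 210), (2986, 1, 2573, 210), (2986, 2, 218, 210), (1830, 0, 2760, 225), (699, 2, 2799, 216), (2332, 0, 1326, 228), (2332, 1, 2017, 201), (2332, 2, 1529, 198), (2340, 0, 373, 201), (1671, 2, 2516, 228), (220, 0, 545, 201), (220, 1, 2403, 210), (220, 2, 396, 201), (2670, 0, 1717, 216), (726, 2, 1699, 216), (1967, 0, 1381, 216), (1967, 1, 3724, 225), (1967, 2, 1370, 225), (1371, 0, 3254, 216), (1117, 2, 2130, 228), (225, 0, 1651, 228),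 (225, 1, 3669, 198), (225, 2, 940, 201), (2590, 0, 2513, 216), (2002, 2, 2457, 210), (1904, 0, 1614, 201), (1904, 1, 3282, 201), (1904, 2, 1930, 210), (2349, 0, 2716, 201), (3110, 2, 1908, 216), (3688, 0, 3063, 198), (3688, 1, 2423, 201), (3688, 2, 1217, 225), (387, 0, 2858, 216), (1157, 2, 2356, 198), (3409, 0, 1165, 210), (3409, 1, 235, 210), (3409, 2, 2364, 225), (2410, 0, 3310, 198), (2828, 2, 2327, 216), (565, 0, 744, 201), (565, 1, 1256, 198), (565, 2, 1266, 225), (1061, 0, 914, 228), (385, 2, 1786, 225), (1634, 0, 2044, 198), (1634, 1, 2478, 201), (1634, 2, 3717, 225), (740, 0, 2921, 210), (274, 2, 3745, 198), (2775, 0, 943, 225), (2775, 1, 3352, 228), (2775, 2, 1661, 201), (2631, 0, 258, 210), (1758, 2, 245, 228), (2212, 0, 3009, 216), (2212, 1, 246, 198), (2212, 2, 1169, 210), (3304, 0, 2722, 198), (968, 2, 1963, 198), (1377, 0, 1163, 216), (1377, 1, 1161, 225), (1377, 2, 2059, 201), (1744, 0, 1279, 228), (248, 2, 1095, 225), (2205, 0, 778, 225), (2205, 1, 1082,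 216), (2205, 2, 3691, 201), (1020, 0, 2153, 216), (639, 2, 3613, 198), (3251, 2, 938, 210), (471, 0, 376, 228), (471, 1, 1078, 201), (471, 2, 3633, 201), (800, 0, 257, 210), (557, 2, 1746, 225), (2730, 0, 2564, 198), (2730, 1, 2905, 210), (2730, 2, 2174, 201), (3619, 0, 3591, 225), (272, 2, 1048, 228), (1301, 0, 2401, 201), (1301, 1, 1324, 225), (1301, 2, 2102, 201), (758, 0, 261, 216), (2536, 2, 1127, 228), (1949, 0, 2263, 228), (1949, 1, 1914, 225), (1949, 2, 2913, 198), (2674, 0, 658, 198), (3312, 2, 3785, 210), (1042, 0, 516, 198), (1042, 1, 3066, 216), (1042, 2, 2786, 201), (2345, 0, 3039, 225), (3680, 2, 2052, 216), (405, 0, 2951, 225), (405, 1, 3083, 201), (405, 2, 1730, 216), (2991, 0, 3497, 198), (1980, 2, 921, 228), (1870, 0, 1728, 198), (1870, 1, 3750, 210), (1870, 2, 2014, 198), (1586, 0, 1317, 210), (2442, 2, 1255, 198), (2817, 0, 1411, 201), (2817, 1, 1633, 198), (2817, 2, 1751, 225), (2076, 0, 2708, 198), (765, 2, 270, 198), (713, 0, 791, 210), (713, 1, 275,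 198), (713, 2, 2113, 216), (2911, 0, 3793, 216), (2904, 2, 1482, 201), (2856, 0, 2084, 210), (2856, 1, 2491, 216), (2856, 2, 3427, 201), (602, 0, 871, 216), (493, 2, 1970, 228), (1355, 0, 3761, 201), (1355, 1, 2230, 210), (1355, 2, 3432, 198), (282, 0, 1806, 216), (3709, 2, 3779, 225), (2492, 0, 446, 225), (2492, 1, 1863, 228), (2492, 2, 470, 201), (2421, 0, 2855, 225), (498, 2, 427, 210), (3176, 0, 1109, 210), (3176, 1, 3584, 198), (3176, 2, 2702, 210), (2526, 0, 460, 201)]

/-- Steps. -/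
def rows15_12 : List (ℕ × ℕ × ℕ × ℕ) := [(1684, 2, 990, 228), (3115, 0, 2450, 201), (3115, 1, 635, 210), (3115, 2, 2194, 198), (3635, 0, 2009, 228), (1303, 2, 1895, 210), (2822, 0, 1660, 198), (2822, 1, 293, 210), (2822, 2, 2402, 210), (2143, 0, 617, 225), (3054, 2, 1223, 225), (1805, 0, 1147, 201), (1805, 1, 3279, 225), (1805, 2, 294, 210), (3527, 0, 2974, 198), (1641, 2, 2924, 210), (2851, 0, 1434, 201), (2851, 1, 2785, 216), (2851, 2, 964, 198), (352, 0, 3461, 210), (307, 2, 3287, 216), (2529, 0, 1037, 210), (2529, 1, 1561, 225), (2529, 2, 1719, 201), (1132, 0, 308, 198), (2566, 2, 1905, 216), (1544, 0, 2269, 198), (1544, 1, 2487, 210), (1544, 2, 2772, 216), (2574, 0, 3654, 198), (346, 2, 3280, 198), (2938, 0, 2693, 201), (2938, 1, 3723, 201), (2938, 2, 312, 216), (1368, 0, 2246, 201), (1058, 2, 2321, 216), (907, 0, 3505, 228), (907, 1, 3385, 216), (907, 2, 958, 198), (3790, 0, 2780, 210), (2618, 2, 320, 228), (929, 0, 1189, 201), (929, 1, 536, 210), (929, 2, 2623, 216),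 (2434, 0, 327, 228), (2137, 2, 2312, 216), (2485, 0, 331, 228), (2485, 1, 3005, 201), (2485, 2, 1574, 225), (1975, 0, 2628, 225), (2241, 2, 2561, 228), (3157, 0, 1740, 198), (3157, 1, 928, 225), (3157, 2, 844, 210), (797, 0, 3184, 225), (3169, 2, 1173, 228), (3062, 0, 334, 216), (3062, 1, 1820, 210), (3062, 2, 3788, 210), (2484, 0, 3572, 228), (2539, 2, 3696, 216), (2661, 0, 1783, 201), (2661, 1, 337, 210), (2661, 2, 3443, 201), (3055, 0, 1230, 225), (2591, 2, 1507, 225), (3227, 0, 3580, 225), (3227, 1, 2967, 198), (3227, 2, 798, 198), (2189, 0, 1916, 210), (641, 2, 3180, 198), (1819, 0, 3712, 198), (1819, 1, 1068, 228), (1819, 2, 2704, 228), (345, 0, 2042, 210), (3707, 2, 2740, 210), (764, 0, 359, 225), (764, 1, 1968, 201), (764, 2, 1666, 228), (3338, 0, 718, 225), (829, 2, 3526, 216), (2645, 0, 2341, 210), (2645, 1, 2234, 198), (2645, 2, 365, 216), (1513, 0, 1439, 198), (901, 2, 2061, 216), (366, 0, 1008, 228), (366, 1, 3565, 198), (366, 2, 3447, 216), (1034, 0, 2866,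 225), (1756, 2, 615, 201), (3347, 0, 3706, 225), (3347, 1, 1426, 210), (3347, 2, 1259, 201), (1298, 0, 2299, 198), (1665, 2, 406, 225), (2390, 0, 796, 225), (2390, 1, 2596, 228), (2390, 2, 1857, 198), (2101, 0, 2684, 198), (2725, 2, 2808, 198), (2992, 0, 595, 225), (2992, 1, 3231, 198), (2992, 2, 584, 201), (2243, 0, 836, 225), (2955, 2, 2184, 201), (530, 0, 3233, 225), (530, 1, 1716, 198), (530, 2, 1065, 228), (1501, 0, 2883, 210), (2677, 2, 2275, 201), (2236, 0, 1686, 198), (2762, 0, 3563, 216), (671, 0, 932, 216), (886, 0, 3576, 201), (886, 1, 2187, 228), (886, 2, 3379, 225), (746, 0, 3021, 201), (3093, 2, 1532, 201), (402, 0, 3073, 225), (402, 1, 3467, 228), (402, 2, 1972, 225), (3569, 0, 633, 198), (1846, 2, 2860, 228), (1790, 0, 2026, 201), (1790, 1, 3125, 210), (1790, 2, 3540, 225), (408, 0, 1621, 216), (3144, 2, 3217, 198), (2079, 0, 410, 225), (2079, 1, 3602, 228), (2079, 2, 715, 201), (1238, 0, 2522, 228), (503, 2, 1998, 210), (1273, 0, 2414, 228), (1273, 1, 833,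 216), (1273, 2, 827, 228), (415, 0, 3539, 201), (705, 2, 1923, 225), (420, 2, 1833, 201), (3383, 0, 2615, 216), (3383, 1, 1055, 225), (3383, 2, 965, 225), (3241, 0, 1901, 228), (1990, 2, 1314, 225), (2743, 0, 3741, 198), (2743, 1, 1713, 198), (2743, 2, 3482, 210), (620, 0, 2694, 198), (1264, 2, 2314, 198), (2078, 0, 2126, 198), (2078, 1, 1702, 216), (2078, 2, 2324, 201), (2794, 0, 870, 216), (1193, 2, 1991, 225), (3210, 0, 435, 210), (2509, 0, 902, 225), (2509, 1, 1736, 210), (2509, 2, 3331, 201), (2568, 0, 3462, 228), (1201, 2, 2551, 201), (445, 2, 1839, 216), (3459, 0, 2790, 216), (3459, 1, 1066, 198), (3459, 2, 1640, 225), (2426, 0, 2395, 228), (904, 2, 2381, 210), (1239, 2, 1732, 198), (3272, 0, 2502, 225), (3272, 2, 472, 228), (1873, 0, 1198, 210), (1873, 1, 1862, 225), (1873, 2, 806, 201), (2077, 0, 2460, 216), (2920, 2, 479, 198), (1620, 0, 2823, 225), (2788, 0, 2377, 225), (2788, 1, 3044, 201), (2788, 2, 1006, 201), (3780, 0, 3177, 225), (910, 2, 494, 201), (855,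 0, 2675, 225), (855, 1, 3151, 210), (855, 2, 3460, 225), (1774, 0, 625, 228), (496, 2, 954, 216), (596, 0, 3733, 216), (596, 1, 2063, 210), (596, 2, 3645, 210), (2544, 0, 1803, 216), (3738, 2, 3247, 210), (2721, 0, 3277, 216), (2721, 2, 3076, 201), (3428, 0, 1014, 201), (3428, 1, 2494, 198), (3428, 2, 2283, 198), (3553, 0, 1727, 228), (753, 2, 2369, 225), (2489, 0, 1919, 228), (2489, 1, 1508, 225), (2489, 2, 3662, 198), (2686, 0, 2960, 210), (3350, 2, 626, 216), (1978, 2, 2480, 201), (3439, 0, 1987, 201), (1275, 0, 1942, 210), (1275, 1, 2271, 210), (1275, 2, 1547, 210), (1807, 0, 2802, 225), (1428, 2, 1121, 210), (1915, 0, 609, 198), (1915, 1, 1091, 228), (1915, 2, 1584, 210), (611, 0, 2636, 198), (3637, 2, 894, 228), (2897, 0, 1785, 201), (2897, 1, 1148, 210), (2897, 2, 1700, 216), (2719, 0, 1977, 201), (1331, 2, 3673, 210), (3098, 0, 1520, 228), (3098, 1, 2662, 228), (3098, 2, 2761, 198), (1246, 0, 1726, 225), (3488, 2, 2825, 201), (568, 0, 2200, 201), (3555, 0, 3293,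 201), (3555, 1, 2258, 228), (3555, 2, 3629, 225), (3755, 0, 2549, 210), (2792, 2, 587, 198), (614, 0, 1678, 201), (2472, 0, 624, 198), (3609, 0, 918, 225), (3609, 1, 883, 225), (3609, 2, 2678, 216), (2298, 0, 687, 201), (847, 2, 2115, 228), (2538, 2, 2458, 210), (1924, 0, 3500, 228), (1654, 0, 2622, 198), (1654, 1, 3772, 216), (1654, 2, 1027, 225), (1103, 0, 3547, 201), (1670, 2, 1149, 228), (1965, 0, 721, 198), (1599, 0, 1673, 201), (1599, 1, 3398, 228), (1599, 2, 1752, 210), (851, 0, 2886, 225)]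

/-- Steps. -/
def rows15_13 : List (ℕ × ℕ × ℕ × ℕ) := [(3457, 2, 2507, 201), (1677, 0, 2572, 198), (1677, 1, 2445, 201), (1677, 2, 2514, 228), (1416, 0, 1907, 228), (924, 2, 748, 210), (2040, 0, 1869, 198), (2040, 1, 3522, 228), (2040, 2, 1771, 198), (3747, 0, 1589, 225), (1498, 2, 3332, 225), (3411, 0, 3258, 201), (3411, 1, 3011, 198), (3411, 2, 2248, 201), (3152, 0, 786, 228), (3767, 2, 2595, 201), (1637, 0, 1945, 201), (1637, 1, 3763, 216), (1637, 2, 3292, 198), (1396, 0, 2774, 201), (3174, 2, 2571, 228), (3243, 0, 893, 210), (3243, 1, 3069, 225), (3243, 2, 3362, 210), (3520, 0, 1521, 216), (1981, 2, 1285, 225), (1029, 0, 2116, 228), (1029, 1, 2900, 201), (1029, 2, 2122, 210), (1683, 0, 3473, 216), (2156, 2, 1760, 201), (1025, 0, 2182, 198), (1025, 1, 2210, 198), (1025, 2, 3123, 198), (2638, 0, 1575, 201), (2029, 2, 1236, 228), (3466, 0, 1332, 216), (3466, 1, 1591, 225), (3466, 2, 3588, 210), (1831, 0, 1927, 228), (2884, 2, 3096, 198), (1009, 0, 1664, 228), (1688, 0,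 2699, 216), (1688, 1, 2885, 201), (1688, 2, 3483, 225), (2928, 0, 2420, 201), (2859, 2, 1349, 201), (3713, 0, 3655, 228), (3586, 2, 2, 210), (3524, 2, 756, 216), (1435, 2, 2789, 201), (3377, 2, 99, 216), (1424, 2, 2989, 228), (1231, 2, 1422, 201), (884, 2, 399, 201), (3697, 2, 2267, 216), (843, 2, 16, 198), (17, 2, 2556, 225), (1017, 2, 2056, 216), (3112, 2, 2490, 198), (1053, 2, 3450, 228), (2700, 2, 3137, 228), (1251, 2, 864, 201), (685, 2, 2336, 216), (3641, 2, 27, 201), (3509, 2, 3212, 198), (534, 2, 3380, 216), (1362, 2, 521, 210), (650, 2, 3682, 198), (1154, 2, 1827, 228), (1397, 2, 3657, 210), (1054, 2, 1777, 228), (1260, 2, 689, 210), (2447, 2, 56, 216), (1941, 2, 826, 216), (3170, 2, 3407, 210), (3605, 2, 1893, 228), (839, 2, 1556, 198), (3276, 2, 1442, 210), (912, 2, 2134, 225), (2804, 2, 3368, 225), (1798, 2, 2811, 201), (1130, 2, 50, 228), (135, 2, 228, 225), (2033, 2, 1489, 228), (3628, 2, 2972, 225), (3643, 2, 3532, 210), (2621, 2, 1562, 228), (1290, 2, 2954,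 198), (1775, 2, 297, 198), (1046, 2, 2923, 198), (3674, 2, 1810, 228), (2255, 2, 594, 216), (3404, 2, 3748, 198), (244, 2, 1330, 228), (2127, 2, 2718, 228), (1676, 2, 1509, 210), (2195, 2, 70, 210), (1083, 2, 975, 228), (3615, 2, 2185, 225), (2320, 2, 3013, 198), (2209, 2, 80, 198), (1546, 2, 1011, 216), (1555, 2, 84, 228), (3446, 2, 767, 216), (2448, 2, 3537, 210), (2384, 2, 949, 201), (134, 2, 708, 228), (3504, 2, 1247, 198), (190, 2, 1610, 228), (3579, 2, 2673, 216), (3783, 2, 3025, 201), (324, 2, 98, 201), (3620, 2, 465, 216), (854, 2, 789, 216), (2092, 2, 1506, 225), (2158, 2, 2148, 216), (3263, 2, 1141, 198), (712, 2, 3592, 210), (110, 2, 393, 198), (112, 2, 1850, 228), (1035, 2, 3023, 198), (1754, 2, 3424, 228), (878, 2, 616, 225), (2987, 2, 3388, 198), (784, 2, 934, 201), (3485, 2, 3028, 228), (3366, 2, 613, 198), (3600, 2, 2933, 198), (1049, 2, 3050, 228), (3574, 2, 3465, 228), (132, 2, 2587, 228), (1932, 2, 2274, 210), (136, 2, 3665, 210), (2256, 2, 2552, 216),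 (138, 2, 2833, 210), (601, 2, 1553, 201), (3386, 2, 675, 210), (780, 2, 2251, 198), (856, 2, 3322, 225), (2531, 2, 146, 228), (2681, 2, 2651, 225), (2626, 2, 1596, 201), (2901, 2, 236, 198), (1628, 2, 2307, 210), (2394, 2, 1369, 201), (2363, 2, 2071, 210), (852, 2, 2213, 210), (3599, 2, 1580, 198), (1642, 2, 2186, 228), (3265, 2, 162, 228), (1197, 2, 2753, 201), (1539, 2, 2053, 201), (571, 2, 1307, 225), (173, 2, 999, 198), (529, 2, 3567, 225), (2221, 2, 1710, 201), (678, 2, 482, 225), (550, 2, 2500, 216), (2756, 2, 3365, 225), (3375, 2, 430, 225), (1738, 2, 632, 210), (1347, 2, 1113, 198), (3061, 2, 2353, 201), (2328, 2, 863, 228), (1191, 2, 3101, 225), (3095, 2, 325, 198), (2917, 2, 3399, 198), (1152, 2, 1309, 210), (2634, 2, 2023, 216), (1174, 2, 3114, 216), (3325, 2, 1733, 210), (2942, 2, 2918, 201), (2727, 2, 564, 198), (2950, 2, 3041, 216), (509, 2, 2173, 225), (665, 2, 1183, 225), (1326, 2, 1443, 198), (545, 2, 2428, 216), (1381, 2, 3676, 210), (1651, 2, 1765, 225),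 (1614, 2, 2422, 201), (3063, 2, 3618, 225), (1165, 2, 981, 216), (744, 2, 3568, 228), (2044, 2, 2016, 225), (943, 2, 1617, 198), (3009, 2, 434, 198), (1163, 2, 3542, 216), (778, 2, 1492, 210), (376, 2, 2953, 210), (2564, 2, 3127, 225), (2401, 2, 578, 198), (2263, 2, 3128, 201), (516, 2, 2010, 201), (2951, 2, 265, 225), (1728, 2, 485, 216), (1411, 2, 3722, 225), (791, 2, 1383, 225), (2084, 2, 2548, 228), (3761, 2, 585, 201), (446, 2, 3086, 201), (1109, 2, 1004, 201), (2450, 2, 1281, 225), (1660, 2, 1480, 225), (1147, 2, 2898, 225), (1434, 2, 869, 201), (1037, 2, 2488, 201), (2269, 2, 3517, 228), (2693, 2, 3014, 201), (3505, 2, 677, 216), (1189, 2, 1180, 210), (331, 2, 3651, 198), (1740, 2, 582, 198), (334, 2, 2368, 210), (1783, 2, 2586, 210), (3580, 2, 1403, 228), (3712, 2, 475, 216), (359, 2, 3082, 210), (2341, 2, 1853, 210), (1008, 2, 3541, 228), (3706, 2, 989, 225), (796, 2, 2827, 225), (595, 2, 383, 198), (3233, 2, 3410, 225), (3576, 2, 2771, 228), (3073, 2, 1894, 216),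 (2026, 2, 3571, 216), (410, 2, 535, 225), (2414, 2, 1608, 198), (2615, 2, 1723, 225), (3741, 2, 1404, 210), (2126, 2, 1398, 210), (902, 2, 1522, 216), (2790, 2, 1031, 201), (1198, 2, 3701, 201), (2377, 2, 1731, 201), (2675, 2, 2604, 210), (3733, 2, 1794, 201), (1014, 2, 969, 201), (1919, 2, 2300, 210), (1942, 2, 3699, 228), (609, 2, 1889, 216), (1785, 2, 3343, 210), (1520, 2, 1214, 198), (3293, 2, 1094, 225), (918, 2, 2801, 201), (2622, 2, 710, 210), (1673, 2, 3433, 201), (2572, 2, 1961, 198)]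

/-- Steps. -/
def rows15_14 : List (ℕ × ℕ × ℕ × ℕ) := [(1869, 2, 763, 210), (3258, 2, 3348, 198), (1945, 2, 3486, 210), (893, 2, 3047, 210), (2116, 2, 1392, 210), (2182, 2, 2815, 210), (1332, 2, 986, 201), (2699, 2, 3612, 225)]

/-- Steps of vertex 15. -/
def rows15 : List (ℕ × ℕ × ℕ × ℕ) := rows15_0 ++ rows15_1 ++ rows15_2 ++ rows15_3 ++ rows15_4 ++ rows15_5 ++ rows15_6 ++ rows15_7 ++ rows15_8 ++ rows15_9 ++ rows15_10 ++ rows15_11 ++ rows15_12 ++ rows15_13 ++ rows15_14

theorem sweep15 : (sweep gens15 rows15 (seedSet seeds15 0) == some (2 ^ numTrio - 1)) = true := by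
  decide +kernel

theorem good15 (rows : ∀ k < numTrio, rowOk k = true) :
    ∀ k < numTrio, Good C (vlist C) (v15 C) k :=
  good_all C rows (seeds15_good C)
    (fun g hg => ⟨gens15_fix C g hg, List.all_eq_true.1 gens15_ok g hg⟩) sweep15

end CfsgLib.J4Index
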