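import Cfsg.Agent.Lib.J4Index.Live

/-!
# Orbit and directions of vertex 17 (generated)
-/

set_option autoImplicit false
set_option maxRecDepth 100000
set_option linter.style.longLine false

namespace CfsgLib.J4Index

variable {G X : Type} [Group G] [MulAction G X] (C : Ctx G X)

/-- A chain in the stabiliser of vertex 17. -/
def chain17 : List (ℕ × List (List ℕ)) := [
  (0, [[], [20, 58, 85, 99, 109, 116], [23, 31, 75, 92, 109, 116]]),
  (1, [[]]),
  (2, [[], [51, 81, 96, 109, 125]]),
  (3, [[]]),
  (4, [[]]),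
  (12, [[]]),
  (5, [[]])]

theorem chain17_ok : (chainOk [] chain17 && Nat.beq (chainSize chain17) 6) = true := by decide +kernel

theorem chain17_mem : ∀ L ∈ chain17, ∀ w ∈ L.2, C.S (v17 C) w := by
  simp only [chain17, List.forall_mem_cons, List.not_mem_nil, IsEmpty.forall_iff, implies_true, and_true]
  exact ⟨⟨f18393 C, f4132 C, f18394 C⟩,
    f18393 C,
    ⟨f18393 C, f18395 C⟩,
    f18393 C,
    f18393 C,
    f18393 C,
    f18393 C⟩

theorem orbit17 : (orbSet C (v17 C)).Finite ∧ (orbSet C (v17 C)).ncard ≤ 40803840 := by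
  obtain ⟨h1, h2⟩ := Bool.and_eq_true_iff.1 chain17_ok
  obtain ⟨hf, hc⟩ := orb_bound C h1 (chain17_mem C)
  rw [Nat.eq_of_beq_eq_true h2] at hc
  exact ⟨hf, by omega⟩

theorem s17_0 : Good C (vlist C) (v17 C) 0 :=
  good_seed C (f4138 C) 0 [] (v8_mem C) (by decide +kernel) (by decide +kernel)

theorem s17_1 : Good C (vlist C) (v17 C) 19 :=
  good_seed C (f7779 C) 19 [132, 160, 166, 174, 177] (v18_mem C) (by decide +kernel) (by decide +kernel)

theorem s17_2 : Good C (vlist C) (v17 C) 1773 :=
  good_seed C (f9922 C) 1773 [128, 158, 165, 178] (v18_mem C) (by decide +kernel) (by decide +kernel)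

theorem s17_3 : Good C (vlist C) (v17 C) 3 :=
  good_seed C (f4175 C) 3 [126, 158, 165, 173] (v15_mem C) (by decide +kernel) (by decide +kernel)

theorem s17_4 : Good C (vlist C) (v17 C) 2327 :=
  good_seed C (f5023 C) 2327 [135, 162, 172, 177] (v16_mem C) (by decide +kernel) (by decide +kernel)

theorem s17_5 : Good C (vlist C) (v17 C) 2434 :=
  good_seed C (f4364 C) 2434 [128, 160, 168, 175, 177] (v17_mem C) (by decide +kernel) (by decide +kernel)

theorem s17_6 : Good C (vlist C) (v17 C) 3601 :=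
  good_seed C (f6677 C) 3601 [128, 157, 175] (v17_mem C) (by decide +kernel) (by decide +kernel)

theorem s17_7 : Good C (vlist C) (v17 C) 7 :=
  good_seed C (f5781 C) 7 [140, 154, 168, 171, 178] (v17_mem C) (by decide +kernel) (by decide +kernel)

theorem s17_8 : Good C (vlist C) (v17 C) 3277 :=
  good_seed C (f4803 C) 3277 [132, 161, 170, 172, 178] (v9_mem C) (by decide +kernel) (by decide +kernel)

theorem s17_9 : Good C (vlist C) (v17 C) 598 :=
  good_seed C (f6669 C) 598 [145, 162, 167, 171, 177] (v16_mem C) (by decide +kernel) (by decide +kernel)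

theorem s17_10 : Good C (vlist C) (v17 C) 588 :=
  good_seed C (f6095 C) 588 [127, 150, 168, 175, 178] (v17_mem C) (by decide +kernel) (by decide +kernel)

theorem s17_11 : Good C (vlist C) (v17 C) 527 :=
  good_seed C (f4909 C) 527 [132, 160, 164] (v16_mem C) (by decide +kernel) (by decide +kernel)

theorem s17_12 : Good C (vlist C) (v17 C) 3267 :=
  good_seed C (f9127 C) 3267 [143, 153, 167, 175, 178] (v18_mem C) (by decide +kernel) (by decide +kernel)

theorem s17_13 : Good C (vlist C) (v17 C) 1472 :=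
  good_seed C (f12102 C) 1472 [128, 160, 164, 175, 178] (v18_mem C) (by decide +kernel) (by decide +kernel)

theorem s17_14 : Good C (vlist C) (v17 C) 113 :=
  good_seed C (f11259 C) 113 [128, 156, 168, 175, 177] (v18_mem C) (by decide +kernel) (by decide +kernel)

theorem s17_15 : Good C (vlist C) (v17 C) 1155 :=
  good_seed C (f4271 C) 1155 [129, 158, 166, 174, 177] (v17_mem C) (by decide +kernel) (by decide +kernel)

theorem s17_16 : Good C (vlist C) (v17 C) 1765 :=
  good_seed C (f6598 C) 1765 [141, 157, 169, 176, 177] (v17_mem C) (by decide +kernel) (by decide +kernel)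

theorem s17_17 : Good C (vlist C) (v17 C) 1842 :=
  good_seed C (f7884 C) 1842 [144, 162, 167, 171, 178] (v18_mem C) (by decide +kernel) (by decide +kernel)

theorem s17_18 : Good C (vlist C) (v17 C) 18 :=
  good_seed C (f10812 C) 18 [141, 157, 164] (v18_mem C) (by decide +kernel) (by decide +kernel)

theorem s17_19 : Good C (vlist C) (v17 C) 134 :=
  good_seed C (f4307 C) 134 [140, 150, 165, 173, 177] (v17_mem C) (by decide +kernel) (by decide +kernel)

theorem s17_20 : Good C (vlist C) (v17 C) 2343 :=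
  good_seed C (f4687 C) 2343 [137, 156, 166, 174] (v17_mem C) (by decide +kernel) (by decide +kernel)

theorem s17_21 : Good C (vlist C) (v17 C) 2753 :=
  good_seed C (f11223 C) 2753 [140, 162, 169, 173, 177] (v18_mem C) (by decide +kernel) (by decide +kernel)

theorem s17_22 : Good C (vlist C) (v17 C) 23 :=
  good_seed C (f4298 C) 23 [144, 152, 166, 174] (v17_mem C) (by decide +kernel) (by decide +kernel)

theorem s17_23 : Good C (vlist C) (v17 C) 3543 :=
  good_seed C (f6517 C) 3543 [145, 151, 166, 175, 177] (v17_mem C) (by decide +kernel) (by decide +kernel)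

theorem s17_24 : Good C (vlist C) (v17 C) 3530 :=
  good_seed C (f14578 C) 3530 [131, 152, 170, 175, 178] (v18_mem C) (by decide +kernel) (by decide +kernel)

theorem s17_25 : Good C (vlist C) (v17 C) 2555 :=
  good_seed C (f10445 C) 2555 [132, 153, 168, 172, 178] (v18_mem C) (by decide +kernel) (by decide +kernel)

theorem s17_26 : Good C (vlist C) (v17 C) 919 :=
  good_seed C (f12135 C) 919 [132, 149, 165, 173, 178] (v18_mem C) (by decide +kernel) (by decide +kernel)

theorem s17_27 : Good C (vlist C) (v17 C) 3173 :=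
  good_seed C (f6174 C) 3173 [131, 157, 167, 171, 178] (v17_mem C) (by decide +kernel) (by decide +kernel)

theorem s17_28 : Good C (vlist C) (v17 C) 29 :=
  good_seed C (f5112 C) 29 [131, 161, 169, 171, 178] (v17_mem C) (by decide +kernel) (by decide +kernel)

theorem s17_29 : Good C (vlist C) (v17 C) 1538 :=
  good_seed C (f4750 C) 1538 [144, 150, 168, 174, 177] (v17_mem C) (by decide +kernel) (by decide +kernel)

theorem s17_30 : Good C (vlist C) (v17 C) 1204 :=
  good_seed C (f6759 C) 1204 [137, 169, 172, 178] (v17_mem C) (by decide +kernel) (by decide +kernel)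

theorem s17_31 : Good C (vlist C) (v17 C) 319 :=
  good_seed C (f6427 C) 319 [131, 161, 172] (v17_mem C) (by decide +kernel) (by decide +kernel)

theorem s17_32 : Good C (vlist C) (v17 C) 33 :=
  good_seed C (f6803 C) 33 [132, 176, 178] (v15_mem C) (by decide +kernel) (by decide +kernel)

theorem s17_33 : Good C (vlist C) (v17 C) 2444 :=
  good_seed C (f5763 C) 2444 [146, 152, 166, 176, 177] (v17_mem C) (by decide +kernel) (by decide +kernel)

theorem s17_34 : Good C (vlist C) (v17 C) 35 :=
  good_seed C (f9409 C) 35 [143, 159] (v18_mem C) (by decide +kernel) (by decide +kernel)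

theorem s17_35 : Good C (vlist C) (v17 C) 737 :=
  good_seed C (f8484 C) 737 [134, 151, 169] (v18_mem C) (by decide +kernel) (by decide +kernel)

theorem s17_36 : Good C (vlist C) (v17 C) 3458 :=
  good_seed C (f5438 C) 3458 [145, 159, 167, 174, 177] (v17_mem C) (by decide +kernel) (by decide +kernel)

theorem s17_37 : Good C (vlist C) (v17 C) 2424 :=
  good_seed C (f12596 C) 2424 [159, 165, 174] (v18_mem C) (by decide +kernel) (by decide +kernel)

theorem s17_38 : Good C (vlist C) (v17 C) 41 :=
  good_seed C (f12693 C) 41 [142, 149, 168, 173, 177] (v18_mem C) (by decide +kernel) (by decide +kernel)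

theorem s17_39 : Good C (vlist C) (v17 C) 395 :=
  good_seed C (f5306 C) 395 [144, 150, 168, 178] (v17_mem C) (by decide +kernel) (by decide +kernel)

theorem s17_40 : Good C (vlist C) (v17 C) 1188 :=
  good_seed C (f5319 C) 1188 [131, 158, 169, 173, 178] (v17_mem C) (by decide +kernel) (by decide +kernel)

theorem s17_41 : Good C (vlist C) (v17 C) 2328 :=
  good_seed C (f10901 C) 2328 [138, 156, 169, 177] (v18_mem C) (by decide +kernel) (by decide +kernel)

theorem s17_42 : Good C (vlist C) (v17 C) 703 :=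
  good_seed C (f12713 C) 703 [134, 164, 175, 178] (v18_mem C) (by decide +kernel) (by decide +kernel)

theorem s17_43 : Good C (vlist C) (v17 C) 46 :=
  good_seed C (f4626 C) 46 [136, 160, 170, 171, 177] (v17_mem C) (by decide +kernel) (by decide +kernel)

theorem s17_44 : Good C (vlist C) (v17 C) 3019 :=
  good_seed C (f5168 C) 3019 [144, 158, 166, 173, 177] (v4_mem C) (by decide +kernel) (by decide +kernel)

theorem s17_45 : Good C (vlist C) (v17 C) 1558 :=
  good_seed C (f7112 C) 1558 [140, 153, 170, 172] (v18_mem C) (by decide +kernel) (by decide +kernel)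

theorem s17_46 : Good C (vlist C) (v17 C) 49 :=
  good_seed C (f6511 C) 49 [147, 153, 171] (v17_mem C) (by decide +kernel) (by decide +kernel)

theorem s17_47 : Good C (vlist C) (v17 C) 1766 :=
  good_seed C (f14916 C) 1766 [128, 150, 165, 172] (v18_mem C) (by decide +kernel) (by decide +kernel)

theorem s17_48 : Good C (vlist C) (v17 C) 51 :=
  good_seed C (f5933 C) 51 [132, 162, 164, 174, 178] (v17_mem C) (by decide +kernel) (by decide +kernel)

theorem s17_49 : Good C (vlist C) (v17 C) 2997 :=
  good_seed C (f11003 C) 2997 [126, 153, 164, 176, 177] (v18_mem C) (by decide +kernel) (by decide +kernel)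

theorem s17_50 : Good C (vlist C) (v17 C) 2025 :=
  good_seed C (f5942 C) 2025 [132, 149, 165, 172] (v16_mem C) (by decide +kernel) (by decide +kernel)

theorem s17_51 : Good C (vlist C) (v17 C) 483 :=
  good_seed C (f12524 C) 483 [128, 170, 171, 178] (v18_mem C) (by decide +kernel) (by decide +kernel)

theorem s17_52 : Good C (vlist C) (v17 C) 151 :=
  good_seed C (f8458 C) 151 [131, 149, 164, 171] (v18_mem C) (by decide +kernel) (by decide +kernel)

theorem s17_53 : Good C (vlist C) (v17 C) 470 :=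
  good_seed C (f8853 C) 470 [141, 154, 165, 176] (v18_mem C) (by decide +kernel) (by decide +kernel)

theorem s17_54 : Good C (vlist C) (v17 C) 363 :=
  good_seed C (f5710 C) 363 [144, 163, 164, 172] (v17_mem C) (by decide +kernel) (by decide +kernel)

theorem s17_55 : Good C (vlist C) (v17 C) 58 :=
  good_seed C (f12089 C) 58 [143, 156, 164, 176, 177] (v18_mem C) (by decide +kernel) (by decide +kernel)

theorem s17_56 : Good C (vlist C) (v17 C) 2030 :=
  good_seed C (f6401 C) 2030 [136, 161, 170, 172, 177] (v17_mem C) (by decide +kernel) (by decide +kernel)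

theorem s17_57 : Good C (vlist C) (v17 C) 2461 :=
  good_seed C (f9007 C) 2461 [127, 159, 176] (v18_mem C) (by decide +kernel) (by decide +kernel)

theorem s17_58 : Good C (vlist C) (v17 C) 626 :=
  good_seed C (f5261 C) 626 [141, 152, 167, 173, 177] (v9_mem C) (by decide +kernel) (by decide +kernel)

theorem s17_59 : Good C (vlist C) (v17 C) 2678 :=
  good_seed C (f6450 C) 2678 [133, 153, 165, 173, 177] (v17_mem C) (by decide +kernel) (by decide +kernel)

theorem s17_60 : Good C (vlist C) (v17 C) 2577 :=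
  good_seed C (f16368 C) 2577 [148, 161, 166, 172, 178] (v19_mem C) (by decide +kernel) (by decide +kernel)

theorem s17_61 : Good C (vlist C) (v17 C) 66 :=
  good_seed C (f5950 C) 66 [127, 163, 172] (v17_mem C) (by decide +kernel) (by decide +kernel)

theorem s17_62 : Good C (vlist C) (v17 C) 3208 :=
  good_seed C (f6697 C) 3208 [141, 162, 165, 176, 177] (v17_mem C) (by decide +kernel) (by decide +kernel)

theorem s17_63 : Good C (vlist C) (v17 C) 416 :=
  good_seed C (f4574 C) 416 [129, 158, 170, 172, 177] (v17_mem C) (by decide +kernel) (by decide +kernel)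

theorem s17_64 : Good C (vlist C) (v17 C) 3017 :=
  good_seed C (f5682 C) 3017 [152, 168, 171, 178] (v17_mem C) (by decide +kernel) (by decide +kernel)

theorem s17_65 : Good C (vlist C) (v17 C) 3089 :=
  good_seed C (f7396 C) 3089 [146, 159, 164, 172, 177] (v18_mem C) (by decide +kernel) (by decide +kernel)

theorem s17_66 : Good C (vlist C) (v17 C) 908 :=
  good_seed C (f4257 C) 908 [127, 150, 167, 172] (v16_mem C) (by decide +kernel) (by decide +kernel)

theorem s17_67 : Good C (vlist C) (v17 C) 304 :=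
  good_seed C (f16186 C) 304 [144, 158, 164, 178] (v19_mem C) (by decide +kernel) (by decide +kernel)

theorem s17_68 : Good C (vlist C) (v17 C) 1963 :=
  good_seed C (f7798 C) 1963 [128, 149, 164, 173, 178] (v18_mem C) (by decide +kernel) (by decide +kernel)

theorem s17_69 : Good C (vlist C) (v17 C) 2738 :=
  good_seed C (f5276 C) 2738 [137, 160, 164, 176, 178] (v17_mem C) (by decide +kernel) (by decide +kernel)

theorem s17_70 : Good C (vlist C) (v17 C) 2428 :=
  good_seed C (f12891 C) 2428 [143, 160, 167, 175] (v18_mem C) (by decide +kernel) (by decide +kernel)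

theorem s17_71 : Good C (vlist C) (v17 C) 1624 :=
  good_seed C (f9155 C) 1624 [134, 150, 166, 178] (v18_mem C) (by decide +kernel) (by decide +kernel)

theorem s17_72 : Good C (vlist C) (v17 C) 1600 :=
  good_seed C (f5466 C) 1600 [160, 170, 173, 178] (v17_mem C) (by decide +kernel) (by decide +kernel)

theorem s17_73 : Good C (vlist C) (v17 C) 3425 :=
  good_seed C (f5541 C) 3425 [129, 157, 169, 173, 177] (v15_mem C) (by decide +kernel) (by decide +kernel)

theorem s17_74 : Good C (vlist C) (v17 C) 1295 :=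
  good_seed C (f12288 C) 1295 [143, 157, 167, 173, 177] (v18_mem C) (by decide +kernel) (by decide +kernel)

theorem s17_75 : Good C (vlist C) (v17 C) 2890 :=
  good_seed C (f14741 C) 2890 [140, 152, 164] (v18_mem C) (by decide +kernel) (by decide +kernel)

theorem s17_76 : Good C (vlist C) (v17 C) 2200 :=
  good_seed C (f6400 C) 2200 [146, 155, 168, 175, 177] (v17_mem C) (by decide +kernel) (by decide +kernel)

theorem s17_77 : Good C (vlist C) (v17 C) 83 :=
  good_seed C (f6551 C) 83 [148, 154, 164, 172, 178] (v17_mem C) (by decide +kernel) (by decide +kernel)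

theorem s17_78 : Good C (vlist C) (v17 C) 629 :=
  good_seed C (f4149 C) 629 [138, 154, 164, 173, 178] (v15_mem C) (by decide +kernel) (by decide +kernel)

theorem s17_79 : Good C (vlist C) (v17 C) 2780 :=
  good_seed C (f16297 C) 2780 [126, 151, 175, 178] (v19_mem C) (by decide +kernel) (by decide +kernel)

theorem s17_80 : Good C (vlist C) (v17 C) 2191 :=
  good_seed C (f4442 C) 2191 [130, 163, 174] (v15_mem C) (by decide +kernel) (by decide +kernel)

theorem s17_81 : Good C (vlist C) (v17 C) 2169 :=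
  good_seed C (f10454 C) 2169 [140, 153, 169, 173, 178] (v18_mem C) (by decide +kernel) (by decide +kernel)

theorem s17_82 : Good C (vlist C) (v17 C) 1791 :=
  good_seed C (f16965 C) 1791 [139, 157, 166, 175, 178] (v19_mem C) (by decide +kernel) (by decide +kernel)

theorem s17_83 : Good C (vlist C) (v17 C) 89 :=
  good_seed C (f6612 C) 89 [140, 159, 165, 175] (v17_mem C) (by decide +kernel) (by decide +kernel)

theorem s17_84 : Good C (vlist C) (v17 C) 783 :=
  good_seed C (f4280 C) 783 [144, 164, 174] (v17_mem C) (by decide +kernel) (by decide +kernel)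

theorem s17_85 : Good C (vlist C) (v17 C) 484 :=
  good_seed C (f4533 C) 484 [127, 162, 171, 177] (v17_mem C) (by decide +kernel) (by decide +kernel)

theorem s17_86 : Good C (vlist C) (v17 C) 2097 :=
  good_seed C (f6643 C) 2097 [126, 149, 165, 174, 178] (v17_mem C) (by decide +kernel) (by decide +kernel)

theorem s17_87 : Good C (vlist C) (v17 C) 93 :=
  good_seed C (f8881 C) 93 [148, 158, 166, 171, 178] (v18_mem C) (by decide +kernel) (by decide +kernel)

theorem s17_88 : Good C (vlist C) (v17 C) 868 :=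
  good_seed C (f9825 C) 868 [145, 163, 168, 174, 177] (v18_mem C) (by decide +kernel) (by decide +kernel)

theorem s17_89 : Good C (vlist C) (v17 C) 97 :=
  good_seed C (f6823 C) 97 [154, 164, 176, 178] (v3_mem C) (by decide +kernel) (by decide +kernel)

theorem s17_90 : Good C (vlist C) (v17 C) 98 :=
  good_seed C (f14387 C) 98 [144, 160, 166, 173, 177] (v18_mem C) (by decide +kernel) (by decide +kernel)

theorem s17_91 : Good C (vlist C) (v17 C) 1305 :=
  good_seed C (f16946 C) 1305 [143, 162, 170, 178] (v19_mem C) (by decide +kernel) (by decide +kernel)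

theorem s17_92 : Good C (vlist C) (v17 C) 538 :=
  good_seed C (f5287 C) 538 [143, 160, 164, 176] (v17_mem C) (by decide +kernel) (by decide +kernel)

theorem s17_93 : Good C (vlist C) (v17 C) 101 :=
  good_seed C (f10584 C) 101 [136, 159, 165] (v18_mem C) (by decide +kernel) (by decide +kernel)

theorem s17_94 : Good C (vlist C) (v17 C) 102 :=
  good_seed C (f10666 C) 102 [127, 157, 169, 176] (v18_mem C) (by decide +kernel) (by decide +kernel)

theorem s17_95 : Good C (vlist C) (v17 C) 109 :=
  good_seed C (f9178 C) 109 [131, 156, 168, 175, 177] (v18_mem C) (by decide +kernel) (by decide +kernel)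

theorem s17_96 : Good C (vlist C) (v17 C) 2724 :=
  good_seed C (f17540 C) 2724 [145, 151, 168, 176, 177] (v20_mem C) (by decide +kernel) (by decide +kernel)

theorem s17_97 : Good C (vlist C) (v17 C) 105 :=
  good_seed C (f5828 C) 105 [156, 170, 176] (v17_mem C) (by decide +kernel) (by decide +kernel)

theorem s17_98 : Good C (vlist C) (v17 C) 3756 :=
  good_seed C (f4736 C) 3756 [129, 162, 176, 178] (v15_mem C) (by decide +kernel) (by decide +kernel)

theorem s17_99 : Good C (vlist C) (v17 C) 624 :=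
  good_seed C (f5681 C) 624 [126, 159, 165, 171, 177] (v17_mem C) (by decide +kernel) (by decide +kernel)

theorem s17_100 : Good C (vlist C) (v17 C) 745 :=
  good_seed C (f4512 C) 745 [143, 154, 164, 171, 177] (v15_mem C) (by decide +kernel) (by decide +kernel)

theorem s17_101 : Good C (vlist C) (v17 C) 2878 :=
  good_seed C (f12031 C) 2878 [144, 151, 170, 172, 177] (v18_mem C) (by decide +kernel) (by decide +kernel)

theorem s17_102 : Good C (vlist C) (v17 C) 1419 :=
  good_seed C (f16205 C) 1419 [139, 151, 168, 172, 178] (v19_mem C) (by decide +kernel) (by decide +kernel)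

theorem s17_103 : Good C (vlist C) (v17 C) 115 :=
  good_seed C (f6709 C) 115 [130, 152, 169, 176, 177] (v17_mem C) (by decide +kernel) (by decide +kernel)

theorem s17_104 : Good C (vlist C) (v17 C) 3578 :=
  good_seed C (f7511 C) 3578 [131, 161, 176, 178] (v18_mem C) (by decide +kernel) (by decide +kernel)

theorem s17_105 : Good C (vlist C) (v17 C) 924 :=
  good_seed C (f12495 C) 924 [129, 158, 170, 174] (v18_mem C) (by decide +kernel) (by decide +kernel)

theorem s17_106 : Good C (vlist C) (v17 C) 3134 :=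
  good_seed C (f12242 C) 3134 [153, 170, 172] (v18_mem C) (by decide +kernel) (by decide +kernel)

theorem s17_107 : Good C (vlist C) (v17 C) 119 :=
  good_seed C (f15078 C) 119 [137, 160, 166, 175] (v18_mem C) (by decide +kernel) (by decide +kernel)

theorem s17_108 : Good C (vlist C) (v17 C) 182 :=
  good_seed C (f5007 C) 182 [139, 162, 164, 174, 177] (v17_mem C) (by decide +kernel) (by decide +kernel)

theorem s17_109 : Good C (vlist C) (v17 C) 1595 :=
  good_seed C (f5958 C) 1595 [147, 154, 169, 172, 178] (v15_mem C) (by decide +kernel) (by decide +kernel)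

theorem s17_110 : Good C (vlist C) (v17 C) 1853 :=
  good_seed C (f5916 C) 1853 [135, 163, 166, 174, 178] (v17_mem C) (by decide +kernel) (by decide +kernel)

theorem s17_111 : Good C (vlist C) (v17 C) 2622 :=
  good_seed C (f9539 C) 2622 [140, 156, 167, 171] (v18_mem C) (by decide +kernel) (by decide +kernel)

theorem s17_112 : Good C (vlist C) (v17 C) 125 :=
  good_seed C (f14678 C) 125 [133, 161, 166, 171] (v18_mem C) (by decide +kernel) (by decide +kernel)

theorem s17_113 : Good C (vlist C) (v17 C) 2849 :=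
  good_seed C (f5517 C) 2849 [147, 164, 174, 178] (v15_mem C) (by decide +kernel) (by decide +kernel)

theorem s17_114 : Good C (vlist C) (v17 C) 2416 :=
  good_seed C (f5408 C) 2416 [148, 154, 168, 171, 178] (v17_mem C) (by decide +kernel) (by decide +kernel)

theorem s17_115 : Good C (vlist C) (v17 C) 128 :=
  good_seed C (f5771 C) 128 [135, 158, 166, 173] (v15_mem C) (by decide +kernel) (by decide +kernel)

theorem s17_116 : Good C (vlist C) (v17 C) 3577 :=
  good_seed C (f9378 C) 3577 [147, 158, 172, 177] (v18_mem C) (by decide +kernel) (by decide +kernel)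

theorem s17_117 : Good C (vlist C) (v17 C) 130 :=
  good_seed C (f6259 C) 130 [143, 156, 164, 173, 177] (v17_mem C) (by decide +kernel) (by decide +kernel)

theorem s17_118 : Good C (vlist C) (v17 C) 1677 :=
  good_seed C (f6597 C) 1677 [155, 164] (v17_mem C) (by decide +kernel) (by decide +kernel)

theorem s17_119 : Good C (vlist C) (v17 C) 565 :=
  good_seed C (f12280 C) 565 [141, 158, 164, 176, 178] (v18_mem C) (by decide +kernel) (by decide +kernel)

theorem s17_120 : Good C (vlist C) (v17 C) 2689 :=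
  good_seed C (f11837 C) 2689 [139, 155, 164, 172, 178] (v18_mem C) (by decide +kernel) (by decide +kernel)

theorem s17_121 : Good C (vlist C) (v17 C) 3400 :=
  good_seed C (f10349 C) 3400 [128, 162, 169, 171] (v18_mem C) (by decide +kernel) (by decide +kernel)

theorem s17_122 : Good C (vlist C) (v17 C) 1695 :=
  good_seed C (f12731 C) 1695 [145, 150, 165, 171, 177] (v18_mem C) (by decide +kernel) (by decide +kernel)

theorem s17_123 : Good C (vlist C) (v17 C) 445 :=
  good_seed C (f5418 C) 445 [148, 162, 165, 173, 177] (v17_mem C) (by decide +kernel) (by decide +kernel)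

theorem s17_124 : Good C (vlist C) (v17 C) 138 :=
  good_seed C (f6449 C) 138 [148, 149, 175, 178] (v17_mem C) (by decide +kernel) (by decide +kernel)

theorem s17_125 : Good C (vlist C) (v17 C) 139 :=
  good_seed C (f5142 C) 139 [136, 150, 169] (v15_mem C) (by decide +kernel) (by decide +kernel)

theorem s17_126 : Good C (vlist C) (v17 C) 140 :=
  good_seed C (f16428 C) 140 [132, 151, 168, 175, 177] (v19_mem C) (by decide +kernel) (by decide +kernel)

theorem s17_127 : Good C (vlist C) (v17 C) 2223 :=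
  good_seed C (f10675 C) 2223 [130, 158, 167, 173, 178] (v18_mem C) (by decide +kernel) (by decide +kernel)

theorem s17_128 : Good C (vlist C) (v17 C) 2398 :=
  good_seed C (f10831 C) 2398 [140, 162, 170, 176, 178] (v18_mem C) (by decide +kernel) (by decide +kernel)

theorem s17_129 : Good C (vlist C) (v17 C) 2762 :=
  good_seed C (f6416 C) 2762 [130, 162, 168] (v17_mem C) (by decide +kernel) (by decide +kernel)

theorem s17_130 : Good C (vlist C) (v17 C) 145 :=
  good_seed C (f4397 C) 145 [128, 150, 170, 171, 178] (v15_mem C) (by decide +kernel) (by decide +kernel)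

theorem s17_131 : Good C (vlist C) (v17 C) 147 :=
  good_seed C (f10652 C) 147 [152, 170, 171, 177] (v18_mem C) (by decide +kernel) (by decide +kernel)

theorem s17_132 : Good C (vlist C) (v17 C) 2703 :=
  good_seed C (f6062 C) 2703 [146, 153, 168, 176, 177] (v17_mem C) (by decide +kernel) (by decide +kernel)

theorem s17_133 : Good C (vlist C) (v17 C) 2685 :=
  good_seed C (f13710 C) 2685 [131, 163, 169, 171, 178] (v18_mem C) (by decide +kernel) (by decide +kernel)

theorem s17_134 : Good C (vlist C) (v17 C) 150 :=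
  good_seed C (f6499 C) 150 [139, 151, 169, 178] (v17_mem C) (by decide +kernel) (by decide +kernel)

theorem s17_135 : Good C (vlist C) (v17 C) 307 :=
  good_seed C (f5644 C) 307 [132, 163, 168, 176, 178] (v16_mem C) (by decide +kernel) (by decide +kernel)

theorem s17_136 : Good C (vlist C) (v17 C) 2101 :=
  good_seed C (f11972 C) 2101 [139, 161, 169, 178] (v18_mem C) (by decide +kernel) (by decide +kernel)

theorem s17_137 : Good C (vlist C) (v17 C) 156 :=
  good_seed C (f14295 C) 156 [130, 149, 170, 171] (v18_mem C) (by decide +kernel) (by decide +kernel)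

theorem s17_138 : Good C (vlist C) (v17 C) 3097 :=
  good_seed C (f9309 C) 3097 [148, 160, 164, 174, 177] (v18_mem C) (by decide +kernel) (by decide +kernel)

theorem s17_139 : Good C (vlist C) (v17 C) 408 :=
  good_seed C (f9226 C) 408 [137, 158, 165, 172] (v18_mem C) (by decide +kernel) (by decide +kernel)

theorem s17_140 : Good C (vlist C) (v17 C) 159 :=
  good_seed C (f12799 C) 159 [128, 158, 166, 172, 177] (v18_mem C) (by decide +kernel) (by decide +kernel)

theorem s17_141 : Good C (vlist C) (v17 C) 161 :=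
  good_seed C (f12705 C) 161 [139, 149, 167, 173, 177] (v18_mem C) (by decide +kernel) (by decide +kernel)

theorem s17_142 : Good C (vlist C) (v17 C) 3786 :=
  good_seed C (f4853 C) 3786 [139, 157, 166, 171, 178] (v15_mem C) (by decide +kernel) (by decide +kernel)

theorem s17_143 : Good C (vlist C) (v17 C) 1527 :=
  good_seed C (f14243 C) 1527 [127, 155, 170, 175] (v18_mem C) (by decide +kernel) (by decide +kernel)

theorem s17_144 : Good C (vlist C) (v17 C) 164 :=
  good_seed C (f13009 C) 164 [136, 155, 166, 177] (v18_mem C) (by decide +kernel) (by decide +kernel)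

theorem s17_145 : Good C (vlist C) (v17 C) 167 :=
  good_seed C (f5043 C) 167 [143, 149, 170, 178] (v17_mem C) (by decide +kernel) (by decide +kernel)

theorem s17_146 : Good C (vlist C) (v17 C) 738 :=
  good_seed C (f13722 C) 738 [137, 161, 164, 174, 177] (v18_mem C) (by decide +kernel) (by decide +kernel)

theorem s17_147 : Good C (vlist C) (v17 C) 1276 :=
  good_seed C (f6354 C) 1276 [143, 164, 175, 177] (v16_mem C) (by decide +kernel) (by decide +kernel)

theorem s17_148 : Good C (vlist C) (v17 C) 710 :=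
  good_seed C (f12303 C) 710 [145, 158, 174, 177] (v18_mem C) (by decide +kernel) (by decide +kernel)

theorem s17_149 : Good C (vlist C) (v17 C) 314 :=
  good_seed C (f4224 C) 314 [147, 169, 174, 177] (v9_mem C) (by decide +kernel) (by decide +kernel)

theorem s17_150 : Good C (vlist C) (v17 C) 175 :=
  good_seed C (f10621 C) 175 [141, 158, 167, 176, 177] (v18_mem C) (by decide +kernel) (by decide +kernel)

theorem s17_151 : Good C (vlist C) (v17 C) 287 :=
  good_seed C (f4638 C) 287 [139, 168, 171, 177] (v15_mem C) (by decide +kernel) (by decide +kernel)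

theorem s17_152 : Good C (vlist C) (v17 C) 177 :=
  good_seed C (f11024 C) 177 [127, 153, 164, 176, 178] (v18_mem C) (by decide +kernel) (by decide +kernel)

theorem s17_153 : Good C (vlist C) (v17 C) 621 :=
  good_seed C (f6226 C) 621 [131, 152, 167] (v15_mem C) (by decide +kernel) (by decide +kernel)

theorem s17_154 : Good C (vlist C) (v17 C) 180 :=
  good_seed C (f5084 C) 180 [137, 151, 170, 173, 178] (v15_mem C) (by decide +kernel) (by decide +kernel)

theorem s17_155 : Good C (vlist C) (v17 C) 957 :=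
  good_seed C (f9364 C) 957 [134, 161, 166, 171, 177] (v18_mem C) (by decide +kernel) (by decide +kernel)

theorem s17_156 : Good C (vlist C) (v17 C) 3700 :=
  good_seed C (f4921 C) 3700 [135, 155, 168, 174, 177] (v15_mem C) (by decide +kernel) (by decide +kernel)

theorem s17_157 : Good C (vlist C) (v17 C) 220 :=
  good_seed C (f13733 C) 220 [136, 155, 167, 175, 178] (v18_mem C) (by decide +kernel) (by decide +kernel)

theorem s17_158 : Good C (vlist C) (v17 C) 185 :=
  good_seed C (f5951 C) 185 [147, 152, 164, 172, 178] (v17_mem C) (by decide +kernel) (by decide +kernel)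

theorem s17_159 : Good C (vlist C) (v17 C) 1915 :=
  good_seed C (f6198 C) 1915 [141, 155, 167, 173] (v15_mem C) (by decide +kernel) (by decide +kernel)

theorem s17_160 : Good C (vlist C) (v17 C) 948 :=
  good_seed C (f7845 C) 948 [154, 172, 178] (v18_mem C) (by decide +kernel) (by decide +kernel)

theorem s17_161 : Good C (vlist C) (v17 C) 2954 :=
  good_seed C (f13717 C) 2954 [126, 153, 164, 176] (v18_mem C) (by decide +kernel) (by decide +kernel)

theorem s17_162 : Good C (vlist C) (v17 C) 2809 :=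
  good_seed C (f6815 C) 2809 [132, 149, 166, 175, 177] (v3_mem C) (by decide +kernel) (by decide +kernel)

theorem s17_163 : Good C (vlist C) (v17 C) 2786 :=
  good_seed C (f8174 C) 2786 [126, 150, 168, 177] (v18_mem C) (by decide +kernel) (by decide +kernel)

theorem s17_164 : Good C (vlist C) (v17 C) 2365 :=
  good_seed C (f4884 C) 2365 [131, 153, 164, 174, 177] (v16_mem C) (by decide +kernel) (by decide +kernel)

theorem s17_165 : Good C (vlist C) (v17 C) 194 :=
  good_seed C (f6793 C) 194 [130, 160] (v17_mem C) (by decide +kernel) (by decide +kernel)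

theorem s17_166 : Good C (vlist C) (v17 C) 3450 :=
  good_seed C (f7669 C) 3450 [140, 150, 170, 172, 178] (v18_mem C) (by decide +kernel) (by decide +kernel)

theorem s17_167 : Good C (vlist C) (v17 C) 2059 :=
  good_seed C (f10796 C) 2059 [131, 158, 169, 174, 178] (v18_mem C) (by decide +kernel) (by decide +kernel)

theorem s17_168 : Good C (vlist C) (v17 C) 1733 :=
  good_seed C (f14543 C) 1733 [129, 152, 170, 178] (v18_mem C) (by decide +kernel) (by decide +kernel)

theorem s17_169 : Good C (vlist C) (v17 C) 1110 :=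
  good_seed C (f6364 C) 1110 [126, 153, 164, 176, 177] (v16_mem C) (by decide +kernel) (by decide +kernel)

theorem s17_170 : Good C (vlist C) (v17 C) 3376 :=
  good_seed C (f5796 C) 3376 [133, 151, 170, 173, 178] (v17_mem C) (by decide +kernel) (by decide +kernel)

theorem s17_171 : Good C (vlist C) (v17 C) 642 :=
  good_seed C (f8590 C) 642 [137, 161, 174, 178] (v18_mem C) (by decide +kernel) (by decide +kernel)

theorem s17_172 : Good C (vlist C) (v17 C) 1911 :=
  good_seed C (f10118 C) 1911 [132, 163, 170, 175, 178] (v18_mem C) (by decide +kernel) (by decide +kernel)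

theorem s17_173 : Good C (vlist C) (v17 C) 2431 :=
  good_seed C (f6185 C) 2431 [126, 158, 169, 176] (v17_mem C) (by decide +kernel) (by decide +kernel)

theorem s17_174 : Good C (vlist C) (v17 C) 2882 :=
  good_seed C (f11947 C) 2882 [136, 160, 167, 177] (v18_mem C) (by decide +kernel) (by decide +kernel)

theorem s17_175 : Good C (vlist C) (v17 C) 3620 :=
  good_seed C (f12671 C) 3620 [135, 166, 178] (v18_mem C) (by decide +kernel) (by decide +kernel)

theorem s17_176 : Good C (vlist C) (v17 C) 3784 :=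
  good_seed C (f6476 C) 3784 [134, 160, 170, 172, 178] (v4_mem C) (by decide +kernel) (by decide +kernel)

theorem s17_177 : Good C (vlist C) (v17 C) 892 :=
  good_seed C (f15772 C) 892 [129, 153, 174, 178] (v19_mem C) (by decide +kernel) (by decide +kernel)

theorem s17_178 : Good C (vlist C) (v17 C) 3246 :=
  good_seed C (f4998 C) 3246 [142, 150, 168, 173, 178] (v17_mem C) (by decide +kernel) (by decide +kernel)

theorem s17_179 : Good C (vlist C) (v17 C) 425 :=
  good_seed C (f4339 C) 425 [139, 155, 167, 174, 178] (v16_mem C) (by decide +kernel) (by decide +kernel)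

theorem s17_180 : Good C (vlist C) (v17 C) 214 :=
  good_seed C (f4957 C) 214 [148, 168] (v4_mem C) (by decide +kernel) (by decide +kernel)

theorem s17_181 : Good C (vlist C) (v17 C) 1934 :=
  good_seed C (f16230 C) 1934 [148, 162, 167, 175, 178] (v19_mem C) (by decide +kernel) (by decide +kernel)

theorem s17_182 : Good C (vlist C) (v17 C) 3046 :=
  good_seed C (f8065 C) 3046 [128, 150, 164, 176] (v18_mem C) (by decide +kernel) (by decide +kernel)

theorem s17_183 : Good C (vlist C) (v17 C) 1031 :=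
  good_seed C (f9439 C) 1031 [146, 157, 166, 178] (v18_mem C) (by decide +kernel) (by decide +kernel)

theorem s17_184 : Good C (vlist C) (v17 C) 3511 :=
  good_seed C (f4797 C) 3511 [131, 158, 165, 176, 178] (v5_mem C) (by decide +kernel) (by decide +kernel)

theorem s17_185 : Good C (vlist C) (v17 C) 815 :=
  good_seed C (f4248 C) 815 [145, 152, 173, 177] (v9_mem C) (by decide +kernel) (by decide +kernel)

theorem s17_186 : Good C (vlist C) (v17 C) 225 :=
  good_seed C (f4522 C) 225 [137, 152, 164, 174, 178] (v17_mem C) (by decide +kernel) (by decide +kernel)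

theorem s17_187 : Good C (vlist C) (v17 C) 548 :=
  good_seed C (f11854 C) 548 [140, 162, 170, 172, 177] (v18_mem C) (by decide +kernel) (by decide +kernel)

theorem s17_188 : Good C (vlist C) (v17 C) 227 :=
  good_seed C (f17033 C) 227 [141, 158, 169, 175, 177] (v19_mem C) (by decide +kernel) (by decide +kernel)

theorem s17_189 : Good C (vlist C) (v17 C) 228 :=
  good_seed C (f5626 C) 228 [146, 155, 165, 172, 178] (v15_mem C) (by decide +kernel) (by decide +kernel)

theorem s17_190 : Good C (vlist C) (v17 C) 295 :=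
  good_seed C (f9329 C) 295 [130, 156, 168, 177] (v18_mem C) (by decide +kernel) (by decide +kernel)

theorem s17_191 : Good C (vlist C) (v17 C) 336 :=
  good_seed C (f5925 C) 336 [137, 156, 169, 175, 178] (v17_mem C) (by decide +kernel) (by decide +kernel)

theorem s17_192 : Good C (vlist C) (v17 C) 2534 :=
  good_seed C (f10771 C) 2534 [126, 156, 175, 178] (v18_mem C) (by decide +kernel) (by decide +kernel)

theorem s17_193 : Good C (vlist C) (v17 C) 1418 :=
  good_seed C (f4751 C) 1418 [146, 155, 171] (v17_mem C) (by decide +kernel) (by decide +kernel)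

theorem s17_194 : Good C (vlist C) (v17 C) 3635 :=
  good_seed C (f13746 C) 3635 [146, 160, 168, 177] (v18_mem C) (by decide +kernel) (by decide +kernel)

theorem s17_195 : Good C (vlist C) (v17 C) 775 :=
  good_seed C (f9061 C) 775 [129, 151, 170, 176, 178] (v18_mem C) (by decide +kernel) (by decide +kernel)

theorem s17_196 : Good C (vlist C) (v17 C) 237 :=
  good_seed C (f5113 C) 237 [142, 166, 173, 178] (v17_mem C) (by decide +kernel) (by decide +kernel)

theorem s17_197 : Good C (vlist C) (v17 C) 1516 :=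
  good_seed C (f8104 C) 1516 [129, 155, 166, 174, 177] (v18_mem C) (by decide +kernel) (by decide +kernel)

theorem s17_198 : Good C (vlist C) (v17 C) 3750 :=
  good_seed C (f10730 C) 3750 [144, 155, 166, 173] (v18_mem C) (by decide +kernel) (by decide +kernel)

theorem s17_199 : Good C (vlist C) (v17 C) 2756 :=
  good_seed C (f7068 C) 2756 [130, 161, 164, 172] (v18_mem C) (by decide +kernel) (by decide +kernel)

theorem s17_200 : Good C (vlist C) (v17 C) 3110 :=
  good_seed C (f15010 C) 3110 [148, 160, 165, 175] (v18_mem C) (by decide +kernel) (by decide +kernel)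

theorem s17_201 : Good C (vlist C) (v17 C) 2310 :=
  good_seed C (f16483 C) 2310 [136, 163, 177] (v19_mem C) (by decide +kernel) (by decide +kernel)

theorem s17_202 : Good C (vlist C) (v17 C) 2722 :=
  good_seed C (f13240 C) 2722 [137, 159, 164, 175, 177] (v18_mem C) (by decide +kernel) (by decide +kernel)

theorem s17_203 : Good C (vlist C) (v17 C) 1721 :=
  good_seed C (f6633 C) 1721 [147, 174, 178] (v2_mem C) (by decide +kernel) (by decide +kernel)

theorem s17_204 : Good C (vlist C) (v17 C) 571 :=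
  good_seed C (f4928 C) 571 [126, 161, 170, 172, 177] (v17_mem C) (by decide +kernel) (by decide +kernel)

theorem s17_205 : Good C (vlist C) (v17 C) 247 :=
  good_seed C (f17578 C) 247 [134, 149, 170, 171, 177] (v20_mem C) (by decide +kernel) (by decide +kernel)

theorem s17_206 : Good C (vlist C) (v17 C) 2914 :=
  good_seed C (f5016 C) 2914 [144, 159, 164, 178] (v15_mem C) (by decide +kernel) (by decide +kernel)

theorem s17_207 : Good C (vlist C) (v17 C) 3712 :=
  good_seed C (f12178 C) 3712 [146, 153, 168, 174] (v18_mem C) (by decide +kernel) (by decide +kernel)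

theorem s17_208 : Good C (vlist C) (v17 C) 1749 :=
  good_seed C (f13773 C) 1749 [128, 158, 170, 171] (v18_mem C) (by decide +kernel) (by decide +kernel)

theorem s17_209 : Good C (vlist C) (v17 C) 251 :=
  good_seed C (f9369 C) 251 [142, 160, 167, 176] (v18_mem C) (by decide +kernel) (by decide +kernel)

theorem s17_210 : Good C (vlist C) (v17 C) 3263 :=
  good_seed C (f10201 C) 3263 [138, 155, 175, 177] (v18_mem C) (by decide +kernel) (by decide +kernel)

theorem s17_211 : Good C (vlist C) (v17 C) 2385 :=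
  good_seed C (f5915 C) 2385 [130, 159, 167, 175] (v17_mem C) (by decide +kernel) (by decide +kernel)

theorem s17_212 : Good C (vlist C) (v17 C) 3764 :=
  good_seed C (f4847 C) 3764 [147, 161, 165, 171, 178] (v15_mem C) (by decide +kernel) (by decide +kernel)

theorem s17_213 : Good C (vlist C) (v17 C) 1962 :=
  good_seed C (f11545 C) 1962 [133, 153, 169, 176] (v18_mem C) (by decide +kernel) (by decide +kernel)

theorem s17_214 : Good C (vlist C) (v17 C) 256 :=
  good_seed C (f5606 C) 256 [138, 172, 178] (v17_mem C) (by decide +kernel) (by decide +kernel)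

theorem s17_215 : Good C (vlist C) (v17 C) 2560 :=
  good_seed C (f15586 C) 2560 [132, 155, 166, 176, 177] (v19_mem C) (by decide +kernel) (by decide +kernel)

theorem s17_216 : Good C (vlist C) (v17 C) 3521 :=
  good_seed C (f5059 C) 3521 [145, 155, 174, 178] (v17_mem C) (by decide +kernel) (by decide +kernel)

theorem s17_217 : Good C (vlist C) (v17 C) 1192 :=
  good_seed C (f8352 C) 1192 [136, 150, 168, 177] (v18_mem C) (by decide +kernel) (by decide +kernel)

theorem s17_218 : Good C (vlist C) (v17 C) 2734 :=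
  good_seed C (f4914 C) 2734 [132, 149, 167, 174] (v16_mem C) (by decide +kernel) (by decide +kernel)

theorem s17_219 : Good C (vlist C) (v17 C) 262 :=
  good_seed C (f9423 C) 262 [128, 161, 164, 177] (v18_mem C) (by decide +kernel) (by decide +kernel)

theorem s17_220 : Good C (vlist C) (v17 C) 2880 :=
  good_seed C (f11382 C) 2880 [145, 157, 174, 177] (v18_mem C) (by decide +kernel) (by decide +kernel)

theorem s17_221 : Good C (vlist C) (v17 C) 264 :=
  good_seed C (f6046 C) 264 [135, 162, 168, 171, 177] (v17_mem C) (by decide +kernel) (by decide +kernel)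

theorem s17_222 : Good C (vlist C) (v17 C) 837 :=
  good_seed C (f5344 C) 837 [126, 156, 167, 177] (v9_mem C) (by decide +kernel) (by decide +kernel)

theorem s17_223 : Good C (vlist C) (v17 C) 513 :=
  good_seed C (f4387 C) 513 [142, 161, 166, 171] (v17_mem C) (by decide +kernel) (by decide +kernel)

theorem s17_224 : Good C (vlist C) (v17 C) 3366 :=
  good_seed C (f6456 C) 3366 [130, 159, 169, 172, 178] (v17_mem C) (by decide +kernel) (by decide +kernel)

theorem s17_225 : Good C (vlist C) (v17 C) 2007 :=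
  good_seed C (f12407 C) 2007 [132, 156, 175] (v18_mem C) (by decide +kernel) (by decide +kernel)

theorem s17_226 : Good C (vlist C) (v17 C) 1221 :=
  good_seed C (f7018 C) 1221 [140, 156, 165, 171] (v18_mem C) (by decide +kernel) (by decide +kernel)

theorem s17_227 : Good C (vlist C) (v17 C) 3725 :=
  good_seed C (f9350 C) 3725 [142, 158, 174, 178] (v18_mem C) (by decide +kernel) (by decide +kernel)

theorem s17_228 : Good C (vlist C) (v17 C) 1266 :=
  good_seed C (f13200 C) 1266 [141, 162, 172, 177] (v18_mem C) (by decide +kernel) (by decide +kernel)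

theorem s17_229 : Good C (vlist C) (v17 C) 1771 :=
  good_seed C (f6979 C) 1771 [155, 170, 171] (v18_mem C) (by decide +kernel) (by decide +kernel)

theorem s17_230 : Good C (vlist C) (v17 C) 3284 :=
  good_seed C (f5968 C) 3284 [143, 160, 170, 171, 178] (v17_mem C) (by decide +kernel) (by decide +kernel)

theorem s17_231 : Good C (vlist C) (v17 C) 1407 :=
  good_seed C (f6409 C) 1407 [147, 152, 169, 175, 177] (v15_mem C) (by decide +kernel) (by decide +kernel)

theorem s17_232 : Good C (vlist C) (v17 C) 2526 :=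
  good_seed C (f5201 C) 2526 [137, 162, 169, 171, 177] (v16_mem C) (by decide +kernel) (by decide +kernel)

theorem s17_233 : Good C (vlist C) (v17 C) 280 :=
  good_seed C (f16593 C) 280 [142, 156, 169, 171, 178] (v19_mem C) (by decide +kernel) (by decide +kernel)

theorem s17_234 : Good C (vlist C) (v17 C) 1236 :=
  good_seed C (f16619 C) 1236 [145, 153, 165, 173, 177] (v19_mem C) (by decide +kernel) (by decide +kernel)

theorem s17_235 : Good C (vlist C) (v17 C) 3309 :=
  good_seed C (f11333 C) 3309 [147, 161, 170, 173, 178] (v18_mem C) (by decide +kernel) (by decide +kernel)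

theorem s17_236 : Good C (vlist C) (v17 C) 1536 :=
  good_seed C (f4188 C) 1536 [129, 163, 165, 176, 177] (v9_mem C) (by decide +kernel) (by decide +kernel)

theorem s17_237 : Good C (vlist C) (v17 C) 2236 :=
  good_seed C (f14339 C) 2236 [127, 155, 167, 177] (v18_mem C) (by decide +kernel) (by decide +kernel)

theorem s17_238 : Good C (vlist C) (v17 C) 1032 :=
  good_seed C (f15953 C) 1032 [134, 163, 176] (v19_mem C) (by decide +kernel) (by decide +kernel)

theorem s17_239 : Good C (vlist C) (v17 C) 2702 :=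
  good_seed C (f8187 C) 2702 [128, 157, 167, 174, 177] (v18_mem C) (by decide +kernel) (by decide +kernel)

theorem s17_240 : Good C (vlist C) (v17 C) 2038 :=
  good_seed C (f15070 C) 2038 [130, 170, 175, 178] (v18_mem C) (by decide +kernel) (by decide +kernel)

theorem s17_241 : Good C (vlist C) (v17 C) 3147 :=
  good_seed C (f6132 C) 3147 [134, 161, 168, 178] (v17_mem C) (by decide +kernel) (by decide +kernel)

theorem s17_242 : Good C (vlist C) (v17 C) 1063 :=
  good_seed C (f10142 C) 1063 [130, 153, 170, 174] (v18_mem C) (by decide +kernel) (by decide +kernel)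

theorem s17_243 : Good C (vlist C) (v17 C) 2172 :=
  good_seed C (f8470 C) 2172 [138, 159, 169, 173, 177] (v18_mem C) (by decide +kernel) (by decide +kernel)

theorem s17_244 : Good C (vlist C) (v17 C) 2664 :=
  good_seed C (f11614 C) 2664 [130, 159, 166, 175, 177] (v18_mem C) (by decide +kernel) (by decide +kernel)

theorem s17_245 : Good C (vlist C) (v17 C) 446 :=
  good_seed C (f9401 C) 446 [147, 160, 167, 172, 177] (v18_mem C) (by decide +kernel) (by decide +kernel)

theorem s17_246 : Good C (vlist C) (v17 C) 3501 :=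
  good_seed C (f10424 C) 3501 [142, 149, 170, 171] (v18_mem C) (by decide +kernel) (by decide +kernel)

theorem s17_247 : Good C (vlist C) (v17 C) 305 :=
  good_seed C (f10659 C) 305 [147, 150, 164, 174] (v18_mem C) (by decide +kernel) (by decide +kernel)

theorem s17_248 : Good C (vlist C) (v17 C) 2713 :=
  good_seed C (f11328 C) 2713 [141, 161, 174] (v18_mem C) (by decide +kernel) (by decide +kernel)

theorem s17_249 : Good C (vlist C) (v17 C) 1740 :=
  good_seed C (f16221 C) 1740 [130, 166, 174, 177] (v19_mem C) (by decide +kernel) (by decide +kernel)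

theorem s17_250 : Good C (vlist C) (v17 C) 3060 :=
  good_seed C (f9587 C) 3060 [142, 154, 166, 171, 177] (v18_mem C) (by decide +kernel) (by decide +kernel)

theorem s17_251 : Good C (vlist C) (v17 C) 315 :=
  good_seed C (f16992 C) 315 [144, 160, 165, 175, 178] (v19_mem C) (by decide +kernel) (by decide +kernel)

theorem s17_252 : Good C (vlist C) (v17 C) 2769 :=
  good_seed C (f5102 C) 2769 [143, 157, 170] (v17_mem C) (by decide +kernel) (by decide +kernel)

theorem s17_253 : Good C (vlist C) (v17 C) 1289 :=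
  good_seed C (f5873 C) 1289 [127, 162, 165, 172] (v17_mem C) (by decide +kernel) (by decide +kernel)

theorem s17_254 : Good C (vlist C) (v17 C) 2261 :=
  good_seed C (f5369 C) 2261 [126, 168, 172, 178] (v17_mem C) (by decide +kernel) (by decide +kernel)

theorem s17_255 : Good C (vlist C) (v17 C) 1182 :=
  good_seed C (f16110 C) 1182 [146, 160, 166, 172, 178] (v19_mem C) (by decide +kernel) (by decide +kernel)

theorem s17_256 : Good C (vlist C) (v17 C) 1937 :=
  good_seed C (f5764 C) 1937 [137, 157, 166, 175, 177] (v17_mem C) (by decide +kernel) (by decide +kernel)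

theorem s17_257 : Good C (vlist C) (v17 C) 1909 :=
  good_seed C (f14320 C) 1909 [135, 158, 165, 172, 177] (v18_mem C) (by decide +kernel) (by decide +kernel)

theorem s17_258 : Good C (vlist C) (v17 C) 323 :=
  good_seed C (f15151 C) 323 [126, 158, 168, 171, 177] (v18_mem C) (by decide +kernel) (by decide +kernel)

theorem s17_259 : Good C (vlist C) (v17 C) 3165 :=
  good_seed C (f6516 C) 3165 [136, 163, 166, 178] (v17_mem C) (by decide +kernel) (by decide +kernel)

theorem s17_260 : Good C (vlist C) (v17 C) 1042 :=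
  good_seed C (f11598 C) 1042 [143, 155, 175, 177] (v18_mem C) (by decide +kernel) (by decide +kernel)

theorem s17_261 : Good C (vlist C) (v17 C) 884 :=
  good_seed C (f4963 C) 884 [134, 158, 168, 175, 177] (v17_mem C) (by decide +kernel) (by decide +kernel)

theorem s17_262 : Good C (vlist C) (v17 C) 3451 :=
  good_seed C (f4873 C) 3451 [138, 163, 166, 173, 177] (v16_mem C) (by decide +kernel) (by decide +kernel)

theorem s17_263 : Good C (vlist C) (v17 C) 1029 :=
  good_seed C (f10594 C) 1029 [148, 160, 164, 175, 177] (v18_mem C) (by decide +kernel) (by decide +kernel)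

theorem s17_264 : Good C (vlist C) (v17 C) 330 :=
  good_seed C (f13062 C) 330 [131, 159, 167, 175] (v18_mem C) (by decide +kernel) (by decide +kernel)

theorem s17_265 : Good C (vlist C) (v17 C) 456 :=
  good_seed C (f16245 C) 456 [143, 151, 168, 171, 177] (v19_mem C) (by decide +kernel) (by decide +kernel)

theorem s17_266 : Good C (vlist C) (v17 C) 3041 :=
  good_seed C (f8195 C) 3041 [135, 152, 169, 175, 177] (v18_mem C) (by decide +kernel) (by decide +kernel)

theorem s17_267 : Good C (vlist C) (v17 C) 2463 :=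
  good_seed C (f11143 C) 2463 [144, 155, 170, 174, 177] (v18_mem C) (by decide +kernel) (by decide +kernel)

theorem s17_268 : Good C (vlist C) (v17 C) 343 :=
  good_seed C (f4709 C) 343 [144, 150, 169, 176, 177] (v15_mem C) (by decide +kernel) (by decide +kernel)

theorem s17_269 : Good C (vlist C) (v17 C) 2603 :=
  good_seed C (f6492 C) 2603 [141, 151, 164, 172, 178] (v17_mem C) (by decide +kernel) (by decide +kernel)

theorem s17_270 : Good C (vlist C) (v17 C) 3422 :=
  good_seed C (f6985 C) 3422 [133, 164, 176, 178] (v18_mem C) (by decide +kernel) (by decide +kernel)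

theorem s17_271 : Good C (vlist C) (v17 C) 984 :=
  good_seed C (f4936 C) 984 [146, 151, 164, 178] (v17_mem C) (by decide +kernel) (by decide +kernel)

theorem s17_272 : Good C (vlist C) (v17 C) 3240 :=
  good_seed C (f13783 C) 3240 [126, 149, 170, 176] (v18_mem C) (by decide +kernel) (by decide +kernel)

theorem s17_273 : Good C (vlist C) (v17 C) 1833 :=
  good_seed C (f12585 C) 1833 [133, 156, 168, 173] (v18_mem C) (by decide +kernel) (by decide +kernel)

theorem s17_274 : Good C (vlist C) (v17 C) 1638 :=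
  good_seed C (f13701 C) 1638 [148, 159, 166] (v18_mem C) (by decide +kernel) (by decide +kernel)

theorem s17_275 : Good C (vlist C) (v17 C) 1821 :=
  good_seed C (f6390 C) 1821 [137, 154, 168, 178] (v17_mem C) (by decide +kernel) (by decide +kernel)

theorem s17_276 : Good C (vlist C) (v17 C) 1823 :=
  good_seed C (f6829 C) 1823 [134, 154, 167, 175, 177] (v3_mem C) (by decide +kernel) (by decide +kernel)

theorem s17_277 : Good C (vlist C) (v17 C) 3746 :=
  good_seed C (f9324 C) 3746 [133, 150, 165, 173] (v18_mem C) (by decide +kernel) (by decide +kernel)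

theorem s17_278 : Good C (vlist C) (v17 C) 1442 :=
  good_seed C (f8843 C) 1442 [147, 151, 170] (v18_mem C) (by decide +kernel) (by decide +kernel)

theorem s17_279 : Good C (vlist C) (v17 C) 448 :=
  good_seed C (f14400 C) 448 [141, 150, 165, 177] (v18_mem C) (by decide +kernel) (by decide +kernel)

theorem s17_280 : Good C (vlist C) (v17 C) 498 :=
  good_seed C (f14479 C) 498 [133, 153, 165, 175, 177] (v18_mem C) (by decide +kernel) (by decide +kernel)

theorem s17_281 : Good C (vlist C) (v17 C) 3407 :=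
  good_seed C (f12515 C) 3407 [131, 150, 166, 176] (v18_mem C) (by decide +kernel) (by decide +kernel)

theorem s17_282 : Good C (vlist C) (v17 C) 2376 :=
  good_seed C (f4501 C) 2376 [150, 170, 171] (v16_mem C) (by decide +kernel) (by decide +kernel)

theorem s17_283 : Good C (vlist C) (v17 C) 1151 :=
  good_seed C (f13924 C) 1151 [148, 158, 170, 173, 177] (v18_mem C) (by decide +kernel) (by decide +kernel)

theorem s17_284 : Good C (vlist C) (v17 C) 2435 :=
  good_seed C (f10952 C) 2435 [133, 159, 169, 174, 177] (v18_mem C) (by decide +kernel) (by decide +kernel)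

theorem s17_285 : Good C (vlist C) (v17 C) 1044 :=
  good_seed C (f9395 C) 1044 [146, 159, 174] (v18_mem C) (by decide +kernel) (by decide +kernel)

theorem s17_286 : Good C (vlist C) (v17 C) 774 :=
  good_seed C (f8357 C) 774 [138, 158, 165] (v18_mem C) (by decide +kernel) (by decide +kernel)

theorem s17_287 : Good C (vlist C) (v17 C) 699 :=
  good_seed C (f9275 C) 699 [135, 174, 178] (v18_mem C) (by decide +kernel) (by decide +kernel)

theorem s17_288 : Good C (vlist C) (v17 C) 1299 :=
  good_seed C (f5795 C) 1299 [140, 155, 170, 174, 177] (v17_mem C) (by decide +kernel) (by decide +kernel)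

theorem s17_289 : Good C (vlist C) (v17 C) 1649 :=
  good_seed C (f4759 C) 1649 [138, 163, 171] (v10_mem C) (by decide +kernel) (by decide +kernel)

theorem s17_290 : Good C (vlist C) (v17 C) 3666 :=
  good_seed C (f12443 C) 3666 [128, 152, 166, 174, 177] (v18_mem C) (by decide +kernel) (by decide +kernel)

theorem s17_291 : Good C (vlist C) (v17 C) 3640 :=
  good_seed C (f6104 C) 3640 [141, 157, 169, 172] (v10_mem C) (by decide +kernel) (by decide +kernel)

theorem s17_292 : Good C (vlist C) (v17 C) 2414 :=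
  good_seed C (f13739 C) 2414 [140, 158, 173, 178] (v18_mem C) (by decide +kernel) (by decide +kernel)

theorem s17_293 : Good C (vlist C) (v17 C) 2306 :=
  good_seed C (f9252 C) 2306 [132, 166, 175] (v18_mem C) (by decide +kernel) (by decide +kernel)

theorem s17_294 : Good C (vlist C) (v17 C) 381 :=
  good_seed C (f4971 C) 381 [142, 161, 164, 174, 178] (v17_mem C) (by decide +kernel) (by decide +kernel)

theorem s17_295 : Good C (vlist C) (v17 C) 382 :=
  good_seed C (f4408 C) 382 [141, 155, 164, 174] (v9_mem C) (by decide +kernel) (by decide +kernel)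

theorem s17_296 : Good C (vlist C) (v17 C) 2509 :=
  good_seed C (f7724 C) 2509 [138, 158, 169, 175] (v18_mem C) (by decide +kernel) (by decide +kernel)

theorem s17_297 : Good C (vlist C) (v17 C) 2465 :=
  good_seed C (f5389 C) 2465 [130, 150, 177] (v15_mem C) (by decide +kernel) (by decide +kernel)

theorem s17_298 : Good C (vlist C) (v17 C) 389 :=
  good_seed C (f7834 C) 389 [134, 163, 169, 171, 178] (v18_mem C) (by decide +kernel) (by decide +kernel)

theorem s17_299 : Good C (vlist C) (v17 C) 2850 :=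
  good_seed C (f12474 C) 2850 [146, 159, 167, 177] (v18_mem C) (by decide +kernel) (by decide +kernel)

theorem s17_300 : Good C (vlist C) (v17 C) 3065 :=
  good_seed C (f8075 C) 3065 [137, 163, 170, 176, 178] (v18_mem C) (by decide +kernel) (by decide +kernel)

theorem s17_301 : Good C (vlist C) (v17 C) 1127 :=
  good_seed C (f8621 C) 1127 [132, 152, 169, 175, 178] (v18_mem C) (by decide +kernel) (by decide +kernel)

theorem s17_302 : Good C (vlist C) (v17 C) 397 :=
  good_seed C (f14660 C) 397 [140, 157, 174, 177] (v18_mem C) (by decide +kernel) (by decide +kernel)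

theorem s17_303 : Good C (vlist C) (v17 C) 942 :=
  good_seed C (f4947 C) 942 [129, 162, 165, 175, 178] (v17_mem C) (by decide +kernel) (by decide +kernel)

theorem s17_304 : Good C (vlist C) (v17 C) 1351 :=
  good_seed C (f11433 C) 1351 [142, 160, 166, 176, 177] (v18_mem C) (by decide +kernel) (by decide +kernel)

theorem s17_305 : Good C (vlist C) (v17 C) 3379 :=
  good_seed C (f10627 C) 3379 [132, 164, 172] (v18_mem C) (by decide +kernel) (by decide +kernel)

theorem s17_306 : Good C (vlist C) (v17 C) 3365 :=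
  good_seed C (f10575 C) 3365 [128, 161, 169, 176, 178] (v18_mem C) (by decide +kernel) (by decide +kernel)

theorem s17_307 : Good C (vlist C) (v17 C) 3492 :=
  good_seed C (f12554 C) 3492 [148, 161, 164, 173] (v18_mem C) (by decide +kernel) (by decide +kernel)

theorem s17_308 : Good C (vlist C) (v17 C) 1639 :=
  good_seed C (f5286 C) 1639 [126, 163, 167, 171, 178] (v17_mem C) (by decide +kernel) (by decide +kernel)

theorem s17_309 : Good C (vlist C) (v17 C) 1782 :=
  good_seed C (f5489 C) 1782 [126, 165, 174, 177] (v4_mem C) (by decide +kernel) (by decide +kernel)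

theorem s17_310 : Good C (vlist C) (v17 C) 2357 :=
  good_seed C (f13768 C) 2357 [126, 155, 167, 171, 177] (v18_mem C) (by decide +kernel) (by decide +kernel)

theorem s17_311 : Good C (vlist C) (v17 C) 955 :=
  good_seed C (f9452 C) 955 [143, 153, 174, 178] (v18_mem C) (by decide +kernel) (by decide +kernel)

theorem s17_312 : Good C (vlist C) (v17 C) 1363 :=
  good_seed C (f4289 C) 1363 [137, 150, 166, 172, 177] (v17_mem C) (by decide +kernel) (by decide +kernel)

theorem s17_313 : Good C (vlist C) (v17 C) 420 :=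
  good_seed C (f9340 C) 420 [137, 152, 169, 176, 177] (v18_mem C) (by decide +kernel) (by decide +kernel)

theorem s17_314 : Good C (vlist C) (v17 C) 757 :=
  good_seed C (f9628 C) 757 [147, 159, 165, 176] (v18_mem C) (by decide +kernel) (by decide +kernel)

theorem s17_315 : Good C (vlist C) (v17 C) 3242 :=
  good_seed C (f4213 C) 3242 [131, 158, 165, 176] (v15_mem C) (by decide +kernel) (by decide +kernel)

theorem s17_316 : Good C (vlist C) (v17 C) 3035 :=
  good_seed C (f6993 C) 3035 [151, 165, 172] (v18_mem C) (by decide +kernel) (by decide +kernel)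

theorem s17_317 : Good C (vlist C) (v17 C) 429 :=
  good_seed C (f6287 C) 429 [135, 158, 167, 175, 178] (v17_mem C) (by decide +kernel) (by decide +kernel)

theorem s17_318 : Good C (vlist C) (v17 C) 1874 :=
  good_seed C (f12840 C) 1874 [138, 162, 169, 174, 178] (v18_mem C) (by decide +kernel) (by decide +kernel)

theorem s17_319 : Good C (vlist C) (v17 C) 2045 :=
  good_seed C (f9385 C) 2045 [141, 150, 164, 175, 177] (v18_mem C) (by decide +kernel) (by decide +kernel)

theorem s17_320 : Good C (vlist C) (v17 C) 1064 :=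
  good_seed C (f6297 C) 1064 [141, 159, 165, 175, 178] (v16_mem C) (by decide +kernel) (by decide +kernel)

theorem s17_321 : Good C (vlist C) (v17 C) 2274 :=
  good_seed C (f5338 C) 2274 [131, 159, 173, 177] (v17_mem C) (by decide +kernel) (by decide +kernel)

theorem s17_322 : Good C (vlist C) (v17 C) 3630 :=
  good_seed C (f5652 C) 3630 [136, 161, 168, 172, 177] (v17_mem C) (by decide +kernel) (by decide +kernel)

theorem s17_323 : Good C (vlist C) (v17 C) 1846 :=
  good_seed C (f6577 C) 1846 [147, 155, 166, 173, 177] (v17_mem C) (by decide +kernel) (by decide +kernel)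

theorem s17_324 : Good C (vlist C) (v17 C) 3323 :=
  good_seed C (f13797 C) 3323 [137, 153, 167, 173, 178] (v18_mem C) (by decide +kernel) (by decide +kernel)

theorem s17_325 : Good C (vlist C) (v17 C) 1783 :=
  good_seed C (f15809 C) 1783 [134, 162, 168, 176] (v19_mem C) (by decide +kernel) (by decide +kernel)

theorem s17_326 : Good C (vlist C) (v17 C) 1879 :=
  good_seed C (f6586 C) 1879 [141, 169, 175, 177] (v17_mem C) (by decide +kernel) (by decide +kernel)

theorem s17_327 : Good C (vlist C) (v17 C) 613 :=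
  good_seed C (f17055 C) 613 [128, 162, 166, 171, 178] (v19_mem C) (by decide +kernel) (by decide +kernel)

theorem s17_328 : Good C (vlist C) (v17 C) 2939 :=
  good_seed C (f7569 C) 2939 [137, 163, 174, 178] (v18_mem C) (by decide +kernel) (by decide +kernel)

theorem s17_329 : Good C (vlist C) (v17 C) 447 :=
  good_seed C (f16092 C) 447 [132, 158, 167, 176, 178] (v19_mem C) (by decide +kernel) (by decide +kernel)

theorem s17_330 : Good C (vlist C) (v17 C) 1678 :=
  good_seed C (f6417 C) 1678 [138, 153, 166, 175, 177] (v17_mem C) (by decide +kernel) (by decide +kernel)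

theorem s17_331 : Good C (vlist C) (v17 C) 2127 :=
  good_seed C (f6766 C) 2127 [144, 159, 165, 175] (v17_mem C) (by decide +kernel) (by decide +kernel)

theorem s17_332 : Good C (vlist C) (v17 C) 455 :=
  good_seed C (f16844 C) 455 [146, 163, 166, 174] (v19_mem C) (by decide +kernel) (by decide +kernel)

theorem s17_333 : Good C (vlist C) (v17 C) 459 :=
  good_seed C (f4430 C) 459 [132, 150, 168, 176, 178] (v10_mem C) (by decide +kernel) (by decide +kernel)

theorem s17_334 : Good C (vlist C) (v17 C) 463 :=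
  good_seed C (f10383 C) 463 [143, 149, 172, 178] (v18_mem C) (by decide +kernel) (by decide +kernel)

theorem s17_335 : Good C (vlist C) (v17 C) 3353 :=
  good_seed C (f17088 C) 3353 [145, 153, 165, 173] (v19_mem C) (by decide +kernel) (by decide +kernel)

theorem s17_336 : Good C (vlist C) (v17 C) 1175 :=
  good_seed C (f6500 C) 1175 [139, 152, 169, 171, 177] (v17_mem C) (by decide +kernel) (by decide +kernel)

theorem s17_337 : Good C (vlist C) (v17 C) 974 :=
  good_seed C (f6676 C) 974 [143, 159, 166, 176, 177] (v17_mem C) (by decide +kernel) (by decide +kernel)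

theorem s17_338 : Good C (vlist C) (v17 C) 3088 :=
  good_seed C (f13258 C) 3088 [140, 152, 165, 173, 178] (v18_mem C) (by decide +kernel) (by decide +kernel)

theorem s17_339 : Good C (vlist C) (v17 C) 2820 :=
  good_seed C (f9286 C) 2820 [142, 152, 166, 174, 178] (v18_mem C) (by decide +kernel) (by decide +kernel)

theorem s17_340 : Good C (vlist C) (v17 C) 472 :=
  good_seed C (f9303 C) 472 [147, 157, 166, 173, 178] (v18_mem C) (by decide +kernel) (by decide +kernel)

theorem s17_341 : Good C (vlist C) (v17 C) 2951 :=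
  good_seed C (f6346 C) 2951 [134, 151, 169, 175, 178] (v4_mem C) (by decide +kernel) (by decide +kernel)

theorem s17_342 : Good C (vlist C) (v17 C) 476 :=
  good_seed C (f4786 C) 476 [163, 172, 177] (v10_mem C) (by decide +kernel) (by decide +kernel)

theorem s17_343 : Good C (vlist C) (v17 C) 2626 :=
  good_seed C (f5692 C) 2626 [135, 161, 166, 173, 177] (v16_mem C) (by decide +kernel) (by decide +kernel)

theorem s17_344 : Good C (vlist C) (v17 C) 3106 :=
  good_seed C (f15042 C) 3106 [129, 170, 177] (v18_mem C) (by decide +kernel) (by decide +kernel)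

theorem s17_345 : Good C (vlist C) (v17 C) 1993 :=
  good_seed C (f4858 C) 1993 [142, 154, 170] (v15_mem C) (by decide +kernel) (by decide +kernel)

theorem s17_346 : Good C (vlist C) (v17 C) 1344 :=
  good_seed C (f5722 C) 1344 [137, 150, 165, 171, 177] (v15_mem C) (by decide +kernel) (by decide +kernel)

theorem s17_347 : Good C (vlist C) (v17 C) 2009 :=
  good_seed C (f5351 C) 2009 [134, 154, 167, 178] (v4_mem C) (by decide +kernel) (by decide +kernel)

theorem s17_348 : Good C (vlist C) (v17 C) 1053 :=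
  good_seed C (f10866 C) 1053 [146, 164, 172, 177] (v18_mem C) (by decide +kernel) (by decide +kernel)

theorem s17_349 : Good C (vlist C) (v17 C) 2137 :=
  good_seed C (f4901 C) 2137 [127, 151, 164, 175] (v16_mem C) (by decide +kernel) (by decide +kernel)

theorem s17_350 : Good C (vlist C) (v17 C) 2675 :=
  good_seed C (f5381 C) 2675 [130, 158, 174] (v15_mem C) (by decide +kernel) (by decide +kernel)

theorem s17_351 : Good C (vlist C) (v17 C) 2375 :=
  good_seed C (f6552 C) 2375 [147, 156, 172] (v17_mem C) (by decide +kernel) (by decide +kernel)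

theorem s17_352 : Good C (vlist C) (v17 C) 2837 :=
  good_seed C (f5554 C) 2837 [143, 152, 166, 174] (v15_mem C) (by decide +kernel) (by decide +kernel)

theorem s17_353 : Good C (vlist C) (v17 C) 1824 :=
  good_seed C (f6305 C) 1824 [144, 149, 164, 171, 177] (v17_mem C) (by decide +kernel) (by decide +kernel)

theorem s17_354 : Good C (vlist C) (v17 C) 2711 :=
  good_seed C (f14767 C) 2711 [147, 157, 167, 173, 177] (v18_mem C) (by decide +kernel) (by decide +kernel)

theorem s17_355 : Good C (vlist C) (v17 C) 1417 :=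
  good_seed C (f15578 C) 1417 [134, 157, 166, 173, 178] (v19_mem C) (by decide +kernel) (by decide +kernel)

theorem s17_356 : Good C (vlist C) (v17 C) 512 :=
  good_seed C (f10465 C) 512 [136, 152, 165, 175] (v18_mem C) (by decide +kernel) (by decide +kernel)

theorem s17_357 : Good C (vlist C) (v17 C) 1237 :=
  good_seed C (f4664 C) 1237 [146, 155, 169, 175, 178] (v9_mem C) (by decide +kernel) (by decide +kernel)

theorem s17_358 : Good C (vlist C) (v17 C) 515 :=
  good_seed C (f6217 C) 515 [134, 161, 165, 171] (v15_mem C) (by decide +kernel) (by decide +kernel)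

theorem s17_359 : Good C (vlist C) (v17 C) 2183 :=
  good_seed C (f8795 C) 2183 [138, 161, 170, 177] (v18_mem C) (by decide +kernel) (by decide +kernel)

theorem s17_360 : Good C (vlist C) (v17 C) 1018 :=
  good_seed C (f5339 C) 1018 [136, 157, 169, 173, 177] (v17_mem C) (by decide +kernel) (by decide +kernel)

theorem s17_361 : Good C (vlist C) (v17 C) 2469 :=
  good_seed C (f17126 C) 2469 [148, 160, 167, 175, 178] (v19_mem C) (by decide +kernel) (by decide +kernel)

theorem s17_362 : Good C (vlist C) (v17 C) 743 :=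
  good_seed C (f15160 C) 743 [127, 154, 169, 174, 178] (v18_mem C) (by decide +kernel) (by decide +kernel)

theorem s17_363 : Good C (vlist C) (v17 C) 1329 :=
  good_seed C (f4616 C) 1329 [131, 150, 176] (v6_mem C) (by decide +kernel) (by decide +kernel)

theorem s17_364 : Good C (vlist C) (v17 C) 2772 :=
  good_seed C (f5818 C) 2772 [145, 149, 167, 174, 177] (v17_mem C) (by decide +kernel) (by decide +kernel)

theorem s17_365 : Good C (vlist C) (v17 C) 534 :=
  good_seed C (f12722 C) 534 [146, 160, 164, 172] (v18_mem C) (by decide +kernel) (by decide +kernel)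

theorem s17_366 : Good C (vlist C) (v17 C) 2731 :=
  good_seed C (f6510 C) 2731 [136, 151, 167, 175, 177] (v17_mem C) (by decide +kernel) (by decide +kernel)

theorem s17_367 : Good C (vlist C) (v17 C) 3389 :=
  good_seed C (f5121 C) 3389 [129, 152, 164, 175, 177] (v17_mem C) (by decide +kernel) (by decide +kernel)

theorem s17_368 : Good C (vlist C) (v17 C) 537 :=
  good_seed C (f13778 C) 537 [130, 152, 171] (v18_mem C) (by decide +kernel) (by decide +kernel)

theorem s17_369 : Good C (vlist C) (v17 C) 696 :=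
  good_seed C (f4964 C) 696 [137, 156, 164, 171] (v17_mem C) (by decide +kernel) (by decide +kernel)

theorem s17_370 : Good C (vlist C) (v17 C) 542 :=
  good_seed C (f4717 C) 542 [133, 160, 174] (v15_mem C) (by decide +kernel) (by decide +kernel)

theorem s17_371 : Good C (vlist C) (v17 C) 2777 :=
  good_seed C (f9244 C) 2777 [146, 163] (v18_mem C) (by decide +kernel) (by decide +kernel)

theorem s17_372 : Good C (vlist C) (v17 C) 2287 :=
  good_seed C (f9317 C) 2287 [147, 159, 165, 178] (v18_mem C) (by decide +kernel) (by decide +kernel)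

theorem s17_373 : Good C (vlist C) (v17 C) 2651 :=
  good_seed C (f6657 C) 2651 [136, 149, 166, 172, 178] (v17_mem C) (by decide +kernel) (by decide +kernel)

theorem s17_374 : Good C (vlist C) (v17 C) 2605 :=
  good_seed C (f13878 C) 2605 [140, 152, 166, 172, 177] (v18_mem C) (by decide +kernel) (by decide +kernel)

theorem s17_375 : Good C (vlist C) (v17 C) 2340 :=
  good_seed C (f9766 C) 2340 [132, 155, 169, 173, 178] (v18_mem C) (by decide +kernel) (by decide +kernel)

theorem s17_376 : Good C (vlist C) (v17 C) 554 :=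
  good_seed C (f6173 C) 554 [145, 149, 170, 176] (v17_mem C) (by decide +kernel) (by decide +kernel)

theorem s17_377 : Good C (vlist C) (v17 C) 973 :=
  good_seed C (f5052 C) 973 [145, 153, 168, 171] (v17_mem C) (by decide +kernel) (by decide +kernel)

theorem s17_378 : Good C (vlist C) (v17 C) 1017 :=
  good_seed C (f7386 C) 1017 [144, 159, 170, 173] (v18_mem C) (by decide +kernel) (by decide +kernel)

theorem s17_379 : Good C (vlist C) (v17 C) 2036 :=
  good_seed C (f10837 C) 2036 [126, 161, 168, 173, 178] (v18_mem C) (by decide +kernel) (by decide +kernel)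

theorem s17_380 : Good C (vlist C) (v17 C) 566 :=
  good_seed C (f5585 C) 566 [136, 170, 173] (v17_mem C) (by decide +kernel) (by decide +kernel)

theorem s17_381 : Good C (vlist C) (v17 C) 1725 :=
  good_seed C (f9937 C) 1725 [144, 151, 165, 175] (v18_mem C) (by decide +kernel) (by decide +kernel)

theorem s17_382 : Good C (vlist C) (v17 C) 3461 :=
  good_seed C (f9459 C) 3461 [144, 151, 177] (v18_mem C) (by decide +kernel) (by decide +kernel)

theorem s17_383 : Good C (vlist C) (v17 C) 2346 :=
  good_seed C (f4988 C) 2346 [142, 159, 175, 177] (v17_mem C) (by decide +kernel) (by decide +kernel)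

theorem s17_384 : Good C (vlist C) (v17 C) 2692 :=
  good_seed C (f5805 C) 2692 [142, 162, 170, 172] (v17_mem C) (by decide +kernel) (by decide +kernel)

theorem s17_385 : Good C (vlist C) (v17 C) 2798 :=
  good_seed C (f4453 C) 2798 [142, 150, 173, 177] (v15_mem C) (by decide +kernel) (by decide +kernel)

theorem s17_386 : Good C (vlist C) (v17 C) 3651 :=
  good_seed C (f11061 C) 3651 [137, 162, 164, 175] (v18_mem C) (by decide +kernel) (by decide +kernel)

theorem s17_387 : Good C (vlist C) (v17 C) 1101 :=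
  good_seed C (f14627 C) 1101 [135, 162, 165, 171, 178] (v18_mem C) (by decide +kernel) (by decide +kernel)

theorem s17_388 : Good C (vlist C) (v17 C) 2308 :=
  good_seed C (f6039 C) 2308 [127, 158, 169, 174] (v17_mem C) (by decide +kernel) (by decide +kernel)

theorem s17_389 : Good C (vlist C) (v17 C) 587 :=
  good_seed C (f5495 C) 587 [144, 149, 164, 173] (v15_mem C) (by decide +kernel) (by decide +kernel)

theorem s17_390 : Good C (vlist C) (v17 C) 827 :=
  good_seed C (f10569 C) 827 [127, 150, 168, 175, 178] (v18_mem C) (by decide +kernel) (by decide +kernel)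

theorem s17_391 : Good C (vlist C) (v17 C) 3348 :=
  good_seed C (f6441 C) 3348 [126, 159, 168, 171, 177] (v17_mem C) (by decide +kernel) (by decide +kernel)

theorem s17_392 : Good C (vlist C) (v17 C) 3517 :=
  good_seed C (f14966 C) 3517 [126, 163, 164, 175, 177] (v18_mem C) (by decide +kernel) (by decide +kernel)

theorem s17_393 : Good C (vlist C) (v17 C) 950 :=
  good_seed C (f5848 C) 950 [133, 162, 166, 175, 178] (v4_mem C) (by decide +kernel) (by decide +kernel)

theorem s17_394 : Good C (vlist C) (v17 C) 1021 :=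
  good_seed C (f5584 C) 1021 [135, 152, 166, 171, 178] (v17_mem C) (by decide +kernel) (by decide +kernel)

theorem s17_395 : Good C (vlist C) (v17 C) 1601 :=
  good_seed C (f10723 C) 1601 [126, 156, 165, 173] (v18_mem C) (by decide +kernel) (by decide +kernel)

theorem s17_396 : Good C (vlist C) (v17 C) 599 :=
  good_seed C (f4489 C) 599 [145, 167, 175, 178] (v15_mem C) (by decide +kernel) (by decide +kernel)

theorem s17_397 : Good C (vlist C) (v17 C) 2569 :=
  good_seed C (f11551 C) 2569 [148, 156, 169, 171] (v18_mem C) (by decide +kernel) (by decide +kernel)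

theorem s17_398 : Good C (vlist C) (v17 C) 601 :=
  good_seed C (f5571 C) 601 [132, 152, 169] (v15_mem C) (by decide +kernel) (by decide +kernel)

theorem s17_399 : Good C (vlist C) (v17 C) 2175 :=
  good_seed C (f16909 C) 2175 [136, 161, 165, 176, 178] (v19_mem C) (by decide +kernel) (by decide +kernel)

theorem s17_400 : Good C (vlist C) (v17 C) 3232 :=
  good_seed C (f8425 C) 3232 [134, 153, 164, 178] (v18_mem C) (by decide +kernel) (by decide +kernel)

theorem s17_401 : Good C (vlist C) (v17 C) 2681 :=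
  good_seed C (f6467 C) 2681 [129, 149, 164, 171, 177] (v17_mem C) (by decide +kernel) (by decide +kernel)

theorem s17_402 : Good C (vlist C) (v17 C) 1869 :=
  good_seed C (f9335 C) 1869 [140, 151, 167, 174, 178] (v18_mem C) (by decide +kernel) (by decide +kernel)

theorem s17_403 : Good C (vlist C) (v17 C) 610 :=
  good_seed C (f5595 C) 610 [129, 162, 170, 174, 178] (v17_mem C) (by decide +kernel) (by decide +kernel)

theorem s17_404 : Good C (vlist C) (v17 C) 752 :=
  good_seed C (f9117 C) 752 [131, 161, 168, 174, 178] (v18_mem C) (by decide +kernel) (by decide +kernel)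

theorem s17_405 : Good C (vlist C) (v17 C) 990 :=
  good_seed C (f14699 C) 990 [133, 149, 170, 173] (v18_mem C) (by decide +kernel) (by decide +kernel)

theorem s17_406 : Good C (vlist C) (v17 C) 1559 :=
  good_seed C (f9356 C) 1559 [147, 155, 173, 178] (v18_mem C) (by decide +kernel) (by decide +kernel)

theorem s17_407 : Good C (vlist C) (v17 C) 616 :=
  good_seed C (f11440 C) 616 [165, 173, 178] (v18_mem C) (by decide +kernel) (by decide +kernel)

theorem s17_408 : Good C (vlist C) (v17 C) 3769 :=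
  good_seed C (f5152 C) 3769 [131, 158, 169, 172] (v10_mem C) (by decide +kernel) (by decide +kernel)

theorem s17_409 : Good C (vlist C) (v17 C) 2867 :=
  good_seed C (f6139 C) 2867 [131, 160, 175, 177] (v17_mem C) (by decide +kernel) (by decide +kernel)

theorem s17_410 : Good C (vlist C) (v17 C) 1194 :=
  good_seed C (f10884 C) 1194 [140, 150, 164, 175] (v18_mem C) (by decide +kernel) (by decide +kernel)

theorem s17_411 : Good C (vlist C) (v17 C) 1573 :=
  good_seed C (f6466 C) 1573 [143, 165, 174] (v17_mem C) (by decide +kernel) (by decide +kernel)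

theorem s17_412 : Good C (vlist C) (v17 C) 2496 :=
  good_seed C (f5829 C) 2496 [130, 153, 167, 176, 178] (v17_mem C) (by decide +kernel) (by decide +kernel)

theorem s17_413 : Good C (vlist C) (v17 C) 2955 :=
  good_seed C (f17048 C) 2955 [134, 160, 167, 174] (v19_mem C) (by decide +kernel) (by decide +kernel)

theorem s17_414 : Good C (vlist C) (v17 C) 637 :=
  good_seed C (f15051 C) 637 [134, 159, 164, 173, 178] (v18_mem C) (by decide +kernel) (by decide +kernel)

theorem s17_415 : Good C (vlist C) (v17 C) 640 :=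
  good_seed C (f6240 C) 640 [145, 152, 168, 176] (v15_mem C) (by decide +kernel) (by decide +kernel)

theorem s17_416 : Good C (vlist C) (v17 C) 3684 :=
  good_seed C (f14444 C) 3684 [130, 160, 164, 175, 178] (v18_mem C) (by decide +kernel) (by decide +kernel)

theorem s17_417 : Good C (vlist C) (v17 C) 833 :=
  good_seed C (f6270 C) 833 [133, 150, 167, 178] (v3_mem C) (by decide +kernel) (by decide +kernel)

theorem s17_418 : Good C (vlist C) (v17 C) 1880 :=
  good_seed C (f10748 C) 1880 [146, 159, 165, 173, 178] (v18_mem C) (by decide +kernel) (by decide +kernel)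

theorem s17_419 : Good C (vlist C) (v17 C) 3489 :=
  good_seed C (f16421 C) 3489 [144, 151, 164, 176, 177] (v19_mem C) (by decide +kernel) (by decide +kernel)

theorem s17_420 : Good C (vlist C) (v17 C) 3201 :=
  good_seed C (f4324 C) 3201 [146, 162, 170, 175] (v17_mem C) (by decide +kernel) (by decide +kernel)

theorem s17_421 : Good C (vlist C) (v17 C) 1052 :=
  good_seed C (f7009 C) 1052 [126, 149, 165, 172, 178] (v18_mem C) (by decide +kernel) (by decide +kernel)

theorem s17_422 : Good C (vlist C) (v17 C) 654 :=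
  good_seed C (f4767 C) 654 [134, 152, 168, 176] (v10_mem C) (by decide +kernel) (by decide +kernel)

theorem s17_423 : Good C (vlist C) (v17 C) 655 :=
  good_seed C (f4233 C) 655 [142, 150, 167, 178] (v9_mem C) (by decide +kernel) (by decide +kernel)

theorem s17_424 : Good C (vlist C) (v17 C) 3168 :=
  good_seed C (f5562 C) 3168 [129, 155, 170, 172, 177] (v15_mem C) (by decide +kernel) (by decide +kernel)

theorem s17_425 : Good C (vlist C) (v17 C) 705 :=
  good_seed C (f5753 C) 705 [127, 152, 165, 172, 178] (v15_mem C) (by decide +kernel) (by decide +kernel)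

theorem s17_426 : Good C (vlist C) (v17 C) 2321 :=
  good_seed C (f10854 C) 2321 [145, 150, 164, 171, 177] (v18_mem C) (by decide +kernel) (by decide +kernel)

theorem s17_427 : Good C (vlist C) (v17 C) 3742 :=
  good_seed C (f16279 C) 3742 [143, 155, 174] (v19_mem C) (by decide +kernel) (by decide +kernel)

theorem s17_428 : Good C (vlist C) (v17 C) 1636 :=
  good_seed C (f4812 C) 1636 [147, 151, 167, 173, 177] (v6_mem C) (by decide +kernel) (by decide +kernel)

theorem s17_429 : Good C (vlist C) (v17 C) 820 :=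
  good_seed C (f14954 C) 820 [144, 163, 164, 173, 178] (v18_mem C) (by decide +kernel) (by decide +kernel)

theorem s17_430 : Good C (vlist C) (v17 C) 2949 :=
  good_seed C (f17422 C) 2949 [142, 150, 170, 173, 177] (v20_mem C) (by decide +kernel) (by decide +kernel)

theorem s17_431 : Good C (vlist C) (v17 C) 675 :=
  good_seed C (f6526 C) 675 [145, 154, 172] (v15_mem C) (by decide +kernel) (by decide +kernel)

theorem s17_432 : Good C (vlist C) (v17 C) 3381 :=
  good_seed C (f5837 C) 3381 [129, 160, 166, 172, 177] (v4_mem C) (by decide +kernel) (by decide +kernel)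

theorem s17_433 : Good C (vlist C) (v17 C) 682 :=
  good_seed C (f9982 C) 682 [133, 159, 168, 172, 178] (v18_mem C) (by decide +kernel) (by decide +kernel)

theorem s17_434 : Good C (vlist C) (v17 C) 2245 :=
  good_seed C (f10644 C) 2245 [143, 154, 174, 177] (v18_mem C) (by decide +kernel) (by decide +kernel)

theorem s17_435 : Good C (vlist C) (v17 C) 1692 :=
  good_seed C (f12230 C) 1692 [144, 153, 169, 175] (v18_mem C) (by decide +kernel) (by decide +kernel)

theorem s17_436 : Good C (vlist C) (v17 C) 1979 :=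
  good_seed C (f12678 C) 1979 [143, 151, 168, 171] (v18_mem C) (by decide +kernel) (by decide +kernel)

theorem s17_437 : Good C (vlist C) (v17 C) 3665 :=
  good_seed C (f5874 C) 3665 [144, 160, 165, 176] (v17_mem C) (by decide +kernel) (by decide +kernel)

theorem s17_438 : Good C (vlist C) (v17 C) 751 :=
  good_seed C (f7303 C) 751 [138, 155, 173] (v18_mem C) (by decide +kernel) (by decide +kernel)

theorem s17_439 : Good C (vlist C) (v17 C) 2719 :=
  good_seed C (f5664 C) 2719 [141, 154, 170, 176] (v16_mem C) (by decide +kernel) (by decide +kernel)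

theorem s17_440 : Good C (vlist C) (v17 C) 2470 :=
  good_seed C (f4479 C) 2470 [143, 150, 171, 178] (v15_mem C) (by decide +kernel) (by decide +kernel)

theorem s17_441 : Good C (vlist C) (v17 C) 1923 :=
  good_seed C (f6335 C) 1923 [133, 153, 170] (v15_mem C) (by decide +kernel) (by decide +kernel)

theorem s17_442 : Good C (vlist C) (v17 C) 3716 :=
  good_seed C (f10804 C) 3716 [147, 154, 170, 174, 177] (v18_mem C) (by decide +kernel) (by decide +kernel)

theorem s17_443 : Good C (vlist C) (v17 C) 3747 :=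
  good_seed C (f10262 C) 3747 [132, 160, 164, 171] (v18_mem C) (by decide +kernel) (by decide +kernel)

theorem s17_444 : Good C (vlist C) (v17 C) 1864 :=
  good_seed C (f12736 C) 1864 [140, 154, 167, 171, 178] (v18_mem C) (by decide +kernel) (by decide +kernel)

theorem s17_445 : Good C (vlist C) (v17 C) 719 :=
  good_seed C (f4727 C) 719 [129, 157, 170, 173] (v15_mem C) (by decide +kernel) (by decide +kernel)

theorem s17_446 : Good C (vlist C) (v17 C) 2863 :=
  good_seed C (f9943 C) 2863 [138, 162, 165, 173, 178] (v18_mem C) (by decide +kernel) (by decide +kernel)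

theorem s17_447 : Good C (vlist C) (v17 C) 736 :=
  good_seed C (f5653 C) 736 [148, 152, 169, 174] (v17_mem C) (by decide +kernel) (by decide +kernel)

theorem s17_448 : Good C (vlist C) (v17 C) 739 :=
  good_seed C (f6758 C) 739 [142, 151, 168] (v17_mem C) (by decide +kernel) (by decide +kernel)

theorem s17_449 : Good C (vlist C) (v17 C) 2504 :=
  good_seed C (f5294 C) 2504 [139, 160, 170, 173, 178] (v9_mem C) (by decide +kernel) (by decide +kernel)

theorem s17_450 : Good C (vlist C) (v17 C) 1076 :=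
  good_seed C (f9295 C) 1076 [127, 162, 169, 173, 177] (v18_mem C) (by decide +kernel) (by decide +kernel)

theorem s17_451 : Good C (vlist C) (v17 C) 1852 :=
  good_seed C (f4240 C) 1852 [141, 160, 168, 173, 177] (v10_mem C) (by decide +kernel) (by decide +kernel)

theorem s17_452 : Good C (vlist C) (v17 C) 741 :=
  good_seed C (f5997 C) 741 [145, 162, 167, 176, 177] (v17_mem C) (by decide +kernel) (by decide +kernel)

theorem s17_453 : Good C (vlist C) (v17 C) 1195 :=
  good_seed C (f15169 C) 1195 [147, 163, 170, 175, 177] (v18_mem C) (by decide +kernel) (by decide +kernel)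

theorem s17_454 : Good C (vlist C) (v17 C) 3657 :=
  good_seed C (f13822 C) 3657 [148, 156, 167, 176, 177] (v18_mem C) (by decide +kernel) (by decide +kernel)

theorem s17_455 : Good C (vlist C) (v17 C) 3424 :=
  good_seed C (f4840 C) 3424 [140, 159, 170, 175, 177] (v15_mem C) (by decide +kernel) (by decide +kernel)

theorem s17_456 : Good C (vlist C) (v17 C) 1948 :=
  good_seed C (f4599 C) 1948 [135, 152, 164, 171, 178] (v17_mem C) (by decide +kernel) (by decide +kernel)

theorem s17_457 : Good C (vlist C) (v17 C) 750 :=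
  good_seed C (f5360 C) 750 [137, 162, 164, 171, 178] (v17_mem C) (by decide +kernel) (by decide +kernel)

theorem s17_458 : Good C (vlist C) (v17 C) 753 :=
  good_seed C (f6544 C) 753 [129, 158, 168, 174, 178] (v17_mem C) (by decide +kernel) (by decide +kernel)

theorem s17_459 : Good C (vlist C) (v17 C) 1562 :=
  good_seed C (f5578 C) 1562 [133, 153, 165, 173] (v15_mem C) (by decide +kernel) (by decide +kernel)

theorem s17_460 : Good C (vlist C) (v17 C) 2546 :=
  good_seed C (f16445 C) 2546 [138, 153, 169, 178] (v19_mem C) (by decide +kernel) (by decide +kernel)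

theorem s17_461 : Good C (vlist C) (v17 C) 1250 :=
  good_seed C (f5996 C) 1250 [148, 158, 176, 177] (v17_mem C) (by decide +kernel) (by decide +kernel)

theorem s17_462 : Good C (vlist C) (v17 C) 3732 :=
  good_seed C (f6131 C) 3732 [135, 150, 165, 171] (v17_mem C) (by decide +kernel) (by decide +kernel)

theorem s17_463 : Good C (vlist C) (v17 C) 1212 :=
  good_seed C (f9888 C) 1212 [145, 155, 167, 172, 178] (v18_mem C) (by decide +kernel) (by decide +kernel)

theorem s17_464 : Good C (vlist C) (v17 C) 2140 :=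
  good_seed C (f12163 C) 2140 [137, 153, 170, 172, 177] (v18_mem C) (by decide +kernel) (by decide +kernel)

theorem s17_465 : Good C (vlist C) (v17 C) 769 :=
  good_seed C (f10786 C) 769 [130, 158, 166, 173] (v18_mem C) (by decide +kernel) (by decide +kernel)

theorem s17_466 : Good C (vlist C) (v17 C) 1268 :=
  good_seed C (f4547 C) 1268 [160, 170, 171] (v17_mem C) (by decide +kernel) (by decide +kernel)

theorem s17_467 : Good C (vlist C) (v17 C) 3322 :=
  good_seed C (f5439 C) 3322 [126, 159, 164, 171, 178] (v17_mem C) (by decide +kernel) (by decide +kernel)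

theorem s17_468 : Good C (vlist C) (v17 C) 1263 :=
  good_seed C (f15400 C) 1263 [144, 160, 169, 178] (v18_mem C) (by decide +kernel) (by decide +kernel)

theorem s17_469 : Good C (vlist C) (v17 C) 2368 :=
  good_seed C (f6747 C) 2368 [131, 151] (v15_mem C) (by decide +kernel) (by decide +kernel)

theorem s17_470 : Good C (vlist C) (v17 C) 3736 :=
  good_seed C (f17269 C) 3736 [157, 175] (v19_mem C) (by decide +kernel) (by decide +kernel)

theorem s17_471 : Good C (vlist C) (v17 C) 1436 :=
  good_seed C (f10716 C) 1436 [135, 167, 176, 177] (v18_mem C) (by decide +kernel) (by decide +kernel)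

theorem s17_472 : Good C (vlist C) (v17 C) 782 :=
  good_seed C (f4465 C) 782 [141, 170, 173, 178] (v17_mem C) (by decide +kernel) (by decide +kernel)

theorem s17_473 : Good C (vlist C) (v17 C) 3027 :=
  good_seed C (f5176 C) 3027 [146, 152, 166, 174, 178] (v5_mem C) (by decide +kernel) (by decide +kernel)

theorem s17_474 : Good C (vlist C) (v17 C) 3510 :=
  good_seed C (f7650 C) 3510 [132, 160, 166, 175, 177] (v18_mem C) (by decide +kernel) (by decide +kernel)

theorem s17_475 : Good C (vlist C) (v17 C) 3332 :=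
  good_seed C (f7000 C) 3332 [130, 157, 169, 173, 178] (v18_mem C) (by decide +kernel) (by decide +kernel)

theorem s17_476 : Good C (vlist C) (v17 C) 793 :=
  good_seed C (f4350 C) 793 [145, 159, 164] (v17_mem C) (by decide +kernel) (by decide +kernel)

theorem s17_477 : Good C (vlist C) (v17 C) 3759 :=
  good_seed C (f15614 C) 3759 [145, 153, 166, 174, 178] (v19_mem C) (by decide +kernel) (by decide +kernel)

theorem s17_478 : Good C (vlist C) (v17 C) 796 :=
  good_seed C (f12143 C) 796 [129, 150, 168, 175, 177] (v18_mem C) (by decide +kernel) (by decide +kernel)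

theorem s17_479 : Good C (vlist C) (v17 C) 2739 :=
  good_seed C (f11587 C) 2739 [128, 154, 168, 175] (v18_mem C) (by decide +kernel) (by decide +kernel)

theorem s17_480 : Good C (vlist C) (v17 C) 2342 :=
  good_seed C (f5188 C) 2342 [137, 163, 169, 172] (v5_mem C) (by decide +kernel) (by decide +kernel)

theorem s17_481 : Good C (vlist C) (v17 C) 1868 :=
  good_seed C (f6440 C) 1868 [129, 149, 170, 172, 177] (v17_mem C) (by decide +kernel) (by decide +kernel)

theorem s17_482 : Good C (vlist C) (v17 C) 2268 :=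
  good_seed C (f4701 C) 2268 [127, 152, 167, 174, 178] (v15_mem C) (by decide +kernel) (by decide +kernel)

theorem s17_483 : Good C (vlist C) (v17 C) 2893 :=
  good_seed C (f7993 C) 2893 [146, 163, 167, 172, 178] (v18_mem C) (by decide +kernel) (by decide +kernel)

theorem s17_484 : Good C (vlist C) (v17 C) 811 :=
  good_seed C (f4317 C) 811 [138, 152, 165, 176, 177] (v17_mem C) (by decide +kernel) (by decide +kernel)

theorem s17_485 : Good C (vlist C) (v17 C) 3058 :=
  good_seed C (f4588 C) 3058 [133, 154, 177] (v9_mem C) (by decide +kernel) (by decide +kernel)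

theorem s17_486 : Good C (vlist C) (v17 C) 1376 :=
  good_seed C (f5037 C) 1376 [144, 153, 164, 174, 177] (v17_mem C) (by decide +kernel) (by decide +kernel)

theorem s17_487 : Good C (vlist C) (v17 C) 2971 :=
  good_seed C (f5617 C) 2971 [132, 159, 171, 177] (v15_mem C) (by decide +kernel) (by decide +kernel)

theorem s17_488 : Good C (vlist C) (v17 C) 3337 :=
  good_seed C (f6809 C) 3337 [162, 167] (v3_mem C) (by decide +kernel) (by decide +kernel)

theorem s17_489 : Good C (vlist C) (v17 C) 1311 :=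
  good_seed C (f14569 C) 1311 [141, 155, 164, 176, 178] (v18_mem C) (by decide +kernel) (by decide +kernel)

theorem s17_490 : Good C (vlist C) (v17 C) 1839 :=
  good_seed C (f15917 C) 1839 [140, 153, 166, 175] (v19_mem C) (by decide +kernel) (by decide +kernel)

theorem s17_491 : Good C (vlist C) (v17 C) 1040 :=
  good_seed C (f10613 C) 1040 [144, 156, 166] (v18_mem C) (by decide +kernel) (by decide +kernel)

theorem s17_492 : Good C (vlist C) (v17 C) 1814 :=
  good_seed C (f16030 C) 1814 [134, 160, 165, 178] (v19_mem C) (by decide +kernel) (by decide +kernel)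

theorem s17_493 : Good C (vlist C) (v17 C) 2933 :=
  good_seed C (f4649 C) 2933 [148, 167, 176, 177] (v4_mem C) (by decide +kernel) (by decide +kernel)

theorem s17_494 : Good C (vlist C) (v17 C) 852 :=
  good_seed C (f13814 C) 852 [138, 159, 167, 173] (v18_mem C) (by decide +kernel) (by decide +kernel)

theorem s17_495 : Good C (vlist C) (v17 C) 1006 :=
  good_seed C (f6483 C) 1006 [127, 162, 167, 173] (v15_mem C) (by decide +kernel) (by decide +kernel)

theorem s17_496 : Good C (vlist C) (v17 C) 2698 :=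
  good_seed C (f9259 C) 2698 [133, 153, 166, 175, 177] (v18_mem C) (by decide +kernel) (by decide +kernel)

theorem s17_497 : Good C (vlist C) (v17 C) 3765 :=
  good_seed C (f6164 C) 3765 [140, 162, 174, 178] (v15_mem C) (by decide +kernel) (by decide +kernel)

theorem s17_498 : Good C (vlist C) (v17 C) 1635 :=
  good_seed C (f6260 C) 1635 [140, 152, 168, 171, 178] (v17_mem C) (by decide +kernel) (by decide +kernel)

theorem s17_499 : Good C (vlist C) (v17 C) 860 :=
  good_seed C (f13805 C) 860 [128, 157, 176, 178] (v18_mem C) (by decide +kernel) (by decide +kernel)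

theorem s17_500 : Good C (vlist C) (v17 C) 3272 :=
  good_seed C (f4929 C) 3272 [137, 159, 165, 171, 178] (v17_mem C) (by decide +kernel) (by decide +kernel)

theorem s17_501 : Good C (vlist C) (v17 C) 1405 :=
  good_seed C (f5159 C) 1405 [144, 161, 164, 176, 177] (v9_mem C) (by decide +kernel) (by decide +kernel)

theorem s17_502 : Good C (vlist C) (v17 C) 3731 :=
  good_seed C (f7746 C) 3731 [135, 155, 176, 178] (v18_mem C) (by decide +kernel) (by decide +kernel)

theorem s17_503 : Good C (vlist C) (v17 C) 918 :=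
  good_seed C (f7218 C) 918 [163, 167, 178] (v18_mem C) (by decide +kernel) (by decide +kernel)

theorem s17_504 : Good C (vlist C) (v17 C) 1409 :=
  good_seed C (f6690 C) 1409 [147, 161, 165, 172] (v17_mem C) (by decide +kernel) (by decide +kernel)

theorem s17_505 : Good C (vlist C) (v17 C) 2759 :=
  good_seed C (f17277 C) 2759 [145, 153, 170, 175, 177] (v19_mem C) (by decide +kernel) (by decide +kernel)

theorem s17_506 : Good C (vlist C) (v17 C) 1288 :=
  good_seed C (f8664 C) 1288 [131, 154, 165, 176] (v18_mem C) (by decide +kernel) (by decide +kernel)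

theorem s17_507 : Good C (vlist C) (v17 C) 2661 :=
  good_seed C (f14515 C) 2661 [141, 152, 169, 173, 177] (v18_mem C) (by decide +kernel) (by decide +kernel)

theorem s17_508 : Good C (vlist C) (v17 C) 926 :=
  good_seed C (f7167 C) 926 [130, 160, 164, 172] (v18_mem C) (by decide +kernel) (by decide +kernel)

theorem s17_509 : Good C (vlist C) (v17 C) 1343 :=
  good_seed C (f6304 C) 1343 [128, 170, 171] (v17_mem C) (by decide +kernel) (by decide +kernel)

theorem s17_510 : Good C (vlist C) (v17 C) 3420 :=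
  good_seed C (f13754 C) 3420 [131, 149, 168, 176, 177] (v18_mem C) (by decide +kernel) (by decide +kernel)

theorem s17_511 : Good C (vlist C) (v17 C) 2229 :=
  good_seed C (f11466 C) 2229 [137, 152, 167, 171, 177] (v18_mem C) (by decide +kernel) (by decide +kernel)

theorem s17_512 : Good C (vlist C) (v17 C) 3711 :=
  good_seed C (f5214 C) 3711 [143, 158, 164, 172, 178] (v4_mem C) (by decide +kernel) (by decide +kernel)

theorem s17_513 : Good C (vlist C) (v17 C) 2281 :=
  good_seed C (f8891 C) 2281 [143, 159, 168, 174] (v18_mem C) (by decide +kernel) (by decide +kernel)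

theorem s17_514 : Good C (vlist C) (v17 C) 994 :=
  good_seed C (f15268 C) 994 [136, 154, 175, 178] (v18_mem C) (by decide +kernel) (by decide +kernel)

theorem s17_515 : Good C (vlist C) (v17 C) 1971 :=
  good_seed C (f11398 C) 1971 [126, 162, 166, 176, 177] (v18_mem C) (by decide +kernel) (by decide +kernel)

theorem s17_516 : Good C (vlist C) (v17 C) 921 :=
  good_seed C (f5075 C) 921 [128, 162, 168, 172, 178] (v15_mem C) (by decide +kernel) (by decide +kernel)

theorem s17_517 : Good C (vlist C) (v17 C) 1828 :=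
  good_seed C (f6279 C) 1828 [142, 162, 171] (v5_mem C) (by decide +kernel) (by decide +kernel)

theorem s17_518 : Good C (vlist C) (v17 C) 1854 :=
  good_seed C (f6620 C) 1854 [139, 162, 170, 176, 178] (v17_mem C) (by decide +kernel) (by decide +kernel)

theorem s17_519 : Good C (vlist C) (v17 C) 2457 :=
  good_seed C (f9556 C) 2457 [146, 152, 165, 173, 178] (v18_mem C) (by decide +kernel) (by decide +kernel)

theorem s17_520 : Good C (vlist C) (v17 C) 3775 :=
  good_seed C (f10559 C) 3775 [135, 151, 164, 172, 177] (v18_mem C) (by decide +kernel) (by decide +kernel)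

theorem s17_521 : Good C (vlist C) (v17 C) 2017 :=
  good_seed C (f10965 C) 2017 [136, 150, 164, 173, 177] (v18_mem C) (by decide +kernel) (by decide +kernel)

theorem s17_522 : Good C (vlist C) (v17 C) 954 :=
  good_seed C (f5979 C) 954 [142, 150, 165, 172, 178] (v15_mem C) (by decide +kernel) (by decide +kernel)

theorem s17_523 : Good C (vlist C) (v17 C) 956 :=
  good_seed C (f10130 C) 956 [142, 157, 166, 176, 178] (v18_mem C) (by decide +kernel) (by decide +kernel)

theorem s17_524 : Good C (vlist C) (v17 C) 2255 :=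
  good_seed C (f13792 C) 2255 [138, 157, 169, 172, 177] (v18_mem C) (by decide +kernel) (by decide +kernel)

theorem s17_525 : Good C (vlist C) (v17 C) 3219 :=
  good_seed C (f8937 C) 3219 [132, 150, 167, 177] (v18_mem C) (by decide +kernel) (by decide +kernel)

theorem s17_526 : Good C (vlist C) (v17 C) 2103 :=
  good_seed C (f8861 C) 2103 [143, 162, 166, 171] (v18_mem C) (by decide +kernel) (by decide +kernel)

theorem s17_527 : Good C (vlist C) (v17 C) 3478 :=
  good_seed C (f4937 C) 3478 [147, 176, 177] (v17_mem C) (by decide +kernel) (by decide +kernel)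

theorem s17_528 : Good C (vlist C) (v17 C) 1606 :=
  good_seed C (f10211 C) 1606 [146, 160, 167, 175, 178] (v18_mem C) (by decide +kernel) (by decide +kernel)

theorem s17_529 : Good C (vlist C) (v17 C) 1016 :=
  good_seed C (f6723 C) 1016 [136, 150, 171, 177] (v17_mem C) (by decide +kernel) (by decide +kernel)

theorem s17_530 : Good C (vlist C) (v17 C) 2947 :=
  good_seed C (f6371 C) 2947 [147, 158, 165, 175, 178] (v17_mem C) (by decide +kernel) (by decide +kernel)

theorem s17_531 : Good C (vlist C) (v17 C) 3780 :=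
  good_seed C (f12665 C) 3780 [129, 151, 165, 176] (v18_mem C) (by decide +kernel) (by decide +kernel)

theorem s17_532 : Good C (vlist C) (v17 C) 1055 :=
  good_seed C (f5506 C) 1055 [137, 154, 168, 173, 177] (v16_mem C) (by decide +kernel) (by decide +kernel)

theorem s17_533 : Good C (vlist C) (v17 C) 2990 :=
  good_seed C (f7962 C) 2990 [131, 155, 167, 176, 177] (v18_mem C) (by decide +kernel) (by decide +kernel)

theorem s17_534 : Good C (vlist C) (v17 C) 1761 :=
  good_seed C (f5700 C) 1761 [141, 149, 168, 171] (v16_mem C) (by decide +kernel) (by decide +kernel)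

theorem s17_535 : Good C (vlist C) (v17 C) 1303 :=
  good_seed C (f6689 C) 1303 [129, 152, 170, 176, 178] (v17_mem C) (by decide +kernel) (by decide +kernel)

theorem s17_536 : Good C (vlist C) (v17 C) 1019 :=
  good_seed C (f14559 C) 1019 [134, 162, 168, 171] (v18_mem C) (by decide +kernel) (by decide +kernel)

theorem s17_537 : Good C (vlist C) (v17 C) 1802 :=
  good_seed C (f5789 C) 1802 [150, 170, 174] (v4_mem C) (by decide +kernel) (by decide +kernel)

theorem s17_538 : Good C (vlist C) (v17 C) 3572 :=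
  good_seed C (f7788 C) 3572 [147, 153, 167, 171, 177] (v18_mem C) (by decide +kernel) (by decide +kernel)

theorem s17_539 : Good C (vlist C) (v17 C) 2339 :=
  good_seed C (f6025 C) 2339 [129, 158] (v17_mem C) (by decide +kernel) (by decide +kernel)

theorem s17_540 : Good C (vlist C) (v17 C) 2923 :=
  good_seed C (f6086 C) 2923 [132, 149, 165, 171, 178] (v17_mem C) (by decide +kernel) (by decide +kernel)

theorem s17_541 : Good C (vlist C) (v17 C) 3012 :=
  good_seed C (f5028 C) 3012 [131, 168, 172, 177] (v15_mem C) (by decide +kernel) (by decide +kernel)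

theorem s17_542 : Good C (vlist C) (v17 C) 3321 :=
  good_seed C (f6535 C) 3321 [142, 150, 164, 177] (v17_mem C) (by decide +kernel) (by decide +kernel)

theorem s17_543 : Good C (vlist C) (v17 C) 1589 :=
  good_seed C (f5527 C) 1589 [144, 149, 173] (v4_mem C) (by decide +kernel) (by decide +kernel)

theorem s17_544 : Good C (vlist C) (v17 C) 2393 :=
  good_seed C (f5856 C) 2393 [142, 160, 165, 175, 177] (v17_mem C) (by decide +kernel) (by decide +kernel)

theorem s17_545 : Good C (vlist C) (v17 C) 1401 :=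
  good_seed C (f4264 C) 1401 [156, 165, 177] (v16_mem C) (by decide +kernel) (by decide +kernel)

theorem s17_546 : Good C (vlist C) (v17 C) 1072 :=
  good_seed C (f5318 C) 1072 [139, 156, 169, 173, 177] (v17_mem C) (by decide +kernel) (by decide +kernel)

theorem s17_547 : Good C (vlist C) (v17 C) 1736 :=
  good_seed C (f6077 C) 1736 [129, 157, 169, 174, 177] (v17_mem C) (by decide +kernel) (by decide +kernel)

theorem s17_548 : Good C (vlist C) (v17 C) 1083 :=
  good_seed C (f12053 C) 1083 [142, 163, 165, 172] (v18_mem C) (by decide +kernel) (by decide +kernel)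

theorem s17_549 : Good C (vlist C) (v17 C) 1926 :=
  good_seed C (f5881 C) 1926 [126, 160, 168, 176, 178] (v17_mem C) (by decide +kernel) (by decide +kernel)

theorem s17_550 : Good C (vlist C) (v17 C) 1730 :=
  good_seed C (f5635 C) 1730 [147, 149, 164, 173, 178] (v15_mem C) (by decide +kernel) (by decide +kernel)

theorem s17_551 : Good C (vlist C) (v17 C) 1092 :=
  good_seed C (f4420 C) 1092 [129, 160, 167, 172, 178] (v17_mem C) (by decide +kernel) (by decide +kernel)

theorem s17_552 : Good C (vlist C) (v17 C) 2989 :=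
  good_seed C (f4891 C) 2989 [138, 166, 173] (v16_mem C) (by decide +kernel) (by decide +kernel)

theorem s17_553 : Good C (vlist C) (v17 C) 1929 :=
  good_seed C (f6251 C) 1929 [142, 162, 164, 171, 177] (v16_mem C) (by decide +kernel) (by decide +kernel)

theorem s17_554 : Good C (vlist C) (v17 C) 2108 :=
  good_seed C (f6381 C) 2108 [133, 161, 175, 178] (v17_mem C) (by decide +kernel) (by decide +kernel)

theorem s17_555 : Good C (vlist C) (v17 C) 1128 :=
  good_seed C (f6038 C) 1128 [155, 167, 175, 178] (v17_mem C) (by decide +kernel) (by decide +kernel)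

theorem s17_556 : Good C (vlist C) (v17 C) 1131 :=
  good_seed C (f11734 C) 1131 [143, 149, 165, 171, 177] (v18_mem C) (by decide +kernel) (by decide +kernel)

theorem s17_557 : Good C (vlist C) (v17 C) 1581 :=
  good_seed C (f6076 C) 1581 [147, 153, 165, 172, 177] (v17_mem C) (by decide +kernel) (by decide +kernel)

theorem s17_558 : Good C (vlist C) (v17 C) 2999 :=
  good_seed C (f10847 C) 2999 [136, 156, 168] (v18_mem C) (by decide +kernel) (by decide +kernel)

theorem s17_559 : Good C (vlist C) (v17 C) 3431 :=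
  good_seed C (f10245 C) 3431 [147, 161, 168, 174] (v18_mem C) (by decide +kernel) (by decide +kernel)

theorem s17_560 : Good C (vlist C) (v17 C) 2071 :=
  good_seed C (f12578 C) 2071 [131, 161, 168, 172] (v18_mem C) (by decide +kernel) (by decide +kernel)

theorem s17_561 : Good C (vlist C) (v17 C) 2373 :=
  good_seed C (f5042 C) 2373 [132, 152, 175, 178] (v17_mem C) (by decide +kernel) (by decide +kernel)

theorem s17_562 : Good C (vlist C) (v17 C) 1431 :=
  good_seed C (f17325 C) 1431 [145, 152, 168] (v19_mem C) (by decide +kernel) (by decide +kernel)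

theorem s17_563 : Good C (vlist C) (v17 C) 1205 :=
  good_seed C (f15188 C) 1205 [146, 150, 168, 172, 178] (v18_mem C) (by decide +kernel) (by decide +kernel)

theorem s17_564 : Good C (vlist C) (v17 C) 3064 :=
  good_seed C (f4674 C) 3064 [126, 149, 167, 176] (v16_mem C) (by decide +kernel) (by decide +kernel)

theorem s17_565 : Good C (vlist C) (v17 C) 2810 :=
  good_seed C (f4419 C) 2810 [143, 161, 166, 172] (v17_mem C) (by decide +kernel) (by decide +kernel)

theorem s17_566 : Good C (vlist C) (v17 C) 3018 :=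
  good_seed C (f13828 C) 3018 [138, 157, 170, 176, 177] (v18_mem C) (by decide +kernel) (by decide +kernel)

theorem s17_567 : Good C (vlist C) (v17 C) 1185 :=
  good_seed C (f6006 C) 1185 [133, 157, 165, 171, 178] (v15_mem C) (by decide +kernel) (by decide +kernel)

theorem s17_568 : Good C (vlist C) (v17 C) 3259 :=
  good_seed C (f4202 C) 3259 [143, 161, 174, 177] (v9_mem C) (by decide +kernel) (by decide +kernel)

theorem s17_569 : Good C (vlist C) (v17 C) 1270 :=
  good_seed C (f14182 C) 1270 [141, 162, 169, 172, 177] (v18_mem C) (by decide +kernel) (by decide +kernel)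

theorem s17_570 : Good C (vlist C) (v17 C) 1400 :=
  good_seed C (f5051 C) 1400 [126, 162, 165, 176] (v17_mem C) (by decide +kernel) (by decide +kernel)

theorem s17_571 : Good C (vlist C) (v17 C) 1202 :=
  good_seed C (f5277 C) 1202 [135, 168, 172, 178] (v17_mem C) (by decide +kernel) (by decide +kernel)

theorem s17_572 : Good C (vlist C) (v17 C) 2584 :=
  good_seed C (f11623 C) 2584 [147, 152, 170, 174] (v18_mem C) (by decide +kernel) (by decide +kernel)

theorem s17_573 : Good C (vlist C) (v17 C) 1883 :=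
  good_seed C (f12434 C) 1883 [139, 149, 168, 175, 177] (v18_mem C) (by decide +kernel) (by decide +kernel)

theorem s17_574 : Good C (vlist C) (v17 C) 1214 :=
  good_seed C (f4781 C) 1214 [127, 154, 168, 176, 178] (v5_mem C) (by decide +kernel) (by decide +kernel)

theorem s17_575 : Good C (vlist C) (v17 C) 2671 :=
  good_seed C (f6122 C) 2671 [131, 151, 164, 171] (v4_mem C) (by decide +kernel) (by decide +kernel)

theorem s17_576 : Good C (vlist C) (v17 C) 2521 :=
  good_seed C (f9758 C) 2521 [130, 154, 170, 171, 177] (v18_mem C) (by decide +kernel) (by decide +kernel)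

theorem s17_577 : Good C (vlist C) (v17 C) 1375 :=
  good_seed C (f15229 C) 1375 [134, 163, 167] (v18_mem C) (by decide +kernel) (by decide +kernel)

theorem s17_578 : Good C (vlist C) (v17 C) 2163 :=
  good_seed C (f5891 C) 2163 [139, 157, 169, 173, 177] (v17_mem C) (by decide +kernel) (by decide +kernel)

theorem s17_579 : Good C (vlist C) (v17 C) 3437 :=
  good_seed C (f16137 C) 3437 [135, 159, 166, 177] (v19_mem C) (by decide +kernel) (by decide +kernel)

theorem s17_580 : Good C (vlist C) (v17 C) 1930 :=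
  good_seed C (f7968 C) 1930 [140, 155, 167, 173] (v18_mem C) (by decide +kernel) (by decide +kernel)

theorem s17_581 : Good C (vlist C) (v17 C) 2870 :=
  good_seed C (f16267 C) 2870 [130, 150, 170, 174] (v19_mem C) (by decide +kernel) (by decide +kernel)

theorem s17_582 : Good C (vlist C) (v17 C) 1724 :=
  good_seed C (f13759 C) 1724 [152, 166, 176, 178] (v18_mem C) (by decide +kernel) (by decide +kernel)

theorem s17_583 : Good C (vlist C) (v17 C) 1255 :=
  good_seed C (f9690 C) 1255 [148, 152, 165, 171, 177] (v18_mem C) (by decide +kernel) (by decide +kernel)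

theorem s17_584 : Good C (vlist C) (v17 C) 3038 :=
  good_seed C (f12309 C) 3038 [135, 154, 169, 173, 177] (v18_mem C) (by decide +kernel) (by decide +kernel)

theorem s17_585 : Good C (vlist C) (v17 C) 3719 :=
  good_seed C (f4825 C) 3719 [141, 163, 166, 175, 177] (v15_mem C) (by decide +kernel) (by decide +kernel)

theorem s17_586 : Good C (vlist C) (v17 C) 3658 :=
  good_seed C (f6569 C) 3658 [137, 157, 170, 171, 177] (v10_mem C) (by decide +kernel) (by decide +kernel)

theorem s17_587 : Good C (vlist C) (v17 C) 3536 :=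
  good_seed C (f9865 C) 3536 [130, 151, 165, 174, 177] (v18_mem C) (by decide +kernel) (by decide +kernel)

theorem s17_588 : Good C (vlist C) (v17 C) 3255 :=
  good_seed C (f5900 C) 3255 [134, 158, 166, 173, 178] (v17_mem C) (by decide +kernel) (by decide +kernel)

theorem s17_589 : Good C (vlist C) (v17 C) 2307 :=
  good_seed C (f6776 C) 2307 [140, 155, 164, 172, 178] (v17_mem C) (by decide +kernel) (by decide +kernel)

theorem s17_590 : Good C (vlist C) (v17 C) 1315 :=
  good_seed C (f5673 C) 1315 [137, 156, 174] (v16_mem C) (by decide +kernel) (by decide +kernel)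

theorem s17_591 : Good C (vlist C) (v17 C) 1316 :=
  good_seed C (f6737 C) 1316 [138, 160, 164, 175, 177] (v4_mem C) (by decide +kernel) (by decide +kernel)

theorem s17_592 : Good C (vlist C) (v17 C) 1317 :=
  good_seed C (f12925 C) 1317 [128, 149, 169, 172] (v18_mem C) (by decide +kernel) (by decide +kernel)

theorem s17_593 : Good C (vlist C) (v17 C) 2637 :=
  good_seed C (f17446 C) 2637 [127, 162, 167, 175] (v20_mem C) (by decide +kernel) (by decide +kernel)

theorem s17_594 : Good C (vlist C) (v17 C) 2812 :=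
  good_seed C (f5130 C) 2812 [145, 159, 167, 172, 177] (v17_mem C) (by decide +kernel) (by decide +kernel)

theorem s17_595 : Good C (vlist C) (v17 C) 2668 :=
  good_seed C (f9445 C) 2668 [135, 156, 165, 173, 178] (v18_mem C) (by decide +kernel) (by decide +kernel)

theorem s17_596 : Good C (vlist C) (v17 C) 3502 :=
  good_seed C (f12539 C) 3502 [132, 157, 167, 172, 178] (v18_mem C) (by decide +kernel) (by decide +kernel)

theorem s17_597 : Good C (vlist C) (v17 C) 2538 :=
  good_seed C (f5399 C) 2538 [138, 150, 170, 174] (v17_mem C) (by decide +kernel) (by decide +kernel)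

theorem s17_598 : Good C (vlist C) (v17 C) 2329 :=
  good_seed C (f5924 C) 2329 [131, 155, 167] (v17_mem C) (by decide +kernel) (by decide +kernel)

theorem s17_599 : Good C (vlist C) (v17 C) 3727 :=
  good_seed C (f11299 C) 3727 [130, 153, 169, 172, 178] (v18_mem C) (by decide +kernel) (by decide +kernel)

theorem s17_600 : Good C (vlist C) (v17 C) 1359 :=
  good_seed C (f4942 C) 1359 [130, 160, 172, 178] (v17_mem C) (by decide +kernel) (by decide +kernel)

theorem s17_601 : Good C (vlist C) (v17 C) 1734 :=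
  good_seed C (f5326 C) 1734 [141, 156, 167, 177] (v17_mem C) (by decide +kernel) (by decide +kernel)

theorem s17_602 : Good C (vlist C) (v17 C) 2502 :=
  good_seed C (f5036 C) 2502 [145, 151, 165, 174, 177] (v17_mem C) (by decide +kernel) (by decide +kernel)

theorem s17_603 : Good C (vlist C) (v17 C) 2174 :=
  good_seed C (f9467 C) 2174 [144, 153, 176, 177] (v18_mem C) (by decide +kernel) (by decide +kernel)

theorem s17_604 : Good C (vlist C) (v17 C) 1373 :=
  good_seed C (f10016 C) 1373 [140, 160, 174, 178] (v18_mem C) (by decide +kernel) (by decide +kernel)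

theorem s17_605 : Good C (vlist C) (v17 C) 1822 :=
  good_seed C (f11669 C) 1822 [139, 157, 170, 174] (v18_mem C) (by decide +kernel) (by decide +kernel)

theorem s17_606 : Good C (vlist C) (v17 C) 2139 :=
  good_seed C (f12190 C) 2139 [145, 166, 171] (v18_mem C) (by decide +kernel) (by decide +kernel)

theorem s17_607 : Good C (vlist C) (v17 C) 3406 :=
  good_seed C (f16344 C) 3406 [138, 149, 165, 176, 178] (v19_mem C) (by decide +kernel) (by decide +kernel)

theorem s17_608 : Good C (vlist C) (v17 C) 3600 :=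
  good_seed C (f4834 C) 3600 [130, 161, 166, 172] (v15_mem C) (by decide +kernel) (by decide +kernel)

theorem s17_609 : Good C (vlist C) (v17 C) 2049 :=
  good_seed C (f5251 C) 2049 [142, 151, 169, 176, 178] (v17_mem C) (by decide +kernel) (by decide +kernel)

theorem s17_610 : Good C (vlist C) (v17 C) 2466 :=
  good_seed C (f5819 C) 2466 [133, 161, 170, 175, 178] (v17_mem C) (by decide +kernel) (by decide +kernel)

theorem s17_611 : Good C (vlist C) (v17 C) 1433 :=
  good_seed C (f4562 C) 1433 [143, 171, 178] (v15_mem C) (by decide +kernel) (by decide +kernel)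

theorem s17_612 : Good C (vlist C) (v17 C) 1439 :=
  good_seed C (f6053 C) 1439 [132, 154, 173, 178] (v17_mem C) (by decide +kernel) (by decide +kernel)

theorem s17_613 : Good C (vlist C) (v17 C) 2095 :=
  good_seed C (f16127 C) 2095 [128, 157, 172] (v19_mem C) (by decide +kernel) (by decide +kernel)

theorem s17_614 : Good C (vlist C) (v17 C) 2902 :=
  good_seed C (f15728 C) 2902 [136, 163, 168, 178] (v19_mem C) (by decide +kernel) (by decide +kernel)

theorem s17_615 : Good C (vlist C) (v17 C) 2494 :=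
  good_seed C (f6491 C) 2494 [129, 149, 169, 176, 178] (v17_mem C) (by decide +kernel) (by decide +kernel)

theorem s17_616 : Good C (vlist C) (v17 C) 2920 :=
  good_seed C (f5451 C) 2920 [145, 154, 164, 171] (v17_mem C) (by decide +kernel) (by decide +kernel)

theorem s17_617 : Good C (vlist C) (v17 C) 1455 :=
  good_seed C (f16714 C) 1455 [131, 154] (v19_mem C) (by decide +kernel) (by decide +kernel)

theorem s17_618 : Good C (vlist C) (v17 C) 2168 :=
  good_seed C (f7271 C) 2168 [127, 163, 168, 174, 178] (v18_mem C) (by decide +kernel) (by decide +kernel)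

theorem s17_619 : Good C (vlist C) (v17 C) 1482 :=
  good_seed C (f13132 C) 1482 [146, 159, 166, 171, 178] (v18_mem C) (by decide +kernel) (by decide +kernel)

theorem s17_620 : Good C (vlist C) (v17 C) 2190 :=
  good_seed C (f5932 C) 2190 [138, 160, 170, 172, 177] (v17_mem C) (by decide +kernel) (by decide +kernel)

theorem s17_621 : Good C (vlist C) (v17 C) 3537 :=
  good_seed C (f11650 C) 3537 [128, 151, 168, 174] (v18_mem C) (by decide +kernel) (by decide +kernel)

theorem s17_622 : Good C (vlist C) (v17 C) 1947 :=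
  good_seed C (f8726 C) 1947 [132, 149, 173, 178] (v18_mem C) (by decide +kernel) (by decide +kernel)

theorem s17_623 : Good C (vlist C) (v17 C) 3278 :=
  good_seed C (f6545 C) 3278 [135, 155, 169, 177] (v17_mem C) (by decide +kernel) (by decide +kernel)

theorem s17_624 : Good C (vlist C) (v17 C) 2214 :=
  good_seed C (f6314 C) 2214 [128, 149, 173, 178] (v4_mem C) (by decide +kernel) (by decide +kernel)

theorem s17_625 : Good C (vlist C) (v17 C) 3351 :=
  good_seed C (f6613 C) 3351 [145, 153, 165, 172, 177] (v17_mem C) (by decide +kernel) (by decide +kernel)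

theorem s17_626 : Good C (vlist C) (v17 C) 2718 :=
  good_seed C (f4862 C) 2718 [145, 149, 170, 177] (v9_mem C) (by decide +kernel) (by decide +kernel)

theorem s17_627 : Good C (vlist C) (v17 C) 1510 :=
  good_seed C (f11099 C) 1510 [128, 149, 170, 172, 178] (v18_mem C) (by decide +kernel) (by decide +kernel)

theorem s17_628 : Good C (vlist C) (v17 C) 1669 :=
  good_seed C (f7319 C) 1669 [140, 151, 170, 176, 178] (v18_mem C) (by decide +kernel) (by decide +kernel)

theorem s17_629 : Good C (vlist C) (v17 C) 1525 :=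
  good_seed C (f4868 C) 1525 [139, 160, 164, 171] (v15_mem C) (by decide +kernel) (by decide +kernel)

theorem s17_630 : Good C (vlist C) (v17 C) 3040 :=
  good_seed C (f6288 C) 3040 [133, 149, 165] (v17_mem C) (by decide +kernel) (by decide +kernel)

theorem s17_631 : Good C (vlist C) (v17 C) 1586 :=
  good_seed C (f8872 C) 1586 [137, 153, 176, 178] (v18_mem C) (by decide +kernel) (by decide +kernel)

theorem s17_632 : Good C (vlist C) (v17 C) 2615 :=
  good_seed C (f7813 C) 2615 [136, 163, 166, 175, 177] (v18_mem C) (by decide +kernel) (by decide +kernel)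

theorem s17_633 : Good C (vlist C) (v17 C) 2144 :=
  good_seed C (f16703 C) 2144 [137, 149, 174] (v19_mem C) (by decide +kernel) (by decide +kernel)

theorem s17_634 : Good C (vlist C) (v17 C) 3587 :=
  good_seed C (f14852 C) 3587 [134, 161, 166, 172, 178] (v18_mem C) (by decide +kernel) (by decide +kernel)

theorem s17_635 : Good C (vlist C) (v17 C) 2386 :=
  good_seed C (f4791 C) 2386 [145, 158, 165, 175, 178] (v4_mem C) (by decide +kernel) (by decide +kernel)

theorem s17_636 : Good C (vlist C) (v17 C) 2070 :=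
  good_seed C (f11108 C) 2070 [127, 152, 168, 173, 178] (v18_mem C) (by decide +kernel) (by decide +kernel)

theorem s17_637 : Good C (vlist C) (v17 C) 1943 :=
  good_seed C (f11539 C) 1943 [147, 150, 175, 177] (v18_mem C) (by decide +kernel) (by decide +kernel)

theorem s17_638 : Good C (vlist C) (v17 C) 1694 :=
  good_seed C (f5221 C) 1694 [127, 156, 168, 176, 178] (v15_mem C) (by decide +kernel) (by decide +kernel)

theorem s17_639 : Good C (vlist C) (v17 C) 2110 :=
  good_seed C (f9417 C) 2110 [139, 150, 170, 178] (v18_mem C) (by decide +kernel) (by decide +kernel)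

theorem s17_640 : Good C (vlist C) (v17 C) 3638 :=
  good_seed C (f6087 C) 3638 [128, 151, 170, 174, 178] (v17_mem C) (by decide +kernel) (by decide +kernel)

theorem s17_641 : Good C (vlist C) (v17 C) 3206 :=
  good_seed C (f14509 C) 3206 [147, 152, 174] (v18_mem C) (by decide +kernel) (by decide +kernel)

theorem s17_642 : Good C (vlist C) (v17 C) 2419 :=
  good_seed C (f6149 C) 2419 [128, 152, 168, 174, 178] (v5_mem C) (by decide +kernel) (by decide +kernel)

theorem s17_643 : Good C (vlist C) (v17 C) 1705 :=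
  good_seed C (f4378 C) 1705 [140, 151, 168, 174, 177] (v9_mem C) (by decide +kernel) (by decide +kernel)

theorem s17_644 : Good C (vlist C) (v17 C) 3792 :=
  good_seed C (f4658 C) 3792 [146, 157, 169, 173, 178] (v15_mem C) (by decide +kernel) (by decide +kernel)

theorem s17_645 : Good C (vlist C) (v17 C) 2959 :=
  good_seed C (f15096 C) 2959 [148, 161, 164, 174] (v18_mem C) (by decide +kernel) (by decide +kernel)

theorem s17_646 : Good C (vlist C) (v17 C) 2272 :=
  good_seed C (f16073 C) 2272 [136, 160, 169, 178] (v19_mem C) (by decide +kernel) (by decide +kernel)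

theorem s17_647 : Good C (vlist C) (v17 C) 3646 :=
  good_seed C (f13835 C) 3646 [138, 156, 169, 176] (v18_mem C) (by decide +kernel) (by decide +kernel)

theorem s17_648 : Good C (vlist C) (v17 C) 1722 :=
  good_seed C (f7771 C) 1722 [130, 156, 164, 172] (v18_mem C) (by decide +kernel) (by decide +kernel)

theorem s17_649 : Good C (vlist C) (v17 C) 3266 :=
  good_seed C (f14141 C) 3266 [128, 153, 167, 175, 177] (v18_mem C) (by decide +kernel) (by decide +kernel)

theorem s17_650 : Good C (vlist C) (v17 C) 2550 :=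
  good_seed C (f5242 C) 2550 [147, 162, 166, 173, 177] (v15_mem C) (by decide +kernel) (by decide +kernel)

theorem s17_651 : Good C (vlist C) (v17 C) 1769 :=
  good_seed C (f6380 C) 1769 [138, 161, 169, 172] (v17_mem C) (by decide +kernel) (by decide +kernel)

theorem s17_652 : Good C (vlist C) (v17 C) 3285 :=
  good_seed C (f16116 C) 3285 [135, 153, 170, 175, 177] (v19_mem C) (by decide +kernel) (by decide +kernel)

theorem s17_653 : Good C (vlist C) (v17 C) 2382 :=
  good_seed C (f12786 C) 2382 [134, 159, 164, 171, 178] (v18_mem C) (by decide +kernel) (by decide +kernel)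

theorem s17_654 : Good C (vlist C) (v17 C) 1787 :=
  good_seed C (f6322 C) 1787 [143, 161, 168] (v16_mem C) (by decide +kernel) (by decide +kernel)

theorem s17_655 : Good C (vlist C) (v17 C) 3358 :=
  good_seed C (f10603 C) 3358 [148, 163, 165, 175] (v18_mem C) (by decide +kernel) (by decide +kernel)

theorem s17_656 : Good C (vlist C) (v17 C) 2498 :=
  good_seed C (f6560 C) 2498 [137, 157, 169, 171] (v10_mem C) (by decide +kernel) (by decide +kernel)

theorem s17_657 : Good C (vlist C) (v17 C) 1863 :=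
  good_seed C (f7624 C) 1863 [128, 169, 175] (v18_mem C) (by decide +kernel) (by decide +kernel)

theorem s17_658 : Good C (vlist C) (v17 C) 3399 :=
  good_seed C (f17072 C) 3399 [147, 160, 167, 173] (v19_mem C) (by decide +kernel) (by decide +kernel)

theorem s17_659 : Good C (vlist C) (v17 C) 1887 :=
  good_seed C (f5730 C) 1887 [127, 151, 169, 176] (v17_mem C) (by decide +kernel) (by decide +kernel)

theorem s17_660 : Good C (vlist C) (v17 C) 2151 :=
  good_seed C (f15087 C) 2151 [126, 162, 168, 177] (v18_mem C) (by decide +kernel) (by decide +kernel)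

theorem s17_661 : Good C (vlist C) (v17 C) 2758 :=
  good_seed C (f5230 C) 2758 [133, 153, 168, 176, 178] (v17_mem C) (by decide +kernel) (by decide +kernel)

theorem s17_662 : Good C (vlist C) (v17 C) 1940 :=
  good_seed C (f4828 C) 1940 [138, 155, 166, 171, 177] (v9_mem C) (by decide +kernel) (by decide +kernel)

theorem s17_663 : Good C (vlist C) (v17 C) 2828 :=
  good_seed C (f16697 C) 2828 [137, 152, 168, 173, 178] (v19_mem C) (by decide +kernel) (by decide +kernel)

theorem s17_664 : Good C (vlist C) (v17 C) 3456 :=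
  good_seed C (f4775 C) 3456 [138, 168, 176, 178] (v5_mem C) (by decide +kernel) (by decide +kernel)

theorem s17_665 : Good C (vlist C) (v17 C) 2134 :=
  good_seed C (f9237 C) 2134 [140, 156, 169, 174, 178] (v18_mem C) (by decide +kernel) (by decide +kernel)

theorem s17_666 : Good C (vlist C) (v17 C) 2558 :=
  good_seed C (f5742 C) 2558 [143, 161, 165, 176, 177] (v4_mem C) (by decide +kernel) (by decide +kernel)

theorem s17_667 : Good C (vlist C) (v17 C) 2383 :=
  good_seed C (f6208 C) 2383 [148, 158, 164, 174, 178] (v15_mem C) (by decide +kernel) (by decide +kernel)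

theorem s17_668 : Good C (vlist C) (v17 C) 3105 :=
  good_seed C (f9268 C) 3105 [135, 164, 176, 178] (v18_mem C) (by decide +kernel) (by decide +kernel)

theorem s17_669 : Good C (vlist C) (v17 C) 2785 :=
  good_seed C (f7371 C) 2785 [139, 150, 178] (v18_mem C) (by decide +kernel) (by decide +kernel)

theorem s17_670 : Good C (vlist C) (v17 C) 2129 :=
  good_seed C (f10874 C) 2129 [146, 149, 165, 174] (v18_mem C) (by decide +kernel) (by decide +kernel)

theorem s17_671 : Good C (vlist C) (v17 C) 2894 :=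
  good_seed C (f12847 C) 2894 [146, 160, 164, 175, 177] (v18_mem C) (by decide +kernel) (by decide +kernel)

theorem s17_672 : Good C (vlist C) (v17 C) 3213 :=
  good_seed C (f9546 C) 3213 [138, 150, 170, 178] (v18_mem C) (by decide +kernel) (by decide +kernel)

theorem s17_673 : Good C (vlist C) (v17 C) 2225 :=
  good_seed C (f6015 C) 2225 [130, 160, 170, 178] (v5_mem C) (by decide +kernel) (by decide +kernel)

theorem s17_674 : Good C (vlist C) (v17 C) 3648 :=
  good_seed C (f8952 C) 3648 [143, 160, 170, 173, 178] (v18_mem C) (by decide +kernel) (by decide +kernel)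

theorem s17_675 : Good C (vlist C) (v17 C) 2253 :=
  good_seed C (f4161 C) 2253 [132, 161, 165, 174] (v15_mem C) (by decide +kernel) (by decide +kernel)

theorem s17_676 : Good C (vlist C) (v17 C) 3006 :=
  good_seed C (f5252 C) 3006 [145, 154, 170, 172, 177] (v17_mem C) (by decide +kernel) (by decide +kernel)

theorem s17_677 : Good C (vlist C) (v17 C) 2669 :=
  good_seed C (f4943 C) 2669 [128, 150, 170, 173] (v17_mem C) (by decide +kernel) (by decide +kernel)

theorem s17_678 : Good C (vlist C) (v17 C) 2314 :=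
  good_seed C (f15331 C) 2314 [126, 156, 170, 173, 178] (v18_mem C) (by decide +kernel) (by decide +kernel)

theorem s17_679 : Good C (vlist C) (v17 C) 3535 :=
  good_seed C (f6157 C) 3535 [130, 158, 169, 174, 178] (v4_mem C) (by decide +kernel) (by decide +kernel)

theorem s17_680 : Good C (vlist C) (v17 C) 3133 :=
  good_seed C (f5986 C) 3133 [135, 151, 167, 171, 177] (v4_mem C) (by decide +kernel) (by decide +kernel)

theorem s17_681 : Good C (vlist C) (v17 C) 2484 :=
  good_seed C (f4820 C) 2484 [149, 164, 174] (v14_mem C) (by decide +kernel) (by decide +kernel)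

theorem s17_682 : Good C (vlist C) (v17 C) 2602 :=
  good_seed C (f4979 C) 2602 [127, 163, 170, 175, 178] (v17_mem C) (by decide +kernel) (by decide +kernel)

theorem s17_683 : Good C (vlist C) (v17 C) 2624 :=
  good_seed C (f6114 C) 2624 [142, 151, 164, 173, 178] (v4_mem C) (by decide +kernel) (by decide +kernel)

theorem s17_684 : Good C (vlist C) (v17 C) 3729 :=
  good_seed C (f17004 C) 3729 [127, 162, 170, 173, 178] (v19_mem C) (by decide +kernel) (by decide +kernel)

theorem s17_685 : Good C (vlist C) (v17 C) 3315 :=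
  good_seed C (f5093 C) 3315 [147, 155, 164, 175, 178] (v17_mem C) (by decide +kernel) (by decide +kernel)

theorem s17_686 : Good C (vlist C) (v17 C) 3291 :=
  good_seed C (f16709 C) 3291 [129, 150, 176] (v19_mem C) (by decide +kernel) (by decide +kernel)

/-- Seeds. -/
def seedsPart17_0 : List ℕ := [0, 19, 1773, 3, 2327, 2434, 3601, 7, 3277, 598, 588, 527, 3267, 1472, 113, 1155, 1765, 1842, 18, 134, 2343, 2753, 23, 3543, 3530]

theorem seeds17_0 : ∀ k ∈ seedsPart17_0, Good C (vlist C) (v17 C) k := by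
  simp only [seedsPart17_0, List.forall_mem_cons, List.not_mem_nil, IsEmpty.forall_iff, implies_true, and_true]
  exact ⟨s17_0 C, s17_1 C, s17_2 C, s17_3 C, s17_4 C, s17_5 C, s17_6 C, s17_7 C, s17_8 C, s17_9 C, s17_10 C, s17_11 C, s17_12 C, s17_13 C, s17_14 C, s17_15 C, s17_16 C, s17_17 C, s17_18 C, s17_19 C, s17_20 C, s17_21 C, s17_22 C, s17_23 C, s17_24 C⟩

/-- Seeds. -/
def seedsPart17_1 : List ℕ := [2555, 919, 3173, 29, 1538, 1204, 319, 33, 2444, 35, 737, 3458, 2424, 41, 395, 1188, 2328, 703, 46, 3019, 1558, 49, 1766, 51, 2997]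

theorem seeds17_1 : ∀ k ∈ seedsPart17_1, Good C (vlist C) (v17 C) k := by
  simp only [seedsPart17_1, List.forall_mem_cons, List.not_mem_nil, IsEmpty.forall_iff, implies_true, and_true]
  exact ⟨s17_25 C, s17_26 C, s17_27 C, s17_28 C, s17_29 C, s17_30 C, s17_31 C, s17_32 C, s17_33 C, s17_34 C, s17_35 C, s17_36 C, s17_37 C, s17_38 C, s17_39 C, s17_40 C, s17_41 C, s17_42 C, s17_43 C, s17_44 C, s17_45 C, s17_46 C, s17_47 C, s17_48 C, s17_49 C⟩

/-- Seeds. -/
def seedsPart17_2 : List ℕ := [2025, 483, 151, 470, 363, 58, 2030, 2461, 626, 2678, 2577, 66, 3208, 416, 3017, 3089, 908, 304, 1963, 2738, 2428, 1624, 1600, 3425, 1295]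

theorem seeds17_2 : ∀ k ∈ seedsPart17_2, Good C (vlist C) (v17 C) k := by
  simp only [seedsPart17_2, List.forall_mem_cons, List.not_mem_nil, IsEmpty.forall_iff, implies_true, and_true]
  exact ⟨s17_50 C, s17_51 C, s17_52 C, s17_53 C, s17_54 C, s17_55 C, s17_56 C, s17_57 C, s17_58 C, s17_59 C, s17_60 C, s17_61 C, s17_62 C, s17_63 C, s17_64 C, s17_65 C, s17_66 C, s17_67 C, s17_68 C, s17_69 C, s17_70 C, s17_71 C, s17_72 C, s17_73 C, s17_74 C⟩

/-- Seeds. -/
def seedsPart17_3 : List ℕ := [2890, 2200, 83, 629, 2780, 2191, 2169, 1791, 89, 783, 484, 2097, 93, 868, 97, 98, 1305, 538, 101, 102, 109, 2724, 105, 3756, 624]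

theorem seeds17_3 : ∀ k ∈ seedsPart17_3, Good C (vlist C) (v17 C) k := by
  simp only [seedsPart17_3, List.forall_mem_cons, List.not_mem_nil, IsEmpty.forall_iff, implies_true, and_true]
  exact ⟨s17_75 C, s17_76 C, s17_77 C, s17_78 C, s17_79 C, s17_80 C, s17_81 C, s17_82 C, s17_83 C, s17_84 C, s17_85 C, s17_86 C, s17_87 C, s17_88 C, s17_89 C, s17_90 C, s17_91 C, s17_92 C, s17_93 C, s17_94 C, s17_95 C, s17_96 C, s17_97 C, s17_98 C, s17_99 C⟩

/-- Seeds. -/
def seedsPart17_4 : List ℕ := [745, 2878, 1419, 115, 3578, 924, 3134, 119, 182, 1595, 1853, 2622, 125, 2849, 2416, 128, 3577, 130, 1677, 565, 2689, 3400, 1695, 445, 138]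

theorem seeds17_4 : ∀ k ∈ seedsPart17_4, Good C (vlist C) (v17 C) k := by
  simp only [seedsPart17_4, List.forall_mem_cons, List.not_mem_nil, IsEmpty.forall_iff, implies_true, and_true]
  exact ⟨s17_100 C, s17_101 C, s17_102 C, s17_103 C, s17_104 C, s17_105 C, s17_106 C, s17_107 C, s17_108 C, s17_109 C, s17_110 C, s17_111 C, s17_112 C, s17_113 C, s17_114 C, s17_115 C, s17_116 C, s17_117 C, s17_118 C, s17_119 C, s17_120 C, s17_121 C, s17_122 C, s17_123 C, s17_124 C⟩

/-- Seeds. -/
def seedsPart17_5 : List ℕ := [139, 140, 2223, 2398, 2762, 145, 147, 2703, 2685, 150, 307, 2101, 156, 3097, 408, 159, 161, 3786, 1527, 164, 167, 738, 1276, 710, 314]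

theorem seeds17_5 : ∀ k ∈ seedsPart17_5, Good C (vlist C) (v17 C) k := by
  simp only [seedsPart17_5, List.forall_mem_cons, List.not_mem_nil, IsEmpty.forall_iff, implies_true, and_true]
  exact ⟨s17_125 C, s17_126 C, s17_127 C, s17_128 C, s17_129 C, s17_130 C, s17_131 C, s17_132 C, s17_133 C, s17_134 C, s17_135 C, s17_136 C, s17_137 C, s17_138 C, s17_139 C, s17_140 C, s17_141 C, s17_142 C, s17_143 C, s17_144 C, s17_145 C, s17_146 C, s17_147 C, s17_148 C, s17_149 C⟩

/-- Seeds. -/
def seedsPart17_6 : List ℕ := [175, 287, 177, 621, 180, 957, 3700, 220, 185, 1915, 948, 2954, 2809, 2786, 2365, 194, 3450, 2059, 1733, 1110, 3376, 642, 1911, 2431, 2882]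

theorem seeds17_6 : ∀ k ∈ seedsPart17_6, Good C (vlist C) (v17 C) k := by
  simp only [seedsPart17_6, List.forall_mem_cons, List.not_mem_nil, IsEmpty.forall_iff, implies_true, and_true]
  exact ⟨s17_150 C, s17_151 C, s17_152 C, s17_153 C, s17_154 C, s17_155 C, s17_156 C, s17_157 C, s17_158 C, s17_159 C, s17_160 C, s17_161 C, s17_162 C, s17_163 C, s17_164 C, s17_165 C, s17_166 C, s17_167 C, s17_168 C, s17_169 C, s17_170 C, s17_171 C, s17_172 C, s17_173 C, s17_174 C⟩

/-- Seeds. -/
def seedsPart17_7 : List ℕ := [3620, 3784, 892, 3246, 425, 214, 1934, 3046, 1031, 3511, 815, 225, 548, 227, 228, 295, 336, 2534, 1418, 3635, 775, 237, 1516, 3750, 2756]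

theorem seeds17_7 : ∀ k ∈ seedsPart17_7, Good C (vlist C) (v17 C) k := by
  simp only [seedsPart17_7, List.forall_mem_cons, List.not_mem_nil, IsEmpty.forall_iff, implies_true, and_true]
  exact ⟨s17_175 C, s17_176 C, s17_177 C, s17_178 C, s17_179 C, s17_180 C, s17_181 C, s17_182 C, s17_183 C, s17_184 C, s17_185 C, s17_186 C, s17_187 C, s17_188 C, s17_189 C, s17_190 C, s17_191 C, s17_192 C, s17_193 C, s17_194 C, s17_195 C, s17_196 C, s17_197 C, s17_198 C, s17_199 C⟩

/-- Seeds. -/
def seedsPart17_8 : List ℕ := [3110, 2310, 2722, 1721, 571, 247, 2914, 3712, 1749, 251, 3263, 2385, 3764, 1962, 256, 2560, 3521, 1192, 2734, 262, 2880, 264, 837, 513, 3366]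

theorem seeds17_8 : ∀ k ∈ seedsPart17_8, Good C (vlist C) (v17 C) k := by
  simp only [seedsPart17_8, List.forall_mem_cons, List.not_mem_nil, IsEmpty.forall_iff, implies_true, and_true]
  exact ⟨s17_200 C, s17_201 C, s17_202 C, s17_203 C, s17_204 C, s17_205 C, s17_206 C, s17_207 C, s17_208 C, s17_209 C, s17_210 C, s17_211 C, s17_212 C, s17_213 C, s17_214 C, s17_215 C, s17_216 C, s17_217 C, s17_218 C, s17_219 C, s17_220 C, s17_221 C, s17_222 C, s17_223 C, s17_224 C⟩

/-- Seeds. -/
def seedsPart17_9 : List ℕ := [2007, 1221, 3725, 1266, 1771, 3284, 1407, 2526, 280, 1236, 3309, 1536, 2236, 1032, 2702, 2038, 3147, 1063, 2172, 2664, 446, 3501, 305, 2713, 1740]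

theorem seeds17_9 : ∀ k ∈ seedsPart17_9, Good C (vlist C) (v17 C) k := by
  simp only [seedsPart17_9, List.forall_mem_cons, List.not_mem_nil, IsEmpty.forall_iff, implies_true, and_true]
  exact ⟨s17_225 C, s17_226 C, s17_227 C, s17_228 C, s17_229 C, s17_230 C, s17_231 C, s17_232 C, s17_233 C, s17_234 C, s17_235 C, s17_236 C, s17_237 C, s17_238 C, s17_239 C, s17_240 C, s17_241 C, s17_242 C, s17_243 C, s17_244 C, s17_245 C, s17_246 C, s17_247 C, s17_248 C, s17_249 C⟩

/-- Seeds. -/
def seedsPart17_10 : List ℕ := [3060, 315, 2769, 1289, 2261, 1182, 1937, 1909, 323, 3165, 1042, 884, 3451, 1029, 330, 456, 3041, 2463, 343, 2603, 3422, 984, 3240, 1833, 1638]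

theorem seeds17_10 : ∀ k ∈ seedsPart17_10, Good C (vlist C) (v17 C) k := by
  simp only [seedsPart17_10, List.forall_mem_cons, List.not_mem_nil, IsEmpty.forall_iff, implies_true, and_true]
  exact ⟨s17_250 C, s17_251 C, s17_252 C, s17_253 C, s17_254 C, s17_255 C, s17_256 C, s17_257 C, s17_258 C, s17_259 C, s17_260 C, s17_261 C, s17_262 C, s17_263 C, s17_264 C, s17_265 C, s17_266 C, s17_267 C, s17_268 C, s17_269 C, s17_270 C, s17_271 C, s17_272 C, s17_273 C, s17_274 C⟩

/-- Seeds. -/
def seedsPart17_11 : List ℕ := [1821, 1823, 3746, 1442, 448, 498, 3407, 2376, 1151, 2435, 1044, 774, 699, 1299, 1649, 3666, 3640, 2414, 2306, 381, 382, 2509, 2465, 389, 2850]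

theorem seeds17_11 : ∀ k ∈ seedsPart17_11, Good C (vlist C) (v17 C) k := by
  simp only [seedsPart17_11, List.forall_mem_cons, List.not_mem_nil, IsEmpty.forall_iff, implies_true, and_true]
  exact ⟨s17_275 C, s17_276 C, s17_277 C, s17_278 C, s17_279 C, s17_280 C, s17_281 C, s17_282 C, s17_283 C, s17_284 C, s17_285 C, s17_286 C, s17_287 C, s17_288 C, s17_289 C, s17_290 C, s17_291 C, s17_292 C, s17_293 C, s17_294 C, s17_295 C, s17_296 C, s17_297 C, s17_298 C, s17_299 C⟩

/-- Seeds. -/
def seedsPart17_12 : List ℕ := [3065, 1127, 397, 942, 1351, 3379, 3365, 3492, 1639, 1782, 2357, 955, 1363, 420, 757, 3242, 3035, 429, 1874, 2045, 1064, 2274, 3630, 1846, 3323]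

theorem seeds17_12 : ∀ k ∈ seedsPart17_12, Good C (vlist C) (v17 C) k := by
  simp only [seedsPart17_12, List.forall_mem_cons, List.not_mem_nil, IsEmpty.forall_iff, implies_true, and_true]
  exact ⟨s17_300 C, s17_301 C, s17_302 C, s17_303 C, s17_304 C, s17_305 C, s17_306 C, s17_307 C, s17_308 C, s17_309 C, s17_310 C, s17_311 C, s17_312 C, s17_313 C, s17_314 C, s17_315 C, s17_316 C, s17_317 C, s17_318 C, s17_319 C, s17_320 C, s17_321 C, s17_322 C, s17_323 C, s17_324 C⟩

/-- Seeds. -/
def seedsPart17_13 : List ℕ := [1783, 1879, 613, 2939, 447, 1678, 2127, 455, 459, 463, 3353, 1175, 974, 3088, 2820, 472, 2951, 476, 2626, 3106, 1993, 1344, 2009, 1053, 2137]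

theorem seeds17_13 : ∀ k ∈ seedsPart17_13, Good C (vlist C) (v17 C) k := by
  simp only [seedsPart17_13, List.forall_mem_cons, List.not_mem_nil, IsEmpty.forall_iff, implies_true, and_true]
  exact ⟨s17_325 C, s17_326 C, s17_327 C, s17_328 C, s17_329 C, s17_330 C, s17_331 C, s17_332 C, s17_333 C, s17_334 C, s17_335 C, s17_336 C, s17_337 C, s17_338 C, s17_339 C, s17_340 C, s17_341 C, s17_342 C, s17_343 C, s17_344 C, s17_345 C, s17_346 C, s17_347 C, s17_348 C, s17_349 C⟩

/-- Seeds. -/
def seedsPart17_14 : List ℕ := [2675, 2375, 2837, 1824, 2711, 1417, 512, 1237, 515, 2183, 1018, 2469, 743, 1329, 2772, 534, 2731, 3389, 537, 696, 542, 2777, 2287, 2651, 2605]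

theorem seeds17_14 : ∀ k ∈ seedsPart17_14, Good C (vlist C) (v17 C) k := by
  simp only [seedsPart17_14, List.forall_mem_cons, List.not_mem_nil, IsEmpty.forall_iff, implies_true, and_true]
  exact ⟨s17_350 C, s17_351 C, s17_352 C, s17_353 C, s17_354 C, s17_355 C, s17_356 C, s17_357 C, s17_358 C, s17_359 C, s17_360 C, s17_361 C, s17_362 C, s17_363 C, s17_364 C, s17_365 C, s17_366 C, s17_367 C, s17_368 C, s17_369 C, s17_370 C, s17_371 C, s17_372 C, s17_373 C, s17_374 C⟩

/-- Seeds. -/
def seedsPart17_15 : List ℕ := [2340, 554, 973, 1017, 2036, 566, 1725, 3461, 2346, 2692, 2798, 3651, 1101, 2308, 587, 827, 3348, 3517, 950, 1021, 1601, 599, 2569, 601, 2175]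

theorem seeds17_15 : ∀ k ∈ seedsPart17_15, Good C (vlist C) (v17 C) k := by
  simp only [seedsPart17_15, List.forall_mem_cons, List.not_mem_nil, IsEmpty.forall_iff, implies_true, and_true]
  exact ⟨s17_375 C, s17_376 C, s17_377 C, s17_378 C, s17_379 C, s17_380 C, s17_381 C, s17_382 C, s17_383 C, s17_384 C, s17_385 C, s17_386 C, s17_387 C, s17_388 C, s17_389 C, s17_390 C, s17_391 C, s17_392 C, s17_393 C, s17_394 C, s17_395 C, s17_396 C, s17_397 C, s17_398 C, s17_399 C⟩

/-- Seeds. -/
def seedsPart17_16 : List ℕ := [3232, 2681, 1869, 610, 752, 990, 1559, 616, 3769, 2867, 1194, 1573, 2496, 2955, 637, 640, 3684, 833, 1880, 3489, 3201, 1052, 654, 655, 3168]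

theorem seeds17_16 : ∀ k ∈ seedsPart17_16, Good C (vlist C) (v17 C) k := by
  simp only [seedsPart17_16, List.forall_mem_cons, List.not_mem_nil, IsEmpty.forall_iff, implies_true, and_true]
  exact ⟨s17_400 C, s17_401 C, s17_402 C, s17_403 C, s17_404 C, s17_405 C, s17_406 C, s17_407 C, s17_408 C, s17_409 C, s17_410 C, s17_411 C, s17_412 C, s17_413 C, s17_414 C, s17_415 C, s17_416 C, s17_417 C, s17_418 C, s17_419 C, s17_420 C, s17_421 C, s17_422 C, s17_423 C, s17_424 C⟩

/-- Seeds. -/
def seedsPart17_17 : List ℕ := [705, 2321, 3742, 1636, 820, 2949, 675, 3381, 682, 2245, 1692, 1979, 3665, 751, 2719, 2470, 1923, 3716, 3747, 1864, 719, 2863, 736, 739, 2504]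

theorem seeds17_17 : ∀ k ∈ seedsPart17_17, Good C (vlist C) (v17 C) k := by
  simp only [seedsPart17_17, List.forall_mem_cons, List.not_mem_nil, IsEmpty.forall_iff, implies_true, and_true]
  exact ⟨s17_425 C, s17_426 C, s17_427 C, s17_428 C, s17_429 C, s17_430 C, s17_431 C, s17_432 C, s17_433 C, s17_434 C, s17_435 C, s17_436 C, s17_437 C, s17_438 C, s17_439 C, s17_440 C, s17_441 C, s17_442 C, s17_443 C, s17_444 C, s17_445 C, s17_446 C, s17_447 C, s17_448 C, s17_449 C⟩

/-- Seeds. -/
def seedsPart17_18 : List ℕ := [1076, 1852, 741, 1195, 3657, 3424, 1948, 750, 753, 1562, 2546, 1250, 3732, 1212, 2140, 769, 1268, 3322, 1263, 2368, 3736, 1436, 782, 3027, 3510]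

theorem seeds17_18 : ∀ k ∈ seedsPart17_18, Good C (vlist C) (v17 C) k := by
  simp only [seedsPart17_18, List.forall_mem_cons, List.not_mem_nil, IsEmpty.forall_iff, implies_true, and_true]
  exact ⟨s17_450 C, s17_451 C, s17_452 C, s17_453 C, s17_454 C, s17_455 C, s17_456 C, s17_457 C, s17_458 C, s17_459 C, s17_460 C, s17_461 C, s17_462 C, s17_463 C, s17_464 C, s17_465 C, s17_466 C, s17_467 C, s17_468 C, s17_469 C, s17_470 C, s17_471 C, s17_472 C, s17_473 C, s17_474 C⟩

/-- Seeds. -/
def seedsPart17_19 : List ℕ := [3332, 793, 3759, 796, 2739, 2342, 1868, 2268, 2893, 811, 3058, 1376, 2971, 3337, 1311, 1839, 1040, 1814, 2933, 852, 1006, 2698, 3765, 1635, 860]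

theorem seeds17_19 : ∀ k ∈ seedsPart17_19, Good C (vlist C) (v17 C) k := by
  simp only [seedsPart17_19, List.forall_mem_cons, List.not_mem_nil, IsEmpty.forall_iff, implies_true, and_true]
  exact ⟨s17_475 C, s17_476 C, s17_477 C, s17_478 C, s17_479 C, s17_480 C, s17_481 C, s17_482 C, s17_483 C, s17_484 C, s17_485 C, s17_486 C, s17_487 C, s17_488 C, s17_489 C, s17_490 C, s17_491 C, s17_492 C, s17_493 C, s17_494 C, s17_495 C, s17_496 C, s17_497 C, s17_498 C, s17_499 C⟩

/-- Seeds. -/
def seedsPart17_20 : List ℕ := [3272, 1405, 3731, 918, 1409, 2759, 1288, 2661, 926, 1343, 3420, 2229, 3711, 2281, 994, 1971, 921, 1828, 1854, 2457, 3775, 2017, 954, 956, 2255]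

theorem seeds17_20 : ∀ k ∈ seedsPart17_20, Good C (vlist C) (v17 C) k := by
  simp only [seedsPart17_20, List.forall_mem_cons, List.not_mem_nil, IsEmpty.forall_iff, implies_true, and_true]
  exact ⟨s17_500 C, s17_501 C, s17_502 C, s17_503 C, s17_504 C, s17_505 C, s17_506 C, s17_507 C, s17_508 C, s17_509 C, s17_510 C, s17_511 C, s17_512 C, s17_513 C, s17_514 C, s17_515 C, s17_516 C, s17_517 C, s17_518 C, s17_519 C, s17_520 C, s17_521 C, s17_522 C, s17_523 C, s17_524 C⟩

/-- Seeds. -/
def seedsPart17_21 : List ℕ := [3219, 2103, 3478, 1606, 1016, 2947, 3780, 1055, 2990, 1761, 1303, 1019, 1802, 3572, 2339, 2923, 3012, 3321, 1589, 2393, 1401, 1072, 1736, 1083, 1926]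

theorem seeds17_21 : ∀ k ∈ seedsPart17_21, Good C (vlist C) (v17 C) k := by
  simp only [seedsPart17_21, List.forall_mem_cons, List.not_mem_nil, IsEmpty.forall_iff, implies_true, and_true]
  exact ⟨s17_525 C, s17_526 C, s17_527 C, s17_528 C, s17_529 C, s17_530 C, s17_531 C, s17_532 C, s17_533 C, s17_534 C, s17_535 C, s17_536 C, s17_537 C, s17_538 C, s17_539 C, s17_540 C, s17_541 C, s17_542 C, s17_543 C, s17_544 C, s17_545 C, s17_546 C, s17_547 C, s17_548 C, s17_549 C⟩

/-- Seeds. -/
def seedsPart17_22 : List ℕ := [1730, 1092, 2989, 1929, 2108, 1128, 1131, 1581, 2999, 3431, 2071, 2373, 1431, 1205, 3064, 2810, 3018, 1185, 3259, 1270, 1400, 1202, 2584, 1883, 1214]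

theorem seeds17_22 : ∀ k ∈ seedsPart17_22, Good C (vlist C) (v17 C) k := by
  simp only [seedsPart17_22, List.forall_mem_cons, List.not_mem_nil, IsEmpty.forall_iff, implies_true, and_true]
  exact ⟨s17_550 C, s17_551 C, s17_552 C, s17_553 C, s17_554 C, s17_555 C, s17_556 C, s17_557 C, s17_558 C, s17_559 C, s17_560 C, s17_561 C, s17_562 C, s17_563 C, s17_564 C, s17_565 C, s17_566 C, s17_567 C, s17_568 C, s17_569 C, s17_570 C, s17_571 C, s17_572 C, s17_573 C, s17_574 C⟩

/-- Seeds. -/
def seedsPart17_23 : List ℕ := [2671, 2521, 1375, 2163, 3437, 1930, 2870, 1724, 1255, 3038, 3719, 3658, 3536, 3255, 2307, 1315, 1316, 1317, 2637, 2812, 2668, 3502, 2538, 2329, 3727]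

theorem seeds17_23 : ∀ k ∈ seedsPart17_23, Good C (vlist C) (v17 C) k := by
  simp only [seedsPart17_23, List.forall_mem_cons, List.not_mem_nil, IsEmpty.forall_iff, implies_true, and_true]
  exact ⟨s17_575 C, s17_576 C, s17_577 C, s17_578 C, s17_579 C, s17_580 C, s17_581 C, s17_582 C, s17_583 C, s17_584 C, s17_585 C, s17_586 C, s17_587 C, s17_588 C, s17_589 C, s17_590 C, s17_591 C, s17_592 C, s17_593 C, s17_594 C, s17_595 C, s17_596 C, s17_597 C, s17_598 C, s17_599 C⟩

/-- Seeds. -/
def seedsPart17_24 : List ℕ := [1359, 1734, 2502, 2174, 1373, 1822, 2139, 3406, 3600, 2049, 2466, 1433, 1439, 2095, 2902, 2494, 2920, 1455, 2168, 1482, 2190, 3537, 1947, 3278, 2214]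

theorem seeds17_24 : ∀ k ∈ seedsPart17_24, Good C (vlist C) (v17 C) k := by
  simp only [seedsPart17_24, List.forall_mem_cons, List.not_mem_nil, IsEmpty.forall_iff, implies_true, and_true]
  exact ⟨s17_600 C, s17_601 C, s17_602 C, s17_603 C, s17_604 C, s17_605 C, s17_606 C, s17_607 C, s17_608 C, s17_609 C, s17_610 C, s17_611 C, s17_612 C, s17_613 C, s17_614 C, s17_615 C, s17_616 C, s17_617 C, s17_618 C, s17_619 C, s17_620 C, s17_621 C, s17_622 C, s17_623 C, s17_624 C⟩

/-- Seeds. -/
def seedsPart17_25 : List ℕ := [3351, 2718, 1510, 1669, 1525, 3040, 1586, 2615, 2144, 3587, 2386, 2070, 1943, 1694, 2110, 3638, 3206, 2419, 1705, 3792, 2959, 2272, 3646, 1722, 3266]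

theorem seeds17_25 : ∀ k ∈ seedsPart17_25, Good C (vlist C) (v17 C) k := by
  simp only [seedsPart17_25, List.forall_mem_cons, List.not_mem_nil, IsEmpty.forall_iff, implies_true, and_true]
  exact ⟨s17_625 C, s17_626 C, s17_627 C, s17_628 C, s17_629 C, s17_630 C, s17_631 C, s17_632 C, s17_633 C, s17_634 C, s17_635 C, s17_636 C, s17_637 C, s17_638 C, s17_639 C, s17_640 C, s17_641 C, s17_642 C, s17_643 C, s17_644 C, s17_645 C, s17_646 C, s17_647 C, s17_648 C, s17_649 C⟩

/-- Seeds. -/
def seedsPart17_26 : List ℕ := [2550, 1769, 3285, 2382, 1787, 3358, 2498, 1863, 3399, 1887, 2151, 2758, 1940, 2828, 3456, 2134, 2558, 2383, 3105, 2785, 2129, 2894, 3213, 2225, 3648]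

theorem seeds17_26 : ∀ k ∈ seedsPart17_26, Good C (vlist C) (v17 C) k := by
  simp only [seedsPart17_26, List.forall_mem_cons, List.not_mem_nil, IsEmpty.forall_iff, implies_true, and_true]
  exact ⟨s17_650 C, s17_651 C, s17_652 C, s17_653 C, s17_654 C, s17_655 C, s17_656 C, s17_657 C, s17_658 C, s17_659 C, s17_660 C, s17_661 C, s17_662 C, s17_663 C, s17_664 C, s17_665 C, s17_666 C, s17_667 C, s17_668 C, s17_669 C, s17_670 C, s17_671 C, s17_672 C, s17_673 C, s17_674 C⟩

/-- Seeds. -/
def seedsPart17_27 : List ℕ := [2253, 3006, 2669, 2314, 3535, 3133, 2484, 2602, 2624, 3729, 3315, 3291]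

theorem seeds17_27 : ∀ k ∈ seedsPart17_27, Good C (vlist C) (v17 C) k := by
  simp only [seedsPart17_27, List.forall_mem_cons, List.not_mem_nil, IsEmpty.forall_iff, implies_true, and_true]
  exact ⟨s17_675 C, s17_676 C, s17_677 C, s17_678 C, s17_679 C, s17_680 C, s17_681 C, s17_682 C, s17_683 C, s17_684 C, s17_685 C, s17_686 C⟩

/-- The seeds, first group. -/
def seedsUpTo17_0 : List ℕ := seedsPart17_0

theorem upTo17_0 : ∀ k ∈ seedsUpTo17_0, Good C (vlist C) (v17 C) k := seeds17_0 C

/-- The seeds, first groups. -/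
def seedsUpTo17_1 : List ℕ := seedsUpTo17_0 ++ seedsPart17_1

theorem upTo17_1 : ∀ k ∈ seedsUpTo17_1, Good C (vlist C) (v17 C) k :=
  List.forall_mem_append.2 ⟨upTo17_0 C, seeds17_1 C⟩

/-- The seeds, first groups. -/
def seedsUpTo17_2 : List ℕ := seedsUpTo17_1 ++ seedsPart17_2

theorem upTo17_2 : ∀ k ∈ seedsUpTo17_2, Good C (vlist C) (v17 C) k :=
  List.forall_mem_append.2 ⟨upTo17_1 C, seeds17_2 C⟩

/-- The seeds, first groups. -/
def seedsUpTo17_3 : List ℕ := seedsUpTo17_2 ++ seedsPart17_3

theorem upTo17_3 : ∀ k ∈ seedsUpTo17_3, Good C (vlist C) (v17 C) k :=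
  List.forall_mem_append.2 ⟨upTo17_2 C, seeds17_3 C⟩

/-- The seeds, first groups. -/
def seedsUpTo17_4 : List ℕ := seedsUpTo17_3 ++ seedsPart17_4

theorem upTo17_4 : ∀ k ∈ seedsUpTo17_4, Good C (vlist C) (v17 C) k :=
  List.forall_mem_append.2 ⟨upTo17_3 C, seeds17_4 C⟩

/-- The seeds, first groups. -/
def seedsUpTo17_5 : List ℕ := seedsUpTo17_4 ++ seedsPart17_5

theorem upTo17_5 : ∀ k ∈ seedsUpTo17_5, Good C (vlist C) (v17 C) k :=
  List.forall_mem_append.2 ⟨upTo17_4 C, seeds17_5 C⟩

/-- The seeds, first groups. -/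
def seedsUpTo17_6 : List ℕ := seedsUpTo17_5 ++ seedsPart17_6

theorem upTo17_6 : ∀ k ∈ seedsUpTo17_6, Good C (vlist C) (v17 C) k :=
  List.forall_mem_append.2 ⟨upTo17_5 C, seeds17_6 C⟩

/-- The seeds, first groups. -/
def seedsUpTo17_7 : List ℕ := seedsUpTo17_6 ++ seedsPart17_7

theorem upTo17_7 : ∀ k ∈ seedsUpTo17_7, Good C (vlist C) (v17 C) k :=
  List.forall_mem_append.2 ⟨upTo17_6 C, seeds17_7 C⟩

/-- The seeds, first groups. -/
def seedsUpTo17_8 : List ℕ := seedsUpTo17_7 ++ seedsPart17_8

theorem upTo17_8 : ∀ k ∈ seedsUpTo17_8, Good C (vlist C) (v17 C) k :=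
  List.forall_mem_append.2 ⟨upTo17_7 C, seeds17_8 C⟩

/-- The seeds, first groups. -/
def seedsUpTo17_9 : List ℕ := seedsUpTo17_8 ++ seedsPart17_9

theorem upTo17_9 : ∀ k ∈ seedsUpTo17_9, Good C (vlist C) (v17 C) k :=
  List.forall_mem_append.2 ⟨upTo17_8 C, seeds17_9 C⟩

/-- The seeds, first groups. -/
def seedsUpTo17_10 : List ℕ := seedsUpTo17_9 ++ seedsPart17_10

theorem upTo17_10 : ∀ k ∈ seedsUpTo17_10, Good C (vlist C) (v17 C) k :=
  List.forall_mem_append.2 ⟨upTo17_9 C, seeds17_10 C⟩

/-- The seeds, first groups. -/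
def seedsUpTo17_11 : List ℕ := seedsUpTo17_10 ++ seedsPart17_11

theorem upTo17_11 : ∀ k ∈ seedsUpTo17_11, Good C (vlist C) (v17 C) k :=
  List.forall_mem_append.2 ⟨upTo17_10 C, seeds17_11 C⟩

/-- The seeds, first groups. -/
def seedsUpTo17_12 : List ℕ := seedsUpTo17_11 ++ seedsPart17_12

theorem upTo17_12 : ∀ k ∈ seedsUpTo17_12, Good C (vlist C) (v17 C) k :=
  List.forall_mem_append.2 ⟨upTo17_11 C, seeds17_12 C⟩

/-- The seeds, first groups. -/
def seedsUpTo17_13 : List ℕ := seedsUpTo17_12 ++ seedsPart17_13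

theorem upTo17_13 : ∀ k ∈ seedsUpTo17_13, Good C (vlist C) (v17 C) k :=
  List.forall_mem_append.2 ⟨upTo17_12 C, seeds17_13 C⟩

/-- The seeds, first groups. -/
def seedsUpTo17_14 : List ℕ := seedsUpTo17_13 ++ seedsPart17_14

theorem upTo17_14 : ∀ k ∈ seedsUpTo17_14, Good C (vlist C) (v17 C) k :=
  List.forall_mem_append.2 ⟨upTo17_13 C, seeds17_14 C⟩

/-- The seeds, first groups. -/
def seedsUpTo17_15 : List ℕ := seedsUpTo17_14 ++ seedsPart17_15

theorem upTo17_15 : ∀ k ∈ seedsUpTo17_15, Good C (vlist C) (v17 C) k :=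
  List.forall_mem_append.2 ⟨upTo17_14 C, seeds17_15 C⟩

/-- The seeds, first groups. -/
def seedsUpTo17_16 : List ℕ := seedsUpTo17_15 ++ seedsPart17_16

theorem upTo17_16 : ∀ k ∈ seedsUpTo17_16, Good C (vlist C) (v17 C) k :=
  List.forall_mem_append.2 ⟨upTo17_15 C, seeds17_16 C⟩

/-- The seeds, first groups. -/
def seedsUpTo17_17 : List ℕ := seedsUpTo17_16 ++ seedsPart17_17

theorem upTo17_17 : ∀ k ∈ seedsUpTo17_17, Good C (vlist C) (v17 C) k :=
  List.forall_mem_append.2 ⟨upTo17_16 C, seeds17_17 C⟩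

/-- The seeds, first groups. -/
def seedsUpTo17_18 : List ℕ := seedsUpTo17_17 ++ seedsPart17_18

theorem upTo17_18 : ∀ k ∈ seedsUpTo17_18, Good C (vlist C) (v17 C) k :=
  List.forall_mem_append.2 ⟨upTo17_17 C, seeds17_18 C⟩

/-- The seeds, first groups. -/
def seedsUpTo17_19 : List ℕ := seedsUpTo17_18 ++ seedsPart17_19

theorem upTo17_19 : ∀ k ∈ seedsUpTo17_19, Good C (vlist C) (v17 C) k :=
  List.forall_mem_append.2 ⟨upTo17_18 C, seeds17_19 C⟩

/-- The seeds, first groups. -/
def seedsUpTo17_20 : List ℕ := seedsUpTo17_19 ++ seedsPart17_20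

theorem upTo17_20 : ∀ k ∈ seedsUpTo17_20, Good C (vlist C) (v17 C) k :=
  List.forall_mem_append.2 ⟨upTo17_19 C, seeds17_20 C⟩

/-- The seeds, first groups. -/
def seedsUpTo17_21 : List ℕ := seedsUpTo17_20 ++ seedsPart17_21

theorem upTo17_21 : ∀ k ∈ seedsUpTo17_21, Good C (vlist C) (v17 C) k :=
  List.forall_mem_append.2 ⟨upTo17_20 C, seeds17_21 C⟩

/-- The seeds, first groups. -/
def seedsUpTo17_22 : List ℕ := seedsUpTo17_21 ++ seedsPart17_22

theorem upTo17_22 : ∀ k ∈ seedsUpTo17_22, Good C (vlist C) (v17 C) k :=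
  List.forall_mem_append.2 ⟨upTo17_21 C, seeds17_22 C⟩

/-- The seeds, first groups. -/
def seedsUpTo17_23 : List ℕ := seedsUpTo17_22 ++ seedsPart17_23

theorem upTo17_23 : ∀ k ∈ seedsUpTo17_23, Good C (vlist C) (v17 C) k :=
  List.forall_mem_append.2 ⟨upTo17_22 C, seeds17_23 C⟩

/-- The seeds, first groups. -/
def seedsUpTo17_24 : List ℕ := seedsUpTo17_23 ++ seedsPart17_24

theorem upTo17_24 : ∀ k ∈ seedsUpTo17_24, Good C (vlist C) (v17 C) k :=
  List.forall_mem_append.2 ⟨upTo17_23 C, seeds17_24 C⟩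

/-- The seeds, first groups. -/
def seedsUpTo17_25 : List ℕ := seedsUpTo17_24 ++ seedsPart17_25

theorem upTo17_25 : ∀ k ∈ seedsUpTo17_25, Good C (vlist C) (v17 C) k :=
  List.forall_mem_append.2 ⟨upTo17_24 C, seeds17_25 C⟩

/-- The seeds, first groups. -/
def seedsUpTo17_26 : List ℕ := seedsUpTo17_25 ++ seedsPart17_26

theorem upTo17_26 : ∀ k ∈ seedsUpTo17_26, Good C (vlist C) (v17 C) k :=
  List.forall_mem_append.2 ⟨upTo17_25 C, seeds17_26 C⟩

/-- The seeds, first groups. -/
def seedsUpTo17_27 : List ℕ := seedsUpTo17_26 ++ seedsPart17_27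

theorem upTo17_27 : ∀ k ∈ seedsUpTo17_27, Good C (vlist C) (v17 C) k :=
  List.forall_mem_append.2 ⟨upTo17_26 C, seeds17_27 C⟩

/-- The seeds of vertex 17. -/
def seeds17 : List ℕ := seedsUpTo17_27

theorem seeds17_good : ∀ k ∈ seeds17, Good C (vlist C) (v17 C) k := upTo17_27 C

/-- Generators fixing vertex 17. -/
def gens17 : List (List ℕ × ℕ) := [
  ([20, 58, 85, 99, 109, 116], 0x84ab44d8177b0ae12a6831da41ac31),
  ([20, 64, 80, 92, 113], 0xbaaa025a90789c564a6819d6933431)]

theorem gens17_fix : ∀ g ∈ gens17, C.S (v17 C) g.1 := by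
  simp only [gens17, List.forall_mem_cons, List.not_mem_nil, IsEmpty.forall_iff, implies_true, and_true]
  exact ⟨f4132 C, f4137 C⟩

theorem gens17_ok : (gens17.all fun g => genOk g.1 g.2) = true := by decide +kernel

/-- Steps. -/
def rows17_0 : List (ℕ × ℕ × ℕ × ℕ) := [(19, 0, 1757, 210), (19, 1, 1, 198), (1773, 0, 3057, 225), (1773, 1, 1370, 216), (3, 1, 648, 216), (2327, 0, 4, 225), (2327, 1, 36, 210), (2434, 0, 3694, 216), (2434, 1, 5, 201), (3601, 0, 6, 225), (3601, 1, 2305, 201), (7, 1, 3007, 216), (3277, 0, 2145, 225), (3277, 1, 2789, 198), (598, 0, 1675, 225), (598, 1, 9, 228), (588, 0, 10, 198), (527, 0, 421, 198), (527, 1, 1829, 225), (3267, 0, 454, 228), (3267, 1, 869, 228), (1472, 0, 13, 201), (1472, 1, 1652, 228), (113, 0, 3575, 228), (113, 1, 945, 201), (1155, 0, 15, 201), (1765, 0, 735, 228), (1765, 1, 993, 228), (1842, 0, 2967, 198), (1842, 1, 2356, 228), (18, 0, 813, 198), (18, 1, 1764, 216), (134, 0, 1555, 228), (2343, 0, 762, 210), (2343, 1, 21, 201), (2753, 0, 2480, 198), (2753,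 1, 22, 210), (23, 1, 477, 210), (3543, 0, 1561, 225), (3543, 1, 146, 210), (3530, 0, 1075, 216), (3530, 1, 2347, 228), (2555, 0, 26, 225), (2555, 1, 196, 228), (919, 0, 3228, 216), (919, 1, 2548, 225), (3173, 0, 63, 210), (3173, 1, 28, 198), (29, 1, 3624, 198), (1538, 0, 524, 210), (1538, 1, 166, 225), (1204, 0, 1779, 216), (1204, 1, 31, 216), (319, 0, 460, 198), (319, 1, 3741, 216), (33, 0, 912, 198), (33, 1, 1162, 198), (2444, 0, 1845, 201), (2444, 1, 1054, 216), (35, 0, 1612, 201), (35, 1, 469, 216), (737, 0, 1280, 201), (737, 1, 1640, 216), (3458, 0, 528, 216), (3458, 1, 1913, 210), (2424, 0, 3149, 201), (2424, 1, 2313, 216), (41, 0, 2899, 201), (41, 1, 2093, 201), (395, 0, 64, 228), (395, 1, 1666, 198), (1188, 0, 2258, 201), (1188, 1, 43, 225), (2328, 0, 44, 201), (2328, 1, 2099, 225), (703, 0, 748, 216), (703, 1, 966, 225), (46, 1, 1240, 225), (3019, 0, 168, 210), (3019, 1, 153, 216), (1558, 0, 48, 210), (1558, 1, 217, 228), (49, 0, 2855, 216), (49, 1, 3559, 228), (1766, 0, 3566, 216), (1766,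 1, 1087, 198), (51, 0, 727, 210), (51, 1, 2084, 216), (2997, 0, 3377, 225), (2997, 1, 3776, 201), (2025, 0, 53, 210), (2025, 1, 479, 228), (483, 0, 2211, 228), (483, 1, 54, 198), (151, 0, 2089, 210), (151, 1, 2925, 216), (470, 0, 1515, 228), (470, 1, 3216, 201), (363, 0, 57, 228), (363, 1, 645, 228), (58, 0, 494, 216), (58, 1, 1324, 216), (2030, 0, 95, 198), (2030, 1, 59, 210), (2461, 0, 3260, 210), (2461, 1, 2791, 216), (626, 0, 61, 201), (626, 1, 2885, 216), (2678, 0, 960, 198), (2678, 1, 2571, 225), (2577, 0, 65, 210), (2577, 1, 1440, 228), (66, 1, 3024, 210), (3208, 0, 2176, 198), (3208, 1, 67, 201), (416, 0, 362, 210), (416, 1, 1742, 228), (3017, 0, 69, 210), (3017, 1, 216, 198), (3089, 0, 3276, 225), (3089, 1, 70, 225), (908, 0, 71, 228), (908, 1, 962, 225), (304, 0, 393, 225), (304, 1, 72, 228), (1963, 0, 3274, 216), (1963, 1, 73, 228), (2738, 0, 74, 216), (2738, 1, 1750, 216), (2428, 0, 75, 216), (2428, 1, 3129, 216), (1624, 0, 3346, 228), (1624, 1, 94, 210), (1600, 0, 3547, 210), (1600,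 1, 1967, 225), (3425, 0, 78, 201), (3425, 1, 2987, 225), (1295, 0, 1460, 201), (1295, 1, 79, 201), (2890, 0, 1471, 225), (2890, 1, 370, 201), (2200, 0, 1210, 210), (2200, 1, 913, 225), (83, 0, 3374, 216), (83, 1, 1107, 228), (629, 1, 708, 216), (2780, 0, 969, 225), (2780, 1, 1690, 201), (2191, 0, 160, 198), (2169, 0, 3062, 225), (2169, 1, 564, 225), (1791, 0, 2601, 228), (1791, 1, 88, 225), (89, 0, 358, 198), (89, 1, 3553, 228), (783, 0, 877, 228), (783, 1, 106, 216), (484, 0, 91, 228), (484, 1, 787, 216), (2097, 0, 3662, 198), (2097, 1, 2631, 225), (93, 0, 3056, 228), (93, 1, 826, 225), (868, 0, 2527, 228), (868, 1, 1377, 228), (97, 0, 2135, 198), (97, 1, 2506, 198), (98, 0, 321, 216), (98, 1, 3087, 210), (1305, 0, 2803, 225), (1305, 1, 99, 201), (538, 0, 2048, 198), (538, 1, 1130, 201), (101, 0, 1438, 198), (101, 1, 2372, 198), (102, 0, 124, 198), (102, 1, 3275, 201), (109, 0, 3067, 216), (109, 1, 103, 198), (2724, 0, 2553, 216), (2724, 1, 1113, 198), (105, 0, 893, 198), (105, 1, 1094, 198),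 (3756, 0, 2970, 198), (3756, 1, 1881, 201), (624, 0, 3512, 201), (624, 1, 108, 225), (745, 0, 3552, 198), (745, 1, 110, 198), (2878, 0, 112, 228), (2878, 1, 1698, 210), (1419, 0, 114, 228), (1419, 1, 436, 228), (115, 0, 1497, 225), (115, 1, 3581, 201), (3578, 0, 692, 210), (3578, 1, 3733, 225), (924, 0, 117, 228), (924, 1, 1910, 198), (3134, 0, 3008, 216), (3134, 1, 2026, 216), (119, 0, 2832, 198), (119, 1, 2912, 228), (182, 0, 2844, 201), (182, 1, 222, 201), (1595, 0, 474, 228), (1595, 1, 121, 228), (1853, 0, 2563, 228), (1853, 1, 122, 216), (2622, 0, 1815, 198), (2622, 1, 320, 225), (125, 0, 2539, 210), (125, 1, 1645, 225), (2849, 0, 576, 198), (2849, 1, 829, 201), (2416, 0, 357, 216), (2416, 1, 127, 225), (128, 0, 2395, 228), (128, 1, 2022, 210), (3577, 0, 129, 216), (3577, 1, 3186, 210), (130, 0, 1711, 198), (130, 1, 1524, 198), (1677, 0, 2023, 225), (1677, 1, 1861, 216), (565, 0, 3745, 201), (565, 1, 3427, 216), (2689, 0, 881, 198), (2689, 1, 133, 228), (3400, 0, 3738, 225), (3400, 1, 206,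 210), (1695, 0, 224, 210), (1695, 1, 3183, 216), (445, 0, 137, 210), (445, 1, 695, 228), (138, 0, 1238, 228), (138, 1, 1715, 198), (139, 0, 2875, 201), (139, 1, 1592, 216), (140, 0, 678, 201), (140, 1, 482, 198), (2223, 0, 3629, 225), (2223, 1, 2687, 210), (2398, 0, 143, 228), (2398, 1, 614, 225), (2762, 0, 3479, 210), (2762, 1, 1452, 210), (145, 0, 1944, 216), (145, 1, 947, 225), (147, 0, 387, 225)]

/-- Steps. -/
def rows17_1 : List (ℕ × ℕ × ℕ × ℕ) := [(147, 1, 3227, 225), (2703, 0, 638, 225), (2703, 1, 1045, 201), (2685, 0, 149, 198), (2685, 1, 3342, 228), (150, 0, 3047, 210), (150, 1, 3293, 225), (307, 0, 1166, 225), (2101, 0, 334, 216), (2101, 1, 1564, 210), (156, 0, 1473, 210), (156, 1, 1772, 198), (3097, 0, 2892, 198), (3097, 1, 2415, 228), (408, 0, 3590, 198), (408, 1, 158, 210), (159, 0, 1287, 198), (159, 1, 1686, 225), (161, 0, 1007, 225), (161, 1, 1402, 216), (3786, 0, 3098, 201), (3786, 1, 162, 216), (1527, 0, 3680, 198), (1527, 1, 163, 198), (164, 0, 3144, 216), (164, 1, 269, 201),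 (167, 0, 290, 216), (167, 1, 712, 225), (738, 0, 169, 198), (738, 1, 1278, 228), (1276, 0, 2834, 228), (1276, 1, 3664, 225), (710, 0, 2783, 216), (710, 1, 2618, 198), (314, 1, 3109, 216), (175, 0, 2886, 198), (175, 1, 2031, 228), (287, 1, 176, 216), (177, 0, 3563, 210), (177, 1, 2073, 216), (621, 0, 2074, 228), (621, 1, 915, 198), (180, 0, 3637, 198), (180, 1, 2402, 198), (957, 0, 839, 198), (957, 1, 181, 225), (3700, 0, 1850, 210), (3700, 1, 801, 201), (220, 0, 3251, 201), (220, 1, 184, 210), (185, 1, 2941, 228), (1915, 0, 187, 216), (1915, 1, 3093, 225), (948, 0, 189, 198), (948, 1, 3477, 210), (2954, 0, 190, 198), (2954, 1, 2895, 201), (2809, 0, 1321, 216), (2809, 1, 473, 216), (2786, 0, 2614, 225), (2786, 1, 2452, 225), (2365, 0, 3383, 225), (2365, 1, 1990, 198), (194, 0, 935, 216), (194, 1, 2566, 198), (3450, 0, 3498, 225), (3450, 1, 1244, 198), (2059, 0, 449, 210), (2059, 1, 2286, 216), (1733, 0, 3108, 210), (1733, 1, 1245, 228), (1110, 0, 2677, 225), (1110, 1, 1085, 225), (3376, 0, 1059,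 228), (3376, 1, 201, 201), (642, 0, 998, 198), (642, 1, 202, 210), (1911, 0, 704, 201), (1911, 1, 3751, 210), (2431, 0, 204, 228), (2431, 1, 1148, 216), (2882, 0, 502, 216), (2882, 1, 1206, 216), (3620, 0, 691, 216), (3620, 1, 1810, 225), (3784, 0, 972, 210), (3784, 1, 3388, 216), (892, 0, 1494, 198), (892, 1, 1489, 198), (3246, 0, 212, 216), (3246, 1, 2579, 228), (425, 0, 3779, 228), (425, 1, 3413, 201), (214, 1, 1511, 210), (1934, 0, 597, 225), (1934, 1, 215, 216), (3046, 0, 3757, 216), (3046, 1, 3546, 228), (1031, 0, 219, 210), (1031, 1, 335, 198), (3511, 0, 221, 201), (3511, 1, 540, 201), (815, 1, 223, 216), (225, 0, 2946, 210), (225, 1, 3496, 210), (548, 0, 3609, 228), (548, 1, 2199, 228), (227, 1, 1551, 210), (228, 0, 441, 198), (228, 1, 2656, 198), (295, 0, 229, 228), (295, 1, 1080, 198), (336, 0, 781, 210), (336, 1, 230, 201), (2534, 0, 417, 225), (2534, 1, 2975, 201), (1418, 0, 1164, 201), (1418, 1, 3375, 216), (3635, 0, 2041, 210), (3635, 1, 518, 225), (775, 0, 2397, 225), (775, 1, 301,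 216), (237, 1, 1744, 210), (1516, 0, 1958, 198), (1516, 1, 3295, 201), (3750, 0, 368, 216), (3750, 1, 2676, 210), (2756, 0, 3368, 201), (2756, 1, 2606, 216), (3110, 0, 3758, 210), (3110, 1, 1008, 201), (2310, 0, 894, 216), (2310, 1, 2822, 198), (2722, 0, 3464, 228), (2722, 1, 244, 210), (1721, 0, 2642, 210), (1721, 1, 245, 198), (571, 0, 1178, 225), (571, 1, 2362, 201), (247, 0, 2805, 225), (247, 1, 3086, 228), (2914, 0, 248, 216), (2914, 1, 364, 198), (3712, 0, 1274, 216), (3712, 1, 265, 210), (1749, 0, 1084, 228), (1749, 1, 1717, 198), (251, 0, 3540, 228), (251, 1, 1707, 228), (3263, 0, 928, 201), (3263, 1, 3036, 225), (2385, 0, 1620, 228), (2385, 1, 253, 228), (3764, 0, 254, 210), (3764, 1, 607, 216), (1962, 0, 2782, 201), (1962, 1, 255, 228), (256, 0, 404, 198), (256, 1, 1912, 198), (2560, 0, 257, 201), (2560, 1, 1803, 225), (3521, 0, 2482, 225), (3521, 1, 1046, 225), (1192, 0, 722, 216), (1192, 1, 2083, 225), (2734, 0, 1542, 210), (2734, 1, 2064, 228), (262, 0, 1425, 216), (262, 1, 2209, 198),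 (2880, 0, 1211, 201), (2880, 1, 646, 201), (264, 1, 850, 210), (837, 0, 267, 210), (837, 1, 2208, 228), (513, 0, 268, 201), (513, 1, 1520, 198), (3366, 0, 2201, 198), (3366, 1, 270, 216), (2007, 0, 2288, 225), (2007, 1, 271, 210), (1221, 0, 2995, 228), (1221, 1, 272, 198), (3725, 0, 2644, 216), (3725, 1, 1095, 228), (1266, 0, 274, 201), (1266, 1, 2856, 228), (1771, 0, 2978, 216), (1771, 1, 1748, 228), (3284, 0, 488, 216), (3284, 1, 2275, 228), (1407, 0, 1571, 216), (1407, 1, 805, 198), (2526, 0, 3471, 225), (2526, 1, 755, 216), (280, 1, 3031, 228), (1236, 0, 683, 201), (1236, 1, 281, 228), (3309, 0, 2808, 225), (3309, 1, 3768, 228), (1536, 1, 283, 228), (2236, 0, 284, 228), (2236, 1, 1873, 228), (1032, 0, 3194, 228), (1032, 1, 285, 198), (2702, 0, 1403, 201), (2702, 1, 2604, 198), (2038, 0, 2700, 216), (2038, 1, 630, 225), (3147, 0, 1404, 225), (3147, 1, 289, 201), (1063, 0, 292, 228), (1063, 1, 2107, 225), (2172, 0, 2156, 210), (2172, 1, 405, 201), (2664, 0, 339, 210), (2664, 1, 1660, 201), (446,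 0, 1755, 225), (446, 1, 573, 198), (3501, 0, 2173, 201), (3501, 1, 2010, 201), (305, 0, 3397, 210), (305, 1, 2944, 228), (2713, 0, 3146, 210), (2713, 1, 1602, 198), (1740, 0, 308, 210), (1740, 1, 2473, 210), (3060, 0, 2264, 201), (3060, 1, 1218, 225), (315, 0, 427, 225), (315, 1, 310, 201), (2769, 0, 311, 198), (1289, 0, 312, 198), (1289, 1, 1058, 198), (2261, 0, 1657, 201), (2261, 1, 1632, 198), (1182, 1, 2446, 216), (1937, 0, 318, 225), (1937, 1, 1309, 210), (1909, 0, 1024, 228), (1909, 1, 767, 225), (323, 0, 1917, 216), (323, 1, 555, 216), (3165, 0, 324, 198), (3165, 1, 3033, 228), (1042, 0, 2934, 228), (1042, 1, 917, 225), (884, 0, 673, 201), (884, 1, 3074, 228), (3451, 1, 328, 198), (1029, 0, 329, 228)]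

/-- Steps. -/
def rows17_2 : List (ℕ × ℕ × ℕ × ℕ) := [(1029, 1, 3161, 198), (330, 0, 1925, 228), (330, 1, 967, 225), (456, 0, 331, 201), (456, 1, 3042, 198), (3041, 0, 337, 228), (3041, 1, 949, 228), (2463, 0, 2143, 210), (2463, 1, 1415, 210), (343, 0, 2326, 198), (343, 1, 2570, 210), (2603, 0, 584, 201), (2603, 1, 1410, 216), (3422, 0, 3282, 210), (3422, 1, 345, 216), (984, 0, 3743, 228), (984, 1, 2717, 198), (3240, 0, 347, 225), (3240, 1, 631, 198), (1833, 0, 444, 201), (1833, 1, 349, 225), (1638, 0, 3159, 225), (1638, 1, 396, 210), (1821, 0, 3131, 210), (1821, 1, 1070, 198), (1823, 0, 1423, 198), (1823, 1, 2455, 216), (3746, 0, 3252, 210), (3746, 1, 353, 198), (1442, 0, 3419, 216), (1442, 1, 3160, 216), (448, 0, 3488, 198), (448, 1, 1712, 225), (498, 0, 2952, 201), (498, 1, 1992, 228), (3407, 0, 2488, 216), (3407, 1, 359, 228), (2376, 0, 360, 210), (2376, 1, 2146, 225), (1151, 0, 887, 198), (1151, 1, 361, 228), (2435, 0, 901, 228), (2435, 1, 365, 198), (1044, 0, 1345, 228), (1044, 1, 832, 201),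 (774, 0, 367, 198), (774, 1, 3549, 198), (699, 0, 1780, 225), (699, 1, 3127, 198), (1299, 0, 1871, 210), (1299, 1, 371, 228), (1649, 1, 3417, 228), (3666, 0, 2816, 228), (3666, 1, 374, 210), (3640, 0, 2852, 225), (2414, 0, 2459, 225), (2414, 1, 866, 201), (2306, 0, 1483, 228), (2306, 1, 379, 228), (381, 0, 1120, 216), (382, 1, 1413, 216), (2509, 0, 385, 210), (2509, 1, 3244, 225), (2465, 0, 3770, 225), (2465, 1, 413, 228), (389, 0, 2889, 225), (389, 1, 3117, 228), (2850, 0, 390, 228), (2850, 1, 1001, 216), (3065, 0, 2028, 201), (3065, 1, 3564, 225), (1127, 0, 1625, 216), (1127, 1, 394, 216), (397, 0, 1857, 216), (397, 1, 3132, 225), (942, 0, 399, 201), (942, 1, 2013, 225), (1351, 0, 2942, 216), (1351, 1, 401, 201), (3379, 0, 3258, 216), (3379, 1, 2921, 216), (3365, 0, 2804, 210), (3365, 1, 403, 210), (3492, 0, 2358, 198), (3492, 1, 2202, 225), (1639, 0, 1261, 201), (1639, 1, 1480, 198), (1782, 0, 3355, 228), (1782, 1, 3706, 198), (2357, 0, 557, 216), (2357, 1, 415, 198), (955, 0, 418, 201), (955,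 1, 3703, 201), (1363, 0, 419, 210), (1363, 1, 807, 198), (420, 0, 1997, 225), (420, 1, 2826, 228), (757, 0, 422, 201), (757, 1, 1674, 201), (3242, 1, 1429, 210), (3035, 0, 3045, 210), (3035, 1, 2530, 225), (429, 0, 2523, 216), (429, 1, 3289, 201), (1874, 0, 2490, 198), (1874, 1, 487, 216), (2045, 0, 1467, 225), (2045, 1, 432, 228), (1064, 0, 1048, 225), (1064, 1, 433, 228), (2274, 1, 3734, 210), (3630, 0, 1664, 201), (1846, 0, 1553, 198), (1846, 1, 2233, 225), (3323, 0, 438, 228), (3323, 1, 883, 225), (1783, 0, 1281, 228), (1783, 1, 3151, 198), (1879, 0, 965, 228), (1879, 1, 1314, 201), (613, 0, 1022, 198), (613, 1, 765, 225), (2939, 0, 3188, 210), (2939, 1, 895, 198), (447, 0, 2239, 225), (447, 1, 1074, 225), (1678, 0, 709, 225), (1678, 1, 452, 201), (2127, 0, 453, 201), (2127, 1, 1470, 228), (455, 1, 3100, 198), (459, 0, 1427, 228), (459, 1, 1170, 210), (463, 0, 2572, 198), (463, 1, 2221, 198), (3353, 0, 1310, 216), (3353, 1, 2330, 216), (1175, 0, 543, 198), (1175, 1, 465, 198), (974, 0, 467,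 225), (974, 1, 3013, 216), (3088, 0, 2189, 216), (3088, 1, 3688, 228), (2820, 0, 873, 225), (2820, 1, 3299, 201), (472, 0, 3454, 216), (472, 1, 1804, 210), (2951, 0, 2153, 198), (2951, 1, 909, 228), (476, 1, 1133, 225), (2626, 0, 2094, 216), (2626, 1, 856, 225), (3106, 0, 3245, 198), (3106, 1, 2643, 216), (1993, 0, 1634, 216), (1993, 1, 493, 210), (1344, 0, 2694, 210), (1344, 1, 1109, 201), (2009, 0, 2709, 201), (2009, 1, 1981, 216), (1053, 0, 1809, 228), (1053, 1, 497, 228), (2137, 0, 3592, 216), (2137, 1, 499, 198), (2675, 0, 3070, 201), (2675, 1, 504, 228), (2375, 0, 506, 228), (2375, 1, 2027, 198), (2837, 0, 1754, 228), (2837, 1, 507, 228), (1824, 0, 1435, 228), (1824, 1, 2908, 198), (2711, 0, 2100, 216), (2711, 1, 3229, 201), (1417, 0, 2806, 216), (1417, 1, 511, 216), (512, 0, 2715, 201), (512, 1, 754, 216), (1237, 0, 2966, 210), (1237, 1, 514, 225), (515, 0, 1323, 210), (515, 1, 1028, 198), (2183, 0, 1566, 225), (2183, 1, 1341, 198), (1018, 0, 3261, 201), (2469, 0, 2559, 198), (2469, 1, 2412,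 210), (743, 0, 1355, 225), (743, 1, 523, 210), (1329, 0, 2960, 228), (1329, 1, 3752, 228), (2772, 0, 3327, 228), (2772, 1, 3614, 210), (534, 0, 2813, 225), (534, 1, 2827, 201), (2731, 0, 2745, 201), (2731, 1, 2932, 201), (3389, 0, 536, 225), (537, 0, 3069, 210), (537, 1, 3469, 216), (696, 0, 541, 228), (696, 1, 1672, 225), (542, 1, 1430, 228), (2777, 0, 1770, 216), (2777, 1, 578, 228), (2287, 0, 1369, 225), (2287, 1, 1826, 198), (2651, 0, 2965, 201), (2651, 1, 549, 228), (2605, 0, 693, 225), (2605, 1, 2353, 216), (2340, 0, 3574, 225), (2340, 1, 551, 210), (554, 0, 1908, 228), (554, 1, 3707, 225), (973, 0, 1307, 198), (973, 1, 561, 210), (1017, 0, 2056, 228), (1017, 1, 562, 225), (2036, 0, 2111, 225), (2036, 1, 563, 225), (566, 0, 2996, 210), (566, 1, 1697, 198), (1725, 0, 1808, 216), (1725, 1, 3211, 225), (3461, 0, 568, 228), (3461, 1, 3122, 225), (2346, 0, 697, 216), (2346, 1, 657, 210), (2692, 0, 1890, 216), (2692, 1, 2848, 216), (2798, 0, 575, 225), (2798, 1, 2481, 210), (3651, 0, 580, 198),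 (3651, 1, 2838, 210), (1101, 0, 952, 216), (1101, 1, 3558, 225), (2308, 1, 585, 198), (587, 0, 3636, 225), (587, 1, 3730, 225), (827, 0, 589, 198), (827, 1, 3091, 225), (3348, 0, 886, 216), (3348, 1, 1360, 216), (3517, 0, 1941, 228), (3517, 1, 593, 216), (950, 0, 594, 198), (950, 1, 2075, 228), (1021, 0, 2292, 228), (1021, 1, 1300, 216)]

/-- Steps. -/
def rows17_3 : List (ℕ × ℕ × ℕ × ℕ) := [(1601, 0, 596, 198), (1601, 1, 1174, 228), (599, 0, 923, 228), (599, 1, 1751, 216), (2569, 0, 1732, 210), (2569, 1, 1118, 228), (601, 0, 2860, 216), (601, 1, 1334, 201), (2175, 0, 1704, 228), (2175, 1, 1628, 201), (3232, 0, 2958, 228), (3232, 1, 3520, 225), (2681, 0, 2297, 201), (2681, 1, 606, 228), (1869, 0, 1706, 216), (1869, 1, 1568, 216), (610, 0, 2581, 216), (610, 1, 1862, 201), (752, 0, 3084, 216), (752, 1, 3090, 225), (990, 0, 1173, 228), (990, 1, 2500, 228), (1559, 0, 2065, 198), (1559, 1, 2232, 216), (616, 0, 1970, 216), (616, 1, 3717, 216), (3769, 0, 2437, 225), (3769, 1, 1889, 198), (2867, 0, 1811,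 201), (2867, 1, 619, 216), (1194, 0, 3555, 216), (1194, 1, 2216, 225), (1573, 0, 625, 201), (1573, 1, 2311, 216), (2496, 0, 3491, 228), (2496, 1, 633, 225), (2955, 0, 1984, 201), (2955, 1, 2432, 210), (637, 0, 2147, 225), (637, 1, 2262, 216), (640, 0, 2182, 225), (640, 1, 3527, 228), (3684, 0, 641, 210), (3684, 1, 1598, 228), (833, 0, 3565, 201), (833, 1, 643, 216), (1880, 0, 3519, 201), (1880, 1, 644, 198), (3489, 0, 2931, 216), (3489, 1, 2520, 216), (3201, 0, 2948, 216), (3201, 1, 651, 210), (1052, 0, 2493, 210), (1052, 1, 1284, 216), (654, 1, 2984, 210), (3168, 0, 3115, 228), (3168, 1, 3063, 198), (705, 0, 1060, 216), (705, 1, 660, 210), (2321, 0, 662, 225), (2321, 1, 1521, 216), (3742, 0, 663, 210), (3742, 1, 714, 225), (1636, 1, 1920, 198), (820, 0, 1416, 198), (820, 1, 1827, 201), (2949, 0, 1374, 228), (2949, 1, 1746, 198), (675, 0, 1447, 198), (675, 1, 3010, 210), (3381, 0, 2953, 225), (3381, 1, 3495, 198), (682, 0, 3212, 198), (682, 1, 3438, 225), (2245, 0, 907, 225), (2245, 1, 684, 225),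 (1692, 0, 1193, 210), (1692, 1, 3569, 228), (1979, 0, 689, 210), (1979, 1, 2244, 225), (3665, 0, 690, 225), (3665, 1, 2508, 225), (751, 0, 2015, 198), (751, 1, 3588, 198), (2719, 0, 2247, 225), (2719, 1, 706, 201), (2470, 1, 711, 225), (1923, 0, 3372, 216), (1923, 1, 2187, 198), (3716, 0, 864, 201), (3716, 1, 1012, 210), (3747, 0, 717, 216), (3747, 1, 1247, 225), (1864, 0, 718, 210), (1864, 1, 2659, 210), (719, 0, 875, 228), (719, 1, 2218, 225), (2863, 0, 3157, 216), (2863, 1, 3441, 228), (736, 0, 2150, 228), (739, 0, 2697, 225), (739, 1, 723, 210), (2504, 0, 3308, 225), (2504, 1, 3002, 225), (1076, 0, 2442, 210), (1076, 1, 1420, 210), (1852, 0, 734, 210), (1852, 1, 2617, 228), (741, 0, 1065, 210), (741, 1, 2950, 228), (1195, 0, 742, 210), (1195, 1, 1476, 201), (3657, 0, 744, 225), (3657, 1, 2409, 228), (3424, 0, 3619, 216), (3424, 1, 747, 228), (1948, 0, 3409, 198), (750, 0, 2154, 216), (750, 1, 1919, 201), (753, 0, 3668, 201), (753, 1, 2641, 216), (1562, 0, 2788, 216), (1562, 1, 758, 228), (2546,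 0, 3234, 228), (2546, 1, 1916, 228), (1250, 0, 1611, 210), (1250, 1, 2747, 198), (3732, 0, 1548, 216), (3732, 1, 1304, 225), (1212, 0, 766, 198), (1212, 1, 1985, 216), (2140, 0, 1806, 210), (2140, 1, 768, 210), (769, 0, 3237, 228), (769, 1, 3482, 216), (1268, 0, 2474, 210), (3322, 0, 1190, 198), (3322, 1, 3673, 210), (1263, 0, 773, 210), (1263, 1, 3513, 225), (2368, 0, 872, 201), (2368, 1, 3298, 201), (3736, 0, 2575, 198), (3736, 1, 1523, 198), (1436, 0, 2750, 201), (1436, 1, 3170, 228), (782, 1, 1578, 210), (3027, 0, 3020, 210), (3027, 1, 1387, 228), (3510, 0, 2338, 201), (3510, 1, 3599, 201), (3332, 0, 3671, 198), (3332, 1, 1613, 225), (793, 0, 3499, 210), (3759, 0, 794, 228), (3759, 1, 1585, 198), (796, 0, 3120, 198), (796, 1, 1832, 228), (2739, 0, 797, 210), (2739, 1, 1057, 201), (2342, 0, 2132, 225), (2342, 1, 802, 201), (1868, 0, 804, 198), (1868, 1, 1545, 216), (2268, 0, 958, 198), (2268, 1, 1279, 225), (2893, 0, 809, 210), (2893, 1, 2220, 198), (3058, 0, 816, 198), (3058, 1, 1424, 216),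 (1376, 0, 1924, 225), (1376, 1, 3052, 198), (2971, 0, 830, 225), (2971, 1, 3793, 201), (3337, 0, 835, 216), (3337, 1, 2294, 210), (1311, 0, 1584, 225), (1311, 1, 3054, 216), (1839, 0, 988, 201), (1839, 1, 842, 210), (1040, 0, 843, 225), (1040, 1, 2090, 216), (1814, 0, 849, 198), (1814, 1, 1077, 225), (2933, 0, 3722, 210), (2933, 1, 851, 225), (852, 0, 2528, 198), (852, 1, 3390, 210), (1006, 0, 2621, 198), (1006, 1, 853, 210), (2698, 0, 3661, 228), (2698, 1, 2823, 228), (3765, 0, 855, 225), (3765, 1, 3544, 210), (1635, 0, 2585, 225), (1635, 1, 2460, 198), (860, 0, 2741, 210), (860, 1, 1991, 228), (3272, 0, 1667, 210), (3272, 1, 862, 198), (1405, 0, 867, 228), (1405, 1, 1138, 225), (3731, 0, 2082, 216), (3731, 1, 2265, 210), (918, 0, 2940, 210), (918, 1, 3435, 228), (1409, 0, 3585, 228), (1409, 1, 3326, 228), (2759, 0, 3532, 198), (2759, 1, 3643, 225), (1288, 0, 1953, 225), (1288, 1, 3094, 198), (2661, 0, 1743, 216), (2661, 1, 2556, 216), (926, 0, 2652, 198), (926, 1, 1680, 198), (1343, 0, 3493,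 198), (1343, 1, 3682, 225), (3420, 0, 1647, 228), (3420, 1, 2841, 216), (2229, 0, 3404, 198), (2229, 1, 3748, 228), (3711, 0, 2115, 216), (3711, 1, 1093, 198), (2281, 0, 1728, 225), (2281, 1, 2674, 210), (994, 0, 3177, 198), (994, 1, 3679, 216), (1971, 0, 1035, 201), (1971, 1, 1367, 225), (921, 0, 2078, 198), (921, 1, 3281, 198), (1828, 0, 932, 201), (1828, 1, 1119, 198), (1854, 0, 2935, 210), (1854, 1, 3494, 225), (2457, 0, 2831, 210), (2457, 1, 1466, 210), (3775, 0, 1621, 201), (3775, 1, 1689, 210), (2017, 0, 2790, 201), (2017, 1, 953, 225), (954, 0, 3141, 210), (954, 1, 3393, 201), (956, 0, 1671, 210), (956, 1, 2795, 228), (2255, 0, 963, 225), (2255, 1, 1714, 210), (3219, 0, 2592, 201), (3219, 1, 964, 201)]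

/-- Steps. -/
def rows17_4 : List (ℕ × ℕ × ℕ × ℕ) := [(2103, 0, 2665, 216), (2103, 1, 2422, 225), (3478, 0, 2296, 201), (3478, 1, 977, 228), (1606, 0, 2242, 225), (1606, 1, 978, 198), (1016, 0, 3083, 198), (1016, 1, 2900, 210), (2947, 0, 991, 201), (3780, 0, 2515, 225), (3780, 1, 3683, 228), (1055, 0, 997, 216), (1055, 1, 1977, 216), (2990, 0, 3724, 228), (2990, 1, 2066, 225), (1761, 0, 1546, 228), (1761, 1, 1011, 216), (1303, 0, 2693, 228), (1303, 1, 1013, 198), (1019, 0, 1907, 216), (1019, 1, 1872, 198), (1802, 0, 1337, 216), (1802, 1, 3486, 228), (3572, 0, 2825, 198), (3572, 1, 3224, 228), (2339, 0, 2192, 216), (2339, 1, 1030, 201), (2923, 0, 3612, 210), (2923, 1, 2322, 225), (3012, 0, 2114, 210), (3012, 1, 2793, 198), (3321, 0, 2969, 210), (3321, 1, 1043, 216), (1589, 0, 2377, 225), (1589, 1, 1056, 225), (2393, 0, 2053, 210), (2393, 1, 2545, 198), (1401, 1, 1071, 228), (1072, 0, 3782, 198), (1072, 1, 1114, 228), (1736, 0, 1441, 201), (1736, 1, 1105, 201), (1083, 0, 1123, 225), (1083, 1, 1891,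 228), (1926, 0, 2304, 216), (1926, 1, 2591, 216), (1730, 0, 3273, 210), (1730, 1, 1091, 216), (1092, 0, 2688, 216), (1092, 1, 3448, 198), (2989, 1, 1199, 225), (1929, 0, 1282, 198), (1929, 1, 2252, 210), (2108, 0, 2381, 210), (2108, 1, 1631, 198), (1128, 1, 2123, 225), (1131, 0, 2178, 228), (1131, 1, 3767, 201), (1581, 0, 3709, 210), (1581, 1, 1954, 198), (2999, 0, 2418, 228), (2999, 1, 1140, 201), (3431, 0, 1142, 228), (3431, 1, 1308, 216), (2071, 0, 3644, 225), (2071, 1, 3081, 201), (2373, 0, 3271, 210), (2373, 1, 2489, 198), (1431, 0, 1160, 198), (1431, 1, 2543, 201), (1205, 0, 2891, 216), (1205, 1, 2141, 216), (3064, 0, 1187, 216), (3064, 1, 1939, 201), (2810, 1, 2291, 201), (3018, 0, 3034, 216), (3018, 1, 3583, 198), (1185, 0, 1233, 198), (1185, 1, 3078, 201), (3259, 1, 3167, 225), (1270, 0, 2868, 210), (1270, 1, 3101, 201), (1400, 0, 3190, 216), (1400, 1, 1198, 198), (1202, 0, 3104, 228), (1202, 1, 3616, 225), (2584, 0, 1207, 216), (2584, 1, 1239, 201), (1883, 0, 1228, 228), (1883, 1, 2817,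 228), (1214, 1, 2051, 201), (2671, 0, 2029, 216), (2671, 1, 1216, 225), (2521, 0, 3182, 201), (2521, 1, 2766, 201), (1375, 0, 1685, 228), (1375, 1, 2582, 201), (2163, 0, 1226, 201), (2163, 1, 2576, 228), (3437, 0, 1533, 198), (3437, 1, 1232, 225), (1930, 0, 1328, 225), (1930, 1, 1234, 198), (2870, 0, 1241, 201), (2870, 1, 1556, 216), (1724, 0, 2270, 216), (1724, 1, 1251, 210), (1255, 0, 2001, 198), (1255, 1, 2319, 198), (3038, 0, 3344, 198), (3038, 1, 2315, 201), (3719, 0, 3004, 198), (3719, 1, 1267, 216), (3658, 0, 2019, 201), (3658, 1, 1273, 210), (3536, 0, 3324, 201), (3536, 1, 1290, 216), (3255, 0, 3317, 198), (3255, 1, 3303, 216), (2307, 0, 3121, 201), (2307, 1, 1618, 216), (1315, 0, 3347, 210), (1315, 1, 2152, 210), (1316, 0, 2640, 210), (1316, 1, 2371, 210), (1317, 0, 2062, 225), (1317, 1, 3773, 216), (2637, 0, 1543, 225), (2637, 1, 1320, 228), (2812, 0, 1325, 216), (2668, 0, 1339, 210), (2668, 1, 1886, 216), (3502, 0, 3500, 228), (3502, 1, 1395, 210), (2538, 0, 2552, 228), (2538, 1, 1350,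 225), (2329, 0, 2897, 228), (2329, 1, 1644, 216), (3727, 0, 3567, 225), (3727, 1, 2426, 210), (1359, 1, 2479, 228), (1734, 0, 2181, 210), (2502, 0, 2394, 225), (2502, 1, 1364, 228), (2174, 0, 3604, 201), (2174, 1, 3197, 201), (1373, 0, 2776, 201), (1373, 1, 1383, 216), (1822, 0, 3466, 201), (1822, 1, 1390, 201), (2139, 0, 1398, 210), (2139, 1, 2730, 225), (3406, 1, 1408, 216), (3600, 0, 1411, 210), (3600, 1, 1996, 225), (2049, 1, 3287, 198), (2466, 0, 3143, 216), (2466, 1, 3516, 225), (1433, 1, 2673, 198), (1439, 0, 1893, 201), (1439, 1, 1505, 225), (2095, 0, 2425, 216), (2095, 1, 1445, 228), (2902, 0, 3790, 201), (2902, 1, 3542, 198), (2494, 0, 2800, 216), (2494, 1, 1676, 216), (2920, 1, 2988, 198), (1455, 0, 2193, 198), (1455, 1, 3789, 201), (2168, 0, 3608, 210), (2168, 1, 3701, 198), (1482, 0, 1969, 225), (1482, 1, 1490, 198), (2190, 0, 2124, 228), (2190, 1, 3310, 201), (3537, 0, 2408, 210), (3537, 1, 2390, 210), (1947, 0, 3328, 225), (1947, 1, 2438, 216), (3278, 0, 1594, 210), (3278, 1, 2535,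 225), (2214, 0, 2911, 201), (2214, 1, 1498, 210), (3351, 0, 2765, 201), (3351, 1, 1501, 228), (2718, 0, 1504, 228), (2718, 1, 2691, 225), (1510, 0, 2505, 198), (1510, 1, 1673, 201), (1669, 0, 1792, 210), (1669, 1, 2524, 216), (1525, 1, 1989, 228), (3040, 0, 3534, 225), (3040, 1, 2922, 201), (1586, 0, 1550, 216), (1586, 1, 2454, 198), (2615, 0, 2887, 216), (2615, 1, 1560, 210), (2144, 0, 3279, 228), (2144, 1, 1570, 210), (3587, 0, 1663, 201), (3587, 1, 1587, 225), (2386, 0, 2391, 198), (2386, 1, 1588, 198), (2070, 0, 2589, 198), (2070, 1, 3723, 210), (1943, 0, 2630, 201), (1943, 1, 3753, 228), (1694, 0, 2102, 228), (1694, 1, 2565, 198), (2110, 0, 2874, 210), (2110, 1, 3423, 201), (3638, 0, 2686, 225), (3638, 1, 1661, 216), (3206, 0, 2184, 210), (3206, 1, 2537, 210), (2419, 0, 3360, 210), (2419, 1, 1688, 198), (1705, 1, 1878, 210), (3792, 0, 1709, 198), (3792, 1, 2580, 216), (2959, 0, 1837, 198), (2959, 1, 3235, 228), (2272, 0, 2501, 210), (2272, 1, 2405, 210), (3646, 0, 2113, 210), (3646, 1, 3522,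 210), (1722, 0, 2303, 201), (1722, 1, 2213, 210), (3266, 0, 3584, 201), (3266, 1, 1739, 201), (2550, 0, 2716, 225), (2550, 1, 1903, 198), (1769, 0, 2787, 198), (1769, 1, 3395, 216), (3285, 0, 3092, 225), (3285, 1, 2350, 225), (2382, 0, 2037, 201), (2382, 1, 3000, 201), (1787, 1, 3697, 216), (3358, 0, 3059, 198), (3358, 1, 2653, 210), (2498, 0, 1855, 210), (1863, 0, 3573, 216), (1863, 1, 3615, 225), (3399, 0, 3761, 201), (3399, 1, 1876, 228), (1887, 1, 3605, 210), (2151, 0, 3225, 198)]

/-- Steps. -/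
def rows17_5 : List (ℕ × ℕ × ℕ × ℕ) := [(2151, 1, 2336, 228), (2758, 0, 3009, 228), (1940, 0, 2985, 210), (2828, 0, 3356, 210), (2828, 1, 1966, 210), (3456, 1, 1975, 225), (2134, 0, 3193, 228), (2134, 1, 1998, 210), (2558, 0, 3011, 201), (2558, 1, 3256, 225), (2383, 0, 2746, 201), (2383, 1, 2142, 228), (3105, 0, 2072, 201), (3105, 1, 3357, 225), (2785, 0, 3628, 216), (2785, 1, 2077, 210), (2129, 0, 2367, 198), (2129, 1, 2263, 225), (2894, 0, 2389, 210), (2894, 1, 3474, 225), (3213, 0, 2564, 198), (3213, 1, 3148, 210), (2225, 0, 2639, 210), (3648, 0, 3518, 216), (3648, 1, 3554, 201), (2253, 1, 3596, 225), (3006, 1, 2267, 228), (2669, 1, 3506, 210), (2314, 0, 3231, 225), (2314, 1, 2927, 198), (3535, 0, 3371, 225), (3133, 0, 3579, 201), (3133, 1, 2475, 201), (2484, 1, 3270, 210), (2602, 0, 2660, 225), (2624, 1, 2845, 198), (3729, 0, 2714, 225), (3729, 1, 3166, 225), (3315, 1, 3043, 198), (3291, 1, 3172, 198), (1757, 1, 3113, 228), (1, 0, 2913, 225), (1, 1, 2847, 201), (3057, 1, 1292, 210), (1370,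 0, 2, 198), (1370, 1, 3301, 216), (648, 0, 2276, 201), (6, 1, 1552, 225), (2305, 0, 2620, 201), (2305, 1, 1231, 201), (3007, 0, 976, 201), (2145, 1, 3545, 201), (2789, 0, 2451, 198), (2789, 1, 8, 210), (1675, 1, 1973, 210), (9, 0, 3475, 228), (9, 1, 1867, 216), (421, 1, 11, 210), (1829, 0, 3391, 198), (1829, 1, 1615, 225), (454, 1, 671, 198), (869, 0, 1121, 198), (869, 1, 12, 228), (13, 1, 2873, 225), (1652, 0, 789, 225), (1652, 1, 3692, 216), (3575, 1, 14, 201), (945, 0, 664, 198), (945, 1, 80, 198), (735, 1, 3428, 225), (993, 0, 16, 228), (993, 1, 1176, 201), (2967, 1, 3443, 225), (2356, 0, 17, 210), (2356, 1, 3755, 201), (813, 1, 1785, 198), (1764, 0, 2061, 228), (1764, 1, 2645, 225), (1555, 1, 20, 198), (762, 1, 2106, 201), (21, 0, 3162, 225), (21, 1, 559, 225), (2480, 1, 1269, 198), (22, 0, 195, 228), (22, 1, 2068, 216), (477, 0, 2619, 216), (1561, 1, 2379, 216), (146, 0, 326, 210), (146, 1, 24, 210), (1075, 1, 3312, 216), (2347, 0, 25, 210), (2347, 1, 3269, 210), (26, 1, 457, 210), (196,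 0, 3001, 225), (196, 1, 2733, 216), (3228, 1, 3576, 198), (2548, 0, 3318, 228), (2548, 1, 27, 198), (63, 1, 2032, 201), (28, 0, 1004, 210), (28, 1, 946, 228), (3624, 0, 1569, 225), (524, 1, 3720, 210), (166, 0, 111, 198), (166, 1, 30, 216), (1779, 1, 1718, 210), (31, 0, 3051, 225), (31, 1, 3314, 225), (460, 1, 39, 198), (3741, 0, 2224, 225), (3741, 1, 32, 210), (912, 1, 503, 225), (1162, 0, 1116, 198), (1162, 1, 3080, 228), (1845, 1, 3439, 210), (1054, 0, 1777, 228), (1054, 1, 34, 210), (1612, 1, 2649, 210), (469, 0, 2683, 225), (469, 1, 1775, 198), (1280, 1, 37, 198), (1640, 0, 544, 216), (1640, 1, 2884, 201), (528, 1, 3136, 198), (1913, 0, 996, 201), (1913, 1, 38, 216), (3149, 1, 40, 210), (2313, 0, 3485, 228), (2313, 1, 1069, 216), (2899, 1, 552, 210), (2093, 0, 1393, 228), (2093, 1, 1841, 201), (64, 1, 42, 228), (1666, 0, 2354, 210), (1666, 1, 3175, 201), (2258, 1, 2532, 225), (43, 0, 836, 198), (43, 1, 3184, 225), (44, 1, 2633, 201), (2099, 0, 1260, 201), (2099, 1, 1353, 198), (748, 1, 380,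 216), (966, 0, 45, 225), (966, 1, 291, 225), (1240, 0, 279, 216), (168, 1, 3363, 228), (153, 0, 47, 201), (153, 1, 3570, 216), (48, 1, 2655, 198), (217, 0, 165, 216), (217, 1, 2588, 216), (2855, 1, 1161, 225), (3559, 0, 1959, 225), (3559, 1, 1753, 210), (3566, 1, 243, 210), (1087, 0, 50, 225), (1087, 1, 152, 210), (727, 1, 2771, 201), (2084, 0, 259, 198), (2084, 1, 3641, 216), (3377, 1, 1848, 201), (3776, 0, 2797, 225), (3776, 1, 52, 201), (2211, 1, 3181, 228), (54, 0, 1813, 228), (54, 1, 3386, 210), (2089, 1, 55, 210), (2925, 0, 1528, 228), (2925, 1, 3642, 198), (1515, 1, 2278, 198), (3216, 0, 1253, 228), (3216, 1, 56, 201), (57, 1, 231, 198), (645, 0, 2197, 198), (645, 1, 825, 210), (494, 1, 847, 225), (1324, 0, 3207, 198), (1324, 1, 1899, 225), (95, 1, 2609, 228), (59, 0, 2396, 228), (59, 1, 1579, 216), (3260, 1, 3039, 228), (2791, 0, 60, 225), (2791, 1, 341, 216), (61, 1, 937, 198), (2885, 0, 2162, 198), (2885, 1, 303, 228), (960, 1, 62, 201), (2571, 0, 1147, 201), (2571, 1, 848, 216), (65,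 1, 2411, 225), (1440, 0, 1719, 228), (1440, 1, 2171, 198), (3024, 0, 1432, 228), (2176, 1, 2712, 216), (67, 0, 2835, 228), (67, 1, 1987, 210), (362, 1, 68, 201), (1742, 0, 207, 216), (1742, 1, 186, 198), (69, 1, 3771, 201), (216, 0, 1884, 201), (216, 1, 1386, 216), (3276, 1, 1646, 216), (70, 0, 592, 228), (70, 1, 1537, 228), (71, 1, 961, 216), (962, 0, 525, 228), (962, 1, 672, 228), (393, 1, 1262, 225), (72, 0, 3387, 210), (72, 1, 2541, 198), (3274, 1, 968, 201), (73, 0, 2961, 210), (73, 1, 1799, 198), (74, 1, 656, 210), (1750, 0, 1485, 225), (1750, 1, 1960, 210), (75, 1, 2260, 216), (3129, 0, 2052, 225), (3129, 1, 1145, 198), (3346, 1, 3119, 216), (94, 0, 76, 216), (94, 1, 1177, 216), (3547, 1, 77, 210), (1967, 0, 3586, 228), (1967, 1, 1474, 210), (78, 1, 1574, 210), (2987, 0, 3603, 201), (2987, 1, 2982, 228), (1460, 1, 3071, 216), (79, 0, 824, 201), (79, 1, 3196, 198), (1471, 1, 520, 216), (370, 0, 81, 198), (370, 1, 236, 216), (1210, 1, 2518, 225), (913, 0, 82, 210), (913, 1, 462, 210), (3374,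 1, 636, 216), (1107, 0, 650, 210), (1107, 1, 987, 216), (708, 0, 84, 228), (969, 1, 586, 210), (1690, 0, 85, 225), (1690, 1, 3195, 198), (160, 1, 86, 228), (3062, 1, 2369, 198), (564, 0, 87, 228), (564, 1, 3200, 198)]

/-- Steps. -/
def rows17_6 : List (ℕ × ℕ × ℕ × ℕ) := [(2601, 1, 1220, 225), (88, 0, 383, 198), (88, 1, 1172, 216), (358, 1, 581, 201), (3553, 0, 1885, 216), (3553, 1, 2909, 228), (877, 1, 90, 210), (106, 0, 995, 228), (106, 1, 1108, 225), (91, 1, 628, 225), (787, 0, 3557, 225), (787, 1, 3772, 216), (3662, 1, 3187, 198), (2631, 0, 92, 210), (2631, 1, 583, 198), (3056, 1, 2594, 228), (826, 0, 2269, 216), (826, 1, 3249, 228), (2527, 1, 981, 228), (1377, 0, 96, 225), (1377, 1, 1062, 210), (2135, 1, 1892, 210), (2506, 0, 210, 198), (2506, 1, 2627, 198), (321, 1, 2629, 216), (3087, 0, 1752, 210), (3087, 1, 2708, 201), (2803, 1, 579, 228), (99, 0, 841, 225), (99, 1, 1388, 225), (2048, 1, 141, 225), (1130, 0, 100, 228), (1130, 1, 818, 216), (1438, 1, 3028, 210), (2372, 0, 1901, 225), (2372,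 1, 423, 198), (124, 1, 398, 228), (3275, 0, 3571, 228), (3275, 1, 3103, 216), (3067, 1, 553, 216), (103, 0, 3055, 201), (103, 1, 679, 210), (2553, 1, 3460, 216), (1113, 0, 104, 228), (1113, 1, 2654, 225), (893, 1, 3154, 225), (1094, 0, 627, 228), (1094, 1, 2020, 216), (2970, 1, 931, 216), (1881, 0, 3130, 198), (1881, 1, 107, 216), (3512, 1, 1129, 216), (108, 0, 634, 210), (108, 1, 2735, 216), (3552, 1, 933, 228), (110, 0, 896, 210), (110, 1, 1468, 201), (112, 1, 799, 201), (1698, 0, 3421, 225), (1698, 1, 2865, 228), (114, 1, 3238, 198), (436, 0, 1179, 210), (436, 1, 2903, 198), (1497, 1, 1319, 216), (3581, 0, 1665, 201), (3581, 1, 2926, 216), (692, 1, 713, 201), (3733, 0, 3126, 210), (3733, 1, 116, 216), (117, 1, 171, 225), (1910, 0, 188, 198), (1910, 1, 1356, 201), (3008, 1, 118, 201), (2026, 0, 2069, 210), (2026, 1, 941, 210), (2832, 1, 897, 201), (2912, 0, 959, 216), (2912, 1, 817, 228), (2844, 1, 120, 216), (222, 0, 3598, 198), (222, 1, 834, 228), (474, 1, 3672, 201), (121, 0, 2945, 216), (121,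 1, 1259, 201), (2563, 1, 2682, 216), (122, 0, 3429, 225), (122, 1, 1306, 216), (1815, 1, 1371, 198), (320, 0, 999, 201), (320, 1, 123, 210), (2539, 1, 2648, 225), (1645, 0, 890, 198), (1645, 1, 3465, 225), (576, 1, 2736, 201), (829, 0, 3503, 201), (829, 1, 126, 201), (357, 1, 925, 198), (127, 0, 179, 201), (127, 1, 1658, 198), (2395, 1, 776, 210), (2022, 0, 2486, 210), (2022, 1, 2410, 228), (129, 1, 2116, 210), (3186, 0, 1291, 198), (3186, 1, 1385, 210), (1711, 1, 2091, 210), (1524, 0, 3754, 225), (1524, 1, 3678, 228), (2023, 1, 131, 210), (1861, 0, 2608, 201), (1861, 1, 1781, 210), (3745, 1, 132, 216), (3427, 0, 3539, 216), (3427, 1, 1535, 228), (881, 1, 3139, 210), (133, 0, 1330, 228), (133, 1, 1817, 225), (3738, 1, 2974, 228), (206, 0, 1026, 198), (206, 1, 135, 228), (224, 1, 2277, 228), (3183, 0, 2628, 225), (3183, 1, 136, 210), (137, 1, 686, 201), (695, 0, 1159, 225), (695, 1, 922, 225), (1238, 1, 1243, 228), (1715, 0, 2801, 201), (1715, 1, 930, 228), (2875, 1, 746, 216), (1592, 0, 1619, 225),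 (1592, 1, 1767, 201), (678, 1, 556, 198), (482, 0, 3199, 210), (482, 1, 1126, 228), (3629, 1, 142, 228), (2687, 0, 466, 216), (2687, 1, 2737, 210), (143, 1, 2050, 210), (614, 0, 412, 216), (614, 1, 823, 198), (3479, 1, 172, 201), (1452, 0, 3647, 216), (1452, 1, 144, 198), (1944, 1, 1122, 225), (947, 0, 333, 216), (947, 1, 1627, 210), (387, 1, 302, 216), (3227, 0, 1530, 225), (3227, 1, 2962, 210), (638, 1, 1700, 225), (1045, 0, 148, 198), (1045, 1, 1380, 225), (149, 1, 668, 216), (3342, 0, 667, 198), (3342, 1, 2907, 216), (3047, 1, 785, 201), (3293, 0, 1132, 228), (3293, 1, 3022, 210), (1166, 1, 154, 216), (334, 1, 155, 210), (1564, 0, 1565, 228), (1564, 1, 1798, 201), (1473, 1, 297, 198), (1772, 0, 3215, 201), (1772, 1, 658, 225), (2892, 1, 1203, 216), (2415, 0, 3286, 201), (2415, 1, 157, 216), (3590, 1, 1870, 216), (158, 0, 681, 201), (158, 1, 2843, 198), (1287, 1, 392, 198), (1686, 0, 1313, 210), (1686, 1, 3402, 210), (1007, 1, 2625, 198), (1402, 0, 2705, 225), (1402, 1, 2510, 201), (3098, 1,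 532, 201), (162, 0, 3561, 216), (162, 1, 3325, 216), (3680, 1, 384, 201), (163, 0, 3145, 228), (163, 1, 545, 210), (3144, 1, 3634, 228), (269, 0, 2403, 198), (269, 1, 3336, 216), (290, 1, 3705, 201), (712, 0, 2312, 210), (712, 1, 2623, 228), (169, 1, 3766, 210), (1278, 0, 1169, 225), (1278, 1, 2212, 216), (2834, 1, 1788, 198), (3664, 0, 170, 198), (3664, 1, 3218, 216), (2783, 1, 874, 228), (2618, 0, 173, 216), (2618, 1, 3384, 210), (3109, 0, 174, 216), (2886, 1, 3459, 210), (2031, 0, 3096, 198), (2031, 1, 1391, 198), (176, 0, 3669, 198), (3563, 1, 1051, 198), (2073, 0, 1597, 210), (2073, 1, 2517, 225), (2074, 1, 1368, 201), (915, 0, 178, 210), (915, 1, 3313, 198), (3637, 1, 1183, 210), (2402, 0, 3508, 228), (2402, 1, 2963, 198), (839, 1, 3243, 198), (181, 0, 378, 210), (181, 1, 2158, 201), (1850, 1, 3659, 216), (801, 0, 1335, 201), (801, 1, 183, 225), (3251, 1, 372, 210), (184, 0, 936, 210), (184, 1, 1914, 228), (2941, 0, 3654, 216), (187, 1, 1223, 210), (3093, 0, 3763, 198), (3093, 1, 3462, 228),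 (189, 1, 1607, 201), (3477, 0, 2919, 225), (3477, 1, 1450, 210), (190, 1, 2830, 228), (2895, 0, 2487, 216), (2895, 1, 2574, 201), (1321, 1, 1968, 225), (473, 0, 191, 216), (473, 1, 348, 198), (2614, 1, 1502, 225), (2452, 0, 192, 228), (2452, 1, 3095, 225), (3383, 1, 1630, 210), (1990, 0, 1372, 228), (1990, 1, 193, 198), (935, 1, 1905, 225), (2566, 0, 3329, 210), (2566, 1, 2763, 201), (3498, 1, 197, 210), (1244, 0, 2186, 198), (1244, 1, 726, 210), (449, 1, 2611, 225), (2286, 0, 1165, 201), (2286, 1, 198, 228)]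

/-- Steps. -/
def rows17_7 : List (ℕ × ℕ × ℕ × ℕ) := [(3108, 1, 199, 228), (1245, 0, 2761, 225), (1245, 1, 3265, 225), (2677, 1, 200, 198), (1085, 0, 1446, 225), (1085, 1, 1412, 216), (1059, 1, 2250, 228), (201, 0, 900, 216), (201, 1, 501, 198), (998, 1, 3785, 198), (202, 0, 898, 228), (202, 1, 2896, 210), (704, 1, 2531, 198), (3751, 0, 539, 201), (3751, 1, 203, 210), (204, 1, 608, 228), (1148, 0, 3687, 228), (1148, 1, 1747, 201), (502, 1, 788, 225), (1206, 0, 3690, 216), (1206, 1, 205, 228), (691, 1, 2399, 201), (1810, 0, 208, 210), (1810, 1, 1896, 198), (972, 1, 2485, 210), (3388, 0, 377, 225), (3388, 1, 209, 210), (1494, 1, 342, 216), (1489, 0, 211, 210), (1489, 1, 577, 225), (212, 1, 2915, 228), (2579, 0, 685, 210), (2579, 1, 2417, 228), (3779, 1, 316, 210), (3413, 0, 845, 228), (3413, 1, 213, 210), (1511, 0, 2964, 198), (597, 1, 603, 225), (215, 0, 450, 201), (215, 1, 1759, 210), (3757, 1, 218, 198), (3546, 0, 2011, 210), (3546, 1, 1756, 228), (219, 1, 1457, 216), (335, 0, 1950, 216), (335,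 1, 1691, 216), (223, 0, 1208, 228), (2946, 1, 2002, 228), (3496, 0, 266, 201), (3496, 1, 3005, 216), (3609, 1, 3174, 210), (2199, 0, 226, 210), (2199, 1, 2898, 225), (1551, 0, 2060, 225), (441, 1, 1830, 210), (2656, 0, 3247, 225), (2656, 1, 3774, 210), (229, 1, 1978, 225), (1080, 0, 2345, 228), (1080, 1, 1197, 198), (781, 1, 1124, 198), (230, 0, 480, 210), (230, 1, 2249, 216), (417, 1, 3037, 210), (2975, 0, 702, 228), (2975, 1, 232, 210), (1164, 1, 2430, 228), (3375, 0, 233, 216), (3375, 1, 1464, 198), (2041, 1, 234, 216), (518, 0, 2240, 201), (518, 1, 1143, 198), (2397, 1, 3138, 198), (301, 0, 235, 201), (301, 1, 2429, 225), (1744, 0, 2977, 225), (1958, 1, 238, 216), (3295, 0, 338, 198), (3295, 1, 1242, 216), (368, 1, 3217, 201), (2676, 0, 905, 210), (2676, 1, 239, 210), (3368, 1, 1361, 225), (2606, 0, 1605, 216), (2606, 1, 240, 198), (3758, 1, 2740, 210), (1008, 0, 1679, 225), (1008, 1, 241, 201), (894, 1, 665, 216), (2822, 0, 242, 225), (2822, 1, 2456, 225), (3464, 1, 3523, 198), (244, 0, 3085,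 216), (244, 1, 3762, 216), (2642, 1, 1582, 210), (245, 0, 1349, 225), (245, 1, 1414, 225), (1178, 1, 1227, 216), (2362, 0, 3304, 201), (2362, 1, 246, 198), (2805, 1, 1726, 216), (3086, 0, 409, 216), (3086, 1, 772, 216), (248, 1, 1462, 198), (364, 0, 1478, 198), (364, 1, 510, 228), (1274, 1, 3123, 225), (265, 0, 249, 210), (265, 1, 2770, 225), (1084, 1, 250, 198), (1717, 0, 3621, 216), (1717, 1, 3128, 201), (3540, 1, 2203, 198), (1707, 0, 458, 216), (1707, 1, 2302, 225), (928, 1, 1141, 225), (3036, 0, 252, 198), (3036, 1, 332, 228), (1620, 1, 2916, 216), (253, 0, 1518, 210), (253, 1, 2781, 201), (2782, 1, 2447, 201), (255, 0, 2492, 198), (255, 1, 1023, 198), (404, 1, 300, 210), (1912, 0, 481, 201), (1912, 1, 3560, 201), (257, 1, 2248, 228), (1803, 0, 3198, 225), (1803, 1, 784, 216), (2482, 1, 424, 228), (1046, 0, 2699, 210), (1046, 1, 258, 201), (722, 1, 2445, 198), (2083, 0, 2529, 216), (2083, 1, 260, 201), (1542, 1, 2366, 210), (2064, 0, 261, 225), (2064, 1, 410, 225), (1425, 1, 899, 228), (2209,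 0, 1499, 216), (2209, 1, 3681, 198), (1211, 1, 2351, 225), (646, 0, 263, 216), (646, 1, 414, 225), (850, 0, 2937, 210), (267, 1, 2003, 225), (2208, 0, 1229, 225), (2208, 1, 2170, 228), (2201, 1, 2206, 201), (270, 0, 461, 216), (270, 1, 986, 216), (2288, 1, 1526, 216), (271, 0, 3116, 216), (271, 1, 605, 210), (2995, 1, 2495, 216), (272, 0, 2666, 210), (272, 1, 2235, 210), (2644, 1, 2468, 198), (1095, 0, 273, 228), (1095, 1, 2778, 228), (274, 1, 2587, 210), (2856, 0, 2477, 216), (2856, 1, 2752, 210), (2978, 1, 275, 210), (1748, 0, 1945, 228), (1748, 1, 1426, 198), (488, 1, 2309, 228), (2275, 0, 1340, 210), (2275, 1, 276, 228), (1571, 1, 277, 225), (805, 0, 1928, 210), (805, 1, 3433, 201), (3471, 1, 1540, 210), (755, 0, 278, 210), (755, 1, 1921, 210), (3031, 0, 2364, 201), (683, 1, 927, 228), (281, 0, 2290, 201), (281, 1, 1459, 225), (2808, 1, 1877, 216), (3768, 0, 1682, 201), (3768, 1, 282, 201), (283, 0, 3076, 210), (284, 1, 980, 216), (1873, 0, 806, 201), (1873, 1, 731, 225), (3194, 1, 3484, 228),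 (285, 0, 505, 201), (285, 1, 1831, 225), (1403, 1, 3710, 210), (2604, 0, 814, 210), (2604, 1, 286, 198), (2700, 1, 288, 225), (630, 0, 1860, 228), (630, 1, 1033, 198), (1404, 1, 3556, 201), (289, 0, 296, 210), (289, 1, 2136, 198), (292, 1, 1277, 201), (2107, 0, 1653, 225), (2107, 1, 2471, 228), (2156, 1, 3760, 201), (405, 0, 293, 216), (405, 1, 828, 225), (339, 1, 3403, 210), (1660, 0, 294, 216), (1660, 1, 3631, 216), (1755, 1, 298, 228), (573, 0, 1818, 201), (573, 1, 1976, 201), (2173, 1, 478, 210), (2010, 0, 299, 225), (2010, 1, 386, 216), (3397, 1, 620, 228), (2944, 0, 3302, 225), (2944, 1, 623, 201), (3146, 1, 306, 228), (1602, 0, 2205, 201), (1602, 1, 1201, 225), (308, 1, 2085, 210), (2473, 0, 1000, 225), (2473, 1, 1005, 210), (2264, 1, 309, 225), (1218, 0, 3442, 198), (1218, 1, 2088, 210), (427, 1, 2596, 228), (310, 0, 1294, 198), (310, 1, 2404, 201), (311, 1, 569, 225), (312, 1, 1801, 228), (1058, 0, 1015, 210), (1058, 1, 3296, 216), (1657, 1, 313, 198), (1632, 0, 838, 228), (1632, 1, 1112,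 228), (2446, 0, 317, 228), (318, 1, 3221, 201), (1309, 0, 1152, 201), (1309, 1, 2993, 225), (1024, 1, 2936, 201), (767, 0, 322, 201), (767, 1, 939, 216), (1917, 1, 677, 198), (555, 0, 2238, 201), (555, 1, 2241, 198), (324, 1, 3515, 198), (3033, 0, 861, 225), (3033, 1, 1599, 198), (2934, 1, 1158, 216)]

/-- Steps. -/
def rows17_8 : List (ℕ × ℕ × ℕ × ℕ) := [(917, 0, 1741, 201), (917, 1, 325, 201), (673, 1, 3068, 198), (3074, 0, 327, 225), (3074, 1, 3349, 210), (328, 0, 3714, 210), (329, 1, 1980, 198), (3161, 0, 3467, 228), (3161, 1, 2324, 225), (1925, 1, 2096, 198), (967, 0, 1762, 225), (967, 1, 618, 228), (331, 1, 3226, 210), (3042, 0, 3025, 228), (3042, 1, 632, 201), (337, 1, 530, 225), (949, 0, 1795, 201), (949, 1, 1135, 210), (2143, 1, 2567, 198), (1415, 0, 2877, 216), (1415, 1, 340, 201), (2326, 1, 661, 228), (2570, 0, 3444, 228), (2570, 1, 572, 210), (584, 1, 344, 201), (1410, 0, 3135, 198), (1410, 1, 2992, 216), (3282, 1, 2359, 225), (345, 0, 2815, 201), (345, 1, 2188, 216), (3743, 1, 2840,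 216), (2717, 0, 3280, 201), (2717, 1, 346, 216), (347, 1, 400, 201), (631, 0, 3330, 225), (631, 1, 430, 198), (444, 1, 1784, 225), (349, 0, 3016, 228), (349, 1, 3257, 198), (3159, 1, 350, 225), (396, 0, 938, 210), (396, 1, 451, 201), (3131, 1, 3656, 201), (1070, 0, 351, 201), (1070, 1, 1946, 198), (1423, 1, 3551, 201), (2455, 0, 3202, 210), (2455, 1, 352, 210), (3252, 1, 1137, 210), (353, 0, 2707, 216), (353, 1, 491, 216), (3419, 1, 2195, 225), (3160, 0, 1737, 225), (3160, 1, 354, 225), (3488, 1, 355, 216), (1712, 0, 1952, 228), (1712, 1, 1654, 216), (2952, 1, 3191, 228), (1992, 0, 1768, 198), (1992, 1, 356, 198), (2488, 1, 2957, 210), (359, 0, 2251, 201), (359, 1, 2021, 198), (360, 1, 1448, 216), (2146, 0, 1796, 228), (2146, 1, 2562, 216), (887, 1, 2910, 198), (361, 0, 526, 228), (361, 1, 1622, 216), (901, 1, 3740, 198), (365, 0, 3343, 216), (365, 1, 3171, 216), (1345, 1, 778, 228), (832, 0, 366, 228), (832, 1, 2557, 210), (367, 1, 2155, 201), (3549, 0, 3480, 210), (3549, 1, 1003, 225), (1780,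 1, 558, 201), (3127, 0, 2729, 201), (3127, 1, 369, 216), (1871, 1, 1067, 216), (371, 0, 3352, 210), (371, 1, 3350, 210), (3417, 0, 373, 198), (2816, 1, 1382, 216), (374, 0, 2185, 201), (374, 1, 944, 201), (2852, 1, 375, 225), (2459, 1, 590, 228), (866, 0, 376, 201), (866, 1, 500, 225), (1483, 1, 2807, 210), (379, 0, 1088, 198), (379, 1, 2943, 198), (1413, 0, 3185, 225), (385, 1, 639, 225), (3244, 0, 2547, 201), (3244, 1, 2257, 198), (3770, 1, 1763, 198), (413, 0, 388, 216), (413, 1, 3430, 225), (2889, 1, 1547, 228), (3117, 0, 2818, 198), (3117, 1, 3077, 201), (390, 1, 2720, 228), (1001, 0, 1469, 201), (1001, 1, 698, 210), (2028, 1, 391, 216), (3564, 0, 3412, 198), (3564, 1, 2179, 216), (1625, 1, 3044, 201), (394, 0, 3114, 216), (394, 1, 3645, 216), (1857, 1, 2076, 201), (3132, 0, 2448, 225), (3132, 1, 519, 228), (399, 1, 3449, 210), (2013, 0, 983, 210), (2013, 1, 3339, 225), (2942, 1, 2792, 225), (401, 0, 560, 198), (401, 1, 1219, 198), (3258, 1, 2819, 210), (2921, 0, 2317, 216), (2921, 1, 402,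 198), (2804, 1, 3594, 216), (403, 0, 2723, 228), (403, 1, 2814, 201), (2358, 1, 2058, 210), (2202, 0, 2774, 201), (2202, 1, 406, 225), (1261, 1, 407, 198), (1480, 0, 1805, 210), (1480, 1, 1575, 228), (3355, 1, 1081, 225), (3706, 0, 2361, 225), (3706, 1, 411, 210), (557, 1, 970, 228), (415, 0, 1681, 210), (415, 1, 3591, 198), (418, 1, 3268, 225), (3703, 0, 2725, 225), (3703, 1, 2159, 201), (1997, 1, 1512, 225), (2826, 0, 2440, 198), (2826, 1, 846, 201), (422, 1, 1604, 216), (1674, 0, 1014, 198), (1674, 1, 2853, 228), (1429, 0, 426, 225), (3045, 1, 3481, 225), (2530, 0, 428, 228), (2530, 1, 819, 210), (2523, 1, 489, 225), (3289, 0, 1481, 198), (3289, 1, 1171, 228), (2490, 1, 485, 225), (487, 0, 431, 225), (487, 1, 2706, 198), (1467, 1, 2583, 210), (432, 0, 2266, 228), (432, 1, 3333, 198), (1048, 1, 2331, 228), (433, 0, 1073, 198), (433, 1, 2696, 225), (3734, 0, 434, 228), (1664, 1, 435, 225), (1553, 1, 2794, 201), (2233, 0, 1396, 210), (2233, 1, 437, 201), (438, 1, 3297, 198), (883, 0, 2325, 228),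 (883, 1, 1034, 225), (1281, 1, 439, 228), (3151, 0, 3316, 228), (3151, 1, 3370, 210), (965, 1, 1656, 198), (1314, 0, 2054, 201), (1314, 1, 440, 225), (1022, 1, 442, 216), (765, 0, 795, 216), (765, 1, 1332, 201), (3188, 1, 2503, 201), (895, 0, 3163, 210), (895, 1, 443, 216), (2239, 1, 1184, 225), (1074, 0, 1302, 228), (1074, 1, 652, 198), (709, 1, 2378, 228), (452, 0, 2006, 228), (452, 1, 3049, 216), (453, 1, 492, 198), (1470, 0, 859, 225), (1470, 1, 2165, 228), (3100, 0, 2055, 198), (1427, 1, 529, 228), (1170, 0, 1927, 225), (1170, 1, 1357, 225), (2572, 1, 885, 225), (2221, 0, 1957, 228), (2221, 1, 882, 216), (1310, 1, 464, 210), (2330, 0, 649, 198), (2330, 1, 1659, 198), (543, 1, 3189, 216), (465, 0, 1576, 201), (465, 1, 3674, 210), (467, 1, 1379, 225), (3013, 0, 2507, 201), (3013, 1, 730, 216), (2189, 1, 2657, 201), (3688, 0, 2121, 201), (3688, 1, 468, 198), (873, 1, 3416, 228), (3299, 0, 1693, 216), (3299, 1, 471, 228), (3454, 1, 2802, 228), (1804, 0, 2117, 225), (1804, 1, 985, 228), (2153,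 1, 3791, 210), (909, 0, 1025, 210), (909, 1, 475, 228), (1133, 0, 2721, 210), (2094, 1, 486, 201), (856, 0, 1222, 216), (856, 1, 1331, 225), (3245, 1, 2226, 201), (2643, 0, 490, 228), (2643, 1, 2695, 228), (1634, 1, 803, 210), (493, 0, 878, 210), (493, 1, 1136, 201), (2694, 1, 495, 225), (1109, 0, 3562, 198), (1109, 1, 2318, 201), (2709, 1, 496, 228), (1981, 0, 669, 228), (1981, 1, 1456, 210), (1809, 1, 1534, 225), (497, 0, 1642, 228), (497, 1, 1699, 228), (3592, 1, 929, 225), (499, 0, 1146, 210), (499, 1, 812, 216), (3070, 1, 3580, 198), (504, 0, 1115, 216), (504, 1, 3176, 216), (506, 1, 2300, 210), (2027, 0, 2254, 198)]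

/-- Steps. -/
def rows17_9 : List (ℕ × ℕ × ℕ × ℕ) := [(2027, 1, 1617, 225), (1754, 1, 2080, 228), (507, 0, 857, 225), (507, 1, 2924, 210), (1435, 1, 3652, 198), (2908, 0, 508, 216), (2908, 1, 700, 228), (2100, 1, 2979, 228), (3229, 0, 509, 216), (3229, 1, 516, 201), (2715, 1, 3361, 216), (754, 0, 3248, 198), (754, 1, 3137, 228), (2966, 1, 3548, 228), (514, 0, 1477, 228), (514, 1, 1322, 225), (1323, 1, 2246, 198), (1028, 0, 844, 216), (1028, 1, 3415, 201), (1566, 1, 2514, 225), (1341, 0, 517, 225), (1341, 1, 2634, 225), (3261, 1, 521, 198), (2559, 1, 522, 210), (2412, 0, 1703, 216), (2412, 1, 821, 201), (1355, 1, 1103, 198), (523, 0, 1163, 210), (523, 1, 3468, 201), (2960, 1, 531, 198), (3752, 0, 3032, 210), (3752, 1, 2646, 225), (3327, 1, 1544, 216), (3614, 0, 533, 201), (3614, 1, 3405, 210), (2813, 1, 3030, 198), (2827, 0, 2196, 225), (2827, 1, 1066, 201), (2745, 1, 535, 201), (2932, 0, 2876, 228), (2932, 1, 2279, 201), (536, 1, 733, 210), (3069, 1, 1422, 201), (3469, 0, 729, 201), (3469, 1,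 2839, 210), (541, 1, 688, 198), (1672, 0, 1931, 201), (1672, 1, 1572, 198), (1430, 0, 732, 216), (1770, 1, 3378, 228), (578, 0, 546, 201), (578, 1, 3253, 201), (1369, 1, 547, 210), (1826, 0, 1965, 198), (1826, 1, 3617, 225), (2965, 1, 2370, 198), (549, 0, 1506, 228), (549, 1, 3003, 228), (693, 1, 1684, 216), (2353, 0, 550, 210), (2353, 1, 3169, 198), (3574, 1, 2227, 228), (551, 0, 3452, 225), (551, 1, 3696, 228), (1908, 1, 3541, 198), (3707, 0, 1348, 201), (3707, 1, 1249, 216), (1307, 1, 1437, 216), (561, 0, 2607, 210), (561, 1, 2133, 210), (2056, 1, 3787, 201), (562, 0, 3305, 228), (562, 1, 2234, 216), (2111, 1, 1326, 216), (563, 0, 3179, 198), (563, 1, 2600, 225), (2996, 1, 3396, 225), (1697, 0, 2413, 201), (1697, 1, 798, 225), (1808, 1, 2499, 216), (3211, 0, 1774, 201), (3211, 1, 567, 225), (568, 1, 3778, 210), (3122, 0, 2540, 216), (3122, 1, 1144, 198), (697, 1, 570, 228), (657, 0, 2612, 228), (657, 1, 1449, 201), (1890, 1, 2650, 198), (2848, 0, 1217, 198), (2848, 1, 574, 201), (575, 1, 1104,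 228), (2481, 0, 2956, 225), (2481, 1, 3472, 225), (580, 1, 3704, 225), (2838, 0, 1738, 201), (2838, 1, 3783, 201), (952, 1, 2879, 201), (3558, 0, 582, 228), (3558, 1, 1491, 228), (585, 0, 2917, 216), (3636, 1, 3334, 201), (3730, 0, 3264, 216), (3730, 1, 2918, 198), (589, 1, 1078, 198), (3091, 0, 2554, 201), (3091, 1, 1898, 225), (886, 1, 591, 228), (1360, 0, 1972, 210), (1360, 1, 1702, 225), (1941, 1, 707, 210), (593, 0, 1567, 198), (593, 1, 1186, 228), (594, 1, 1125, 216), (2075, 0, 2374, 201), (2075, 1, 701, 228), (2292, 1, 2755, 198), (1300, 0, 1900, 216), (1300, 1, 595, 210), (596, 1, 2536, 210), (1174, 0, 3021, 210), (1174, 1, 2392, 228), (923, 1, 756, 201), (1751, 0, 1444, 228), (1751, 1, 3676, 201), (1732, 1, 1099, 225), (1118, 0, 600, 225), (1118, 1, 790, 225), (2860, 1, 2138, 210), (1334, 0, 3026, 198), (1334, 1, 3239, 198), (1704, 1, 1875, 198), (1628, 0, 602, 228), (1628, 1, 740, 228), (2958, 1, 604, 210), (3520, 0, 2360, 198), (3520, 1, 1716, 201), (2297, 1, 3394, 198), (606, 0, 2092,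 228), (606, 1, 3721, 216), (1706, 1, 1248, 210), (1568, 0, 760, 210), (1568, 1, 609, 225), (2581, 1, 3262, 225), (1862, 0, 3589, 198), (1862, 1, 1009, 225), (3084, 1, 611, 225), (3090, 0, 3345, 228), (3090, 1, 2578, 228), (1173, 1, 612, 216), (2500, 0, 3061, 216), (2500, 1, 3434, 198), (2065, 1, 2986, 198), (2232, 0, 1793, 228), (2232, 1, 615, 225), (1970, 1, 1352, 225), (3717, 0, 1061, 210), (3717, 1, 725, 210), (2437, 1, 617, 201), (1889, 0, 971, 198), (1889, 1, 763, 216), (1811, 1, 916, 225), (619, 0, 1213, 198), (619, 1, 2599, 210), (3555, 1, 1840, 216), (2216, 0, 1230, 228), (2216, 1, 622, 198), (625, 1, 2128, 198), (2311, 0, 2407, 210), (2311, 1, 865, 216), (3491, 1, 2464, 198), (633, 0, 676, 201), (633, 1, 1039, 210), (1984, 1, 1458, 216), (2432, 0, 1897, 198), (2432, 1, 635, 198), (2147, 1, 3525, 225), (2262, 0, 3306, 210), (2262, 1, 2542, 198), (2182, 1, 1111, 228), (3527, 0, 2462, 216), (3527, 1, 2081, 198), (641, 1, 3354, 201), (1598, 0, 2177, 225), (1598, 1, 2980, 201), (3565, 1, 3633,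 198), (643, 0, 2983, 198), (643, 1, 1235, 198), (3519, 1, 1633, 216), (644, 0, 3632, 201), (644, 1, 2230, 225), (2931, 1, 2112, 225), (2520, 0, 1293, 228), (2520, 1, 647, 201), (2493, 1, 1843, 210), (1284, 0, 2323, 201), (1284, 1, 653, 228), (2984, 0, 2590, 228), (3115, 1, 1616, 216), (3063, 0, 2743, 216), (3063, 1, 659, 198), (1060, 1, 800, 198), (660, 0, 2079, 228), (660, 1, 1982, 198), (662, 1, 2938, 225), (1521, 0, 2751, 210), (1521, 1, 3476, 210), (1920, 0, 666, 210), (1416, 1, 1154, 225), (1827, 0, 979, 216), (1827, 1, 670, 210), (1374, 1, 674, 210), (1746, 0, 2728, 198), (1746, 1, 2298, 210), (1447, 1, 810, 216), (3010, 0, 1089, 216), (3010, 1, 1964, 210), (2953, 1, 680, 216), (3495, 0, 1196, 225), (3495, 1, 1608, 198), (3212, 1, 1252, 198), (3438, 0, 831, 201), (3438, 1, 3509, 225), (907, 1, 3300, 225), (684, 0, 3124, 210), (684, 1, 1591, 216), (1193, 1, 687, 225), (3569, 0, 3418, 228), (3569, 1, 1271, 216), (689, 1, 1503, 201), (2244, 0, 3079, 225), (2244, 1, 863, 201), (690, 1, 2512,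 225), (2508, 0, 1333, 228), (2508, 1, 2684, 198), (2015, 1, 1935, 198), (3588, 0, 2662, 198), (3588, 1, 694, 201), (2247, 1, 1254, 225), (706, 0, 1102, 225), (706, 1, 982, 210), (711, 0, 3490, 210), (3372, 1, 1974, 210), (2187, 0, 715, 201), (2187, 1, 2449, 210), (864, 1, 3320, 201), (1012, 0, 716, 198), (1012, 1, 3781, 210), (717, 1, 2904, 201), (1247, 0, 3794, 201)]

/-- Steps. -/
def rows17_10 : List (ℕ × ℕ × ℕ × ℕ) := [(1247, 1, 1215, 216), (718, 1, 2869, 198), (2659, 0, 3180, 228), (2659, 1, 2423, 201), (875, 1, 1463, 225), (2218, 0, 2222, 225), (2218, 1, 2610, 201), (3157, 1, 1047, 210), (3441, 0, 1995, 228), (3441, 1, 720, 228), (2150, 1, 721, 210), (2697, 1, 2994, 228), (723, 0, 1936, 210), (723, 1, 1816, 198), (3308, 1, 724, 210), (3002, 0, 2125, 216), (3002, 1, 1002, 228), (2442, 1, 1800, 228), (1420, 0, 2167, 216), (1420, 1, 728, 228), (1065, 1, 2295, 210), (2950, 0, 3675, 201), (2950, 1, 2384, 225), (742, 1, 1318, 198), (1476, 0, 2906, 225), (1476, 1, 3653, 225), (744, 1, 1835, 216),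 (2409, 0, 2149, 198), (2409, 1, 2636, 201), (3619, 1, 2086, 198), (747, 0, 1641, 228), (747, 1, 3392, 201), (3409, 1, 749, 201), (2154, 1, 1050, 201), (1919, 0, 943, 216), (1919, 1, 2420, 210), (3668, 1, 2467, 225), (2641, 0, 2727, 210), (2641, 1, 3788, 198), (2788, 1, 3473, 210), (758, 0, 3292, 198), (758, 1, 902, 225), (3234, 1, 1156, 210), (1916, 0, 1283, 198), (1916, 1, 759, 210), (1611, 1, 1049, 201), (2747, 0, 761, 225), (2747, 1, 3050, 198), (1548, 1, 1090, 198), (1304, 0, 764, 198), (1304, 1, 1687, 228), (766, 1, 3526, 198), (1985, 0, 1988, 225), (1985, 1, 1496, 210), (1806, 1, 2930, 210), (768, 0, 2332, 216), (768, 1, 2035, 198), (3237, 1, 1531, 210), (3482, 0, 3618, 228), (3482, 1, 2194, 225), (2474, 1, 770, 198), (1190, 1, 771, 201), (3673, 0, 2476, 201), (3673, 1, 1596, 210), (773, 1, 1397, 201), (3513, 0, 3670, 210), (3513, 1, 3568, 201), (872, 1, 3158, 228), (3298, 0, 2811, 198), (3298, 1, 777, 228), (2575, 1, 779, 225), (1523, 0, 2862, 225), (1523, 1, 3385, 198), (2750, 1, 780, 225),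 (3170, 0, 1037, 216), (3170, 1, 3082, 201), (1578, 0, 1272, 228), (3020, 1, 2635, 210), (1387, 0, 786, 228), (1387, 1, 2044, 216), (2338, 1, 791, 210), (3599, 0, 3487, 198), (3599, 1, 1894, 225), (3671, 1, 792, 216), (1613, 0, 3152, 201), (1613, 1, 1100, 228), (3499, 1, 1933, 216), (794, 1, 1258, 210), (1585, 0, 1200, 225), (1585, 1, 2593, 225), (3120, 1, 1856, 198), (1832, 0, 3737, 201), (1832, 1, 3380, 210), (797, 1, 3222, 210), (1057, 0, 2871, 216), (1057, 1, 1378, 210), (2132, 1, 2355, 210), (802, 0, 2289, 225), (802, 1, 1392, 210), (804, 1, 3203, 228), (1545, 0, 2796, 225), (1545, 1, 2757, 228), (958, 1, 808, 228), (1279, 0, 2198, 216), (1279, 1, 1465, 225), (809, 1, 1296, 225), (2220, 0, 1517, 210), (2220, 1, 1812, 216), (1924, 1, 1275, 210), (3052, 0, 1286, 216), (3052, 1, 822, 201), (830, 1, 2658, 210), (3793, 0, 2401, 216), (3793, 1, 2522, 210), (835, 1, 3102, 201), (2294, 0, 1836, 201), (2294, 1, 2754, 228), (1584, 1, 1532, 225), (3054, 0, 3153, 198), (3054, 1, 840, 228), (988, 1, 2334,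 228), (842, 0, 2335, 198), (842, 1, 1389, 216), (843, 1, 1729, 216), (2090, 0, 2283, 198), (2090, 1, 1651, 228), (849, 1, 2549, 210), (1077, 0, 2352, 201), (1077, 1, 3053, 225), (2528, 1, 2237, 198), (3390, 0, 2441, 225), (3390, 1, 2929, 198), (2621, 1, 3639, 201), (853, 0, 1522, 198), (853, 1, 1637, 216), (3661, 1, 1493, 198), (2823, 0, 1153, 210), (2823, 1, 854, 225), (855, 1, 2008, 201), (3544, 0, 1789, 225), (3544, 1, 1347, 201), (2585, 1, 1346, 216), (2460, 0, 2483, 210), (2460, 1, 858, 228), (2741, 1, 2544, 225), (1991, 0, 3497, 210), (1991, 1, 2228, 210), (1667, 1, 3739, 201), (862, 0, 1384, 228), (862, 1, 1888, 216), (867, 1, 1327, 210), (1138, 0, 3622, 201), (1138, 1, 2836, 228), (2082, 1, 1902, 198), (2265, 0, 2905, 198), (2265, 1, 870, 216), (2940, 1, 2109, 210), (3435, 0, 2833, 216), (3435, 1, 871, 201), (3585, 1, 1507, 216), (3326, 0, 2180, 198), (3326, 1, 876, 210), (3532, 1, 879, 216), (3643, 0, 3698, 210), (3643, 1, 3626, 198), (1953, 1, 880, 201), (3094, 0, 2363, 225), (3094, 1,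 1670, 201), (1743, 1, 3288, 201), (2556, 0, 1157, 201), (2556, 1, 888, 198), (2652, 1, 889, 198), (1680, 0, 1701, 216), (1680, 1, 903, 225), (3493, 1, 891, 228), (3682, 0, 2259, 216), (3682, 1, 1366, 216), (1647, 1, 904, 228), (2841, 0, 2130, 210), (2841, 1, 1041, 228), (3404, 1, 2337, 225), (3748, 0, 906, 210), (3748, 1, 1514, 228), (2115, 1, 1257, 210), (1093, 0, 910, 225), (1093, 1, 2285, 201), (1728, 1, 2012, 225), (2674, 0, 3112, 201), (2674, 1, 911, 210), (3177, 1, 2846, 210), (3679, 0, 914, 198), (3679, 1, 1938, 201), (1035, 1, 1825, 225), (1367, 0, 1577, 225), (1367, 1, 920, 210), (2078, 1, 2122, 210), (3281, 0, 2497, 228), (3281, 1, 3204, 228), (2935, 1, 934, 201), (3494, 0, 3359, 198), (3494, 1, 3411, 216), (2831, 1, 940, 201), (1466, 0, 3398, 201), (1466, 1, 3290, 216), (1621, 1, 951, 228), (1689, 0, 3023, 228), (1689, 1, 3140, 216), (2790, 1, 1079, 198), (953, 0, 2888, 228), (953, 1, 2779, 228), (3141, 1, 1500, 210), (3393, 0, 1285, 225), (3393, 1, 2768, 201), (1671, 1, 1696, 210),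 (2795, 0, 2348, 201), (2795, 1, 2004, 210), (963, 1, 2039, 201), (1714, 0, 2293, 216), (1714, 1, 1098, 198), (2592, 1, 2851, 198), (964, 0, 2273, 225), (964, 1, 1955, 198), (2665, 1, 1096, 198), (2422, 0, 3470, 216), (2422, 1, 975, 228), (2296, 1, 2271, 225), (977, 0, 3693, 198), (977, 1, 3507, 201), (2242, 1, 3410, 216), (978, 0, 2824, 198), (978, 1, 3233, 228), (3083, 1, 989, 210), (2900, 0, 2632, 201), (2900, 1, 3602, 201), (2515, 1, 1301, 201), (3683, 0, 2573, 216), (3683, 1, 992, 198), (3724, 1, 1010, 201), (2066, 0, 1336, 210), (2066, 1, 3446, 201), (1546, 1, 1918, 210), (1011, 0, 2207, 210), (1011, 1, 2597, 216), (2693, 1, 3514, 201), (1013, 0, 2883, 228), (1013, 1, 1495, 216), (1907, 1, 2450, 228), (1872, 0, 3414, 216), (1872, 1, 2586, 225), (1337, 1, 2040, 228)]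

/-- Steps. -/
def rows17_11 : List (ℕ × ℕ × ℕ × ℕ) := [(3486, 0, 2568, 201), (3486, 1, 1020, 228), (2825, 1, 3192, 210), (3224, 0, 2104, 201), (3224, 1, 1027, 216), (2192, 1, 3014, 201), (1030, 0, 3283, 216), (1030, 1, 1895, 216), (3612, 1, 1036, 210), (2322, 0, 2204, 228), (2322, 1, 1849, 198), (2114, 1, 2516, 210), (2793, 0, 2829, 198), (2793, 1, 1038, 225), (2969, 1, 2859, 210), (1043, 0, 1508, 228), (1043, 1, 1758, 228), (2377, 1, 1312, 225), (1056, 0, 2821, 210), (1056, 1, 1338, 201), (2053, 1, 3369, 216), (2545, 0, 2349, 198), (2545, 1, 1068, 216), (1071, 0, 1643, 201), (3782, 1, 2854, 225), (1114, 0, 2663, 225), (1114, 1, 2595, 216), (1441, 1, 1082, 225), (1105, 0, 3597, 201), (1105, 1, 2118, 198), (1123, 1, 2872, 225), (1891, 0, 1139, 210), (1891, 1, 1614, 210), (2304, 1, 1086, 198), (2591, 0, 1609, 225), (2591, 1, 2511, 225), (3273, 1, 1760, 198), (1091, 0, 2973, 228), (1091, 1, 2063, 198), (1199, 0, 1097, 210), (1282, 1, 2320, 210), (2252, 0, 1106, 198), (2252, 1, 3457, 210), (2381,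 1, 1117, 198), (1631, 0, 3220, 201), (1631, 1, 1246, 198), (2123, 0, 3364, 216), (2178, 1, 2000, 210), (3767, 0, 2701, 198), (3767, 1, 1549, 216), (3709, 1, 3230, 198), (1954, 0, 1399, 198), (1954, 1, 1134, 198), (2418, 1, 1807, 201), (1140, 0, 3210, 216), (1140, 1, 3075, 210), (1142, 1, 2976, 198), (1308, 0, 2861, 216), (1308, 1, 3686, 228), (3644, 1, 1149, 228), (3081, 0, 2436, 198), (3081, 1, 3150, 210), (3271, 1, 3164, 210), (2489, 0, 1150, 201), (2489, 1, 2928, 201), (2891, 1, 1167, 216), (2141, 0, 2598, 228), (2141, 1, 1834, 198), (1187, 1, 2024, 216), (1939, 0, 1168, 198), (1939, 1, 2998, 198), (2291, 0, 1180, 198), (3034, 1, 3250, 225), (3583, 0, 1778, 210), (3583, 1, 1181, 201), (1233, 1, 3463, 228), (3078, 0, 1443, 210), (3078, 1, 3214, 210), (3167, 0, 1189, 210), (2868, 1, 1191, 228), (3101, 0, 1513, 225), (3101, 1, 3205, 225), (3190, 1, 1942, 201), (1198, 0, 3072, 225), (1198, 1, 2732, 198), (3104, 1, 3111, 225), (3616, 0, 2341, 216), (3616, 1, 2087, 201), (1207, 1, 3015, 201), (1239,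 0, 2161, 201), (1239, 1, 3649, 201), (1228, 1, 3524, 198), (2817, 0, 1209, 198), (2817, 1, 1381, 198), (2051, 0, 3607, 228), (2029, 1, 1406, 216), (1216, 0, 1683, 210), (1216, 1, 2991, 228), (3182, 1, 1224, 198), (2766, 0, 3453, 210), (2766, 1, 2131, 198), (1685, 1, 1225, 216), (2582, 0, 2690, 216), (2582, 1, 3533, 228), (1226, 1, 2901, 228), (2576, 0, 1655, 198), (2576, 1, 3436, 216), (1533, 1, 1256, 210), (1232, 0, 3691, 198), (1232, 1, 2551, 201), (1328, 1, 1819, 216), (1234, 0, 3367, 225), (1234, 1, 3029, 201), (1241, 1, 2148, 198), (1556, 0, 2380, 225), (1556, 1, 3362, 210), (2270, 1, 3142, 201), (1251, 0, 1265, 198), (1251, 1, 2670, 228), (2001, 1, 3125, 210), (2319, 0, 3118, 198), (2319, 1, 2679, 201), (3344, 1, 3677, 216), (2315, 0, 1264, 210), (2315, 1, 3440, 225), (3004, 1, 2433, 216), (1267, 0, 1529, 228), (1267, 1, 2333, 225), (2019, 1, 2638, 198), (1273, 0, 3550, 228), (1273, 1, 3155, 216), (3324, 1, 2672, 216), (1290, 0, 1610, 228), (1290, 1, 3627, 198), (3317, 1, 1297, 210), (3303,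 0, 3209, 210), (3303, 1, 1541, 198), (3121, 1, 1994, 228), (1618, 0, 2881, 228), (1618, 1, 1298, 228), (3347, 1, 1797, 228), (2152, 0, 1488, 225), (2152, 1, 1590, 201), (2640, 1, 2458, 225), (2371, 0, 2120, 228), (2371, 1, 2256, 228), (2062, 1, 1949, 201), (3773, 0, 1859, 198), (3773, 1, 2160, 225), (1543, 1, 3426, 201), (1320, 0, 1668, 225), (1320, 1, 1475, 216), (1325, 1, 2616, 225), (1339, 1, 1847, 198), (1886, 0, 2034, 216), (1886, 1, 2243, 210), (3500, 1, 3382, 228), (1395, 0, 1342, 210), (1395, 1, 2744, 216), (2552, 1, 2284, 201), (1350, 0, 2842, 210), (1350, 1, 2647, 198), (2897, 1, 2282, 228), (1644, 0, 1354, 228), (1644, 1, 2533, 228), (3567, 1, 1358, 210), (2426, 0, 2421, 225), (2426, 1, 1626, 198), (2479, 0, 2217, 198), (2181, 1, 1362, 216), (2394, 1, 3663, 228), (1364, 0, 2443, 210), (1364, 1, 1394, 198), (3604, 1, 2126, 198), (3197, 0, 2301, 216), (3197, 1, 1365, 198), (2776, 1, 1580, 225), (1383, 0, 3073, 198), (1383, 1, 2981, 201), (3466, 1, 2166, 198), (1390, 0, 3408, 198), (1390,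 1, 1554, 228), (1398, 1, 2784, 216), (2730, 0, 2866, 225), (2730, 1, 1563, 198), (1408, 0, 3685, 216), (3287, 0, 1421, 210), (3143, 1, 1434, 228), (3516, 0, 3401, 198), (3516, 1, 1428, 216), (2673, 0, 1727, 201), (2425, 1, 2749, 228), (1445, 0, 1461, 216), (1445, 1, 3660, 225), (3790, 1, 1451, 225), (3542, 0, 2067, 201), (3542, 1, 3432, 198), (2800, 1, 2513, 225), (1676, 0, 3307, 198), (1676, 1, 1453, 216), (2988, 0, 1454, 216), (2193, 1, 3319, 201), (3789, 0, 1851, 201), (3789, 1, 1509, 225), (3608, 1, 3699, 225), (3701, 0, 3728, 216), (3701, 1, 1479, 225), (1969, 1, 3595, 216), (1490, 0, 3504, 228), (1490, 1, 3695, 198), (2124, 1, 3505, 225), (3310, 0, 1484, 225), (3310, 1, 2561, 228), (2408, 1, 1486, 210), (2390, 0, 3340, 216), (2390, 1, 1583, 210), (3328, 1, 1820, 216), (2438, 0, 1487, 201), (2438, 1, 1951, 210), (1594, 1, 1492, 216), (2535, 0, 3447, 225), (2535, 1, 1557, 225), (2911, 1, 3702, 210), (1498, 0, 2491, 225), (1498, 1, 2478, 228), (2765, 1, 3311, 198), (1501, 0, 3341, 210), (1501,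 1, 1629, 225), (1504, 1, 2525, 228), (2691, 0, 1858, 198), (2691, 1, 1648, 216), (2505, 1, 2388, 228), (1673, 0, 2764, 201), (1673, 1, 2157, 225), (1792, 1, 2710, 210), (2524, 0, 1519, 210), (2524, 1, 2014, 225), (1989, 0, 1865, 228), (3534, 1, 1906, 210), (2922, 0, 2748, 228), (2922, 1, 1539, 216), (1550, 1, 1790, 225), (2454, 0, 3294, 201), (2454, 1, 3611, 216), (2887, 1, 1723, 198), (1560, 0, 2098, 210), (1560, 1, 3107, 228), (3279, 1, 1983, 225), (1570, 0, 3718, 228), (1570, 1, 1731, 198)]

/-- Steps. -/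
def rows17_12 : List (ℕ × ℕ × ℕ × ℕ) := [(1663, 1, 2864, 210), (1587, 0, 1904, 210), (1587, 1, 2704, 210), (2589, 1, 1593, 198), (3723, 0, 3338, 201), (3723, 1, 1708, 210), (2630, 1, 1603, 198), (3753, 0, 2387, 198), (3753, 1, 2400, 216), (2102, 1, 3726, 210), (2565, 0, 1623, 201), (2565, 1, 2519, 201), (2874, 1, 2046, 198), (3423, 0, 2742, 228), (3423, 1, 1650, 201), (2686, 1, 2726, 225), (1661, 0, 3483, 210), (1661, 1, 2613, 201), (2184, 1, 1662, 198), (2537, 0, 3735, 210), (2537, 1, 2858, 198), (3360, 1, 3625, 201), (1688, 0, 2775, 225), (1688, 1, 3529, 216), (1878, 0, 2472, 216), (1709, 1, 2057, 225), (2580, 0, 2005, 198), (2580, 1, 1882, 225), (1837, 1, 1866, 198), (3235, 0, 1710, 228), (3235, 1, 1961, 225), (2501, 1, 1844, 198), (2405, 0, 1713, 228), (2405, 1, 3531, 210), (2113, 1, 2043, 210), (3522, 0, 1720, 198), (3522, 1, 1794, 228), (2303, 1, 3445, 228), (2213, 0, 3066, 201), (2213, 1, 2018, 201), (3584, 1, 2406, 216), (1739, 0, 3528, 225), (1739, 1, 1735, 228), (2716, 1, 1745, 201),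 (1903, 0, 3610, 228), (1903, 1, 2016, 216), (2787, 1, 3623, 201), (3395, 0, 2042, 198), (3395, 1, 2210, 198), (3092, 1, 3777, 228), (2350, 0, 1776, 216), (2350, 1, 3099, 210), (2037, 1, 1786, 201), (3000, 0, 3613, 216), (3000, 1, 3331, 216), (3697, 0, 3241, 198), (3059, 1, 3655, 198), (2653, 0, 2453, 198), (2653, 1, 1838, 228), (1855, 1, 1986, 210), (3573, 1, 1956, 201), (3615, 0, 2773, 198), (3615, 1, 3254, 201), (3605, 0, 3236, 210), (3225, 1, 2105, 210), (2336, 0, 1922, 216), (2336, 1, 2667, 198), (3009, 1, 1932, 201), (1975, 0, 2119, 228), (3193, 1, 3749, 201), (1998, 0, 2760, 228), (1998, 1, 2344, 198), (3011, 1, 1999, 198), (3256, 0, 3455, 228), (3256, 1, 3223, 198), (2746, 1, 2033, 210), (2142, 0, 3178, 198), (2142, 1, 2047, 198), (2072, 1, 3373, 216), (3357, 0, 3156, 225), (3357, 1, 3048, 210), (3628, 1, 3715, 198), (2077, 0, 3667, 228), (2077, 1, 3713, 198), (2367, 1, 2219, 228), (2263, 0, 2968, 210), (2263, 1, 2680, 210), (2389, 1, 2767, 198), (3474, 0, 3744, 225), (3474, 1, 2164, 198),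 (2564, 1, 2299, 198), (3148, 0, 2799, 201), (3148, 1, 2215, 201), (2639, 1, 2316, 210), (3518, 1, 2972, 228), (3554, 0, 2231, 201), (3554, 1, 2857, 210), (3596, 0, 3538, 210), (2267, 0, 2427, 201), (3506, 0, 2280, 201), (3231, 1, 3593, 201), (2927, 0, 3335, 210), (2927, 1, 3582, 210), (3371, 1, 2439, 225), (3270, 0, 3650, 216), (2845, 0, 3606, 216), (3043, 0, 3689, 228), (3172, 0, 3708, 201)]

/-- Steps of vertex 17. -/
def rows17 : List (ℕ × ℕ × ℕ × ℕ) := rows17_0 ++ rows17_1 ++ rows17_2 ++ rows17_3 ++ rows17_4 ++ rows17_5 ++ rows17_6 ++ rows17_7 ++ rows17_8 ++ rows17_9 ++ rows17_10 ++ rows17_11 ++ rows17_12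

theorem sweep17 : (sweep gens17 rows17 (seedSet seeds17 0) == some (2 ^ numTrio - 1)) = true := by
  decide +kernel

theorem good17 (rows : ∀ k < numTrio, rowOk k = true) :
    ∀ k < numTrio, Good C (vlist C) (v17 C) k :=
  good_all C rows (seeds17_good C)
    (fun g hg => ⟨gens17_fix C g hg, List.all_eq_true.1 gens17_ok g hg⟩) sweep17

end CfsgLib.J4Index
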