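import Cfsg.Agent.Lib.J4Index.Live

/-!
# Orbit and directions of vertex 18 (generated)
-/

set_option autoImplicit false
set_option maxRecDepth 100000
set_option linter.style.longLine false

namespace CfsgLib.J4Index

variable {G X : Type} [Group G] [MulAction G X] (C : Ctx G X)

/-- A chain in the stabiliser of vertex 18. -/
def chain18 : List (ℕ × List (List ℕ)) := [
  (0, [[], [25, 40, 51, 81, 96, 123], [26, 43, 49, 77, 91, 110, 115]]),
  (1, [[]]),
  (2, [[]]),
  (3, [[]]),
  (4, [[]]),
  (12, [[]]),
  (5, [[]])]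

theorem chain18_ok : (chainOk [] chain18 && Nat.beq (chainSize chain18) 3) = true := by decide +kernel

theorem chain18_mem : ∀ L ∈ chain18, ∀ w ∈ L.2, C.S (v18 C) w := by
  simp only [chain18, List.forall_mem_cons, List.not_mem_nil, IsEmpty.forall_iff, implies_true, and_true]
  exact ⟨⟨f18396 C, f6836 C, f18397 C⟩,
    f18396 C,
    f18396 C,
    f18396 C,
    f18396 C,
    f18396 C,
    f18396 C⟩

theorem orbit18 : (orbSet C (v18 C)).Finite ∧ (orbSet C (v18 C)).ncard ≤ 81607680 := by
  obtain ⟨h1, h2⟩ := Bool.and_eq_true_iff.1 chain18_ok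
  obtain ⟨hf, hc⟩ := orb_bound C h1 (chain18_mem C)
  rw [Nat.eq_of_beq_eq_true h2] at hc
  exact ⟨hf, by omega⟩

theorem s18_0 : Good C (vlist C) (v18 C) 0 :=
  good_seed C (f6837 C) 0 [] (v2_mem C) (by decide +kernel) (by decide +kernel)

theorem s18_1 : Good C (vlist C) (v18 C) 2276 :=
  good_seed C (f7053 C) 2276 [136, 157, 168, 172, 177] (v18_mem C) (by decide +kernel) (by decide +kernel)

theorem s18_2 : Good C (vlist C) (v18 C) 327 :=
  good_seed C (f9214 C) 327 [127, 164, 172, 178] (v15_mem C) (by decide +kernel) (by decide +kernel)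

theorem s18_3 : Good C (vlist C) (v18 C) 3 :=
  good_seed C (f6851 C) 3 [147, 149, 167, 172, 178] (v2_mem C) (by decide +kernel) (by decide +kernel)

theorem s18_4 : Good C (vlist C) (v18 C) 16 :=
  good_seed C (f7102 C) 16 [140, 153, 175, 177] (v18_mem C) (by decide +kernel) (by decide +kernel)

theorem s18_5 : Good C (vlist C) (v18 C) 5 :=
  good_seed C (f13519 C) 5 [135, 162, 177] (v10_mem C) (by decide +kernel) (by decide +kernel)

theorem s18_6 : Good C (vlist C) (v18 C) 696 :=
  good_seed C (f12266 C) 696 [131, 149, 177] (v18_mem C) (by decide +kernel) (by decide +kernel)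

theorem s18_7 : Good C (vlist C) (v18 C) 1920 :=
  good_seed C (f15625 C) 1920 [130, 162, 165, 172, 178] (v19_mem C) (by decide +kernel) (by decide +kernel)

theorem s18_8 : Good C (vlist C) (v18 C) 2660 :=
  good_seed C (f8076 C) 2660 [126, 152, 164, 174] (v17_mem C) (by decide +kernel) (by decide +kernel)

theorem s18_9 : Good C (vlist C) (v18 C) 9 :=
  good_seed C (f9481 C) 9 [144, 156, 165, 171, 177] (v18_mem C) (by decide +kernel) (by decide +kernel)

theorem s18_10 : Good C (vlist C) (v18 C) 10 :=
  good_seed C (f9592 C) 10 [126, 162, 169, 174] (v18_mem C) (by decide +kernel) (by decide +kernel)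

theorem s18_11 : Good C (vlist C) (v18 C) 526 :=
  good_seed C (f9591 C) 526 [145, 157, 165, 174, 177] (v18_mem C) (by decide +kernel) (by decide +kernel)

theorem s18_12 : Good C (vlist C) (v18 C) 2655 :=
  good_seed C (f12373 C) 2655 [128, 158, 166, 175, 177] (v18_mem C) (by decide +kernel) (by decide +kernel)

theorem s18_13 : Good C (vlist C) (v18 C) 14 :=
  good_seed C (f8579 C) 14 [128, 152, 169, 173, 177] (v18_mem C) (by decide +kernel) (by decide +kernel)

theorem s18_14 : Good C (vlist C) (v18 C) 962 :=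
  good_seed C (f7042 C) 962 [144, 156, 170, 171, 177] (v18_mem C) (by decide +kernel) (by decide +kernel)

theorem s18_15 : Good C (vlist C) (v18 C) 17 :=
  good_seed C (f14431 C) 17 [142, 149, 165, 175, 177] (v10_mem C) (by decide +kernel) (by decide +kernel)

theorem s18_16 : Good C (vlist C) (v18 C) 307 :=
  good_seed C (f10322 C) 307 [151, 168, 174, 178] (v18_mem C) (by decide +kernel) (by decide +kernel)

theorem s18_17 : Good C (vlist C) (v18 C) 2961 :=
  good_seed C (f14113 C) 2961 [135, 163, 169, 171] (v18_mem C) (by decide +kernel) (by decide +kernel)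

theorem s18_18 : Good C (vlist C) (v18 C) 1208 :=
  good_seed C (f6947 C) 1208 [142, 159, 164, 172, 178] (v5_mem C) (by decide +kernel) (by decide +kernel)

theorem s18_19 : Good C (vlist C) (v18 C) 3185 :=
  good_seed C (f7263 C) 3185 [140, 157, 169, 174, 177] (v18_mem C) (by decide +kernel) (by decide +kernel)

theorem s18_20 : Good C (vlist C) (v18 C) 22 :=
  good_seed C (f11129 C) 22 [131, 159, 176, 177] (v18_mem C) (by decide +kernel) (by decide +kernel)

theorem s18_21 : Good C (vlist C) (v18 C) 23 :=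
  good_seed C (f9737 C) 23 [144, 149, 170, 172] (v18_mem C) (by decide +kernel) (by decide +kernel)

theorem s18_22 : Good C (vlist C) (v18 C) 3555 :=
  good_seed C (f7217 C) 3555 [136, 155, 167, 175, 177] (v17_mem C) (by decide +kernel) (by decide +kernel)

theorem s18_23 : Good C (vlist C) (v18 C) 2290 :=
  good_seed C (f9475 C) 2290 [137, 151, 170, 172, 177] (v18_mem C) (by decide +kernel) (by decide +kernel)

theorem s18_24 : Good C (vlist C) (v18 C) 956 :=
  good_seed C (f11668 C) 956 [131, 159, 176, 178] (v17_mem C) (by decide +kernel) (by decide +kernel)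

theorem s18_25 : Good C (vlist C) (v18 C) 1814 :=
  good_seed C (f11907 C) 1814 [136, 150, 170, 177] (v15_mem C) (by decide +kernel) (by decide +kernel)

theorem s18_26 : Good C (vlist C) (v18 C) 772 :=
  good_seed C (f9527 C) 772 [134, 152, 164, 175] (v18_mem C) (by decide +kernel) (by decide +kernel)

theorem s18_27 : Good C (vlist C) (v18 C) 508 :=
  good_seed C (f9903 C) 508 [147, 160, 169, 171, 178] (v18_mem C) (by decide +kernel) (by decide +kernel)

theorem s18_28 : Good C (vlist C) (v18 C) 2334 :=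
  good_seed C (f8873 C) 2334 [152, 175] (v17_mem C) (by decide +kernel) (by decide +kernel)

theorem s18_29 : Good C (vlist C) (v18 C) 3091 :=
  good_seed C (f11388 C) 3091 [126, 149, 164, 176] (v18_mem C) (by decide +kernel) (by decide +kernel)

theorem s18_30 : Good C (vlist C) (v18 C) 1764 :=
  good_seed C (f9287 C) 1764 [139, 152, 165, 176, 177] (v17_mem C) (by decide +kernel) (by decide +kernel)

theorem s18_31 : Good C (vlist C) (v18 C) 1400 :=
  good_seed C (f10169 C) 1400 [138, 160, 168, 172] (v18_mem C) (by decide +kernel) (by decide +kernel)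

theorem s18_32 : Good C (vlist C) (v18 C) 34 :=
  good_seed C (f14861 C) 34 [136, 150, 168, 176, 177] (v18_mem C) (by decide +kernel) (by decide +kernel)

theorem s18_33 : Good C (vlist C) (v18 C) 1113 :=
  good_seed C (f14201 C) 1113 [134, 160, 167] (v18_mem C) (by decide +kernel) (by decide +kernel)

theorem s18_34 : Good C (vlist C) (v18 C) 36 :=
  good_seed C (f6925 C) 36 [127, 163, 173, 177] (v4_mem C) (by decide +kernel) (by decide +kernel)

theorem s18_35 : Good C (vlist C) (v18 C) 245 :=
  good_seed C (f13390 C) 245 [142, 150, 167] (v18_mem C) (by decide +kernel) (by decide +kernel)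

theorem s18_36 : Good C (vlist C) (v18 C) 38 :=
  good_seed C (f16558 C) 38 [141, 163, 168] (v19_mem C) (by decide +kernel) (by decide +kernel)

theorem s18_37 : Good C (vlist C) (v18 C) 735 :=
  good_seed C (f11786 C) 735 [142, 154, 168, 175, 177] (v18_mem C) (by decide +kernel) (by decide +kernel)

theorem s18_38 : Good C (vlist C) (v18 C) 40 :=
  good_seed C (f10918 C) 40 [140, 151, 168, 172] (v18_mem C) (by decide +kernel) (by decide +kernel)

theorem s18_39 : Good C (vlist C) (v18 C) 3358 :=
  good_seed C (f11098 C) 3358 [147, 155, 168, 178] (v17_mem C) (by decide +kernel) (by decide +kernel)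

theorem s18_40 : Good C (vlist C) (v18 C) 2407 :=
  good_seed C (f16398 C) 2407 [145, 151, 165, 174, 178] (v19_mem C) (by decide +kernel) (by decide +kernel)

theorem s18_41 : Good C (vlist C) (v18 C) 43 :=
  good_seed C (f11496 C) 43 [147, 153, 175, 178] (v10_mem C) (by decide +kernel) (by decide +kernel)

theorem s18_42 : Good C (vlist C) (v18 C) 44 :=
  good_seed C (f13979 C) 44 [133, 154, 169, 175] (v18_mem C) (by decide +kernel) (by decide +kernel)

theorem s18_43 : Good C (vlist C) (v18 C) 45 :=
  good_seed C (f11882 C) 45 [127, 159, 164, 173] (v18_mem C) (by decide +kernel) (by decide +kernel)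

theorem s18_44 : Good C (vlist C) (v18 C) 46 :=
  good_seed C (f7978 C) 46 [142, 152, 166, 171] (v18_mem C) (by decide +kernel) (by decide +kernel)

theorem s18_45 : Good C (vlist C) (v18 C) 1640 :=
  good_seed C (f14610 C) 1640 [129, 158] (v18_mem C) (by decide +kernel) (by decide +kernel)

theorem s18_46 : Good C (vlist C) (v18 C) 48 :=
  good_seed C (f14399 C) 48 [148, 154, 164, 175] (v17_mem C) (by decide +kernel) (by decide +kernel)

theorem s18_47 : Good C (vlist C) (v18 C) 2112 :=
  good_seed C (f11677 C) 2112 [131, 159, 168, 173, 178] (v18_mem C) (by decide +kernel) (by decide +kernel)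

theorem s18_48 : Good C (vlist C) (v18 C) 474 :=
  good_seed C (f12770 C) 474 [127, 149, 164, 176] (v18_mem C) (by decide +kernel) (by decide +kernel)

theorem s18_49 : Good C (vlist C) (v18 C) 51 :=
  good_seed C (f11530 C) 51 [131, 152, 168, 178] (v18_mem C) (by decide +kernel) (by decide +kernel)

theorem s18_50 : Good C (vlist C) (v18 C) 52 :=
  good_seed C (f12817 C) 52 [142, 160, 170, 176] (v18_mem C) (by decide +kernel) (by decide +kernel)

theorem s18_51 : Good C (vlist C) (v18 C) 993 :=
  good_seed C (f7081 C) 993 [144, 160, 166, 176] (v15_mem C) (by decide +kernel) (by decide +kernel)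

theorem s18_52 : Good C (vlist C) (v18 C) 54 :=
  good_seed C (f16359 C) 54 [143, 166, 171] (v19_mem C) (by decide +kernel) (by decide +kernel)

theorem s18_53 : Good C (vlist C) (v18 C) 55 :=
  good_seed C (f7447 C) 55 [146, 168, 171, 177] (v4_mem C) (by decide +kernel) (by decide +kernel)

theorem s18_54 : Good C (vlist C) (v18 C) 56 :=
  good_seed C (f6889 C) 56 [138, 157, 175, 178] (v3_mem C) (by decide +kernel) (by decide +kernel)

theorem s18_55 : Good C (vlist C) (v18 C) 2239 :=
  good_seed C (f8892 C) 2239 [137, 165, 176] (v17_mem C) (by decide +kernel) (by decide +kernel)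

theorem s18_56 : Good C (vlist C) (v18 C) 58 :=
  good_seed C (f15267 C) 58 [137, 157, 166, 176, 177] (v17_mem C) (by decide +kernel) (by decide +kernel)

theorem s18_57 : Good C (vlist C) (v18 C) 156 :=
  good_seed C (f9019 C) 156 [148, 160, 169, 175, 177] (v18_mem C) (by decide +kernel) (by decide +kernel)

theorem s18_58 : Good C (vlist C) (v18 C) 1939 :=
  good_seed C (f8286 C) 1939 [138, 154, 170, 173] (v18_mem C) (by decide +kernel) (by decide +kernel)

theorem s18_59 : Good C (vlist C) (v18 C) 3190 :=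
  good_seed C (f10700 C) 3190 [148, 159, 166, 173] (v15_mem C) (by decide +kernel) (by decide +kernel)

theorem s18_60 : Good C (vlist C) (v18 C) 3584 :=
  good_seed C (f12231 C) 3584 [144, 153, 164, 174] (v17_mem C) (by decide +kernel) (by decide +kernel)

theorem s18_61 : Good C (vlist C) (v18 C) 1127 :=
  good_seed C (f9839 C) 1127 [142, 161, 165, 171] (v18_mem C) (by decide +kernel) (by decide +kernel)

theorem s18_62 : Good C (vlist C) (v18 C) 2400 :=
  good_seed C (f14173 C) 2400 [127, 156, 165, 175, 178] (v18_mem C) (by decide +kernel) (by decide +kernel)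

theorem s18_63 : Good C (vlist C) (v18 C) 2598 :=
  good_seed C (f13888 C) 2598 [139, 161, 169, 175, 178] (v18_mem C) (by decide +kernel) (by decide +kernel)

theorem s18_64 : Good C (vlist C) (v18 C) 66 :=
  good_seed C (f8256 C) 66 [145, 157, 165, 178] (v15_mem C) (by decide +kernel) (by decide +kernel)

theorem s18_65 : Good C (vlist C) (v18 C) 67 :=
  good_seed C (f8611 C) 67 [127, 150, 174, 178] (v15_mem C) (by decide +kernel) (by decide +kernel)

theorem s18_66 : Good C (vlist C) (v18 C) 2261 :=
  good_seed C (f9168 C) 2261 [131, 151, 170, 176, 178] (v18_mem C) (by decide +kernel) (by decide +kernel)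

theorem s18_67 : Good C (vlist C) (v18 C) 1121 :=
  good_seed C (f8546 C) 1121 [145, 159, 169, 172, 178] (v4_mem C) (by decide +kernel) (by decide +kernel)

theorem s18_68 : Good C (vlist C) (v18 C) 70 :=
  good_seed C (f7424 C) 70 [147, 150, 164, 173] (v4_mem C) (by decide +kernel) (by decide +kernel)

theorem s18_69 : Good C (vlist C) (v18 C) 72 :=
  good_seed C (f13493 C) 72 [126, 155, 170, 175] (v6_mem C) (by decide +kernel) (by decide +kernel)

theorem s18_70 : Good C (vlist C) (v18 C) 2428 :=
  good_seed C (f8408 C) 2428 [129, 156, 169, 175, 178] (v18_mem C) (by decide +kernel) (by decide +kernel)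

theorem s18_71 : Good C (vlist C) (v18 C) 728 :=
  good_seed C (f8209 C) 728 [147, 153, 167, 171] (v18_mem C) (by decide +kernel) (by decide +kernel)

theorem s18_72 : Good C (vlist C) (v18 C) 3246 :=
  good_seed C (f12809 C) 3246 [139, 158, 169, 174, 178] (v18_mem C) (by decide +kernel) (by decide +kernel)

theorem s18_73 : Good C (vlist C) (v18 C) 1131 :=
  good_seed C (f8145 C) 1131 [129, 152, 169] (v18_mem C) (by decide +kernel) (by decide +kernel)

theorem s18_74 : Good C (vlist C) (v18 C) 3554 :=
  good_seed C (f12555 C) 3554 [145, 161, 164, 172] (v17_mem C) (by decide +kernel) (by decide +kernel)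

theorem s18_75 : Good C (vlist C) (v18 C) 1641 :=
  good_seed C (f9810 C) 1641 [134, 153, 165, 175, 177] (v18_mem C) (by decide +kernel) (by decide +kernel)

theorem s18_76 : Good C (vlist C) (v18 C) 3698 :=
  good_seed C (f10105 C) 3698 [144, 163, 170, 174, 178] (v15_mem C) (by decide +kernel) (by decide +kernel)

theorem s18_77 : Good C (vlist C) (v18 C) 581 :=
  good_seed C (f7558 C) 581 [130, 167, 174, 177] (v15_mem C) (by decide +kernel) (by decide +kernel)

theorem s18_78 : Good C (vlist C) (v18 C) 3369 :=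
  good_seed C (f12721 C) 3369 [146, 157, 168, 173, 177] (v17_mem C) (by decide +kernel) (by decide +kernel)

theorem s18_79 : Good C (vlist C) (v18 C) 943 :=
  good_seed C (f13561 C) 943 [129, 154, 167, 173] (v15_mem C) (by decide +kernel) (by decide +kernel)

theorem s18_80 : Good C (vlist C) (v18 C) 83 :=
  good_seed C (f9723 C) 83 [127, 151, 167, 173, 177] (v18_mem C) (by decide +kernel) (by decide +kernel)

theorem s18_81 : Good C (vlist C) (v18 C) 420 :=
  good_seed C (f7227 C) 420 [138, 150, 169, 174] (v18_mem C) (by decide +kernel) (by decide +kernel)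

theorem s18_82 : Good C (vlist C) (v18 C) 2842 :=
  good_seed C (f15965 C) 2842 [142, 154, 164, 171, 177] (v19_mem C) (by decide +kernel) (by decide +kernel)

theorem s18_83 : Good C (vlist C) (v18 C) 86 :=
  good_seed C (f13806 C) 86 [127, 149, 166, 173] (v17_mem C) (by decide +kernel) (by decide +kernel)

theorem s18_84 : Good C (vlist C) (v18 C) 1206 :=
  good_seed C (f11922 C) 1206 [141, 151, 167, 175] (v18_mem C) (by decide +kernel) (by decide +kernel)

theorem s18_85 : Good C (vlist C) (v18 C) 2287 :=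
  good_seed C (f12363 C) 2287 [128, 153, 164, 172] (v15_mem C) (by decide +kernel) (by decide +kernel)

theorem s18_86 : Good C (vlist C) (v18 C) 2446 :=
  good_seed C (f12883 C) 2446 [128, 149, 167, 173] (v18_mem C) (by decide +kernel) (by decide +kernel)

theorem s18_87 : Good C (vlist C) (v18 C) 90 :=
  good_seed C (f7059 C) 90 [139, 162, 165, 172, 177] (v15_mem C) (by decide +kernel) (by decide +kernel)

theorem s18_88 : Good C (vlist C) (v18 C) 1463 :=
  good_seed C (f12744 C) 1463 [126, 160, 166, 173, 178] (v18_mem C) (by decide +kernel) (by decide +kernel)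

theorem s18_89 : Good C (vlist C) (v18 C) 92 :=
  good_seed C (f8308 C) 92 [136, 152, 170, 175] (v16_mem C) (by decide +kernel) (by decide +kernel)

theorem s18_90 : Good C (vlist C) (v18 C) 158 :=
  good_seed C (f12150 C) 158 [131, 150, 165, 176, 177] (v18_mem C) (by decide +kernel) (by decide +kernel)

theorem s18_91 : Good C (vlist C) (v18 C) 97 :=
  good_seed C (f7544 C) 97 [127, 154, 175, 177] (v18_mem C) (by decide +kernel) (by decide +kernel)

theorem s18_92 : Good C (vlist C) (v18 C) 95 :=
  good_seed C (f13131 C) 95 [129, 151, 168, 172, 178] (v17_mem C) (by decide +kernel) (by decide +kernel)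

theorem s18_93 : Good C (vlist C) (v18 C) 96 :=
  good_seed C (f11014 C) 96 [130, 149, 164, 173, 177] (v18_mem C) (by decide +kernel) (by decide +kernel)

theorem s18_94 : Good C (vlist C) (v18 C) 98 :=
  good_seed C (f12607 C) 98 [143, 160, 170, 177] (v18_mem C) (by decide +kernel) (by decide +kernel)

theorem s18_95 : Good C (vlist C) (v18 C) 99 :=
  good_seed C (f11803 C) 99 [140, 162, 170, 176, 177] (v10_mem C) (by decide +kernel) (by decide +kernel)

theorem s18_96 : Good C (vlist C) (v18 C) 1239 :=
  good_seed C (f13654 C) 1239 [133, 162, 165, 175, 177] (v16_mem C) (by decide +kernel) (by decide +kernel)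

theorem s18_97 : Good C (vlist C) (v18 C) 1198 :=
  good_seed C (f15129 C) 1198 [127, 149, 164, 176, 178] (v18_mem C) (by decide +kernel) (by decide +kernel)

theorem s18_98 : Good C (vlist C) (v18 C) 102 :=
  good_seed C (f11408 C) 102 [140, 161, 165, 172] (v18_mem C) (by decide +kernel) (by decide +kernel)

theorem s18_99 : Good C (vlist C) (v18 C) 103 :=
  good_seed C (f11881 C) 103 [144, 156, 166, 175, 178] (v18_mem C) (by decide +kernel) (by decide +kernel)

theorem s18_100 : Good C (vlist C) (v18 C) 1937 :=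
  good_seed C (f11465 C) 1937 [139, 149, 169, 176, 177] (v17_mem C) (by decide +kernel) (by decide +kernel)

theorem s18_101 : Good C (vlist C) (v18 C) 105 :=
  good_seed C (f15867 C) 105 [127, 150, 169, 175, 177] (v19_mem C) (by decide +kernel) (by decide +kernel)

theorem s18_102 : Good C (vlist C) (v18 C) 2947 :=
  good_seed C (f6986 C) 2947 [143, 163, 169, 171, 178] (v17_mem C) (by decide +kernel) (by decide +kernel)

theorem s18_103 : Good C (vlist C) (v18 C) 333 :=
  good_seed C (f7129 C) 333 [142, 153, 168, 173, 177] (v15_mem C) (by decide +kernel) (by decide +kernel)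

theorem s18_104 : Good C (vlist C) (v18 C) 1371 :=
  good_seed C (f17287 C) 1371 [128, 158, 175, 178] (v19_mem C) (by decide +kernel) (by decide +kernel)

theorem s18_105 : Good C (vlist C) (v18 C) 1874 :=
  good_seed C (f11560 C) 1874 [131, 162, 164, 171] (v18_mem C) (by decide +kernel) (by decide +kernel)

theorem s18_106 : Good C (vlist C) (v18 C) 1053 :=
  good_seed C (f14927 C) 1053 [127, 159, 170, 173, 177] (v18_mem C) (by decide +kernel) (by decide +kernel)

theorem s18_107 : Good C (vlist C) (v18 C) 1288 :=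
  good_seed C (f9080 C) 1288 [130, 162, 164, 171] (v18_mem C) (by decide +kernel) (by decide +kernel)

theorem s18_108 : Good C (vlist C) (v18 C) 889 :=
  good_seed C (f7372 C) 889 [133, 153, 169] (v17_mem C) (by decide +kernel) (by decide +kernel)

theorem s18_109 : Good C (vlist C) (v18 C) 559 :=
  good_seed C (f8568 C) 559 [147, 159, 170, 176, 177] (v15_mem C) (by decide +kernel) (by decide +kernel)

theorem s18_110 : Good C (vlist C) (v18 C) 250 :=
  good_seed C (f7192 C) 250 [132, 155, 168, 177] (v18_mem C) (by decide +kernel) (by decide +kernel)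

theorem s18_111 : Good C (vlist C) (v18 C) 2299 :=
  good_seed C (f12177 C) 2299 [136, 153, 169, 171, 178] (v17_mem C) (by decide +kernel) (by decide +kernel)

theorem s18_112 : Good C (vlist C) (v18 C) 3477 :=
  good_seed C (f15941 C) 3477 [136, 155, 172] (v19_mem C) (by decide +kernel) (by decide +kernel)

theorem s18_113 : Good C (vlist C) (v18 C) 2596 :=
  good_seed C (f11576 C) 2596 [148, 167, 173] (v18_mem C) (by decide +kernel) (by decide +kernel)

theorem s18_114 : Good C (vlist C) (v18 C) 2853 :=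
  good_seed C (f11211 C) 2853 [139, 162, 168, 173, 178] (v18_mem C) (by decide +kernel) (by decide +kernel)

theorem s18_115 : Good C (vlist C) (v18 C) 119 :=
  good_seed C (f11342 C) 119 [134, 162, 171, 178] (v18_mem C) (by decide +kernel) (by decide +kernel)

theorem s18_116 : Good C (vlist C) (v18 C) 3254 :=
  good_seed C (f12686 C) 3254 [134, 163, 174, 178] (v18_mem C) (by decide +kernel) (by decide +kernel)

theorem s18_117 : Good C (vlist C) (v18 C) 920 :=
  good_seed C (f14128 C) 920 [138, 163, 170, 172, 177] (v18_mem C) (by decide +kernel) (by decide +kernel)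

theorem s18_118 : Good C (vlist C) (v18 C) 737 :=
  good_seed C (f13896 C) 737 [137, 157, 164, 176, 178] (v18_mem C) (by decide +kernel) (by decide +kernel)

theorem s18_119 : Good C (vlist C) (v18 C) 123 :=
  good_seed C (f9495 C) 123 [138, 160, 176, 177] (v18_mem C) (by decide +kernel) (by decide +kernel)

theorem s18_120 : Good C (vlist C) (v18 C) 1290 :=
  good_seed C (f9795 C) 1290 [136, 163, 170, 174, 177] (v18_mem C) (by decide +kernel) (by decide +kernel)

theorem s18_121 : Good C (vlist C) (v18 C) 1956 :=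
  good_seed C (f7950 C) 1956 [145, 158, 167, 175, 178] (v18_mem C) (by decide +kernel) (by decide +kernel)

theorem s18_122 : Good C (vlist C) (v18 C) 152 :=
  good_seed C (f11923 C) 152 [131, 159, 165, 174, 177] (v18_mem C) (by decide +kernel) (by decide +kernel)

theorem s18_123 : Good C (vlist C) (v18 C) 3553 :=
  good_seed C (f12296 C) 3553 [130, 163, 170, 177] (v15_mem C) (by decide +kernel) (by decide +kernel)

theorem s18_124 : Good C (vlist C) (v18 C) 558 :=
  good_seed C (f13865 C) 558 [134, 152, 166, 177] (v18_mem C) (by decide +kernel) (by decide +kernel)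

theorem s18_125 : Good C (vlist C) (v18 C) 2029 :=
  good_seed C (f10340 C) 2029 [136, 153, 168, 172, 178] (v18_mem C) (by decide +kernel) (by decide +kernel)

theorem s18_126 : Good C (vlist C) (v18 C) 130 :=
  good_seed C (f8175 C) 130 [135, 149, 165, 171] (v17_mem C) (by decide +kernel) (by decide +kernel)

theorem s18_127 : Good C (vlist C) (v18 C) 131 :=
  good_seed C (f7466 C) 131 [142, 156, 164, 176] (v16_mem C) (by decide +kernel) (by decide +kernel)

theorem s18_128 : Good C (vlist C) (v18 C) 1364 :=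
  good_seed C (f15899 C) 1364 [144, 149, 167, 174, 178] (v19_mem C) (by decide +kernel) (by decide +kernel)

theorem s18_129 : Good C (vlist C) (v18 C) 133 :=
  good_seed C (f12694 C) 133 [130, 158, 169, 171] (v17_mem C) (by decide +kernel) (by decide +kernel)

theorem s18_130 : Good C (vlist C) (v18 C) 134 :=
  good_seed C (f7025 C) 134 [134, 158, 169, 171, 178] (v18_mem C) (by decide +kernel) (by decide +kernel)

theorem s18_131 : Good C (vlist C) (v18 C) 1765 :=
  good_seed C (f7292 C) 1765 [127, 163, 168, 177] (v18_mem C) (by decide +kernel) (by decide +kernel)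

theorem s18_132 : Good C (vlist C) (v18 C) 302 :=
  good_seed C (f9603 C) 302 [139, 162, 164, 174, 178] (v18_mem C) (by decide +kernel) (by decide +kernel)

theorem s18_133 : Good C (vlist C) (v18 C) 137 :=
  good_seed C (f9786 C) 137 [147, 160, 167, 176, 178] (v18_mem C) (by decide +kernel) (by decide +kernel)

theorem s18_134 : Good C (vlist C) (v18 C) 262 :=
  good_seed C (f9453 C) 262 [141, 163, 178] (v17_mem C) (by decide +kernel) (by decide +kernel)

theorem s18_135 : Good C (vlist C) (v18 C) 2161 :=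
  good_seed C (f12597 C) 2161 [131, 150, 167, 177] (v17_mem C) (by decide +kernel) (by decide +kernel)

theorem s18_136 : Good C (vlist C) (v18 C) 3129 :=
  good_seed C (f13026 C) 3129 [138, 160, 166, 176, 177] (v18_mem C) (by decide +kernel) (by decide +kernel)

theorem s18_137 : Good C (vlist C) (v18 C) 281 :=
  good_seed C (f9487 C) 281 [128, 161, 167, 173, 178] (v18_mem C) (by decide +kernel) (by decide +kernel)

theorem s18_138 : Good C (vlist C) (v18 C) 2175 :=
  good_seed C (f16722 C) 2175 [132, 151, 171, 178] (v19_mem C) (by decide +kernel) (by decide +kernel)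

theorem s18_139 : Good C (vlist C) (v18 C) 694 :=
  good_seed C (f12390 C) 694 [132, 152, 164, 173] (v18_mem C) (by decide +kernel) (by decide +kernel)

theorem s18_140 : Good C (vlist C) (v18 C) 2520 :=
  good_seed C (f13264 C) 2520 [126, 150, 165, 173] (v18_mem C) (by decide +kernel) (by decide +kernel)

theorem s18_141 : Good C (vlist C) (v18 C) 145 :=
  good_seed C (f7103 C) 145 [137, 156, 166, 178] (v18_mem C) (by decide +kernel) (by decide +kernel)

theorem s18_142 : Good C (vlist C) (v18 C) 1365 :=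
  good_seed C (f11107 C) 1365 [145, 165, 178] (v17_mem C) (by decide +kernel) (by decide +kernel)

theorem s18_143 : Good C (vlist C) (v18 C) 2419 :=
  good_seed C (f7753 C) 2419 [137, 163, 169, 176, 178] (v18_mem C) (by decide +kernel) (by decide +kernel)

theorem s18_144 : Good C (vlist C) (v18 C) 1218 :=
  good_seed C (f10035 C) 1218 [133, 157, 168, 171] (v18_mem C) (by decide +kernel) (by decide +kernel)

theorem s18_145 : Good C (vlist C) (v18 C) 1664 :=
  good_seed C (f8011 C) 1664 [131, 162, 169, 174, 178] (v18_mem C) (by decide +kernel) (by decide +kernel)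

theorem s18_146 : Good C (vlist C) (v18 C) 2884 :=
  good_seed C (f14628 C) 2884 [137, 158, 170, 175] (v17_mem C) (by decide +kernel) (by decide +kernel)

theorem s18_147 : Good C (vlist C) (v18 C) 362 :=
  good_seed C (f10006 C) 362 [156, 167, 174, 177] (v18_mem C) (by decide +kernel) (by decide +kernel)

theorem s18_148 : Good C (vlist C) (v18 C) 2078 :=
  good_seed C (f14872 C) 2078 [135, 153, 168, 177] (v15_mem C) (by decide +kernel) (by decide +kernel)

theorem s18_149 : Good C (vlist C) (v18 C) 154 :=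
  good_seed C (f14780 C) 154 [148, 155, 175, 177] (v10_mem C) (by decide +kernel) (by decide +kernel)

theorem s18_150 : Good C (vlist C) (v18 C) 157 :=
  good_seed C (f8816 C) 157 [143, 161, 170, 172, 177] (v15_mem C) (by decide +kernel) (by decide +kernel)

theorem s18_151 : Good C (vlist C) (v18 C) 1763 :=
  good_seed C (f13152 C) 1763 [131, 149, 164, 175] (v18_mem C) (by decide +kernel) (by decide +kernel)

theorem s18_152 : Good C (vlist C) (v18 C) 160 :=
  good_seed C (f9694 C) 160 [140, 153, 169, 176, 177] (v18_mem C) (by decide +kernel) (by decide +kernel)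

theorem s18_153 : Good C (vlist C) (v18 C) 2283 :=
  good_seed C (f8508 C) 2283 [144, 149, 167, 171] (v6_mem C) (by decide +kernel) (by decide +kernel)

theorem s18_154 : Good C (vlist C) (v18 C) 3009 :=
  good_seed C (f11522 C) 3009 [128, 160, 173, 178] (v16_mem C) (by decide +kernel) (by decide +kernel)

theorem s18_155 : Good C (vlist C) (v18 C) 2494 :=
  good_seed C (f13284 C) 2494 [133, 154, 175, 177] (v18_mem C) (by decide +kernel) (by decide +kernel)

theorem s18_156 : Good C (vlist C) (v18 C) 3653 :=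
  good_seed C (f14349 C) 3653 [142, 161, 168, 173, 177] (v9_mem C) (by decide +kernel) (by decide +kernel)

theorem s18_157 : Good C (vlist C) (v18 C) 3092 :=
  good_seed C (f11449 C) 3092 [132, 159, 168, 173, 178] (v18_mem C) (by decide +kernel) (by decide +kernel)

theorem s18_158 : Good C (vlist C) (v18 C) 2791 :=
  good_seed C (f9751 C) 2791 [135, 149, 168, 174, 177] (v18_mem C) (by decide +kernel) (by decide +kernel)

theorem s18_159 : Good C (vlist C) (v18 C) 167 :=
  good_seed C (f11862 C) 167 [144, 155, 166, 172, 178] (v18_mem C) (by decide +kernel) (by decide +kernel)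

theorem s18_160 : Good C (vlist C) (v18 C) 3407 :=
  good_seed C (f10055 C) 3407 [131, 156, 170, 172] (v18_mem C) (by decide +kernel) (by decide +kernel)

theorem s18_161 : Good C (vlist C) (v18 C) 3195 :=
  good_seed C (f16177 C) 3195 [132, 155, 167, 176, 177] (v19_mem C) (by decide +kernel) (by decide +kernel)

theorem s18_162 : Good C (vlist C) (v18 C) 895 :=
  good_seed C (f7606 C) 895 [139, 169, 173, 178] (v4_mem C) (by decide +kernel) (by decide +kernel)

theorem s18_163 : Good C (vlist C) (v18 C) 392 :=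
  good_seed C (f16465 C) 392 [129, 160, 167, 171, 178] (v19_mem C) (by decide +kernel) (by decide +kernel)

theorem s18_164 : Good C (vlist C) (v18 C) 172 :=
  good_seed C (f8925 C) 172 [128, 154, 175, 177] (v18_mem C) (by decide +kernel) (by decide +kernel)

theorem s18_165 : Good C (vlist C) (v18 C) 173 :=
  good_seed C (f13139 C) 173 [138, 150, 166, 173] (v15_mem C) (by decide +kernel) (by decide +kernel)

theorem s18_166 : Good C (vlist C) (v18 C) 174 :=
  good_seed C (f6917 C) 174 [133, 156, 169] (v3_mem C) (by decide +kernel) (by decide +kernel)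

theorem s18_167 : Good C (vlist C) (v18 C) 2625 :=
  good_seed C (f7943 C) 2625 [158, 176, 178] (v15_mem C) (by decide +kernel) (by decide +kernel)

theorem s18_168 : Good C (vlist C) (v18 C) 3140 :=
  good_seed C (f14096 C) 3140 [148, 154, 165, 177] (v18_mem C) (by decide +kernel) (by decide +kernel)

theorem s18_169 : Good C (vlist C) (v18 C) 1996 :=
  good_seed C (f13907 C) 1996 [145, 163, 168, 176] (v18_mem C) (by decide +kernel) (by decide +kernel)

theorem s18_170 : Good C (vlist C) (v18 C) 501 :=
  good_seed C (f14700 C) 501 [142, 151, 170, 176] (v17_mem C) (by decide +kernel) (by decide +kernel)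

theorem s18_171 : Good C (vlist C) (v18 C) 2429 :=
  good_seed C (f8380 C) 2429 [139, 149, 171] (v5_mem C) (by decide +kernel) (by decide +kernel)

theorem s18_172 : Good C (vlist C) (v18 C) 3730 :=
  good_seed C (f10738 C) 3730 [131, 161, 170, 171] (v15_mem C) (by decide +kernel) (by decide +kernel)

theorem s18_173 : Good C (vlist C) (v18 C) 2751 :=
  good_seed C (f10935 C) 2751 [143, 158, 174] (v18_mem C) (by decide +kernel) (by decide +kernel)

theorem s18_174 : Good C (vlist C) (v18 C) 1958 :=
  good_seed C (f9765 C) 1958 [138, 160, 168, 173, 178] (v17_mem C) (by decide +kernel) (by decide +kernel)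

theorem s18_175 : Good C (vlist C) (v18 C) 1474 :=
  good_seed C (f8035 C) 1474 [130, 154, 174, 178] (v18_mem C) (by decide +kernel) (by decide +kernel)

theorem s18_176 : Good C (vlist C) (v18 C) 184 :=
  good_seed C (f11222 C) 184 [144, 159, 168, 171, 177] (v17_mem C) (by decide +kernel) (by decide +kernel)

theorem s18_177 : Good C (vlist C) (v18 C) 185 :=
  good_seed C (f13902 C) 185 [133, 159, 167, 174, 177] (v18_mem C) (by decide +kernel) (by decide +kernel)

theorem s18_178 : Good C (vlist C) (v18 C) 186 :=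
  good_seed C (f8036 C) 186 [147, 152, 170, 173, 177] (v18_mem C) (by decide +kernel) (by decide +kernel)

theorem s18_179 : Good C (vlist C) (v18 C) 187 :=
  good_seed C (f11308 C) 187 [145, 155, 169, 171, 178] (v15_mem C) (by decide +kernel) (by decide +kernel)

theorem s18_180 : Good C (vlist C) (v18 C) 188 :=
  good_seed C (f13239 C) 188 [135, 153, 164, 171, 178] (v17_mem C) (by decide +kernel) (by decide +kernel)

theorem s18_181 : Good C (vlist C) (v18 C) 1388 :=
  good_seed C (f15293 C) 1388 [126, 164, 172] (v18_mem C) (by decide +kernel) (by decide +kernel)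

theorem s18_182 : Good C (vlist C) (v18 C) 331 :=
  good_seed C (f10254 C) 331 [142, 150, 168, 175, 178] (v18_mem C) (by decide +kernel) (by decide +kernel)

theorem s18_183 : Good C (vlist C) (v18 C) 1229 :=
  good_seed C (f13169 C) 1229 [138, 163, 168, 176, 178] (v18_mem C) (by decide +kernel) (by decide +kernel)

theorem s18_184 : Good C (vlist C) (v18 C) 192 :=
  good_seed C (f17096 C) 192 [136, 152, 167, 173, 177] (v19_mem C) (by decide +kernel) (by decide +kernel)

theorem s18_185 : Good C (vlist C) (v18 C) 2425 :=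
  good_seed C (f13964 C) 2425 [133, 155, 167, 178] (v18_mem C) (by decide +kernel) (by decide +kernel)

theorem s18_186 : Good C (vlist C) (v18 C) 259 :=
  good_seed C (f12854 C) 259 [128, 161, 164] (v18_mem C) (by decide +kernel) (by decide +kernel)

theorem s18_187 : Good C (vlist C) (v18 C) 195 :=
  good_seed C (f13660 C) 195 [139, 167, 173, 177] (v16_mem C) (by decide +kernel) (by decide +kernel)

theorem s18_188 : Good C (vlist C) (v18 C) 1752 :=
  good_seed C (f14904 C) 1752 [129, 153, 173, 177] (v9_mem C) (by decide +kernel) (by decide +kernel)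

theorem s18_189 : Good C (vlist C) (v18 C) 3454 :=
  good_seed C (f10576 C) 3454 [139, 156, 168, 175, 177] (v17_mem C) (by decide +kernel) (by decide +kernel)

theorem s18_190 : Good C (vlist C) (v18 C) 998 :=
  good_seed C (f9511 C) 998 [131, 162, 169, 178] (v18_mem C) (by decide +kernel) (by decide +kernel)

theorem s18_191 : Good C (vlist C) (v18 C) 2851 :=
  good_seed C (f8371 C) 2851 [139, 160, 178] (v18_mem C) (by decide +kernel) (by decide +kernel)

theorem s18_192 : Good C (vlist C) (v18 C) 2643 :=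
  good_seed C (f15462 C) 2643 [126, 151, 167, 172, 177] (v18_mem C) (by decide +kernel) (by decide +kernel)

theorem s18_193 : Good C (vlist C) (v18 C) 3703 :=
  good_seed C (f10690 C) 3703 [133, 163, 165, 175, 178] (v18_mem C) (by decide +kernel) (by decide +kernel)

theorem s18_194 : Good C (vlist C) (v18 C) 202 :=
  good_seed C (f12778 C) 202 [131, 157, 169, 171, 177] (v18_mem C) (by decide +kernel) (by decide +kernel)

theorem s18_195 : Good C (vlist C) (v18 C) 203 :=
  good_seed C (f14174 C) 203 [138, 150, 169, 171, 177] (v18_mem C) (by decide +kernel) (by decide +kernel)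

theorem s18_196 : Good C (vlist C) (v18 C) 204 :=
  good_seed C (f11116 C) 204 [129, 154, 168, 171, 177] (v18_mem C) (by decide +kernel) (by decide +kernel)

theorem s18_197 : Good C (vlist C) (v18 C) 3790 :=
  good_seed C (f7780 C) 3790 [137, 162, 164, 171, 177] (v17_mem C) (by decide +kernel) (by decide +kernel)

theorem s18_198 : Good C (vlist C) (v18 C) 901 :=
  good_seed C (f12918 C) 901 [139, 162, 172, 177] (v18_mem C) (by decide +kernel) (by decide +kernel)

theorem s18_199 : Good C (vlist C) (v18 C) 3667 :=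
  good_seed C (f8054 C) 3667 [131, 162, 166, 175] (v4_mem C) (by decide +kernel) (by decide +kernel)

theorem s18_200 : Good C (vlist C) (v18 C) 1330 :=
  good_seed C (f10283 C) 1330 [136, 159, 167, 171, 178] (v18_mem C) (by decide +kernel) (by decide +kernel)

theorem s18_201 : Good C (vlist C) (v18 C) 2190 :=
  good_seed C (f13847 C) 2190 [131, 162, 169, 171] (v18_mem C) (by decide +kernel) (by decide +kernel)

theorem s18_202 : Good C (vlist C) (v18 C) 705 :=
  good_seed C (f13687 C) 705 [145, 163, 173] (v16_mem C) (by decide +kernel) (by decide +kernel)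

theorem s18_203 : Good C (vlist C) (v18 C) 356 :=
  good_seed C (f17412 C) 356 [138, 165, 174] (v20_mem C) (by decide +kernel) (by decide +kernel)

theorem s18_204 : Good C (vlist C) (v18 C) 922 :=
  good_seed C (f9913 C) 922 [128, 150, 164, 175] (v18_mem C) (by decide +kernel) (by decide +kernel)

theorem s18_205 : Good C (vlist C) (v18 C) 3301 :=
  good_seed C (f7203 C) 3301 [142, 158, 166, 174, 178] (v18_mem C) (by decide +kernel) (by decide +kernel)

theorem s18_206 : Good C (vlist C) (v18 C) 2623 :=
  good_seed C (f7799 C) 2623 [139, 163, 164, 176, 177] (v17_mem C) (by decide +kernel) (by decide +kernel)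

theorem s18_207 : Good C (vlist C) (v18 C) 216 :=
  good_seed C (f11775 C) 216 [128, 155, 164, 172, 177] (v16_mem C) (by decide +kernel) (by decide +kernel)

theorem s18_208 : Good C (vlist C) (v18 C) 868 :=
  good_seed C (f15983 C) 868 [145, 157, 168] (v19_mem C) (by decide +kernel) (by decide +kernel)

theorem s18_209 : Good C (vlist C) (v18 C) 2658 :=
  good_seed C (f14661 C) 2658 [147, 160, 170, 177] (v17_mem C) (by decide +kernel) (by decide +kernel)

theorem s18_210 : Good C (vlist C) (v18 C) 220 :=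
  good_seed C (f7111 C) 220 [129, 165, 176, 178] (v17_mem C) (by decide +kernel) (by decide +kernel)

theorem s18_211 : Good C (vlist C) (v18 C) 221 :=
  good_seed C (f10923 C) 221 [127, 161, 165, 174] (v18_mem C) (by decide +kernel) (by decide +kernel)

theorem s18_212 : Good C (vlist C) (v18 C) 2371 :=
  good_seed C (f10805 C) 2371 [126, 163, 167, 178] (v17_mem C) (by decide +kernel) (by decide +kernel)

theorem s18_213 : Good C (vlist C) (v18 C) 2617 :=
  good_seed C (f7067 C) 2617 [141, 150, 171, 178] (v17_mem C) (by decide +kernel) (by decide +kernel)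

theorem s18_214 : Good C (vlist C) (v18 C) 371 :=
  good_seed C (f8188 C) 371 [141, 163, 167, 171] (v17_mem C) (by decide +kernel) (by decide +kernel)

theorem s18_215 : Good C (vlist C) (v18 C) 2470 :=
  good_seed C (f14751 C) 2470 [143, 158, 164, 172, 178] (v15_mem C) (by decide +kernel) (by decide +kernel)

theorem s18_216 : Good C (vlist C) (v18 C) 2082 :=
  good_seed C (f13755 C) 2082 [127, 151, 166, 174, 178] (v17_mem C) (by decide +kernel) (by decide +kernel)

theorem s18_217 : Good C (vlist C) (v18 C) 1951 :=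
  good_seed C (f7536 C) 1951 [143, 152, 168] (v5_mem C) (by decide +kernel) (by decide +kernel)

theorem s18_218 : Good C (vlist C) (v18 C) 720 :=
  good_seed C (f7343 C) 720 [137, 162, 170, 175, 177] (v18_mem C) (by decide +kernel) (by decide +kernel)

theorem s18_219 : Good C (vlist C) (v18 C) 1569 :=
  good_seed C (f13257 C) 1569 [129, 160, 170, 178] (v17_mem C) (by decide +kernel) (by decide +kernel)

theorem s18_220 : Good C (vlist C) (v18 C) 230 :=
  good_seed C (f9357 C) 230 [134, 161, 169, 178] (v17_mem C) (by decide +kernel) (by decide +kernel)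

theorem s18_221 : Good C (vlist C) (v18 C) 231 :=
  good_seed C (f8836 C) 231 [135, 150, 167, 174] (v15_mem C) (by decide +kernel) (by decide +kernel)

theorem s18_222 : Good C (vlist C) (v18 C) 1682 :=
  good_seed C (f8962 C) 1682 [141, 152, 166, 171, 178] (v18_mem C) (by decide +kernel) (by decide +kernel)

theorem s18_223 : Good C (vlist C) (v18 C) 3437 :=
  good_seed C (f16336 C) 3437 [129, 157, 171, 177] (v19_mem C) (by decide +kernel) (by decide +kernel)

theorem s18_224 : Good C (vlist C) (v18 C) 2120 :=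
  good_seed C (f16259 C) 2120 [145, 157, 164, 176] (v19_mem C) (by decide +kernel) (by decide +kernel)

theorem s18_225 : Good C (vlist C) (v18 C) 3588 :=
  good_seed C (f8936 C) 3588 [134, 151, 176, 178] (v17_mem C) (by decide +kernel) (by decide +kernel)

theorem s18_226 : Good C (vlist C) (v18 C) 238 :=
  good_seed C (f10911 C) 238 [129, 153, 164, 173] (v18_mem C) (by decide +kernel) (by decide +kernel)

theorem s18_227 : Good C (vlist C) (v18 C) 436 :=
  good_seed C (f13571 C) 436 [135, 170, 171] (v15_mem C) (by decide +kernel) (by decide +kernel)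

theorem s18_228 : Good C (vlist C) (v18 C) 3048 :=
  good_seed C (f13041 C) 3048 [146, 152, 166, 171] (v5_mem C) (by decide +kernel) (by decide +kernel)

theorem s18_229 : Good C (vlist C) (v18 C) 3102 :=
  good_seed C (f8132 C) 3102 [128, 167, 177] (v18_mem C) (by decide +kernel) (by decide +kernel)

theorem s18_230 : Good C (vlist C) (v18 C) 242 :=
  good_seed C (f9787 C) 242 [136, 157, 170, 172, 178] (v18_mem C) (by decide +kernel) (by decide +kernel)

theorem s18_231 : Good C (vlist C) (v18 C) 2424 :=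
  good_seed C (f9519 C) 2424 [129, 150, 165, 173] (v18_mem C) (by decide +kernel) (by decide +kernel)

theorem s18_232 : Good C (vlist C) (v18 C) 1509 :=
  good_seed C (f10966 C) 1509 [133, 156, 166, 171] (v17_mem C) (by decide +kernel) (by decide +kernel)

theorem s18_233 : Good C (vlist C) (v18 C) 951 :=
  good_seed C (f9060 C) 951 [142, 154, 166, 177] (v17_mem C) (by decide +kernel) (by decide +kernel)

theorem s18_234 : Good C (vlist C) (v18 C) 247 :=
  good_seed C (f11586 C) 247 [129, 159, 168] (v17_mem C) (by decide +kernel) (by decide +kernel)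

theorem s18_235 : Good C (vlist C) (v18 C) 248 :=
  good_seed C (f7001 C) 248 [142, 154, 165, 171, 178] (v17_mem C) (by decide +kernel) (by decide +kernel)

theorem s18_236 : Good C (vlist C) (v18 C) 249 :=
  good_seed C (f13189 C) 249 [136, 159, 174, 178] (v18_mem C) (by decide +kernel) (by decide +kernel)

theorem s18_237 : Good C (vlist C) (v18 C) 2434 :=
  good_seed C (f7695 C) 2434 [146, 166, 175] (v18_mem C) (by decide +kernel) (by decide +kernel)

theorem s18_238 : Good C (vlist C) (v18 C) 252 :=
  good_seed C (f10943 C) 252 [132, 165, 174, 177] (v16_mem C) (by decide +kernel) (by decide +kernel)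

theorem s18_239 : Good C (vlist C) (v18 C) 253 :=
  good_seed C (f9116 C) 253 [159, 164, 175] (v17_mem C) (by decide +kernel) (by decide +kernel)

theorem s18_240 : Good C (vlist C) (v18 C) 254 :=
  good_seed C (f9087 C) 254 [141, 155, 167, 178] (v15_mem C) (by decide +kernel) (by decide +kernel)

theorem s18_241 : Good C (vlist C) (v18 C) 255 :=
  good_seed C (f9518 C) 255 [145, 155, 166, 173] (v18_mem C) (by decide +kernel) (by decide +kernel)

theorem s18_242 : Good C (vlist C) (v18 C) 1430 :=
  good_seed C (f12090 C) 1430 [138, 161, 168, 172] (v17_mem C) (by decide +kernel) (by decide +kernel)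

theorem s18_243 : Good C (vlist C) (v18 C) 3483 :=
  good_seed C (f10614 C) 3483 [126, 162, 165, 173] (v17_mem C) (by decide +kernel) (by decide +kernel)

theorem s18_244 : Good C (vlist C) (v18 C) 1490 :=
  good_seed C (f14668 C) 1490 [126, 154, 173, 177] (v18_mem C) (by decide +kernel) (by decide +kernel)

theorem s18_245 : Good C (vlist C) (v18 C) 260 :=
  good_seed C (f8442 C) 260 [142, 160, 166, 174, 177] (v4_mem C) (by decide +kernel) (by decide +kernel)

theorem s18_246 : Good C (vlist C) (v18 C) 3230 :=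
  good_seed C (f17139 C) 3230 [139, 160, 167, 177] (v19_mem C) (by decide +kernel) (by decide +kernel)

theorem s18_247 : Good C (vlist C) (v18 C) 3203 :=
  good_seed C (f10230 C) 3203 [143, 162, 166, 173] (v18_mem C) (by decide +kernel) (by decide +kernel)

theorem s18_248 : Good C (vlist C) (v18 C) 265 :=
  good_seed C (f10244 C) 265 [128, 157, 168, 171, 177] (v17_mem C) (by decide +kernel) (by decide +kernel)

theorem s18_249 : Good C (vlist C) (v18 C) 1424 :=
  good_seed C (f7088 C) 1424 [129, 151, 168, 176, 177] (v18_mem C) (by decide +kernel) (by decide +kernel)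

theorem s18_250 : Good C (vlist C) (v18 C) 3157 :=
  good_seed C (f14514 C) 3157 [143, 153, 175, 178] (v17_mem C) (by decide +kernel) (by decide +kernel)

theorem s18_251 : Good C (vlist C) (v18 C) 3656 :=
  good_seed C (f12353 C) 3656 [137, 155, 169, 174, 178] (v18_mem C) (by decide +kernel) (by decide +kernel)

theorem s18_252 : Good C (vlist C) (v18 C) 3076 :=
  good_seed C (f7281 C) 3076 [146, 151, 170, 175, 177] (v18_mem C) (by decide +kernel) (by decide +kernel)

theorem s18_253 : Good C (vlist C) (v18 C) 1519 :=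
  good_seed C (f13364 C) 1519 [139, 158, 168, 171, 178] (v10_mem C) (by decide +kernel) (by decide +kernel)

theorem s18_254 : Good C (vlist C) (v18 C) 2474 :=
  good_seed C (f15661 C) 2474 [128, 150, 170, 175, 178] (v19_mem C) (by decide +kernel) (by decide +kernel)

theorem s18_255 : Good C (vlist C) (v18 C) 3287 :=
  good_seed C (f15115 C) 3287 [148, 154, 164, 171, 178] (v18_mem C) (by decide +kernel) (by decide +kernel)

theorem s18_256 : Good C (vlist C) (v18 C) 275 :=
  good_seed C (f11796 C) 275 [141, 152, 169, 174, 177] (v15_mem C) (by decide +kernel) (by decide +kernel)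

theorem s18_257 : Good C (vlist C) (v18 C) 1903 :=
  good_seed C (f9856 C) 1903 [135, 153, 168, 171, 177] (v18_mem C) (by decide +kernel) (by decide +kernel)

theorem s18_258 : Good C (vlist C) (v18 C) 3722 :=
  good_seed C (f10507 C) 3722 [133, 149, 168, 173] (v15_mem C) (by decide +kernel) (by decide +kernel)

theorem s18_259 : Good C (vlist C) (v18 C) 1786 :=
  good_seed C (f13919 C) 1786 [132, 151, 171] (v18_mem C) (by decide +kernel) (by decide +kernel)

theorem s18_260 : Good C (vlist C) (v18 C) 279 :=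
  good_seed C (f13887 C) 279 [134, 152, 170] (v18_mem C) (by decide +kernel) (by decide +kernel)

theorem s18_261 : Good C (vlist C) (v18 C) 3709 :=
  good_seed C (f7821 C) 3709 [140, 167, 172, 177] (v18_mem C) (by decide +kernel) (by decide +kernel)

theorem s18_262 : Good C (vlist C) (v18 C) 1989 :=
  good_seed C (f16437 C) 1989 [133, 153, 166, 175, 178] (v19_mem C) (by decide +kernel) (by decide +kernel)

theorem s18_263 : Good C (vlist C) (v18 C) 283 :=
  good_seed C (f8951 C) 283 [141, 164, 178] (v17_mem C) (by decide +kernel) (by decide +kernel)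

theorem s18_264 : Good C (vlist C) (v18 C) 659 :=
  good_seed C (f12540 C) 659 [131, 159, 164, 176, 178] (v17_mem C) (by decide +kernel) (by decide +kernel)

theorem s18_265 : Good C (vlist C) (v18 C) 629 :=
  good_seed C (f6862 C) 629 [138, 149, 170, 175, 177] (v4_mem C) (by decide +kernel) (by decide +kernel)

theorem s18_266 : Good C (vlist C) (v18 C) 286 :=
  good_seed C (f9855 C) 286 [139, 157, 169, 173] (v18_mem C) (by decide +kernel) (by decide +kernel)

theorem s18_267 : Good C (vlist C) (v18 C) 637 :=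
  good_seed C (f12032 C) 637 [138, 157, 169, 175, 177] (v17_mem C) (by decide +kernel) (by decide +kernel)

theorem s18_268 : Good C (vlist C) (v18 C) 288 :=
  good_seed C (f14467 C) 288 [148, 163, 170, 175] (v16_mem C) (by decide +kernel) (by decide +kernel)

theorem s18_269 : Good C (vlist C) (v18 C) 289 :=
  good_seed C (f15340 C) 289 [134, 158, 169, 176, 178] (v18_mem C) (by decide +kernel) (by decide +kernel)

theorem s18_270 : Good C (vlist C) (v18 C) 1953 :=
  good_seed C (f7703 C) 1953 [141, 165, 177] (v15_mem C) (by decide +kernel) (by decide +kernel)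

theorem s18_271 : Good C (vlist C) (v18 C) 1841 :=
  good_seed C (f9029 C) 1841 [147, 153, 170, 171, 177] (v15_mem C) (by decide +kernel) (by decide +kernel)

theorem s18_272 : Good C (vlist C) (v18 C) 3088 :=
  good_seed C (f14602 C) 3088 [127, 152, 164, 173] (v15_mem C) (by decide +kernel) (by decide +kernel)

theorem s18_273 : Good C (vlist C) (v18 C) 293 :=
  good_seed C (f17119 C) 293 [161, 166, 171, 177] (v19_mem C) (by decide +kernel) (by decide +kernel)

theorem s18_274 : Good C (vlist C) (v18 C) 1667 :=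
  good_seed C (f8093 C) 1667 [131, 155, 176, 178] (v18_mem C) (by decide +kernel) (by decide +kernel)

theorem s18_275 : Good C (vlist C) (v18 C) 2717 :=
  good_seed C (f10331 C) 2717 [128, 162, 167, 173] (v18_mem C) (by decide +kernel) (by decide +kernel)

theorem s18_276 : Good C (vlist C) (v18 C) 296 :=
  good_seed C (f14278 C) 296 [140, 155, 169, 174, 177] (v18_mem C) (by decide +kernel) (by decide +kernel)

theorem s18_277 : Good C (vlist C) (v18 C) 1678 :=
  good_seed C (f9006 C) 1678 [131, 161, 167, 172, 177] (v17_mem C) (by decide +kernel) (by decide +kernel)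

theorem s18_278 : Good C (vlist C) (v18 C) 452 :=
  good_seed C (f12215 C) 452 [146, 152, 167, 173, 178] (v18_mem C) (by decide +kernel) (by decide +kernel)

theorem s18_279 : Good C (vlist C) (v18 C) 521 :=
  good_seed C (f10707 C) 521 [145, 157, 166, 176] (v18_mem C) (by decide +kernel) (by decide +kernel)

theorem s18_280 : Good C (vlist C) (v18 C) 1413 :=
  good_seed C (f11167 C) 1413 [127, 149, 170] (v5_mem C) (by decide +kernel) (by decide +kernel)

theorem s18_281 : Good C (vlist C) (v18 C) 648 :=
  good_seed C (f6954 C) 648 [129, 152, 168, 176, 178] (v5_mem C) (by decide +kernel) (by decide +kernel)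

theorem s18_282 : Good C (vlist C) (v18 C) 303 :=
  good_seed C (f9402 C) 303 [129, 161, 169] (v17_mem C) (by decide +kernel) (by decide +kernel)

theorem s18_283 : Good C (vlist C) (v18 C) 304 :=
  good_seed C (f12530 C) 304 [148, 154, 171] (v18_mem C) (by decide +kernel) (by decide +kernel)

theorem s18_284 : Good C (vlist C) (v18 C) 531 :=
  good_seed C (f8146 C) 531 [132, 161, 170, 172, 177] (v18_mem C) (by decide +kernel) (by decide +kernel)

theorem s18_285 : Good C (vlist C) (v18 C) 547 :=
  good_seed C (f9545 C) 547 [139, 155, 167, 173, 178] (v17_mem C) (by decide +kernel) (by decide +kernel)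

theorem s18_286 : Good C (vlist C) (v18 C) 982 :=
  good_seed C (f13798 C) 982 [131, 159, 168, 175, 178] (v17_mem C) (by decide +kernel) (by decide +kernel)

theorem s18_287 : Good C (vlist C) (v18 C) 2108 :=
  good_seed C (f13538 C) 2108 [144, 166, 176, 177] (v9_mem C) (by decide +kernel) (by decide +kernel)

theorem s18_288 : Good C (vlist C) (v18 C) 2730 :=
  good_seed C (f14478 C) 2730 [139, 151, 170, 171] (v17_mem C) (by decide +kernel) (by decide +kernel)

theorem s18_289 : Good C (vlist C) (v18 C) 804 :=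
  good_seed C (f11448 C) 804 [136, 151, 165, 172, 177] (v18_mem C) (by decide +kernel) (by decide +kernel)

theorem s18_290 : Good C (vlist C) (v18 C) 312 :=
  good_seed C (f9887 C) 312 [127, 159, 166, 175, 178] (v17_mem C) (by decide +kernel) (by decide +kernel)

theorem s18_291 : Good C (vlist C) (v18 C) 313 :=
  good_seed C (f17430 C) 313 [137, 155, 165, 173] (v20_mem C) (by decide +kernel) (by decide +kernel)

theorem s18_292 : Good C (vlist C) (v18 C) 315 :=
  good_seed C (f9446 C) 315 [147, 163, 165, 171, 178] (v17_mem C) (by decide +kernel) (by decide +kernel)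

theorem s18_293 : Good C (vlist C) (v18 C) 317 :=
  good_seed C (f11067 C) 317 [129, 158, 168, 177] (v18_mem C) (by decide +kernel) (by decide +kernel)

theorem s18_294 : Good C (vlist C) (v18 C) 3341 :=
  good_seed C (f16772 C) 3341 [145, 151, 175, 178] (v19_mem C) (by decide +kernel) (by decide +kernel)

theorem s18_295 : Good C (vlist C) (v18 C) 1754 :=
  good_seed C (f8389 C) 1754 [139, 151, 167, 174, 178] (v4_mem C) (by decide +kernel) (by decide +kernel)

theorem s18_296 : Good C (vlist C) (v18 C) 3596 :=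
  good_seed C (f16577 C) 3596 [135, 159, 167, 171, 177] (v19_mem C) (by decide +kernel) (by decide +kernel)

theorem s18_297 : Good C (vlist C) (v18 C) 1824 :=
  good_seed C (f8399 C) 1824 [130, 150, 168] (v15_mem C) (by decide +kernel) (by decide +kernel)

theorem s18_298 : Good C (vlist C) (v18 C) 322 :=
  good_seed C (f8496 C) 322 [134, 159, 166, 172, 177] (v18_mem C) (by decide +kernel) (by decide +kernel)

theorem s18_299 : Good C (vlist C) (v18 C) 323 :=
  good_seed C (f11660 C) 323 [131, 153, 178] (v18_mem C) (by decide +kernel) (by decide +kernel)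

theorem s18_300 : Good C (vlist C) (v18 C) 324 :=
  good_seed C (f13897 C) 324 [137, 153, 168] (v18_mem C) (by decide +kernel) (by decide +kernel)

theorem s18_301 : Good C (vlist C) (v18 C) 326 :=
  good_seed C (f12374 C) 326 [129, 151, 166, 173, 177] (v18_mem C) (by decide +kernel) (by decide +kernel)

theorem s18_302 : Good C (vlist C) (v18 C) 328 :=
  good_seed C (f15257 C) 328 [144, 153, 165, 174, 177] (v18_mem C) (by decide +kernel) (by decide +kernel)

theorem s18_303 : Good C (vlist C) (v18 C) 636 :=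
  good_seed C (f16351 C) 636 [135, 150, 166, 174, 178] (v19_mem C) (by decide +kernel) (by decide +kernel)

theorem s18_304 : Good C (vlist C) (v18 C) 2373 :=
  good_seed C (f10189 C) 2373 [139, 151, 164, 173, 177] (v4_mem C) (by decide +kernel) (by decide +kernel)

theorem s18_305 : Good C (vlist C) (v18 C) 810 :=
  good_seed C (f12615 C) 810 [146, 154, 169, 172, 177] (v18_mem C) (by decide +kernel) (by decide +kernel)

theorem s18_306 : Good C (vlist C) (v18 C) 1243 :=
  good_seed C (f13124 C) 1243 [160, 170, 176, 177] (v18_mem C) (by decide +kernel) (by decide +kernel)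

theorem s18_307 : Good C (vlist C) (v18 C) 1602 :=
  good_seed C (f13020 C) 1602 [131, 155, 164, 173, 178] (v18_mem C) (by decide +kernel) (by decide +kernel)

theorem s18_308 : Good C (vlist C) (v18 C) 522 :=
  good_seed C (f13854 C) 522 [139, 154, 167, 172, 177] (v18_mem C) (by decide +kernel) (by decide +kernel)

theorem s18_309 : Good C (vlist C) (v18 C) 339 :=
  good_seed C (f11298 C) 339 [131, 162, 166, 176] (v17_mem C) (by decide +kernel) (by decide +kernel)

theorem s18_310 : Good C (vlist C) (v18 C) 494 :=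
  good_seed C (f13634 C) 494 [135, 157, 167, 178] (v16_mem C) (by decide +kernel) (by decide +kernel)

theorem s18_311 : Good C (vlist C) (v18 C) 2386 :=
  good_seed C (f10475 C) 2386 [144, 156, 169, 172] (v15_mem C) (by decide +kernel) (by decide +kernel)

theorem s18_312 : Good C (vlist C) (v18 C) 342 :=
  good_seed C (f9864 C) 342 [134, 149, 170, 174, 178] (v17_mem C) (by decide +kernel) (by decide +kernel)

theorem s18_313 : Good C (vlist C) (v18 C) 1513 :=
  good_seed C (f8533 C) 1513 [142, 155, 164] (v18_mem C) (by decide +kernel) (by decide +kernel)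

theorem s18_314 : Good C (vlist C) (v18 C) 345 :=
  good_seed C (f12304 C) 345 [128, 153, 167, 175, 177] (v17_mem C) (by decide +kernel) (by decide +kernel)

theorem s18_315 : Good C (vlist C) (v18 C) 1170 :=
  good_seed C (f15551 C) 1170 [138, 152, 176, 177] (v19_mem C) (by decide +kernel) (by decide +kernel)

theorem s18_316 : Good C (vlist C) (v18 C) 348 :=
  good_seed C (f12706 C) 348 [138, 166, 171, 177] (v17_mem C) (by decide +kernel) (by decide +kernel)

theorem s18_317 : Good C (vlist C) (v18 C) 1894 :=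
  good_seed C (f11142 C) 1894 [137, 154, 166, 172] (v17_mem C) (by decide +kernel) (by decide +kernel)

theorem s18_318 : Good C (vlist C) (v18 C) 3652 :=
  good_seed C (f12890 C) 3652 [147, 158, 168, 175, 177] (v17_mem C) (by decide +kernel) (by decide +kernel)

theorem s18_319 : Good C (vlist C) (v18 C) 647 :=
  good_seed C (f9227 C) 647 [132, 157, 168, 173] (v17_mem C) (by decide +kernel) (by decide +kernel)

theorem s18_320 : Good C (vlist C) (v18 C) 3166 :=
  good_seed C (f14650 C) 3166 [136, 165, 173] (v18_mem C) (by decide +kernel) (by decide +kernel)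

theorem s18_321 : Good C (vlist C) (v18 C) 1571 :=
  good_seed C (f13447 C) 1571 [134, 157, 164, 171] (v18_mem C) (by decide +kernel) (by decide +kernel)

theorem s18_322 : Good C (vlist C) (v18 C) 1755 :=
  good_seed C (f13220 C) 1755 [140, 155, 166, 176] (v18_mem C) (by decide +kernel) (by decide +kernel)

theorem s18_323 : Good C (vlist C) (v18 C) 2847 :=
  good_seed C (f8026 C) 2847 [131, 155, 170, 172] (v18_mem C) (by decide +kernel) (by decide +kernel)

theorem s18_324 : Good C (vlist C) (v18 C) 2256 :=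
  good_seed C (f16532 C) 2256 [159, 170, 174] (v19_mem C) (by decide +kernel) (by decide +kernel)

theorem s18_325 : Good C (vlist C) (v18 C) 2100 :=
  good_seed C (f12012 C) 2100 [145, 155, 166, 174, 177] (v18_mem C) (by decide +kernel) (by decide +kernel)

theorem s18_326 : Good C (vlist C) (v18 C) 3670 :=
  good_seed C (f9610 C) 3670 [132, 163, 172] (v18_mem C) (by decide +kernel) (by decide +kernel)

theorem s18_327 : Good C (vlist C) (v18 C) 605 :=
  good_seed C (f10045 C) 605 [141, 154, 168, 173, 177] (v18_mem C) (by decide +kernel) (by decide +kernel)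

theorem s18_328 : Good C (vlist C) (v18 C) 364 :=
  good_seed C (f12586 C) 364 [130, 159, 166, 175, 178] (v17_mem C) (by decide +kernel) (by decide +kernel)

theorem s18_329 : Good C (vlist C) (v18 C) 365 :=
  good_seed C (f7328 C) 365 [138, 152, 165, 171] (v3_mem C) (by decide +kernel) (by decide +kernel)

theorem s18_330 : Good C (vlist C) (v18 C) 1988 :=
  good_seed C (f14326 C) 1988 [135, 149, 164, 176, 177] (v16_mem C) (by decide +kernel) (by decide +kernel)

theorem s18_331 : Good C (vlist C) (v18 C) 2308 :=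
  good_seed C (f10902 C) 2308 [131, 162, 168] (v17_mem C) (by decide +kernel) (by decide +kernel)

theorem s18_332 : Good C (vlist C) (v18 C) 538 :=
  good_seed C (f16330 C) 538 [130, 149, 167, 174, 177] (v19_mem C) (by decide +kernel) (by decide +kernel)

theorem s18_333 : Good C (vlist C) (v18 C) 370 :=
  good_seed C (f14140 C) 370 [131, 160, 171, 177] (v17_mem C) (by decide +kernel) (by decide +kernel)

theorem s18_334 : Good C (vlist C) (v18 C) 2058 :=
  good_seed C (f11568 C) 2058 [144, 151, 168, 174, 178] (v9_mem C) (by decide +kernel) (by decide +kernel)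

theorem s18_335 : Good C (vlist C) (v18 C) 957 :=
  good_seed C (f10129 C) 957 [140, 159, 170, 175, 177] (v17_mem C) (by decide +kernel) (by decide +kernel)

theorem s18_336 : Good C (vlist C) (v18 C) 2741 :=
  good_seed C (f15283 C) 2741 [134, 162, 175, 177] (v16_mem C) (by decide +kernel) (by decide +kernel)

theorem s18_337 : Good C (vlist C) (v18 C) 375 :=
  good_seed C (f15312 C) 375 [139, 161, 166, 175] (v18_mem C) (by decide +kernel) (by decide +kernel)

theorem s18_338 : Good C (vlist C) (v18 C) 1368 :=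
  good_seed C (f8761 C) 1368 [131, 167, 176, 177] (v15_mem C) (by decide +kernel) (by decide +kernel)

theorem s18_339 : Good C (vlist C) (v18 C) 658 :=
  good_seed C (f9983 C) 658 [139, 155, 167, 173] (v17_mem C) (by decide +kernel) (by decide +kernel)

theorem s18_340 : Good C (vlist C) (v18 C) 378 :=
  good_seed C (f13760 C) 378 [135, 157, 168, 171, 178] (v17_mem C) (by decide +kernel) (by decide +kernel)

theorem s18_341 : Good C (vlist C) (v18 C) 884 :=
  good_seed C (f16039 C) 884 [143, 151, 165, 173, 177] (v19_mem C) (by decide +kernel) (by decide +kernel)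

theorem s18_342 : Good C (vlist C) (v18 C) 2592 :=
  good_seed C (f9824 C) 2592 [128, 153, 165, 174, 178] (v17_mem C) (by decide +kernel) (by decide +kernel)

theorem s18_343 : Good C (vlist C) (v18 C) 381 :=
  good_seed C (f13870 C) 381 [140, 154, 175, 178] (v16_mem C) (by decide +kernel) (by decide +kernel)

theorem s18_344 : Good C (vlist C) (v18 C) 382 :=
  good_seed C (f7119 C) 382 [137, 163, 164, 178] (v18_mem C) (by decide +kernel) (by decide +kernel)

theorem s18_345 : Good C (vlist C) (v18 C) 2999 :=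
  good_seed C (f9341 C) 2999 [132, 150, 164, 175, 178] (v17_mem C) (by decide +kernel) (by decide +kernel)

theorem s18_346 : Good C (vlist C) (v18 C) 384 :=
  good_seed C (f12961 C) 384 [129, 151, 167, 171, 177] (v18_mem C) (by decide +kernel) (by decide +kernel)

theorem s18_347 : Good C (vlist C) (v18 C) 385 :=
  good_seed C (f13918 C) 385 [139, 156, 169, 177] (v18_mem C) (by decide +kernel) (by decide +kernel)

theorem s18_348 : Good C (vlist C) (v18 C) 387 :=
  good_seed C (f8452 C) 387 [145, 149, 165, 173, 178] (v15_mem C) (by decide +kernel) (by decide +kernel)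

theorem s18_349 : Good C (vlist C) (v18 C) 1469 :=
  good_seed C (f9534 C) 1469 [136, 163, 168, 171, 178] (v18_mem C) (by decide +kernel) (by decide +kernel)

theorem s18_350 : Good C (vlist C) (v18 C) 3687 :=
  good_seed C (f10210 C) 3687 [155, 165, 174, 178] (v17_mem C) (by decide +kernel) (by decide +kernel)

theorem s18_351 : Good C (vlist C) (v18 C) 1582 :=
  good_seed C (f7614 C) 1582 [129, 149, 166, 175, 177] (v18_mem C) (by decide +kernel) (by decide +kernel)

theorem s18_352 : Good C (vlist C) (v18 C) 3139 :=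
  good_seed C (f9654 C) 3139 [133, 156, 178] (v18_mem C) (by decide +kernel) (by decide +kernel)

theorem s18_353 : Good C (vlist C) (v18 C) 2154 :=
  good_seed C (f8265 C) 2154 [127, 151, 170, 174, 178] (v15_mem C) (by decide +kernel) (by decide +kernel)

theorem s18_354 : Good C (vlist C) (v18 C) 3304 :=
  good_seed C (f12672 C) 3304 [145, 154, 165, 171, 178] (v17_mem C) (by decide +kernel) (by decide +kernel)

theorem s18_355 : Good C (vlist C) (v18 C) 2772 :=
  good_seed C (f10645 C) 2772 [134, 159, 166, 177] (v17_mem C) (by decide +kernel) (by decide +kernel)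

theorem s18_356 : Good C (vlist C) (v18 C) 421 :=
  good_seed C (f7244 C) 421 [146, 151, 169, 172] (v18_mem C) (by decide +kernel) (by decide +kernel)

theorem s18_357 : Good C (vlist C) (v18 C) 3356 :=
  good_seed C (f11764 C) 3356 [140, 160, 170, 172, 178] (v18_mem C) (by decide +kernel) (by decide +kernel)

theorem s18_358 : Good C (vlist C) (v18 C) 3362 :=
  good_seed C (f11151 C) 3362 [133, 153, 166, 173] (v18_mem C) (by decide +kernel) (by decide +kernel)

theorem s18_359 : Good C (vlist C) (v18 C) 1889 :=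
  good_seed C (f12435 C) 1889 [147, 154, 169, 175] (v17_mem C) (by decide +kernel) (by decide +kernel)

theorem s18_360 : Good C (vlist C) (v18 C) 403 :=
  good_seed C (f13815 C) 403 [146, 149, 166, 173, 177] (v17_mem C) (by decide +kernel) (by decide +kernel)

theorem s18_361 : Good C (vlist C) (v18 C) 656 :=
  good_seed C (f14939 C) 656 [130, 160, 165, 177] (v18_mem C) (by decide +kernel) (by decide +kernel)

theorem s18_362 : Good C (vlist C) (v18 C) 406 :=
  good_seed C (f12475 C) 406 [134, 160, 173, 177] (v17_mem C) (by decide +kernel) (by decide +kernel)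

theorem s18_363 : Good C (vlist C) (v18 C) 1477 :=
  good_seed C (f9418 C) 1477 [137, 173, 178] (v17_mem C) (by decide +kernel) (by decide +kernel)

theorem s18_364 : Good C (vlist C) (v18 C) 410 :=
  good_seed C (f14261 C) 410 [138, 163, 166, 172, 178] (v18_mem C) (by decide +kernel) (by decide +kernel)

theorem s18_365 : Good C (vlist C) (v18 C) 2462 :=
  good_seed C (f14560 C) 2462 [139, 160, 168] (v17_mem C) (by decide +kernel) (by decide +kernel)

theorem s18_366 : Good C (vlist C) (v18 C) 3708 :=
  good_seed C (f12839 C) 3708 [134, 149, 167, 172] (v17_mem C) (by decide +kernel) (by decide +kernel)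

theorem s18_367 : Good C (vlist C) (v18 C) 1794 :=
  good_seed C (f9702 C) 1794 [146, 153, 170, 172] (v18_mem C) (by decide +kernel) (by decide +kernel)

theorem s18_368 : Good C (vlist C) (v18 C) 414 :=
  good_seed C (f9126 C) 414 [146, 153, 170, 172, 177] (v17_mem C) (by decide +kernel) (by decide +kernel)

theorem s18_369 : Good C (vlist C) (v18 C) 1214 :=
  good_seed C (f13325 C) 1214 [128, 155, 169, 175] (v18_mem C) (by decide +kernel) (by decide +kernel)

theorem s18_370 : Good C (vlist C) (v18 C) 2542 :=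
  good_seed C (f14725 C) 2542 [140, 155, 169, 173, 177] (v18_mem C) (by decide +kernel) (by decide +kernel)

theorem s18_371 : Good C (vlist C) (v18 C) 3237 :=
  good_seed C (f11078 C) 3237 [128, 156, 170, 174, 177] (v18_mem C) (by decide +kernel) (by decide +kernel)

theorem s18_372 : Good C (vlist C) (v18 C) 1635 :=
  good_seed C (f11980 C) 1635 [127, 154, 168, 174] (v18_mem C) (by decide +kernel) (by decide +kernel)

theorem s18_373 : Good C (vlist C) (v18 C) 2649 :=
  good_seed C (f17458 C) 2649 [128, 156, 169, 172, 178] (v20_mem C) (by decide +kernel) (by decide +kernel)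

theorem s18_374 : Good C (vlist C) (v18 C) 1685 :=
  good_seed C (f10084 C) 1685 [148, 153, 168, 172, 177] (v4_mem C) (by decide +kernel) (by decide +kernel)

theorem s18_375 : Good C (vlist C) (v18 C) 426 :=
  good_seed C (f7584 C) 426 [134, 154, 166, 171] (v18_mem C) (by decide +kernel) (by decide +kernel)

theorem s18_376 : Good C (vlist C) (v18 C) 1832 :=
  good_seed C (f10975 C) 1832 [133, 154, 166, 173, 177] (v15_mem C) (by decide +kernel) (by decide +kernel)

theorem s18_377 : Good C (vlist C) (v18 C) 428 :=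
  good_seed C (f12754 C) 428 [142, 153, 168, 172, 178] (v9_mem C) (by decide +kernel) (by decide +kernel)

theorem s18_378 : Good C (vlist C) (v18 C) 847 :=
  good_seed C (f10934 C) 847 [138, 151, 166, 172] (v18_mem C) (by decide +kernel) (by decide +kernel)

theorem s18_379 : Good C (vlist C) (v18 C) 430 :=
  good_seed C (f12456 C) 430 [139, 155, 169, 173, 177] (v18_mem C) (by decide +kernel) (by decide +kernel)

theorem s18_380 : Good C (vlist C) (v18 C) 2817 :=
  good_seed C (f9379 C) 2817 [159, 169, 175] (v17_mem C) (by decide +kernel) (by decide +kernel)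

theorem s18_381 : Good C (vlist C) (v18 C) 1173 :=
  good_seed C (f7625 C) 1173 [144, 155, 164, 174, 177] (v17_mem C) (by decide +kernel) (by decide +kernel)

theorem s18_382 : Good C (vlist C) (v18 C) 2664 :=
  good_seed C (f15321 C) 2664 [138, 156, 165, 176, 177] (v18_mem C) (by decide +kernel) (by decide +kernel)

theorem s18_383 : Good C (vlist C) (v18 C) 434 :=
  good_seed C (f15238 C) 434 [146, 155, 170, 173, 177] (v16_mem C) (by decide +kernel) (by decide +kernel)

theorem s18_384 : Good C (vlist C) (v18 C) 435 :=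
  good_seed C (f7499 C) 435 [128, 153, 169, 173, 178] (v18_mem C) (by decide +kernel) (by decide +kernel)

theorem s18_385 : Good C (vlist C) (v18 C) 437 :=
  good_seed C (f9351 C) 437 [129, 161, 169, 176] (v17_mem C) (by decide +kernel) (by decide +kernel)

theorem s18_386 : Good C (vlist C) (v18 C) 2739 :=
  good_seed C (f13408 C) 2739 [148, 152, 176] (v18_mem C) (by decide +kernel) (by decide +kernel)

theorem s18_387 : Good C (vlist C) (v18 C) 439 :=
  good_seed C (f13099 C) 439 [148, 159, 170, 175, 177] (v18_mem C) (by decide +kernel) (by decide +kernel)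

theorem s18_388 : Good C (vlist C) (v18 C) 2767 :=
  good_seed C (f15189 C) 2767 [141, 155, 164, 171, 177] (v17_mem C) (by decide +kernel) (by decide +kernel)

theorem s18_389 : Good C (vlist C) (v18 C) 441 :=
  good_seed C (f12969 C) 441 [131, 157, 168, 176, 177] (v18_mem C) (by decide +kernel) (by decide +kernel)

theorem s18_390 : Good C (vlist C) (v18 C) 3006 :=
  good_seed C (f15050 C) 3006 [133, 151, 169, 174] (v17_mem C) (by decide +kernel) (by decide +kernel)

theorem s18_391 : Good C (vlist C) (v18 C) 444 :=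
  good_seed C (f13963 C) 444 [133, 158, 174, 177] (v18_mem C) (by decide +kernel) (by decide +kernel)

theorem s18_392 : Good C (vlist C) (v18 C) 2167 :=
  good_seed C (f7255 C) 2167 [143, 175, 178] (v4_mem C) (by decide +kernel) (by decide +kernel)

theorem s18_393 : Good C (vlist C) (v18 C) 1350 :=
  good_seed C (f10595 C) 1350 [144, 155, 166, 172, 177] (v17_mem C) (by decide +kernel) (by decide +kernel)

theorem s18_394 : Good C (vlist C) (v18 C) 3095 :=
  good_seed C (f14813 C) 3095 [141, 163, 169, 171, 177] (v10_mem C) (by decide +kernel) (by decide +kernel)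

theorem s18_395 : Good C (vlist C) (v18 C) 2667 :=
  good_seed C (f13437 C) 2667 [135, 159, 168, 174, 178] (v18_mem C) (by decide +kernel) (by decide +kernel)

theorem s18_396 : Good C (vlist C) (v18 C) 2353 :=
  good_seed C (f7437 C) 2353 [139, 149, 170, 175, 177] (v18_mem C) (by decide +kernel) (by decide +kernel)

theorem s18_397 : Good C (vlist C) (v18 C) 2277 :=
  good_seed C (f6896 C) 2277 [137, 153, 165, 174, 178] (v4_mem C) (by decide +kernel) (by decide +kernel)

theorem s18_398 : Good C (vlist C) (v18 C) 2356 :=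
  good_seed C (f11900 C) 2356 [147, 163, 165, 173] (v16_mem C) (by decide +kernel) (by decide +kernel)

theorem s18_399 : Good C (vlist C) (v18 C) 3128 :=
  good_seed C (f14542 C) 3128 [138, 160, 166, 177] (v17_mem C) (by decide +kernel) (by decide +kernel)

theorem s18_400 : Good C (vlist C) (v18 C) 2937 :=
  good_seed C (f16011 C) 2937 [129, 167, 171, 178] (v19_mem C) (by decide +kernel) (by decide +kernel)

theorem s18_401 : Good C (vlist C) (v18 C) 2941 :=
  good_seed C (f8882 C) 2941 [126, 161, 166, 176, 177] (v17_mem C) (by decide +kernel) (by decide +kernel)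

theorem s18_402 : Good C (vlist C) (v18 C) 3788 :=
  good_seed C (f9577 C) 3788 [126, 159, 173] (v18_mem C) (by decide +kernel) (by decide +kernel)

theorem s18_403 : Good C (vlist C) (v18 C) 462 :=
  good_seed C (f11640 C) 462 [142, 151, 169, 175] (v18_mem C) (by decide +kernel) (by decide +kernel)

theorem s18_404 : Good C (vlist C) (v18 C) 463 :=
  good_seed C (f13769 C) 463 [142, 149, 170, 176, 178] (v17_mem C) (by decide +kernel) (by decide +kernel)

theorem s18_405 : Good C (vlist C) (v18 C) 2346 :=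
  good_seed C (f7833 C) 2346 [136, 158, 170, 174, 177] (v17_mem C) (by decide +kernel) (by decide +kernel)

theorem s18_406 : Good C (vlist C) (v18 C) 465 :=
  good_seed C (f13928 C) 465 [133, 151, 168, 174, 177] (v18_mem C) (by decide +kernel) (by decide +kernel)

theorem s18_407 : Good C (vlist C) (v18 C) 2848 :=
  good_seed C (f14067 C) 2848 [147, 162, 175, 177] (v18_mem C) (by decide +kernel) (by decide +kernel)

theorem s18_408 : Good C (vlist C) (v18 C) 1941 :=
  good_seed C (f11676 C) 1941 [128, 153, 169, 171, 177] (v18_mem C) (by decide +kernel) (by decide +kernel)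

theorem s18_409 : Good C (vlist C) (v18 C) 777 :=
  good_seed C (f10778 C) 777 [129, 156, 169, 176, 178] (v18_mem C) (by decide +kernel) (by decide +kernel)

theorem s18_410 : Good C (vlist C) (v18 C) 469 :=
  good_seed C (f10482 C) 469 [132, 149, 166, 172] (v15_mem C) (by decide +kernel) (by decide +kernel)

theorem s18_411 : Good C (vlist C) (v18 C) 1046 :=
  good_seed C (f16865 C) 1046 [143, 165, 176, 177] (v19_mem C) (by decide +kernel) (by decide +kernel)

theorem s18_412 : Good C (vlist C) (v18 C) 774 :=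
  good_seed C (f12624 C) 774 [143, 151, 167, 172] (v18_mem C) (by decide +kernel) (by decide +kernel)

theorem s18_413 : Good C (vlist C) (v18 C) 3053 :=
  good_seed C (f12785 C) 3053 [137, 153, 168, 171, 178] (v17_mem C) (by decide +kernel) (by decide +kernel)

theorem s18_414 : Good C (vlist C) (v18 C) 2479 :=
  good_seed C (f14709 C) 2479 [146, 162, 164, 176, 178] (v18_mem C) (by decide +kernel) (by decide +kernel)

theorem s18_415 : Good C (vlist C) (v18 C) 477 :=
  good_seed C (f9618 C) 477 [127, 160, 170, 172] (v18_mem C) (by decide +kernel) (by decide +kernel)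

theorem s18_416 : Good C (vlist C) (v18 C) 2053 :=
  good_seed C (f8471 C) 2053 [142, 154, 175, 177] (v17_mem C) (by decide +kernel) (by decide +kernel)

theorem s18_417 : Good C (vlist C) (v18 C) 480 :=
  good_seed C (f9183 C) 480 [144, 152, 168, 173, 177] (v3_mem C) (by decide +kernel) (by decide +kernel)

theorem s18_418 : Good C (vlist C) (v18 C) 3720 :=
  good_seed C (f14386 C) 3720 [128, 153, 168, 173] (v17_mem C) (by decide +kernel) (by decide +kernel)

theorem s18_419 : Good C (vlist C) (v18 C) 1650 :=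
  good_seed C (f9538 C) 1650 [143, 157, 165, 176, 178] (v17_mem C) (by decide +kernel) (by decide +kernel)

theorem s18_420 : Good C (vlist C) (v18 C) 1732 :=
  good_seed C (f7519 C) 1732 [136, 162, 166, 172, 177] (v4_mem C) (by decide +kernel) (by decide +kernel)

theorem s18_421 : Good C (vlist C) (v18 C) 485 :=
  good_seed C (f13025 C) 485 [136, 153, 166, 172] (v18_mem C) (by decide +kernel) (by decide +kernel)

theorem s18_422 : Good C (vlist C) (v18 C) 2040 :=
  good_seed C (f10321 C) 2040 [130, 159, 169, 175, 177] (v18_mem C) (by decide +kernel) (by decide +kernel)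

theorem s18_423 : Good C (vlist C) (v18 C) 2981 :=
  good_seed C (f12977 C) 2981 [144, 157, 170, 173] (v18_mem C) (by decide +kernel) (by decide +kernel)

theorem s18_424 : Good C (vlist C) (v18 C) 1021 :=
  good_seed C (f15407 C) 1021 [143, 149, 168, 174, 177] (v18_mem C) (by decide +kernel) (by decide +kernel)

theorem s18_425 : Good C (vlist C) (v18 C) 3029 :=
  good_seed C (f13667 C) 3029 [146, 161, 177] (v16_mem C) (by decide +kernel) (by decide +kernel)

theorem s18_426 : Good C (vlist C) (v18 C) 490 :=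
  good_seed C (f13589 C) 490 [134, 169, 175, 178] (v15_mem C) (by decide +kernel) (by decide +kernel)

theorem s18_427 : Good C (vlist C) (v18 C) 3261 :=
  good_seed C (f14009 C) 3261 [129, 155, 169, 172, 178] (v18_mem C) (by decide +kernel) (by decide +kernel)

theorem s18_428 : Good C (vlist C) (v18 C) 3352 :=
  good_seed C (f12926 C) 3352 [126, 157, 167, 171, 177] (v17_mem C) (by decide +kernel) (by decide +kernel)

theorem s18_429 : Good C (vlist C) (v18 C) 3382 :=
  good_seed C (f8064 C) 3382 [128, 154, 169, 178] (v17_mem C) (by decide +kernel) (by decide +kernel)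

theorem s18_430 : Good C (vlist C) (v18 C) 1871 :=
  good_seed C (f9673 C) 1871 [142, 163, 175, 177] (v18_mem C) (by decide +kernel) (by decide +kernel)

theorem s18_431 : Good C (vlist C) (v18 C) 711 :=
  good_seed C (f11397 C) 711 [138, 160, 166, 174, 177] (v17_mem C) (by decide +kernel) (by decide +kernel)

theorem s18_432 : Good C (vlist C) (v18 C) 2964 :=
  good_seed C (f9646 C) 2964 [137, 150, 165, 177] (v18_mem C) (by decide +kernel) (by decide +kernel)

theorem s18_433 : Good C (vlist C) (v18 C) 499 :=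
  good_seed C (f8739 C) 499 [129, 156, 167, 174, 177] (v15_mem C) (by decide +kernel) (by decide +kernel)

theorem s18_434 : Good C (vlist C) (v18 C) 502 :=
  good_seed C (f13580 C) 502 [134, 151, 167, 174] (v15_mem C) (by decide +kernel) (by decide +kernel)

theorem s18_435 : Good C (vlist C) (v18 C) 1280 :=
  good_seed C (f10667 C) 1280 [139, 161, 167, 171, 178] (v17_mem C) (by decide +kernel) (by decide +kernel)

theorem s18_436 : Good C (vlist C) (v18 C) 504 :=
  good_seed C (f12917 C) 504 [139, 153, 167, 175, 177] (v18_mem C) (by decide +kernel) (by decide +kernel)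

theorem s18_437 : Good C (vlist C) (v18 C) 2895 :=
  good_seed C (f13176 C) 2895 [141, 149, 173, 177] (v15_mem C) (by decide +kernel) (by decide +kernel)

theorem s18_438 : Good C (vlist C) (v18 C) 743 :=
  good_seed C (f12189 C) 743 [142, 154, 166, 176, 178] (v17_mem C) (by decide +kernel) (by decide +kernel)

theorem s18_439 : Good C (vlist C) (v18 C) 507 :=
  good_seed C (f10392 C) 507 [126, 158, 165] (v15_mem C) (by decide +kernel) (by decide +kernel)

theorem s18_440 : Good C (vlist C) (v18 C) 509 :=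
  good_seed C (f9198 C) 509 [147, 160, 168, 172, 177] (v15_mem C) (by decide +kernel) (by decide +kernel)

theorem s18_441 : Good C (vlist C) (v18 C) 510 :=
  good_seed C (f10339 C) 510 [143, 168, 176] (v18_mem C) (by decide +kernel) (by decide +kernel)

theorem s18_442 : Good C (vlist C) (v18 C) 2111 :=
  good_seed C (f10093 C) 2111 [133, 161, 164, 177] (v18_mem C) (by decide +kernel) (by decide +kernel)

theorem s18_443 : Good C (vlist C) (v18 C) 704 :=
  good_seed C (f11836 C) 704 [136, 158, 172] (v17_mem C) (by decide +kernel) (by decide +kernel)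

theorem s18_444 : Good C (vlist C) (v18 C) 2512 :=
  good_seed C (f7358 C) 2512 [134, 159, 165, 174, 178] (v15_mem C) (by decide +kernel) (by decide +kernel)

theorem s18_445 : Good C (vlist C) (v18 C) 1570 :=
  good_seed C (f16212 C) 1570 [129, 155, 165, 172, 178] (v19_mem C) (by decide +kernel) (by decide +kernel)

theorem s18_446 : Good C (vlist C) (v18 C) 515 :=
  good_seed C (f8298 C) 515 [127, 163, 167] (v4_mem C) (by decide +kernel) (by decide +kernel)

theorem s18_447 : Good C (vlist C) (v18 C) 516 :=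
  good_seed C (f14149 C) 516 [138, 150, 165, 176, 178] (v15_mem C) (by decide +kernel) (by decide +kernel)

theorem s18_448 : Good C (vlist C) (v18 C) 1562 :=
  good_seed C (f14800 C) 1562 [132, 152, 164, 175, 178] (v18_mem C) (by decide +kernel) (by decide +kernel)

theorem s18_449 : Good C (vlist C) (v18 C) 1219 :=
  good_seed C (f14679 C) 1219 [126, 151, 165, 176] (v17_mem C) (by decide +kernel) (by decide +kernel)

theorem s18_450 : Good C (vlist C) (v18 C) 519 :=
  good_seed C (f10293 C) 519 [161, 167, 176] (v18_mem C) (by decide +kernel) (by decide +kernel)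

theorem s18_451 : Good C (vlist C) (v18 C) 934 :=
  good_seed C (f15503 C) 934 [131, 160, 171, 178] (v18_mem C) (by decide +kernel) (by decide +kernel)

theorem s18_452 : Good C (vlist C) (v18 C) 523 :=
  good_seed C (f6912 C) 523 [127, 149, 175] (v3_mem C) (by decide +kernel) (by decide +kernel)

theorem s18_453 : Good C (vlist C) (v18 C) 3116 :=
  good_seed C (f13033 C) 3116 [138, 163, 167, 172] (v18_mem C) (by decide +kernel) (by decide +kernel)

theorem s18_454 : Good C (vlist C) (v18 C) 655 :=
  good_seed C (f6880 C) 655 [135, 159, 169, 173] (v4_mem C) (by decide +kernel) (by decide +kernel)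

theorem s18_455 : Good C (vlist C) (v18 C) 527 :=
  good_seed C (f15489 C) 527 [148, 157, 169, 171] (v18_mem C) (by decide +kernel) (by decide +kernel)

theorem s18_456 : Good C (vlist C) (v18 C) 3785 :=
  good_seed C (f11423 C) 3785 [145, 156, 165, 175, 178] (v18_mem C) (by decide +kernel) (by decide +kernel)

theorem s18_457 : Good C (vlist C) (v18 C) 530 :=
  good_seed C (f13774 C) 530 [132, 153, 165, 174, 177] (v17_mem C) (by decide +kernel) (by decide +kernel)

theorem s18_458 : Good C (vlist C) (v18 C) 1442 :=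
  good_seed C (f14667 C) 1442 [141, 153, 170, 173, 177] (v18_mem C) (by decide +kernel) (by decide +kernel)

theorem s18_459 : Good C (vlist C) (v18 C) 534 :=
  good_seed C (f14262 C) 534 [136, 153, 169, 176, 178] (v18_mem C) (by decide +kernel) (by decide +kernel)

theorem s18_460 : Good C (vlist C) (v18 C) 2083 :=
  good_seed C (f8002 C) 2083 [132, 163, 167, 172, 178] (v18_mem C) (by decide +kernel) (by decide +kernel)

theorem s18_461 : Good C (vlist C) (v18 C) 3259 :=
  good_seed C (f9938 C) 3259 [128, 157, 175, 177] (v17_mem C) (by decide +kernel) (by decide +kernel)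

theorem s18_462 : Good C (vlist C) (v18 C) 1313 :=
  good_seed C (f10350 C) 1313 [139, 159, 168, 178] (v17_mem C) (by decide +kernel) (by decide +kernel)

theorem s18_463 : Good C (vlist C) (v18 C) 924 :=
  good_seed C (f9570 C) 924 [128, 162, 173] (v18_mem C) (by decide +kernel) (by decide +kernel)

theorem s18_464 : Good C (vlist C) (v18 C) 540 :=
  good_seed C (f7089 C) 540 [134, 160, 173, 178] (v18_mem C) (by decide +kernel) (by decide +kernel)

theorem s18_465 : Good C (vlist C) (v18 C) 2459 :=
  good_seed C (f12831 C) 2459 [135, 153, 170] (v18_mem C) (by decide +kernel) (by decide +kernel)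

theorem s18_466 : Good C (vlist C) (v18 C) 1066 :=
  good_seed C (f10848 C) 1066 [147, 160, 168, 174] (v17_mem C) (by decide +kernel) (by decide +kernel)

theorem s18_467 : Good C (vlist C) (v18 C) 3429 :=
  good_seed C (f12568 C) 3429 [141, 153, 168, 178] (v18_mem C) (by decide +kernel) (by decide +kernel)

theorem s18_468 : Good C (vlist C) (v18 C) 1674 :=
  good_seed C (f12941 C) 1674 [130, 158, 170, 173] (v16_mem C) (by decide +kernel) (by decide +kernel)

theorem s18_469 : Good C (vlist C) (v18 C) 545 :=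
  good_seed C (f10772 C) 545 [133, 161, 166, 172, 177] (v17_mem C) (by decide +kernel) (by decide +kernel)

theorem s18_470 : Good C (vlist C) (v18 C) 546 :=
  good_seed C (f13946 C) 546 [128, 161, 170, 178] (v18_mem C) (by decide +kernel) (by decide +kernel)

theorem s18_471 : Good C (vlist C) (v18 C) 2932 :=
  good_seed C (f11631 C) 2932 [145, 156, 170, 176, 177] (v18_mem C) (by decide +kernel) (by decide +kernel)

theorem s18_472 : Good C (vlist C) (v18 C) 1779 :=
  good_seed C (f15751 C) 1779 [142, 162, 165, 173, 177] (v19_mem C) (by decide +kernel) (by decide +kernel)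

theorem s18_473 : Good C (vlist C) (v18 C) 1087 :=
  good_seed C (f9844 C) 1087 [131, 155, 169, 176, 178] (v18_mem C) (by decide +kernel) (by decide +kernel)

theorem s18_474 : Good C (vlist C) (v18 C) 2503 :=
  good_seed C (f14052 C) 2503 [134, 160, 169, 176, 178] (v18_mem C) (by decide +kernel) (by decide +kernel)

theorem s18_475 : Good C (vlist C) (v18 C) 553 :=
  good_seed C (f13105 C) 553 [132, 168, 175, 178] (v18_mem C) (by decide +kernel) (by decide +kernel)

theorem s18_476 : Good C (vlist C) (v18 C) 2729 :=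
  good_seed C (f14031 C) 2729 [140, 157, 170, 174] (v18_mem C) (by decide +kernel) (by decide +kernel)

theorem s18_477 : Good C (vlist C) (v18 C) 799 :=
  good_seed C (f15470 C) 799 [146, 153, 169, 172] (v18_mem C) (by decide +kernel) (by decide +kernel)

theorem s18_478 : Good C (vlist C) (v18 C) 3523 :=
  good_seed C (f9665 C) 3523 [145, 155, 169, 175, 178] (v18_mem C) (by decide +kernel) (by decide +kernel)

theorem s18_479 : Good C (vlist C) (v18 C) 3791 :=
  good_seed C (f9140 C) 3791 [130, 162, 168, 173, 178] (v18_mem C) (by decide +kernel) (by decide +kernel)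

theorem s18_480 : Good C (vlist C) (v18 C) 560 :=
  good_seed C (f15372 C) 560 [146, 151, 172] (v18_mem C) (by decide +kernel) (by decide +kernel)

theorem s18_481 : Good C (vlist C) (v18 C) 562 :=
  good_seed C (f11150 C) 562 [161, 164, 175] (v18_mem C) (by decide +kernel) (by decide +kernel)

theorem s18_482 : Good C (vlist C) (v18 C) 565 :=
  good_seed C (f8900 C) 565 [132, 157, 170, 175] (v15_mem C) (by decide +kernel) (by decide +kernel)

theorem s18_483 : Good C (vlist C) (v18 C) 566 :=
  good_seed C (f13436 C) 566 [128, 161, 167, 175, 178] (v18_mem C) (by decide +kernel) (by decide +kernel)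

theorem s18_484 : Good C (vlist C) (v18 C) 3082 :=
  good_seed C (f11694 C) 3082 [135, 161, 169, 174] (v18_mem C) (by decide +kernel) (by decide +kernel)

theorem s18_485 : Good C (vlist C) (v18 C) 2246 :=
  good_seed C (f13987 C) 2246 [127, 161, 167, 176] (v18_mem C) (by decide +kernel) (by decide +kernel)

theorem s18_486 : Good C (vlist C) (v18 C) 2861 :=
  good_seed C (f13314 C) 2861 [139, 157, 164, 172, 177] (v18_mem C) (by decide +kernel) (by decide +kernel)

theorem s18_487 : Good C (vlist C) (v18 C) 3388 :=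
  good_seed C (f11362 C) 3388 [133, 170, 174] (v18_mem C) (by decide +kernel) (by decide +kernel)

theorem s18_488 : Good C (vlist C) (v18 C) 571 :=
  good_seed C (f15875 C) 571 [145, 149, 165, 175, 177] (v19_mem C) (by decide +kernel) (by decide +kernel)

theorem s18_489 : Good C (vlist C) (v18 C) 572 :=
  good_seed C (f13188 C) 572 [133, 162, 173] (v18_mem C) (by decide +kernel) (by decide +kernel)

theorem s18_490 : Good C (vlist C) (v18 C) 3100 :=
  good_seed C (f11196 C) 3100 [132, 155, 168, 176] (v15_mem C) (by decide +kernel) (by decide +kernel)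

theorem s18_491 : Good C (vlist C) (v18 C) 576 :=
  good_seed C (f9874 C) 576 [143, 162, 166, 175, 178] (v2_mem C) (by decide +kernel) (by decide +kernel)

theorem s18_492 : Good C (vlist C) (v18 C) 2357 :=
  good_seed C (f10435 C) 2357 [126, 158, 164] (v18_mem C) (by decide +kernel) (by decide +kernel)

theorem s18_493 : Good C (vlist C) (v18 C) 2310 :=
  good_seed C (f12354 C) 2310 [151, 166, 172, 177] (v18_mem C) (by decide +kernel) (by decide +kernel)

theorem s18_494 : Good C (vlist C) (v18 C) 3689 :=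
  good_seed C (f14883 C) 3689 [139, 160, 167, 172] (v18_mem C) (by decide +kernel) (by decide +kernel)

theorem s18_495 : Good C (vlist C) (v18 C) 1790 :=
  good_seed C (f13628 C) 1790 [127, 152, 170, 176, 178] (v16_mem C) (by decide +kernel) (by decide +kernel)

theorem s18_496 : Good C (vlist C) (v18 C) 1412 :=
  good_seed C (f9474 C) 1412 [139, 156, 176, 178] (v18_mem C) (by decide +kernel) (by decide +kernel)

theorem s18_497 : Good C (vlist C) (v18 C) 584 :=
  good_seed C (f16002 C) 584 [134, 152, 168, 172] (v19_mem C) (by decide +kernel) (by decide +kernel)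

theorem s18_498 : Good C (vlist C) (v18 C) 585 :=
  good_seed C (f8924 C) 585 [142, 162, 168, 177] (v18_mem C) (by decide +kernel) (by decide +kernel)

theorem s18_499 : Good C (vlist C) (v18 C) 2909 :=
  good_seed C (f9757 C) 2909 [135, 154, 169, 176] (v17_mem C) (by decide +kernel) (by decide +kernel)

theorem s18_500 : Good C (vlist C) (v18 C) 587 :=
  good_seed C (f7144 C) 587 [146, 155, 167, 173] (v4_mem C) (by decide +kernel) (by decide +kernel)

theorem s18_501 : Good C (vlist C) (v18 C) 3339 :=
  good_seed C (f9672 C) 3339 [145, 156, 169, 174, 178] (v18_mem C) (by decide +kernel) (by decide +kernel)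

theorem s18_502 : Good C (vlist C) (v18 C) 1919 :=
  good_seed C (f14285 C) 1919 [146, 151, 170, 172] (v18_mem C) (by decide +kernel) (by decide +kernel)

theorem s18_503 : Good C (vlist C) (v18 C) 592 :=
  good_seed C (f13846 C) 592 [146, 162, 167, 172, 178] (v18_mem C) (by decide +kernel) (by decide +kernel)

theorem s18_504 : Good C (vlist C) (v18 C) 2163 :=
  good_seed C (f11552 C) 2163 [139, 151, 167, 174, 178] (v17_mem C) (by decide +kernel) (by decide +kernel)

theorem s18_505 : Good C (vlist C) (v18 C) 1923 :=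
  good_seed C (f15020 C) 1923 [134, 153, 170, 176, 178] (v16_mem C) (by decide +kernel) (by decide +kernel)

theorem s18_506 : Good C (vlist C) (v18 C) 597 :=
  good_seed C (f11561 C) 597 [135, 156, 164, 173, 178] (v18_mem C) (by decide +kernel) (by decide +kernel)

theorem s18_507 : Good C (vlist C) (v18 C) 598 :=
  good_seed C (f16305 C) 598 [135, 159, 166, 172, 177] (v19_mem C) (by decide +kernel) (by decide +kernel)

theorem s18_508 : Good C (vlist C) (v18 C) 790 :=
  good_seed C (f9666 C) 790 [140, 152, 173, 177] (v18_mem C) (by decide +kernel) (by decide +kernel)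

theorem s18_509 : Good C (vlist C) (v18 C) 2917 :=
  good_seed C (f7725 C) 2917 [135, 160, 166, 175] (v17_mem C) (by decide +kernel) (by decide +kernel)

theorem s18_510 : Good C (vlist C) (v18 C) 3607 :=
  good_seed C (f13336 C) 3607 [138, 150, 173, 177] (v18_mem C) (by decide +kernel) (by decide +kernel)

theorem s18_511 : Good C (vlist C) (v18 C) 2627 :=
  good_seed C (f10787 C) 2627 [132, 164, 174] (v17_mem C) (by decide +kernel) (by decide +kernel)

theorem s18_512 : Good C (vlist C) (v18 C) 1449 :=
  good_seed C (f12909 C) 1449 [142, 149, 165, 174, 177] (v15_mem C) (by decide +kernel) (by decide +kernel)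

theorem s18_513 : Good C (vlist C) (v18 C) 1600 :=
  good_seed C (f11872 C) 1600 [128, 158, 169, 177] (v18_mem C) (by decide +kernel) (by decide +kernel)

theorem s18_514 : Good C (vlist C) (v18 C) 607 :=
  good_seed C (f9336 C) 607 [137, 151, 164] (v17_mem C) (by decide +kernel) (by decide +kernel)

theorem s18_515 : Good C (vlist C) (v18 C) 3235 :=
  good_seed C (f15168 C) 3235 [138, 163, 164, 172, 178] (v17_mem C) (by decide +kernel) (by decide +kernel)

theorem s18_516 : Good C (vlist C) (v18 C) 1549 :=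
  good_seed C (f9677 C) 1549 [154, 170, 175, 178] (v18_mem C) (by decide +kernel) (by decide +kernel)

theorem s18_517 : Good C (vlist C) (v18 C) 716 :=
  good_seed C (f8806 C) 716 [144, 156, 168, 172, 177] (v15_mem C) (by decide +kernel) (by decide +kernel)

theorem s18_518 : Good C (vlist C) (v18 C) 764 :=
  good_seed C (f12444 C) 764 [136, 149, 169, 171] (v17_mem C) (by decide +kernel) (by decide +kernel)

theorem s18_519 : Good C (vlist C) (v18 C) 613 :=
  good_seed C (f14760 C) 613 [144, 158, 170, 173] (v18_mem C) (by decide +kernel) (by decide +kernel)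

theorem s18_520 : Good C (vlist C) (v18 C) 614 :=
  good_seed C (f14082 C) 614 [146, 160, 175, 178] (v10_mem C) (by decide +kernel) (by decide +kernel)

theorem s18_521 : Good C (vlist C) (v18 C) 3630 :=
  good_seed C (f7933 C) 3630 [130, 157, 166, 172] (v18_mem C) (by decide +kernel) (by decide +kernel)

theorem s18_522 : Good C (vlist C) (v18 C) 3106 :=
  good_seed C (f10271 C) 3106 [160, 169] (v15_mem C) (by decide +kernel) (by decide +kernel)

theorem s18_523 : Good C (vlist C) (v18 C) 3245 :=
  good_seed C (f15884 C) 3245 [130, 160, 167, 176] (v19_mem C) (by decide +kernel) (by decide +kernel)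

theorem s18_524 : Good C (vlist C) (v18 C) 618 :=
  good_seed C (f8844 C) 618 [140, 160, 167, 173, 178] (v17_mem C) (by decide +kernel) (by decide +kernel)

theorem s18_525 : Good C (vlist C) (v18 C) 619 :=
  good_seed C (f15781 C) 619 [132, 163, 169, 174] (v19_mem C) (by decide +kernel) (by decide +kernel)

theorem s18_526 : Good C (vlist C) (v18 C) 620 :=
  good_seed C (f9597 C) 620 [156, 168, 176] (v18_mem C) (by decide +kernel) (by decide +kernel)

theorem s18_527 : Good C (vlist C) (v18 C) 622 :=
  good_seed C (f8558 C) 622 [127, 157, 167, 175, 177] (v18_mem C) (by decide +kernel) (by decide +kernel)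

theorem s18_528 : Good C (vlist C) (v18 C) 1848 :=
  good_seed C (f11727 C) 1848 [146, 167, 177] (v18_mem C) (by decide +kernel) (by decide +kernel)

theorem s18_529 : Good C (vlist C) (v18 C) 923 :=
  good_seed C (f15603 C) 923 [137, 155, 166, 174] (v19_mem C) (by decide +kernel) (by decide +kernel)

theorem s18_530 : Good C (vlist C) (v18 C) 625 :=
  good_seed C (f12082 C) 625 [139, 159, 168, 174] (v18_mem C) (by decide +kernel) (by decide +kernel)

theorem s18_531 : Good C (vlist C) (v18 C) 1445 :=
  good_seed C (f12823 C) 1445 [143, 153, 176, 178] (v15_mem C) (by decide +kernel) (by decide +kernel)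

theorem s18_532 : Good C (vlist C) (v18 C) 3578 :=
  good_seed C (f11745 C) 3578 [155, 164, 177] (v15_mem C) (by decide +kernel) (by decide +kernel)

theorem s18_533 : Good C (vlist C) (v18 C) 782 :=
  good_seed C (f7019 C) 782 [137, 160, 167, 174, 178] (v17_mem C) (by decide +kernel) (by decide +kernel)

theorem s18_534 : Good C (vlist C) (v18 C) 630 :=
  good_seed C (f8517 C) 630 [156, 169, 174, 178] (v4_mem C) (by decide +kernel) (by decide +kernel)

theorem s18_535 : Good C (vlist C) (v18 C) 3627 :=
  good_seed C (f13082 C) 3627 [127, 154, 164, 172] (v18_mem C) (by decide +kernel) (by decide +kernel)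

theorem s18_536 : Good C (vlist C) (v18 C) 2778 :=
  good_seed C (f7658 C) 2778 [128, 162, 166, 171] (v18_mem C) (by decide +kernel) (by decide +kernel)

theorem s18_537 : Good C (vlist C) (v18 C) 1353 :=
  good_seed C (f12900 C) 1353 [131, 152, 166, 178] (v18_mem C) (by decide +kernel) (by decide +kernel)

theorem s18_538 : Good C (vlist C) (v18 C) 638 :=
  good_seed C (f11964 C) 638 [127, 162, 168, 174] (v18_mem C) (by decide +kernel) (by decide +kernel)

theorem s18_539 : Good C (vlist C) (v18 C) 1083 :=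
  good_seed C (f13183 C) 1083 [145, 155, 164, 171] (v15_mem C) (by decide +kernel) (by decide +kernel)

theorem s18_540 : Good C (vlist C) (v18 C) 640 :=
  good_seed C (f10539 C) 640 [141, 160, 168] (v15_mem C) (by decide +kernel) (by decide +kernel)

theorem s18_541 : Good C (vlist C) (v18 C) 1278 :=
  good_seed C (f10170 C) 1278 [141, 150, 167, 174, 178] (v18_mem C) (by decide +kernel) (by decide +kernel)

theorem s18_542 : Good C (vlist C) (v18 C) 643 :=
  good_seed C (f15798 C) 643 [146, 150, 164, 178] (v19_mem C) (by decide +kernel) (by decide +kernel)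

theorem s18_543 : Good C (vlist C) (v18 C) 1662 :=
  good_seed C (f15570 C) 1662 [138, 161, 172, 177] (v19_mem C) (by decide +kernel) (by decide +kernel)

theorem s18_544 : Good C (vlist C) (v18 C) 3705 :=
  good_seed C (f11203 C) 3705 [128, 160, 167, 174] (v18_mem C) (by decide +kernel) (by decide +kernel)

theorem s18_545 : Good C (vlist C) (v18 C) 776 :=
  good_seed C (f9619 C) 776 [137, 153, 171, 177] (v18_mem C) (by decide +kernel) (by decide +kernel)

theorem s18_546 : Good C (vlist C) (v18 C) 649 :=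
  good_seed C (f9510 C) 649 [139, 149, 165, 172, 178] (v18_mem C) (by decide +kernel) (by decide +kernel)

theorem s18_547 : Good C (vlist C) (v18 C) 1646 :=
  good_seed C (f13500 C) 1646 [158, 169, 171, 178] (v6_mem C) (by decide +kernel) (by decide +kernel)

theorem s18_548 : Good C (vlist C) (v18 C) 1811 :=
  good_seed C (f7861 C) 1811 [128, 155, 165, 173, 178] (v4_mem C) (by decide +kernel) (by decide +kernel)

theorem s18_549 : Good C (vlist C) (v18 C) 914 :=
  good_seed C (f12383 C) 914 [136, 166, 175] (v16_mem C) (by decide +kernel) (by decide +kernel)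

theorem s18_550 : Good C (vlist C) (v18 C) 1709 :=
  good_seed C (f15104 C) 1709 [132, 167, 174, 177] (v18_mem C) (by decide +kernel) (by decide +kernel)

theorem s18_551 : Good C (vlist C) (v18 C) 1560 :=
  good_seed C (f10408 C) 1560 [146, 151, 164, 173, 178] (v18_mem C) (by decide +kernel) (by decide +kernel)

theorem s18_552 : Good C (vlist C) (v18 C) 2416 :=
  good_seed C (f15359 C) 2416 [138, 169, 171, 177] (v18_mem C) (by decide +kernel) (by decide +kernel)

theorem s18_553 : Good C (vlist C) (v18 C) 3326 :=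
  good_seed C (f10399 C) 3326 [143, 160, 164, 173] (v15_mem C) (by decide +kernel) (by decide +kernel)

theorem s18_554 : Good C (vlist C) (v18 C) 666 :=
  good_seed C (f11615 C) 666 [144, 163, 167, 173, 177] (v17_mem C) (by decide +kernel) (by decide +kernel)

theorem s18_555 : Good C (vlist C) (v18 C) 668 :=
  good_seed C (f16727 C) 668 [146, 161, 173, 178] (v19_mem C) (by decide +kernel) (by decide +kernel)

theorem s18_556 : Good C (vlist C) (v18 C) 669 :=
  good_seed C (f10308 C) 669 [128, 162, 168, 171] (v15_mem C) (by decide +kernel) (by decide +kernel)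

theorem s18_557 : Good C (vlist C) (v18 C) 3381 :=
  good_seed C (f8273 C) 3381 [143, 155, 177] (v15_mem C) (by decide +kernel) (by decide +kernel)

theorem s18_558 : Good C (vlist C) (v18 C) 671 :=
  good_seed C (f8358 C) 671 [145, 159, 167, 175, 177] (v17_mem C) (by decide +kernel) (by decide +kernel)

theorem s18_559 : Good C (vlist C) (v18 C) 995 :=
  good_seed C (f7032 C) 995 [133, 155, 165, 175, 178] (v18_mem C) (by decide +kernel) (by decide +kernel)

theorem s18_560 : Good C (vlist C) (v18 C) 3420 :=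
  good_seed C (f9107 C) 3420 [146, 151, 167, 175] (v18_mem C) (by decide +kernel) (by decide +kernel)

theorem s18_561 : Good C (vlist C) (v18 C) 675 :=
  good_seed C (f11290 C) 675 [139, 161, 167, 178] (v15_mem C) (by decide +kernel) (by decide +kernel)

theorem s18_562 : Good C (vlist C) (v18 C) 3782 :=
  good_seed C (f13995 C) 3782 [140, 159, 172] (v18_mem C) (by decide +kernel) (by decide +kernel)

theorem s18_563 : Good C (vlist C) (v18 C) 3606 :=
  good_seed C (f10984 C) 3606 [146, 154, 168, 174] (v18_mem C) (by decide +kernel) (by decide +kernel)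

theorem s18_564 : Good C (vlist C) (v18 C) 732 :=
  good_seed C (f16733 C) 732 [133, 155, 170, 172] (v19_mem C) (by decide +kernel) (by decide +kernel)

theorem s18_565 : Good C (vlist C) (v18 C) 679 :=
  good_seed C (f9502 C) 679 [147, 154, 169, 171, 178] (v15_mem C) (by decide +kernel) (by decide +kernel)

theorem s18_566 : Good C (vlist C) (v18 C) 680 :=
  good_seed C (f14579 C) 680 [138, 152, 170, 175, 177] (v17_mem C) (by decide +kernel) (by decide +kernel)

theorem s18_567 : Good C (vlist C) (v18 C) 681 :=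
  good_seed C (f11990 C) 681 [148, 149, 166, 171, 177] (v18_mem C) (by decide +kernel) (by decide +kernel)

theorem s18_568 : Good C (vlist C) (v18 C) 2573 :=
  good_seed C (f8653 C) 2573 [132, 158, 176] (v5_mem C) (by decide +kernel) (by decide +kernel)

theorem s18_569 : Good C (vlist C) (v18 C) 3265 :=
  good_seed C (f14088 C) 3265 [135, 154, 167, 173] (v18_mem C) (by decide +kernel) (by decide +kernel)

theorem s18_570 : Good C (vlist C) (v18 C) 849 :=
  good_seed C (f11004 C) 849 [131, 151, 168, 171, 177] (v17_mem C) (by decide +kernel) (by decide +kernel)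

theorem s18_571 : Good C (vlist C) (v18 C) 2541 :=
  good_seed C (f10731 C) 2541 [126, 150, 171] (v17_mem C) (by decide +kernel) (by decide +kernel)

theorem s18_572 : Good C (vlist C) (v18 C) 3565 :=
  good_seed C (f10558 C) 3565 [134, 162, 166, 177] (v17_mem C) (by decide +kernel) (by decide +kernel)

theorem s18_573 : Good C (vlist C) (v18 C) 691 :=
  good_seed C (f13679 C) 691 [128, 158, 164, 176, 178] (v16_mem C) (by decide +kernel) (by decide +kernel)

theorem s18_574 : Good C (vlist C) (v18 C) 2020 :=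
  good_seed C (f14984 C) 2020 [141, 153, 168, 173] (v16_mem C) (by decide +kernel) (by decide +kernel)

theorem s18_575 : Good C (vlist C) (v18 C) 2962 :=
  good_seed C (f9141 C) 2962 [134, 152, 164, 171, 178] (v18_mem C) (by decide +kernel) (by decide +kernel)

theorem s18_576 : Good C (vlist C) (v18 C) 2539 :=
  good_seed C (f7636 C) 2539 [141, 153] (v15_mem C) (by decide +kernel) (by decide +kernel)

theorem s18_577 : Good C (vlist C) (v18 C) 3417 :=
  good_seed C (f9079 C) 3417 [135, 156, 164, 174] (v18_mem C) (by decide +kernel) (by decide +kernel)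

theorem s18_578 : Good C (vlist C) (v18 C) 703 :=
  good_seed C (f9386 C) 703 [140, 154, 169, 175, 178] (v17_mem C) (by decide +kernel) (by decide +kernel)

theorem s18_579 : Good C (vlist C) (v18 C) 1328 :=
  good_seed C (f10436 C) 1328 [138, 155, 169, 173, 177] (v18_mem C) (by decide +kernel) (by decide +kernel)

theorem s18_580 : Good C (vlist C) (v18 C) 707 :=
  good_seed C (f9660 C) 707 [128, 161, 169, 171, 177] (v18_mem C) (by decide +kernel) (by decide +kernel)

theorem s18_581 : Good C (vlist C) (v18 C) 708 :=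
  good_seed C (f6903 C) 708 [153, 166, 172] (v3_mem C) (by decide +kernel) (by decide +kernel)

theorem s18_582 : Good C (vlist C) (v18 C) 3571 :=
  good_seed C (f8963 C) 3571 [126, 154, 167, 175] (v18_mem C) (by decide +kernel) (by decide +kernel)

theorem s18_583 : Good C (vlist C) (v18 C) 917 :=
  good_seed C (f8338 C) 917 [132, 164, 176] (v4_mem C) (by decide +kernel) (by decide +kernel)

theorem s18_584 : Good C (vlist C) (v18 C) 2467 :=
  good_seed C (f9167 C) 2467 [127, 156, 164, 173, 178] (v18_mem C) (by decide +kernel) (by decide +kernel)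

theorem s18_585 : Good C (vlist C) (v18 C) 714 :=
  good_seed C (f8003 C) 714 [140, 153, 170, 174] (v18_mem C) (by decide +kernel) (by decide +kernel)

theorem s18_586 : Good C (vlist C) (v18 C) 715 :=
  good_seed C (f13160 C) 715 [127, 162, 169, 175, 177] (v18_mem C) (by decide +kernel) (by decide +kernel)

theorem s18_587 : Good C (vlist C) (v18 C) 1395 :=
  good_seed C (f13740 C) 1395 [134, 162, 165, 177] (v17_mem C) (by decide +kernel) (by decide +kernel)

theorem s18_588 : Good C (vlist C) (v18 C) 2392 :=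
  good_seed C (f14024 C) 2392 [131, 166, 173] (v18_mem C) (by decide +kernel) (by decide +kernel)

theorem s18_589 : Good C (vlist C) (v18 C) 722 :=
  good_seed C (f8589 C) 722 [141, 159, 169, 175] (v17_mem C) (by decide +kernel) (by decide +kernel)

theorem s18_590 : Good C (vlist C) (v18 C) 3780 :=
  good_seed C (f15737 C) 3780 [156, 168, 172, 177] (v19_mem C) (by decide +kernel) (by decide +kernel)

theorem s18_591 : Good C (vlist C) (v18 C) 3416 :=
  good_seed C (f14160 C) 3416 [138, 158, 169, 175] (v16_mem C) (by decide +kernel) (by decide +kernel)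

theorem s18_592 : Good C (vlist C) (v18 C) 786 :=
  good_seed C (f12633 C) 786 [145, 152, 164, 173, 178] (v18_mem C) (by decide +kernel) (by decide +kernel)

theorem s18_593 : Good C (vlist C) (v18 C) 727 :=
  good_seed C (f7711 C) 727 [137, 158, 164, 173, 177] (v18_mem C) (by decide +kernel) (by decide +kernel)

theorem s18_594 : Good C (vlist C) (v18 C) 731 :=
  good_seed C (f11853 C) 731 [158, 169, 174, 178] (v17_mem C) (by decide +kernel) (by decide +kernel)

theorem s18_595 : Good C (vlist C) (v18 C) 733 :=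
  good_seed C (f8825 C) 733 [140, 159, 166, 173, 178] (v15_mem C) (by decide +kernel) (by decide +kernel)

theorem s18_596 : Good C (vlist C) (v18 C) 3201 :=
  good_seed C (f7052 C) 3201 [139, 154, 167, 174, 178] (v18_mem C) (by decide +kernel) (by decide +kernel)

theorem s18_597 : Good C (vlist C) (v18 C) 857 :=
  good_seed C (f16738 C) 857 [128, 162, 164, 176, 177] (v19_mem C) (by decide +kernel) (by decide +kernel)

theorem s18_598 : Good C (vlist C) (v18 C) 738 :=
  good_seed C (f10570 C) 738 [158, 165, 172] (v17_mem C) (by decide +kernel) (by decide +kernel)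

theorem s18_599 : Good C (vlist C) (v18 C) 741 :=
  good_seed C (f13971 C) 741 [141, 163, 164, 171] (v18_mem C) (by decide +kernel) (by decide +kernel)

theorem s18_600 : Good C (vlist C) (v18 C) 742 :=
  good_seed C (f14410 C) 742 [146, 162, 170, 171, 177] (v18_mem C) (by decide +kernel) (by decide +kernel)

theorem s18_601 : Good C (vlist C) (v18 C) 744 :=
  good_seed C (f14097 C) 744 [127, 157, 165, 177] (v18_mem C) (by decide +kernel) (by decide +kernel)

theorem s18_602 : Good C (vlist C) (v18 C) 745 :=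
  good_seed C (f15219 C) 745 [133, 163, 169, 176, 177] (v18_mem C) (by decide +kernel) (by decide +kernel)

theorem s18_603 : Good C (vlist C) (v18 C) 747 :=
  good_seed C (f12998 C) 747 [133, 163, 165] (v18_mem C) (by decide +kernel) (by decide +kernel)

theorem s18_604 : Good C (vlist C) (v18 C) 748 :=
  good_seed C (f9253 C) 748 [144, 170, 171, 177] (v17_mem C) (by decide +kernel) (by decide +kernel)

theorem s18_605 : Good C (vlist C) (v18 C) 2142 :=
  good_seed C (f13639 C) 2142 [129, 153] (v16_mem C) (by decide +kernel) (by decide +kernel)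

theorem s18_606 : Good C (vlist C) (v18 C) 1307 :=
  good_seed C (f15976 C) 1307 [139, 154, 164, 175, 178] (v19_mem C) (by decide +kernel) (by decide +kernel)

theorem s18_607 : Good C (vlist C) (v18 C) 752 :=
  good_seed C (f12342 C) 752 [139, 163, 164, 175, 178] (v15_mem C) (by decide +kernel) (by decide +kernel)

theorem s18_608 : Good C (vlist C) (v18 C) 754 :=
  good_seed C (f12109 C) 754 [147, 156, 171, 177] (v18_mem C) (by decide +kernel) (by decide +kernel)

theorem s18_609 : Good C (vlist C) (v18 C) 2453 :=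
  good_seed C (f8773 C) 2453 [135, 162, 167, 171, 177] (v15_mem C) (by decide +kernel) (by decide +kernel)

theorem s18_610 : Good C (vlist C) (v18 C) 1955 :=
  good_seed C (f14181 C) 1955 [134, 159, 169] (v17_mem C) (by decide +kernel) (by decide +kernel)

theorem s18_611 : Good C (vlist C) (v18 C) 1681 :=
  good_seed C (f11212 C) 1681 [140, 152, 166, 175, 177] (v18_mem C) (by decide +kernel) (by decide +kernel)

theorem s18_612 : Good C (vlist C) (v18 C) 2549 :=
  good_seed C (f10653 C) 2549 [144, 162, 167, 172, 177] (v17_mem C) (by decide +kernel) (by decide +kernel)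

theorem s18_613 : Good C (vlist C) (v18 C) 1064 :=
  good_seed C (f11948 C) 1064 [141, 154, 164] (v17_mem C) (by decide +kernel) (by decide +kernel)

theorem s18_614 : Good C (vlist C) (v18 C) 766 :=
  good_seed C (f10046 C) 766 [146, 163, 170, 173] (v18_mem C) (by decide +kernel) (by decide +kernel)

theorem s18_615 : Good C (vlist C) (v18 C) 903 :=
  good_seed C (f10425 C) 903 [157, 164, 176] (v17_mem C) (by decide +kernel) (by decide +kernel)

theorem s18_616 : Good C (vlist C) (v18 C) 768 :=
  good_seed C (f9773 C) 768 [127, 155, 169] (v18_mem C) (by decide +kernel) (by decide +kernel)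

theorem s18_617 : Good C (vlist C) (v18 C) 769 :=
  good_seed C (f14359 C) 769 [147, 150, 169, 178] (v16_mem C) (by decide +kernel) (by decide +kernel)

theorem s18_618 : Good C (vlist C) (v18 C) 1868 :=
  good_seed C (f14759 C) 1868 [158, 173, 178] (v18_mem C) (by decide +kernel) (by decide +kernel)

theorem s18_619 : Good C (vlist C) (v18 C) 2455 :=
  good_seed C (f8083 C) 2455 [126, 151, 167, 175, 177] (v18_mem C) (by decide +kernel) (by decide +kernel)

theorem s18_620 : Good C (vlist C) (v18 C) 773 :=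
  good_seed C (f9260 C) 773 [138, 162, 168, 175, 178] (v17_mem C) (by decide +kernel) (by decide +kernel)

theorem s18_621 : Good C (vlist C) (v18 C) 2560 :=
  good_seed C (f9801 C) 2560 [126, 154, 172, 178] (v18_mem C) (by decide +kernel) (by decide +kernel)

theorem s18_622 : Good C (vlist C) (v18 C) 2285 :=
  good_seed C (f11624 C) 2285 [139, 165, 174, 177] (v17_mem C) (by decide +kernel) (by decide +kernel)

theorem s18_623 : Good C (vlist C) (v18 C) 780 :=
  good_seed C (f12800 C) 780 [130, 159, 164, 172, 178] (v17_mem C) (by decide +kernel) (by decide +kernel)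

theorem s18_624 : Good C (vlist C) (v18 C) 3219 :=
  good_seed C (f9772 C) 3219 [134, 156, 164, 172, 177] (v18_mem C) (by decide +kernel) (by decide +kernel)

theorem s18_625 : Good C (vlist C) (v18 C) 3072 :=
  good_seed C (f16376 C) 3072 [138, 158, 164, 174] (v19_mem C) (by decide +kernel) (by decide +kernel)

theorem s18_626 : Good C (vlist C) (v18 C) 3707 :=
  good_seed C (f10180 C) 3707 [147, 159, 166] (v18_mem C) (by decide +kernel) (by decide +kernel)

theorem s18_627 : Good C (vlist C) (v18 C) 792 :=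
  good_seed C (f13291 C) 792 [140, 155, 172] (v9_mem C) (by decide +kernel) (by decide +kernel)

theorem s18_628 : Good C (vlist C) (v18 C) 3448 :=
  good_seed C (f7168 C) 3448 [141, 160, 164, 173, 178] (v17_mem C) (by decide +kernel) (by decide +kernel)

theorem s18_629 : Good C (vlist C) (v18 C) 1370 :=
  good_seed C (f12279 C) 1370 [136, 151, 168, 173, 177] (v17_mem C) (by decide +kernel) (by decide +kernel)

theorem s18_630 : Good C (vlist C) (v18 C) 3348 :=
  good_seed C (f15643 C) 3348 [140, 156, 169, 172, 177] (v19_mem C) (by decide +kernel) (by decide +kernel)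

theorem s18_631 : Good C (vlist C) (v18 C) 2144 :=
  good_seed C (f8788 C) 2144 [146, 153, 164, 175, 177] (v15_mem C) (by decide +kernel) (by decide +kernel)

theorem s18_632 : Good C (vlist C) (v18 C) 801 :=
  good_seed C (f8154 C) 801 [145, 150, 169, 175] (v15_mem C) (by decide +kernel) (by decide +kernel)

theorem s18_633 : Good C (vlist C) (v18 C) 803 :=
  good_seed C (f14634 C) 803 [132, 151, 175] (v15_mem C) (by decide +kernel) (by decide +kernel)

theorem s18_634 : Good C (vlist C) (v18 C) 3024 :=
  good_seed C (f11728 C) 3024 [144, 158, 170, 175, 178] (v18_mem C) (by decide +kernel) (by decide +kernel)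

theorem s18_635 : Good C (vlist C) (v18 C) 806 :=
  good_seed C (f16542 C) 806 [131, 149, 173] (v19_mem C) (by decide +kernel) (by decide +kernel)

theorem s18_636 : Good C (vlist C) (v18 C) 2948 :=
  good_seed C (f9611 C) 2948 [135, 155, 165] (v18_mem C) (by decide +kernel) (by decide +kernel)

theorem s18_637 : Good C (vlist C) (v18 C) 947 :=
  good_seed C (f7076 C) 947 [133, 160, 165, 173, 177] (v15_mem C) (by decide +kernel) (by decide +kernel)

theorem s18_638 : Good C (vlist C) (v18 C) 3347 :=
  good_seed C (f9276 C) 3347 [137, 159, 167, 176, 177] (v17_mem C) (by decide +kernel) (by decide +kernel)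

theorem s18_639 : Good C (vlist C) (v18 C) 814 :=
  good_seed C (f14611 C) 814 [128, 163, 167, 172, 177] (v18_mem C) (by decide +kernel) (by decide +kernel)

theorem s18_640 : Good C (vlist C) (v18 C) 815 :=
  good_seed C (f6967 C) 815 [142, 156, 166, 175, 178] (v15_mem C) (by decide +kernel) (by decide +kernel)

theorem s18_641 : Good C (vlist C) (v18 C) 817 :=
  good_seed C (f9526 C) 817 [148, 161, 169, 172, 177] (v18_mem C) (by decide +kernel) (by decide +kernel)

theorem s18_642 : Good C (vlist C) (v18 C) 2127 :=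
  good_seed C (f12745 C) 2127 [131, 154, 168, 171] (v18_mem C) (by decide +kernel) (by decide +kernel)

theorem s18_643 : Good C (vlist C) (v18 C) 820 :=
  good_seed C (f14319 C) 820 [137, 151, 169, 176, 177] (v17_mem C) (by decide +kernel) (by decide +kernel)

theorem s18_644 : Good C (vlist C) (v18 C) 821 :=
  good_seed C (f10823 C) 821 [135, 162, 165, 176, 177] (v4_mem C) (by decide +kernel) (by decide +kernel)

theorem s18_645 : Good C (vlist C) (v18 C) 3534 :=
  good_seed C (f16081 C) 3534 [133, 167, 173] (v19_mem C) (by decide +kernel) (by decide +kernel)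

theorem s18_646 : Good C (vlist C) (v18 C) 823 :=
  good_seed C (f14768 C) 823 [144, 164, 174, 177] (v17_mem C) (by decide +kernel) (by decide +kernel)

theorem s18_647 : Good C (vlist C) (v18 C) 2501 :=
  good_seed C (f8862 C) 2501 [136, 150, 168, 171, 178] (v17_mem C) (by decide +kernel) (by decide +kernel)

theorem s18_648 : Good C (vlist C) (v18 C) 1817 :=
  good_seed C (f7854 C) 1817 [128, 162, 166, 178] (v16_mem C) (by decide +kernel) (by decide +kernel)

theorem s18_649 : Good C (vlist C) (v18 C) 1528 :=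
  good_seed C (f10995 C) 1528 [139, 162, 170, 176, 178] (v15_mem C) (by decide +kernel) (by decide +kernel)

theorem s18_650 : Good C (vlist C) (v18 C) 1259 :=
  good_seed C (f14460 C) 1259 [135, 162, 164, 171, 177] (v18_mem C) (by decide +kernel) (by decide +kernel)

theorem s18_651 : Good C (vlist C) (v18 C) 1261 :=
  good_seed C (f8710 C) 1261 [140, 157, 169, 174, 178] (v9_mem C) (by decide +kernel) (by decide +kernel)

theorem s18_652 : Good C (vlist C) (v18 C) 2686 :=
  good_seed C (f15383 C) 2686 [127, 162, 169, 173, 177] (v18_mem C) (by decide +kernel) (by decide +kernel)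

theorem s18_653 : Good C (vlist C) (v18 C) 1062 :=
  good_seed C (f8426 C) 1062 [130, 157, 164, 175, 177] (v17_mem C) (by decide +kernel) (by decide +kernel)

theorem s18_654 : Good C (vlist C) (v18 C) 3582 :=
  good_seed C (f10683 C) 3582 [130, 157, 165, 176, 177] (v18_mem C) (by decide +kernel) (by decide +kernel)

theorem s18_655 : Good C (vlist C) (v18 C) 3107 :=
  good_seed C (f11981 C) 3107 [146, 154, 167, 174] (v18_mem C) (by decide +kernel) (by decide +kernel)

theorem s18_656 : Good C (vlist C) (v18 C) 2366 :=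
  good_seed C (f10231 C) 2366 [146, 160, 168, 175, 177] (v18_mem C) (by decide +kernel) (by decide +kernel)

theorem s18_657 : Good C (vlist C) (v18 C) 1511 :=
  good_seed C (f12999 C) 1511 [142, 162, 169, 175, 178] (v18_mem C) (by decide +kernel) (by decide +kernel)

theorem s18_658 : Good C (vlist C) (v18 C) 3067 :=
  good_seed C (f9296 C) 3067 [145, 158, 169, 171, 177] (v17_mem C) (by decide +kernel) (by decide +kernel)

theorem s18_659 : Good C (vlist C) (v18 C) 1536 :=
  good_seed C (f9950 C) 1536 [138, 161, 170, 171, 177] (v18_mem C) (by decide +kernel) (by decide +kernel)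

theorem s18_660 : Good C (vlist C) (v18 C) 3368 :=
  good_seed C (f7992 C) 3368 [142, 150, 165, 174, 177] (v17_mem C) (by decide +kernel) (by decide +kernel)

theorem s18_661 : Good C (vlist C) (v18 C) 2133 :=
  good_seed C (f7414 C) 2133 [135, 166, 176, 177] (v18_mem C) (by decide +kernel) (by decide +kernel)

theorem s18_662 : Good C (vlist C) (v18 C) 1865 :=
  good_seed C (f13747 C) 1865 [145, 163, 168, 173, 177] (v17_mem C) (by decide +kernel) (by decide +kernel)

theorem s18_663 : Good C (vlist C) (v18 C) 2511 :=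
  good_seed C (f13913 C) 2511 [137, 150, 165, 175] (v18_mem C) (by decide +kernel) (by decide +kernel)

theorem s18_664 : Good C (vlist C) (v18 C) 3668 :=
  good_seed C (f9569 C) 3668 [147, 151, 169, 175] (v18_mem C) (by decide +kernel) (by decide +kernel)

theorem s18_665 : Good C (vlist C) (v18 C) 3351 :=
  good_seed C (f11716 C) 3351 [126, 156, 170, 173, 178] (v18_mem C) (by decide +kernel) (by decide +kernel)

theorem s18_666 : Good C (vlist C) (v18 C) 3515 :=
  good_seed C (f11281 C) 3515 [127, 160, 170, 174, 177] (v16_mem C) (by decide +kernel) (by decide +kernel)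

theorem s18_667 : Good C (vlist C) (v18 C) 2900 :=
  good_seed C (f13718 C) 2900 [131, 154, 165, 171, 177] (v17_mem C) (by decide +kernel) (by decide +kernel)

theorem s18_668 : Good C (vlist C) (v18 C) 2225 :=
  good_seed C (f11441 C) 2225 [133, 161, 166, 174, 177] (v17_mem C) (by decide +kernel) (by decide +kernel)

theorem s18_669 : Good C (vlist C) (v18 C) 3493 :=
  good_seed C (f9811 C) 3493 [144, 165, 172, 177] (v18_mem C) (by decide +kernel) (by decide +kernel)

theorem s18_670 : Good C (vlist C) (v18 C) 3279 :=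
  good_seed C (f9460 C) 3279 [130, 163, 166, 175, 177] (v17_mem C) (by decide +kernel) (by decide +kernel)

theorem s18_671 : Good C (vlist C) (v18 C) 867 :=
  good_seed C (f13371 C) 867 [128, 159, 166, 175, 178] (v18_mem C) (by decide +kernel) (by decide +kernel)

theorem s18_672 : Good C (vlist C) (v18 C) 2319 :=
  good_seed C (f13901 C) 2319 [138, 155, 168, 172, 177] (v18_mem C) (by decide +kernel) (by decide +kernel)

theorem s18_673 : Good C (vlist C) (v18 C) 2553 :=
  good_seed C (f14255 C) 2553 [168, 174, 177] (v18_mem C) (by decide +kernel) (by decide +kernel)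

theorem s18_674 : Good C (vlist C) (v18 C) 871 :=
  good_seed C (f11032 C) 871 [134, 161, 170, 172, 177] (v18_mem C) (by decide +kernel) (by decide +kernel)

theorem s18_675 : Good C (vlist C) (v18 C) 3451 :=
  good_seed C (f12634 C) 3451 [132, 165, 176, 177] (v18_mem C) (by decide +kernel) (by decide +kernel)

theorem s18_676 : Good C (vlist C) (v18 C) 959 :=
  good_seed C (f15213 C) 959 [132, 159, 165, 171, 178] (v15_mem C) (by decide +kernel) (by decide +kernel)

theorem s18_677 : Good C (vlist C) (v18 C) 1253 :=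
  good_seed C (f7457 C) 1253 [146, 161, 168, 175, 177] (v10_mem C) (by decide +kernel) (by decide +kernel)

theorem s18_678 : Good C (vlist C) (v18 C) 1429 :=
  good_seed C (f13823 C) 1429 [139, 154, 165, 174] (v17_mem C) (by decide +kernel) (by decide +kernel)

theorem s18_679 : Good C (vlist C) (v18 C) 1724 :=
  good_seed C (f8025 C) 1724 [144, 159, 168, 172, 178] (v18_mem C) (by decide +kernel) (by decide +kernel)

theorem s18_680 : Good C (vlist C) (v18 C) 3462 :=
  good_seed C (f10910 C) 3462 [142, 155, 170, 173] (v18_mem C) (by decide +kernel) (by decide +kernel)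

theorem s18_681 : Good C (vlist C) (v18 C) 891 :=
  good_seed C (f9325 C) 891 [142, 150, 170, 176, 177] (v17_mem C) (by decide +kernel) (by decide +kernel)

theorem s18_682 : Good C (vlist C) (v18 C) 1813 :=
  good_seed C (f15140 C) 1813 [137, 160, 170, 173, 178] (v18_mem C) (by decide +kernel) (by decide +kernel)

theorem s18_683 : Good C (vlist C) (v18 C) 1855 :=
  good_seed C (f14078 C) 1855 [133, 162, 170, 174, 178] (v18_mem C) (by decide +kernel) (by decide +kernel)

theorem s18_684 : Good C (vlist C) (v18 C) 2779 :=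
  good_seed C (f13307 C) 2779 [143, 151, 168] (v18_mem C) (by decide +kernel) (by decide +kernel)

theorem s18_685 : Good C (vlist C) (v18 C) 2954 :=
  good_seed C (f9049 C) 2954 [133, 152, 168, 174, 178] (v5_mem C) (by decide +kernel) (by decide +kernel)

theorem s18_686 : Good C (vlist C) (v18 C) 2863 :=
  good_seed C (f13934 C) 2863 [132, 149, 164, 171, 177] (v18_mem C) (by decide +kernel) (by decide +kernel)

theorem s18_687 : Good C (vlist C) (v18 C) 3612 :=
  good_seed C (f13199 C) 3612 [145, 153, 169, 173] (v17_mem C) (by decide +kernel) (by decide +kernel)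

theorem s18_688 : Good C (vlist C) (v18 C) 2060 :=
  good_seed C (f9365 C) 2060 [161, 168, 178] (v17_mem C) (by decide +kernel) (by decide +kernel)

theorem s18_689 : Good C (vlist C) (v18 C) 3734 :=
  good_seed C (f11971 C) 3734 [144, 159, 165, 177] (v17_mem C) (by decide +kernel) (by decide +kernel)

theorem s18_690 : Good C (vlist C) (v18 C) 3613 :=
  good_seed C (f15152 C) 3613 [126, 160, 168, 175, 177] (v17_mem C) (by decide +kernel) (by decide +kernel)

theorem s18_691 : Good C (vlist C) (v18 C) 3343 :=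
  good_seed C (f17556 C) 3343 [140, 150, 169, 178] (v20_mem C) (by decide +kernel) (by decide +kernel)

theorem s18_692 : Good C (vlist C) (v18 C) 910 :=
  good_seed C (f9975 C) 910 [136, 160, 175, 177] (v18_mem C) (by decide +kernel) (by decide +kernel)

theorem s18_693 : Good C (vlist C) (v18 C) 2348 :=
  good_seed C (f9994 C) 2348 [137, 152, 165, 173] (v18_mem C) (by decide +kernel) (by decide +kernel)

theorem s18_694 : Good C (vlist C) (v18 C) 2801 :=
  good_seed C (f8633 C) 2801 [145, 153, 169, 174, 177] (v18_mem C) (by decide +kernel) (by decide +kernel)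

theorem s18_695 : Good C (vlist C) (v18 C) 915 :=
  good_seed C (f9944 C) 915 [133, 153, 174, 178] (v17_mem C) (by decide +kernel) (by decide +kernel)

theorem s18_696 : Good C (vlist C) (v18 C) 1478 :=
  good_seed C (f7500 C) 1478 [139, 150, 167, 172] (v18_mem C) (by decide +kernel) (by decide +kernel)

theorem s18_697 : Good C (vlist C) (v18 C) 3674 :=
  good_seed C (f9964 C) 3674 [134, 152, 168, 173, 178] (v18_mem C) (by decide +kernel) (by decide +kernel)

theorem s18_698 : Good C (vlist C) (v18 C) 1744 :=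
  good_seed C (f12081 C) 1744 [133, 157, 166, 178] (v18_mem C) (by decide +kernel) (by decide +kernel)

theorem s18_699 : Good C (vlist C) (v18 C) 1629 :=
  good_seed C (f14077 C) 1629 [143, 165, 172, 177] (v18_mem C) (by decide +kernel) (by decide +kernel)

theorem s18_700 : Good C (vlist C) (v18 C) 929 :=
  good_seed C (f9205 C) 929 [141, 149, 168, 175] (v15_mem C) (by decide +kernel) (by decide +kernel)

theorem s18_701 : Good C (vlist C) (v18 C) 930 :=
  good_seed C (f11819 C) 930 [146, 154, 170, 174, 177] (v15_mem C) (by decide +kernel) (by decide +kernel)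

theorem s18_702 : Good C (vlist C) (v18 C) 3274 :=
  good_seed C (f7576 C) 3274 [143, 158, 165, 175, 178] (v4_mem C) (by decide +kernel) (by decide +kernel)

theorem s18_703 : Good C (vlist C) (v18 C) 2720 :=
  good_seed C (f9845 C) 2720 [131, 154, 169, 172, 177] (v18_mem C) (by decide +kernel) (by decide +kernel)

theorem s18_704 : Good C (vlist C) (v18 C) 1187 :=
  good_seed C (f10764 C) 1187 [141, 169, 175, 177] (v18_mem C) (by decide +kernel) (by decide +kernel)

theorem s18_705 : Good C (vlist C) (v18 C) 2062 :=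
  good_seed C (f11487 C) 2062 [142, 150, 168, 173, 178] (v18_mem C) (by decide +kernel) (by decide +kernel)

theorem s18_706 : Good C (vlist C) (v18 C) 2714 :=
  good_seed C (f7932 C) 2714 [130, 160, 174] (v18_mem C) (by decide +kernel) (by decide +kernel)

theorem s18_707 : Good C (vlist C) (v18 C) 939 :=
  good_seed C (f10830 C) 939 [144, 158, 168, 174, 178] (v17_mem C) (by decide +kernel) (by decide +kernel)

theorem s18_708 : Good C (vlist C) (v18 C) 940 :=
  good_seed C (f8459 C) 940 [132, 158, 166, 173] (v17_mem C) (by decide +kernel) (by decide +kernel)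

theorem s18_709 : Good C (vlist C) (v18 C) 2822 :=
  good_seed C (f9563 C) 2822 [132, 163, 170, 171, 178] (v18_mem C) (by decide +kernel) (by decide +kernel)

theorem s18_710 : Good C (vlist C) (v18 C) 2061 :=
  good_seed C (f9744 C) 2061 [139, 172] (v18_mem C) (by decide +kernel) (by decide +kernel)

theorem s18_711 : Good C (vlist C) (v18 C) 1309 :=
  good_seed C (f15071 C) 1309 [135, 157, 168, 172, 178] (v17_mem C) (by decide +kernel) (by decide +kernel)

theorem s18_712 : Good C (vlist C) (v18 C) 1893 :=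
  good_seed C (f13646 C) 1893 [128, 156, 168, 175, 177] (v16_mem C) (by decide +kernel) (by decide +kernel)

theorem s18_713 : Good C (vlist C) (v18 C) 949 :=
  good_seed C (f13469 C) 949 [129, 152, 170, 176, 178] (v4_mem C) (by decide +kernel) (by decide +kernel)

theorem s18_714 : Good C (vlist C) (v18 C) 3379 :=
  good_seed C (f13711 C) 3379 [142, 158, 164, 171] (v17_mem C) (by decide +kernel) (by decide +kernel)

theorem s18_715 : Good C (vlist C) (v18 C) 953 :=
  good_seed C (f9736 C) 953 [147, 163, 168, 175, 178] (v18_mem C) (by decide +kernel) (by decide +kernel)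

theorem s18_716 : Good C (vlist C) (v18 C) 955 :=
  good_seed C (f15533 C) 955 [142, 166, 174] (v12_mem C) (by decide +kernel) (by decide +kernel)

theorem s18_717 : Good C (vlist C) (v18 C) 2564 :=
  good_seed C (f9551 C) 2564 [139, 149, 168, 173] (v18_mem C) (by decide +kernel) (by decide +kernel)

theorem s18_718 : Good C (vlist C) (v18 C) 964 :=
  good_seed C (f9661 C) 964 [134, 157, 165, 178] (v18_mem C) (by decide +kernel) (by decide +kernel)

theorem s18_719 : Good C (vlist C) (v18 C) 2518 :=
  good_seed C (f11939 C) 2518 [140, 161, 170, 173, 177] (v18_mem C) (by decide +kernel) (by decide +kernel)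

theorem s18_720 : Good C (vlist C) (v18 C) 3662 :=
  good_seed C (f9189 C) 3662 [133, 159, 166, 176] (v15_mem C) (by decide +kernel) (by decide +kernel)

theorem s18_721 : Good C (vlist C) (v18 C) 968 :=
  good_seed C (f9627 C) 968 [133, 154, 168, 172, 178] (v17_mem C) (by decide +kernel) (by decide +kernel)

theorem s18_722 : Good C (vlist C) (v18 C) 2818 :=
  good_seed C (f11432 C) 2818 [144, 159, 168, 171] (v17_mem C) (by decide +kernel) (by decide +kernel)

theorem s18_723 : Good C (vlist C) (v18 C) 2599 :=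
  good_seed C (f10960 C) 2599 [140, 155, 164, 176, 178] (v18_mem C) (by decide +kernel) (by decide +kernel)

theorem s18_724 : Good C (vlist C) (v18 C) 1737 :=
  good_seed C (f7397 C) 1737 [139, 162, 164, 177] (v17_mem C) (by decide +kernel) (by decide +kernel)

theorem s18_725 : Good C (vlist C) (v18 C) 974 :=
  good_seed C (f9802 C) 974 [128, 163, 164, 173] (v18_mem C) (by decide +kernel) (by decide +kernel)

theorem s18_726 : Good C (vlist C) (v18 C) 976 :=
  good_seed C (f8725 C) 976 [132, 151, 166, 171, 178] (v17_mem C) (by decide +kernel) (by decide +kernel)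

theorem s18_727 : Good C (vlist C) (v18 C) 1010 :=
  good_seed C (f7712 C) 1010 [132, 162, 165, 175, 178] (v18_mem C) (by decide +kernel) (by decide +kernel)

theorem s18_728 : Good C (vlist C) (v18 C) 2275 :=
  good_seed C (f9466 C) 2275 [158, 178] (v17_mem C) (by decide +kernel) (by decide +kernel)

theorem s18_729 : Good C (vlist C) (v18 C) 980 :=
  good_seed C (f14044 C) 980 [138, 153, 178] (v18_mem C) (by decide +kernel) (by decide +kernel)

theorem s18_730 : Good C (vlist C) (v18 C) 1150 :=
  good_seed C (f8217 C) 1150 [146, 155, 165, 175] (v3_mem C) (by decide +kernel) (by decide +kernel)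

theorem s18_731 : Good C (vlist C) (v18 C) 3112 :=
  good_seed C (f8987 C) 3112 [140, 156, 167, 176] (v18_mem C) (by decide +kernel) (by decide +kernel)

theorem s18_732 : Good C (vlist C) (v18 C) 985 :=
  good_seed C (f9318 C) 985 [142, 151, 169, 173, 178] (v17_mem C) (by decide +kernel) (by decide +kernel)

theorem s18_733 : Good C (vlist C) (v18 C) 3020 :=
  good_seed C (f12120 C) 3020 [133, 156, 169, 172, 177] (v15_mem C) (by decide +kernel) (by decide +kernel)

theorem s18_734 : Good C (vlist C) (v18 C) 1878 :=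
  good_seed C (f15818 C) 1878 [133, 153, 170, 174, 177] (v19_mem C) (by decide +kernel) (by decide +kernel)

theorem s18_735 : Good C (vlist C) (v18 C) 990 :=
  good_seed C (f15313 C) 990 [144, 153, 172, 177] (v18_mem C) (by decide +kernel) (by decide +kernel)

theorem s18_736 : Good C (vlist C) (v18 C) 992 :=
  good_seed C (f9154 C) 992 [127, 155, 165, 175] (v17_mem C) (by decide +kernel) (by decide +kernel)

theorem s18_737 : Good C (vlist C) (v18 C) 2972 :=
  good_seed C (f8534 C) 2972 [147, 160, 166, 175, 177] (v18_mem C) (by decide +kernel) (by decide +kernel)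

theorem s18_738 : Good C (vlist C) (v18 C) 2291 :=
  good_seed C (f12976 C) 2291 [134, 153, 170, 173, 178] (v18_mem C) (by decide +kernel) (by decide +kernel)

theorem s18_739 : Good C (vlist C) (v18 C) 1143 :=
  good_seed C (f11389 C) 1143 [141, 158, 164, 171, 178] (v18_mem C) (by decide +kernel) (by decide +kernel)

theorem s18_740 : Good C (vlist C) (v18 C) 1002 :=
  good_seed C (f14495 C) 1002 [127, 157, 166, 176, 178] (v18_mem C) (by decide +kernel) (by decide +kernel)

theorem s18_741 : Good C (vlist C) (v18 C) 2315 :=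
  good_seed C (f14824 C) 2315 [145, 162, 168, 172] (v18_mem C) (by decide +kernel) (by decide +kernel)

theorem s18_742 : Good C (vlist C) (v18 C) 2033 :=
  good_seed C (f14307 C) 2033 [147, 159, 164, 174] (v18_mem C) (by decide +kernel) (by decide +kernel)

theorem s18_743 : Good C (vlist C) (v18 C) 1649 :=
  good_seed C (f9779 C) 1649 [132, 158, 167, 175] (v18_mem C) (by decide +kernel) (by decide +kernel)

theorem s18_744 : Good C (vlist C) (v18 C) 2435 :=
  good_seed C (f17026 C) 2435 [139, 149, 168, 177] (v19_mem C) (by decide +kernel) (by decide +kernel)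

theorem s18_745 : Good C (vlist C) (v18 C) 1651 :=
  good_seed C (f9717 C) 1651 [136, 163, 174, 177] (v18_mem C) (by decide +kernel) (by decide +kernel)

theorem s18_746 : Good C (vlist C) (v18 C) 3080 :=
  good_seed C (f15003 C) 3080 [131, 162, 165, 175, 177] (v16_mem C) (by decide +kernel) (by decide +kernel)

theorem s18_747 : Good C (vlist C) (v18 C) 1011 :=
  good_seed C (f15791 C) 1011 [139, 154, 170, 173, 178] (v19_mem C) (by decide +kernel) (by decide +kernel)

theorem s18_748 : Good C (vlist C) (v18 C) 3513 :=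
  good_seed C (f11232 C) 3513 [139, 161, 174] (v15_mem C) (by decide +kernel) (by decide +kernel)

theorem s18_749 : Good C (vlist C) (v18 C) 1015 :=
  good_seed C (f10069 C) 1015 [139, 162, 169, 176, 177] (v15_mem C) (by decide +kernel) (by decide +kernel)

theorem s18_750 : Good C (vlist C) (v18 C) 1016 :=
  good_seed C (f14461 C) 1016 [163, 165, 172, 178] (v18_mem C) (by decide +kernel) (by decide +kernel)

theorem s18_751 : Good C (vlist C) (v18 C) 1017 :=
  good_seed C (f17332 C) 1017 [139, 161, 169, 173] (v19_mem C) (by decide +kernel) (by decide +kernel)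

theorem s18_752 : Good C (vlist C) (v18 C) 1018 :=
  good_seed C (f12934 C) 1018 [127, 167, 176] (v18_mem C) (by decide +kernel) (by decide +kernel)

theorem s18_753 : Good C (vlist C) (v18 C) 2186 :=
  good_seed C (f15513 C) 2186 [128, 163, 170, 174, 178] (v9_mem C) (by decide +kernel) (by decide +kernel)

theorem s18_754 : Good C (vlist C) (v18 C) 1911 :=
  good_seed C (f10917 C) 1911 [138, 161, 166, 175, 178] (v18_mem C) (by decide +kernel) (by decide +kernel)

theorem s18_755 : Good C (vlist C) (v18 C) 1025 :=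
  good_seed C (f10875 C) 1025 [142, 162, 170] (v17_mem C) (by decide +kernel) (by decide +kernel)

theorem s18_756 : Good C (vlist C) (v18 C) 1026 :=
  good_seed C (f8245 C) 1026 [143, 163, 168, 174] (v4_mem C) (by decide +kernel) (by decide +kernel)

theorem s18_757 : Good C (vlist C) (v18 C) 1741 :=
  good_seed C (f12846 C) 1741 [144, 165, 171, 177] (v17_mem C) (by decide +kernel) (by decide +kernel)

theorem s18_758 : Good C (vlist C) (v18 C) 1029 :=
  good_seed C (f8644 C) 1029 [148, 159, 169, 174, 177] (v15_mem C) (by decide +kernel) (by decide +kernel)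

theorem s18_759 : Good C (vlist C) (v18 C) 2208 :=
  good_seed C (f13153 C) 2208 [159, 166, 173, 177] (v18_mem C) (by decide +kernel) (by decide +kernel)

theorem s18_760 : Good C (vlist C) (v18 C) 1031 :=
  good_seed C (f10359 C) 1031 [135, 150, 170, 176, 178] (v15_mem C) (by decide +kernel) (by decide +kernel)

theorem s18_761 : Good C (vlist C) (v18 C) 1516 :=
  good_seed C (f15161 C) 1516 [138, 160, 168, 173, 178] (v17_mem C) (by decide +kernel) (by decide +kernel)

theorem s18_762 : Good C (vlist C) (v18 C) 1037 :=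
  good_seed C (f10855 C) 1037 [128, 150, 171, 178] (v17_mem C) (by decide +kernel) (by decide +kernel)

theorem s18_763 : Good C (vlist C) (v18 C) 1038 :=
  good_seed C (f12516 C) 1038 [145, 150, 164, 178] (v17_mem C) (by decide +kernel) (by decide +kernel)

theorem s18_764 : Good C (vlist C) (v18 C) 2270 :=
  good_seed C (f8975 C) 2270 [135, 163, 167, 173, 177] (v18_mem C) (by decide +kernel) (by decide +kernel)

theorem s18_765 : Good C (vlist C) (v18 C) 3794 :=
  good_seed C (f16273 C) 3794 [132, 167, 171, 177] (v19_mem C) (by decide +kernel) (by decide +kernel)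

theorem s18_766 : Good C (vlist C) (v18 C) 1915 :=
  good_seed C (f13019 C) 1915 [143, 152, 167, 176, 178] (v18_mem C) (by decide +kernel) (by decide +kernel)

theorem s18_767 : Good C (vlist C) (v18 C) 1044 :=
  good_seed C (f7681 C) 1044 [143, 151, 164, 174] (v18_mem C) (by decide +kernel) (by decide +kernel)

theorem s18_768 : Good C (vlist C) (v18 C) 2449 :=
  good_seed C (f9832 C) 2449 [162, 173, 177] (v15_mem C) (by decide +kernel) (by decide +kernel)

theorem s18_769 : Good C (vlist C) (v18 C) 3755 :=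
  good_seed C (f15197 C) 3755 [127, 168, 172] (v18_mem C) (by decide +kernel) (by decide +kernel)

theorem s18_770 : Good C (vlist C) (v18 C) 1049 :=
  good_seed C (f7293 C) 1049 [138, 150, 165, 172, 178] (v18_mem C) (by decide +kernel) (by decide +kernel)

theorem s18_771 : Good C (vlist C) (v18 C) 1194 :=
  good_seed C (f13344 C) 1194 [146, 155, 164, 171] (v18_mem C) (by decide +kernel) (by decide +kernel)

theorem s18_772 : Good C (vlist C) (v18 C) 1052 :=
  good_seed C (f10075 C) 1052 [155, 167, 176, 177] (v18_mem C) (by decide +kernel) (by decide +kernel)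

theorem s18_773 : Good C (vlist C) (v18 C) 1054 :=
  good_seed C (f7568 C) 1054 [134, 155, 165, 173, 178] (v17_mem C) (by decide +kernel) (by decide +kernel)

theorem s18_774 : Good C (vlist C) (v18 C) 1301 :=
  good_seed C (f16603 C) 1301 [136, 161, 166, 174, 177] (v19_mem C) (by decide +kernel) (by decide +kernel)

theorem s18_775 : Good C (vlist C) (v18 C) 1058 :=
  good_seed C (f12970 C) 1058 [131, 150, 169, 175, 177] (v18_mem C) (by decide +kernel) (by decide +kernel)

theorem s18_776 : Good C (vlist C) (v18 C) 2054 :=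
  good_seed C (f11812 C) 2054 [128, 149, 169, 171, 177] (v18_mem C) (by decide +kernel) (by decide +kernel)

theorem s18_777 : Good C (vlist C) (v18 C) 2641 :=
  good_seed C (f9914 C) 2641 [139, 163, 168, 174, 177] (v18_mem C) (by decide +kernel) (by decide +kernel)

theorem s18_778 : Good C (vlist C) (v18 C) 1061 :=
  good_seed C (f9598 C) 1061 [140, 156, 170, 173, 177] (v18_mem C) (by decide +kernel) (by decide +kernel)

theorem s18_779 : Good C (vlist C) (v18 C) 2102 :=
  good_seed C (f12502 C) 2102 [148, 154, 164, 177] (v9_mem C) (by decide +kernel) (by decide +kernel)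

theorem s18_780 : Good C (vlist C) (v18 C) 1901 :=
  good_seed C (f9730 C) 1901 [131, 154, 167, 175, 177] (v18_mem C) (by decide +kernel) (by decide +kernel)

theorem s18_781 : Good C (vlist C) (v18 C) 3679 :=
  good_seed C (f15207 C) 3679 [132, 153, 167, 175, 177] (v9_mem C) (by decide +kernel) (by decide +kernel)

theorem s18_782 : Good C (vlist C) (v18 C) 2201 :=
  good_seed C (f9927 C) 2201 [136, 164, 175] (v18_mem C) (by decide +kernel) (by decide +kernel)

theorem s18_783 : Good C (vlist C) (v18 C) 1822 :=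
  good_seed C (f9482 C) 1822 [132, 153, 167, 172] (v18_mem C) (by decide +kernel) (by decide +kernel)

theorem s18_784 : Good C (vlist C) (v18 C) 2269 :=
  good_seed C (f8665 C) 2269 [139, 157, 166, 177] (v17_mem C) (by decide +kernel) (by decide +kernel)

theorem s18_785 : Good C (vlist C) (v18 C) 1392 :=
  good_seed C (f9895 C) 1392 [138, 162, 167, 172] (v18_mem C) (by decide +kernel) (by decide +kernel)

theorem s18_786 : Good C (vlist C) (v18 C) 2880 :=
  good_seed C (f6994 C) 2880 [133, 151, 169, 171, 178] (v17_mem C) (by decide +kernel) (by decide +kernel)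

theorem s18_787 : Good C (vlist C) (v18 C) 2769 :=
  good_seed C (f13350 C) 2769 [140, 158, 166, 171, 177] (v18_mem C) (by decide +kernel) (by decide +kernel)

theorem s18_788 : Good C (vlist C) (v18 C) 1085 :=
  good_seed C (f11639 C) 1085 [136, 158, 169, 174, 177] (v18_mem C) (by decide +kernel) (by decide +kernel)

theorem s18_789 : Good C (vlist C) (v18 C) 3577 :=
  good_seed C (f13106 C) 3577 [132, 169, 173, 177] (v18_mem C) (by decide +kernel) (by decide +kernel)

theorem s18_790 : Good C (vlist C) (v18 C) 2178 :=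
  good_seed C (f13382 C) 2178 [137, 167, 177] (v18_mem C) (by decide +kernel) (by decide +kernel)

theorem s18_791 : Good C (vlist C) (v18 C) 2441 :=
  good_seed C (f7264 C) 2441 [136, 154, 170, 176, 178] (v18_mem C) (by decide +kernel) (by decide +kernel)

theorem s18_792 : Good C (vlist C) (v18 C) 3793 :=
  good_seed C (f9745 C) 3793 [136, 158, 168, 177] (v18_mem C) (by decide +kernel) (by decide +kernel)

theorem s18_793 : Good C (vlist C) (v18 C) 1524 :=
  good_seed C (f7846 C) 1524 [127, 149, 166, 174, 177] (v17_mem C) (by decide +kernel) (by decide +kernel)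

theorem s18_794 : Good C (vlist C) (v18 C) 1272 :=
  good_seed C (f12254 C) 1272 [130, 159, 165, 172] (v18_mem C) (by decide +kernel) (by decide +kernel)

theorem s18_795 : Good C (vlist C) (v18 C) 1899 :=
  good_seed C (f11844 C) 1899 [143, 159, 170, 174, 177] (v18_mem C) (by decide +kernel) (by decide +kernel)

theorem s18_796 : Good C (vlist C) (v18 C) 1199 :=
  good_seed C (f10779 C) 1199 [138, 156, 165, 176, 177] (v18_mem C) (by decide +kernel) (by decide +kernel)

theorem s18_797 : Good C (vlist C) (v18 C) 3271 :=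
  good_seed C (f15349 C) 3271 [135, 153, 165, 172] (v18_mem C) (by decide +kernel) (by decide +kernel)

theorem s18_798 : Good C (vlist C) (v18 C) 2534 :=
  good_seed C (f14994 C) 2534 [140, 163, 169, 174, 178] (v16_mem C) (by decide +kernel) (by decide +kernel)

theorem s18_799 : Good C (vlist C) (v18 C) 2519 :=
  good_seed C (f14053 C) 2519 [126, 162, 164, 176, 178] (v18_mem C) (by decide +kernel) (by decide +kernel)

theorem s18_800 : Good C (vlist C) (v18 C) 3625 :=
  good_seed C (f11068 C) 3625 [134, 156, 164, 173, 177] (v18_mem C) (by decide +kernel) (by decide +kernel)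

theorem s18_801 : Good C (vlist C) (v18 C) 1102 :=
  good_seed C (f11060 C) 1102 [140, 163, 165] (v17_mem C) (by decide +kernel) (by decide +kernel)

theorem s18_802 : Good C (vlist C) (v18 C) 1211 :=
  good_seed C (f6960 C) 1211 [148, 164, 176, 177] (v15_mem C) (by decide +kernel) (by decide +kernel)

theorem s18_803 : Good C (vlist C) (v18 C) 2955 :=
  good_seed C (f13952 C) 2955 [146, 151, 175, 178] (v18_mem C) (by decide +kernel) (by decide +kernel)

theorem s18_804 : Good C (vlist C) (v18 C) 2183 :=
  good_seed C (f14193 C) 2183 [130, 159, 164, 172, 177] (v18_mem C) (by decide +kernel) (by decide +kernel)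

theorem s18_805 : Good C (vlist C) (v18 C) 1110 :=
  good_seed C (f12616 C) 1110 [130, 153, 164, 171] (v18_mem C) (by decide +kernel) (by decide +kernel)

theorem s18_806 : Good C (vlist C) (v18 C) 1762 :=
  good_seed C (f8680 C) 1762 [139, 153, 165, 175] (v18_mem C) (by decide +kernel) (by decide +kernel)

theorem s18_807 : Good C (vlist C) (v18 C) 1112 :=
  good_seed C (f7651 C) 1112 [146, 159, 169, 171, 178] (v17_mem C) (by decide +kernel) (by decide +kernel)

theorem s18_808 : Good C (vlist C) (v18 C) 1277 :=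
  good_seed C (f14530 C) 1277 [128, 152, 170, 174] (v18_mem C) (by decide +kernel) (by decide +kernel)

theorem s18_809 : Good C (vlist C) (v18 C) 2840 :=
  good_seed C (f11512 C) 2840 [126, 159, 170, 175, 178] (v18_mem C) (by decide +kernel) (by decide +kernel)

theorem s18_810 : Good C (vlist C) (v18 C) 2137 :=
  good_seed C (f9496 C) 2137 [129, 150, 170, 178] (v18_mem C) (by decide +kernel) (by decide +kernel)

theorem s18_811 : Good C (vlist C) (v18 C) 1124 :=
  good_seed C (f15258 C) 1124 [130, 150, 169, 172, 178] (v18_mem C) (by decide +kernel) (by decide +kernel)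

theorem s18_812 : Good C (vlist C) (v18 C) 2877 :=
  good_seed C (f13829 C) 2877 [126, 150, 177] (v17_mem C) (by decide +kernel) (by decide +kernel)

theorem s18_813 : Good C (vlist C) (v18 C) 3058 :=
  good_seed C (f7694 C) 3058 [133, 155, 170, 171, 178] (v18_mem C) (by decide +kernel) (by decide +kernel)

theorem s18_814 : Good C (vlist C) (v18 C) 3327 :=
  good_seed C (f16238 C) 3327 [134, 153, 165, 175, 178] (v19_mem C) (by decide +kernel) (by decide +kernel)

theorem s18_815 : Good C (vlist C) (v18 C) 1792 :=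
  good_seed C (f15274 C) 1792 [133, 149, 168, 171] (v16_mem C) (by decide +kernel) (by decide +kernel)

theorem s18_816 : Good C (vlist C) (v18 C) 3299 :=
  good_seed C (f12875 C) 3299 [143, 159, 175] (v18_mem C) (by decide +kernel) (by decide +kernel)

theorem s18_817 : Good C (vlist C) (v18 C) 1134 :=
  good_seed C (f12882 C) 1134 [139, 151, 165, 173, 177] (v18_mem C) (by decide +kernel) (by decide +kernel)

theorem s18_818 : Good C (vlist C) (v18 C) 1489 :=
  good_seed C (f10717 C) 1489 [131, 169, 173, 178] (v17_mem C) (by decide +kernel) (by decide +kernel)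

theorem s18_819 : Good C (vlist C) (v18 C) 3395 :=
  good_seed C (f12101 C) 3395 [142, 154, 164, 172] (v17_mem C) (by decide +kernel) (by decide +kernel)

theorem s18_820 : Good C (vlist C) (v18 C) 3474 :=
  good_seed C (f11529 C) 3474 [137, 158, 175, 178] (v18_mem C) (by decide +kernel) (by decide +kernel)

theorem s18_821 : Good C (vlist C) (v18 C) 3518 :=
  good_seed C (f13947 C) 3518 [143, 160, 167, 171] (v18_mem C) (by decide +kernel) (by decide +kernel)

theorem s18_822 : Good C (vlist C) (v18 C) 2782 :=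
  good_seed C (f14953 C) 2782 [143, 154, 173, 177] (v17_mem C) (by decide +kernel) (by decide +kernel)

theorem s18_823 : Good C (vlist C) (v18 C) 1255 :=
  good_seed C (f11915 C) 1255 [143, 151, 166, 178] (v18_mem C) (by decide +kernel) (by decide +kernel)

theorem s18_824 : Good C (vlist C) (v18 C) 2563 :=
  good_seed C (f17154 C) 2563 [135, 158, 168, 171] (v19_mem C) (by decide +kernel) (by decide +kernel)

theorem s18_825 : Good C (vlist C) (v18 C) 3751 :=
  good_seed C (f15011 C) 3751 [147, 157, 168, 176] (v17_mem C) (by decide +kernel) (by decide +kernel)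

theorem s18_826 : Good C (vlist C) (v18 C) 1594 :=
  good_seed C (f11260 C) 1594 [137, 157, 164, 177] (v17_mem C) (by decide +kernel) (by decide +kernel)

theorem s18_827 : Good C (vlist C) (v18 C) 1159 :=
  good_seed C (f9921 C) 1159 [133, 149, 172] (v17_mem C) (by decide +kernel) (by decide +kernel)

theorem s18_828 : Good C (vlist C) (v18 C) 1160 :=
  good_seed C (f15062 C) 1160 [136, 165, 178] (v9_mem C) (by decide +kernel) (by decide +kernel)

theorem s18_829 : Good C (vlist C) (v18 C) 3002 :=
  good_seed C (f14008 C) 3002 [136, 153, 169, 172, 177] (v18_mem C) (by decide +kernel) (by decide +kernel)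

theorem s18_830 : Good C (vlist C) (v18 C) 2335 :=
  good_seed C (f11244 C) 2335 [147, 149, 172] (v16_mem C) (by decide +kernel) (by decide +kernel)

theorem s18_831 : Good C (vlist C) (v18 C) 1182 :=
  good_seed C (f9310 C) 1182 [147, 149, 167, 174] (v17_mem C) (by decide +kernel) (by decide +kernel)

theorem s18_832 : Good C (vlist C) (v18 C) 1168 :=
  good_seed C (f8208 C) 1168 [126, 163, 173, 178] (v18_mem C) (by decide +kernel) (by decide +kernel)

theorem s18_833 : Good C (vlist C) (v18 C) 1171 :=
  good_seed C (f10419 C) 1171 [145, 158, 168, 171, 178] (v10_mem C) (by decide +kernel) (by decide +kernel)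

theorem s18_834 : Good C (vlist C) (v18 C) 1595 :=
  good_seed C (f11597 C) 1595 [127, 155, 166, 173, 177] (v17_mem C) (by decide +kernel) (by decide +kernel)

theorem s18_835 : Good C (vlist C) (v18 C) 1175 :=
  good_seed C (f15477 C) 1175 [129, 155, 173] (v18_mem C) (by decide +kernel) (by decide +kernel)

theorem s18_836 : Good C (vlist C) (v18 C) 1177 :=
  good_seed C (f9682 C) 1177 [139, 158, 167, 174, 177] (v15_mem C) (by decide +kernel) (by decide +kernel)

theorem s18_837 : Good C (vlist C) (v18 C) 2281 :=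
  good_seed C (f14550 C) 2281 [144, 159, 166, 171, 177] (v16_mem C) (by decide +kernel) (by decide +kernel)

theorem s18_838 : Good C (vlist C) (v18 C) 1621 :=
  good_seed C (f10141 C) 1621 [136, 160, 166] (v17_mem C) (by decide +kernel) (by decide +kernel)

theorem s18_839 : Good C (vlist C) (v18 C) 1180 :=
  good_seed C (f11956 C) 1180 [128, 158, 168, 172, 178] (v18_mem C) (by decide +kernel) (by decide +kernel)

theorem s18_840 : Good C (vlist C) (v18 C) 1188 :=
  good_seed C (f10682 C) 1188 [131, 153, 167, 178] (v18_mem C) (by decide +kernel) (by decide +kernel)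

theorem s18_841 : Good C (vlist C) (v18 C) 1322 :=
  good_seed C (f15433 C) 1322 [126, 168, 178] (v18_mem C) (by decide +kernel) (by decide +kernel)

theorem s18_842 : Good C (vlist C) (v18 C) 3078 :=
  good_seed C (f10724 C) 3078 [138, 150, 168, 176, 177] (v17_mem C) (by decide +kernel) (by decide +kernel)

theorem s18_843 : Good C (vlist C) (v18 C) 2109 :=
  good_seed C (f14244 C) 2109 [145, 161, 166, 173] (v17_mem C) (by decide +kernel) (by decide +kernel)

theorem s18_844 : Good C (vlist C) (v18 C) 2072 :=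
  good_seed C (f15669 C) 2072 [127, 163, 167, 171] (v19_mem C) (by decide +kernel) (by decide +kernel)

theorem s18_845 : Good C (vlist C) (v18 C) 1242 :=
  good_seed C (f15434 C) 1242 [136, 161, 164, 176, 178] (v18_mem C) (by decide +kernel) (by decide +kernel)

theorem s18_846 : Good C (vlist C) (v18 C) 2122 :=
  good_seed C (f12062 C) 2122 [132, 151, 165, 173] (v18_mem C) (by decide +kernel) (by decide +kernel)

theorem s18_847 : Good C (vlist C) (v18 C) 2064 :=
  good_seed C (f13345 C) 2064 [138, 161, 175] (v18_mem C) (by decide +kernel) (by decide +kernel)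

theorem s18_848 : Good C (vlist C) (v18 C) 2157 :=
  good_seed C (f11546 C) 2157 [142, 155, 165, 175, 177] (v17_mem C) (by decide +kernel) (by decide +kernel)

theorem s18_849 : Good C (vlist C) (v18 C) 3601 :=
  good_seed C (f14421 C) 3601 [148, 150, 167, 175] (v16_mem C) (by decide +kernel) (by decide +kernel)

theorem s18_850 : Good C (vlist C) (v18 C) 3510 :=
  good_seed C (f15097 C) 3510 [129, 155, 169, 174, 178] (v17_mem C) (by decide +kernel) (by decide +kernel)

theorem s18_851 : Good C (vlist C) (v18 C) 1212 :=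
  good_seed C (f9330 C) 1212 [148, 174, 177] (v17_mem C) (by decide +kernel) (by decide +kernel)

theorem s18_852 : Good C (vlist C) (v18 C) 1688 :=
  good_seed C (f15834 C) 1688 [148, 158, 167, 173, 177] (v19_mem C) (by decide +kernel) (by decide +kernel)

theorem s18_853 : Good C (vlist C) (v18 C) 3602 :=
  good_seed C (f16495 C) 3602 [140, 161, 170, 171, 177] (v19_mem C) (by decide +kernel) (by decide +kernel)

theorem s18_854 : Good C (vlist C) (v18 C) 1217 :=
  good_seed C (f8285 C) 1217 [141, 157, 169] (v18_mem C) (by decide +kernel) (by decide +kernel)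

theorem s18_855 : Good C (vlist C) (v18 C) 1220 :=
  good_seed C (f10446 C) 1220 [137, 152, 169, 176] (v17_mem C) (by decide +kernel) (by decide +kernel)

theorem s18_856 : Good C (vlist C) (v18 C) 2824 :=
  good_seed C (f9431 C) 2824 [135, 157, 164, 173, 177] (v3_mem C) (by decide +kernel) (by decide +kernel)

theorem s18_857 : Good C (vlist C) (v18 C) 2645 :=
  good_seed C (f15761 C) 2645 [142, 152, 165, 176, 178] (v19_mem C) (by decide +kernel) (by decide +kernel)

theorem s18_858 : Good C (vlist C) (v18 C) 1223 :=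
  good_seed C (f10119 C) 1223 [131, 163, 164, 174] (v17_mem C) (by decide +kernel) (by decide +kernel)

theorem s18_859 : Good C (vlist C) (v18 C) 3446 :=
  good_seed C (f7892 C) 3446 [137, 158, 169, 176, 178] (v4_mem C) (by decide +kernel) (by decide +kernel)

theorem s18_860 : Good C (vlist C) (v18 C) 1228 :=
  good_seed C (f7488 C) 1228 [143, 151, 165, 171] (v4_mem C) (by decide +kernel) (by decide +kernel)

theorem s18_861 : Good C (vlist C) (v18 C) 2433 :=
  good_seed C (f13462 C) 2433 [138, 152, 173, 178] (v4_mem C) (by decide +kernel) (by decide +kernel)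

theorem s18_862 : Good C (vlist C) (v18 C) 3370 :=
  good_seed C (f14232 C) 3370 [142, 152, 176, 177] (v18_mem C) (by decide +kernel) (by decide +kernel)

theorem s18_863 : Good C (vlist C) (v18 C) 2723 :=
  good_seed C (f9555 C) 2723 [139, 149, 175, 178] (v17_mem C) (by decide +kernel) (by decide +kernel)

theorem s18_864 : Good C (vlist C) (v18 C) 1236 :=
  good_seed C (f14135 C) 1236 [152, 169, 172] (v18_mem C) (by decide +kernel) (by decide +kernel)

theorem s18_865 : Good C (vlist C) (v18 C) 3684 :=
  good_seed C (f10885 C) 3684 [141, 161, 166, 176, 178] (v17_mem C) (by decide +kernel) (by decide +kernel)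

theorem s18_866 : Good C (vlist C) (v18 C) 1238 :=
  good_seed C (f9712 C) 1238 [132, 158, 168, 175] (v18_mem C) (by decide +kernel) (by decide +kernel)

theorem s18_867 : Good C (vlist C) (v18 C) 2025 :=
  good_seed C (f9396 C) 2025 [145, 158, 164, 171, 177] (v17_mem C) (by decide +kernel) (by decide +kernel)

theorem s18_868 : Good C (vlist C) (v18 C) 1245 :=
  good_seed C (f12666 C) 1245 [145, 154, 167, 172] (v17_mem C) (by decide +kernel) (by decide +kernel)

theorem s18_869 : Good C (vlist C) (v18 C) 1938 :=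
  good_seed C (f11704 C) 1938 [130, 168, 173, 177] (v18_mem C) (by decide +kernel) (by decide +kernel)

theorem s18_870 : Good C (vlist C) (v18 C) 1761 :=
  good_seed C (f10959 C) 1761 [126, 157, 166, 175, 178] (v18_mem C) (by decide +kernel) (by decide +kernel)

theorem s18_871 : Good C (vlist C) (v18 C) 1311 :=
  good_seed C (f11052 C) 1311 [144, 158, 165, 174, 177] (v15_mem C) (by decide +kernel) (by decide +kernel)

theorem s18_872 : Good C (vlist C) (v18 C) 3619 :=
  good_seed C (f8704 C) 3619 [136, 157, 170, 173, 177] (v5_mem C) (by decide +kernel) (by decide +kernel)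

theorem s18_873 : Good C (vlist C) (v18 C) 2565 :=
  good_seed C (f11417 C) 2565 [137, 154, 172, 177] (v18_mem C) (by decide +kernel) (by decide +kernel)

theorem s18_874 : Good C (vlist C) (v18 C) 1690 :=
  good_seed C (f15303 C) 1690 [138, 159, 167, 172] (v18_mem C) (by decide +kernel) (by decide +kernel)

theorem s18_875 : Good C (vlist C) (v18 C) 2724 :=
  good_seed C (f14619 C) 2724 [136, 155, 165, 172, 177] (v18_mem C) (by decide +kernel) (by decide +kernel)

theorem s18_876 : Good C (vlist C) (v18 C) 2312 :=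
  good_seed C (f17437 C) 2312 [143, 152, 168, 175] (v20_mem C) (by decide +kernel) (by decide +kernel)

theorem s18_877 : Good C (vlist C) (v18 C) 1263 :=
  good_seed C (f11488 C) 1263 [147, 163, 166, 172] (v18_mem C) (by decide +kernel) (by decide +kernel)

theorem s18_878 : Good C (vlist C) (v18 C) 1527 :=
  good_seed C (f11661 C) 1527 [131, 149, 167, 175, 178] (v18_mem C) (by decide +kernel) (by decide +kernel)

theorem s18_879 : Good C (vlist C) (v18 C) 1265 :=
  good_seed C (f10622 C) 1265 [162, 167, 174, 178] (v17_mem C) (by decide +kernel) (by decide +kernel)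

theorem s18_880 : Good C (vlist C) (v18 C) 1267 :=
  good_seed C (f16752 C) 1267 [132, 155, 166, 173, 177] (v19_mem C) (by decide +kernel) (by decide +kernel)

theorem s18_881 : Good C (vlist C) (v18 C) 1268 :=
  good_seed C (f13430 C) 1268 [148, 163, 165, 173] (v15_mem C) (by decide +kernel) (by decide +kernel)

theorem s18_882 : Good C (vlist C) (v18 C) 2537 :=
  good_seed C (f7436 C) 2537 [130, 163, 170, 173, 178] (v18_mem C) (by decide +kernel) (by decide +kernel)

theorem s18_883 : Good C (vlist C) (v18 C) 2476 :=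
  good_seed C (f14194 C) 2476 [128, 162, 173] (v18_mem C) (by decide +kernel) (by decide +kernel)

theorem s18_884 : Good C (vlist C) (v18 C) 2191 :=
  good_seed C (f13864 C) 2191 [134, 158, 165, 174] (v18_mem C) (by decide +kernel) (by decide +kernel)

theorem s18_885 : Good C (vlist C) (v18 C) 3071 :=
  good_seed C (f13087 C) 3071 [132, 159, 169, 171] (v18_mem C) (by decide +kernel) (by decide +kernel)

theorem s18_886 : Good C (vlist C) (v18 C) 2273 :=
  good_seed C (f8325 C) 2273 [136, 159] (v16_mem C) (by decide +kernel) (by decide +kernel)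

theorem s18_887 : Good C (vlist C) (v18 C) 2321 :=
  good_seed C (f11381 C) 2321 [130, 149, 168, 173, 177] (v17_mem C) (by decide +kernel) (by decide +kernel)

theorem s18_888 : Good C (vlist C) (v18 C) 2692 :=
  good_seed C (f7680 C) 2692 [138, 154, 167, 175, 178] (v18_mem C) (by decide +kernel) (by decide +kernel)

theorem s18_889 : Good C (vlist C) (v18 C) 1711 :=
  good_seed C (f12243 C) 1711 [127, 152, 165, 172, 177] (v17_mem C) (by decide +kernel) (by decide +kernel)

theorem s18_890 : Good C (vlist C) (v18 C) 1287 :=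
  good_seed C (f14188 C) 1287 [128, 156, 169, 173, 177] (v18_mem C) (by decide +kernel) (by decide +kernel)

theorem s18_891 : Good C (vlist C) (v18 C) 1291 :=
  good_seed C (f10813 C) 1291 [127, 159, 174] (v17_mem C) (by decide +kernel) (by decide +kernel)

theorem s18_892 : Good C (vlist C) (v18 C) 3375 :=
  good_seed C (f16586 C) 3375 [141, 162, 170, 178] (v19_mem C) (by decide +kernel) (by decide +kernel)

theorem s18_893 : Good C (vlist C) (v18 C) 2350 :=
  good_seed C (f13513 C) 2350 [126, 162, 175] (v10_mem C) (by decide +kernel) (by decide +kernel)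

theorem s18_894 : Good C (vlist C) (v18 C) 1294 :=
  good_seed C (f14294 C) 1294 [147, 159, 170, 176] (v17_mem C) (by decide +kernel) (by decide +kernel)

theorem s18_895 : Good C (vlist C) (v18 C) 3736 :=
  good_seed C (f16744 C) 3736 [145, 154, 172, 178] (v19_mem C) (by decide +kernel) (by decide +kernel)

theorem s18_896 : Good C (vlist C) (v18 C) 3151 :=
  good_seed C (f8351 C) 3151 [134, 167, 178] (v17_mem C) (by decide +kernel) (by decide +kernel)

theorem s18_897 : Good C (vlist C) (v18 C) 1926 :=
  good_seed C (f12933 C) 1926 [133, 152, 165, 173] (v18_mem C) (by decide +kernel) (by decide +kernel)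

theorem s18_898 : Good C (vlist C) (v18 C) 3770 :=
  good_seed C (f8113 C) 3770 [145, 164, 172] (v18_mem C) (by decide +kernel) (by decide +kernel)

theorem s18_899 : Good C (vlist C) (v18 C) 3697 :=
  good_seed C (f10263 C) 3697 [128, 149, 165, 175, 178] (v17_mem C) (by decide +kernel) (by decide +kernel)

theorem s18_900 : Good C (vlist C) (v18 C) 3050 :=
  good_seed C (f9974 C) 3050 [141, 153, 175] (v18_mem C) (by decide +kernel) (by decide +kernel)

theorem s18_901 : Good C (vlist C) (v18 C) 1417 :=
  good_seed C (f13605 C) 1417 [140, 150, 167, 173, 178] (v16_mem C) (by decide +kernel) (by decide +kernel)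

theorem s18_902 : Good C (vlist C) (v18 C) 1566 :=
  good_seed C (f7156 C) 1566 [142, 169, 171, 177] (v5_mem C) (by decide +kernel) (by decide +kernel)

theorem s18_903 : Good C (vlist C) (v18 C) 1315 :=
  good_seed C (f9245 C) 1315 [137, 153, 165, 173, 177] (v17_mem C) (by decide +kernel) (by decide +kernel)

theorem s18_904 : Good C (vlist C) (v18 C) 2363 :=
  good_seed C (f10382 C) 2363 [138, 157, 167, 173] (v17_mem C) (by decide +kernel) (by decide +kernel)

theorem s18_905 : Good C (vlist C) (v18 C) 1319 :=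
  good_seed C (f8123 C) 1319 [145, 154, 166, 175] (v2_mem C) (by decide +kernel) (by decide +kernel)

theorem s18_906 : Good C (vlist C) (v18 C) 2699 :=
  good_seed C (f12508 C) 2699 [143, 151, 165, 176, 178] (v18_mem C) (by decide +kernel) (by decide +kernel)

theorem s18_907 : Good C (vlist C) (v18 C) 1324 :=
  good_seed C (f15105 C) 1324 [126, 155, 167, 175] (v18_mem C) (by decide +kernel) (by decide +kernel)

theorem s18_908 : Good C (vlist C) (v18 C) 2580 :=
  good_seed C (f7901 C) 2580 [141, 157, 172] (v16_mem C) (by decide +kernel) (by decide +kernel)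

theorem s18_909 : Good C (vlist C) (v18 C) 3180 :=
  good_seed C (f13999 C) 3180 [127, 163, 167, 171] (v18_mem C) (by decide +kernel) (by decide +kernel)

theorem s18_910 : Good C (vlist C) (v18 C) 2825 :=
  good_seed C (f11370 C) 2825 [145, 149, 167, 172, 178] (v18_mem C) (by decide +kernel) (by decide +kernel)

theorem s18_911 : Good C (vlist C) (v18 C) 3210 :=
  good_seed C (f10530 C) 3210 [129, 152, 169, 175] (v18_mem C) (by decide +kernel) (by decide +kernel)

theorem s18_912 : Good C (vlist C) (v18 C) 3594 :=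
  good_seed C (f13779 C) 3594 [132, 160, 169, 174, 178] (v17_mem C) (by decide +kernel) (by decide +kernel)

theorem s18_913 : Good C (vlist C) (v18 C) 1450 :=
  good_seed C (f9703 C) 1450 [130, 152, 168, 178] (v18_mem C) (by decide +kernel) (by decide +kernel)

theorem s18_914 : Good C (vlist C) (v18 C) 3164 :=
  good_seed C (f14167 C) 3164 [147, 150, 167, 175] (v18_mem C) (by decide +kernel) (by decide +kernel)

theorem s18_915 : Good C (vlist C) (v18 C) 1340 :=
  good_seed C (f12546 C) 1340 [140, 151, 165, 177] (v16_mem C) (by decide +kernel) (by decide +kernel)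

theorem s18_916 : Good C (vlist C) (v18 C) 2855 :=
  good_seed C (f13734 C) 2855 [132, 151, 168] (v17_mem C) (by decide +kernel) (by decide +kernel)

theorem s18_917 : Good C (vlist C) (v18 C) 1676 :=
  good_seed C (f16928 C) 1676 [138, 160, 168, 172] (v19_mem C) (by decide +kernel) (by decide +kernel)

theorem s18_918 : Good C (vlist C) (v18 C) 1343 :=
  good_seed C (f9711 C) 1343 [146, 158, 172] (v18_mem C) (by decide +kernel) (by decide +kernel)

theorem s18_919 : Good C (vlist C) (v18 C) 3292 :=
  good_seed C (f14915 C) 3292 [128, 157, 173] (v17_mem C) (by decide +kernel) (by decide +kernel)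

theorem s18_920 : Good C (vlist C) (v18 C) 2340 :=
  good_seed C (f9098 C) 2340 [147, 163, 168, 171, 178] (v9_mem C) (by decide +kernel) (by decide +kernel)

theorem s18_921 : Good C (vlist C) (v18 C) 3267 :=
  good_seed C (f12002 C) 3267 [146, 163, 168, 171, 178] (v18_mem C) (by decide +kernel) (by decide +kernel)

theorem s18_922 : Good C (vlist C) (v18 C) 2063 :=
  good_seed C (f13168 C) 2063 [126, 157, 166] (v18_mem C) (by decide +kernel) (by decide +kernel)

theorem s18_923 : Good C (vlist C) (v18 C) 1459 :=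
  good_seed C (f7872 C) 1459 [130, 157, 165, 174] (v18_mem C) (by decide +kernel) (by decide +kernel)

theorem s18_924 : Good C (vlist C) (v18 C) 1993 :=
  good_seed C (f13050 C) 1993 [146, 163, 167, 175] (v18_mem C) (by decide +kernel) (by decide +kernel)

theorem s18_925 : Good C (vlist C) (v18 C) 1706 :=
  good_seed C (f10034 C) 1706 [135, 162, 168, 174] (v18_mem C) (by decide +kernel) (by decide +kernel)

theorem s18_926 : Good C (vlist C) (v18 C) 1360 :=
  good_seed C (f13335 C) 1360 [140, 156, 169, 173, 177] (v18_mem C) (by decide +kernel) (by decide +kernel)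

theorem s18_927 : Good C (vlist C) (v18 C) 3309 :=
  good_seed C (f7772 C) 3309 [174] (v17_mem C) (by decide +kernel) (by decide +kernel)

theorem s18_928 : Good C (vlist C) (v18 C) 1367 :=
  good_seed C (f6931 C) 1367 [126, 163, 169, 172, 178] (v4_mem C) (by decide +kernel) (by decide +kernel)

theorem s18_929 : Good C (vlist C) (v18 C) 2247 :=
  good_seed C (f12127 C) 2247 [129, 156, 165, 177] (v18_mem C) (by decide +kernel) (by decide +kernel)

theorem s18_930 : Good C (vlist C) (v18 C) 1372 :=
  good_seed C (f9604 C) 1372 [143, 157, 172, 178] (v18_mem C) (by decide +kernel) (by decide +kernel)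

theorem s18_931 : Good C (vlist C) (v18 C) 1375 :=
  good_seed C (f13409 C) 1375 [133, 159, 170, 175] (v18_mem C) (by decide +kernel) (by decide +kernel)

theorem s18_932 : Good C (vlist C) (v18 C) 1378 :=
  good_seed C (f12569 C) 1378 [127, 158, 169, 175, 177] (v18_mem C) (by decide +kernel) (by decide +kernel)

theorem s18_933 : Good C (vlist C) (v18 C) 1787 :=
  good_seed C (f9689 C) 1787 [128, 156, 167, 174] (v17_mem C) (by decide +kernel) (by decide +kernel)

theorem s18_934 : Good C (vlist C) (v18 C) 1905 :=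
  good_seed C (f13620 C) 1905 [141, 161, 172, 177] (v16_mem C) (by decide +kernel) (by decide +kernel)

theorem s18_935 : Good C (vlist C) (v18 C) 1384 :=
  good_seed C (f12419 C) 1384 [154, 165, 178] (v18_mem C) (by decide +kernel) (by decide +kernel)

theorem s18_936 : Good C (vlist C) (v18 C) 3276 :=
  good_seed C (f9269 C) 3276 [126, 149, 170, 174] (v17_mem C) (by decide +kernel) (by decide +kernel)

theorem s18_937 : Good C (vlist C) (v18 C) 1465 :=
  good_seed C (f11684 C) 1465 [144, 151, 170, 171, 177] (v18_mem C) (by decide +kernel) (by decide +kernel)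

theorem s18_938 : Good C (vlist C) (v18 C) 2555 :=
  good_seed C (f9424 C) 2555 [148, 153, 165, 174, 177] (v17_mem C) (by decide +kernel) (by decide +kernel)

theorem s18_939 : Good C (vlist C) (v18 C) 1394 :=
  good_seed C (f11889 C) 1394 [126, 159, 169, 175, 178] (v16_mem C) (by decide +kernel) (by decide +kernel)

theorem s18_940 : Good C (vlist C) (v18 C) 1396 :=
  good_seed C (f12391 C) 1396 [128, 160, 169, 176, 178] (v18_mem C) (by decide +kernel) (by decide +kernel)

theorem s18_941 : Good C (vlist C) (v18 C) 3046 :=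
  good_seed C (f12494 C) 3046 [128, 176] (v17_mem C) (by decide +kernel) (by decide +kernel)

theorem s18_942 : Good C (vlist C) (v18 C) 1872 :=
  good_seed C (f16021 C) 1872 [128, 158, 164, 175, 177] (v19_mem C) (by decide +kernel) (by decide +kernel)

theorem s18_943 : Good C (vlist C) (v18 C) 1895 :=
  good_seed C (f10015 C) 1895 [148, 157, 168, 171] (v17_mem C) (by decide +kernel) (by decide +kernel)

theorem s18_944 : Good C (vlist C) (v18 C) 1410 :=
  good_seed C (f11424 C) 1410 [138, 153, 168, 171, 178] (v18_mem C) (by decide +kernel) (by decide +kernel)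

theorem s18_945 : Good C (vlist C) (v18 C) 1414 :=
  good_seed C (f10951 C) 1414 [137, 152, 170, 176, 177] (v17_mem C) (by decide +kernel) (by decide +kernel)

theorem s18_946 : Good C (vlist C) (v18 C) 3315 :=
  good_seed C (f16194 C) 3315 [132, 159, 169, 174, 178] (v19_mem C) (by decide +kernel) (by decide +kernel)

theorem s18_947 : Good C (vlist C) (v18 C) 3648 :=
  good_seed C (f15079 C) 3648 [144, 155, 166, 171, 178] (v17_mem C) (by decide +kernel) (by decide +kernel)

theorem s18_948 : Good C (vlist C) (v18 C) 3098 :=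
  good_seed C (f15444 C) 3098 [135, 153, 170, 175, 178] (v18_mem C) (by decide +kernel) (by decide +kernel)

theorem s18_949 : Good C (vlist C) (v18 C) 2257 :=
  good_seed C (f9904 C) 2257 [142, 155, 165, 171, 177] (v18_mem C) (by decide +kernel) (by decide +kernel)

theorem s18_950 : Good C (vlist C) (v18 C) 1425 :=
  good_seed C (f12644 C) 1425 [137, 163, 165, 173] (v15_mem C) (by decide +kernel) (by decide +kernel)

theorem s18_951 : Good C (vlist C) (v18 C) 2865 :=
  good_seed C (f12330 C) 2865 [133, 152, 165, 172, 177] (v15_mem C) (by decide +kernel) (by decide +kernel)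

theorem s18_952 : Good C (vlist C) (v18 C) 1954 :=
  good_seed C (f7688 C) 1954 [129, 153, 166, 178] (v10_mem C) (by decide +kernel) (by decide +kernel)

theorem s18_953 : Good C (vlist C) (v18 C) 3252 :=
  good_seed C (f12484 C) 3252 [144, 160, 167, 171] (v18_mem C) (by decide +kernel) (by decide +kernel)

theorem s18_954 : Good C (vlist C) (v18 C) 1434 :=
  good_seed C (f12399 C) 1434 [147, 166, 176, 177] (v16_mem C) (by decide +kernel) (by decide +kernel)

theorem s18_955 : Good C (vlist C) (v18 C) 1435 :=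
  good_seed C (f15177 C) 1435 [135, 160, 171, 178] (v18_mem C) (by decide +kernel) (by decide +kernel)

theorem s18_956 : Good C (vlist C) (v18 C) 3735 :=
  good_seed C (f14105 C) 3735 [130, 161, 170, 175] (v18_mem C) (by decide +kernel) (by decide +kernel)

theorem s18_957 : Good C (vlist C) (v18 C) 1520 :=
  good_seed C (f7236 C) 1520 [135, 158, 169, 171, 177] (v18_mem C) (by decide +kernel) (by decide +kernel)

theorem s18_958 : Good C (vlist C) (v18 C) 2914 :=
  good_seed C (f7026 C) 2914 [142, 159, 168, 176] (v18_mem C) (by decide +kernel) (by decide +kernel)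

theorem s18_959 : Good C (vlist C) (v18 C) 3763 :=
  good_seed C (f15348 C) 3763 [141, 163, 166, 178] (v18_mem C) (by decide +kernel) (by decide +kernel)

theorem s18_960 : Good C (vlist C) (v18 C) 2928 :=
  good_seed C (f14853 C) 2928 [153, 168, 176] (v17_mem C) (by decide +kernel) (by decide +kernel)

theorem s18_961 : Good C (vlist C) (v18 C) 1454 :=
  good_seed C (f9238 C) 1454 [133, 152, 169, 175, 178] (v17_mem C) (by decide +kernel) (by decide +kernel)

theorem s18_962 : Good C (vlist C) (v18 C) 1457 :=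
  good_seed C (f14895 C) 1457 [126, 155, 164, 173, 178] (v18_mem C) (by decide +kernel) (by decide +kernel)

theorem s18_963 : Good C (vlist C) (v18 C) 1460 :=
  good_seed C (f9819 C) 1460 [131, 153, 166, 176, 177] (v18_mem C) (by decide +kernel) (by decide +kernel)

theorem s18_964 : Good C (vlist C) (v18 C) 1461 :=
  good_seed C (f13912 C) 1461 [135, 156, 174, 178] (v18_mem C) (by decide +kernel) (by decide +kernel)

theorem s18_965 : Good C (vlist C) (v18 C) 2245 :=
  good_seed C (f10867 C) 2245 [142, 160, 166, 175] (v17_mem C) (by decide +kernel) (by decide +kernel)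

theorem s18_966 : Good C (vlist C) (v18 C) 2057 :=
  good_seed C (f10282 C) 2057 [156, 165, 174] (v18_mem C) (by decide +kernel) (by decide +kernel)

theorem s18_967 : Good C (vlist C) (v18 C) 2505 :=
  good_seed C (f12321 C) 2505 [138, 157, 170, 172] (v9_mem C) (by decide +kernel) (by decide +kernel)

theorem s18_968 : Good C (vlist C) (v18 C) 1468 :=
  good_seed C (f7919 C) 1468 [130, 154, 169, 177] (v10_mem C) (by decide +kernel) (by decide +kernel)

theorem s18_969 : Good C (vlist C) (v18 C) 3003 :=
  good_seed C (f9036 C) 3003 [129, 164] (v18_mem C) (by decide +kernel) (by decide +kernel)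

theorem s18_970 : Good C (vlist C) (v18 C) 2229 :=
  good_seed C (f14000 C) 2229 [132, 155, 170, 174] (v18_mem C) (by decide +kernel) (by decide +kernel)

theorem s18_971 : Good C (vlist C) (v18 C) 2559 :=
  good_seed C (f11318 C) 2559 [128, 152, 166, 176, 178] (v16_mem C) (by decide +kernel) (by decide +kernel)

theorem s18_972 : Good C (vlist C) (v18 C) 2742 :=
  good_seed C (f15421 C) 2742 [141, 156, 167, 173] (v18_mem C) (by decide +kernel) (by decide +kernel)

theorem s18_973 : Good C (vlist C) (v18 C) 3073 :=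
  good_seed C (f13221 C) 3073 [145, 162, 168, 178] (v18_mem C) (by decide +kernel) (by decide +kernel)

theorem s18_974 : Good C (vlist C) (v18 C) 1491 :=
  good_seed C (f13209 C) 1491 [127, 161, 168, 177] (v18_mem C) (by decide +kernel) (by decide +kernel)

theorem s18_975 : Good C (vlist C) (v18 C) 1494 :=
  good_seed C (f11175 C) 1494 [133, 153, 167, 174, 178] (v15_mem C) (by decide +kernel) (by decide +kernel)

theorem s18_976 : Good C (vlist C) (v18 C) 1495 :=
  good_seed C (f14588 C) 1495 [142, 153, 166, 174] (v16_mem C) (by decide +kernel) (by decide +kernel)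

theorem s18_977 : Good C (vlist C) (v18 C) 1498 :=
  good_seed C (f13274 C) 1498 [152, 171] (v18_mem C) (by decide +kernel) (by decide +kernel)

theorem s18_978 : Good C (vlist C) (v18 C) 1718 :=
  good_seed C (f11334 C) 1718 [131, 161, 167] (v17_mem C) (by decide +kernel) (by decide +kernel)

theorem s18_979 : Good C (vlist C) (v18 C) 1502 :=
  good_seed C (f7304 C) 1502 [142, 163, 167, 174] (v17_mem C) (by decide +kernel) (by decide +kernel)

theorem s18_980 : Good C (vlist C) (v18 C) 1634 :=
  good_seed C (f13566 C) 1634 [148, 159, 165, 178] (v15_mem C) (by decide +kernel) (by decide +kernel)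

theorem s18_981 : Good C (vlist C) (v18 C) 3457 :=
  good_seed C (f16062 C) 3457 [132, 159, 169, 171, 177] (v19_mem C) (by decide +kernel) (by decide +kernel)

theorem s18_982 : Good C (vlist C) (v18 C) 2349 :=
  good_seed C (f10332 C) 2349 [147, 157, 166, 174, 178] (v18_mem C) (by decide +kernel) (by decide +kernel)

theorem s18_983 : Good C (vlist C) (v18 C) 2305 :=
  good_seed C (f14862 C) 2305 [127, 155, 165, 171] (v18_mem C) (by decide +kernel) (by decide +kernel)

theorem s18_984 : Good C (vlist C) (v18 C) 1521 :=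
  good_seed C (f14112 C) 1521 [141, 160, 169, 174, 177] (v18_mem C) (by decide +kernel) (by decide +kernel)

theorem s18_985 : Good C (vlist C) (v18 C) 1998 :=
  good_seed C (f13098 C) 1998 [143, 160, 165, 173, 177] (v18_mem C) (by decide +kernel) (by decide +kernel)

theorem s18_986 : Good C (vlist C) (v18 C) 1525 :=
  good_seed C (f9794 C) 1525 [133, 160, 166, 178] (v18_mem C) (by decide +kernel) (by decide +kernel)

theorem s18_987 : Good C (vlist C) (v18 C) 1530 :=
  good_seed C (f10797 C) 1530 [130, 161, 166, 177] (v17_mem C) (by decide +kernel) (by decide +kernel)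

theorem s18_988 : Good C (vlist C) (v18 C) 1533 :=
  good_seed C (f15041 C) 1533 [145, 155, 166, 176, 178] (v17_mem C) (by decide +kernel) (by decide +kernel)

theorem s18_989 : Good C (vlist C) (v18 C) 3683 :=
  good_seed C (f13702 C) 3683 [146, 160, 170, 176] (v17_mem C) (by decide +kernel) (by decide +kernel)

theorem s18_990 : Good C (vlist C) (v18 C) 1537 :=
  good_seed C (f8854 C) 1537 [132, 154, 175] (v17_mem C) (by decide +kernel) (by decide +kernel)

theorem s18_991 : Good C (vlist C) (v18 C) 1540 :=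
  good_seed C (f15710 C) 1540 [130, 150, 166, 174, 177] (v19_mem C) (by decide +kernel) (by decide +kernel)

theorem s18_992 : Good C (vlist C) (v18 C) 2297 :=
  good_seed C (f13545 C) 2297 [147, 161, 169, 171, 177] (v14_mem C) (by decide +kernel) (by decide +kernel)

theorem s18_993 : Good C (vlist C) (v18 C) 2908 :=
  good_seed C (f12126 C) 2908 [133, 149, 164, 171] (v18_mem C) (by decide +kernel) (by decide +kernel)

theorem s18_994 : Good C (vlist C) (v18 C) 3270 :=
  good_seed C (f13123 C) 3270 [129, 161, 167, 174, 177] (v18_mem C) (by decide +kernel) (by decide +kernel)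

theorem s18_995 : Good C (vlist C) (v18 C) 1550 :=
  good_seed C (f9778 C) 1550 [143, 149, 169, 174] (v18_mem C) (by decide +kernel) (by decide +kernel)

theorem s18_996 : Good C (vlist C) (v18 C) 1557 :=
  good_seed C (f12136 C) 1557 [132, 163, 164, 171] (v17_mem C) (by decide +kernel) (by decide +kernel)

theorem s18_997 : Good C (vlist C) (v18 C) 2837 :=
  good_seed C (f14136 C) 2837 [127, 163, 166, 171] (v18_mem C) (by decide +kernel) (by decide +kernel)

theorem s18_998 : Good C (vlist C) (v18 C) 2043 :=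
  good_seed C (f7270 C) 2043 [129, 154, 166, 176, 177] (v17_mem C) (by decide +kernel) (by decide +kernel)

theorem s18_999 : Good C (vlist C) (v18 C) 2844 :=
  good_seed C (f9177 C) 2844 [138, 162, 168, 177] (v17_mem C) (by decide +kernel) (by decide +kernel)

theorem s18_1000 : Good C (vlist C) (v18 C) 1568 :=
  good_seed C (f8601 C) 1568 [133, 159, 170, 174, 177] (v5_mem C) (by decide +kernel) (by decide +kernel)

theorem s18_1001 : Good C (vlist C) (v18 C) 1572 :=
  good_seed C (f12951 C) 1572 [135, 155, 172] (v16_mem C) (by decide +kernel) (by decide +kernel)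

theorem s18_1002 : Good C (vlist C) (v18 C) 1714 :=
  good_seed C (f12142 C) 1714 [135, 160, 168, 173] (v17_mem C) (by decide +kernel) (by decide +kernel)

theorem s18_1003 : Good C (vlist C) (v18 C) 1593 :=
  good_seed C (f10113 C) 1593 [127, 158, 169, 176] (v4_mem C) (by decide +kernel) (by decide +kernel)

theorem s18_1004 : Good C (vlist C) (v18 C) 1577 :=
  good_seed C (f9533 C) 1577 [144, 163, 170, 176, 177] (v18_mem C) (by decide +kernel) (by decide +kernel)

theorem s18_1005 : Good C (vlist C) (v18 C) 2606 :=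
  good_seed C (f11914 C) 2606 [126, 152, 166, 175] (v18_mem C) (by decide +kernel) (by decide +kernel)

theorem s18_1006 : Good C (vlist C) (v18 C) 2968 :=
  good_seed C (f11607 C) 2968 [147, 155, 166, 173, 178] (v18_mem C) (by decide +kernel) (by decide +kernel)

theorem s18_1007 : Good C (vlist C) (v18 C) 1584 :=
  good_seed C (f7745 C) 1584 [134, 157, 170, 173, 178] (v17_mem C) (by decide +kernel) (by decide +kernel)

theorem s18_1008 : Good C (vlist C) (v18 C) 2101 :=
  good_seed C (f9370 C) 2101 [126, 156, 165] (v17_mem C) (by decide +kernel) (by decide +kernel)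

theorem s18_1009 : Good C (vlist C) (v18 C) 1590 :=
  good_seed C (f10891 C) 1590 [143, 157, 168, 173, 178] (v18_mem C) (by decide +kernel) (by decide +kernel)

theorem s18_1010 : Good C (vlist C) (v18 C) 1943 :=
  good_seed C (f13923 C) 1943 [128, 152, 170, 172, 177] (v17_mem C) (by decide +kernel) (by decide +kernel)

theorem s18_1011 : Good C (vlist C) (v18 C) 1597 :=
  good_seed C (f15392 C) 1597 [150, 169, 175, 178] (v18_mem C) (by decide +kernel) (by decide +kernel)

theorem s18_1012 : Good C (vlist C) (v18 C) 2328 :=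
  good_seed C (f8717 C) 2328 [132, 159, 169, 171, 177] (v10_mem C) (by decide +kernel) (by decide +kernel)

theorem s18_1013 : Good C (vlist C) (v18 C) 2709 :=
  good_seed C (f8131 C) 2709 [140, 150, 167, 172, 178] (v18_mem C) (by decide +kernel) (by decide +kernel)

theorem s18_1014 : Good C (vlist C) (v18 C) 1603 :=
  good_seed C (f12073 C) 1603 [147, 161, 169, 172] (v15_mem C) (by decide +kernel) (by decide +kernel)

theorem s18_1015 : Good C (vlist C) (v18 C) 3450 :=
  good_seed C (f14443 C) 3450 [146, 154, 164, 175, 177] (v17_mem C) (by decide +kernel) (by decide +kernel)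

theorem s18_1016 : Good C (vlist C) (v18 C) 1932 :=
  good_seed C (f15675 C) 1932 [144, 161, 165, 173] (v19_mem C) (by decide +kernel) (by decide +kernel)

theorem s18_1017 : Good C (vlist C) (v18 C) 1606 :=
  good_seed C (f10549 C) 1606 [142, 152, 169, 176, 178] (v15_mem C) (by decide +kernel) (by decide +kernel)

theorem s18_1018 : Good C (vlist C) (v18 C) 2602 :=
  good_seed C (f7754 C) 2602 [147, 152, 164, 176, 178] (v18_mem C) (by decide +kernel) (by decide +kernel)

theorem s18_1019 : Good C (vlist C) (v18 C) 1617 :=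
  good_seed C (f9440 C) 1617 [133, 163, 168, 174, 177] (v17_mem C) (by decide +kernel) (by decide +kernel)

theorem s18_1020 : Good C (vlist C) (v18 C) 1619 :=
  good_seed C (f11033 C) 1619 [126, 161, 168, 175, 177] (v18_mem C) (by decide +kernel) (by decide +kernel)

theorem s18_1021 : Good C (vlist C) (v18 C) 1620 :=
  good_seed C (f9304 C) 1620 [140, 162, 168, 175] (v17_mem C) (by decide +kernel) (by decide +kernel)

theorem s18_1022 : Good C (vlist C) (v18 C) 1623 :=
  good_seed C (f10154 C) 1623 [143, 157, 165, 172, 178] (v4_mem C) (by decide +kernel) (by decide +kernel)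

theorem s18_1023 : Good C (vlist C) (v18 C) 1624 :=
  good_seed C (f12810 C) 1624 [146, 156, 177] (v18_mem C) (by decide +kernel) (by decide +kernel)

theorem s18_1024 : Good C (vlist C) (v18 C) 2775 :=
  good_seed C (f10519 C) 2775 [135, 155, 168, 171] (v16_mem C) (by decide +kernel) (by decide +kernel)

theorem s18_1025 : Good C (vlist C) (v18 C) 1627 :=
  good_seed C (f6980 C) 1627 [147, 159, 165, 174] (v17_mem C) (by decide +kernel) (by decide +kernel)

theorem s18_1026 : Good C (vlist C) (v18 C) 3007 :=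
  good_seed C (f13836 C) 3007 [134, 162, 165, 174, 177] (v17_mem C) (by decide +kernel) (by decide +kernel)

theorem s18_1027 : Good C (vlist C) (v18 C) 3428 :=
  good_seed C (f10162 C) 3428 [140, 150, 175] (v18_mem C) (by decide +kernel) (by decide +kernel)

theorem s18_1028 : Good C (vlist C) (v18 C) 3536 :=
  good_seed C (f9634 C) 3536 [133, 161, 170, 171, 178] (v18_mem C) (by decide +kernel) (by decide +kernel)

theorem s18_1029 : Good C (vlist C) (v18 C) 2912 :=
  good_seed C (f13793 C) 2912 [140, 149, 170, 175, 177] (v17_mem C) (by decide +kernel) (by decide +kernel)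

theorem s18_1030 : Good C (vlist C) (v18 C) 2498 :=
  good_seed C (f10220 C) 2498 [138, 163, 165, 173, 178] (v4_mem C) (by decide +kernel) (by decide +kernel)

theorem s18_1031 : Good C (vlist C) (v18 C) 1883 :=
  good_seed C (f13420 C) 1883 [136, 152, 174, 177] (v18_mem C) (by decide +kernel) (by decide +kernel)

theorem s18_1032 : Good C (vlist C) (v18 C) 1669 :=
  good_seed C (f12679 C) 1669 [135, 150, 174, 177] (v17_mem C) (by decide +kernel) (by decide +kernel)

theorem s18_1033 : Good C (vlist C) (v18 C) 1673 :=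
  good_seed C (f12063 C) 1673 [127, 153, 167, 176, 178] (v18_mem C) (by decide +kernel) (by decide +kernel)

theorem s18_1034 : Good C (vlist C) (v18 C) 1677 :=
  good_seed C (f12830 C) 1677 [131, 157, 167, 171] (v18_mem C) (by decide +kernel) (by decide +kernel)

theorem s18_1035 : Good C (vlist C) (v18 C) 1686 :=
  good_seed C (f12563 C) 1686 [131, 158, 164, 173, 178] (v15_mem C) (by decide +kernel) (by decide +kernel)

theorem s18_1036 : Good C (vlist C) (v18 C) 1692 :=
  good_seed C (f13942 C) 1692 [129, 151, 169, 173] (v18_mem C) (by decide +kernel) (by decide +kernel)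

theorem s18_1037 : Good C (vlist C) (v18 C) 1842 :=
  good_seed C (f13070 C) 1842 [146, 161, 169, 172, 177] (v16_mem C) (by decide +kernel) (by decide +kernel)

theorem s18_1038 : Good C (vlist C) (v18 C) 2088 :=
  good_seed C (f14641 C) 2088 [147, 151, 168, 176, 177] (v18_mem C) (by decide +kernel) (by decide +kernel)

theorem s18_1039 : Good C (vlist C) (v18 C) 1701 :=
  good_seed C (f10489 C) 1701 [126, 155, 168, 171, 178] (v18_mem C) (by decide +kernel) (by decide +kernel)

theorem s18_1040 : Good C (vlist C) (v18 C) 1702 :=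
  good_seed C (f10838 C) 1702 [137, 149, 168, 173, 178] (v17_mem C) (by decide +kernel) (by decide +kernel)

theorem s18_1041 : Good C (vlist C) (v18 C) 3275 :=
  good_seed C (f7179 C) 3275 [143, 153, 168, 176] (v18_mem C) (by decide +kernel) (by decide +kernel)

theorem s18_1042 : Good C (vlist C) (v18 C) 2485 :=
  good_seed C (f9731 C) 2485 [138, 150, 170, 177] (v18_mem C) (by decide +kernel) (by decide +kernel)

theorem s18_1043 : Good C (vlist C) (v18 C) 2693 :=
  good_seed C (f10604 C) 2693 [126, 162, 165, 174, 178] (v17_mem C) (by decide +kernel) (by decide +kernel)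

theorem s18_1044 : Good C (vlist C) (v18 C) 2141 :=
  good_seed C (f12606 C) 2141 [129, 154, 167, 174] (v18_mem C) (by decide +kernel) (by decide +kernel)

theorem s18_1045 : Good C (vlist C) (v18 C) 3497 :=
  good_seed C (f11577 C) 3497 [131, 153, 165, 176, 178] (v18_mem C) (by decide +kernel) (by decide +kernel)

theorem s18_1046 : Good C (vlist C) (v18 C) 2525 :=
  good_seed C (f12427 C) 2525 [134, 159, 166, 175, 178] (v15_mem C) (by decide +kernel) (by decide +kernel)

theorem s18_1047 : Good C (vlist C) (v18 C) 3761 :=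
  good_seed C (f17174 C) 3761 [146, 156, 165, 176, 177] (v19_mem C) (by decide +kernel) (by decide +kernel)

theorem s18_1048 : Good C (vlist C) (v18 C) 2478 :=
  good_seed C (f16457 C) 2478 [137, 159, 166] (v19_mem C) (by decide +kernel) (by decide +kernel)

theorem s18_1049 : Good C (vlist C) (v18 C) 1965 :=
  good_seed C (f11045 C) 1965 [127, 157, 169, 171] (v18_mem C) (by decide +kernel) (by decide +kernel)

theorem s18_1050 : Good C (vlist C) (v18 C) 2860 :=
  good_seed C (f14724 C) 2860 [146, 156, 169, 178] (v18_mem C) (by decide +kernel) (by decide +kernel)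

theorem s18_1051 : Good C (vlist C) (v18 C) 1990 :=
  good_seed C (f11735 C) 1990 [148, 156, 167, 174, 177] (v17_mem C) (by decide +kernel) (by decide +kernel)

theorem s18_1052 : Good C (vlist C) (v18 C) 1730 :=
  good_seed C (f14844 C) 1730 [139, 158, 172, 178] (v18_mem C) (by decide +kernel) (by decide +kernel)

theorem s18_1053 : Good C (vlist C) (v18 C) 1838 :=
  good_seed C (f10076 C) 1838 [147, 159, 169, 172] (v18_mem C) (by decide +kernel) (by decide +kernel)

theorem s18_1054 : Good C (vlist C) (v18 C) 1733 :=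
  good_seed C (f9678 C) 1733 [141, 168, 176, 178] (v18_mem C) (by decide +kernel) (by decide +kernel)

theorem s18_1055 : Good C (vlist C) (v18 C) 3290 :=
  good_seed C (f8796 C) 3290 [144, 152, 164, 171] (v17_mem C) (by decide +kernel) (by decide +kernel)

theorem s18_1056 : Good C (vlist C) (v18 C) 1736 :=
  good_seed C (f10179 C) 1736 [138, 155, 165, 171] (v18_mem C) (by decide +kernel) (by decide +kernel)

theorem s18_1057 : Good C (vlist C) (v18 C) 2314 :=
  good_seed C (f8749 C) 2314 [145, 161, 164, 172, 178] (v15_mem C) (by decide +kernel) (by decide +kernel)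

theorem s18_1058 : Good C (vlist C) (v18 C) 3438 :=
  good_seed C (f11204 C) 3438 [142, 171] (v18_mem C) (by decide +kernel) (by decide +kernel)

theorem s18_1059 : Good C (vlist C) (v18 C) 3772 :=
  good_seed C (f8483 C) 3772 [131, 150, 166, 171, 178] (v17_mem C) (by decide +kernel) (by decide +kernel)

theorem s18_1060 : Good C (vlist C) (v18 C) 2678 :=
  good_seed C (f9752 C) 2678 [137, 153, 166, 172, 178] (v18_mem C) (by decide +kernel) (by decide +kernel)

theorem s18_1061 : Good C (vlist C) (v18 C) 3714 :=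
  good_seed C (f15304 C) 3714 [135, 161, 166, 174, 177] (v18_mem C) (by decide +kernel) (by decide +kernel)

theorem s18_1062 : Good C (vlist C) (v18 C) 1760 :=
  good_seed C (f13613 C) 1760 [137, 157, 170, 178] (v16_mem C) (by decide +kernel) (by decide +kernel)

theorem s18_1063 : Good C (vlist C) (v18 C) 1766 :=
  good_seed C (f13381 C) 1766 [137, 151, 164, 174, 178] (v18_mem C) (by decide +kernel) (by decide +kernel)

theorem s18_1064 : Good C (vlist C) (v18 C) 3334 :=
  good_seed C (f14221 C) 3334 [153, 167, 171, 177] (v18_mem C) (by decide +kernel) (by decide +kernel)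

theorem s18_1065 : Good C (vlist C) (v18 C) 1771 :=
  good_seed C (f11717 C) 1771 [145, 153, 166, 173, 178] (v18_mem C) (by decide +kernel) (by decide +kernel)

theorem s18_1066 : Good C (vlist C) (v18 C) 1777 :=
  good_seed C (f14568 C) 1777 [133, 152, 168, 171, 177] (v17_mem C) (by decide +kernel) (by decide +kernel)

theorem s18_1067 : Good C (vlist C) (v18 C) 2711 :=
  good_seed C (f14016 C) 2711 [147, 154, 168, 176, 178] (v18_mem C) (by decide +kernel) (by decide +kernel)

theorem s18_1068 : Good C (vlist C) (v18 C) 2661 :=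
  good_seed C (f11693 C) 2661 [147, 163, 168, 171] (v18_mem C) (by decide +kernel) (by decide +kernel)

theorem s18_1069 : Good C (vlist C) (v18 C) 3077 :=
  good_seed C (f11504 C) 3077 [144, 151, 166, 173, 178] (v18_mem C) (by decide +kernel) (by decide +kernel)

theorem s18_1070 : Good C (vlist C) (v18 C) 1791 :=
  good_seed C (f11754 C) 1791 [138, 155, 167, 178] (v15_mem C) (by decide +kernel) (by decide +kernel)

theorem s18_1071 : Good C (vlist C) (v18 C) 3031 :=
  good_seed C (f9070 C) 3031 [126, 163] (v15_mem C) (by decide +kernel) (by decide +kernel)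

theorem s18_1072 : Good C (vlist C) (v18 C) 2798 :=
  good_seed C (f12730 C) 2798 [143, 150, 169, 174, 178] (v17_mem C) (by decide +kernel) (by decide +kernel)

theorem s18_1073 : Good C (vlist C) (v18 C) 1802 :=
  good_seed C (f10163 C) 1802 [148, 166, 171, 177] (v18_mem C) (by decide +kernel) (by decide +kernel)

theorem s18_1074 : Good C (vlist C) (v18 C) 1804 :=
  good_seed C (f13472 C) 1804 [133, 155, 168, 172, 178] (v4_mem C) (by decide +kernel) (by decide +kernel)

theorem s18_1075 : Good C (vlist C) (v18 C) 1807 :=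
  good_seed C (f8679 C) 1807 [136, 153, 175] (v18_mem C) (by decide +kernel) (by decide +kernel)

theorem s18_1076 : Good C (vlist C) (v18 C) 2737 :=
  good_seed C (f10749 C) 2737 [137, 172] (v17_mem C) (by decide +kernel) (by decide +kernel)

theorem s18_1077 : Good C (vlist C) (v18 C) 2690 :=
  good_seed C (f9586 C) 2690 [145, 163, 168, 171] (v17_mem C) (by decide +kernel) (by decide +kernel)

theorem s18_1078 : Good C (vlist C) (v18 C) 1959 :=
  good_seed C (f13326 C) 1959 [141, 161, 168, 176, 178] (v18_mem C) (by decide +kernel) (by decide +kernel)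

theorem s18_1079 : Good C (vlist C) (v18 C) 2344 :=
  good_seed C (f15720 C) 2344 [132, 163, 166, 173] (v19_mem C) (by decide +kernel) (by decide +kernel)

theorem s18_1080 : Good C (vlist C) (v18 C) 2149 :=
  good_seed C (f16413 C) 2149 [129, 159, 168, 172, 178] (v19_mem C) (by decide +kernel) (by decide +kernel)

theorem s18_1081 : Good C (vlist C) (v18 C) 1836 :=
  good_seed C (f10370 C) 1836 [143, 153, 166, 171] (v15_mem C) (by decide +kernel) (by decide +kernel)

theorem s18_1082 : Good C (vlist C) (v18 C) 3234 :=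
  good_seed C (f11932 C) 3234 [134, 162, 168, 177] (v18_mem C) (by decide +kernel) (by decide +kernel)

theorem s18_1083 : Good C (vlist C) (v18 C) 1839 :=
  good_seed C (f10628 C) 1839 [156, 167, 174] (v17_mem C) (by decide +kernel) (by decide +kernel)

theorem s18_1084 : Good C (vlist C) (v18 C) 3524 :=
  good_seed C (f17528 C) 3524 [143, 162, 174] (v20_mem C) (by decide +kernel) (by decide +kernel)

theorem s18_1085 : Good C (vlist C) (v18 C) 3614 :=
  good_seed C (f11940 C) 3614 [132, 159, 165, 173, 177] (v18_mem C) (by decide +kernel) (by decide +kernel)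

theorem s18_1086 : Good C (vlist C) (v18 C) 2871 :=
  good_seed C (f14120 C) 2871 [133, 155, 168, 174, 178] (v18_mem C) (by decide +kernel) (by decide +kernel)

theorem s18_1087 : Good C (vlist C) (v18 C) 1859 :=
  good_seed C (f15248 C) 1859 [143, 153, 165, 178] (v18_mem C) (by decide +kernel) (by decide +kernel)

theorem s18_1088 : Good C (vlist C) (v18 C) 2982 :=
  good_seed C (f11025 C) 2982 [141, 153, 168, 172] (v17_mem C) (by decide +kernel) (by decide +kernel)

theorem s18_1089 : Good C (vlist C) (v18 C) 3544 :=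
  good_seed C (f13723 C) 3544 [138, 157, 165, 174, 177] (v17_mem C) (by decide +kernel) (by decide +kernel)

theorem s18_1090 : Good C (vlist C) (v18 C) 3187 :=
  good_seed C (f12793 C) 3187 [131, 149, 170, 175, 178] (v16_mem C) (by decide +kernel) (by decide +kernel)

theorem s18_1091 : Good C (vlist C) (v18 C) 1967 :=
  good_seed C (f14058 C) 1967 [142, 152, 174, 178] (v18_mem C) (by decide +kernel) (by decide +kernel)

theorem s18_1092 : Good C (vlist C) (v18 C) 1873 :=
  good_seed C (f9695 C) 1873 [147, 162, 174] (v18_mem C) (by decide +kernel) (by decide +kernel)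

theorem s18_1093 : Good C (vlist C) (v18 C) 1875 :=
  good_seed C (f13941 C) 1875 [139, 154, 165, 175] (v18_mem C) (by decide +kernel) (by decide +kernel)

theorem s18_1094 : Good C (vlist C) (v18 C) 2688 :=
  good_seed C (f9635 C) 2688 [129, 152, 168, 176] (v18_mem C) (by decide +kernel) (by decide +kernel)

theorem s18_1095 : Good C (vlist C) (v18 C) 2038 :=
  good_seed C (f13674 C) 2038 [140, 161, 175] (v16_mem C) (by decide +kernel) (by decide +kernel)

theorem s18_1096 : Good C (vlist C) (v18 C) 3611 :=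
  good_seed C (f8316 C) 3611 [133, 149, 165, 178] (v4_mem C) (by decide +kernel) (by decide +kernel)

theorem s18_1097 : Good C (vlist C) (v18 C) 1900 :=
  good_seed C (f14522 C) 1900 [132, 162, 167, 172, 178] (v15_mem C) (by decide +kernel) (by decide +kernel)

theorem s18_1098 : Good C (vlist C) (v18 C) 1908 :=
  good_seed C (f14894 C) 1908 [142, 151, 174, 178] (v18_mem C) (by decide +kernel) (by decide +kernel)

theorem s18_1099 : Good C (vlist C) (v18 C) 3402 :=
  good_seed C (f8196 C) 3402 [140, 152, 168, 172] (v17_mem C) (by decide +kernel) (by decide +kernel)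

theorem s18_1100 : Good C (vlist C) (v18 C) 3200 :=
  good_seed C (f7908 C) 3200 [133, 159, 169, 175, 177] (v16_mem C) (by decide +kernel) (by decide +kernel)

theorem s18_1101 : Good C (vlist C) (v18 C) 2251 :=
  good_seed C (f13008 C) 2251 [133, 163, 175] (v17_mem C) (by decide +kernel) (by decide +kernel)

theorem s18_1102 : Good C (vlist C) (v18 C) 2812 :=
  good_seed C (f12863 C) 2812 [131, 150] (v18_mem C) (by decide +kernel) (by decide +kernel)

theorem s18_1103 : Good C (vlist C) (v18 C) 2722 :=
  good_seed C (f16612 C) 2722 [139, 165, 173, 177] (v19_mem C) (by decide +kernel) (by decide +kernel)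

theorem s18_1104 : Good C (vlist C) (v18 C) 3059 :=
  good_seed C (f15399 C) 3059 [131, 153, 167, 173, 178] (v17_mem C) (by decide +kernel) (by decide +kernel)

theorem s18_1105 : Good C (vlist C) (v18 C) 2145 :=
  good_seed C (f15033 C) 2145 [127, 159, 170, 174, 178] (v15_mem C) (by decide +kernel) (by decide +kernel)

theorem s18_1106 : Good C (vlist C) (v18 C) 3163 :=
  good_seed C (f11813 C) 3163 [141, 158, 170, 173, 177] (v18_mem C) (by decide +kernel) (by decide +kernel)

theorem s18_1107 : Good C (vlist C) (v18 C) 1944 :=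
  good_seed C (f7010 C) 1944 [132, 151, 174] (v17_mem C) (by decide +kernel) (by decide +kernel)

theorem s18_1108 : Good C (vlist C) (v18 C) 2810 :=
  good_seed C (f6940 C) 2810 [134, 157, 168, 172] (v5_mem C) (by decide +kernel) (by decide +kernel)

theorem s18_1109 : Good C (vlist C) (v18 C) 2885 :=
  good_seed C (f11765 C) 2885 [126, 155, 173, 177] (v18_mem C) (by decide +kernel) (by decide +kernel)

theorem s18_1110 : Good C (vlist C) (v18 C) 2118 :=
  good_seed C (f12408 C) 2118 [127, 169, 176] (v17_mem C) (by decide +kernel) (by decide +kernel)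

theorem s18_1111 : Good C (vlist C) (v18 C) 2856 :=
  good_seed C (f8689 C) 2856 [126, 162, 168, 175, 177] (v5_mem C) (by decide +kernel) (by decide +kernel)

theorem s18_1112 : Good C (vlist C) (v18 C) 1962 :=
  good_seed C (f12202 C) 1962 [132, 160, 168, 176, 177] (v18_mem C) (by decide +kernel) (by decide +kernel)

theorem s18_1113 : Good C (vlist C) (v18 C) 1964 :=
  good_seed C (f17161 C) 1964 [132, 159, 166, 175] (v19_mem C) (by decide +kernel) (by decide +kernel)

theorem s18_1114 : Good C (vlist C) (v18 C) 1966 :=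
  good_seed C (f10488 C) 1966 [141, 160, 167, 174, 178] (v18_mem C) (by decide +kernel) (by decide +kernel)

theorem s18_1115 : Good C (vlist C) (v18 C) 3747 :=
  good_seed C (f12984 C) 3747 [142, 152, 174, 178] (v18_mem C) (by decide +kernel) (by decide +kernel)

theorem s18_1116 : Good C (vlist C) (v18 C) 1969 :=
  good_seed C (f7385 C) 1969 [137, 155, 165, 176, 178] (v17_mem C) (by decide +kernel) (by decide +kernel)

theorem s18_1117 : Good C (vlist C) (v18 C) 3055 :=
  good_seed C (f7814 C) 3055 [148, 158, 167, 174] (v17_mem C) (by decide +kernel) (by decide +kernel)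

theorem s18_1118 : Good C (vlist C) (v18 C) 1975 :=
  good_seed C (f9562 C) 1975 [135, 156, 167, 173, 178] (v18_mem C) (by decide +kernel) (by decide +kernel)

theorem s18_1119 : Good C (vlist C) (v18 C) 1981 :=
  good_seed C (f11473 C) 1981 [139, 160, 167, 174, 177] (v15_mem C) (by decide +kernel) (by decide +kernel)

theorem s18_1120 : Good C (vlist C) (v18 C) 1984 :=
  good_seed C (f14189 C) 1984 [134, 153, 164, 174, 177] (v18_mem C) (by decide +kernel) (by decide +kernel)

theorem s18_1121 : Good C (vlist C) (v18 C) 2393 :=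
  good_seed C (f8622 C) 2393 [144, 163, 170, 176, 177] (v17_mem C) (by decide +kernel) (by decide +kernel)

theorem s18_1122 : Good C (vlist C) (v18 C) 2830 :=
  good_seed C (f11608 C) 2830 [141, 163, 169, 176] (v18_mem C) (by decide +kernel) (by decide +kernel)

theorem s18_1123 : Good C (vlist C) (v18 C) 1999 :=
  good_seed C (f14166 C) 1999 [135, 150, 168, 176, 177] (v18_mem C) (by decide +kernel) (by decide +kernel)

theorem s18_1124 : Good C (vlist C) (v18 C) 3731 :=
  good_seed C (f15230 C) 3731 [127, 155, 168, 171] (v17_mem C) (by decide +kernel) (by decide +kernel)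

theorem s18_1125 : Good C (vlist C) (v18 C) 3642 :=
  good_seed C (f14411 C) 3642 [133, 163, 164, 171, 178] (v18_mem C) (by decide +kernel) (by decide +kernel)

theorem s18_1126 : Good C (vlist C) (v18 C) 2188 :=
  good_seed C (f16936 C) 2188 [133, 149, 172, 177] (v19_mem C) (by decide +kernel) (by decide +kernel)

theorem s18_1127 : Good C (vlist C) (v18 C) 3094 :=
  good_seed C (f7961 C) 3094 [131, 161, 164, 174, 178] (v17_mem C) (by decide +kernel) (by decide +kernel)

theorem s18_1128 : Good C (vlist C) (v18 C) 3248 :=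
  good_seed C (f13908 C) 3248 [127, 154, 169, 176, 178] (v18_mem C) (by decide +kernel) (by decide +kernel)

theorem s18_1129 : Good C (vlist C) (v18 C) 2207 :=
  good_seed C (f11363 C) 2207 [129, 162, 169, 171, 177] (v18_mem C) (by decide +kernel) (by decide +kernel)

theorem s18_1130 : Good C (vlist C) (v18 C) 3238 :=
  good_seed C (f11540 C) 3238 [138, 160, 172, 177] (v17_mem C) (by decide +kernel) (by decide +kernel)

theorem s18_1131 : Good C (vlist C) (v18 C) 3047 :=
  good_seed C (f12654 C) 3047 [131, 160, 167, 175, 178] (v18_mem C) (by decide +kernel) (by decide +kernel)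

theorem s18_1132 : Good C (vlist C) (v18 C) 2927 :=
  good_seed C (f13527 C) 2927 [133, 163, 168, 175, 178] (v10_mem C) (by decide +kernel) (by decide +kernel)

theorem s18_1133 : Good C (vlist C) (v18 C) 2732 :=
  good_seed C (f10636 C) 2732 [148, 152, 166, 173, 178] (v16_mem C) (by decide +kernel) (by decide +kernel)

theorem s18_1134 : Good C (vlist C) (v18 C) 2117 :=
  good_seed C (f8236 C) 2117 [146, 162, 166, 171] (v4_mem C) (by decide +kernel) (by decide +kernel)

theorem s18_1135 : Good C (vlist C) (v18 C) 3097 :=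
  good_seed C (f12525 C) 3097 [144, 156, 167, 176, 177] (v17_mem C) (by decide +kernel) (by decide +kernel)

theorem s18_1136 : Good C (vlist C) (v18 C) 3119 :=
  good_seed C (f10765 C) 3119 [138, 163, 166, 175, 178] (v18_mem C) (by decide +kernel) (by decide +kernel)

theorem s18_1137 : Good C (vlist C) (v18 C) 2049 :=
  good_seed C (f11513 C) 2049 [137, 149, 170, 175, 178] (v18_mem C) (by decide +kernel) (by decide +kernel)

theorem s18_1138 : Good C (vlist C) (v18 C) 2052 :=
  good_seed C (f8997 C) 2052 [134, 162, 164, 174] (v16_mem C) (by decide +kernel) (by decide +kernel)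

theorem s18_1139 : Good C (vlist C) (v18 C) 3430 :=
  good_seed C (f14843 C) 3430 [145, 154, 167, 172, 177] (v18_mem C) (by decide +kernel) (by decide +kernel)

theorem s18_1140 : Good C (vlist C) (v18 C) 2238 :=
  good_seed C (f14338 C) 2238 [126, 163, 168, 175, 177] (v17_mem C) (by decide +kernel) (by decide +kernel)

theorem s18_1141 : Good C (vlist C) (v18 C) 2533 :=
  good_seed C (f14371 C) 2533 [129, 163, 169, 176, 177] (v18_mem C) (by decide +kernel) (by decide +kernel)

theorem s18_1142 : Good C (vlist C) (v18 C) 3041 :=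
  good_seed C (f11327 C) 3041 [146, 152, 164, 175] (v17_mem C) (by decide +kernel) (by decide +kernel)

theorem s18_1143 : Good C (vlist C) (v18 C) 2489 :=
  good_seed C (f9818 C) 2489 [127, 159, 164, 177] (v18_mem C) (by decide +kernel) (by decide +kernel)

theorem s18_1144 : Good C (vlist C) (v18 C) 2103 :=
  good_seed C (f12052 C) 2103 [139, 157, 173, 177] (v17_mem C) (by decide +kernel) (by decide +kernel)

theorem s18_1145 : Good C (vlist C) (v18 C) 2684 :=
  good_seed C (f7594 C) 2684 [129, 161, 165] (v10_mem C) (by decide +kernel) (by decide +kernel)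

theorem s18_1146 : Good C (vlist C) (v18 C) 3741 :=
  good_seed C (f12876 C) 3741 [147, 159, 176] (v18_mem C) (by decide +kernel) (by decide +kernel)

theorem s18_1147 : Good C (vlist C) (v18 C) 2081 :=
  good_seed C (f14965 C) 2081 [146, 151, 174, 177] (v17_mem C) (by decide +kernel) (by decide +kernel)

theorem s18_1148 : Good C (vlist C) (v18 C) 2622 :=
  good_seed C (f7871 C) 2622 [144, 158, 164, 175, 178] (v18_mem C) (by decide +kernel) (by decide +kernel)

theorem s18_1149 : Good C (vlist C) (v18 C) 3396 :=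
  good_seed C (f11015 C) 3396 [130, 154, 169, 171, 178] (v18_mem C) (by decide +kernel) (by decide +kernel)

theorem s18_1150 : Good C (vlist C) (v18 C) 2093 :=
  good_seed C (f11828 C) 2093 [141, 159, 165, 173, 178] (v15_mem C) (by decide +kernel) (by decide +kernel)

theorem s18_1151 : Good C (vlist C) (v18 C) 2477 :=
  good_seed C (f9578 C) 2477 [137, 153, 175, 178] (v18_mem C) (by decide +kernel) (by decide +kernel)

theorem s18_1152 : Good C (vlist C) (v18 C) 3408 :=
  good_seed C (f17548 C) 3408 [139, 163, 170, 173] (v20_mem C) (by decide +kernel) (by decide +kernel)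

theorem s18_1153 : Good C (vlist C) (v18 C) 2731 :=
  good_seed C (f17146 C) 2731 [136, 155, 172, 178] (v19_mem C) (by decide +kernel) (by decide +kernel)

theorem s18_1154 : Good C (vlist C) (v18 C) 2105 :=
  good_seed C (f13532 C) 2105 [147, 161, 164, 174, 177] (v9_mem C) (by decide +kernel) (by decide +kernel)

theorem s18_1155 : Good C (vlist C) (v18 C) 2267 :=
  good_seed C (f11044 C) 2267 [127, 161, 170] (v18_mem C) (by decide +kernel) (by decide +kernel)

theorem s18_1156 : Good C (vlist C) (v18 C) 3651 :=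
  good_seed C (f17133 C) 3651 [148, 150, 168] (v19_mem C) (by decide +kernel) (by decide +kernel)

theorem s18_1157 : Good C (vlist C) (v18 C) 3661 :=
  good_seed C (f12037 C) 3661 [145, 162, 169, 176, 178] (v18_mem C) (by decide +kernel) (by decide +kernel)

theorem s18_1158 : Good C (vlist C) (v18 C) 3586 :=
  good_seed C (f13994 C) 3586 [142, 152, 172, 178] (v18_mem C) (by decide +kernel) (by decide +kernel)

theorem s18_1159 : Good C (vlist C) (v18 C) 2125 :=
  good_seed C (f12714 C) 2125 [144, 155, 164, 172, 177] (v17_mem C) (by decide +kernel) (by decide +kernel)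

theorem s18_1160 : Good C (vlist C) (v18 C) 3507 :=
  good_seed C (f8105 C) 3507 [135, 161, 169, 171, 177] (v17_mem C) (by decide +kernel) (by decide +kernel)

theorem s18_1161 : Good C (vlist C) (v18 C) 3138 :=
  good_seed C (f11683 C) 3138 [131, 159, 164, 174] (v18_mem C) (by decide +kernel) (by decide +kernel)

theorem s18_1162 : Good C (vlist C) (v18 C) 3228 :=
  good_seed C (f13051 C) 3228 [151, 164, 172, 178] (v18_mem C) (by decide +kernel) (by decide +kernel)

theorem s18_1163 : Good C (vlist C) (v18 C) 2398 :=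
  good_seed C (f7475 C) 2398 [132, 153, 165, 176] (v18_mem C) (by decide +kernel) (by decide +kernel)

theorem s18_1164 : Good C (vlist C) (v18 C) 3105 :=
  good_seed C (f12685 C) 3105 [139, 162, 165, 175, 178] (v18_mem C) (by decide +kernel) (by decide +kernel)

theorem s18_1165 : Good C (vlist C) (v18 C) 3505 :=
  good_seed C (f14787 C) 3505 [134, 152, 165, 175, 177] (v10_mem C) (by decide +kernel) (by decide +kernel)

theorem s18_1166 : Good C (vlist C) (v18 C) 2151 :=
  good_seed C (f14211 C) 2151 [130, 161, 169, 174] (v18_mem C) (by decide +kernel) (by decide +kernel)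

theorem s18_1167 : Good C (vlist C) (v18 C) 2685 :=
  good_seed C (f9106 C) 2685 [134, 154, 177] (v18_mem C) (by decide +kernel) (by decide +kernel)

theorem s18_1168 : Good C (vlist C) (v18 C) 2745 :=
  good_seed C (f8372 C) 2745 [129, 158, 165, 175] (v18_mem C) (by decide +kernel) (by decide +kernel)

theorem s18_1169 : Good C (vlist C) (v18 C) 3414 :=
  good_seed C (f7237 C) 3414 [127, 167, 176, 178] (v18_mem C) (by decide +kernel) (by decide +kernel)

theorem s18_1170 : Good C (vlist C) (v18 C) 2650 :=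
  good_seed C (f10756 C) 2650 [129, 152, 170, 177] (v9_mem C) (by decide +kernel) (by decide +kernel)

theorem s18_1171 : Good C (vlist C) (v18 C) 3694 :=
  good_seed C (f9655 C) 3694 [130, 153, 167, 175] (v18_mem C) (by decide +kernel) (by decide +kernel)

theorem s18_1172 : Good C (vlist C) (v18 C) 3441 :=
  good_seed C (f12164 C) 3441 [141, 153, 171, 178] (v17_mem C) (by decide +kernel) (by decide +kernel)

theorem s18_1173 : Good C (vlist C) (v18 C) 3737 :=
  good_seed C (f15521 C) 3737 [137, 159, 173, 178] (v18_mem C) (by decide +kernel) (by decide +kernel)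

theorem s18_1174 : Good C (vlist C) (v18 C) 2681 :=
  good_seed C (f10529 C) 2681 [148, 152, 164, 177] (v18_mem C) (by decide +kernel) (by decide +kernel)

theorem s18_1175 : Good C (vlist C) (v18 C) 3249 :=
  good_seed C (f15825 C) 3249 [129, 159, 166, 177] (v19_mem C) (by decide +kernel) (by decide +kernel)

theorem s18_1176 : Good C (vlist C) (v18 C) 2210 :=
  good_seed C (f11649 C) 2210 [126, 151, 169, 172] (v17_mem C) (by decide +kernel) (by decide +kernel)

theorem s18_1177 : Good C (vlist C) (v18 C) 2211 :=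
  good_seed C (f13114 C) 2211 [143, 162, 166, 171] (v18_mem C) (by decide +kernel) (by decide +kernel)

theorem s18_1178 : Good C (vlist C) (v18 C) 2388 :=
  good_seed C (f12310 C) 2388 [141, 149, 165, 176, 177] (v17_mem C) (by decide +kernel) (by decide +kernel)

theorem s18_1179 : Good C (vlist C) (v18 C) 3655 :=
  good_seed C (f14062 C) 3655 [135, 154, 170, 173] (v18_mem C) (by decide +kernel) (by decide +kernel)

theorem s18_1180 : Good C (vlist C) (v18 C) 2504 :=
  good_seed C (f13230 C) 2504 [148, 151, 167, 171, 178] (v18_mem C) (by decide +kernel) (by decide +kernel)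

theorem s18_1181 : Good C (vlist C) (v18 C) 2644 :=
  good_seed C (f8914 C) 2644 [132, 150, 169, 172, 177] (v16_mem C) (by decide +kernel) (by decide +kernel)

theorem s18_1182 : Good C (vlist C) (v18 C) 2236 :=
  good_seed C (f13306 C) 2236 [144, 159, 174, 178] (v18_mem C) (by decide +kernel) (by decide +kernel)

theorem s18_1183 : Good C (vlist C) (v18 C) 2237 :=
  good_seed C (f12485 C) 2237 [143, 162, 166, 174] (v18_mem C) (by decide +kernel) (by decide +kernel)

theorem s18_1184 : Good C (vlist C) (v18 C) 3733 :=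
  good_seed C (f14742 C) 3733 [131, 158, 164, 171, 178] (v17_mem C) (by decide +kernel) (by decide +kernel)

theorem s18_1185 : Good C (vlist C) (v18 C) 2241 :=
  good_seed C (f10202 C) 2241 [126, 155, 165, 178] (v17_mem C) (by decide +kernel) (by decide +kernel)

theorem s18_1186 : Good C (vlist C) (v18 C) 2248 :=
  good_seed C (f15452 C) 2248 [135, 157, 165, 171, 177] (v18_mem C) (by decide +kernel) (by decide +kernel)

theorem s18_1187 : Good C (vlist C) (v18 C) 2260 :=
  good_seed C (f10676 C) 2260 [129, 156, 169, 171, 178] (v17_mem C) (by decide +kernel) (by decide +kernel)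

theorem s18_1188 : Good C (vlist C) (v18 C) 2263 :=
  good_seed C (f13081 C) 2263 [141, 160, 170, 175] (v18_mem C) (by decide +kernel) (by decide +kernel)

theorem s18_1189 : Good C (vlist C) (v18 C) 2852 :=
  good_seed C (f11270 C) 2852 [146, 153, 167, 172, 177] (v16_mem C) (by decide +kernel) (by decide +kernel)

theorem s18_1190 : Good C (vlist C) (v18 C) 2274 :=
  good_seed C (f15332 C) 2274 [136, 163, 168, 177] (v17_mem C) (by decide +kernel) (by decide +kernel)

theorem s18_1191 : Good C (vlist C) (v18 C) 2289 :=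
  good_seed C (f10496 C) 2289 [143, 160, 166, 176] (v15_mem C) (by decide +kernel) (by decide +kernel)

theorem s18_1192 : Good C (vlist C) (v18 C) 3522 :=
  good_seed C (f9724 C) 3522 [133, 154, 164, 173, 177] (v18_mem C) (by decide +kernel) (by decide +kernel)

theorem s18_1193 : Good C (vlist C) (v18 C) 3543 :=
  good_seed C (f14974 C) 3543 [135, 149, 174, 177] (v16_mem C) (by decide +kernel) (by decide +kernel)

theorem s18_1194 : Good C (vlist C) (v18 C) 2311 :=
  good_seed C (f10660 C) 2311 [132, 159, 167, 171, 178] (v17_mem C) (by decide +kernel) (by decide +kernel)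

theorem s18_1195 : Good C (vlist C) (v18 C) 2317 :=
  good_seed C (f7474 C) 2317 [140, 160, 164, 171, 177] (v18_mem C) (by decide +kernel) (by decide +kernel)

theorem s18_1196 : Good C (vlist C) (v18 C) 2318 :=
  good_seed C (f7510 C) 2318 [132, 153, 164, 177] (v17_mem C) (by decide +kernel) (by decide +kernel)

theorem s18_1197 : Good C (vlist C) (v18 C) 2337 :=
  good_seed C (f12960 C) 2337 [130, 154, 164, 178] (v18_mem C) (by decide +kernel) (by decide +kernel)

theorem s18_1198 : Good C (vlist C) (v18 C) 3323 :=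
  good_seed C (f13034 C) 3323 [149, 174] (v18_mem C) (by decide +kernel) (by decide +kernel)

theorem s18_1199 : Good C (vlist C) (v18 C) 2378 :=
  good_seed C (f11159 C) 2378 [147, 162, 167, 176, 177] (v4_mem C) (by decide +kernel) (by decide +kernel)

theorem s18_1200 : Good C (vlist C) (v18 C) 3502 :=
  good_seed C (f11090 C) 3502 [142, 150, 170, 175, 178] (v18_mem C) (by decide +kernel) (by decide +kernel)

theorem s18_1201 : Good C (vlist C) (v18 C) 2583 :=
  good_seed C (f12420 C) 2583 [148, 161, 170, 174] (v18_mem C) (by decide +kernel) (by decide +kernel)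

theorem s18_1202 : Good C (vlist C) (v18 C) 2361 :=
  good_seed C (f14057 C) 2361 [129, 153, 164, 176, 177] (v18_mem C) (by decide +kernel) (by decide +kernel)

theorem s18_1203 : Good C (vlist C) (v18 C) 2546 :=
  good_seed C (f16288 C) 2546 [148, 163, 165, 173, 178] (v19_mem C) (by decide +kernel) (by decide +kernel)

theorem s18_1204 : Good C (vlist C) (v18 C) 2372 :=
  good_seed C (f10583 C) 2372 [133, 157, 165, 174, 177] (v17_mem C) (by decide +kernel) (by decide +kernel)

theorem s18_1205 : Good C (vlist C) (v18 C) 3242 :=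
  good_seed C (f7764 C) 3242 [134, 163, 170, 174, 178] (v15_mem C) (by decide +kernel) (by decide +kernel)

theorem s18_1206 : Good C (vlist C) (v18 C) 3569 :=
  good_seed C (f10005 C) 3569 [130, 157, 164, 175, 178] (v18_mem C) (by decide +kernel) (by decide +kernel)

theorem s18_1207 : Good C (vlist C) (v18 C) 2383 :=
  good_seed C (f11186 C) 2383 [136, 163, 164, 178] (v16_mem C) (by decide +kernel) (by decide +kernel)

theorem s18_1208 : Good C (vlist C) (v18 C) 3188 :=
  good_seed C (f11252 C) 3188 [140, 151, 166, 171] (v15_mem C) (by decide +kernel) (by decide +kernel)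

theorem s18_1209 : Good C (vlist C) (v18 C) 2391 :=
  good_seed C (f7735 C) 2391 [127, 149, 164, 172, 177] (v15_mem C) (by decide +kernel) (by decide +kernel)

theorem s18_1210 : Good C (vlist C) (v18 C) 2401 :=
  good_seed C (f14256 C) 2401 [145, 162, 166, 177] (v18_mem C) (by decide +kernel) (by decide +kernel)

theorem s18_1211 : Good C (vlist C) (v18 C) 3028 :=
  good_seed C (f9220 C) 3028 [138, 150, 168, 171, 178] (v3_mem C) (by decide +kernel) (by decide +kernel)

theorem s18_1212 : Good C (vlist C) (v18 C) 2413 :=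
  good_seed C (f12021 C) 2413 [129, 154, 167, 176, 177] (v18_mem C) (by decide +kernel) (by decide +kernel)

theorem s18_1213 : Good C (vlist C) (v18 C) 2421 :=
  good_seed C (f14689 C) 2421 [140, 162, 165, 172, 177] (v15_mem C) (by decide +kernel) (by decide +kernel)

theorem s18_1214 : Good C (vlist C) (v18 C) 2980 :=
  good_seed C (f9647 C) 2980 [137, 153, 167, 172, 178] (v18_mem C) (by decide +kernel) (by decide +kernel)

theorem s18_1215 : Good C (vlist C) (v18 C) 3425 :=
  good_seed C (f14488 C) 3425 [135, 155, 164, 176] (v15_mem C) (by decide +kernel) (by decide +kernel)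

theorem s18_1216 : Good C (vlist C) (v18 C) 3744 :=
  good_seed C (f13507 C) 3744 [143, 150, 168, 175, 177] (v10_mem C) (by decide +kernel) (by decide +kernel)

theorem s18_1217 : Good C (vlist C) (v18 C) 3762 :=
  good_seed C (f17062 C) 3762 [142, 150, 170] (v19_mem C) (by decide +kernel) (by decide +kernel)

theorem s18_1218 : Good C (vlist C) (v18 C) 3357 :=
  good_seed C (f10453 C) 3357 [133, 149, 166, 173, 177] (v17_mem C) (by decide +kernel) (by decide +kernel)

theorem s18_1219 : Good C (vlist C) (v18 C) 2471 :=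
  good_seed C (f13401 C) 2471 [143, 158, 164, 176, 177] (v16_mem C) (by decide +kernel) (by decide +kernel)

theorem s18_1220 : Good C (vlist C) (v18 C) 2473 :=
  good_seed C (f10026 C) 2473 [138, 162, 165, 173] (v18_mem C) (by decide +kernel) (by decide +kernel)

theorem s18_1221 : Good C (vlist C) (v18 C) 2481 :=
  good_seed C (f12455 C) 2481 [127, 150, 165, 171, 178] (v18_mem C) (by decide +kernel) (by decide +kernel)

theorem s18_1222 : Good C (vlist C) (v18 C) 2875 :=
  good_seed C (f14451 C) 2875 [136, 170, 176, 177] (v18_mem C) (by decide +kernel) (by decide +kernel)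

theorem s18_1223 : Good C (vlist C) (v18 C) 2506 :=
  good_seed C (f7969 C) 2506 [154, 174, 178] (v17_mem C) (by decide +kernel) (by decide +kernel)

theorem s18_1224 : Good C (vlist C) (v18 C) 2531 :=
  good_seed C (f7528 C) 2531 [141, 170, 171, 177] (v15_mem C) (by decide +kernel) (by decide +kernel)

theorem s18_1225 : Good C (vlist C) (v18 C) 2538 :=
  good_seed C (f7670 C) 2538 [141, 157, 166, 171, 177] (v17_mem C) (by decide +kernel) (by decide +kernel)

theorem s18_1226 : Good C (vlist C) (v18 C) 3567 :=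
  good_seed C (f12509 C) 3567 [133, 157, 169, 175] (v18_mem C) (by decide +kernel) (by decide +kernel)

theorem s18_1227 : Good C (vlist C) (v18 C) 2811 :=
  good_seed C (f15559 C) 2811 [145, 161, 168, 171, 177] (v19_mem C) (by decide +kernel) (by decide +kernel)

theorem s18_1228 : Good C (vlist C) (v18 C) 2575 :=
  good_seed C (f16101 C) 2575 [140, 159, 168] (v19_mem C) (by decide +kernel) (by decide +kernel)

theorem s18_1229 : Good C (vlist C) (v18 C) 2589 :=
  good_seed C (f13315 C) 2589 [148, 154, 169, 174, 177] (v18_mem C) (by decide +kernel) (by decide +kernel)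

theorem s18_1230 : Good C (vlist C) (v18 C) 3061 :=
  good_seed C (f13484 C) 3061 [147, 150, 164, 172, 178] (v5_mem C) (by decide +kernel) (by decide +kernel)

theorem s18_1231 : Good C (vlist C) (v18 C) 2597 :=
  good_seed C (f13061 C) 2597 [144, 150, 174, 178] (v17_mem C) (by decide +kernel) (by decide +kernel)

theorem s18_1232 : Good C (vlist C) (v18 C) 2743 :=
  good_seed C (f15384 C) 2743 [133, 150, 167, 174, 178] (v18_mem C) (by decide +kernel) (by decide +kernel)

theorem s18_1233 : Good C (vlist C) (v18 C) 2700 :=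
  good_seed C (f7789 C) 2700 [136, 152, 170, 178] (v17_mem C) (by decide +kernel) (by decide +kernel)

theorem s18_1234 : Good C (vlist C) (v18 C) 3442 :=
  good_seed C (f7659 C) 3442 [134, 163, 164, 175] (v18_mem C) (by decide +kernel) (by decide +kernel)

theorem s18_1235 : Good C (vlist C) (v18 C) 3753 :=
  good_seed C (f14063 C) 3753 [134, 160, 169, 173, 178] (v18_mem C) (by decide +kernel) (by decide +kernel)

theorem s18_1236 : Good C (vlist C) (v18 C) 3181 :=
  good_seed C (f15498 C) 3181 [131, 154, 166, 175] (v15_mem C) (by decide +kernel) (by decide +kernel)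

theorem s18_1237 : Good C (vlist C) (v18 C) 3239 :=
  good_seed C (f13249 C) 3239 [135, 150, 166, 171] (v16_mem C) (by decide +kernel) (by decide +kernel)

theorem s18_1238 : Good C (vlist C) (v18 C) 2680 :=
  good_seed C (f13283 C) 2680 [127, 157, 170, 173, 178] (v18_mem C) (by decide +kernel) (by decide +kernel)

theorem s18_1239 : Good C (vlist C) (v18 C) 3590 :=
  good_seed C (f7883 C) 3590 [146, 159, 176, 177] (v17_mem C) (by decide +kernel) (by decide +kernel)

theorem s18_1240 : Good C (vlist C) (v18 C) 2694 :=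
  good_seed C (f8224 C) 2694 [126, 157, 167, 175, 177] (v3_mem C) (by decide +kernel) (by decide +kernel)

theorem s18_1241 : Good C (vlist C) (v18 C) 3666 :=
  good_seed C (f14732 C) 3666 [128, 149, 170, 171] (v9_mem C) (by decide +kernel) (by decide +kernel)

theorem s18_1242 : Good C (vlist C) (v18 C) 2704 :=
  good_seed C (f10464 C) 2704 [142, 154, 169, 176, 177] (v17_mem C) (by decide +kernel) (by decide +kernel)

theorem s18_1243 : Good C (vlist C) (v18 C) 3079 :=
  good_seed C (f11931 C) 3079 [132, 152, 169, 176, 177] (v18_mem C) (by decide +kernel) (by decide +kernel)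

theorem s18_1244 : Good C (vlist C) (v18 C) 2706 :=
  good_seed C (f9550 C) 2706 [131, 163, 167, 176, 177] (v18_mem C) (by decide +kernel) (by decide +kernel)

theorem s18_1245 : Good C (vlist C) (v18 C) 3750 :=
  good_seed C (f12855 C) 3750 [135, 157, 170, 172, 178] (v18_mem C) (by decide +kernel) (by decide +kernel)

theorem s18_1246 : Good C (vlist C) (v18 C) 3135 :=
  good_seed C (f16405 C) 3135 [138, 150, 165, 172, 177] (v19_mem C) (by decide +kernel) (by decide +kernel)

theorem s18_1247 : Good C (vlist C) (v18 C) 2750 :=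
  good_seed C (f17104 C) 2750 [141, 159, 169, 175, 177] (v19_mem C) (by decide +kernel) (by decide +kernel)

theorem s18_1248 : Good C (vlist C) (v18 C) 3000 :=
  good_seed C (f16760 C) 3000 [126, 151, 172, 177] (v19_mem C) (by decide +kernel) (by decide +kernel)

theorem s18_1249 : Good C (vlist C) (v18 C) 2789 :=
  good_seed C (f8166 C) 2789 [142, 153, 169] (v3_mem C) (by decide +kernel) (by decide +kernel)

theorem s18_1250 : Good C (vlist C) (v18 C) 3636 :=
  good_seed C (f13877 C) 3636 [140, 151, 167, 173] (v17_mem C) (by decide +kernel) (by decide +kernel)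

theorem s18_1251 : Good C (vlist C) (v18 C) 3424 :=
  good_seed C (f13784 C) 3424 [142, 158, 170, 172, 178] (v17_mem C) (by decide +kernel) (by decide +kernel)

theorem s18_1252 : Good C (vlist C) (v18 C) 2846 :=
  good_seed C (f12465 C) 2846 [126, 153, 166, 176, 178] (v15_mem C) (by decide +kernel) (by decide +kernel)

theorem s18_1253 : Good C (vlist C) (v18 C) 3169 :=
  good_seed C (f12579 C) 3169 [145, 156, 170, 174] (v17_mem C) (by decide +kernel) (by decide +kernel)

theorem s18_1254 : Good C (vlist C) (v18 C) 2866 :=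
  good_seed C (f15088 C) 2866 [126, 155, 167, 173, 178] (v17_mem C) (by decide +kernel) (by decide +kernel)

theorem s18_1255 : Good C (vlist C) (v18 C) 3251 :=
  good_seed C (f7095 C) 3251 [141, 153, 165, 176, 178] (v18_mem C) (by decide +kernel) (by decide +kernel)

theorem s18_1256 : Good C (vlist C) (v18 C) 3535 :=
  good_seed C (f11455 C) 3535 [129, 154, 176] (v15_mem C) (by decide +kernel) (by decide +kernel)

theorem s18_1257 : Good C (vlist C) (v18 C) 2893 :=
  good_seed C (f9410 C) 2893 [145, 159, 169, 173, 178] (v17_mem C) (by decide +kernel) (by decide +kernel)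

theorem s18_1258 : Good C (vlist C) (v18 C) 3654 :=
  good_seed C (f12737 C) 3654 [128, 162, 168, 175] (v17_mem C) (by decide +kernel) (by decide +kernel)

theorem s18_1259 : Good C (vlist C) (v18 C) 3509 :=
  good_seed C (f11418 C) 3509 [136, 154, 166, 175] (v18_mem C) (by decide +kernel) (by decide +kernel)

theorem s18_1260 : Good C (vlist C) (v18 C) 3422 :=
  good_seed C (f9840 C) 3422 [141, 160, 169, 174, 178] (v18_mem C) (by decide +kernel) (by decide +kernel)

theorem s18_1261 : Good C (vlist C) (v18 C) 2960 :=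
  good_seed C (f12761 C) 2960 [127, 159, 175, 177] (v18_mem C) (by decide +kernel) (by decide +kernel)

theorem s18_1262 : Good C (vlist C) (v18 C) 3691 :=
  good_seed C (f14267 C) 3691 [144, 162, 166, 171] (v15_mem C) (by decide +kernel) (by decide +kernel)

theorem s18_1263 : Good C (vlist C) (v18 C) 2983 :=
  good_seed C (f13552 C) 2983 [140, 154, 165, 175] (v14_mem C) (by decide +kernel) (by decide +kernel)

theorem s18_1264 : Good C (vlist C) (v18 C) 3700 :=
  good_seed C (f10027 C) 3700 [129, 152, 167, 171, 178] (v18_mem C) (by decide +kernel) (by decide +kernel)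

theorem s18_1265 : Good C (vlist C) (v18 C) 3283 :=
  good_seed C (f13229 C) 3283 [142, 165, 171] (v18_mem C) (by decide +kernel) (by decide +kernel)

theorem s18_1266 : Good C (vlist C) (v18 C) 3363 :=
  good_seed C (f11351 C) 3363 [146, 153, 169, 175] (v15_mem C) (by decide +kernel) (by decide +kernel)

theorem s18_1267 : Good C (vlist C) (v18 C) 3365 :=
  good_seed C (f8559 C) 3365 [134, 150, 164, 175] (v18_mem C) (by decide +kernel) (by decide +kernel)

theorem s18_1268 : Good C (vlist C) (v18 C) 3207 :=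
  good_seed C (f12816 C) 3207 [151, 169, 172] (v18_mem C) (by decide +kernel) (by decide +kernel)

theorem s18_1269 : Good C (vlist C) (v18 C) 3256 :=
  good_seed C (f12287 C) 3256 [131, 158, 168, 175] (v17_mem C) (by decide +kernel) (by decide +kernel)

theorem s18_1270 : Good C (vlist C) (v18 C) 3397 :=
  good_seed C (f7320 C) 3397 [148, 165, 171, 178] (v17_mem C) (by decide +kernel) (by decide +kernel)

theorem s18_1271 : Good C (vlist C) (v18 C) 3406 :=
  good_seed C (f13299 C) 3406 [133, 151, 168, 174, 178] (v15_mem C) (by decide +kernel) (by decide +kernel)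

theorem s18_1272 : Good C (vlist C) (v18 C) 3412 :=
  good_seed C (f13455 C) 3412 [137, 161, 167, 171, 177] (v4_mem C) (by decide +kernel) (by decide +kernel)

theorem s18_1273 : Good C (vlist C) (v18 C) 3562 :=
  good_seed C (f9894 C) 3562 [139, 156, 165, 173, 178] (v18_mem C) (by decide +kernel) (by decide +kernel)

theorem s18_1274 : Good C (vlist C) (v18 C) 3593 :=
  good_seed C (f14508 C) 3593 [146, 153, 170, 177] (v17_mem C) (by decide +kernel) (by decide +kernel)

/-- Seeds. -/
def seedsPart18_0 : List ℕ := [0, 2276, 327, 3, 16, 5, 696, 1920, 2660, 9, 10, 526, 2655, 14, 962, 17, 307, 2961, 1208, 3185, 22, 23, 3555, 2290, 956]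

theorem seeds18_0 : ∀ k ∈ seedsPart18_0, Good C (vlist C) (v18 C) k := by
  simp only [seedsPart18_0, List.forall_mem_cons, List.not_mem_nil, IsEmpty.forall_iff, implies_true, and_true]
  exact ⟨s18_0 C, s18_1 C, s18_2 C, s18_3 C, s18_4 C, s18_5 C, s18_6 C, s18_7 C, s18_8 C, s18_9 C, s18_10 C, s18_11 C, s18_12 C, s18_13 C, s18_14 C, s18_15 C, s18_16 C, s18_17 C, s18_18 C, s18_19 C, s18_20 C, s18_21 C, s18_22 C, s18_23 C, s18_24 C⟩

/-- Seeds. -/
def seedsPart18_1 : List ℕ := [1814, 772, 508, 2334, 3091, 1764, 1400, 34, 1113, 36, 245, 38, 735, 40, 3358, 2407, 43, 44, 45, 46, 1640, 48, 2112, 474, 51]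

theorem seeds18_1 : ∀ k ∈ seedsPart18_1, Good C (vlist C) (v18 C) k := by
  simp only [seedsPart18_1, List.forall_mem_cons, List.not_mem_nil, IsEmpty.forall_iff, implies_true, and_true]
  exact ⟨s18_25 C, s18_26 C, s18_27 C, s18_28 C, s18_29 C, s18_30 C, s18_31 C, s18_32 C, s18_33 C, s18_34 C, s18_35 C, s18_36 C, s18_37 C, s18_38 C, s18_39 C, s18_40 C, s18_41 C, s18_42 C, s18_43 C, s18_44 C, s18_45 C, s18_46 C, s18_47 C, s18_48 C, s18_49 C⟩

/-- Seeds. -/
def seedsPart18_2 : List ℕ := [52, 993, 54, 55, 56, 2239, 58, 156, 1939, 3190, 3584, 1127, 2400, 2598, 66, 67, 2261, 1121, 70, 72, 2428, 728, 3246, 1131, 3554]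

theorem seeds18_2 : ∀ k ∈ seedsPart18_2, Good C (vlist C) (v18 C) k := by
  simp only [seedsPart18_2, List.forall_mem_cons, List.not_mem_nil, IsEmpty.forall_iff, implies_true, and_true]
  exact ⟨s18_50 C, s18_51 C, s18_52 C, s18_53 C, s18_54 C, s18_55 C, s18_56 C, s18_57 C, s18_58 C, s18_59 C, s18_60 C, s18_61 C, s18_62 C, s18_63 C, s18_64 C, s18_65 C, s18_66 C, s18_67 C, s18_68 C, s18_69 C, s18_70 C, s18_71 C, s18_72 C, s18_73 C, s18_74 C⟩

/-- Seeds. -/
def seedsPart18_3 : List ℕ := [1641, 3698, 581, 3369, 943, 83, 420, 2842, 86, 1206, 2287, 2446, 90, 1463, 92, 158, 97, 95, 96, 98, 99, 1239, 1198, 102, 103]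

theorem seeds18_3 : ∀ k ∈ seedsPart18_3, Good C (vlist C) (v18 C) k := by
  simp only [seedsPart18_3, List.forall_mem_cons, List.not_mem_nil, IsEmpty.forall_iff, implies_true, and_true]
  exact ⟨s18_75 C, s18_76 C, s18_77 C, s18_78 C, s18_79 C, s18_80 C, s18_81 C, s18_82 C, s18_83 C, s18_84 C, s18_85 C, s18_86 C, s18_87 C, s18_88 C, s18_89 C, s18_90 C, s18_91 C, s18_92 C, s18_93 C, s18_94 C, s18_95 C, s18_96 C, s18_97 C, s18_98 C, s18_99 C⟩

/-- Seeds. -/
def seedsPart18_4 : List ℕ := [1937, 105, 2947, 333, 1371, 1874, 1053, 1288, 889, 559, 250, 2299, 3477, 2596, 2853, 119, 3254, 920, 737, 123, 1290, 1956, 152, 3553, 558]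

theorem seeds18_4 : ∀ k ∈ seedsPart18_4, Good C (vlist C) (v18 C) k := by
  simp only [seedsPart18_4, List.forall_mem_cons, List.not_mem_nil, IsEmpty.forall_iff, implies_true, and_true]
  exact ⟨s18_100 C, s18_101 C, s18_102 C, s18_103 C, s18_104 C, s18_105 C, s18_106 C, s18_107 C, s18_108 C, s18_109 C, s18_110 C, s18_111 C, s18_112 C, s18_113 C, s18_114 C, s18_115 C, s18_116 C, s18_117 C, s18_118 C, s18_119 C, s18_120 C, s18_121 C, s18_122 C, s18_123 C, s18_124 C⟩

/-- Seeds. -/
def seedsPart18_5 : List ℕ := [2029, 130, 131, 1364, 133, 134, 1765, 302, 137, 262, 2161, 3129, 281, 2175, 694, 2520, 145, 1365, 2419, 1218, 1664, 2884, 362, 2078, 154]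

theorem seeds18_5 : ∀ k ∈ seedsPart18_5, Good C (vlist C) (v18 C) k := by
  simp only [seedsPart18_5, List.forall_mem_cons, List.not_mem_nil, IsEmpty.forall_iff, implies_true, and_true]
  exact ⟨s18_125 C, s18_126 C, s18_127 C, s18_128 C, s18_129 C, s18_130 C, s18_131 C, s18_132 C, s18_133 C, s18_134 C, s18_135 C, s18_136 C, s18_137 C, s18_138 C, s18_139 C, s18_140 C, s18_141 C, s18_142 C, s18_143 C, s18_144 C, s18_145 C, s18_146 C, s18_147 C, s18_148 C, s18_149 C⟩

/-- Seeds. -/
def seedsPart18_6 : List ℕ := [157, 1763, 160, 2283, 3009, 2494, 3653, 3092, 2791, 167, 3407, 3195, 895, 392, 172, 173, 174, 2625, 3140, 1996, 501, 2429, 3730, 2751, 1958]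

theorem seeds18_6 : ∀ k ∈ seedsPart18_6, Good C (vlist C) (v18 C) k := by
  simp only [seedsPart18_6, List.forall_mem_cons, List.not_mem_nil, IsEmpty.forall_iff, implies_true, and_true]
  exact ⟨s18_150 C, s18_151 C, s18_152 C, s18_153 C, s18_154 C, s18_155 C, s18_156 C, s18_157 C, s18_158 C, s18_159 C, s18_160 C, s18_161 C, s18_162 C, s18_163 C, s18_164 C, s18_165 C, s18_166 C, s18_167 C, s18_168 C, s18_169 C, s18_170 C, s18_171 C, s18_172 C, s18_173 C, s18_174 C⟩

/-- Seeds. -/
def seedsPart18_7 : List ℕ := [1474, 184, 185, 186, 187, 188, 1388, 331, 1229, 192, 2425, 259, 195, 1752, 3454, 998, 2851, 2643, 3703, 202, 203, 204, 3790, 901, 3667]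

theorem seeds18_7 : ∀ k ∈ seedsPart18_7, Good C (vlist C) (v18 C) k := by
  simp only [seedsPart18_7, List.forall_mem_cons, List.not_mem_nil, IsEmpty.forall_iff, implies_true, and_true]
  exact ⟨s18_175 C, s18_176 C, s18_177 C, s18_178 C, s18_179 C, s18_180 C, s18_181 C, s18_182 C, s18_183 C, s18_184 C, s18_185 C, s18_186 C, s18_187 C, s18_188 C, s18_189 C, s18_190 C, s18_191 C, s18_192 C, s18_193 C, s18_194 C, s18_195 C, s18_196 C, s18_197 C, s18_198 C, s18_199 C⟩

/-- Seeds. -/
def seedsPart18_8 : List ℕ := [1330, 2190, 705, 356, 922, 3301, 2623, 216, 868, 2658, 220, 221, 2371, 2617, 371, 2470, 2082, 1951, 720, 1569, 230, 231, 1682, 3437, 2120]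

theorem seeds18_8 : ∀ k ∈ seedsPart18_8, Good C (vlist C) (v18 C) k := by
  simp only [seedsPart18_8, List.forall_mem_cons, List.not_mem_nil, IsEmpty.forall_iff, implies_true, and_true]
  exact ⟨s18_200 C, s18_201 C, s18_202 C, s18_203 C, s18_204 C, s18_205 C, s18_206 C, s18_207 C, s18_208 C, s18_209 C, s18_210 C, s18_211 C, s18_212 C, s18_213 C, s18_214 C, s18_215 C, s18_216 C, s18_217 C, s18_218 C, s18_219 C, s18_220 C, s18_221 C, s18_222 C, s18_223 C, s18_224 C⟩

/-- Seeds. -/
def seedsPart18_9 : List ℕ := [3588, 238, 436, 3048, 3102, 242, 2424, 1509, 951, 247, 248, 249, 2434, 252, 253, 254, 255, 1430, 3483, 1490, 260, 3230, 3203, 265, 1424]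

theorem seeds18_9 : ∀ k ∈ seedsPart18_9, Good C (vlist C) (v18 C) k := by
  simp only [seedsPart18_9, List.forall_mem_cons, List.not_mem_nil, IsEmpty.forall_iff, implies_true, and_true]
  exact ⟨s18_225 C, s18_226 C, s18_227 C, s18_228 C, s18_229 C, s18_230 C, s18_231 C, s18_232 C, s18_233 C, s18_234 C, s18_235 C, s18_236 C, s18_237 C, s18_238 C, s18_239 C, s18_240 C, s18_241 C, s18_242 C, s18_243 C, s18_244 C, s18_245 C, s18_246 C, s18_247 C, s18_248 C, s18_249 C⟩

/-- Seeds. -/
def seedsPart18_10 : List ℕ := [3157, 3656, 3076, 1519, 2474, 3287, 275, 1903, 3722, 1786, 279, 3709, 1989, 283, 659, 629, 286, 637, 288, 289, 1953, 1841, 3088, 293, 1667]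

theorem seeds18_10 : ∀ k ∈ seedsPart18_10, Good C (vlist C) (v18 C) k := by
  simp only [seedsPart18_10, List.forall_mem_cons, List.not_mem_nil, IsEmpty.forall_iff, implies_true, and_true]
  exact ⟨s18_250 C, s18_251 C, s18_252 C, s18_253 C, s18_254 C, s18_255 C, s18_256 C, s18_257 C, s18_258 C, s18_259 C, s18_260 C, s18_261 C, s18_262 C, s18_263 C, s18_264 C, s18_265 C, s18_266 C, s18_267 C, s18_268 C, s18_269 C, s18_270 C, s18_271 C, s18_272 C, s18_273 C, s18_274 C⟩

/-- Seeds. -/
def seedsPart18_11 : List ℕ := [2717, 296, 1678, 452, 521, 1413, 648, 303, 304, 531, 547, 982, 2108, 2730, 804, 312, 313, 315, 317, 3341, 1754, 3596, 1824, 322, 323]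

theorem seeds18_11 : ∀ k ∈ seedsPart18_11, Good C (vlist C) (v18 C) k := by
  simp only [seedsPart18_11, List.forall_mem_cons, List.not_mem_nil, IsEmpty.forall_iff, implies_true, and_true]
  exact ⟨s18_275 C, s18_276 C, s18_277 C, s18_278 C, s18_279 C, s18_280 C, s18_281 C, s18_282 C, s18_283 C, s18_284 C, s18_285 C, s18_286 C, s18_287 C, s18_288 C, s18_289 C, s18_290 C, s18_291 C, s18_292 C, s18_293 C, s18_294 C, s18_295 C, s18_296 C, s18_297 C, s18_298 C, s18_299 C⟩

/-- Seeds. -/
def seedsPart18_12 : List ℕ := [324, 326, 328, 636, 2373, 810, 1243, 1602, 522, 339, 494, 2386, 342, 1513, 345, 1170, 348, 1894, 3652, 647, 3166, 1571, 1755, 2847, 2256]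

theorem seeds18_12 : ∀ k ∈ seedsPart18_12, Good C (vlist C) (v18 C) k := by
  simp only [seedsPart18_12, List.forall_mem_cons, List.not_mem_nil, IsEmpty.forall_iff, implies_true, and_true]
  exact ⟨s18_300 C, s18_301 C, s18_302 C, s18_303 C, s18_304 C, s18_305 C, s18_306 C, s18_307 C, s18_308 C, s18_309 C, s18_310 C, s18_311 C, s18_312 C, s18_313 C, s18_314 C, s18_315 C, s18_316 C, s18_317 C, s18_318 C, s18_319 C, s18_320 C, s18_321 C, s18_322 C, s18_323 C, s18_324 C⟩

/-- Seeds. -/
def seedsPart18_13 : List ℕ := [2100, 3670, 605, 364, 365, 1988, 2308, 538, 370, 2058, 957, 2741, 375, 1368, 658, 378, 884, 2592, 381, 382, 2999, 384, 385, 387, 1469]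

theorem seeds18_13 : ∀ k ∈ seedsPart18_13, Good C (vlist C) (v18 C) k := by
  simp only [seedsPart18_13, List.forall_mem_cons, List.not_mem_nil, IsEmpty.forall_iff, implies_true, and_true]
  exact ⟨s18_325 C, s18_326 C, s18_327 C, s18_328 C, s18_329 C, s18_330 C, s18_331 C, s18_332 C, s18_333 C, s18_334 C, s18_335 C, s18_336 C, s18_337 C, s18_338 C, s18_339 C, s18_340 C, s18_341 C, s18_342 C, s18_343 C, s18_344 C, s18_345 C, s18_346 C, s18_347 C, s18_348 C, s18_349 C⟩

/-- Seeds. -/
def seedsPart18_14 : List ℕ := [3687, 1582, 3139, 2154, 3304, 2772, 421, 3356, 3362, 1889, 403, 656, 406, 1477, 410, 2462, 3708, 1794, 414, 1214, 2542, 3237, 1635, 2649, 1685]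

theorem seeds18_14 : ∀ k ∈ seedsPart18_14, Good C (vlist C) (v18 C) k := by
  simp only [seedsPart18_14, List.forall_mem_cons, List.not_mem_nil, IsEmpty.forall_iff, implies_true, and_true]
  exact ⟨s18_350 C, s18_351 C, s18_352 C, s18_353 C, s18_354 C, s18_355 C, s18_356 C, s18_357 C, s18_358 C, s18_359 C, s18_360 C, s18_361 C, s18_362 C, s18_363 C, s18_364 C, s18_365 C, s18_366 C, s18_367 C, s18_368 C, s18_369 C, s18_370 C, s18_371 C, s18_372 C, s18_373 C, s18_374 C⟩

/-- Seeds. -/
def seedsPart18_15 : List ℕ := [426, 1832, 428, 847, 430, 2817, 1173, 2664, 434, 435, 437, 2739, 439, 2767, 441, 3006, 444, 2167, 1350, 3095, 2667, 2353, 2277, 2356, 3128]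

theorem seeds18_15 : ∀ k ∈ seedsPart18_15, Good C (vlist C) (v18 C) k := by
  simp only [seedsPart18_15, List.forall_mem_cons, List.not_mem_nil, IsEmpty.forall_iff, implies_true, and_true]
  exact ⟨s18_375 C, s18_376 C, s18_377 C, s18_378 C, s18_379 C, s18_380 C, s18_381 C, s18_382 C, s18_383 C, s18_384 C, s18_385 C, s18_386 C, s18_387 C, s18_388 C, s18_389 C, s18_390 C, s18_391 C, s18_392 C, s18_393 C, s18_394 C, s18_395 C, s18_396 C, s18_397 C, s18_398 C, s18_399 C⟩

/-- Seeds. -/
def seedsPart18_16 : List ℕ := [2937, 2941, 3788, 462, 463, 2346, 465, 2848, 1941, 777, 469, 1046, 774, 3053, 2479, 477, 2053, 480, 3720, 1650, 1732, 485, 2040, 2981, 1021]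

theorem seeds18_16 : ∀ k ∈ seedsPart18_16, Good C (vlist C) (v18 C) k := by
  simp only [seedsPart18_16, List.forall_mem_cons, List.not_mem_nil, IsEmpty.forall_iff, implies_true, and_true]
  exact ⟨s18_400 C, s18_401 C, s18_402 C, s18_403 C, s18_404 C, s18_405 C, s18_406 C, s18_407 C, s18_408 C, s18_409 C, s18_410 C, s18_411 C, s18_412 C, s18_413 C, s18_414 C, s18_415 C, s18_416 C, s18_417 C, s18_418 C, s18_419 C, s18_420 C, s18_421 C, s18_422 C, s18_423 C, s18_424 C⟩

/-- Seeds. -/
def seedsPart18_17 : List ℕ := [3029, 490, 3261, 3352, 3382, 1871, 711, 2964, 499, 502, 1280, 504, 2895, 743, 507, 509, 510, 2111, 704, 2512, 1570, 515, 516, 1562, 1219]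

theorem seeds18_17 : ∀ k ∈ seedsPart18_17, Good C (vlist C) (v18 C) k := by
  simp only [seedsPart18_17, List.forall_mem_cons, List.not_mem_nil, IsEmpty.forall_iff, implies_true, and_true]
  exact ⟨s18_425 C, s18_426 C, s18_427 C, s18_428 C, s18_429 C, s18_430 C, s18_431 C, s18_432 C, s18_433 C, s18_434 C, s18_435 C, s18_436 C, s18_437 C, s18_438 C, s18_439 C, s18_440 C, s18_441 C, s18_442 C, s18_443 C, s18_444 C, s18_445 C, s18_446 C, s18_447 C, s18_448 C, s18_449 C⟩

/-- Seeds. -/
def seedsPart18_18 : List ℕ := [519, 934, 523, 3116, 655, 527, 3785, 530, 1442, 534, 2083, 3259, 1313, 924, 540, 2459, 1066, 3429, 1674, 545, 546, 2932, 1779, 1087, 2503]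

theorem seeds18_18 : ∀ k ∈ seedsPart18_18, Good C (vlist C) (v18 C) k := by
  simp only [seedsPart18_18, List.forall_mem_cons, List.not_mem_nil, IsEmpty.forall_iff, implies_true, and_true]
  exact ⟨s18_450 C, s18_451 C, s18_452 C, s18_453 C, s18_454 C, s18_455 C, s18_456 C, s18_457 C, s18_458 C, s18_459 C, s18_460 C, s18_461 C, s18_462 C, s18_463 C, s18_464 C, s18_465 C, s18_466 C, s18_467 C, s18_468 C, s18_469 C, s18_470 C, s18_471 C, s18_472 C, s18_473 C, s18_474 C⟩

/-- Seeds. -/
def seedsPart18_19 : List ℕ := [553, 2729, 799, 3523, 3791, 560, 562, 565, 566, 3082, 2246, 2861, 3388, 571, 572, 3100, 576, 2357, 2310, 3689, 1790, 1412, 584, 585, 2909]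

theorem seeds18_19 : ∀ k ∈ seedsPart18_19, Good C (vlist C) (v18 C) k := by
  simp only [seedsPart18_19, List.forall_mem_cons, List.not_mem_nil, IsEmpty.forall_iff, implies_true, and_true]
  exact ⟨s18_475 C, s18_476 C, s18_477 C, s18_478 C, s18_479 C, s18_480 C, s18_481 C, s18_482 C, s18_483 C, s18_484 C, s18_485 C, s18_486 C, s18_487 C, s18_488 C, s18_489 C, s18_490 C, s18_491 C, s18_492 C, s18_493 C, s18_494 C, s18_495 C, s18_496 C, s18_497 C, s18_498 C, s18_499 C⟩

/-- Seeds. -/
def seedsPart18_20 : List ℕ := [587, 3339, 1919, 592, 2163, 1923, 597, 598, 790, 2917, 3607, 2627, 1449, 1600, 607, 3235, 1549, 716, 764, 613, 614, 3630, 3106, 3245, 618]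

theorem seeds18_20 : ∀ k ∈ seedsPart18_20, Good C (vlist C) (v18 C) k := by
  simp only [seedsPart18_20, List.forall_mem_cons, List.not_mem_nil, IsEmpty.forall_iff, implies_true, and_true]
  exact ⟨s18_500 C, s18_501 C, s18_502 C, s18_503 C, s18_504 C, s18_505 C, s18_506 C, s18_507 C, s18_508 C, s18_509 C, s18_510 C, s18_511 C, s18_512 C, s18_513 C, s18_514 C, s18_515 C, s18_516 C, s18_517 C, s18_518 C, s18_519 C, s18_520 C, s18_521 C, s18_522 C, s18_523 C, s18_524 C⟩

/-- Seeds. -/
def seedsPart18_21 : List ℕ := [619, 620, 622, 1848, 923, 625, 1445, 3578, 782, 630, 3627, 2778, 1353, 638, 1083, 640, 1278, 643, 1662, 3705, 776, 649, 1646, 1811, 914]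

theorem seeds18_21 : ∀ k ∈ seedsPart18_21, Good C (vlist C) (v18 C) k := by
  simp only [seedsPart18_21, List.forall_mem_cons, List.not_mem_nil, IsEmpty.forall_iff, implies_true, and_true]
  exact ⟨s18_525 C, s18_526 C, s18_527 C, s18_528 C, s18_529 C, s18_530 C, s18_531 C, s18_532 C, s18_533 C, s18_534 C, s18_535 C, s18_536 C, s18_537 C, s18_538 C, s18_539 C, s18_540 C, s18_541 C, s18_542 C, s18_543 C, s18_544 C, s18_545 C, s18_546 C, s18_547 C, s18_548 C, s18_549 C⟩

/-- Seeds. -/
def seedsPart18_22 : List ℕ := [1709, 1560, 2416, 3326, 666, 668, 669, 3381, 671, 995, 3420, 675, 3782, 3606, 732, 679, 680, 681, 2573, 3265, 849, 2541, 3565, 691, 2020]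

theorem seeds18_22 : ∀ k ∈ seedsPart18_22, Good C (vlist C) (v18 C) k := by
  simp only [seedsPart18_22, List.forall_mem_cons, List.not_mem_nil, IsEmpty.forall_iff, implies_true, and_true]
  exact ⟨s18_550 C, s18_551 C, s18_552 C, s18_553 C, s18_554 C, s18_555 C, s18_556 C, s18_557 C, s18_558 C, s18_559 C, s18_560 C, s18_561 C, s18_562 C, s18_563 C, s18_564 C, s18_565 C, s18_566 C, s18_567 C, s18_568 C, s18_569 C, s18_570 C, s18_571 C, s18_572 C, s18_573 C, s18_574 C⟩

/-- Seeds. -/
def seedsPart18_23 : List ℕ := [2962, 2539, 3417, 703, 1328, 707, 708, 3571, 917, 2467, 714, 715, 1395, 2392, 722, 3780, 3416, 786, 727, 731, 733, 3201, 857, 738, 741]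

theorem seeds18_23 : ∀ k ∈ seedsPart18_23, Good C (vlist C) (v18 C) k := by
  simp only [seedsPart18_23, List.forall_mem_cons, List.not_mem_nil, IsEmpty.forall_iff, implies_true, and_true]
  exact ⟨s18_575 C, s18_576 C, s18_577 C, s18_578 C, s18_579 C, s18_580 C, s18_581 C, s18_582 C, s18_583 C, s18_584 C, s18_585 C, s18_586 C, s18_587 C, s18_588 C, s18_589 C, s18_590 C, s18_591 C, s18_592 C, s18_593 C, s18_594 C, s18_595 C, s18_596 C, s18_597 C, s18_598 C, s18_599 C⟩

/-- Seeds. -/
def seedsPart18_24 : List ℕ := [742, 744, 745, 747, 748, 2142, 1307, 752, 754, 2453, 1955, 1681, 2549, 1064, 766, 903, 768, 769, 1868, 2455, 773, 2560, 2285, 780, 3219]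

theorem seeds18_24 : ∀ k ∈ seedsPart18_24, Good C (vlist C) (v18 C) k := by
  simp only [seedsPart18_24, List.forall_mem_cons, List.not_mem_nil, IsEmpty.forall_iff, implies_true, and_true]
  exact ⟨s18_600 C, s18_601 C, s18_602 C, s18_603 C, s18_604 C, s18_605 C, s18_606 C, s18_607 C, s18_608 C, s18_609 C, s18_610 C, s18_611 C, s18_612 C, s18_613 C, s18_614 C, s18_615 C, s18_616 C, s18_617 C, s18_618 C, s18_619 C, s18_620 C, s18_621 C, s18_622 C, s18_623 C, s18_624 C⟩

/-- Seeds. -/
def seedsPart18_25 : List ℕ := [3072, 3707, 792, 3448, 1370, 3348, 2144, 801, 803, 3024, 806, 2948, 947, 3347, 814, 815, 817, 2127, 820, 821, 3534, 823, 2501, 1817, 1528]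

theorem seeds18_25 : ∀ k ∈ seedsPart18_25, Good C (vlist C) (v18 C) k := by
  simp only [seedsPart18_25, List.forall_mem_cons, List.not_mem_nil, IsEmpty.forall_iff, implies_true, and_true]
  exact ⟨s18_625 C, s18_626 C, s18_627 C, s18_628 C, s18_629 C, s18_630 C, s18_631 C, s18_632 C, s18_633 C, s18_634 C, s18_635 C, s18_636 C, s18_637 C, s18_638 C, s18_639 C, s18_640 C, s18_641 C, s18_642 C, s18_643 C, s18_644 C, s18_645 C, s18_646 C, s18_647 C, s18_648 C, s18_649 C⟩

/-- Seeds. -/
def seedsPart18_26 : List ℕ := [1259, 1261, 2686, 1062, 3582, 3107, 2366, 1511, 3067, 1536, 3368, 2133, 1865, 2511, 3668, 3351, 3515, 2900, 2225, 3493, 3279, 867, 2319, 2553, 871]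

theorem seeds18_26 : ∀ k ∈ seedsPart18_26, Good C (vlist C) (v18 C) k := by
  simp only [seedsPart18_26, List.forall_mem_cons, List.not_mem_nil, IsEmpty.forall_iff, implies_true, and_true]
  exact ⟨s18_650 C, s18_651 C, s18_652 C, s18_653 C, s18_654 C, s18_655 C, s18_656 C, s18_657 C, s18_658 C, s18_659 C, s18_660 C, s18_661 C, s18_662 C, s18_663 C, s18_664 C, s18_665 C, s18_666 C, s18_667 C, s18_668 C, s18_669 C, s18_670 C, s18_671 C, s18_672 C, s18_673 C, s18_674 C⟩

/-- Seeds. -/
def seedsPart18_27 : List ℕ := [3451, 959, 1253, 1429, 1724, 3462, 891, 1813, 1855, 2779, 2954, 2863, 3612, 2060, 3734, 3613, 3343, 910, 2348, 2801, 915, 1478, 3674, 1744, 1629]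

theorem seeds18_27 : ∀ k ∈ seedsPart18_27, Good C (vlist C) (v18 C) k := by
  simp only [seedsPart18_27, List.forall_mem_cons, List.not_mem_nil, IsEmpty.forall_iff, implies_true, and_true]
  exact ⟨s18_675 C, s18_676 C, s18_677 C, s18_678 C, s18_679 C, s18_680 C, s18_681 C, s18_682 C, s18_683 C, s18_684 C, s18_685 C, s18_686 C, s18_687 C, s18_688 C, s18_689 C, s18_690 C, s18_691 C, s18_692 C, s18_693 C, s18_694 C, s18_695 C, s18_696 C, s18_697 C, s18_698 C, s18_699 C⟩

/-- Seeds. -/
def seedsPart18_28 : List ℕ := [929, 930, 3274, 2720, 1187, 2062, 2714, 939, 940, 2822, 2061, 1309, 1893, 949, 3379, 953, 955, 2564, 964, 2518, 3662, 968, 2818, 2599, 1737]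

theorem seeds18_28 : ∀ k ∈ seedsPart18_28, Good C (vlist C) (v18 C) k := by
  simp only [seedsPart18_28, List.forall_mem_cons, List.not_mem_nil, IsEmpty.forall_iff, implies_true, and_true]
  exact ⟨s18_700 C, s18_701 C, s18_702 C, s18_703 C, s18_704 C, s18_705 C, s18_706 C, s18_707 C, s18_708 C, s18_709 C, s18_710 C, s18_711 C, s18_712 C, s18_713 C, s18_714 C, s18_715 C, s18_716 C, s18_717 C, s18_718 C, s18_719 C, s18_720 C, s18_721 C, s18_722 C, s18_723 C, s18_724 C⟩

/-- Seeds. -/
def seedsPart18_29 : List ℕ := [974, 976, 1010, 2275, 980, 1150, 3112, 985, 3020, 1878, 990, 992, 2972, 2291, 1143, 1002, 2315, 2033, 1649, 2435, 1651, 3080, 1011, 3513, 1015]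

theorem seeds18_29 : ∀ k ∈ seedsPart18_29, Good C (vlist C) (v18 C) k := by
  simp only [seedsPart18_29, List.forall_mem_cons, List.not_mem_nil, IsEmpty.forall_iff, implies_true, and_true]
  exact ⟨s18_725 C, s18_726 C, s18_727 C, s18_728 C, s18_729 C, s18_730 C, s18_731 C, s18_732 C, s18_733 C, s18_734 C, s18_735 C, s18_736 C, s18_737 C, s18_738 C, s18_739 C, s18_740 C, s18_741 C, s18_742 C, s18_743 C, s18_744 C, s18_745 C, s18_746 C, s18_747 C, s18_748 C, s18_749 C⟩

/-- Seeds. -/
def seedsPart18_30 : List ℕ := [1016, 1017, 1018, 2186, 1911, 1025, 1026, 1741, 1029, 2208, 1031, 1516, 1037, 1038, 2270, 3794, 1915, 1044, 2449, 3755, 1049, 1194, 1052, 1054, 1301]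

theorem seeds18_30 : ∀ k ∈ seedsPart18_30, Good C (vlist C) (v18 C) k := by
  simp only [seedsPart18_30, List.forall_mem_cons, List.not_mem_nil, IsEmpty.forall_iff, implies_true, and_true]
  exact ⟨s18_750 C, s18_751 C, s18_752 C, s18_753 C, s18_754 C, s18_755 C, s18_756 C, s18_757 C, s18_758 C, s18_759 C, s18_760 C, s18_761 C, s18_762 C, s18_763 C, s18_764 C, s18_765 C, s18_766 C, s18_767 C, s18_768 C, s18_769 C, s18_770 C, s18_771 C, s18_772 C, s18_773 C, s18_774 C⟩

/-- Seeds. -/
def seedsPart18_31 : List ℕ := [1058, 2054, 2641, 1061, 2102, 1901, 3679, 2201, 1822, 2269, 1392, 2880, 2769, 1085, 3577, 2178, 2441, 3793, 1524, 1272, 1899, 1199, 3271, 2534, 2519]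

theorem seeds18_31 : ∀ k ∈ seedsPart18_31, Good C (vlist C) (v18 C) k := by
  simp only [seedsPart18_31, List.forall_mem_cons, List.not_mem_nil, IsEmpty.forall_iff, implies_true, and_true]
  exact ⟨s18_775 C, s18_776 C, s18_777 C, s18_778 C, s18_779 C, s18_780 C, s18_781 C, s18_782 C, s18_783 C, s18_784 C, s18_785 C, s18_786 C, s18_787 C, s18_788 C, s18_789 C, s18_790 C, s18_791 C, s18_792 C, s18_793 C, s18_794 C, s18_795 C, s18_796 C, s18_797 C, s18_798 C, s18_799 C⟩

/-- Seeds. -/
def seedsPart18_32 : List ℕ := [3625, 1102, 1211, 2955, 2183, 1110, 1762, 1112, 1277, 2840, 2137, 1124, 2877, 3058, 3327, 1792, 3299, 1134, 1489, 3395, 3474, 3518, 2782, 1255, 2563]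

theorem seeds18_32 : ∀ k ∈ seedsPart18_32, Good C (vlist C) (v18 C) k := by
  simp only [seedsPart18_32, List.forall_mem_cons, List.not_mem_nil, IsEmpty.forall_iff, implies_true, and_true]
  exact ⟨s18_800 C, s18_801 C, s18_802 C, s18_803 C, s18_804 C, s18_805 C, s18_806 C, s18_807 C, s18_808 C, s18_809 C, s18_810 C, s18_811 C, s18_812 C, s18_813 C, s18_814 C, s18_815 C, s18_816 C, s18_817 C, s18_818 C, s18_819 C, s18_820 C, s18_821 C, s18_822 C, s18_823 C, s18_824 C⟩

/-- Seeds. -/
def seedsPart18_33 : List ℕ := [3751, 1594, 1159, 1160, 3002, 2335, 1182, 1168, 1171, 1595, 1175, 1177, 2281, 1621, 1180, 1188, 1322, 3078, 2109, 2072, 1242, 2122, 2064, 2157, 3601]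

theorem seeds18_33 : ∀ k ∈ seedsPart18_33, Good C (vlist C) (v18 C) k := by
  simp only [seedsPart18_33, List.forall_mem_cons, List.not_mem_nil, IsEmpty.forall_iff, implies_true, and_true]
  exact ⟨s18_825 C, s18_826 C, s18_827 C, s18_828 C, s18_829 C, s18_830 C, s18_831 C, s18_832 C, s18_833 C, s18_834 C, s18_835 C, s18_836 C, s18_837 C, s18_838 C, s18_839 C, s18_840 C, s18_841 C, s18_842 C, s18_843 C, s18_844 C, s18_845 C, s18_846 C, s18_847 C, s18_848 C, s18_849 C⟩

/-- Seeds. -/
def seedsPart18_34 : List ℕ := [3510, 1212, 1688, 3602, 1217, 1220, 2824, 2645, 1223, 3446, 1228, 2433, 3370, 2723, 1236, 3684, 1238, 2025, 1245, 1938, 1761, 1311, 3619, 2565, 1690]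

theorem seeds18_34 : ∀ k ∈ seedsPart18_34, Good C (vlist C) (v18 C) k := by
  simp only [seedsPart18_34, List.forall_mem_cons, List.not_mem_nil, IsEmpty.forall_iff, implies_true, and_true]
  exact ⟨s18_850 C, s18_851 C, s18_852 C, s18_853 C, s18_854 C, s18_855 C, s18_856 C, s18_857 C, s18_858 C, s18_859 C, s18_860 C, s18_861 C, s18_862 C, s18_863 C, s18_864 C, s18_865 C, s18_866 C, s18_867 C, s18_868 C, s18_869 C, s18_870 C, s18_871 C, s18_872 C, s18_873 C, s18_874 C⟩

/-- Seeds. -/
def seedsPart18_35 : List ℕ := [2724, 2312, 1263, 1527, 1265, 1267, 1268, 2537, 2476, 2191, 3071, 2273, 2321, 2692, 1711, 1287, 1291, 3375, 2350, 1294, 3736, 3151, 1926, 3770, 3697]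

theorem seeds18_35 : ∀ k ∈ seedsPart18_35, Good C (vlist C) (v18 C) k := by
  simp only [seedsPart18_35, List.forall_mem_cons, List.not_mem_nil, IsEmpty.forall_iff, implies_true, and_true]
  exact ⟨s18_875 C, s18_876 C, s18_877 C, s18_878 C, s18_879 C, s18_880 C, s18_881 C, s18_882 C, s18_883 C, s18_884 C, s18_885 C, s18_886 C, s18_887 C, s18_888 C, s18_889 C, s18_890 C, s18_891 C, s18_892 C, s18_893 C, s18_894 C, s18_895 C, s18_896 C, s18_897 C, s18_898 C, s18_899 C⟩

/-- Seeds. -/
def seedsPart18_36 : List ℕ := [3050, 1417, 1566, 1315, 2363, 1319, 2699, 1324, 2580, 3180, 2825, 3210, 3594, 1450, 3164, 1340, 2855, 1676, 1343, 3292, 2340, 3267, 2063, 1459, 1993]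

theorem seeds18_36 : ∀ k ∈ seedsPart18_36, Good C (vlist C) (v18 C) k := by
  simp only [seedsPart18_36, List.forall_mem_cons, List.not_mem_nil, IsEmpty.forall_iff, implies_true, and_true]
  exact ⟨s18_900 C, s18_901 C, s18_902 C, s18_903 C, s18_904 C, s18_905 C, s18_906 C, s18_907 C, s18_908 C, s18_909 C, s18_910 C, s18_911 C, s18_912 C, s18_913 C, s18_914 C, s18_915 C, s18_916 C, s18_917 C, s18_918 C, s18_919 C, s18_920 C, s18_921 C, s18_922 C, s18_923 C, s18_924 C⟩

/-- Seeds. -/
def seedsPart18_37 : List ℕ := [1706, 1360, 3309, 1367, 2247, 1372, 1375, 1378, 1787, 1905, 1384, 3276, 1465, 2555, 1394, 1396, 3046, 1872, 1895, 1410, 1414, 3315, 3648, 3098, 2257]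

theorem seeds18_37 : ∀ k ∈ seedsPart18_37, Good C (vlist C) (v18 C) k := by
  simp only [seedsPart18_37, List.forall_mem_cons, List.not_mem_nil, IsEmpty.forall_iff, implies_true, and_true]
  exact ⟨s18_925 C, s18_926 C, s18_927 C, s18_928 C, s18_929 C, s18_930 C, s18_931 C, s18_932 C, s18_933 C, s18_934 C, s18_935 C, s18_936 C, s18_937 C, s18_938 C, s18_939 C, s18_940 C, s18_941 C, s18_942 C, s18_943 C, s18_944 C, s18_945 C, s18_946 C, s18_947 C, s18_948 C, s18_949 C⟩

/-- Seeds. -/
def seedsPart18_38 : List ℕ := [1425, 2865, 1954, 3252, 1434, 1435, 3735, 1520, 2914, 3763, 2928, 1454, 1457, 1460, 1461, 2245, 2057, 2505, 1468, 3003, 2229, 2559, 2742, 3073, 1491]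

theorem seeds18_38 : ∀ k ∈ seedsPart18_38, Good C (vlist C) (v18 C) k := by
  simp only [seedsPart18_38, List.forall_mem_cons, List.not_mem_nil, IsEmpty.forall_iff, implies_true, and_true]
  exact ⟨s18_950 C, s18_951 C, s18_952 C, s18_953 C, s18_954 C, s18_955 C, s18_956 C, s18_957 C, s18_958 C, s18_959 C, s18_960 C, s18_961 C, s18_962 C, s18_963 C, s18_964 C, s18_965 C, s18_966 C, s18_967 C, s18_968 C, s18_969 C, s18_970 C, s18_971 C, s18_972 C, s18_973 C, s18_974 C⟩

/-- Seeds. -/
def seedsPart18_39 : List ℕ := [1494, 1495, 1498, 1718, 1502, 1634, 3457, 2349, 2305, 1521, 1998, 1525, 1530, 1533, 3683, 1537, 1540, 2297, 2908, 3270, 1550, 1557, 2837, 2043, 2844]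

theorem seeds18_39 : ∀ k ∈ seedsPart18_39, Good C (vlist C) (v18 C) k := by
  simp only [seedsPart18_39, List.forall_mem_cons, List.not_mem_nil, IsEmpty.forall_iff, implies_true, and_true]
  exact ⟨s18_975 C, s18_976 C, s18_977 C, s18_978 C, s18_979 C, s18_980 C, s18_981 C, s18_982 C, s18_983 C, s18_984 C, s18_985 C, s18_986 C, s18_987 C, s18_988 C, s18_989 C, s18_990 C, s18_991 C, s18_992 C, s18_993 C, s18_994 C, s18_995 C, s18_996 C, s18_997 C, s18_998 C, s18_999 C⟩

/-- Seeds. -/
def seedsPart18_40 : List ℕ := [1568, 1572, 1714, 1593, 1577, 2606, 2968, 1584, 2101, 1590, 1943, 1597, 2328, 2709, 1603, 3450, 1932, 1606, 2602, 1617, 1619, 1620, 1623, 1624, 2775]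

theorem seeds18_40 : ∀ k ∈ seedsPart18_40, Good C (vlist C) (v18 C) k := by
  simp only [seedsPart18_40, List.forall_mem_cons, List.not_mem_nil, IsEmpty.forall_iff, implies_true, and_true]
  exact ⟨s18_1000 C, s18_1001 C, s18_1002 C, s18_1003 C, s18_1004 C, s18_1005 C, s18_1006 C, s18_1007 C, s18_1008 C, s18_1009 C, s18_1010 C, s18_1011 C, s18_1012 C, s18_1013 C, s18_1014 C, s18_1015 C, s18_1016 C, s18_1017 C, s18_1018 C, s18_1019 C, s18_1020 C, s18_1021 C, s18_1022 C, s18_1023 C, s18_1024 C⟩

/-- Seeds. -/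
def seedsPart18_41 : List ℕ := [1627, 3007, 3428, 3536, 2912, 2498, 1883, 1669, 1673, 1677, 1686, 1692, 1842, 2088, 1701, 1702, 3275, 2485, 2693, 2141, 3497, 2525, 3761, 2478, 1965]

theorem seeds18_41 : ∀ k ∈ seedsPart18_41, Good C (vlist C) (v18 C) k := by
  simp only [seedsPart18_41, List.forall_mem_cons, List.not_mem_nil, IsEmpty.forall_iff, implies_true, and_true]
  exact ⟨s18_1025 C, s18_1026 C, s18_1027 C, s18_1028 C, s18_1029 C, s18_1030 C, s18_1031 C, s18_1032 C, s18_1033 C, s18_1034 C, s18_1035 C, s18_1036 C, s18_1037 C, s18_1038 C, s18_1039 C, s18_1040 C, s18_1041 C, s18_1042 C, s18_1043 C, s18_1044 C, s18_1045 C, s18_1046 C, s18_1047 C, s18_1048 C, s18_1049 C⟩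

/-- Seeds. -/
def seedsPart18_42 : List ℕ := [2860, 1990, 1730, 1838, 1733, 3290, 1736, 2314, 3438, 3772, 2678, 3714, 1760, 1766, 3334, 1771, 1777, 2711, 2661, 3077, 1791, 3031, 2798, 1802, 1804]

theorem seeds18_42 : ∀ k ∈ seedsPart18_42, Good C (vlist C) (v18 C) k := by
  simp only [seedsPart18_42, List.forall_mem_cons, List.not_mem_nil, IsEmpty.forall_iff, implies_true, and_true]
  exact ⟨s18_1050 C, s18_1051 C, s18_1052 C, s18_1053 C, s18_1054 C, s18_1055 C, s18_1056 C, s18_1057 C, s18_1058 C, s18_1059 C, s18_1060 C, s18_1061 C, s18_1062 C, s18_1063 C, s18_1064 C, s18_1065 C, s18_1066 C, s18_1067 C, s18_1068 C, s18_1069 C, s18_1070 C, s18_1071 C, s18_1072 C, s18_1073 C, s18_1074 C⟩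

/-- Seeds. -/
def seedsPart18_43 : List ℕ := [1807, 2737, 2690, 1959, 2344, 2149, 1836, 3234, 1839, 3524, 3614, 2871, 1859, 2982, 3544, 3187, 1967, 1873, 1875, 2688, 2038, 3611, 1900, 1908, 3402]

theorem seeds18_43 : ∀ k ∈ seedsPart18_43, Good C (vlist C) (v18 C) k := by
  simp only [seedsPart18_43, List.forall_mem_cons, List.not_mem_nil, IsEmpty.forall_iff, implies_true, and_true]
  exact ⟨s18_1075 C, s18_1076 C, s18_1077 C, s18_1078 C, s18_1079 C, s18_1080 C, s18_1081 C, s18_1082 C, s18_1083 C, s18_1084 C, s18_1085 C, s18_1086 C, s18_1087 C, s18_1088 C, s18_1089 C, s18_1090 C, s18_1091 C, s18_1092 C, s18_1093 C, s18_1094 C, s18_1095 C, s18_1096 C, s18_1097 C, s18_1098 C, s18_1099 C⟩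

/-- Seeds. -/
def seedsPart18_44 : List ℕ := [3200, 2251, 2812, 2722, 3059, 2145, 3163, 1944, 2810, 2885, 2118, 2856, 1962, 1964, 1966, 3747, 1969, 3055, 1975, 1981, 1984, 2393, 2830, 1999, 3731]

theorem seeds18_44 : ∀ k ∈ seedsPart18_44, Good C (vlist C) (v18 C) k := by
  simp only [seedsPart18_44, List.forall_mem_cons, List.not_mem_nil, IsEmpty.forall_iff, implies_true, and_true]
  exact ⟨s18_1100 C, s18_1101 C, s18_1102 C, s18_1103 C, s18_1104 C, s18_1105 C, s18_1106 C, s18_1107 C, s18_1108 C, s18_1109 C, s18_1110 C, s18_1111 C, s18_1112 C, s18_1113 C, s18_1114 C, s18_1115 C, s18_1116 C, s18_1117 C, s18_1118 C, s18_1119 C, s18_1120 C, s18_1121 C, s18_1122 C, s18_1123 C, s18_1124 C⟩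

/-- Seeds. -/
def seedsPart18_45 : List ℕ := [3642, 2188, 3094, 3248, 2207, 3238, 3047, 2927, 2732, 2117, 3097, 3119, 2049, 2052, 3430, 2238, 2533, 3041, 2489, 2103, 2684, 3741, 2081, 2622, 3396]

theorem seeds18_45 : ∀ k ∈ seedsPart18_45, Good C (vlist C) (v18 C) k := by
  simp only [seedsPart18_45, List.forall_mem_cons, List.not_mem_nil, IsEmpty.forall_iff, implies_true, and_true]
  exact ⟨s18_1125 C, s18_1126 C, s18_1127 C, s18_1128 C, s18_1129 C, s18_1130 C, s18_1131 C, s18_1132 C, s18_1133 C, s18_1134 C, s18_1135 C, s18_1136 C, s18_1137 C, s18_1138 C, s18_1139 C, s18_1140 C, s18_1141 C, s18_1142 C, s18_1143 C, s18_1144 C, s18_1145 C, s18_1146 C, s18_1147 C, s18_1148 C, s18_1149 C⟩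

/-- Seeds. -/
def seedsPart18_46 : List ℕ := [2093, 2477, 3408, 2731, 2105, 2267, 3651, 3661, 3586, 2125, 3507, 3138, 3228, 2398, 3105, 3505, 2151, 2685, 2745, 3414, 2650, 3694, 3441, 3737, 2681]

theorem seeds18_46 : ∀ k ∈ seedsPart18_46, Good C (vlist C) (v18 C) k := by
  simp only [seedsPart18_46, List.forall_mem_cons, List.not_mem_nil, IsEmpty.forall_iff, implies_true, and_true]
  exact ⟨s18_1150 C, s18_1151 C, s18_1152 C, s18_1153 C, s18_1154 C, s18_1155 C, s18_1156 C, s18_1157 C, s18_1158 C, s18_1159 C, s18_1160 C, s18_1161 C, s18_1162 C, s18_1163 C, s18_1164 C, s18_1165 C, s18_1166 C, s18_1167 C, s18_1168 C, s18_1169 C, s18_1170 C, s18_1171 C, s18_1172 C, s18_1173 C, s18_1174 C⟩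

/-- Seeds. -/
def seedsPart18_47 : List ℕ := [3249, 2210, 2211, 2388, 3655, 2504, 2644, 2236, 2237, 3733, 2241, 2248, 2260, 2263, 2852, 2274, 2289, 3522, 3543, 2311, 2317, 2318, 2337, 3323, 2378]

theorem seeds18_47 : ∀ k ∈ seedsPart18_47, Good C (vlist C) (v18 C) k := by
  simp only [seedsPart18_47, List.forall_mem_cons, List.not_mem_nil, IsEmpty.forall_iff, implies_true, and_true]
  exact ⟨s18_1175 C, s18_1176 C, s18_1177 C, s18_1178 C, s18_1179 C, s18_1180 C, s18_1181 C, s18_1182 C, s18_1183 C, s18_1184 C, s18_1185 C, s18_1186 C, s18_1187 C, s18_1188 C, s18_1189 C, s18_1190 C, s18_1191 C, s18_1192 C, s18_1193 C, s18_1194 C, s18_1195 C, s18_1196 C, s18_1197 C, s18_1198 C, s18_1199 C⟩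

/-- Seeds. -/
def seedsPart18_48 : List ℕ := [3502, 2583, 2361, 2546, 2372, 3242, 3569, 2383, 3188, 2391, 2401, 3028, 2413, 2421, 2980, 3425, 3744, 3762, 3357, 2471, 2473, 2481, 2875, 2506, 2531]

theorem seeds18_48 : ∀ k ∈ seedsPart18_48, Good C (vlist C) (v18 C) k := by
  simp only [seedsPart18_48, List.forall_mem_cons, List.not_mem_nil, IsEmpty.forall_iff, implies_true, and_true]
  exact ⟨s18_1200 C, s18_1201 C, s18_1202 C, s18_1203 C, s18_1204 C, s18_1205 C, s18_1206 C, s18_1207 C, s18_1208 C, s18_1209 C, s18_1210 C, s18_1211 C, s18_1212 C, s18_1213 C, s18_1214 C, s18_1215 C, s18_1216 C, s18_1217 C, s18_1218 C, s18_1219 C, s18_1220 C, s18_1221 C, s18_1222 C, s18_1223 C, s18_1224 C⟩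

/-- Seeds. -/
def seedsPart18_49 : List ℕ := [2538, 3567, 2811, 2575, 2589, 3061, 2597, 2743, 2700, 3442, 3753, 3181, 3239, 2680, 3590, 2694, 3666, 2704, 3079, 2706, 3750, 3135, 2750, 3000, 2789]

theorem seeds18_49 : ∀ k ∈ seedsPart18_49, Good C (vlist C) (v18 C) k := by
  simp only [seedsPart18_49, List.forall_mem_cons, List.not_mem_nil, IsEmpty.forall_iff, implies_true, and_true]
  exact ⟨s18_1225 C, s18_1226 C, s18_1227 C, s18_1228 C, s18_1229 C, s18_1230 C, s18_1231 C, s18_1232 C, s18_1233 C, s18_1234 C, s18_1235 C, s18_1236 C, s18_1237 C, s18_1238 C, s18_1239 C, s18_1240 C, s18_1241 C, s18_1242 C, s18_1243 C, s18_1244 C, s18_1245 C, s18_1246 C, s18_1247 C, s18_1248 C, s18_1249 C⟩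

/-- Seeds. -/
def seedsPart18_50 : List ℕ := [3636, 3424, 2846, 3169, 2866, 3251, 3535, 2893, 3654, 3509, 3422, 2960, 3691, 2983, 3700, 3283, 3363, 3365, 3207, 3256, 3397, 3406, 3412, 3562, 3593]

theorem seeds18_50 : ∀ k ∈ seedsPart18_50, Good C (vlist C) (v18 C) k := by
  simp only [seedsPart18_50, List.forall_mem_cons, List.not_mem_nil, IsEmpty.forall_iff, implies_true, and_true]
  exact ⟨s18_1250 C, s18_1251 C, s18_1252 C, s18_1253 C, s18_1254 C, s18_1255 C, s18_1256 C, s18_1257 C, s18_1258 C, s18_1259 C, s18_1260 C, s18_1261 C, s18_1262 C, s18_1263 C, s18_1264 C, s18_1265 C, s18_1266 C, s18_1267 C, s18_1268 C, s18_1269 C, s18_1270 C, s18_1271 C, s18_1272 C, s18_1273 C, s18_1274 C⟩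

/-- The seeds, first group. -/
def seedsUpTo18_0 : List ℕ := seedsPart18_0

theorem upTo18_0 : ∀ k ∈ seedsUpTo18_0, Good C (vlist C) (v18 C) k := seeds18_0 C

/-- The seeds, first groups. -/
def seedsUpTo18_1 : List ℕ := seedsUpTo18_0 ++ seedsPart18_1

theorem upTo18_1 : ∀ k ∈ seedsUpTo18_1, Good C (vlist C) (v18 C) k :=
  List.forall_mem_append.2 ⟨upTo18_0 C, seeds18_1 C⟩

/-- The seeds, first groups. -/
def seedsUpTo18_2 : List ℕ := seedsUpTo18_1 ++ seedsPart18_2

theorem upTo18_2 : ∀ k ∈ seedsUpTo18_2, Good C (vlist C) (v18 C) k :=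
  List.forall_mem_append.2 ⟨upTo18_1 C, seeds18_2 C⟩

/-- The seeds, first groups. -/
def seedsUpTo18_3 : List ℕ := seedsUpTo18_2 ++ seedsPart18_3

theorem upTo18_3 : ∀ k ∈ seedsUpTo18_3, Good C (vlist C) (v18 C) k :=
  List.forall_mem_append.2 ⟨upTo18_2 C, seeds18_3 C⟩

/-- The seeds, first groups. -/
def seedsUpTo18_4 : List ℕ := seedsUpTo18_3 ++ seedsPart18_4

theorem upTo18_4 : ∀ k ∈ seedsUpTo18_4, Good C (vlist C) (v18 C) k :=
  List.forall_mem_append.2 ⟨upTo18_3 C, seeds18_4 C⟩

/-- The seeds, first groups. -/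
def seedsUpTo18_5 : List ℕ := seedsUpTo18_4 ++ seedsPart18_5

theorem upTo18_5 : ∀ k ∈ seedsUpTo18_5, Good C (vlist C) (v18 C) k :=
  List.forall_mem_append.2 ⟨upTo18_4 C, seeds18_5 C⟩

/-- The seeds, first groups. -/
def seedsUpTo18_6 : List ℕ := seedsUpTo18_5 ++ seedsPart18_6

theorem upTo18_6 : ∀ k ∈ seedsUpTo18_6, Good C (vlist C) (v18 C) k :=
  List.forall_mem_append.2 ⟨upTo18_5 C, seeds18_6 C⟩

/-- The seeds, first groups. -/
def seedsUpTo18_7 : List ℕ := seedsUpTo18_6 ++ seedsPart18_7

theorem upTo18_7 : ∀ k ∈ seedsUpTo18_7, Good C (vlist C) (v18 C) k :=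
  List.forall_mem_append.2 ⟨upTo18_6 C, seeds18_7 C⟩

/-- The seeds, first groups. -/
def seedsUpTo18_8 : List ℕ := seedsUpTo18_7 ++ seedsPart18_8

theorem upTo18_8 : ∀ k ∈ seedsUpTo18_8, Good C (vlist C) (v18 C) k :=
  List.forall_mem_append.2 ⟨upTo18_7 C, seeds18_8 C⟩

/-- The seeds, first groups. -/
def seedsUpTo18_9 : List ℕ := seedsUpTo18_8 ++ seedsPart18_9

theorem upTo18_9 : ∀ k ∈ seedsUpTo18_9, Good C (vlist C) (v18 C) k :=
  List.forall_mem_append.2 ⟨upTo18_8 C, seeds18_9 C⟩

/-- The seeds, first groups. -/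
def seedsUpTo18_10 : List ℕ := seedsUpTo18_9 ++ seedsPart18_10

theorem upTo18_10 : ∀ k ∈ seedsUpTo18_10, Good C (vlist C) (v18 C) k :=
  List.forall_mem_append.2 ⟨upTo18_9 C, seeds18_10 C⟩

/-- The seeds, first groups. -/
def seedsUpTo18_11 : List ℕ := seedsUpTo18_10 ++ seedsPart18_11

theorem upTo18_11 : ∀ k ∈ seedsUpTo18_11, Good C (vlist C) (v18 C) k :=
  List.forall_mem_append.2 ⟨upTo18_10 C, seeds18_11 C⟩

/-- The seeds, first groups. -/
def seedsUpTo18_12 : List ℕ := seedsUpTo18_11 ++ seedsPart18_12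

theorem upTo18_12 : ∀ k ∈ seedsUpTo18_12, Good C (vlist C) (v18 C) k :=
  List.forall_mem_append.2 ⟨upTo18_11 C, seeds18_12 C⟩

/-- The seeds, first groups. -/
def seedsUpTo18_13 : List ℕ := seedsUpTo18_12 ++ seedsPart18_13

theorem upTo18_13 : ∀ k ∈ seedsUpTo18_13, Good C (vlist C) (v18 C) k :=
  List.forall_mem_append.2 ⟨upTo18_12 C, seeds18_13 C⟩

/-- The seeds, first groups. -/
def seedsUpTo18_14 : List ℕ := seedsUpTo18_13 ++ seedsPart18_14

theorem upTo18_14 : ∀ k ∈ seedsUpTo18_14, Good C (vlist C) (v18 C) k :=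
  List.forall_mem_append.2 ⟨upTo18_13 C, seeds18_14 C⟩

/-- The seeds, first groups. -/
def seedsUpTo18_15 : List ℕ := seedsUpTo18_14 ++ seedsPart18_15

theorem upTo18_15 : ∀ k ∈ seedsUpTo18_15, Good C (vlist C) (v18 C) k :=
  List.forall_mem_append.2 ⟨upTo18_14 C, seeds18_15 C⟩

/-- The seeds, first groups. -/
def seedsUpTo18_16 : List ℕ := seedsUpTo18_15 ++ seedsPart18_16

theorem upTo18_16 : ∀ k ∈ seedsUpTo18_16, Good C (vlist C) (v18 C) k :=
  List.forall_mem_append.2 ⟨upTo18_15 C, seeds18_16 C⟩

/-- The seeds, first groups. -/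
def seedsUpTo18_17 : List ℕ := seedsUpTo18_16 ++ seedsPart18_17

theorem upTo18_17 : ∀ k ∈ seedsUpTo18_17, Good C (vlist C) (v18 C) k :=
  List.forall_mem_append.2 ⟨upTo18_16 C, seeds18_17 C⟩

/-- The seeds, first groups. -/
def seedsUpTo18_18 : List ℕ := seedsUpTo18_17 ++ seedsPart18_18

theorem upTo18_18 : ∀ k ∈ seedsUpTo18_18, Good C (vlist C) (v18 C) k :=
  List.forall_mem_append.2 ⟨upTo18_17 C, seeds18_18 C⟩

/-- The seeds, first groups. -/
def seedsUpTo18_19 : List ℕ := seedsUpTo18_18 ++ seedsPart18_19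

theorem upTo18_19 : ∀ k ∈ seedsUpTo18_19, Good C (vlist C) (v18 C) k :=
  List.forall_mem_append.2 ⟨upTo18_18 C, seeds18_19 C⟩

/-- The seeds, first groups. -/
def seedsUpTo18_20 : List ℕ := seedsUpTo18_19 ++ seedsPart18_20

theorem upTo18_20 : ∀ k ∈ seedsUpTo18_20, Good C (vlist C) (v18 C) k :=
  List.forall_mem_append.2 ⟨upTo18_19 C, seeds18_20 C⟩

/-- The seeds, first groups. -/
def seedsUpTo18_21 : List ℕ := seedsUpTo18_20 ++ seedsPart18_21

theorem upTo18_21 : ∀ k ∈ seedsUpTo18_21, Good C (vlist C) (v18 C) k :=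
  List.forall_mem_append.2 ⟨upTo18_20 C, seeds18_21 C⟩

/-- The seeds, first groups. -/
def seedsUpTo18_22 : List ℕ := seedsUpTo18_21 ++ seedsPart18_22

theorem upTo18_22 : ∀ k ∈ seedsUpTo18_22, Good C (vlist C) (v18 C) k :=
  List.forall_mem_append.2 ⟨upTo18_21 C, seeds18_22 C⟩

/-- The seeds, first groups. -/
def seedsUpTo18_23 : List ℕ := seedsUpTo18_22 ++ seedsPart18_23

theorem upTo18_23 : ∀ k ∈ seedsUpTo18_23, Good C (vlist C) (v18 C) k :=
  List.forall_mem_append.2 ⟨upTo18_22 C, seeds18_23 C⟩

/-- The seeds, first groups. -/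
def seedsUpTo18_24 : List ℕ := seedsUpTo18_23 ++ seedsPart18_24

theorem upTo18_24 : ∀ k ∈ seedsUpTo18_24, Good C (vlist C) (v18 C) k :=
  List.forall_mem_append.2 ⟨upTo18_23 C, seeds18_24 C⟩

/-- The seeds, first groups. -/
def seedsUpTo18_25 : List ℕ := seedsUpTo18_24 ++ seedsPart18_25

theorem upTo18_25 : ∀ k ∈ seedsUpTo18_25, Good C (vlist C) (v18 C) k :=
  List.forall_mem_append.2 ⟨upTo18_24 C, seeds18_25 C⟩

/-- The seeds, first groups. -/
def seedsUpTo18_26 : List ℕ := seedsUpTo18_25 ++ seedsPart18_26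

theorem upTo18_26 : ∀ k ∈ seedsUpTo18_26, Good C (vlist C) (v18 C) k :=
  List.forall_mem_append.2 ⟨upTo18_25 C, seeds18_26 C⟩

/-- The seeds, first groups. -/
def seedsUpTo18_27 : List ℕ := seedsUpTo18_26 ++ seedsPart18_27

theorem upTo18_27 : ∀ k ∈ seedsUpTo18_27, Good C (vlist C) (v18 C) k :=
  List.forall_mem_append.2 ⟨upTo18_26 C, seeds18_27 C⟩

/-- The seeds, first groups. -/
def seedsUpTo18_28 : List ℕ := seedsUpTo18_27 ++ seedsPart18_28

theorem upTo18_28 : ∀ k ∈ seedsUpTo18_28, Good C (vlist C) (v18 C) k :=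
  List.forall_mem_append.2 ⟨upTo18_27 C, seeds18_28 C⟩

/-- The seeds, first groups. -/
def seedsUpTo18_29 : List ℕ := seedsUpTo18_28 ++ seedsPart18_29

theorem upTo18_29 : ∀ k ∈ seedsUpTo18_29, Good C (vlist C) (v18 C) k :=
  List.forall_mem_append.2 ⟨upTo18_28 C, seeds18_29 C⟩

/-- The seeds, first groups. -/
def seedsUpTo18_30 : List ℕ := seedsUpTo18_29 ++ seedsPart18_30

theorem upTo18_30 : ∀ k ∈ seedsUpTo18_30, Good C (vlist C) (v18 C) k :=
  List.forall_mem_append.2 ⟨upTo18_29 C, seeds18_30 C⟩

/-- The seeds, first groups. -/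
def seedsUpTo18_31 : List ℕ := seedsUpTo18_30 ++ seedsPart18_31

theorem upTo18_31 : ∀ k ∈ seedsUpTo18_31, Good C (vlist C) (v18 C) k :=
  List.forall_mem_append.2 ⟨upTo18_30 C, seeds18_31 C⟩

/-- The seeds, first groups. -/
def seedsUpTo18_32 : List ℕ := seedsUpTo18_31 ++ seedsPart18_32

theorem upTo18_32 : ∀ k ∈ seedsUpTo18_32, Good C (vlist C) (v18 C) k :=
  List.forall_mem_append.2 ⟨upTo18_31 C, seeds18_32 C⟩

/-- The seeds, first groups. -/
def seedsUpTo18_33 : List ℕ := seedsUpTo18_32 ++ seedsPart18_33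

theorem upTo18_33 : ∀ k ∈ seedsUpTo18_33, Good C (vlist C) (v18 C) k :=
  List.forall_mem_append.2 ⟨upTo18_32 C, seeds18_33 C⟩

/-- The seeds, first groups. -/
def seedsUpTo18_34 : List ℕ := seedsUpTo18_33 ++ seedsPart18_34

theorem upTo18_34 : ∀ k ∈ seedsUpTo18_34, Good C (vlist C) (v18 C) k :=
  List.forall_mem_append.2 ⟨upTo18_33 C, seeds18_34 C⟩

/-- The seeds, first groups. -/
def seedsUpTo18_35 : List ℕ := seedsUpTo18_34 ++ seedsPart18_35

theorem upTo18_35 : ∀ k ∈ seedsUpTo18_35, Good C (vlist C) (v18 C) k :=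
  List.forall_mem_append.2 ⟨upTo18_34 C, seeds18_35 C⟩

/-- The seeds, first groups. -/
def seedsUpTo18_36 : List ℕ := seedsUpTo18_35 ++ seedsPart18_36

theorem upTo18_36 : ∀ k ∈ seedsUpTo18_36, Good C (vlist C) (v18 C) k :=
  List.forall_mem_append.2 ⟨upTo18_35 C, seeds18_36 C⟩

/-- The seeds, first groups. -/
def seedsUpTo18_37 : List ℕ := seedsUpTo18_36 ++ seedsPart18_37

theorem upTo18_37 : ∀ k ∈ seedsUpTo18_37, Good C (vlist C) (v18 C) k :=
  List.forall_mem_append.2 ⟨upTo18_36 C, seeds18_37 C⟩

/-- The seeds, first groups. -/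
def seedsUpTo18_38 : List ℕ := seedsUpTo18_37 ++ seedsPart18_38

theorem upTo18_38 : ∀ k ∈ seedsUpTo18_38, Good C (vlist C) (v18 C) k :=
  List.forall_mem_append.2 ⟨upTo18_37 C, seeds18_38 C⟩

/-- The seeds, first groups. -/
def seedsUpTo18_39 : List ℕ := seedsUpTo18_38 ++ seedsPart18_39

theorem upTo18_39 : ∀ k ∈ seedsUpTo18_39, Good C (vlist C) (v18 C) k :=
  List.forall_mem_append.2 ⟨upTo18_38 C, seeds18_39 C⟩

/-- The seeds, first groups. -/
def seedsUpTo18_40 : List ℕ := seedsUpTo18_39 ++ seedsPart18_40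

theorem upTo18_40 : ∀ k ∈ seedsUpTo18_40, Good C (vlist C) (v18 C) k :=
  List.forall_mem_append.2 ⟨upTo18_39 C, seeds18_40 C⟩

/-- The seeds, first groups. -/
def seedsUpTo18_41 : List ℕ := seedsUpTo18_40 ++ seedsPart18_41

theorem upTo18_41 : ∀ k ∈ seedsUpTo18_41, Good C (vlist C) (v18 C) k :=
  List.forall_mem_append.2 ⟨upTo18_40 C, seeds18_41 C⟩

/-- The seeds, first groups. -/
def seedsUpTo18_42 : List ℕ := seedsUpTo18_41 ++ seedsPart18_42

theorem upTo18_42 : ∀ k ∈ seedsUpTo18_42, Good C (vlist C) (v18 C) k :=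
  List.forall_mem_append.2 ⟨upTo18_41 C, seeds18_42 C⟩

/-- The seeds, first groups. -/
def seedsUpTo18_43 : List ℕ := seedsUpTo18_42 ++ seedsPart18_43

theorem upTo18_43 : ∀ k ∈ seedsUpTo18_43, Good C (vlist C) (v18 C) k :=
  List.forall_mem_append.2 ⟨upTo18_42 C, seeds18_43 C⟩

/-- The seeds, first groups. -/
def seedsUpTo18_44 : List ℕ := seedsUpTo18_43 ++ seedsPart18_44

theorem upTo18_44 : ∀ k ∈ seedsUpTo18_44, Good C (vlist C) (v18 C) k :=
  List.forall_mem_append.2 ⟨upTo18_43 C, seeds18_44 C⟩

/-- The seeds, first groups. -/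
def seedsUpTo18_45 : List ℕ := seedsUpTo18_44 ++ seedsPart18_45

theorem upTo18_45 : ∀ k ∈ seedsUpTo18_45, Good C (vlist C) (v18 C) k :=
  List.forall_mem_append.2 ⟨upTo18_44 C, seeds18_45 C⟩

/-- The seeds, first groups. -/
def seedsUpTo18_46 : List ℕ := seedsUpTo18_45 ++ seedsPart18_46

theorem upTo18_46 : ∀ k ∈ seedsUpTo18_46, Good C (vlist C) (v18 C) k :=
  List.forall_mem_append.2 ⟨upTo18_45 C, seeds18_46 C⟩

/-- The seeds, first groups. -/
def seedsUpTo18_47 : List ℕ := seedsUpTo18_46 ++ seedsPart18_47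

theorem upTo18_47 : ∀ k ∈ seedsUpTo18_47, Good C (vlist C) (v18 C) k :=
  List.forall_mem_append.2 ⟨upTo18_46 C, seeds18_47 C⟩

/-- The seeds, first groups. -/
def seedsUpTo18_48 : List ℕ := seedsUpTo18_47 ++ seedsPart18_48

theorem upTo18_48 : ∀ k ∈ seedsUpTo18_48, Good C (vlist C) (v18 C) k :=
  List.forall_mem_append.2 ⟨upTo18_47 C, seeds18_48 C⟩

/-- The seeds, first groups. -/
def seedsUpTo18_49 : List ℕ := seedsUpTo18_48 ++ seedsPart18_49

theorem upTo18_49 : ∀ k ∈ seedsUpTo18_49, Good C (vlist C) (v18 C) k :=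
  List.forall_mem_append.2 ⟨upTo18_48 C, seeds18_49 C⟩

/-- The seeds, first groups. -/
def seedsUpTo18_50 : List ℕ := seedsUpTo18_49 ++ seedsPart18_50

theorem upTo18_50 : ∀ k ∈ seedsUpTo18_50, Good C (vlist C) (v18 C) k :=
  List.forall_mem_append.2 ⟨upTo18_49 C, seeds18_50 C⟩

/-- The seeds of vertex 18. -/
def seeds18 : List ℕ := seedsUpTo18_50

theorem seeds18_good : ∀ k ∈ seeds18, Good C (vlist C) (v18 C) k := upTo18_50 C

/-- Generators fixing vertex 18. -/
def gens18 : List (List ℕ × ℕ) := [
  ([25, 40, 51, 81, 96, 123], 0x5c4653469ac494414e18327273d76)]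

theorem gens18_fix : ∀ g ∈ gens18, C.S (v18 C) g.1 := by
  simp only [gens18, List.forall_mem_cons, List.not_mem_nil, IsEmpty.forall_iff, implies_true, and_true]
  exact f6836 C

theorem gens18_ok : (gens18.all fun g => genOk g.1 g.2) = true := by decide +kernel

/-- Steps. -/
def rows18_0 : List (ℕ × ℕ × ℕ × ℕ) := [(2276, 0, 573, 225), (327, 0, 2, 216), (3, 0, 207, 210), (16, 0, 4, 198), (5, 0, 787, 225), (696, 0, 6, 210), (1920, 0, 2280, 225), (2660, 0, 983, 198), (9, 0, 1050, 216), (10, 0, 3391, 210), (526, 0, 12, 228), (2655, 0, 2096, 210), (14, 0, 2397, 201), (962, 0, 15, 201), (17, 0, 1542, 198), (307, 0, 3671, 225), (2961, 0, 1659, 216), (1208, 0, 20, 201), (3185, 0, 2998, 225), (22, 0, 1162, 210), (23, 0, 71, 225), (3555, 0, 24, 201), (2290, 0, 25, 210), (956, 0, 26, 216), (1814, 0, 1797, 216), (772, 0, 28, 228), (508, 0, 29, 225), (2334, 0, 1654, 201), (3091, 0, 31, 198), (1764, 0, 1720, 201), (1400, 0, 33, 201), (34, 0, 3570, 198), (1113, 0, 500, 216), (36, 0, 970, 198), (245, 0, 335, 198), (38, 0,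 481, 198), (735, 0, 1167, 228), (40, 0, 1897, 201), (3358, 0, 41, 216), (2407, 0, 2095, 201), (43, 0, 2437, 198), (44, 0, 1547, 228), (45, 0, 936, 210), (46, 0, 561, 216), (1640, 0, 2530, 201), (48, 0, 1803, 201), (2112, 0, 2278, 201), (474, 0, 50, 216), (51, 0, 2532, 228), (52, 0, 3331, 216), (993, 0, 53, 216), (54, 0, 3403, 225), (55, 0, 661, 198), (56, 0, 746, 201), (2239, 0, 57, 201), (58, 0, 1972, 228), (156, 0, 3179, 201), (1939, 0, 60, 225), (3190, 0, 61, 228), (3584, 0, 1656, 228), (1127, 0, 2581, 210), (2400, 0, 64, 225), (2598, 0, 65, 201), (66, 0, 1698, 225), (67, 0, 2128, 198), (2261, 0, 447, 198), (1121, 0, 883, 201), (70, 0, 443, 210), (72, 0, 2612, 201), (2428, 0, 958, 225), (728, 0, 1820, 210), (3246, 0, 75, 201), (1131, 0, 76, 201), (3554, 0, 77, 201), (1641, 0, 3125, 210), (3698, 0, 1505, 225), (581, 0, 593, 198), (3369, 0, 2959, 216), (943, 0, 82, 228), (83, 0, 2341, 210), (420, 0, 84, 216), (2842, 0, 1963, 228), (86, 0, 155, 201), (1206, 0, 87, 210), (2287, 0, 88, 225), (2446, 0, 1870, 201),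 (90, 0, 314, 225), (1463, 0, 91, 228), (92, 0, 874, 201), (158, 0, 730, 216), (97, 0, 862, 216), (95, 0, 916, 201), (96, 0, 2995, 198), (98, 0, 2336, 228), (99, 0, 3399, 210), (1239, 0, 100, 201), (1198, 0, 1630, 201), (102, 0, 2738, 210), (103, 0, 1033, 201), (1937, 0, 2486, 228), (105, 0, 1300, 228), (2947, 0, 106, 210), (333, 0, 986, 198), (1371, 0, 108, 216), (1874, 0, 2234, 216), (1053, 0, 110, 198), (1288, 0, 111, 216), (889, 0, 112, 210), (559, 0, 1960, 210), (250, 0, 114, 198), (2299, 0, 115, 198), (3477, 0, 1637, 225), (2596, 0, 117, 210), (2853, 0, 2800, 210), (119, 0, 1247, 225), (3254, 0, 120, 198), (920, 0, 1748, 198), (737, 0, 122, 225), (123, 0, 702, 210), (1290, 0, 2146, 201), (1956, 0, 1588, 210), (152, 0, 887, 198), (3553, 0, 2594, 210), (558, 0, 128, 201), (2029, 0, 129, 210), (130, 0, 740, 210), (131, 0, 653, 198), (1364, 0, 132, 216), (133, 0, 3413, 198), (134, 0, 1852, 201), (1765, 0, 1148, 201), (302, 0, 827, 216), (137, 0, 3349, 198), (262, 0, 219, 198), (2161, 0, 3478, 198), (3129, 0,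 140, 210), (281, 0, 141, 210), (2175, 0, 1783, 228), (694, 0, 529, 198), (2520, 0, 144, 216), (145, 0, 2648, 198), (1365, 0, 146, 198), (2419, 0, 472, 210), (1218, 0, 148, 210), (1664, 0, 149, 228), (2884, 0, 150, 210), (362, 0, 151, 216), (2078, 0, 153, 228), (154, 0, 591, 216), (157, 0, 879, 228), (1763, 0, 2091, 216), (160, 0, 969, 228), (2283, 0, 161, 228), (3009, 0, 1137, 198), (2494, 0, 885, 216), (3653, 0, 164, 198), (3092, 0, 2656, 228), (2791, 0, 166, 210), (167, 0, 1976, 201), (3407, 0, 3266, 210), (3195, 0, 846, 216), (895, 0, 3198, 216), (392, 0, 171, 216), (172, 0, 2558, 210), (173, 0, 1652, 201), (174, 0, 961, 198), (2625, 0, 3538, 210), (3140, 0, 176, 225), (1996, 0, 177, 198), (501, 0, 2457, 225), (2429, 0, 3049, 228), (3730, 0, 180, 228), (2751, 0, 181, 225), (1958, 0, 3030, 210), (1474, 0, 1683, 201), (184, 0, 2777, 210), (185, 0, 3062, 201), (186, 0, 271, 228), (187, 0, 2204, 210), (188, 0, 2153, 225), (1388, 0, 1123, 228), (331, 0, 190, 210), (1229, 0, 3383, 216), (192, 0, 3573, 225), (2425,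 0, 193, 216), (259, 0, 194, 228), (195, 0, 2682, 228), (1752, 0, 196, 198), (3454, 0, 197, 228), (998, 0, 1122, 198), (2851, 0, 492, 225), (2643, 0, 200, 228), (3703, 0, 201, 228), (202, 0, 2396, 228), (203, 0, 549, 210), (204, 0, 2770, 198), (3790, 0, 3364, 228), (901, 0, 206, 216), (3667, 0, 208, 201), (1330, 0, 1800, 228), (2190, 0, 633, 201), (705, 0, 211, 216), (356, 0, 1251, 198), (922, 0, 1184, 198), (3301, 0, 563, 228), (2623, 0, 3465, 225), (216, 0, 1904, 225), (868, 0, 1995, 228), (2658, 0, 2639, 210), (220, 0, 873, 216), (221, 0, 1613, 201), (2371, 0, 3039, 198), (2617, 0, 223, 210), (371, 0, 224, 201), (2470, 0, 225, 201), (2082, 0, 1224, 228), (1951, 0, 227, 201), (720, 0, 228, 228), (1569, 0, 229, 228), (230, 0, 3045, 198), (231, 0, 2036, 210), (1682, 0, 232, 216), (3437, 0, 234, 198), (2120, 0, 235, 216), (3588, 0, 237, 198), (238, 0, 686, 201), (436, 0, 1933, 216), (3048, 0, 240, 228), (3102, 0, 1181, 225), (242, 0, 3174, 198), (2424, 0, 1036, 210), (1509, 0, 244, 228), (951, 0, 1408, 198), (247,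 0, 977, 201), (248, 0, 1172, 216), (249, 0, 1631, 210), (2434, 0, 843, 210), (252, 0, 2548, 228), (253, 0, 3209, 198), (254, 0, 1091, 210), (255, 0, 2203, 228), (1430, 0, 256, 225), (3483, 0, 257, 201), (1490, 0, 258, 201), (260, 0, 3027, 198), (3230, 0, 2545, 201), (3203, 0, 264, 210), (265, 0, 1201, 225), (1424, 0, 266, 201), (3157, 0, 3044, 216)]

/-- Steps. -/
def rows18_1 : List (ℕ × ℕ × ℕ × ℕ) := [(3656, 0, 3233, 201), (3076, 0, 270, 198), (1519, 0, 1423, 201), (2474, 0, 273, 216), (3287, 0, 3273, 198), (275, 0, 674, 216), (1903, 0, 667, 198), (3722, 0, 277, 216), (1786, 0, 1397, 210), (279, 0, 1680, 201), (3709, 0, 3447, 225), (1989, 0, 689, 198), (283, 0, 925, 201), (659, 0, 284, 210), (629, 0, 425, 216), (286, 0, 1117, 198), (637, 0, 287, 210), (288, 0, 394, 228), (289, 0, 3492, 216), (1953, 0, 290, 225), (1841, 0, 291, 225), (3088, 0, 3579, 228), (293, 0, 1618, 198), (1667, 0, 294, 228), (2717, 0, 3409, 198), (296, 0, 1691, 210), (1678, 0, 297, 198), (452, 0, 298, 210), (521, 0, 299, 216), (1413, 0,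 300, 225), (648, 0, 408, 201), (303, 0, 1144, 228), (304, 0, 834, 210), (531, 0, 389, 210), (547, 0, 660, 225), (982, 0, 2484, 201), (2108, 0, 1977, 201), (2730, 0, 2615, 225), (804, 0, 311, 216), (312, 0, 2679, 216), (313, 0, 2487, 225), (315, 0, 3244, 201), (317, 0, 2024, 201), (3341, 0, 318, 228), (1754, 0, 319, 228), (3596, 0, 1728, 225), (1824, 0, 2492, 216), (322, 0, 2652, 198), (323, 0, 1432, 216), (324, 0, 989, 225), (326, 0, 3713, 201), (328, 0, 1808, 201), (636, 0, 329, 228), (2373, 0, 330, 225), (810, 0, 332, 216), (1243, 0, 2586, 225), (1602, 0, 2816, 228), (522, 0, 338, 201), (339, 0, 1246, 198), (494, 0, 340, 210), (2386, 0, 461, 201), (342, 0, 1704, 216), (1513, 0, 344, 198), (345, 0, 1266, 228), (1170, 0, 347, 198), (348, 0, 1476, 210), (1894, 0, 3302, 210), (3652, 0, 350, 225), (647, 0, 351, 228), (3166, 0, 2610, 201), (1571, 0, 631, 228), (1755, 0, 355, 225), (2847, 0, 1579, 225), (2256, 0, 358, 225), (2100, 0, 1034, 216), (3670, 0, 361, 198), (605, 0, 1186, 216), (364, 0, 1422, 198), (365,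 0, 407, 201), (1988, 0, 367, 228), (2308, 0, 368, 210), (538, 0, 369, 198), (370, 0, 1906, 201), (2058, 0, 372, 216), (957, 0, 373, 210), (2741, 0, 374, 198), (375, 0, 1068, 201), (1368, 0, 376, 216), (658, 0, 377, 201), (378, 0, 1055, 225), (884, 0, 3191, 198), (2592, 0, 380, 210), (381, 0, 3277, 216), (382, 0, 416, 201), (2999, 0, 383, 198), (384, 0, 2802, 225), (385, 0, 2055, 198), (387, 0, 3090, 216), (1469, 0, 1205, 228), (3687, 0, 3284, 225), (1582, 0, 391, 198), (3139, 0, 1742, 198), (2154, 0, 1902, 201), (3304, 0, 396, 201), (2772, 0, 2624, 228), (421, 0, 399, 228), (3356, 0, 1407, 228), (3362, 0, 401, 198), (1889, 0, 687, 201), (403, 0, 1009, 210), (656, 0, 404, 225), (406, 0, 913, 225), (1477, 0, 409, 216), (410, 0, 1063, 225), (2462, 0, 3066, 228), (3708, 0, 1806, 225), (1794, 0, 413, 216), (414, 0, 2313, 225), (1214, 0, 415, 216), (2542, 0, 2569, 201), (3237, 0, 418, 198), (1635, 0, 422, 216), (2649, 0, 423, 228), (1685, 0, 1789, 216), (426, 0, 2952, 225), (1832, 0, 427, 228), (428, 0, 1458, 225),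 (847, 0, 2576, 198), (430, 0, 2845, 210), (2817, 0, 431, 225), (1173, 0, 2327, 210), (2664, 0, 3192, 201), (434, 0, 3306, 228), (435, 0, 765, 225), (437, 0, 3158, 198), (2739, 0, 3533, 198), (439, 0, 2381, 228), (2767, 0, 440, 225), (3006, 0, 442, 216), (444, 0, 858, 201), (2167, 0, 445, 228), (1350, 0, 3136, 228), (3095, 0, 450, 198), (2667, 0, 451, 210), (2353, 0, 453, 228), (2277, 0, 454, 210), (2356, 0, 455, 210), (3128, 0, 457, 201), (2937, 0, 1040, 225), (2941, 0, 2169, 228), (3788, 0, 460, 198), (462, 0, 1684, 225), (463, 0, 1426, 225), (2346, 0, 464, 228), (465, 0, 724, 216), (2848, 0, 1795, 210), (1941, 0, 1912, 225), (777, 0, 2418, 210), (469, 0, 3183, 201), (1046, 0, 3305, 210), (774, 0, 2618, 201), (3053, 0, 3316, 201), (2479, 0, 2217, 225), (477, 0, 991, 198), (2053, 0, 2168, 198), (480, 0, 3264, 210), (3720, 0, 1768, 198), (1650, 0, 483, 225), (1732, 0, 719, 198), (485, 0, 3581, 210), (2040, 0, 798, 228), (2981, 0, 487, 210), (1021, 0, 1532, 225), (3029, 0, 2342, 225), (490, 0, 2087, 210), (3261,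 0, 491, 225), (3352, 0, 3378, 210), (3382, 0, 495, 210), (1871, 0, 496, 198), (711, 0, 497, 225), (2964, 0, 498, 210), (499, 0, 942, 225), (502, 0, 564, 210), (1280, 0, 503, 228), (504, 0, 1745, 210), (2895, 0, 1882, 198), (743, 0, 1312, 228), (507, 0, 800, 228), (509, 0, 2227, 228), (510, 0, 2139, 210), (2111, 0, 511, 228), (704, 0, 1089, 201), (2512, 0, 513, 228), (1570, 0, 514, 210), (515, 0, 2726, 228), (516, 0, 2899, 201), (1562, 0, 3460, 210), (1219, 0, 2124, 228), (519, 0, 3690, 216), (934, 0, 1835, 210), (3116, 0, 524, 198), (655, 0, 525, 216), (3785, 0, 528, 201), (530, 0, 2364, 225), (1442, 0, 2936, 210), (534, 0, 3759, 210), (2083, 0, 3321, 198), (3259, 0, 3506, 201), (1313, 0, 537, 225), (924, 0, 539, 228), (540, 0, 994, 210), (2459, 0, 541, 225), (1066, 0, 542, 201), (3429, 0, 543, 225), (1674, 0, 837, 216), (545, 0, 3637, 198), (546, 0, 3398, 198), (2932, 0, 888, 210), (1779, 0, 550, 210), (1087, 0, 551, 210), (2503, 0, 552, 228), (553, 0, 2849, 210), (2729, 0, 1843, 216), (799, 0, 555, 201), (3523,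 0, 664, 198), (3791, 0, 3196, 201), (560, 0, 1628, 225), (562, 0, 1299, 198), (565, 0, 2753, 201), (566, 0, 2551, 198), (3082, 0, 567, 228), (2246, 0, 3311, 225), (2861, 0, 569, 210), (3388, 0, 570, 216), (571, 0, 1979, 210), (572, 0, 1420, 201), (3100, 0, 574, 228), (2357, 0, 577, 225), (2310, 0, 589, 225), (3689, 0, 2793, 228), (1790, 0, 3663, 198), (1412, 0, 583, 216), (584, 0, 3587, 216), (585, 0, 3685, 210), (2909, 0, 697, 225), (587, 0, 1405, 228), (3339, 0, 812, 228), (1919, 0, 590, 225), (592, 0, 2869, 228), (2163, 0, 2698, 216)]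

/-- Steps. -/
def rows18_2 : List (ℕ × ℕ × ℕ × ℕ) := [(1923, 0, 1774, 201), (597, 0, 2430, 198), (598, 0, 1192, 216), (790, 0, 1129, 225), (2917, 0, 600, 225), (3607, 0, 2870, 201), (2627, 0, 602, 228), (1449, 0, 3005, 210), (1600, 0, 606, 228), (607, 0, 1880, 201), (3235, 0, 608, 201), (1549, 0, 2243, 228), (716, 0, 1358, 216), (764, 0, 612, 201), (613, 0, 1230, 225), (614, 0, 1935, 216), (3630, 0, 615, 225), (3106, 0, 3089, 216), (3245, 0, 617, 216), (618, 0, 1931, 210), (619, 0, 2773, 201), (620, 0, 3568, 216), (622, 0, 3026, 201), (1848, 0, 2086, 228), (923, 0, 1080, 225), (625, 0, 2209, 210), (1445, 0, 626, 198), (3578, 0, 2701, 225), (782, 0, 628, 198), (630, 0, 1105, 210), (3627, 0, 3472, 225), (2778, 0, 2808, 225), (1353, 0, 2931, 225), (638, 0, 2404, 210), (1083, 0, 2986, 210), (640, 0, 2969, 201), (1278, 0, 3792, 198), (643, 0, 2805, 225), (1662, 0, 644, 198), (3705, 0, 645, 201), (776, 0, 646, 198), (649, 0, 762, 228), (1646, 0, 2365, 210), (1811, 0, 3025, 225), (914, 0, 1475, 228), (1709, 0, 3789,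 201), (1560, 0, 2051, 201), (2416, 0, 1670, 228), (3326, 0, 665, 210), (666, 0, 2989, 198), (668, 0, 3491, 198), (669, 0, 2048, 201), (3381, 0, 1273, 210), (671, 0, 1366, 225), (995, 0, 811, 198), (3420, 0, 775, 198), (675, 0, 729, 228), (3782, 0, 2359, 216), (3606, 0, 677, 210), (732, 0, 1818, 228), (679, 0, 1183, 210), (680, 0, 2988, 198), (681, 0, 1088, 198), (2573, 0, 682, 225), (3265, 0, 2403, 225), (849, 0, 2499, 210), (2541, 0, 685, 210), (3565, 0, 688, 198), (691, 0, 2333, 198), (2020, 0, 692, 216), (2962, 0, 1675, 228), (2539, 0, 695, 216), (3417, 0, 3470, 225), (703, 0, 1504, 225), (1328, 0, 1539, 198), (707, 0, 1772, 225), (708, 0, 945, 228), (3571, 0, 709, 225), (917, 0, 710, 228), (2467, 0, 1810, 198), (714, 0, 890, 216), (715, 0, 3532, 216), (1395, 0, 717, 198), (2392, 0, 1672, 216), (722, 0, 2787, 201), (3780, 0, 3296, 198), (3416, 0, 725, 201), (786, 0, 726, 210), (727, 0, 757, 228), (731, 0, 2176, 228), (733, 0, 1133, 201), (3201, 0, 1401, 201), (857, 0, 3361, 210), (738, 0, 1699, 225), (741,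 0, 3739, 228), (742, 0, 3032, 198), (744, 0, 2590, 216), (745, 0, 2472, 198), (747, 0, 3297, 228), (748, 0, 3189, 216), (2142, 0, 750, 228), (1307, 0, 751, 216), (752, 0, 3019, 210), (754, 0, 3572, 201), (2453, 0, 784, 201), (1955, 0, 758, 201), (1681, 0, 3155, 228), (2549, 0, 1492, 198), (1064, 0, 2085, 198), (766, 0, 2521, 198), (903, 0, 2902, 216), (768, 0, 1325, 198), (769, 0, 2265, 198), (1868, 0, 770, 216), (2455, 0, 771, 228), (773, 0, 3583, 216), (2560, 0, 899, 201), (2285, 0, 779, 210), (780, 0, 3757, 210), (3219, 0, 781, 198), (3072, 0, 785, 216), (3707, 0, 789, 198), (792, 0, 3385, 228), (3448, 0, 793, 210), (1370, 0, 1526, 210), (3348, 0, 2872, 216), (2144, 0, 918, 228), (801, 0, 1609, 198), (803, 0, 864, 201), (3024, 0, 2369, 210), (806, 0, 1377, 210), (2948, 0, 1555, 210), (947, 0, 3064, 228), (3347, 0, 1892, 225), (814, 0, 909, 228), (815, 0, 1071, 216), (817, 0, 1035, 216), (2127, 0, 818, 201), (820, 0, 1480, 225), (821, 0, 1448, 210), (3534, 0, 1876, 225), (823, 0, 3172, 201), (2501, 0, 1891,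 228), (1817, 0, 825, 225), (1528, 0, 826, 201), (1259, 0, 829, 225), (1261, 0, 830, 228), (2686, 0, 831, 225), (1062, 0, 835, 210), (3582, 0, 3152, 201), (3107, 0, 840, 216), (2366, 0, 2815, 201), (1511, 0, 842, 210), (3067, 0, 844, 225), (1536, 0, 845, 198), (3368, 0, 2004, 201), (2133, 0, 851, 210), (1865, 0, 1023, 228), (2511, 0, 853, 198), (3668, 0, 928, 225), (3351, 0, 2588, 201), (3515, 0, 856, 210), (2900, 0, 2657, 210), (2225, 0, 3411, 210), (3493, 0, 3695, 198), (3279, 0, 1297, 210), (867, 0, 2898, 210), (2319, 0, 2540, 210), (2553, 0, 870, 210), (871, 0, 3673, 201), (3451, 0, 2405, 225), (959, 0, 1344, 210), (1253, 0, 1284, 228), (1429, 0, 1145, 198), (1724, 0, 881, 225), (3462, 0, 3781, 201), (891, 0, 2578, 228), (1813, 0, 1339, 225), (1855, 0, 893, 228), (2779, 0, 896, 201), (2954, 0, 3496, 225), (2863, 0, 900, 198), (3612, 0, 902, 228), (2060, 0, 904, 198), (3734, 0, 3557, 228), (3613, 0, 3634, 198), (3343, 0, 2126, 225), (910, 0, 3186, 216), (2348, 0, 3225, 210), (2801, 0, 3218, 216), (915, 0, 2634,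 210), (1478, 0, 1406, 225), (3674, 0, 921, 210), (1744, 0, 926, 225), (1629, 0, 3204, 201), (929, 0, 3449, 210), (930, 0, 2377, 198), (3274, 0, 2640, 201), (2720, 0, 932, 201), (1187, 0, 933, 228), (2062, 0, 935, 198), (2714, 0, 3280, 225), (939, 0, 1544, 225), (940, 0, 3101, 228), (2822, 0, 941, 198), (2061, 0, 944, 225), (1309, 0, 946, 228), (1893, 0, 948, 228), (949, 0, 2427, 225), (3379, 0, 1722, 225), (953, 0, 1757, 201), (2564, 0, 2014, 225), (964, 0, 2934, 201), (2518, 0, 2493, 201), (3662, 0, 966, 225), (968, 0, 2614, 198), (2818, 0, 1589, 198), (2599, 0, 972, 198), (1737, 0, 3132, 198), (974, 0, 2593, 201), (976, 0, 1359, 210), (1010, 0, 978, 210), (2275, 0, 2409, 198), (980, 0, 2215, 198), (1150, 0, 981, 216), (3112, 0, 3390, 216), (985, 0, 2003, 228), (3020, 0, 2783, 198), (1878, 0, 988, 198), (990, 0, 1916, 210), (992, 0, 1151, 216), (2972, 0, 997, 216), (2291, 0, 2244, 198), (1143, 0, 1001, 201), (1002, 0, 2833, 228), (2315, 0, 2630, 216), (2033, 0, 3530, 210), (1649, 0, 1005, 198), (2435, 0, 1006,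 216), (1651, 0, 1007, 201), (3080, 0, 1047, 216), (1011, 0, 1867, 210), (3513, 0, 2406, 216), (1015, 0, 1270, 228), (1016, 0, 1141, 198), (1017, 0, 3647, 201), (1018, 0, 1444, 225), (2186, 0, 1801, 225), (1911, 0, 2431, 228), (1025, 0, 2000, 228)]

/-- Steps. -/
def rows18_3 : List (ℕ × ℕ × ℕ × ℕ) := [(1026, 0, 1500, 216), (1741, 0, 1028, 201), (1029, 0, 2018, 225), (2208, 0, 1666, 201), (1031, 0, 3182, 228), (1516, 0, 1032, 198), (1037, 0, 2355, 210), (1038, 0, 2174, 210), (2270, 0, 3490, 225), (3794, 0, 1393, 216), (1915, 0, 3467, 210), (1044, 0, 1739, 228), (2449, 0, 3278, 210), (3755, 0, 1254, 210), (1049, 0, 2632, 216), (1194, 0, 3401, 225), (1052, 0, 3702, 198), (1054, 0, 3216, 201), (1301, 0, 1056, 198), (2054, 0, 1059, 228), (2641, 0, 1060, 228), (1061, 0, 2027, 198), (2102, 0, 2463, 225), (1901, 0, 2894, 225), (3679, 0, 2713, 201), (2201, 0, 3130, 198), (1822, 0, 1075, 228), (2269, 0, 1076, 210), (1392, 0, 1153, 216), (2880, 0, 2944, 201), (2769, 0, 3676, 201), (1085, 0, 1985, 198), (3577, 0, 1086, 210),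 (2178, 0, 1090, 201), (2441, 0, 1092, 198), (3793, 0, 3650, 201), (1524, 0, 1633, 210), (1272, 0, 1095, 228), (1899, 0, 1096, 210), (1199, 0, 1097, 228), (3271, 0, 1098, 210), (2534, 0, 2707, 201), (2519, 0, 1100, 198), (3625, 0, 1323, 228), (1102, 0, 3456, 210), (1211, 0, 1103, 198), (2955, 0, 1945, 216), (2183, 0, 1109, 210), (1110, 0, 3599, 225), (1762, 0, 1111, 228), (1112, 0, 2030, 210), (1277, 0, 2224, 210), (2840, 0, 3499, 210), (2137, 0, 1829, 201), (1124, 0, 2642, 228), (2877, 0, 1614, 201), (3058, 0, 2780, 216), (3327, 0, 3419, 216), (1792, 0, 2047, 210), (3299, 0, 1132, 228), (1134, 0, 2922, 228), (1489, 0, 2973, 198), (3395, 0, 2697, 216), (3474, 0, 2832, 216), (3518, 0, 1140, 225), (2782, 0, 1142, 198), (1255, 0, 1576, 210), (2563, 0, 1152, 201), (3751, 0, 1154, 198), (1594, 0, 1320, 201), (1159, 0, 2672, 228), (1160, 0, 1607, 225), (3002, 0, 2502, 225), (2335, 0, 3142, 201), (1182, 0, 1165, 198), (1168, 0, 2268, 198), (1171, 0, 2119, 201), (1595, 0, 3307, 228), (1177, 0, 2854, 228), (2281, 0, 2510,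 201), (1621, 0, 3786, 216), (1180, 0, 2447, 216), (1188, 0, 2322, 201), (1322, 0, 1374, 228), (3078, 0, 2710, 210), (2109, 0, 3017, 201), (2072, 0, 3746, 201), (1242, 0, 3615, 201), (2122, 0, 1202, 198), (2064, 0, 1203, 201), (2157, 0, 3616, 198), (3601, 0, 1207, 210), (3510, 0, 3777, 216), (1212, 0, 2957, 228), (1688, 0, 1215, 210), (3602, 0, 1216, 225), (1217, 0, 3712, 225), (1220, 0, 2184, 216), (2824, 0, 3223, 228), (2645, 0, 1222, 216), (1223, 0, 3623, 225), (3446, 0, 1225, 228), (1228, 0, 1583, 216), (2433, 0, 1232, 198), (3370, 0, 3224, 198), (2723, 0, 3556, 228), (1236, 0, 2613, 216), (3684, 0, 1237, 198), (1238, 0, 3765, 210), (2025, 0, 1241, 225), (1245, 0, 1541, 216), (1938, 0, 1248, 228), (1761, 0, 3258, 228), (1311, 0, 2794, 198), (3619, 0, 1252, 228), (2565, 0, 1257, 228), (1690, 0, 1885, 210), (2724, 0, 1260, 216), (2312, 0, 2611, 210), (1263, 0, 3664, 216), (1527, 0, 1264, 201), (1265, 0, 1567, 198), (1267, 0, 3153, 216), (1268, 0, 2010, 198), (2537, 0, 1275, 201), (2476, 0, 2831, 228), (2191,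 0, 1809, 201), (3071, 0, 1281, 228), (2273, 0, 1282, 225), (2321, 0, 1385, 210), (2692, 0, 2496, 210), (1711, 0, 1286, 198), (1287, 0, 1398, 228), (1291, 0, 2651, 210), (3375, 0, 1292, 228), (2350, 0, 1293, 201), (1294, 0, 3176, 198), (3736, 0, 1295, 225), (3151, 0, 1887, 225), (1926, 0, 2587, 216), (3770, 0, 2792, 216), (3697, 0, 1304, 210), (3050, 0, 2626, 198), (1417, 0, 1310, 198), (1566, 0, 3439, 201), (1315, 0, 3576, 216), (2363, 0, 2915, 228), (2699, 0, 1321, 225), (1324, 0, 1886, 210), (2580, 0, 1326, 228), (3180, 0, 1329, 216), (2825, 0, 1331, 216), (3210, 0, 2784, 210), (3594, 0, 2408, 216), (1450, 0, 1337, 198), (3164, 0, 1338, 228), (1340, 0, 3165, 201), (2855, 0, 1341, 198), (1676, 0, 2443, 198), (1343, 0, 3214, 201), (3292, 0, 1345, 210), (2340, 0, 1346, 201), (3267, 0, 1347, 228), (2063, 0, 2621, 210), (1459, 0, 2585, 216), (1993, 0, 1354, 201), (1706, 0, 2232, 201), (1360, 0, 3699, 210), (3309, 0, 3156, 201), (1367, 0, 2725, 225), (2247, 0, 1369, 216), (1372, 0, 1612, 228), (1375, 0, 1499, 198),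 (1378, 0, 1770, 225), (1787, 0, 1403, 198), (1905, 0, 1383, 225), (1384, 0, 3154, 216), (3276, 0, 1386, 228), (1465, 0, 3766, 216), (2555, 0, 1391, 228), (1394, 0, 1661, 216), (1396, 0, 3728, 198), (3046, 0, 2823, 225), (1872, 0, 1404, 225), (1895, 0, 1409, 198), (1410, 0, 2444, 198), (1414, 0, 1780, 201), (3315, 0, 1888, 228), (3648, 0, 1416, 216), (3098, 0, 1419, 210), (2257, 0, 1421, 210), (1425, 0, 2774, 228), (2865, 0, 1427, 216), (1954, 0, 1556, 216), (3252, 0, 1433, 198), (1434, 0, 2415, 228), (1435, 0, 3459, 228), (3735, 0, 1436, 198), (1520, 0, 1437, 228), (2914, 0, 2601, 210), (3763, 0, 1446, 228), (2928, 0, 1907, 198), (1454, 0, 2727, 228), (1457, 0, 3322, 225), (1460, 0, 2148, 210), (1461, 0, 2620, 210), (2245, 0, 1462, 201), (2057, 0, 2827, 216), (2505, 0, 1466, 210), (1468, 0, 2417, 210), (3003, 0, 3443, 198), (2229, 0, 1482, 228), (2559, 0, 1992, 216), (2742, 0, 1484, 228), (3073, 0, 1486, 210), (1491, 0, 2940, 225), (1494, 0, 3519, 210), (1495, 0, 2189, 210), (1498, 0, 2763, 198), (1718, 0, 1501,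 228), (1502, 0, 3484, 228), (1634, 0, 2635, 201), (3457, 0, 1508, 216), (2349, 0, 3675, 198), (2305, 0, 1518, 225), (1521, 0, 2098, 225), (1998, 0, 1523, 228), (1525, 0, 3624, 198), (1530, 0, 1586, 198), (1533, 0, 2464, 228), (3683, 0, 2008, 216), (1537, 0, 3015, 228), (1540, 0, 3255, 198), (2297, 0, 1543, 216), (2908, 0, 1689, 228), (3270, 0, 1548, 201), (1550, 0, 2921, 228), (1557, 0, 2439, 216), (2837, 0, 2839, 198), (2043, 0, 1563, 198), (2844, 0, 1565, 210), (1568, 0, 1581, 216), (1572, 0, 3466, 216), (1714, 0, 3269, 210), (1593, 0, 2516, 216), (1577, 0, 3110, 228), (2606, 0, 1696, 198), (2968, 0, 1580, 198), (1584, 0, 2233, 210), (2101, 0, 2925, 228)]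

/-- Steps. -/
def rows18_4 : List (ℕ × ℕ × ℕ × ℕ) := [(1590, 0, 2110, 201), (1943, 0, 1596, 225), (1597, 0, 2668, 225), (2328, 0, 1598, 228), (2709, 0, 2367, 210), (1603, 0, 2666, 198), (3450, 0, 3660, 198), (1932, 0, 1605, 225), (1606, 0, 2997, 198), (2602, 0, 1615, 228), (1617, 0, 3149, 225), (1619, 0, 2162, 210), (1620, 0, 2797, 201), (1623, 0, 1687, 210), (1624, 0, 2523, 198), (2775, 0, 2513, 225), (1627, 0, 2442, 201), (3007, 0, 2721, 201), (3428, 0, 2436, 225), (3536, 0, 1642, 198), (2912, 0, 2252, 210), (2498, 0, 1655, 210), (1883, 0, 1663, 225), (1669, 0, 3724, 210), (1673, 0, 2923, 228), (1677, 0, 1716, 210), (1686, 0, 2991, 216), (1692, 0, 1833, 228), (1842, 0, 2858, 210), (2088, 0, 1697, 198), (1701, 0, 3432, 201), (1702, 0, 3121, 225), (3275, 0, 1703, 225), (2485, 0, 1705, 225), (2693, 0, 3263, 201), (2141, 0, 2171, 225), (3497, 0, 1930, 201), (2525, 0, 1715, 216), (3761, 0, 2924, 201), (2478, 0, 1721, 210), (1965, 0, 2671, 198), (2860, 0, 1819, 225), (1990, 0, 1726, 228), (1730, 0, 3760, 228), (1838,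 0, 3681, 210), (1733, 0, 1973, 201), (3290, 0, 2979, 210), (1736, 0, 3574, 201), (2314, 0, 1740, 216), (3438, 0, 1775, 225), (3772, 0, 1749, 225), (2678, 0, 1987, 225), (3714, 0, 1756, 216), (1760, 0, 2760, 201), (1766, 0, 1776, 198), (3334, 0, 3415, 198), (1771, 0, 2524, 210), (1777, 0, 1821, 225), (2711, 0, 1778, 198), (2661, 0, 1784, 198), (3077, 0, 1788, 201), (1791, 0, 2295, 225), (3031, 0, 1793, 216), (2798, 0, 3103, 210), (1802, 0, 3371, 216), (1807, 0, 2079, 198), (2737, 0, 1812, 228), (2690, 0, 1816, 216), (1959, 0, 1823, 225), (2344, 0, 3659, 201), (2149, 0, 1834, 225), (1836, 0, 3213, 225), (3234, 0, 3531, 198), (1839, 0, 2913, 198), (3524, 0, 1845, 198), (3614, 0, 2662, 210), (2871, 0, 3692, 198), (1859, 0, 3293, 225), (2982, 0, 2603, 201), (3544, 0, 1861, 228), (3187, 0, 3503, 225), (1967, 0, 2547, 198), (1873, 0, 3313, 210), (1875, 0, 3546, 216), (2688, 0, 2674, 225), (2038, 0, 3202, 198), (3611, 0, 1898, 228), (1900, 0, 2331, 228), (1908, 0, 2683, 216), (3402, 0, 1910, 201), (3200, 0, 1917, 216),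 (2251, 0, 1921, 216), (2812, 0, 3421, 225), (2722, 0, 3779, 198), (3059, 0, 1936, 225), (2145, 0, 1940, 216), (3163, 0, 2259, 225), (1944, 0, 3215, 201), (2810, 0, 1948, 198), (2885, 0, 2978, 216), (2118, 0, 3682, 198), (2856, 0, 1961, 198), (1962, 0, 3087, 201), (1964, 0, 3580, 210), (1966, 0, 2448, 198), (3747, 0, 3148, 210), (1969, 0, 2192, 201), (3055, 0, 2170, 228), (1975, 0, 3359, 201), (1981, 0, 2023, 228), (1984, 0, 3221, 228), (2393, 0, 1991, 225), (2830, 0, 2458, 225), (1999, 0, 3175, 201), (3731, 0, 2939, 228), (3642, 0, 2579, 198), (2188, 0, 3604, 201), (3094, 0, 2570, 225), (3248, 0, 2019, 216), (2207, 0, 2554, 216), (3238, 0, 2031, 225), (3047, 0, 2032, 228), (2927, 0, 2034, 201), (2732, 0, 2766, 198), (2117, 0, 2963, 225), (3097, 0, 2045, 201), (3119, 0, 2046, 228), (2049, 0, 2220, 198), (2052, 0, 2970, 216), (3430, 0, 3126, 198), (2238, 0, 2181, 225), (2533, 0, 2068, 210), (3041, 0, 3658, 198), (2489, 0, 2074, 198), (2103, 0, 3300, 201), (2684, 0, 2076, 210), (3741, 0, 3423, 210), (2081, 0, 3404,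 210), (2622, 0, 2218, 216), (3396, 0, 2113, 201), (2093, 0, 2180, 198), (2477, 0, 2719, 201), (3408, 0, 2097, 216), (2731, 0, 3559, 198), (2105, 0, 3159, 225), (2267, 0, 2107, 228), (3651, 0, 2114, 210), (3661, 0, 2517, 210), (3586, 0, 2121, 228), (2125, 0, 2536, 210), (3507, 0, 2129, 201), (3138, 0, 2469, 198), (3228, 0, 2919, 228), (2398, 0, 2828, 225), (3105, 0, 2147, 216), (3505, 0, 2568, 216), (2151, 0, 3096, 216), (2685, 0, 2156, 216), (2745, 0, 2160, 198), (3414, 0, 2165, 225), (2650, 0, 2172, 228), (3694, 0, 2173, 216), (3441, 0, 2177, 198), (3737, 0, 2185, 210), (2681, 0, 2205, 216), (3249, 0, 2206, 228), (2210, 0, 2749, 228), (2211, 0, 2216, 216), (2388, 0, 2213, 225), (3655, 0, 3696, 216), (2504, 0, 3776, 210), (2644, 0, 3768, 216), (2236, 0, 3485, 228), (2237, 0, 3037, 201), (3733, 0, 2907, 201), (2241, 0, 3240, 216), (2260, 0, 3162, 225), (2263, 0, 2389, 228), (2852, 0, 2266, 198), (2274, 0, 3501, 225), (2289, 0, 2522, 210), (3522, 0, 2399, 228), (3543, 0, 3310, 225), (2311, 0, 3034, 228), (2317,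 0, 2375, 210), (2318, 0, 3473, 210), (2337, 0, 3144, 201), (3323, 0, 3022, 198), (2378, 0, 2790, 225), (3502, 0, 3262, 201), (2583, 0, 2550, 210), (2361, 0, 2728, 210), (2546, 0, 2759, 210), (2372, 0, 3529, 210), (3242, 0, 2376, 216), (3569, 0, 2382, 225), (2383, 0, 2879, 228), (3188, 0, 2527, 201), (2391, 0, 3575, 201), (2401, 0, 2696, 216), (3028, 0, 3257, 210), (2413, 0, 3367, 216), (2421, 0, 2653, 225), (2980, 0, 3084, 198), (3425, 0, 2454, 201), (3744, 0, 2695, 210), (3762, 0, 3560, 198), (3357, 0, 2468, 201), (2471, 0, 3069, 216), (2473, 0, 2734, 201), (2481, 0, 3328, 228), (2875, 0, 2495, 216), (2506, 0, 3715, 201), (2531, 0, 3335, 216), (2538, 0, 2609, 216), (3567, 0, 3016, 201), (2811, 0, 3231, 228), (2575, 0, 2892, 225), (2589, 0, 3386, 210), (3061, 0, 2591, 210), (2597, 0, 3727, 201), (2743, 0, 3232, 201), (2700, 0, 2633, 198), (3442, 0, 2638, 228), (3753, 0, 2659, 210), (3181, 0, 2665, 225), (3239, 0, 3083, 210), (2680, 0, 3377, 201), (3590, 0, 3552, 216), (3666, 0, 2953, 210), (2704, 0, 3222, 225),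 (3079, 0, 2705, 201), (2706, 0, 3127, 210), (3750, 0, 2733, 210), (3135, 0, 2736, 201), (2750, 0, 3643, 198), (3000, 0, 2776, 225), (3636, 0, 3566, 216), (3424, 0, 2835, 216), (2846, 0, 3629, 198), (3169, 0, 2864, 210), (2866, 0, 3243, 216), (3251, 0, 2873, 210), (3535, 0, 2883, 228), (2893, 0, 3333, 210), (3654, 0, 3542, 210), (3509, 0, 2949, 216), (3422, 0, 3486, 225), (2960, 0, 3247, 201), (3691, 0, 2974, 228)]

/-- Steps. -/
def rows18_5 : List (ℕ × ℕ × ℕ × ℕ) := [(3700, 0, 2984, 225), (3283, 0, 3537, 210), (3363, 0, 3035, 198), (3365, 0, 3585, 216), (3207, 0, 3710, 216), (3256, 0, 3329, 201), (3397, 0, 3455, 228), (3406, 0, 3512, 216), (3562, 0, 3677, 210), (3593, 0, 3732, 210), (573, 0, 1, 225), (2, 0, 838, 216), (207, 0, 3226, 201), (4, 0, 2132, 201), (787, 0, 3561, 210), (6, 0, 1057, 228), (2280, 0, 7, 216), (983, 0, 8, 210), (1050, 0, 641, 201), (3391, 0, 11, 216), (12, 0, 1355, 210), (2096, 0, 13, 201), (2397, 0, 996, 225), (15, 0, 2619, 225), (1542, 0, 701, 216), (3671, 0, 18, 228), (1659, 0, 19, 216),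 (20, 0, 419, 210), (2998, 0, 21, 225), (1162, 0, 836, 210), (71, 0, 1108, 228), (24, 0, 3726, 225), (25, 0, 3427, 228), (26, 0, 2012, 198), (1797, 0, 27, 216), (28, 0, 1914, 201), (29, 0, 1717, 201), (1654, 0, 30, 225), (31, 0, 1743, 201), (1720, 0, 32, 210), (33, 0, 2131, 201), (3570, 0, 3549, 210), (500, 0, 35, 228), (970, 0, 1668, 210), (335, 0, 37, 216), (481, 0, 2306, 228), (1167, 0, 39, 216), (1897, 0, 3597, 201), (41, 0, 1327, 228), (2095, 0, 42, 210), (2437, 0, 2718, 228), (1547, 0, 3250, 228), (936, 0, 473, 225), (561, 0, 2015, 198), (2530, 0, 47, 225), (1803, 0, 621, 216), (2278, 0, 49, 228), (50, 0, 3212, 228), (2532, 0, 1348, 216), (3331, 0, 2426, 201), (53, 0, 802, 198), (3403, 0, 2223, 198), (661, 0, 316, 210), (746, 0, 3184, 225), (57, 0, 1831, 216), (1972, 0, 2747, 225), (3179, 0, 59, 198), (60, 0, 3056, 225), (61, 0, 2987, 201), (1656, 0, 62, 198), (2581, 0, 63, 198), (64, 0, 2460, 228), (65, 0, 2881, 198), (1698, 0, 2332, 201), (2128, 0, 3468, 210), (447, 0, 68, 216), (883, 0, 69, 216), (443,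 0, 1069, 225), (2612, 0, 2562, 228), (958, 0, 73, 198), (1820, 0, 74, 225), (75, 0, 3488, 210), (76, 0, 2595, 198), (77, 0, 1896, 210), (3125, 0, 78, 210), (1505, 0, 79, 225), (593, 0, 80, 228), (2959, 0, 81, 228), (82, 0, 2296, 210), (2341, 0, 1665, 198), (84, 0, 1079, 225), (1963, 0, 85, 210), (155, 0, 1487, 225), (87, 0, 1240, 198), (88, 0, 2228, 228), (1870, 0, 89, 225), (314, 0, 908, 210), (91, 0, 1978, 216), (874, 0, 1456, 198), (730, 0, 93, 198), (862, 0, 94, 198), (916, 0, 2438, 201), (2995, 0, 2298, 210), (2336, 0, 1503, 198), (3399, 0, 2829, 216), (100, 0, 2771, 210), (1630, 0, 101, 201), (2738, 0, 449, 216), (1033, 0, 3376, 210), (2486, 0, 104, 201), (1300, 0, 3511, 225), (106, 0, 3109, 216), (986, 0, 107, 210), (108, 0, 1729, 216), (2234, 0, 109, 216), (110, 0, 1418, 210), (111, 0, 1534, 225), (112, 0, 268, 216), (1960, 0, 113, 228), (114, 0, 749, 216), (115, 0, 263, 228), (1637, 0, 116, 225), (117, 0, 2996, 198), (2800, 0, 118, 198), (1247, 0, 739, 210), (120, 0, 1104, 216), (1748, 0, 121, 216),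 (122, 0, 3551, 198), (702, 0, 386, 228), (2146, 0, 124, 210), (1588, 0, 125, 228), (887, 0, 126, 228), (2594, 0, 127, 216), (128, 0, 2926, 225), (129, 0, 1447, 228), (740, 0, 2935, 201), (653, 0, 1515, 228), (132, 0, 894, 228), (3413, 0, 2288, 228), (1852, 0, 651, 225), (1148, 0, 135, 198), (827, 0, 136, 198), (3349, 0, 334, 201), (219, 0, 138, 210), (3478, 0, 139, 201), (140, 0, 3598, 198), (141, 0, 3374, 201), (1783, 0, 142, 216), (529, 0, 143, 228), (144, 0, 3752, 210), (2648, 0, 398, 201), (146, 0, 1890, 198), (472, 0, 147, 210), (148, 0, 2316, 210), (149, 0, 828, 198), (150, 0, 1949, 225), (151, 0, 3085, 228), (153, 0, 937, 201), (591, 0, 796, 210), (879, 0, 1139, 225), (2091, 0, 159, 201), (969, 0, 3113, 216), (161, 0, 3373, 228), (1137, 0, 162, 225), (885, 0, 163, 210), (164, 0, 1387, 216), (2656, 0, 165, 225), (166, 0, 1647, 216), (1976, 0, 448, 216), (3266, 0, 168, 216), (846, 0, 169, 210), (3198, 0, 170, 228), (171, 0, 3764, 198), (2558, 0, 819, 225), (1652, 0, 3461, 198), (961, 0, 1155, 198), (3538,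 0, 175, 225), (176, 0, 346, 225), (177, 0, 2967, 210), (2457, 0, 178, 216), (3049, 0, 179, 216), (180, 0, 1269, 198), (181, 0, 236, 198), (3030, 0, 182, 225), (1683, 0, 183, 216), (2777, 0, 1879, 198), (3062, 0, 2035, 201), (271, 0, 343, 198), (2204, 0, 2390, 198), (2153, 0, 1653, 225), (1123, 0, 189, 201), (190, 0, 2452, 198), (3383, 0, 191, 216), (3573, 0, 233, 216), (193, 0, 366, 228), (194, 0, 2966, 210), (2682, 0, 3489, 201), (196, 0, 863, 225), (197, 0, 1381, 216), (1122, 0, 198, 216), (492, 0, 199, 216), (200, 0, 2445, 216), (201, 0, 3769, 216), (2396, 0, 1645, 201), (549, 0, 2702, 198), (2770, 0, 2637, 228), (3364, 0, 205, 210), (206, 0, 2663, 198), (208, 0, 2942, 201), (1800, 0, 209, 225), (633, 0, 210, 216), (211, 0, 1013, 225), (1251, 0, 212, 216), (1184, 0, 213, 201), (563, 0, 214, 201), (3465, 0, 215, 216), (1904, 0, 1116, 198), (1995, 0, 217, 216), (2639, 0, 218, 210), (873, 0, 3482, 228), (1613, 0, 813, 225), (3039, 0, 222, 198), (223, 0, 1643, 201), (224, 0, 3508, 210), (225, 0, 1455, 210), (1224,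 0, 226, 228), (227, 0, 1564, 228), (228, 0, 352, 216), (229, 0, 1227, 225), (3045, 0, 897, 201), (2036, 0, 1750, 201), (232, 0, 478, 201), (234, 0, 2138, 201), (235, 0, 1551, 198), (237, 0, 3405, 228), (686, 0, 1169, 201), (1933, 0, 239, 225), (240, 0, 1815, 201), (1181, 0, 241, 228), (3174, 0, 2250, 216), (1036, 0, 243, 198), (244, 0, 1473, 225), (1408, 0, 246, 198), (977, 0, 2395, 216), (1172, 0, 3600, 201), (1631, 0, 3644, 216), (843, 0, 251, 216), (2548, 0, 1559, 216), (3209, 0, 1648, 228), (1091, 0, 1608, 225)]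

/-- Steps. -/
def rows18_6 : List (ℕ × ℕ × ℕ × ℕ) := [(2203, 0, 1922, 228), (256, 0, 1952, 225), (257, 0, 2039, 210), (258, 0, 3718, 225), (3027, 0, 859, 225), (2545, 0, 261, 201), (264, 0, 756, 225), (1201, 0, 1256, 216), (266, 0, 3319, 216), (3044, 0, 267, 228), (3233, 0, 269, 216), (270, 0, 2647, 198), (1423, 0, 272, 228), (273, 0, 1308, 228), (3273, 0, 274, 198), (674, 0, 3099, 228), (667, 0, 276, 225), (277, 0, 2050, 201), (1397, 0, 278, 228), (1680, 0, 2508, 228), (3447, 0, 280, 225), (689, 0, 282, 225), (925, 0, 3756, 201), (284, 0, 1622, 216), (425, 0, 285, 228), (1117, 0, 1119, 225), (287, 0, 875, 225), (394, 0, 325, 201), (3492, 0, 1625, 216), (290, 0, 2888, 210), (291, 0, 848, 201), (3579, 0, 292, 228), (1618, 0, 1149, 210), (294, 0, 721, 210), (3409, 0, 295, 210), (1691, 0, 2918, 210), (297, 0, 1632, 198), (298, 0, 1512, 201), (299, 0, 1707, 225), (300, 0, 2198, 198), (408, 0, 301, 201), (1144, 0, 1587, 225), (834, 0, 1773, 216), (389, 0, 305, 216), (660, 0, 306, 198), (2484, 0, 308, 216), (1977,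 0, 309, 210), (2615, 0, 310, 201), (311, 0, 2262, 210), (2679, 0, 1082, 198), (2487, 0, 360, 198), (3244, 0, 1611, 198), (2024, 0, 2670, 228), (318, 0, 3520, 198), (319, 0, 2768, 228), (1728, 0, 320, 198), (2492, 0, 321, 228), (2652, 0, 1333, 228), (1432, 0, 690, 201), (989, 0, 3469, 198), (3713, 0, 1115, 210), (1808, 0, 2857, 225), (329, 0, 3131, 210), (330, 0, 2242, 198), (332, 0, 1176, 225), (2586, 0, 336, 225), (2816, 0, 337, 201), (338, 0, 3042, 198), (1246, 0, 1506, 225), (340, 0, 3120, 210), (461, 0, 341, 201), (1704, 0, 2535, 225), (344, 0, 1244, 201), (1266, 0, 1411, 201), (347, 0, 2195, 210), (1476, 0, 1233, 201), (3302, 0, 349, 198), (350, 0, 2796, 228), (351, 0, 2358, 216), (2610, 0, 353, 228), (631, 0, 354, 228), (355, 0, 3444, 228), (1579, 0, 357, 228), (358, 0, 816, 198), (1034, 0, 359, 198), (361, 0, 3227, 201), (1186, 0, 363, 228), (1422, 0, 2466, 216), (407, 0, 3318, 225), (367, 0, 3168, 201), (368, 0, 700, 210), (369, 0, 604, 201), (1906, 0, 3608, 201), (372, 0, 833, 228), (373, 0, 3346, 225),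 (374, 0, 405, 198), (1068, 0, 1856, 210), (376, 0, 832, 228), (377, 0, 2326, 201), (1055, 0, 2152, 198), (3191, 0, 379, 225), (380, 0, 1271, 225), (3277, 0, 3592, 198), (416, 0, 456, 198), (383, 0, 1994, 210), (2802, 0, 3340, 201), (2055, 0, 3628, 210), (3090, 0, 1849, 210), (1205, 0, 388, 198), (3284, 0, 390, 228), (391, 0, 1693, 201), (1742, 0, 393, 228), (1902, 0, 395, 225), (396, 0, 2673, 225), (2624, 0, 397, 225), (399, 0, 1146, 216), (1407, 0, 400, 225), (401, 0, 3170, 210), (687, 0, 402, 210), (1009, 0, 1081, 198), (404, 0, 2826, 228), (913, 0, 2482, 216), (409, 0, 3108, 225), (1063, 0, 2509, 228), (3066, 0, 411, 198), (1806, 0, 412, 225), (413, 0, 1599, 201), (2313, 0, 1946, 228), (415, 0, 2104, 216), (2569, 0, 417, 216), (418, 0, 1679, 228), (422, 0, 610, 225), (423, 0, 596, 210), (1789, 0, 424, 210), (2952, 0, 3260, 225), (427, 0, 2411, 198), (1458, 0, 3758, 228), (2576, 0, 429, 210), (2845, 0, 1357, 210), (431, 0, 2582, 198), (2327, 0, 432, 216), (3192, 0, 433, 198), (3306, 0, 532, 216), (765, 0, 2143,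 228), (3158, 0, 1747, 210), (3533, 0, 438, 210), (2381, 0, 1471, 225), (440, 0, 1574, 228), (442, 0, 3631, 216), (858, 0, 1864, 210), (445, 0, 3458, 198), (3136, 0, 446, 201), (450, 0, 1538, 225), (451, 0, 3217, 198), (453, 0, 1781, 201), (454, 0, 967, 201), (455, 0, 3632, 225), (457, 0, 3023, 201), (1040, 0, 458, 225), (2169, 0, 459, 210), (460, 0, 2862, 210), (1684, 0, 1825, 198), (1426, 0, 1438, 216), (464, 0, 1379, 216), (724, 0, 3303, 198), (1795, 0, 466, 201), (1912, 0, 467, 210), (2418, 0, 468, 228), (3183, 0, 3384, 228), (3305, 0, 470, 228), (2618, 0, 471, 228), (3316, 0, 475, 210), (2217, 0, 476, 228), (991, 0, 877, 201), (2168, 0, 479, 198), (3264, 0, 1158, 210), (1768, 0, 482, 225), (483, 0, 1226, 225), (719, 0, 484, 228), (3581, 0, 2809, 228), (798, 0, 486, 216), (487, 0, 3410, 198), (1532, 0, 488, 201), (2342, 0, 489, 228), (2087, 0, 3787, 198), (491, 0, 2757, 210), (3378, 0, 493, 216), (495, 0, 1470, 201), (496, 0, 3539, 198), (497, 0, 1712, 225), (498, 0, 2552, 216), (942, 0, 2451, 228), (564,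 0, 2123, 198), (503, 0, 1552, 198), (1745, 0, 753, 228), (1882, 0, 505, 210), (1312, 0, 506, 225), (800, 0, 2687, 216), (2227, 0, 791, 198), (2139, 0, 1072, 216), (511, 0, 3057, 225), (1089, 0, 512, 228), (513, 0, 788, 216), (514, 0, 1497, 228), (2726, 0, 1209, 201), (2899, 0, 2904, 225), (3460, 0, 517, 225), (2124, 0, 518, 201), (3690, 0, 1451, 225), (1835, 0, 520, 210), (524, 0, 2956, 228), (525, 0, 783, 228), (528, 0, 1213, 216), (2364, 0, 3740, 228), (2936, 0, 533, 201), (3759, 0, 2786, 201), (3321, 0, 535, 216), (3506, 0, 536, 228), (537, 0, 580, 228), (539, 0, 3547, 216), (994, 0, 1027, 228), (541, 0, 1853, 228), (542, 0, 2059, 225), (543, 0, 2905, 216), (837, 0, 544, 225), (3637, 0, 763, 198), (3398, 0, 2799, 210), (888, 0, 548, 210), (550, 0, 2136, 225), (551, 0, 2605, 216), (552, 0, 3038, 228), (2849, 0, 1106, 210), (1843, 0, 554, 216), (555, 0, 1362, 216), (664, 0, 556, 210), (3196, 0, 557, 198), (1628, 0, 2380, 210), (1299, 0, 3633, 210), (2753, 0, 1390, 228), (2551, 0, 3123, 210), (567, 0, 3704, 210),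 (3311, 0, 568, 210), (569, 0, 2756, 216), (570, 0, 575, 228), (1979, 0, 2528, 198), (1420, 0, 1851, 228), (574, 0, 1846, 216), (577, 0, 1376, 225), (589, 0, 578, 210), (2793, 0, 579, 216)]

/-- Steps. -/
def rows18_7 : List (ℕ × ℕ × ℕ × ℕ) := [(3663, 0, 582, 201), (583, 0, 2402, 228), (3587, 0, 2423, 201), (3685, 0, 2253, 225), (697, 0, 586, 216), (1405, 0, 3011, 198), (812, 0, 588, 210), (590, 0, 699, 228), (2869, 0, 2819, 225), (2698, 0, 594, 201), (1774, 0, 595, 225), (2430, 0, 1798, 216), (1192, 0, 1452, 216), (1129, 0, 599, 225), (600, 0, 2362, 201), (2870, 0, 601, 210), (602, 0, 3476, 198), (3005, 0, 603, 216), (606, 0, 3220, 198), (1880, 0, 1847, 201), (608, 0, 2803, 198), (2243, 0, 609, 198), (1358, 0, 611, 201), (612, 0, 2965, 210), (1230, 0, 1591, 216), (1935, 0, 3433, 198), (615, 0, 1440, 228), (3089, 0, 616, 210), (617, 0, 2497, 198), (1931, 0, 2021, 201), (2773, 0, 712, 225), (3568, 0, 1163, 228), (3026, 0, 1166, 228), (2086, 0, 623, 225), (1080, 0, 624, 228), (2209, 0, 2009, 216), (626, 0, 2571,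 201), (2701, 0, 627, 198), (628, 0, 3325, 228), (1105, 0, 2450, 225), (3472, 0, 632, 216), (2808, 0, 634, 228), (2931, 0, 635, 228), (2404, 0, 2715, 216), (2986, 0, 639, 198), (2969, 0, 2066, 225), (3792, 0, 642, 201), (2805, 0, 1782, 201), (644, 0, 886, 228), (645, 0, 2813, 228), (646, 0, 2293, 210), (762, 0, 2212, 210), (2365, 0, 650, 225), (3025, 0, 652, 228), (1475, 0, 654, 216), (3789, 0, 657, 228), (2051, 0, 662, 216), (1670, 0, 663, 198), (665, 0, 3360, 198), (2989, 0, 3389, 216), (3491, 0, 1493, 201), (2048, 0, 3564, 201), (1273, 0, 670, 228), (1366, 0, 1373, 198), (811, 0, 672, 198), (775, 0, 673, 228), (729, 0, 2850, 198), (2359, 0, 676, 201), (677, 0, 3330, 198), (1818, 0, 678, 210), (1183, 0, 2324, 201), (2988, 0, 3282, 225), (1088, 0, 2006, 228), (682, 0, 2056, 201), (2403, 0, 683, 225), (2499, 0, 684, 210), (685, 0, 3295, 210), (688, 0, 2235, 225), (2333, 0, 1826, 228), (692, 0, 950, 198), (1675, 0, 693, 201), (695, 0, 1485, 210), (3470, 0, 698, 225), (1504, 0, 1014, 201), (1539, 0, 706, 228), (1772,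 0, 1759, 228), (945, 0, 2943, 216), (709, 0, 2197, 216), (710, 0, 1695, 210), (1810, 0, 713, 201), (890, 0, 1863, 225), (3532, 0, 3380, 201), (717, 0, 2255, 228), (1672, 0, 718, 198), (2787, 0, 963, 225), (3296, 0, 723, 201), (725, 0, 1070, 216), (726, 0, 2821, 228), (757, 0, 2788, 210), (2176, 0, 2271, 228), (1133, 0, 1189, 216), (1401, 0, 734, 216), (3361, 0, 736, 210), (1699, 0, 1881, 210), (3739, 0, 1000, 228), (3032, 0, 2514, 198), (2590, 0, 1840, 225), (2472, 0, 3353, 225), (3297, 0, 3453, 225), (3189, 0, 3680, 210), (750, 0, 2159, 216), (751, 0, 1909, 198), (3019, 0, 2781, 216), (3572, 0, 3617, 198), (784, 0, 755, 210), (758, 0, 1546, 198), (3155, 0, 759, 198), (1492, 0, 760, 216), (2085, 0, 761, 228), (2521, 0, 3475, 198), (2902, 0, 767, 198), (1325, 0, 3665, 216), (2265, 0, 1231, 201), (770, 0, 1751, 210), (771, 0, 1758, 201), (3583, 0, 3308, 210), (899, 0, 778, 225), (779, 0, 1022, 228), (3757, 0, 954, 210), (781, 0, 2916, 228), (785, 0, 3288, 210), (789, 0, 3093, 198), (3385, 0, 3767, 198), (793, 0,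 3729, 216), (1526, 0, 794, 201), (2872, 0, 795, 201), (918, 0, 797, 225), (1609, 0, 1039, 198), (864, 0, 3345, 198), (2369, 0, 805, 225), (1377, 0, 1554, 201), (1555, 0, 807, 216), (3064, 0, 808, 216), (1892, 0, 809, 225), (909, 0, 1332, 216), (1071, 0, 1363, 201), (1035, 0, 3281, 201), (818, 0, 2628, 210), (1480, 0, 2158, 225), (1448, 0, 2896, 210), (1876, 0, 822, 228), (3172, 0, 1927, 201), (1891, 0, 824, 201), (825, 0, 2193, 228), (826, 0, 2867, 198), (829, 0, 2490, 225), (830, 0, 3054, 198), (831, 0, 3086, 225), (835, 0, 1289, 216), (3152, 0, 839, 216), (840, 0, 3749, 210), (2815, 0, 841, 225), (842, 0, 2807, 225), (844, 0, 2323, 210), (845, 0, 3194, 225), (2004, 0, 850, 198), (851, 0, 1024, 225), (1023, 0, 852, 201), (853, 0, 2231, 225), (928, 0, 854, 210), (2588, 0, 855, 198), (856, 0, 2041, 198), (2657, 0, 860, 201), (3411, 0, 861, 201), (3695, 0, 865, 210), (1297, 0, 866, 225), (2898, 0, 3122, 228), (2540, 0, 869, 216), (870, 0, 1349, 201), (3673, 0, 3320, 201), (2405, 0, 872, 198), (1344, 0, 876, 216),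 (1284, 0, 878, 210), (1145, 0, 880, 201), (881, 0, 1658, 216), (3781, 0, 882, 216), (2578, 0, 2515, 201), (1339, 0, 892, 210), (893, 0, 3434, 228), (896, 0, 3742, 198), (3496, 0, 898, 198), (900, 0, 2214, 228), (902, 0, 3253, 228), (904, 0, 2106, 198), (3557, 0, 905, 228), (3634, 0, 906, 210), (2126, 0, 907, 198), (3186, 0, 1828, 225), (3225, 0, 911, 210), (3218, 0, 912, 210), (2634, 0, 3498, 198), (1406, 0, 919, 216), (921, 0, 2859, 228), (926, 0, 2878, 210), (3204, 0, 927, 228), (3449, 0, 2985, 210), (2377, 0, 2491, 201), (2640, 0, 931, 201), (932, 0, 975, 198), (933, 0, 3517, 210), (935, 0, 2394, 225), (3280, 0, 938, 198), (1544, 0, 3291, 201), (3101, 0, 3336, 228), (941, 0, 3717, 201), (944, 0, 3738, 198), (946, 0, 1830, 201), (948, 0, 1553, 228), (2427, 0, 3171, 201), (1722, 0, 952, 201), (1757, 0, 1913, 201), (2014, 0, 960, 210), (2934, 0, 1318, 216), (2493, 0, 965, 210), (966, 0, 2279, 225), (2614, 0, 1657, 210), (1589, 0, 971, 228), (972, 0, 3464, 210), (3132, 0, 973, 198), (2593, 0, 2330, 225), (1359,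 0, 3167, 225), (978, 0, 3609, 225), (2409, 0, 979, 216), (2215, 0, 3051, 225), (981, 0, 2385, 216), (3390, 0, 984, 216), (2003, 0, 3480, 225), (2783, 0, 987, 210), (988, 0, 3013, 198), (1916, 0, 3494, 198), (1151, 0, 1929, 228), (997, 0, 3211, 198), (2244, 0, 999, 210), (1001, 0, 3081, 216), (2833, 0, 1531, 201), (2630, 0, 1003, 228), (3530, 0, 1004, 210), (1005, 0, 3298, 216), (1006, 0, 3143, 201), (1007, 0, 2975, 198)]

/-- Steps. -/
def rows18_8 : List (ℕ × ℕ × ℕ × ℕ) := [(1047, 0, 1008, 201), (1867, 0, 3706, 228), (2406, 0, 1012, 210), (1270, 0, 3392, 216), (1141, 0, 1785, 201), (3647, 0, 1185, 210), (1444, 0, 2676, 216), (1801, 0, 1019, 198), (2431, 0, 1020, 228), (2000, 0, 1660, 228), (1500, 0, 3012, 225), (1028, 0, 3014, 198), (2018, 0, 2764, 201), (1666, 0, 1030, 228), (3182, 0, 1443, 228), (1032, 0, 1610, 198), (2355, 0, 2874, 198), (2174, 0, 3678, 216), (3490, 0, 1041, 228), (1393, 0, 1042, 216), (3467, 0, 1043, 210), (1739, 0, 3350, 216), (3278, 0, 1045, 216), (1254, 0, 1048, 225), (2632, 0, 3688,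 216), (3401, 0, 1051, 228), (3702, 0, 2354, 225), (3216, 0, 2744, 228), (1056, 0, 2226, 225), (1059, 0, 2282, 210), (1060, 0, 1431, 201), (2027, 0, 2325, 228), (2463, 0, 1065, 201), (2894, 0, 1067, 228), (2713, 0, 1073, 198), (3130, 0, 1074, 210), (1075, 0, 3526, 210), (1076, 0, 3387, 210), (1153, 0, 1077, 198), (2944, 0, 1078, 228), (3676, 0, 1084, 201), (1985, 0, 1190, 210), (1086, 0, 3400, 225), (1090, 0, 3516, 201), (1092, 0, 2886, 201), (3650, 0, 1093, 225), (1633, 0, 1094, 228), (1095, 0, 2976, 201), (1096, 0, 1334, 198), (1097, 0, 2669, 216), (1098, 0, 1157, 210), (2707, 0, 1099, 216), (1100, 0, 2135, 210), (1323, 0, 1101, 225), (3456, 0, 1844, 225), (1103, 0, 1925, 201), (1945, 0, 1107, 216), (1109, 0, 1971, 201), (3599, 0, 2994, 228), (1111, 0, 1769, 225), (2030, 0, 2286, 201), (2224, 0, 1114, 210), (3499, 0, 1118, 225), (1829, 0, 1120, 201), (2642, 0, 2945, 210), (1614, 0, 1125, 198), (2780, 0, 1126, 225), (3419, 0, 1128, 216), (2047, 0, 1130, 198), (1132, 0, 3521, 216), (2922, 0, 2475, 201), (2973,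 0, 1135, 201), (2697, 0, 1136, 225), (2832, 0, 1138, 228), (1140, 0, 3070, 198), (1142, 0, 3001, 210), (1576, 0, 1147, 228), (1152, 0, 2483, 210), (1154, 0, 1196, 201), (1320, 0, 1156, 201), (2672, 0, 2946, 210), (1607, 0, 1274, 210), (2502, 0, 1161, 228), (3142, 0, 1164, 216), (1165, 0, 2196, 216), (2268, 0, 1302, 210), (2119, 0, 1488, 216), (3307, 0, 1174, 225), (2854, 0, 2374, 225), (2510, 0, 1178, 216), (3786, 0, 1179, 198), (2447, 0, 1402, 228), (2322, 0, 3440, 198), (1374, 0, 1191, 225), (2710, 0, 1193, 198), (3017, 0, 1195, 198), (3746, 0, 1197, 225), (3615, 0, 1200, 198), (1202, 0, 2654, 210), (1203, 0, 3040, 228), (3616, 0, 1204, 201), (1207, 0, 1592, 198), (3777, 0, 1210, 210), (2957, 0, 2712, 201), (1215, 0, 3471, 201), (1216, 0, 1481, 201), (3712, 0, 3605, 216), (2184, 0, 2080, 210), (3223, 0, 1221, 225), (1222, 0, 1805, 225), (3623, 0, 3118, 198), (1225, 0, 3018, 225), (1583, 0, 3117, 228), (1232, 0, 1522, 225), (3224, 0, 1234, 198), (3556, 0, 1235, 210), (2613, 0, 3528, 210), (1237, 0, 1472, 198),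 (3765, 0, 1317, 228), (1241, 0, 2636, 228), (1541, 0, 2200, 201), (1248, 0, 2073, 201), (3258, 0, 1249, 210), (2794, 0, 1250, 210), (1252, 0, 1918, 216), (1257, 0, 2070, 216), (1885, 0, 1258, 201), (1260, 0, 2414, 201), (2611, 0, 1262, 210), (3664, 0, 2566, 216), (1264, 0, 1306, 225), (1567, 0, 3366, 198), (3153, 0, 2301, 198), (2010, 0, 2708, 216), (1275, 0, 2272, 228), (2831, 0, 1276, 201), (1809, 0, 1279, 225), (1281, 0, 2920, 210), (1282, 0, 3716, 216), (1385, 0, 1283, 216), (2496, 0, 1285, 201), (1286, 0, 1467, 210), (1398, 0, 3393, 216), (2651, 0, 3332, 225), (1292, 0, 2089, 201), (1293, 0, 2254, 216), (3176, 0, 1529, 198), (1295, 0, 2011, 216), (1887, 0, 1296, 216), (2587, 0, 1298, 216), (2792, 0, 1303, 228), (1304, 0, 3719, 201), (2626, 0, 1305, 225), (1310, 0, 2440, 225), (3439, 0, 1314, 210), (3576, 0, 3286, 210), (2915, 0, 1316, 198), (1321, 0, 3063, 216), (1886, 0, 1700, 225), (1326, 0, 3068, 216), (1329, 0, 2740, 216), (1331, 0, 3495, 216), (2784, 0, 1335, 201), (2408, 0, 1336, 201), (1337, 0, 1869,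 225), (1338, 0, 3748, 210), (3165, 0, 1382, 198), (1341, 0, 3115, 201), (2443, 0, 1342, 210), (3214, 0, 2557, 198), (1345, 0, 2910, 225), (1346, 0, 2294, 225), (1347, 0, 2339, 210), (2621, 0, 1351, 228), (2585, 0, 1352, 210), (1354, 0, 1980, 228), (2232, 0, 1356, 228), (3699, 0, 1986, 201), (3156, 0, 1361, 198), (2725, 0, 3778, 210), (1369, 0, 2577, 198), (1612, 0, 3641, 198), (1499, 0, 3065, 210), (1770, 0, 2480, 216), (1403, 0, 1380, 201), (1383, 0, 3344, 198), (3154, 0, 1738, 228), (1386, 0, 2320, 198), (3766, 0, 1389, 210), (1391, 0, 3431, 210), (1661, 0, 3205, 216), (3728, 0, 3150, 225), (2823, 0, 1399, 228), (1404, 0, 2351, 210), (1409, 0, 3445, 216), (2444, 0, 1514, 201), (1780, 0, 1496, 210), (1888, 0, 1415, 201), (1416, 0, 3197, 216), (1419, 0, 1638, 216), (1421, 0, 2785, 201), (2774, 0, 1441, 216), (1427, 0, 1734, 198), (1556, 0, 1428, 216), (1433, 0, 2735, 210), (2415, 0, 1854, 216), (3459, 0, 1671, 216), (1436, 0, 2748, 225), (1437, 0, 3160, 198), (2601, 0, 1439, 201), (1446, 0, 3173, 216), (1907,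 0, 1453, 210), (2727, 0, 1982, 228), (3322, 0, 3104, 210), (2148, 0, 3124, 216), (2620, 0, 2754, 225), (1462, 0, 2465, 198), (2827, 0, 1464, 201), (1466, 0, 3452, 216), (2417, 0, 2841, 216), (3443, 0, 1479, 210), (1482, 0, 1510, 225), (1992, 0, 1483, 198), (1484, 0, 3193, 225), (1486, 0, 3354, 198), (2940, 0, 2166, 216), (3519, 0, 2604, 216), (2189, 0, 3043, 225), (2763, 0, 2164, 216), (1501, 0, 2990, 228), (3484, 0, 2412, 210), (2635, 0, 1507, 198), (1508, 0, 3114, 201), (3675, 0, 1517, 225), (1518, 0, 3134, 201), (2098, 0, 3640, 216), (1523, 0, 3342, 201), (3624, 0, 1727, 228), (1586, 0, 2992, 201), (2464, 0, 2887, 210), (2008, 0, 1535, 210), (3015, 0, 2529, 210), (3255, 0, 1558, 201), (1543, 0, 3075, 225), (1689, 0, 1545, 216), (1548, 0, 3004, 198), (2921, 0, 3479, 210), (2439, 0, 1924, 210), (2839, 0, 1561, 198), (1563, 0, 2971, 198)]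

/-- Steps. -/
def rows18_9 : List (ℕ × ℕ × ℕ × ℕ) := [(1565, 0, 2007, 216), (1581, 0, 2264, 201), (3466, 0, 2022, 198), (3269, 0, 1573, 216), (2516, 0, 1575, 198), (3110, 0, 2155, 216), (1696, 0, 1578, 216), (1580, 0, 1616, 216), (2233, 0, 2544, 228), (2925, 0, 1585, 198), (2110, 0, 3052, 216), (1596, 0, 2911, 225), (2668, 0, 2543, 198), (1598, 0, 2199, 225), (2367, 0, 1601, 228), (2666, 0, 2820, 228), (3660, 0, 1604, 201), (1605, 0, 3540, 225), (2997, 0, 3548, 225), (1615, 0, 2013, 210), (3149, 0, 2897, 225), (2162, 0, 3178, 210), (2797, 0, 2026, 225), (1687, 0, 3754, 201), (2523, 0, 3241, 228), (2513, 0, 1626, 201), (2442, 0, 2600, 210), (2721, 0, 1636, 228), (2436, 0, 1639, 201), (1642, 0, 2284, 225), (2252, 0, 1644, 216), (1655, 0, 1850, 201), (1663, 0, 2488, 216), (3724, 0, 2179, 216), (2923, 0, 3589, 228), (1716, 0, 3693, 201), (2991, 0, 3723, 228), (1833, 0, 2765, 198), (2858, 0, 1694, 216), (1697, 0, 1974, 216), (3432, 0, 2977, 228), (3121, 0, 2370, 225), (1703, 0, 2002, 198), (1705, 0, 1796, 228), (3263,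 0, 1708, 198), (2171, 0, 1710, 216), (1930, 0, 1713, 198), (1715, 0, 3285, 225), (2924, 0, 1719, 228), (1721, 0, 2182, 228), (2671, 0, 1723, 210), (1819, 0, 1725, 201), (1726, 0, 3773, 198), (3760, 0, 2384, 225), (3681, 0, 1731, 201), (1973, 0, 3312, 198), (2979, 0, 1735, 228), (3574, 0, 2420, 201), (1740, 0, 2307, 201), (1775, 0, 1746, 210), (1749, 0, 2758, 225), (1987, 0, 1753, 201), (1756, 0, 2116, 198), (2760, 0, 3338, 228), (1776, 0, 3145, 225), (3415, 0, 1767, 216), (2524, 0, 3774, 228), (1821, 0, 3672, 201), (1778, 0, 2889, 198), (1784, 0, 2608, 201), (1788, 0, 2194, 201), (2295, 0, 3514, 210), (1793, 0, 3137, 210), (3103, 0, 1799, 198), (3371, 0, 2561, 198), (2079, 0, 3550, 216), (1812, 0, 3060, 216), (1816, 0, 3541, 201), (1823, 0, 2584, 198), (3659, 0, 1827, 228), (1834, 0, 3620, 210), (3213, 0, 2084, 228), (3531, 0, 1837, 216), (2913, 0, 3324, 225), (1845, 0, 2042, 228), (2662, 0, 1857, 228), (3692, 0, 1858, 216), (3293, 0, 2360, 198), (2603, 0, 1860, 216), (1861, 0, 3638, 216), (3503, 0, 1862, 198),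 (2547, 0, 1866, 225), (3313, 0, 2876, 225), (3546, 0, 3141, 198), (2674, 0, 1877, 228), (3202, 0, 1884, 210), (1898, 0, 1983, 198), (2331, 0, 2422, 216), (2683, 0, 3527, 210), (1910, 0, 3236, 210), (1917, 0, 2616, 216), (1921, 0, 2069, 201), (3421, 0, 1928, 216), (3779, 0, 1934, 198), (1936, 0, 2762, 210), (1940, 0, 3545, 225), (2259, 0, 1942, 210), (3215, 0, 1947, 216), (1948, 0, 3669, 210), (2978, 0, 1950, 201), (3682, 0, 1957, 225), (1961, 0, 2304, 198), (3087, 0, 2903, 228), (3580, 0, 2500, 210), (2448, 0, 2607, 228), (3148, 0, 1968, 198), (2192, 0, 2906, 216), (2170, 0, 1970, 228), (3359, 0, 3033, 225), (2023, 0, 3355, 216), (3221, 0, 3745, 228), (1991, 0, 2187, 201), (2458, 0, 1997, 198), (3175, 0, 2761, 216), (2939, 0, 2001, 216), (2579, 0, 2005, 201), (3604, 0, 2016, 210), (2570, 0, 2017, 198), (2019, 0, 3010, 201), (2554, 0, 2028, 210), (2031, 0, 2795, 201), (2032, 0, 2691, 225), (2034, 0, 3426, 228), (2766, 0, 2037, 201), (2963, 0, 2044, 210), (2045, 0, 2716, 210), (2046, 0, 2230, 225), (2220, 0, 3626,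 216), (2970, 0, 2806, 225), (3126, 0, 2065, 228), (2181, 0, 2067, 210), (2068, 0, 2258, 225), (3658, 0, 2071, 216), (2074, 0, 3418, 198), (3300, 0, 2075, 216), (2076, 0, 2882, 225), (3423, 0, 2077, 225), (3404, 0, 3021, 201), (2218, 0, 2090, 201), (2113, 0, 2092, 216), (2180, 0, 2300, 225), (2719, 0, 2094, 225), (2097, 0, 2249, 198), (3559, 0, 2099, 198), (3159, 0, 3621, 228), (2107, 0, 3394, 198), (2114, 0, 3639, 228), (2517, 0, 2115, 225), (2121, 0, 3701, 201), (2536, 0, 2202, 201), (2129, 0, 3504, 225), (2469, 0, 2130, 216), (2919, 0, 2134, 198), (2828, 0, 2140, 228), (2147, 0, 2345, 198), (2568, 0, 2150, 216), (3096, 0, 2302, 225), (2156, 0, 3133, 198), (2160, 0, 3618, 228), (2165, 0, 3487, 216), (2172, 0, 3206, 216), (2173, 0, 2629, 216), (2177, 0, 3008, 225), (2185, 0, 2752, 210), (2205, 0, 3646, 201), (2206, 0, 3199, 210), (2749, 0, 3481, 228), (2216, 0, 2379, 210), (2213, 0, 2958, 225), (3696, 0, 2219, 198), (3776, 0, 2221, 210), (3768, 0, 2222, 210), (3485, 0, 2303, 216), (3037, 0, 3725, 216), (2907,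 0, 2240, 198), (3240, 0, 2933, 201), (3162, 0, 2574, 216), (2389, 0, 2677, 216), (2266, 0, 2755, 225), (3501, 0, 3686, 216), (2522, 0, 3372, 216), (2399, 0, 2292, 228), (3310, 0, 2309, 225), (3034, 0, 2746, 210), (2375, 0, 2526, 225), (3473, 0, 2804, 201), (3144, 0, 2329, 210), (3022, 0, 2338, 225), (2790, 0, 2343, 210), (3262, 0, 2347, 216), (2550, 0, 2352, 201), (2728, 0, 3208, 198), (2759, 0, 2368, 210), (3529, 0, 3147, 216), (2376, 0, 3784, 210), (2382, 0, 2646, 216), (2879, 0, 2572, 198), (2527, 0, 2387, 210), (3575, 0, 2507, 210), (2696, 0, 2901, 198), (3257, 0, 2410, 201), (3367, 0, 3591, 201), (2653, 0, 2868, 225), (3084, 0, 2432, 225), (2454, 0, 3317, 225), (2695, 0, 2456, 225), (3560, 0, 2461, 201), (2468, 0, 2929, 210), (3069, 0, 3610, 228), (2734, 0, 3563, 201), (3328, 0, 3074, 210), (2495, 0, 3314, 210), (3715, 0, 3036, 210), (3335, 0, 3177, 216), (2609, 0, 2843, 201), (3016, 0, 2556, 228), (3231, 0, 2567, 210), (2892, 0, 2938, 201), (3386, 0, 3711, 225), (2591, 0, 3635, 225), (3727, 0, 3463, 201),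 (3232, 0, 2631, 225), (2633, 0, 3645, 198), (2638, 0, 2890, 225), (2659, 0, 3435, 225), (2665, 0, 2838, 210), (3083, 0, 2675, 228), (3377, 0, 3595, 216), (3552, 0, 2689, 228), (2953, 0, 2703, 201), (3222, 0, 2814, 228), (2705, 0, 3743, 228), (3127, 0, 3500, 225), (2733, 0, 3775, 228), (2736, 0, 3622, 198), (3643, 0, 2950, 216), (2776, 0, 2836, 228), (3566, 0, 2834, 210), (2835, 0, 3558, 216), (3629, 0, 3272, 225)]

/-- Steps. -/
def rows18_10 : List (ℕ × ℕ × ℕ × ℕ) := [(2864, 0, 3649, 210), (3243, 0, 2891, 210), (2873, 0, 3268, 210), (2883, 0, 3721, 228), (3333, 0, 3783, 201), (3542, 0, 2930, 210), (2949, 0, 3229, 225), (3486, 0, 2951, 210), (3247, 0, 3603, 201), (2974, 0, 3289, 201), (2984, 0, 3436, 225), (3537, 0, 2993, 198), (3035, 0, 3161, 210), (3585, 0, 3111, 216), (3710, 0, 3146, 201), (3329, 0, 3294, 198), (3455, 0, 3337, 216), (3512, 0, 3525, 228), (3677, 0, 3771, 210), (3732, 0, 3657, 198)]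

/-- Steps of vertex 18. -/
def rows18 : List (ℕ × ℕ × ℕ × ℕ) := rows18_0 ++ rows18_1 ++ rows18_2 ++ rows18_3 ++ rows18_4 ++ rows18_5 ++ rows18_6 ++ rows18_7 ++ rows18_8 ++ rows18_9 ++ rows18_10

theorem sweep18 : (sweep gens18 rows18 (seedSet seeds18 0) == some (2 ^ numTrio - 1)) = true := by
  decide +kernel

theorem good18 (rows : ∀ k < numTrio, rowOk k = true) :
    ∀ k < numTrio, Good C (vlist C) (v18 C) k :=
  good_all C rows (seeds18_good C)
    (fun g hg => ⟨gens18_fix C g hg, List.all_eq_true.1 gens18_ok g hg⟩) sweep18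

end CfsgLib.J4Index
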