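import Cfsg.Agent.Lib.J4Index.Live

/-!
# Orbit and directions of vertex 19 (generated)
-/

set_option autoImplicit false
set_option maxRecDepth 100000
set_option linter.style.longLine false

namespace CfsgLib.J4Index

variable {G X : Type} [Group G] [MulAction G X] (C : Ctx G X)

/-- A chain in the stabiliser of vertex 19. -/
def chain19 : List (ℕ × List (List ℕ)) := [
  (0, [[], [8, 48, 67, 77, 92, 110, 112], [12, 29, 63, 103, 119], [14, 39, 69, 87, 107, 120], [15, 43, 63, 73, 105, 109, 112]]),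
  (1, [[], [27, 69, 79, 94, 112], [35, 49, 76, 94, 110], [42, 64, 78, 97, 110, 111]]),
  (2, [[]]),
  (3, [[]]),
  (4, [[]]),
  (12, [[]]),
  (5, [[]])]

theorem chain19_ok : (chainOk [] chain19 && Nat.beq (chainSize chain19) 20) = true := by decide +kernel

theorem chain19_mem : ∀ L ∈ chain19, ∀ w ∈ L.2, C.S (v19 C) w := by
  simp only [chain19, List.forall_mem_cons, List.not_mem_nil, IsEmpty.forall_iff, implies_true, and_true]
  exact ⟨⟨f18398 C, f18399 C, f15540 C, f18400 C, f15685 C⟩,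
    ⟨f18398 C, f18402 C, f18403 C, f18404 C⟩,
    f18398 C,
    f18398 C,
    f18398 C,
    f18398 C,
    f18398 C⟩

theorem orbit19 : (orbSet C (v19 C)).Finite ∧ (orbSet C (v19 C)).ncard ≤ 12241152 := by
  obtain ⟨h1, h2⟩ := Bool.and_eq_true_iff.1 chain19_ok
  obtain ⟨hf, hc⟩ := orb_bound C h1 (chain19_mem C)
  rw [Nat.eq_of_beq_eq_true h2] at hc
  exact ⟨hf, by omega⟩

theorem s19_0 : Good C (vlist C) (v19 C) 0 :=
  good_seed C (f15541 C) 0 [] (v4_mem C) (by decide +kernel) (by decide +kernel)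

theorem s19_1 : Good C (vlist C) (v19 C) 2721 :=
  good_seed C (f16159 C) 2721 [138, 149, 171] (v9_mem C) (by decide +kernel) (by decide +kernel)

theorem s19_2 : Good C (vlist C) (v19 C) 890 :=
  good_seed C (f17103 C) 890 [144, 156, 168] (v18_mem C) (by decide +kernel) (by decide +kernel)

theorem s19_3 : Good C (vlist C) (v19 C) 2971 :=
  good_seed C (f16464 C) 2971 [128, 159, 164, 172, 177] (v18_mem C) (by decide +kernel) (by decide +kernel)

theorem s19_4 : Good C (vlist C) (v19 C) 3164 :=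
  good_seed C (f16935 C) 3164 [150, 169, 175] (v18_mem C) (by decide +kernel) (by decide +kernel)

theorem s19_5 : Good C (vlist C) (v19 C) 3007 :=
  good_seed C (f16955 C) 3007 [146, 162, 166, 175] (v15_mem C) (by decide +kernel) (by decide +kernel)

theorem s19_6 : Good C (vlist C) (v19 C) 3201 :=
  good_seed C (f16766 C) 3201 [131, 149, 170, 176] (v15_mem C) (by decide +kernel) (by decide +kernel)

theorem s19_7 : Good C (vlist C) (v19 C) 8 :=
  good_seed C (f16375 C) 8 [148, 158, 167, 174, 177] (v18_mem C) (by decide +kernel) (by decide +kernel)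

theorem s19_8 : Good C (vlist C) (v19 C) 3041 :=
  good_seed C (f16505 C) 3041 [133, 150, 169, 175, 178] (v19_mem C) (by decide +kernel) (by decide +kernel)

theorem s19_9 : Good C (vlist C) (v19 C) 1632 :=
  good_seed C (f16845 C) 1632 [128, 162, 169, 178] (v17_mem C) (by decide +kernel) (by decide +kernel)

theorem s19_10 : Good C (vlist C) (v19 C) 3685 :=
  good_seed C (f16723 C) 3685 [141, 154, 166, 171, 177] (v18_mem C) (by decide +kernel) (by decide +kernel)

theorem s19_11 : Good C (vlist C) (v19 C) 3605 :=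
  good_seed C (f17286 C) 3605 [140, 160, 164, 172, 178] (v18_mem C) (by decide +kernel) (by decide +kernel)

theorem s19_12 : Good C (vlist C) (v19 C) 2065 :=
  good_seed C (f16360 C) 2065 [146, 163, 165, 171, 178] (v18_mem C) (by decide +kernel) (by decide +kernel)

theorem s19_13 : Good C (vlist C) (v19 C) 15 :=
  good_seed C (f16698 C) 15 [128, 153, 165, 178] (v17_mem C) (by decide +kernel) (by decide +kernel)

theorem s19_14 : Good C (vlist C) (v19 C) 3464 :=
  good_seed C (f16704 C) 3464 [133, 159, 168, 173, 178] (v17_mem C) (by decide +kernel) (by decide +kernel)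

theorem s19_15 : Good C (vlist C) (v19 C) 2567 :=
  good_seed C (f17034 C) 2567 [148, 149, 166, 173, 178] (v17_mem C) (by decide +kernel) (by decide +kernel)

theorem s19_16 : Good C (vlist C) (v19 C) 2267 :=
  good_seed C (f16618 C) 2267 [130, 157, 175, 178] (v17_mem C) (by decide +kernel) (by decide +kernel)

theorem s19_17 : Good C (vlist C) (v19 C) 1736 :=
  good_seed C (f16274 C) 1736 [127, 151, 172, 178] (v18_mem C) (by decide +kernel) (by decide +kernel)

theorem s19_18 : Good C (vlist C) (v19 C) 2396 :=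
  good_seed C (f17077 C) 2396 [132, 161, 169, 171, 177] (v19_mem C) (by decide +kernel) (by decide +kernel)

theorem s19_19 : Good C (vlist C) (v19 C) 3109 :=
  good_seed C (f16734 C) 3109 [150, 165, 171] (v18_mem C) (by decide +kernel) (by decide +kernel)

theorem s19_20 : Good C (vlist C) (v19 C) 539 :=
  good_seed C (f16128 C) 539 [142, 157, 178] (v17_mem C) (by decide +kernel) (by decide +kernel)

theorem s19_21 : Good C (vlist C) (v19 C) 2897 :=
  good_seed C (f16280 C) 2897 [127, 161, 170, 175, 177] (v17_mem C) (by decide +kernel) (by decide +kernel)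

theorem s19_22 : Good C (vlist C) (v19 C) 1155 :=
  good_seed C (f16568 C) 1155 [133, 155, 176, 177] (v16_mem C) (by decide +kernel) (by decide +kernel)

theorem s19_23 : Good C (vlist C) (v19 C) 3156 :=
  good_seed C (f17190 C) 3156 [128, 159, 169, 173, 178] (v19_mem C) (by decide +kernel) (by decide +kernel)

theorem s19_24 : Good C (vlist C) (v19 C) 2403 :=
  good_seed C (f16420 C) 2403 [139, 152, 171] (v17_mem C) (by decide +kernel) (by decide +kernel)

theorem s19_25 : Good C (vlist C) (v19 C) 3514 :=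
  good_seed C (f16991 C) 3514 [153, 170, 173, 178] (v17_mem C) (by decide +kernel) (by decide +kernel)

theorem s19_26 : Good C (vlist C) (v19 C) 1202 :=
  good_seed C (f16548 C) 1202 [146, 156, 169, 173, 178] (v16_mem C) (by decide +kernel) (by decide +kernel)

theorem s19_27 : Good C (vlist C) (v19 C) 2071 :=
  good_seed C (f16821 C) 2071 [134, 150, 172, 177] (v15_mem C) (by decide +kernel) (by decide +kernel)

theorem s19_28 : Good C (vlist C) (v19 C) 1537 :=
  good_seed C (f16229 C) 1537 [137, 165, 176, 178] (v17_mem C) (by decide +kernel) (by decide +kernel)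

theorem s19_29 : Good C (vlist C) (v19 C) 734 :=
  good_seed C (f16745 C) 734 [142, 168, 176, 177] (v18_mem C) (by decide +kernel) (by decide +kernel)

theorem s19_30 : Good C (vlist C) (v19 C) 1065 :=
  good_seed C (f17049 C) 1065 [146, 151, 168, 174] (v17_mem C) (by decide +kernel) (by decide +kernel)

theorem s19_31 : Good C (vlist C) (v19 C) 1480 :=
  good_seed C (f16399 C) 1480 [134, 161, 165, 176, 177] (v18_mem C) (by decide +kernel) (by decide +kernel)

theorem s19_32 : Good C (vlist C) (v19 C) 3005 :=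
  good_seed C (f16436 C) 3005 [148, 159, 169, 176, 177] (v18_mem C) (by decide +kernel) (by decide +kernel)

theorem s19_33 : Good C (vlist C) (v19 C) 2168 :=
  good_seed C (f16268 C) 2168 [139, 160, 164, 172, 178] (v17_mem C) (by decide +kernel) (by decide +kernel)

theorem s19_34 : Good C (vlist C) (v19 C) 1294 :=
  good_seed C (f16178 C) 1294 [145, 160, 166, 175, 177] (v18_mem C) (by decide +kernel) (by decide +kernel)

theorem s19_35 : Good C (vlist C) (v19 C) 2772 :=
  good_seed C (f17071 C) 2772 [144, 154, 164, 171, 178] (v17_mem C) (by decide +kernel) (by decide +kernel)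

theorem s19_36 : Good C (vlist C) (v19 C) 1474 :=
  good_seed C (f16429 C) 1474 [130, 155, 167, 176, 178] (v17_mem C) (by decide +kernel) (by decide +kernel)

theorem s19_37 : Good C (vlist C) (v19 C) 1143 :=
  good_seed C (f15799 C) 1143 [140, 157, 168, 177] (v18_mem C) (by decide +kernel) (by decide +kernel)

theorem s19_38 : Good C (vlist C) (v19 C) 2494 :=
  good_seed C (f17562 C) 2494 [148, 157, 169, 176] (v20_mem C) (by decide +kernel) (by decide +kernel)

theorem s19_39 : Good C (vlist C) (v19 C) 3395 :=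
  good_seed C (f16557 C) 3395 [132, 156, 170, 171, 177] (v18_mem C) (by decide +kernel) (by decide +kernel)

theorem s19_40 : Good C (vlist C) (v19 C) 543 :=
  good_seed C (f16239 C) 543 [138, 150, 176, 178] (v18_mem C) (by decide +kernel) (by decide +kernel)

theorem s19_41 : Good C (vlist C) (v19 C) 280 :=
  good_seed C (f16414 C) 280 [138, 157, 164, 171, 178] (v18_mem C) (by decide +kernel) (by decide +kernel)

theorem s19_42 : Good C (vlist C) (v19 C) 3133 :=
  good_seed C (f16494 C) 3133 [132, 161, 164, 173] (v18_mem C) (by decide +kernel) (by decide +kernel)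

theorem s19_43 : Good C (vlist C) (v19 C) 854 :=
  good_seed C (f16153 C) 854 [132, 149, 167, 171, 177] (v15_mem C) (by decide +kernel) (by decide +kernel)

theorem s19_44 : Good C (vlist C) (v19 C) 3621 :=
  good_seed C (f16785 C) 3621 [137, 158, 169, 176, 178] (v19_mem C) (by decide +kernel) (by decide +kernel)

theorem s19_45 : Good C (vlist C) (v19 C) 2270 :=
  good_seed C (f16306 C) 2270 [144, 161, 164, 172, 177] (v18_mem C) (by decide +kernel) (by decide +kernel)

theorem s19_46 : Good C (vlist C) (v19 C) 977 :=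
  good_seed C (f16168 C) 977 [132, 158, 164, 177] (v19_mem C) (by decide +kernel) (by decide +kernel)

theorem s19_47 : Good C (vlist C) (v19 C) 2056 :=
  good_seed C (f15933 C) 2056 [138, 152, 167, 172] (v16_mem C) (by decide +kernel) (by decide +kernel)

theorem s19_48 : Good C (vlist C) (v19 C) 2381 :=
  good_seed C (f17056 C) 2381 [146, 149, 168, 175] (v17_mem C) (by decide +kernel) (by decide +kernel)

theorem s19_49 : Good C (vlist C) (v19 C) 3168 :=
  good_seed C (f15900 C) 3168 [143, 151, 166, 175, 177] (v18_mem C) (by decide +kernel) (by decide +kernel)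

theorem s19_50 : Good C (vlist C) (v19 C) 2116 :=
  good_seed C (f17113 C) 2116 [132, 163, 164, 173, 178] (v19_mem C) (by decide +kernel) (by decide +kernel)

theorem s19_51 : Good C (vlist C) (v19 C) 67 :=
  good_seed C (f15773 C) 67 [126, 154, 165] (v17_mem C) (by decide +kernel) (by decide +kernel)

theorem s19_52 : Good C (vlist C) (v19 C) 1326 :=
  good_seed C (f17120 C) 1326 [139, 161, 168, 176, 177] (v18_mem C) (by decide +kernel) (by decide +kernel)

theorem s19_53 : Good C (vlist C) (v19 C) 3613 :=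
  good_seed C (f15752 C) 3613 [136, 150, 167, 173] (v18_mem C) (by decide +kernel) (by decide +kernel)

theorem s19_54 : Good C (vlist C) (v19 C) 250 :=
  good_seed C (f17276 C) 250 [161, 168, 173, 178] (v17_mem C) (by decide +kernel) (by decide +kernel)

theorem s19_55 : Good C (vlist C) (v19 C) 2586 :=
  good_seed C (f15954 C) 2586 [128, 151, 164, 174] (v17_mem C) (by decide +kernel) (by decide +kernel)

theorem s19_56 : Good C (vlist C) (v19 C) 2487 :=
  good_seed C (f16012 C) 2487 [140, 153, 170, 172] (v18_mem C) (by decide +kernel) (by decide +kernel)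

theorem s19_57 : Good C (vlist C) (v19 C) 2646 :=
  good_seed C (f15662 C) 2646 [145, 150, 169, 174] (v18_mem C) (by decide +kernel) (by decide +kernel)

theorem s19_58 : Good C (vlist C) (v19 C) 1751 :=
  good_seed C (f16910 C) 1751 [143, 151, 169, 173, 178] (v17_mem C) (by decide +kernel) (by decide +kernel)

theorem s19_59 : Good C (vlist C) (v19 C) 877 :=
  good_seed C (f16688 C) 877 [133, 151, 171, 178] (v16_mem C) (by decide +kernel) (by decide +kernel)

theorem s19_60 : Good C (vlist C) (v19 C) 1390 :=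
  good_seed C (f16983 C) 1390 [126, 152, 167, 176] (v16_mem C) (by decide +kernel) (by decide +kernel)

theorem s19_61 : Good C (vlist C) (v19 C) 2472 :=
  good_seed C (f15585 C) 2472 [139, 152, 165] (v17_mem C) (by decide +kernel) (by decide +kernel)

theorem s19_62 : Good C (vlist C) (v19 C) 84 :=
  good_seed C (f16521 C) 84 [137, 157, 166, 173] (v16_mem C) (by decide +kernel) (by decide +kernel)

theorem s19_63 : Good C (vlist C) (v19 C) 2562 :=
  good_seed C (f16296 C) 2562 [148, 157, 166, 172] (v17_mem C) (by decide +kernel) (by decide +kernel)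

theorem s19_64 : Good C (vlist C) (v19 C) 1885 :=
  good_seed C (f16206 C) 1885 [131, 154, 165, 174] (v17_mem C) (by decide +kernel) (by decide +kernel)

theorem s19_65 : Good C (vlist C) (v19 C) 1247 :=
  good_seed C (f17147 C) 1247 [127, 163, 165, 173, 177] (v18_mem C) (by decide +kernel) (by decide +kernel)

theorem s19_66 : Good C (vlist C) (v19 C) 3437 :=
  good_seed C (f16927 C) 3437 [145, 150, 170, 172, 177] (v18_mem C) (by decide +kernel) (by decide +kernel)

theorem s19_67 : Good C (vlist C) (v19 C) 2365 :=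
  good_seed C (f16627 C) 2365 [130, 150, 169, 173, 177] (v10_mem C) (by decide +kernel) (by decide +kernel)

theorem s19_68 : Good C (vlist C) (v19 C) 1677 :=
  good_seed C (f16406 C) 1677 [137, 156, 168, 174, 178] (v18_mem C) (by decide +kernel) (by decide +kernel)

theorem s19_69 : Good C (vlist C) (v19 C) 794 :=
  good_seed C (f17569 C) 794 [145, 157, 168, 174, 177] (v20_mem C) (by decide +kernel) (by decide +kernel)

theorem s19_70 : Good C (vlist C) (v19 C) 1607 :=
  good_seed C (f16964 C) 1607 [131, 169, 171] (v17_mem C) (by decide +kernel) (by decide +kernel)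

theorem s19_71 : Good C (vlist C) (v19 C) 1108 :=
  good_seed C (f16728 C) 1108 [148, 159, 166, 178] (v18_mem C) (by decide +kernel) (by decide +kernel)

theorem s19_72 : Good C (vlist C) (v19 C) 1618 :=
  good_seed C (f16635 C) 1618 [128, 150, 169, 173, 177] (v19_mem C) (by decide +kernel) (by decide +kernel)

theorem s19_73 : Good C (vlist C) (v19 C) 106 :=
  good_seed C (f16710 C) 106 [134, 152, 169, 177] (v17_mem C) (by decide +kernel) (by decide +kernel)

theorem s19_74 : Good C (vlist C) (v19 C) 108 :=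
  good_seed C (f15721 C) 108 [133, 163, 166, 171] (v18_mem C) (by decide +kernel) (by decide +kernel)

theorem s19_75 : Good C (vlist C) (v19 C) 1180 :=
  good_seed C (f15550 C) 1180 [131, 161, 169, 174, 178] (v18_mem C) (by decide +kernel) (by decide +kernel)

theorem s19_76 : Good C (vlist C) (v19 C) 596 :=
  good_seed C (f16473 C) 596 [143, 149, 167, 173, 177] (v5_mem C) (by decide +kernel) (by decide +kernel)

theorem s19_77 : Good C (vlist C) (v19 C) 728 :=
  good_seed C (f15676 C) 728 [135, 167, 177] (v18_mem C) (by decide +kernel) (by decide +kernel)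

theorem s19_78 : Good C (vlist C) (v19 C) 3092 :=
  good_seed C (f16093 C) 3092 [131, 156] (v17_mem C) (by decide +kernel) (by decide +kernel)

theorem s19_79 : Good C (vlist C) (v19 C) 1120 :=
  good_seed C (f15982 C) 1120 [128, 153, 168, 174, 178] (v18_mem C) (by decide +kernel) (by decide +kernel)

theorem s19_80 : Good C (vlist C) (v19 C) 2271 :=
  good_seed C (f17175 C) 2271 [142, 152, 168, 178] (v18_mem C) (by decide +kernel) (by decide +kernel)

theorem s19_81 : Good C (vlist C) (v19 C) 1353 :=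
  good_seed C (f17162 C) 1353 [133, 170, 175, 177] (v18_mem C) (by decide +kernel) (by decide +kernel)

theorem s19_82 : Good C (vlist C) (v19 C) 3651 :=
  good_seed C (f15644 C) 3651 [138, 159, 164, 173, 178] (v18_mem C) (by decide +kernel) (by decide +kernel)

theorem s19_83 : Good C (vlist C) (v19 C) 1017 :=
  good_seed C (f16602 C) 1017 [136, 162, 167, 175] (v18_mem C) (by decide +kernel) (by decide +kernel)

theorem s19_84 : Good C (vlist C) (v19 C) 398 :=
  good_seed C (f15835 C) 398 [143, 156, 167, 172] (v18_mem C) (by decide +kernel) (by decide +kernel)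

theorem s19_85 : Good C (vlist C) (v19 C) 2164 :=
  good_seed C (f15711 C) 2164 [147, 163, 178] (v18_mem C) (by decide +kernel) (by decide +kernel)

theorem s19_86 : Good C (vlist C) (v19 C) 612 :=
  good_seed C (f16681 C) 612 [130, 163, 169, 173, 177] (v15_mem C) (by decide +kernel) (by decide +kernel)

theorem s19_87 : Good C (vlist C) (v19 C) 1983 :=
  good_seed C (f15558 C) 1983 [130, 154, 164, 173, 178] (v18_mem C) (by decide +kernel) (by decide +kernel)

theorem s19_88 : Good C (vlist C) (v19 C) 1534 :=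
  good_seed C (f16753 C) 1534 [144, 160, 164, 174] (v18_mem C) (by decide +kernel) (by decide +kernel)

theorem s19_89 : Good C (vlist C) (v19 C) 2934 :=
  good_seed C (f17061 C) 2934 [153, 169, 173, 178] (v18_mem C) (by decide +kernel) (by decide +kernel)

theorem s19_90 : Good C (vlist C) (v19 C) 314 :=
  good_seed C (f16771 C) 314 [165, 173, 178] (v18_mem C) (by decide +kernel) (by decide +kernel)

theorem s19_91 : Good C (vlist C) (v19 C) 708 :=
  good_seed C (f15782 C) 708 [134, 155, 166, 171, 178] (v18_mem C) (by decide +kernel) (by decide +kernel)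

theorem s19_92 : Good C (vlist C) (v19 C) 1972 :=
  good_seed C (f16644 C) 1972 [145, 150, 165, 175] (v19_mem C) (by decide +kernel) (by decide +kernel)

theorem s19_93 : Good C (vlist C) (v19 C) 1671 :=
  good_seed C (f16829 C) 1671 [135, 158, 178] (v9_mem C) (by decide +kernel) (by decide +kernel)

theorem s19_94 : Good C (vlist C) (v19 C) 1851 :=
  good_seed C (f16167 C) 1851 [133, 161, 164, 174, 178] (v19_mem C) (by decide +kernel) (by decide +kernel)

theorem s19_95 : Good C (vlist C) (v19 C) 3140 :=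
  good_seed C (f16029 C) 3140 [126, 159, 169, 171, 177] (v17_mem C) (by decide +kernel) (by decide +kernel)

theorem s19_96 : Good C (vlist C) (v19 C) 991 :=
  good_seed C (f15604 C) 991 [138, 150, 169, 172, 177] (v18_mem C) (by decide +kernel) (by decide +kernel)

theorem s19_97 : Good C (vlist C) (v19 C) 2444 :=
  good_seed C (f15762 C) 2444 [126, 161, 164, 176, 178] (v18_mem C) (by decide +kernel) (by decide +kernel)

theorem s19_98 : Good C (vlist C) (v19 C) 2510 :=
  good_seed C (f16715 C) 2510 [128, 156, 167, 171] (v17_mem C) (by decide +kernel) (by decide +kernel)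

theorem s19_99 : Good C (vlist C) (v19 C) 2935 :=
  good_seed C (f16187 C) 2935 [148, 153, 164, 176] (v17_mem C) (by decide +kernel) (by decide +kernel)

theorem s19_100 : Good C (vlist C) (v19 C) 158 :=
  good_seed C (f17003 C) 158 [144, 150, 166, 172, 177] (v17_mem C) (by decide +kernel) (by decide +kernel)

theorem s19_101 : Good C (vlist C) (v19 C) 1334 :=
  good_seed C (f16918 C) 1334 [143, 154, 170] (v19_mem C) (by decide +kernel) (by decide +kernel)

theorem s19_102 : Good C (vlist C) (v19 C) 160 :=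
  good_seed C (f15966 C) 160 [134, 159, 165, 176, 177] (v18_mem C) (by decide +kernel) (by decide +kernel)

theorem s19_103 : Good C (vlist C) (v19 C) 1571 :=
  good_seed C (f16578 C) 1571 [142, 170, 172, 178] (v18_mem C) (by decide +kernel) (by decide +kernel)

theorem s19_104 : Good C (vlist C) (v19 C) 2546 :=
  good_seed C (f16585 C) 2546 [148, 159, 165, 171, 177] (v18_mem C) (by decide +kernel) (by decide +kernel)

theorem s19_105 : Good C (vlist C) (v19 C) 1003 :=
  good_seed C (f17305 C) 1003 [131, 157, 168, 177] (v19_mem C) (by decide +kernel) (by decide +kernel)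

theorem s19_106 : Good C (vlist C) (v19 C) 3090 :=
  good_seed C (f16074 C) 3090 [129, 159, 166, 174] (v17_mem C) (by decide +kernel) (by decide +kernel)

theorem s19_107 : Good C (vlist C) (v19 C) 2262 :=
  good_seed C (f16611 C) 2262 [136, 157, 170, 171, 177] (v18_mem C) (by decide +kernel) (by decide +kernel)

theorem s19_108 : Good C (vlist C) (v19 C) 1179 :=
  good_seed C (f16880 C) 1179 [131, 156, 164, 176, 178] (v15_mem C) (by decide +kernel) (by decide +kernel)

theorem s19_109 : Good C (vlist C) (v19 C) 1345 :=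
  good_seed C (f16864 C) 1345 [134, 159, 166, 171, 178] (v18_mem C) (by decide +kernel) (by decide +kernel)

theorem s19_110 : Good C (vlist C) (v19 C) 1841 :=
  good_seed C (f17095 C) 1841 [128, 154, 165, 178] (v18_mem C) (by decide +kernel) (by decide +kernel)

theorem s19_111 : Good C (vlist C) (v19 C) 2906 :=
  good_seed C (f16117 C) 2906 [147, 156, 168, 174, 177] (v17_mem C) (by decide +kernel) (by decide +kernel)

theorem s19_112 : Good C (vlist C) (v19 C) 2619 :=
  good_seed C (f16759 C) 2619 [127, 158, 169, 172] (v18_mem C) (by decide +kernel) (by decide +kernel)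

theorem s19_113 : Good C (vlist C) (v19 C) 939 :=
  good_seed C (f15635 C) 939 [134, 153, 174, 177] (v16_mem C) (by decide +kernel) (by decide +kernel)

theorem s19_114 : Good C (vlist C) (v19 C) 2407 :=
  good_seed C (f16739 C) 2407 [131, 160, 164, 177] (v18_mem C) (by decide +kernel) (by decide +kernel)

theorem s19_115 : Good C (vlist C) (v19 C) 3557 :=
  good_seed C (f16854 C) 3557 [127, 156, 169, 173] (v5_mem C) (by decide +kernel) (by decide +kernel)

theorem s19_116 : Good C (vlist C) (v19 C) 2409 :=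
  good_seed C (f16195 C) 2409 [141, 158, 173, 177] (v18_mem C) (by decide +kernel) (by decide +kernel)

theorem s19_117 : Good C (vlist C) (v19 C) 245 :=
  good_seed C (f17089 C) 245 [127, 150, 171, 178] (v17_mem C) (by decide +kernel) (by decide +kernel)

theorem s19_118 : Good C (vlist C) (v19 C) 2341 :=
  good_seed C (f16022 C) 2341 [126, 157, 168, 178] (v18_mem C) (by decide +kernel) (by decide +kernel)

theorem s19_119 : Good C (vlist C) (v19 C) 1843 :=
  good_seed C (f16102 C) 1843 [142, 157, 166, 175, 177] (v18_mem C) (by decide +kernel) (by decide +kernel)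

theorem s19_120 : Good C (vlist C) (v19 C) 2199 :=
  good_seed C (f16258 C) 2199 [132, 161, 169, 173, 177] (v18_mem C) (by decide +kernel) (by decide +kernel)

theorem s19_121 : Good C (vlist C) (v19 C) 367 :=
  good_seed C (f15670 C) 367 [126, 153, 168, 173, 178] (v18_mem C) (by decide +kernel) (by decide +kernel)

theorem s19_122 : Good C (vlist C) (v19 C) 988 :=
  good_seed C (f15839 C) 988 [138, 158, 175, 177] (v3_mem C) (by decide +kernel) (by decide +kernel)

theorem s19_123 : Good C (vlist C) (v19 C) 1363 :=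
  good_seed C (f16776 C) 1363 [148, 161, 169, 174, 177] (v19_mem C) (by decide +kernel) (by decide +kernel)

theorem s19_124 : Good C (vlist C) (v19 C) 3045 :=
  good_seed C (f16289 C) 3045 [128, 155, 165, 174] (v18_mem C) (by decide +kernel) (by decide +kernel)

theorem s19_125 : Good C (vlist C) (v19 C) 1904 :=
  good_seed C (f16873 C) 1904 [142, 151, 166, 178] (v9_mem C) (by decide +kernel) (by decide +kernel)

theorem s19_126 : Good C (vlist C) (v19 C) 1911 :=
  good_seed C (f17367 C) 1911 [147, 154, 165, 171, 177] (v19_mem C) (by decide +kernel) (by decide +kernel)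

theorem s19_127 : Good C (vlist C) (v19 C) 3494 :=
  good_seed C (f17331 C) 3494 [126, 153, 169, 171] (v18_mem C) (by decide +kernel) (by decide +kernel)

theorem s19_128 : Good C (vlist C) (v19 C) 1790 :=
  good_seed C (f15942 C) 1790 [135, 157, 164, 174, 177] (v18_mem C) (by decide +kernel) (by decide +kernel)

theorem s19_129 : Good C (vlist C) (v19 C) 2974 :=
  good_seed C (f16003 C) 2974 [133, 154, 164, 172, 178] (v18_mem C) (by decide +kernel) (by decide +kernel)

theorem s19_130 : Good C (vlist C) (v19 C) 805 :=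
  good_seed C (f16369 C) 805 [143, 162, 167, 175] (v17_mem C) (by decide +kernel) (by decide +kernel)

theorem s19_131 : Good C (vlist C) (v19 C) 2779 :=
  good_seed C (f16834 C) 2779 [145, 154, 164, 171] (v19_mem C) (by decide +kernel) (by decide +kernel)

theorem s19_132 : Good C (vlist C) (v19 C) 587 :=
  good_seed C (f17155 C) 587 [136, 166, 174, 177] (v18_mem C) (by decide +kernel) (by decide +kernel)

theorem s19_133 : Good C (vlist C) (v19 C) 1657 :=
  good_seed C (f17231 C) 1657 [146, 169, 174, 178] (v10_mem C) (by decide +kernel) (by decide +kernel)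

theorem s19_134 : Good C (vlist C) (v19 C) 732 :=
  good_seed C (f16063 C) 732 [143, 157, 165, 177] (v18_mem C) (by decide +kernel) (by decide +kernel)

theorem s19_135 : Good C (vlist C) (v19 C) 2170 :=
  good_seed C (f15876 C) 2170 [134, 152, 175] (v18_mem C) (by decide +kernel) (by decide +kernel)

theorem s19_136 : Good C (vlist C) (v19 C) 3709 :=
  good_seed C (f15790 C) 3709 [131, 158, 167, 173] (v18_mem C) (by decide +kernel) (by decide +kernel)

theorem s19_137 : Good C (vlist C) (v19 C) 2207 :=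
  good_seed C (f16322 C) 2207 [130, 156, 169, 177] (v15_mem C) (by decide +kernel) (by decide +kernel)

theorem s19_138 : Good C (vlist C) (v19 C) 2817 :=
  good_seed C (f16313 C) 2817 [139, 160, 166, 176, 178] (v15_mem C) (by decide +kernel) (by decide +kernel)

theorem s19_139 : Good C (vlist C) (v19 C) 2542 :=
  good_seed C (f15808 C) 2542 [137, 161, 165, 175, 177] (v17_mem C) (by decide +kernel) (by decide +kernel)

theorem s19_140 : Good C (vlist C) (v19 C) 3185 :=
  good_seed C (f16144 C) 3185 [143, 160, 164, 176] (v16_mem C) (by decide +kernel) (by decide +kernel)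

theorem s19_141 : Good C (vlist C) (v19 C) 3217 :=
  good_seed C (f17398 C) 3217 [138, 159, 166, 178] (v19_mem C) (by decide +kernel) (by decide +kernel)

theorem s19_142 : Good C (vlist C) (v19 C) 2387 :=
  good_seed C (f15626 C) 2387 [129, 152, 165, 176, 178] (v18_mem C) (by decide +kernel) (by decide +kernel)

theorem s19_143 : Good C (vlist C) (v19 C) 863 :=
  good_seed C (f17025 C) 863 [129, 162, 168] (v18_mem C) (by decide +kernel) (by decide +kernel)

theorem s19_144 : Good C (vlist C) (v19 C) 561 :=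
  good_seed C (f17127 C) 561 [131, 161, 165, 172, 177] (v17_mem C) (by decide +kernel) (by decide +kernel)

theorem s19_145 : Good C (vlist C) (v19 C) 1078 :=
  good_seed C (f16945 C) 1078 [140, 159, 167, 178] (v17_mem C) (by decide +kernel) (by decide +kernel)

theorem s19_146 : Good C (vlist C) (v19 C) 1729 :=
  good_seed C (f16138 C) 1729 [126, 151, 168, 176, 178] (v17_mem C) (by decide +kernel) (by decide +kernel)

theorem s19_147 : Good C (vlist C) (v19 C) 370 :=
  good_seed C (f15892 C) 370 [146, 157, 164, 174] (v15_mem C) (by decide +kernel) (by decide +kernel)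

theorem s19_148 : Good C (vlist C) (v19 C) 1630 :=
  good_seed C (f16975 C) 1630 [148, 156, 172, 177] (v16_mem C) (by decide +kernel) (by decide +kernel)

theorem s19_149 : Good C (vlist C) (v19 C) 3413 :=
  good_seed C (f16810 C) 3413 [145, 157, 169, 174] (v19_mem C) (by decide +kernel) (by decide +kernel)

theorem s19_150 : Good C (vlist C) (v19 C) 3245 :=
  good_seed C (f16211 C) 3245 [139, 169, 178] (v18_mem C) (by decide +kernel) (by decide +kernel)

theorem s19_151 : Good C (vlist C) (v19 C) 1339 :=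
  good_seed C (f16331 C) 1339 [135, 150, 166] (v18_mem C) (by decide +kernel) (by decide +kernel)

theorem s19_152 : Good C (vlist C) (v19 C) 3340 :=
  good_seed C (f15746 C) 3340 [133, 152, 167, 175] (v16_mem C) (by decide +kernel) (by decide +kernel)

theorem s19_153 : Good C (vlist C) (v19 C) 3426 :=
  good_seed C (f16456 C) 3426 [139, 153, 167, 172, 177] (v18_mem C) (by decide +kernel) (by decide +kernel)

theorem s19_154 : Good C (vlist C) (v19 C) 730 :=
  good_seed C (f17207 C) 730 [132, 159, 172, 178] (v19_mem C) (by decide +kernel) (by decide +kernel)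

theorem s19_155 : Good C (vlist C) (v19 C) 2918 :=
  good_seed C (f15885 C) 2918 [137, 166, 171, 177] (v18_mem C) (by decide +kernel) (by decide +kernel)

theorem s19_156 : Good C (vlist C) (v19 C) 2795 :=
  good_seed C (f16802 C) 2795 [139, 156, 169, 171, 177] (v15_mem C) (by decide +kernel) (by decide +kernel)

theorem s19_157 : Good C (vlist C) (v19 C) 1591 :=
  good_seed C (f16482 C) 1591 [134, 149, 174] (v17_mem C) (by decide +kernel) (by decide +kernel)

theorem s19_158 : Good C (vlist C) (v19 C) 450 :=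
  good_seed C (f16891 C) 450 [133, 163, 166, 171, 177] (v19_mem C) (by decide +kernel) (by decide +kernel)

theorem s19_159 : Good C (vlist C) (v19 C) 3472 :=
  good_seed C (f16531 C) 3472 [142, 156, 167, 175, 178] (v18_mem C) (by decide +kernel) (by decide +kernel)

theorem s19_160 : Good C (vlist C) (v19 C) 2884 :=
  good_seed C (f15826 C) 2884 [148, 162, 173, 177] (v18_mem C) (by decide +kernel) (by decide +kernel)

theorem s19_161 : Good C (vlist C) (v19 C) 1644 :=
  good_seed C (f16246 C) 1644 [136, 167, 174] (v17_mem C) (by decide +kernel) (by decide +kernel)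

theorem s19_162 : Good C (vlist C) (v19 C) 565 :=
  good_seed C (f16345 C) 565 [152, 167, 171] (v17_mem C) (by decide +kernel) (by decide +kernel)

theorem s19_163 : Good C (vlist C) (v19 C) 2847 :=
  good_seed C (f17239 C) 2847 [132, 159, 165, 172, 177] (v19_mem C) (by decide +kernel) (by decide +kernel)

theorem s19_164 : Good C (vlist C) (v19 C) 1513 :=
  good_seed C (f15700 C) 1513 [136, 156, 176, 178] (v3_mem C) (by decide +kernel) (by decide +kernel)

theorem s19_165 : Good C (vlist C) (v19 C) 1136 :=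
  good_seed C (f17132 C) 1136 [126, 157, 164, 172] (v18_mem C) (by decide +kernel) (by decide +kernel)

theorem s19_166 : Good C (vlist C) (v19 C) 884 :=
  good_seed C (f15868 C) 884 [129, 161, 168, 176] (v18_mem C) (by decide +kernel) (by decide +kernel)

theorem s19_167 : Good C (vlist C) (v19 C) 374 :=
  good_seed C (f16511 C) 374 [128, 158, 166] (v15_mem C) (by decide +kernel) (by decide +kernel)

theorem s19_168 : Good C (vlist C) (v19 C) 1535 :=
  good_seed C (f17268 C) 1535 [128, 150, 167, 176] (v17_mem C) (by decide +kernel) (by decide +kernel)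

theorem s19_169 : Good C (vlist C) (v19 C) 2815 :=
  good_seed C (f16444 C) 2815 [146, 161, 164, 178] (v17_mem C) (by decide +kernel) (by decide +kernel)

theorem s19_170 : Good C (vlist C) (v19 C) 1035 :=
  good_seed C (f16390 C) 1035 [144, 157, 166, 176, 178] (v16_mem C) (by decide +kernel) (by decide +kernel)

theorem s19_171 : Good C (vlist C) (v19 C) 2969 :=
  good_seed C (f17114 C) 2969 [127, 149, 164, 178] (v19_mem C) (by decide +kernel) (by decide +kernel)

theorem s19_172 : Good C (vlist C) (v19 C) 3294 :=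
  good_seed C (f16222 C) 3294 [127, 163, 164, 176, 178] (v17_mem C) (by decide +kernel) (by decide +kernel)

theorem s19_173 : Good C (vlist C) (v19 C) 2640 :=
  good_seed C (f16046 C) 2640 [146, 161, 167, 172, 178] (v10_mem C) (by decide +kernel) (by decide +kernel)

theorem s19_174 : Good C (vlist C) (v19 C) 2420 :=
  good_seed C (f16592 C) 2420 [143, 150, 164, 172, 177] (v17_mem C) (by decide +kernel) (by decide +kernel)

theorem s19_175 : Good C (vlist C) (v19 C) 1486 :=
  good_seed C (f16903 C) 1486 [126, 154, 170, 174] (v15_mem C) (by decide +kernel) (by decide +kernel)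

theorem s19_176 : Good C (vlist C) (v19 C) 1208 :=
  good_seed C (f15577 C) 1208 [132, 150, 167, 172, 177] (v17_mem C) (by decide +kernel) (by decide +kernel)

theorem s19_177 : Good C (vlist C) (v19 C) 1052 :=
  good_seed C (f15654 C) 1052 [132, 154, 167, 172, 177] (v9_mem C) (by decide +kernel) (by decide +kernel)

theorem s19_178 : Good C (vlist C) (v19 C) 1191 :=
  good_seed C (f15916 C) 1191 [128, 154, 166, 174, 177] (v17_mem C) (by decide +kernel) (by decide +kernel)

theorem s19_179 : Good C (vlist C) (v19 C) 3506 :=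
  good_seed C (f17078 C) 3506 [129, 161, 176, 177] (v19_mem C) (by decide +kernel) (by decide +kernel)

theorem s19_180 : Good C (vlist C) (v19 C) 492 :=
  good_seed C (f16082 C) 492 [145, 149, 168, 178] (v18_mem C) (by decide +kernel) (by decide +kernel)

theorem s19_181 : Good C (vlist C) (v19 C) 2022 :=
  good_seed C (f16352 C) 2022 [140, 152, 165, 176, 177] (v18_mem C) (by decide +kernel) (by decide +kernel)

theorem s19_182 : Good C (vlist C) (v19 C) 1092 :=
  good_seed C (f15571 C) 1092 [138, 159, 169, 173] (v18_mem C) (by decide +kernel) (by decide +kernel)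

theorem s19_183 : Good C (vlist C) (v19 C) 795 :=
  good_seed C (f15729 C) 795 [134, 152, 164, 176, 178] (v17_mem C) (by decide +kernel) (by decide +kernel)

theorem s19_184 : Good C (vlist C) (v19 C) 483 :=
  good_seed C (f16251 C) 483 [143, 150, 168, 172] (v5_mem C) (by decide +kernel) (by decide +kernel)

theorem s19_185 : Good C (vlist C) (v19 C) 1552 :=
  good_seed C (f15977 C) 1552 [144, 160, 164, 175, 177] (v18_mem C) (by decide +kernel) (by decide +kernel)

theorem s19_186 : Good C (vlist C) (v19 C) 3524 :=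
  good_seed C (f16337 C) 3524 [131, 163, 164, 178] (v18_mem C) (by decide +kernel) (by decide +kernel)

theorem s19_187 : Good C (vlist C) (v19 C) 1850 :=
  good_seed C (f17039 C) 1850 [134, 162, 170, 172] (v9_mem C) (by decide +kernel) (by decide +kernel)

theorem s19_188 : Good C (vlist C) (v19 C) 722 :=
  good_seed C (f15989 C) 722 [142, 159, 166, 173, 178] (v19_mem C) (by decide +kernel) (by decide +kernel)

theorem s19_189 : Good C (vlist C) (v19 C) 3056 :=
  good_seed C (f17381 C) 3056 [130, 156, 171] (v19_mem C) (by decide +kernel) (by decide +kernel)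

theorem s19_190 : Good C (vlist C) (v19 C) 2150 :=
  good_seed C (f16054 C) 2150 [128, 152, 167, 176, 177] (v15_mem C) (by decide +kernel) (by decide +kernel)

theorem s19_191 : Good C (vlist C) (v19 C) 3314 :=
  good_seed C (f15819 C) 3314 [139, 151, 167, 172, 178] (v18_mem C) (by decide +kernel) (by decide +kernel)

theorem s19_192 : Good C (vlist C) (v19 C) 562 :=
  good_seed C (f17140 C) 562 [129, 159, 165] (v18_mem C) (by decide +kernel) (by decide +kernel)

theorem s19_193 : Good C (vlist C) (v19 C) 1279 :=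
  good_seed C (f17220 C) 1279 [127, 165, 172, 178] (v19_mem C) (by decide +kernel) (by decide +kernel)

theorem s19_194 : Good C (vlist C) (v19 C) 629 :=
  good_seed C (f16917 C) 629 [143, 157, 164, 174, 178] (v19_mem C) (by decide +kernel) (by decide +kernel)

theorem s19_195 : Good C (vlist C) (v19 C) 605 :=
  good_seed C (f17326 C) 605 [147, 154, 168, 175] (v17_mem C) (by decide +kernel) (by decide +kernel)

theorem s19_196 : Good C (vlist C) (v19 C) 1097 :=
  good_seed C (f17388 C) 1097 [137, 157, 164, 175, 178] (v19_mem C) (by decide +kernel) (by decide +kernel)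

theorem s19_197 : Good C (vlist C) (v19 C) 3370 :=
  good_seed C (f16504 C) 3370 [126, 151, 166, 176, 177] (v19_mem C) (by decide +kernel) (by decide +kernel)

theorem s19_198 : Good C (vlist C) (v19 C) 3148 :=
  good_seed C (f15615 C) 3148 [135, 153, 168, 171, 177] (v17_mem C) (by decide +kernel) (by decide +kernel)

theorem s19_199 : Good C (vlist C) (v19 C) 3297 :=
  good_seed C (f16383 C) 3297 [132, 158, 167, 175, 177] (v15_mem C) (by decide +kernel) (by decide +kernel)

theorem s19_200 : Good C (vlist C) (v19 C) 668 :=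
  good_seed C (f17339 C) 668 [142, 149, 175] (v15_mem C) (by decide +kernel) (by decide +kernel)

theorem s19_201 : Good C (vlist C) (v19 C) 3333 :=
  good_seed C (f16040 C) 3333 [137, 159, 170, 176] (v18_mem C) (by decide +kernel) (by decide +kernel)

theorem s19_202 : Good C (vlist C) (v19 C) 1018 :=
  good_seed C (f17252 C) 1018 [136, 162, 170, 176, 178] (v19_mem C) (by decide +kernel) (by decide +kernel)

theorem s19_203 : Good C (vlist C) (v19 C) 676 :=
  good_seed C (f17317 C) 676 [141, 164, 174, 177] (v19_mem C) (by decide +kernel) (by decide +kernel)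

theorem s19_204 : Good C (vlist C) (v19 C) 3044 :=
  good_seed C (f17350 C) 3044 [145, 152, 164, 171, 177] (v19_mem C) (by decide +kernel) (by decide +kernel)

theorem s19_205 : Good C (vlist C) (v19 C) 1852 :=
  good_seed C (f16653 C) 1852 [131, 150, 168, 174, 177] (v4_mem C) (by decide +kernel) (by decide +kernel)

theorem s19_206 : Good C (vlist C) (v19 C) 1380 :=
  good_seed C (f16541 C) 1380 [138, 152, 170, 171, 178] (v18_mem C) (by decide +kernel) (by decide +kernel)

theorem s19_207 : Good C (vlist C) (v19 C) 1445 :=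
  good_seed C (f15908 C) 1445 [129, 154, 168, 176, 177] (v16_mem C) (by decide +kernel) (by decide +kernel)

theorem s19_208 : Good C (vlist C) (v19 C) 1357 :=
  good_seed C (f17293 C) 1357 [127, 158, 166, 171, 177] (v9_mem C) (by decide +kernel) (by decide +kernel)

theorem s19_209 : Good C (vlist C) (v19 C) 1917 :=
  good_seed C (f15927 C) 1917 [147, 163, 170, 173, 177] (v15_mem C) (by decide +kernel) (by decide +kernel)

theorem s19_210 : Good C (vlist C) (v19 C) 800 :=
  good_seed C (f17298 C) 800 [136, 159, 169, 172, 177] (v19_mem C) (by decide +kernel) (by decide +kernel)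

theorem s19_211 : Good C (vlist C) (v19 C) 1715 :=
  good_seed C (f17180 C) 1715 [129, 153, 167, 171, 177] (v19_mem C) (by decide +kernel) (by decide +kernel)

theorem s19_212 : Good C (vlist C) (v19 C) 1347 :=
  good_seed C (f15738 C) 1347 [139, 150, 165, 174] (v18_mem C) (by decide +kernel) (by decide +kernel)

theorem s19_213 : Good C (vlist C) (v19 C) 2313 :=
  good_seed C (f16674 C) 2313 [128, 163, 169, 171, 178] (v9_mem C) (by decide +kernel) (by decide +kernel)

theorem s19_214 : Good C (vlist C) (v19 C) 1383 :=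
  good_seed C (f16662 C) 1383 [143, 151, 164, 172] (v4_mem C) (by decide +kernel) (by decide +kernel)

theorem s19_215 : Good C (vlist C) (v19 C) 2590 :=
  good_seed C (f16795 C) 2590 [147, 156, 168, 176] (v15_mem C) (by decide +kernel) (by decide +kernel)

theorem s19_216 : Good C (vlist C) (v19 C) 3176 :=
  good_seed C (f17013 C) 3176 [133, 154, 175] (v10_mem C) (by decide +kernel) (by decide +kernel)

theorem s19_217 : Good C (vlist C) (v19 C) 2509 :=
  good_seed C (f16111 C) 2509 [135, 153, 170, 172, 178] (v17_mem C) (by decide +kernel) (by decide +kernel)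

/-- Seeds. -/
def seedsPart19_0 : List ℕ := [0, 2721, 890, 2971, 3164, 3007, 3201, 8, 3041, 1632, 3685, 3605, 2065, 15, 3464, 2567, 2267, 1736, 2396, 3109, 539, 2897, 1155, 3156, 2403]

theorem seeds19_0 : ∀ k ∈ seedsPart19_0, Good C (vlist C) (v19 C) k := by
  simp only [seedsPart19_0, List.forall_mem_cons, List.not_mem_nil, IsEmpty.forall_iff, implies_true, and_true]
  exact ⟨s19_0 C, s19_1 C, s19_2 C, s19_3 C, s19_4 C, s19_5 C, s19_6 C, s19_7 C, s19_8 C, s19_9 C, s19_10 C, s19_11 C, s19_12 C, s19_13 C, s19_14 C, s19_15 C, s19_16 C, s19_17 C, s19_18 C, s19_19 C, s19_20 C, s19_21 C, s19_22 C, s19_23 C, s19_24 C⟩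

/-- Seeds. -/
def seedsPart19_1 : List ℕ := [3514, 1202, 2071, 1537, 734, 1065, 1480, 3005, 2168, 1294, 2772, 1474, 1143, 2494, 3395, 543, 280, 3133, 854, 3621, 2270, 977, 2056, 2381, 3168]

theorem seeds19_1 : ∀ k ∈ seedsPart19_1, Good C (vlist C) (v19 C) k := by
  simp only [seedsPart19_1, List.forall_mem_cons, List.not_mem_nil, IsEmpty.forall_iff, implies_true, and_true]
  exact ⟨s19_25 C, s19_26 C, s19_27 C, s19_28 C, s19_29 C, s19_30 C, s19_31 C, s19_32 C, s19_33 C, s19_34 C, s19_35 C, s19_36 C, s19_37 C, s19_38 C, s19_39 C, s19_40 C, s19_41 C, s19_42 C, s19_43 C, s19_44 C, s19_45 C, s19_46 C, s19_47 C, s19_48 C, s19_49 C⟩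

/-- Seeds. -/
def seedsPart19_2 : List ℕ := [2116, 67, 1326, 3613, 250, 2586, 2487, 2646, 1751, 877, 1390, 2472, 84, 2562, 1885, 1247, 3437, 2365, 1677, 794, 1607, 1108, 1618, 106, 108]

theorem seeds19_2 : ∀ k ∈ seedsPart19_2, Good C (vlist C) (v19 C) k := by
  simp only [seedsPart19_2, List.forall_mem_cons, List.not_mem_nil, IsEmpty.forall_iff, implies_true, and_true]
  exact ⟨s19_50 C, s19_51 C, s19_52 C, s19_53 C, s19_54 C, s19_55 C, s19_56 C, s19_57 C, s19_58 C, s19_59 C, s19_60 C, s19_61 C, s19_62 C, s19_63 C, s19_64 C, s19_65 C, s19_66 C, s19_67 C, s19_68 C, s19_69 C, s19_70 C, s19_71 C, s19_72 C, s19_73 C, s19_74 C⟩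

/-- Seeds. -/
def seedsPart19_3 : List ℕ := [1180, 596, 728, 3092, 1120, 2271, 1353, 3651, 1017, 398, 2164, 612, 1983, 1534, 2934, 314, 708, 1972, 1671, 1851, 3140, 991, 2444, 2510, 2935]

theorem seeds19_3 : ∀ k ∈ seedsPart19_3, Good C (vlist C) (v19 C) k := by
  simp only [seedsPart19_3, List.forall_mem_cons, List.not_mem_nil, IsEmpty.forall_iff, implies_true, and_true]
  exact ⟨s19_75 C, s19_76 C, s19_77 C, s19_78 C, s19_79 C, s19_80 C, s19_81 C, s19_82 C, s19_83 C, s19_84 C, s19_85 C, s19_86 C, s19_87 C, s19_88 C, s19_89 C, s19_90 C, s19_91 C, s19_92 C, s19_93 C, s19_94 C, s19_95 C, s19_96 C, s19_97 C, s19_98 C, s19_99 C⟩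

/-- Seeds. -/
def seedsPart19_4 : List ℕ := [158, 1334, 160, 1571, 2546, 1003, 3090, 2262, 1179, 1345, 1841, 2906, 2619, 939, 2407, 3557, 2409, 245, 2341, 1843, 2199, 367, 988, 1363, 3045]

theorem seeds19_4 : ∀ k ∈ seedsPart19_4, Good C (vlist C) (v19 C) k := by
  simp only [seedsPart19_4, List.forall_mem_cons, List.not_mem_nil, IsEmpty.forall_iff, implies_true, and_true]
  exact ⟨s19_100 C, s19_101 C, s19_102 C, s19_103 C, s19_104 C, s19_105 C, s19_106 C, s19_107 C, s19_108 C, s19_109 C, s19_110 C, s19_111 C, s19_112 C, s19_113 C, s19_114 C, s19_115 C, s19_116 C, s19_117 C, s19_118 C, s19_119 C, s19_120 C, s19_121 C, s19_122 C, s19_123 C, s19_124 C⟩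

/-- Seeds. -/
def seedsPart19_5 : List ℕ := [1904, 1911, 3494, 1790, 2974, 805, 2779, 587, 1657, 732, 2170, 3709, 2207, 2817, 2542, 3185, 3217, 2387, 863, 561, 1078, 1729, 370, 1630, 3413]

theorem seeds19_5 : ∀ k ∈ seedsPart19_5, Good C (vlist C) (v19 C) k := by
  simp only [seedsPart19_5, List.forall_mem_cons, List.not_mem_nil, IsEmpty.forall_iff, implies_true, and_true]
  exact ⟨s19_125 C, s19_126 C, s19_127 C, s19_128 C, s19_129 C, s19_130 C, s19_131 C, s19_132 C, s19_133 C, s19_134 C, s19_135 C, s19_136 C, s19_137 C, s19_138 C, s19_139 C, s19_140 C, s19_141 C, s19_142 C, s19_143 C, s19_144 C, s19_145 C, s19_146 C, s19_147 C, s19_148 C, s19_149 C⟩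

/-- Seeds. -/
def seedsPart19_6 : List ℕ := [3245, 1339, 3340, 3426, 730, 2918, 2795, 1591, 450, 3472, 2884, 1644, 565, 2847, 1513, 1136, 884, 374, 1535, 2815, 1035, 2969, 3294, 2640, 2420]

theorem seeds19_6 : ∀ k ∈ seedsPart19_6, Good C (vlist C) (v19 C) k := by
  simp only [seedsPart19_6, List.forall_mem_cons, List.not_mem_nil, IsEmpty.forall_iff, implies_true, and_true]
  exact ⟨s19_150 C, s19_151 C, s19_152 C, s19_153 C, s19_154 C, s19_155 C, s19_156 C, s19_157 C, s19_158 C, s19_159 C, s19_160 C, s19_161 C, s19_162 C, s19_163 C, s19_164 C, s19_165 C, s19_166 C, s19_167 C, s19_168 C, s19_169 C, s19_170 C, s19_171 C, s19_172 C, s19_173 C, s19_174 C⟩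

/-- Seeds. -/
def seedsPart19_7 : List ℕ := [1486, 1208, 1052, 1191, 3506, 492, 2022, 1092, 795, 483, 1552, 3524, 1850, 722, 3056, 2150, 3314, 562, 1279, 629, 605, 1097, 3370, 3148, 3297]

theorem seeds19_7 : ∀ k ∈ seedsPart19_7, Good C (vlist C) (v19 C) k := by
  simp only [seedsPart19_7, List.forall_mem_cons, List.not_mem_nil, IsEmpty.forall_iff, implies_true, and_true]
  exact ⟨s19_175 C, s19_176 C, s19_177 C, s19_178 C, s19_179 C, s19_180 C, s19_181 C, s19_182 C, s19_183 C, s19_184 C, s19_185 C, s19_186 C, s19_187 C, s19_188 C, s19_189 C, s19_190 C, s19_191 C, s19_192 C, s19_193 C, s19_194 C, s19_195 C, s19_196 C, s19_197 C, s19_198 C, s19_199 C⟩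

/-- Seeds. -/
def seedsPart19_8 : List ℕ := [668, 3333, 1018, 676, 3044, 1852, 1380, 1445, 1357, 1917, 800, 1715, 1347, 2313, 1383, 2590, 3176, 2509]

theorem seeds19_8 : ∀ k ∈ seedsPart19_8, Good C (vlist C) (v19 C) k := by
  simp only [seedsPart19_8, List.forall_mem_cons, List.not_mem_nil, IsEmpty.forall_iff, implies_true, and_true]
  exact ⟨s19_200 C, s19_201 C, s19_202 C, s19_203 C, s19_204 C, s19_205 C, s19_206 C, s19_207 C, s19_208 C, s19_209 C, s19_210 C, s19_211 C, s19_212 C, s19_213 C, s19_214 C, s19_215 C, s19_216 C, s19_217 C⟩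

/-- The seeds, first group. -/
def seedsUpTo19_0 : List ℕ := seedsPart19_0

theorem upTo19_0 : ∀ k ∈ seedsUpTo19_0, Good C (vlist C) (v19 C) k := seeds19_0 C

/-- The seeds, first groups. -/
def seedsUpTo19_1 : List ℕ := seedsUpTo19_0 ++ seedsPart19_1

theorem upTo19_1 : ∀ k ∈ seedsUpTo19_1, Good C (vlist C) (v19 C) k :=
  List.forall_mem_append.2 ⟨upTo19_0 C, seeds19_1 C⟩

/-- The seeds, first groups. -/
def seedsUpTo19_2 : List ℕ := seedsUpTo19_1 ++ seedsPart19_2

theorem upTo19_2 : ∀ k ∈ seedsUpTo19_2, Good C (vlist C) (v19 C) k :=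
  List.forall_mem_append.2 ⟨upTo19_1 C, seeds19_2 C⟩

/-- The seeds, first groups. -/
def seedsUpTo19_3 : List ℕ := seedsUpTo19_2 ++ seedsPart19_3

theorem upTo19_3 : ∀ k ∈ seedsUpTo19_3, Good C (vlist C) (v19 C) k :=
  List.forall_mem_append.2 ⟨upTo19_2 C, seeds19_3 C⟩

/-- The seeds, first groups. -/
def seedsUpTo19_4 : List ℕ := seedsUpTo19_3 ++ seedsPart19_4

theorem upTo19_4 : ∀ k ∈ seedsUpTo19_4, Good C (vlist C) (v19 C) k :=
  List.forall_mem_append.2 ⟨upTo19_3 C, seeds19_4 C⟩

/-- The seeds, first groups. -/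
def seedsUpTo19_5 : List ℕ := seedsUpTo19_4 ++ seedsPart19_5

theorem upTo19_5 : ∀ k ∈ seedsUpTo19_5, Good C (vlist C) (v19 C) k :=
  List.forall_mem_append.2 ⟨upTo19_4 C, seeds19_5 C⟩

/-- The seeds, first groups. -/
def seedsUpTo19_6 : List ℕ := seedsUpTo19_5 ++ seedsPart19_6

theorem upTo19_6 : ∀ k ∈ seedsUpTo19_6, Good C (vlist C) (v19 C) k :=
  List.forall_mem_append.2 ⟨upTo19_5 C, seeds19_6 C⟩

/-- The seeds, first groups. -/
def seedsUpTo19_7 : List ℕ := seedsUpTo19_6 ++ seedsPart19_7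

theorem upTo19_7 : ∀ k ∈ seedsUpTo19_7, Good C (vlist C) (v19 C) k :=
  List.forall_mem_append.2 ⟨upTo19_6 C, seeds19_7 C⟩

/-- The seeds, first groups. -/
def seedsUpTo19_8 : List ℕ := seedsUpTo19_7 ++ seedsPart19_8

theorem upTo19_8 : ∀ k ∈ seedsUpTo19_8, Good C (vlist C) (v19 C) k :=
  List.forall_mem_append.2 ⟨upTo19_7 C, seeds19_8 C⟩

/-- The seeds of vertex 19. -/
def seeds19 : List ℕ := seedsUpTo19_8

theorem seeds19_good : ∀ k ∈ seeds19, Good C (vlist C) (v19 C) k := upTo19_8 C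

/-- Generators fixing vertex 19. -/
def gens19 : List (List ℕ × ℕ) := [
  ([12, 29, 63, 103, 119], 0xbaab3a4890409ac2d80f199713b829),
  ([15, 43, 63, 73, 105, 109, 112], 0xb5de89ca30ab9a0590b41192a09c6c),
  ([12, 45, 53, 87, 97, 109, 124], 0x19df4ac03245da063973898a2512c9)]

theorem gens19_fix : ∀ g ∈ gens19, C.S (v19 C) g.1 := by
  simp only [gens19, List.forall_mem_cons, List.not_mem_nil, IsEmpty.forall_iff, implies_true, and_true]
  exact ⟨f15540 C, f15685 C, f15843 C⟩

theorem gens19_ok : (gens19.all fun g => genOk g.1 g.2) = true := by decide +kernel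

/-- Steps. -/
def rows19_0 : List (ℕ × ℕ × ℕ × ℕ) := [(0, 1, 206, 228), (0, 2, 1160, 201), (2721, 1, 2151, 228), (2721, 2, 846, 216), (890, 0, 2, 198), (890, 1, 2457, 210), (890, 2, 3400, 198), (2971, 0, 601, 225), (2971, 1, 1508, 228), (2971, 2, 2131, 225), (3164, 0, 509, 198), (3164, 1, 37, 228), (3164, 2, 98, 216), (3007, 0, 7, 216), (3007, 1, 2410, 201), (3007, 2, 850, 228), (3201, 1, 1522, 210), (3201, 2, 3384, 198), (8, 0, 942, 198), (8, 1, 85, 228), (8, 2, 69, 216), (3041, 0, 1910, 216), (3041, 1, 9, 228), (3041, 2, 1719, 216), (1632, 1, 2602, 228), (1632, 2, 2824, 216), (3685, 0, 3729, 225), (3685, 1, 1567, 225), (3685, 2, 1951, 228), (3605, 0, 2439, 216), (3605, 1, 25, 216), (3605, 2, 81, 225), (2065, 0, 1013, 225), (2065, 1, 3129, 201), (2065, 2, 1210, 216), (15, 1, 2343, 210), (15, 2, 2818, 225), (3464, 0, 59, 210), (3464, 1, 2005, 216), (3464, 2, 68, 201), (2567, 0, 17, 216), (2567, 1, 196, 216), (2567, 2, 536, 198), (2267, 0, 2543, 228), (2267, 1, 18, 228),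 (2267, 2, 2730, 198), (1736, 0, 2251, 228), (1736, 1, 1909, 228), (1736, 2, 1243, 225), (2396, 0, 3762, 216), (2396, 1, 3326, 225), (2396, 2, 3624, 216), (3109, 0, 23, 228), (3109, 1, 265, 201), (3109, 2, 3268, 198), (539, 0, 2531, 216), (539, 1, 1050, 216), (539, 2, 1921, 198), (2897, 0, 2252, 201), (2897, 1, 1643, 228), (2897, 2, 26, 201), (1155, 1, 27, 216), (1155, 2, 1378, 198), (3156, 0, 702, 201), (3156, 1, 3240, 201), (3156, 2, 1305, 216), (2403, 0, 1936, 216), (2403, 1, 2211, 225), (2403, 2, 3418, 216), (3514, 0, 1559, 198), (3514, 1, 3414, 228), (3514, 2, 1375, 198), (1202, 0, 2783, 216), (1202, 1, 1162, 228), (1202, 2, 3017, 201), (2071, 0, 2626, 225), (2071, 1, 1975, 201), (2071, 2, 2335, 228), (1537, 0, 336, 210), (1537, 1, 1056, 225), (1537, 2, 1680, 228), (734, 0, 2617, 201), (734, 1, 35, 228), (734, 2, 2714, 210), (1065, 0, 3735, 216), (1065, 1, 2613, 210), (1065, 2, 2278, 228), (1480, 0, 2866, 225), (1480, 1, 914, 201), (1480, 2, 80, 198), (3005, 0, 416,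 210), (3005, 1, 442, 210), (3005, 2, 1636, 210), (2168, 0, 3298, 228), (2168, 1, 1958, 225), (2168, 2, 1628, 198), (1294, 0, 3075, 216), (1294, 1, 3353, 198), (1294, 2, 42, 216), (2772, 1, 999, 198), (2772, 2, 3292, 198), (1474, 0, 1369, 198), (1474, 1, 1824, 210), (1474, 2, 45, 228), (1143, 0, 1115, 210), (1143, 1, 46, 198), (1143, 2, 2370, 210), (2494, 0, 2762, 216), (2494, 1, 906, 210), (2494, 2, 1104, 201), (3395, 0, 50, 228), (3395, 1, 1634, 198), (3395, 2, 525, 225), (543, 0, 1995, 201), (543, 1, 3059, 201), (543, 2, 3639, 216), (280, 0, 2988, 228), (280, 1, 1916, 225), (280, 2, 229, 216), (3133, 0, 1439, 228), (3133, 1, 1603, 210), (3133, 2, 1816, 198), (854, 0, 684, 228), (854, 1, 1862, 201), (854, 2, 340, 228), (3621, 1, 2481, 228), (3621, 2, 276, 225), (2270, 0, 60, 216), (2270, 1, 2276, 225), (2270, 2, 1890, 201), (977, 0, 1726, 201), (977, 1, 1494, 201), (977, 2, 1848, 225), (2056, 0, 2388, 201), (2056, 1, 138, 225), (2056, 2, 1651, 228), (2381, 0, 1543,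 225), (2381, 1, 63, 201), (2381, 2, 1417, 198), (3168, 0, 1236, 216), (3168, 1, 1311, 228), (3168, 2, 727, 216), (2116, 0, 2149, 201), (2116, 1, 1991, 216), (2116, 2, 981, 201), (67, 0, 3257, 216), (67, 1, 2209, 210), (67, 2, 3545, 225), (1326, 0, 632, 225), (1326, 1, 913, 225), (1326, 2, 272, 210), (3613, 0, 755, 225), (3613, 1, 1905, 201), (3613, 2, 71, 225), (250, 0, 1084, 198), (250, 1, 883, 198), (250, 2, 3401, 216), (2586, 0, 2981, 198), (2586, 1, 75, 228), (2586, 2, 3097, 225), (2487, 0, 1418, 216), (2487, 1, 2523, 228), (2487, 2, 811, 201), (2646, 0, 3118, 198), (2646, 1, 2950, 225), (2646, 2, 2011, 225), (1751, 0, 599, 216), (1751, 1, 2036, 225), (1751, 2, 2438, 225), (877, 1, 366, 216), (877, 2, 1010, 228), (1390, 0, 82, 201), (1390, 1, 507, 225), (1390, 2, 822, 216), (2472, 0, 2060, 201), (2472, 1, 3283, 210), (2472, 2, 425, 201), (84, 0, 317, 225), (84, 1, 744, 198), (84, 2, 2869, 228), (2562, 0, 845, 216), (2562, 1, 1016, 225), (2562, 2, 564, 225), (1885,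 0, 1953, 210), (1885, 1, 3428, 216), (1885, 2, 1192, 201), (1247, 0, 2573, 201), (1247, 1, 1606, 201), (1247, 2, 1923, 225), (3437, 0, 1154, 201), (3437, 1, 369, 198), (3437, 2, 2159, 225), (2365, 0, 3446, 210), (2365, 1, 290, 198), (2365, 2, 1426, 198), (1677, 0, 1456, 225), (1677, 1, 1701, 225), (1677, 2, 3776, 198), (794, 0, 821, 201), (794, 1, 1982, 198), (794, 2, 1075, 225), (1607, 0, 3273, 228), (1607, 1, 497, 216), (1607, 2, 827, 225), (1108, 0, 783, 201), (1108, 1, 2595, 225), (1108, 2, 3407, 228), (1618, 0, 2307, 216), (1618, 1, 1274, 201), (1618, 2, 103, 198), (106, 1, 1299, 228), (106, 2, 2066, 228), (108, 0, 875, 228), (108, 1, 2127, 216), (108, 2, 839, 228), (1180, 0, 3538, 225), (1180, 1, 880, 201), (1180, 2, 573, 228), (596, 0, 2799, 228), (596, 1, 1071, 225), (596, 2, 3274, 225), (728, 0, 3295, 198), (728, 1, 3611, 216), (728, 2, 762, 210), (3092, 0, 2898, 216), (3092, 1, 1379, 225), (3092, 2, 3351, 198), (1120, 0, 2985, 201), (1120, 1, 115, 216), (1120,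 2, 2258, 228), (2271, 0, 772, 210), (2271, 1, 2042, 198), (2271, 2, 1184, 201), (1353, 0, 2162, 210), (1353, 1, 3434, 198), (1353, 2, 3410, 198), (3651, 0, 2874, 228), (3651, 1, 859, 225), (3651, 2, 312, 216), (1017, 0, 1673, 198), (1017, 1, 1080, 228), (1017, 2, 2033, 201), (398, 0, 124, 228), (398, 1, 1918, 228), (398, 2, 1897, 225), (2164, 0, 2424, 210), (2164, 1, 3094, 210), (2164, 2, 1694, 228), (612, 0, 181, 225), (612, 1, 2463, 198)]

/-- Steps. -/
def rows19_1 : List (ℕ × ℕ × ℕ × ℕ) := [(612, 2, 2790, 216), (1983, 0, 888, 201), (1983, 1, 346, 198), (1983, 2, 3730, 216), (1534, 0, 2843, 225), (1534, 1, 3626, 201), (1534, 2, 2724, 225), (2934, 0, 2923, 210), (2934, 1, 1561, 228), (2934, 2, 1229, 198), (314, 0, 477, 225), (314, 1, 1613, 228), (314, 2, 1413, 225), (708, 0, 1182, 201), (708, 1, 180, 216), (708, 2, 622, 216), (1972, 1, 2983, 216), (1972, 2, 733, 216), (1671, 1, 2752, 216), (1671, 2, 2715, 201), (1851, 0, 3573, 201), (1851, 1, 486, 210), (1851, 2, 2287,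 225), (3140, 0, 451, 225), (3140, 1, 951, 210), (3140, 2, 146, 198), (991, 0, 2947, 216), (991, 1, 1946, 225), (991, 2, 1602, 210), (2444, 0, 3106, 228), (2444, 1, 151, 216), (2444, 2, 2746, 210), (2510, 0, 2528, 216), (2510, 1, 3550, 198), (2510, 2, 421, 210), (2935, 0, 1725, 201), (2935, 1, 1532, 210), (2935, 2, 154, 225), (158, 0, 1642, 198), (158, 1, 1348, 228), (158, 2, 3581, 228), (1334, 0, 2522, 216), (1334, 1, 1499, 228), (1334, 2, 1855, 216), (160, 0, 426, 228), (160, 1, 901, 198), (160, 2, 2825, 198), (1571, 0, 1928, 216), (1571, 1, 1714, 198), (1571, 2, 779, 225), (2546, 0, 2449, 210), (2546, 1, 2371, 201), (2546, 2, 743, 216), (1003, 0, 3114, 201), (1003, 1, 915, 201), (1003, 2, 723, 225), (3090, 0, 2377, 216), (3090, 1, 271, 216), (3090, 2, 750, 225), (2262, 0, 2707, 225), (2262, 1, 472, 225), (2262, 2, 1563, 225), (1179, 0, 1435, 198), (1179, 1, 2217, 198), (1179, 2, 1298, 225), (1345, 0, 2338, 198), (1345, 1, 357, 201), (1345, 2, 1861, 210), (1841, 0,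 1410, 198), (1841, 1, 1716, 225), (1841, 2, 3286, 201), (2906, 0, 665, 228), (2906, 1, 1697, 198), (2906, 2, 3492, 198), (2619, 0, 174, 210), (2619, 1, 1304, 198), (2619, 2, 2984, 216), (939, 0, 2076, 228), (939, 1, 1053, 216), (939, 2, 176, 225), (2407, 0, 2949, 228), (2407, 1, 3337, 216), (2407, 2, 446, 210), (3557, 1, 3691, 225), (3557, 2, 1398, 198), (2409, 0, 3186, 201), (2409, 1, 183, 201), (2409, 2, 2651, 216), (245, 0, 184, 216), (245, 1, 214, 216), (245, 2, 1646, 216), (2341, 0, 710, 210), (2341, 1, 908, 225), (2341, 2, 1352, 210), (1843, 0, 1107, 210), (1843, 1, 449, 225), (1843, 2, 1518, 210), (2199, 0, 3777, 201), (2199, 1, 1186, 201), (2199, 2, 3657, 225), (367, 0, 394, 228), (367, 1, 2298, 216), (367, 2, 927, 201), (988, 0, 2416, 210), (988, 1, 1531, 228), (988, 2, 3462, 198), (1363, 1, 2254, 198), (1363, 2, 2901, 198), (3045, 0, 201, 216), (3045, 1, 3726, 216), (3045, 2, 3282, 198), (1904, 0, 3702, 216), (1904, 1, 2896, 228), (1904, 2, 3537, 201), (1911,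 0, 203, 201), (1911, 1, 660, 198), (1911, 2, 3566, 210), (3494, 0, 2499, 225), (3494, 1, 903, 216), (3494, 2, 3233, 201), (1790, 0, 891, 216), (1790, 1, 3721, 198), (1790, 2, 207, 225), (2974, 0, 1216, 225), (2974, 1, 1959, 210), (2974, 2, 1127, 228), (805, 0, 3433, 216), (805, 1, 2780, 201), (805, 2, 209, 228), (2779, 0, 3191, 225), (2779, 1, 1040, 198), (2779, 2, 212, 216), (587, 0, 517, 216), (587, 1, 3250, 228), (587, 2, 2048, 201), (1657, 1, 475, 210), (1657, 2, 2235, 210), (732, 0, 3076, 198), (732, 1, 221, 216), (732, 2, 324, 201), (2170, 0, 2753, 228), (2170, 1, 2451, 198), (2170, 2, 2090, 228), (3709, 0, 3052, 210), (3709, 1, 1633, 198), (3709, 2, 1605, 210), (2207, 0, 2219, 225), (2207, 2, 231, 225), (2817, 0, 3219, 216), (2817, 1, 2105, 216), (2817, 2, 1684, 198), (2542, 0, 1137, 228), (2542, 1, 998, 198), (2542, 2, 1866, 225), (3185, 0, 3742, 198), (3185, 1, 3784, 198), (3185, 2, 392, 210), (3217, 1, 2210, 198), (3217, 2, 1362, 228), (2387, 0, 1858, 201),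 (2387, 1, 3753, 210), (2387, 2, 3280, 216), (863, 0, 3112, 201), (863, 1, 2464, 228), (863, 2, 406, 216), (561, 0, 973, 201), (561, 1, 876, 201), (561, 2, 3276, 198), (1078, 0, 682, 201), (1078, 1, 3416, 216), (1078, 2, 789, 198), (1729, 0, 273, 198), (1729, 1, 790, 201), (1729, 2, 2184, 198), (370, 0, 1234, 198), (370, 1, 2621, 228), (370, 2, 3513, 228), (1630, 0, 1336, 198), (1630, 1, 542, 210), (1630, 2, 1487, 216), (3413, 0, 360, 198), (3413, 1, 3533, 201), (3413, 2, 559, 228), (3245, 0, 1777, 210), (3245, 1, 963, 216), (3245, 2, 3411, 216), (1339, 0, 339, 201), (1339, 1, 633, 228), (1339, 2, 911, 228), (3340, 0, 440, 198), (3340, 1, 308, 210), (3340, 2, 1264, 216), (3426, 0, 3220, 201), (3426, 1, 2808, 198), (3426, 2, 3360, 216), (730, 0, 1712, 201), (730, 1, 380, 210), (730, 2, 935, 225), (2918, 0, 1566, 201), (2918, 1, 1864, 216), (2918, 2, 2295, 210), (2795, 1, 2454, 210), (2795, 2, 1230, 216), (1591, 0, 2823, 210), (1591, 1, 460, 225), (1591, 2, 453, 201), (450,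 1, 3187, 216), (450, 2, 3612, 198), (3472, 0, 2197, 210), (3472, 1, 2679, 201), (3472, 2, 3421, 198), (2884, 0, 2455, 216), (2884, 1, 1500, 210), (2884, 2, 1006, 216), (1644, 0, 1282, 210), (1644, 1, 2693, 225), (1644, 2, 3589, 228), (565, 0, 1111, 225), (565, 1, 333, 216), (565, 2, 2063, 228), (2847, 0, 2826, 201), (2847, 1, 1360, 225), (2847, 2, 3366, 228), (1513, 0, 3727, 201), (1513, 1, 488, 228), (1513, 2, 716, 210), (1136, 0, 3585, 198), (1136, 1, 3553, 210), (1136, 2, 2863, 216), (884, 0, 657, 210), (884, 1, 1091, 225), (884, 2, 364, 198), (374, 0, 2431, 228), (374, 1, 2670, 225), (374, 2, 2160, 201), (1535, 0, 2462, 228), (1535, 1, 381, 198), (1535, 2, 579, 201), (2815, 0, 2692, 198), (2815, 1, 1661, 228), (2815, 2, 1284, 225), (1035, 0, 1758, 228), (1035, 1, 390, 228), (1035, 2, 3038, 201), (2969, 0, 1971, 198), (2969, 1, 3121, 228), (2969, 2, 1129, 210), (3294, 0, 3493, 210), (3294, 1, 1346, 210), (3294, 2, 1170, 216)]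

/-- Steps. -/
def rows19_2 : List (ℕ × ℕ × ℕ × ℕ) := [(2640, 0, 404, 216), (2640, 1, 3369, 225), (2640, 2, 1444, 225), (2420, 0, 1669, 225), (2420, 1, 2541, 210), (2420, 2, 2607, 216), (1486, 0, 1879, 225), (1486, 1, 1536, 225), (1486, 2, 1835, 225), (1208, 1, 412, 198), (1208, 2, 2068, 216), (1052, 0, 3374, 216), (1052, 1, 2121, 198), (1052, 2, 1967, 228), (1191, 0, 2426, 216), (1191, 1, 3342, 210), (1191, 2, 1125, 201), (3506, 0, 2669, 201), (3506, 1, 624, 198), (3506, 2, 3043, 210), (492, 0, 2213, 210), (492, 1, 2165, 228), (492, 2, 3113, 210), (2022, 0, 3412, 228), (2022, 1, 777, 210), (2022, 2, 3204, 216), (1092, 0, 1865, 216), (1092, 1, 2742, 198), (1092, 2, 3508, 210), (795, 0, 3272, 216), (795, 1, 1415, 210), (795, 2, 482, 225), (483, 0, 3767, 228), (483, 1, 2031, 216), (483, 2, 2729, 210), (1552, 0, 870, 198), (1552, 1, 2352, 228), (1552, 2, 3321, 198), (3524, 0, 2592, 228), (3524, 1, 742, 216), (3524, 2, 496, 225), (1850, 0, 1469, 216), (1850, 1, 3587, 198),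 (1850, 2, 516, 216), (722, 0, 1770, 216), (722, 1, 2249, 228), (722, 2, 2961, 210), (3056, 0, 528, 216), (3056, 1, 3671, 225), (2150, 0, 3764, 198), (2150, 1, 3458, 228), (2150, 2, 2486, 201), (3314, 0, 3312, 228), (3314, 1, 3404, 201), (3314, 2, 3601, 201), (562, 0, 1510, 201), (562, 1, 2806, 198), (562, 2, 541, 228), (1279, 0, 1088, 210), (1279, 1, 3734, 228), (1279, 2, 1685, 198), (629, 0, 2446, 210), (629, 1, 2864, 216), (629, 2, 600, 225), (605, 1, 842, 210), (605, 2, 3066, 201), (1097, 1, 1396, 216), (1097, 2, 3495, 228), (3370, 0, 2535, 210), (3370, 1, 2601, 216), (3370, 2, 2275, 201), (3148, 0, 2392, 216), (3148, 1, 2633, 216), (3148, 2, 3634, 210), (3297, 0, 3223, 228), (3297, 1, 3700, 210), (3297, 2, 1707, 210), (668, 0, 2829, 225), (668, 2, 769, 228), (3333, 0, 1241, 210), (3333, 1, 3672, 210), (3333, 2, 1826, 225), (1018, 0, 1932, 210), (1018, 1, 865, 216), (1018, 2, 1268, 210), (676, 0, 1141, 210), (676, 1, 3679, 198), (3044, 0, 774, 225), (3044, 1, 3442,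 210), (3044, 2, 3531, 198), (1852, 1, 3683, 225), (1852, 2, 1032, 198), (1380, 0, 2104, 228), (1380, 1, 3202, 228), (1380, 2, 1906, 225), (1445, 0, 2940, 216), (1445, 1, 2789, 228), (1445, 2, 3746, 198), (1357, 1, 3716, 216), (1357, 2, 1356, 198), (1917, 0, 2035, 216), (1917, 1, 1773, 198), (1917, 2, 972, 225), (800, 0, 3486, 210), (800, 1, 2711, 198), (1715, 0, 960, 216), (1715, 1, 3571, 210), (1347, 0, 1973, 210), (1347, 1, 979, 216), (1347, 2, 1690, 225), (2313, 0, 3474, 228), (2313, 2, 3307, 216), (1383, 0, 1019, 225), (1383, 1, 2748, 216), (1383, 2, 2539, 216), (2590, 0, 3241, 216), (2590, 1, 1228, 198), (2590, 2, 3662, 225), (3176, 0, 2240, 198), (3176, 1, 3430, 210), (3176, 2, 1805, 225), (2509, 0, 2172, 216), (2509, 1, 2505, 216), (2509, 2, 2084, 210), (206, 0, 1683, 228), (206, 2, 3396, 225), (1160, 0, 3006, 225), (2151, 0, 2667, 198), (2151, 2, 2881, 201), (846, 0, 1, 228), (2, 1, 2614, 225), (2, 2, 55, 198), (2457, 0, 12, 210), (2457, 2, 2676, 228), (3400,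 0, 2029, 201), (3400, 2, 1473, 201), (601, 1, 588, 216), (601, 2, 3377, 201), (1508, 0, 1367, 216), (1508, 2, 3629, 225), (2131, 0, 2504, 216), (2131, 2, 2660, 198), (509, 1, 3432, 225), (509, 2, 3766, 216), (37, 0, 3551, 198), (37, 2, 2537, 225), (98, 0, 2708, 225), (98, 2, 2067, 201), (7, 1, 66, 210), (7, 2, 235, 216), (2410, 0, 391, 198), (2410, 2, 554, 216), (850, 0, 5, 225), (850, 2, 2812, 228), (1522, 0, 2839, 210), (1522, 2, 566, 216), (3384, 0, 3104, 216), (942, 1, 833, 216), (942, 2, 2351, 201), (85, 0, 1939, 201), (85, 2, 303, 198), (69, 0, 3680, 216), (69, 2, 818, 210), (1910, 1, 1988, 228), (1910, 2, 595, 210), (9, 0, 2008, 201), (9, 2, 3227, 216), (1719, 0, 2233, 201), (1719, 2, 2771, 198), (2602, 0, 10, 228), (2602, 2, 3772, 201), (2824, 0, 1101, 216), (3729, 1, 2488, 201), (3729, 2, 499, 201), (1567, 0, 709, 216), (1567, 2, 38, 228), (1951, 0, 285, 210), (1951, 2, 2118, 225), (2439, 1, 2475, 201), (2439, 2, 2776, 228), (25, 0, 31, 198), (25, 2, 74, 225),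 (81, 0, 1819, 225), (81, 2, 1893, 210), (1013, 1, 2119, 198), (1013, 2, 1164, 228), (3129, 0, 14, 210), (3129, 2, 484, 228), (1210, 0, 1822, 198), (1210, 2, 2025, 210), (2343, 0, 2647, 201), (2343, 2, 1740, 225), (2818, 0, 2939, 210), (59, 1, 3648, 225), (59, 2, 3647, 201), (2005, 0, 2599, 201), (2005, 2, 3658, 228), (68, 0, 266, 216), (68, 2, 16, 216), (17, 1, 107, 198), (17, 2, 2044, 201), (196, 2, 1324, 225), (536, 2, 775, 216), (2543, 1, 1283, 225), (2543, 2, 1731, 198), (18, 0, 1267, 228), (18, 2, 2096, 198), (2730, 0, 407, 210), (2730, 2, 1974, 198), (2251, 1, 797, 228), (2251, 2, 2726, 216), (1909, 0, 1857, 228), (1909, 2, 19, 201), (1243, 0, 2678, 225), (1243, 2, 1771, 198), (3762, 1, 22, 201), (3762, 2, 1753, 228), (3326, 0, 878, 225), (3326, 2, 3704, 201), (3624, 0, 2308, 228), (3624, 2, 2208, 210), (23, 1, 2681, 201), (23, 2, 2051, 216), (265, 0, 3361, 198), (265, 2, 3542, 228), (3268, 0, 122, 216), (3268, 2, 1608, 216), (2531, 1, 1664, 228), (2531, 2, 989,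 198), (1050, 0, 1519, 198), (1050, 2, 170, 225), (1921, 0, 1786, 228), (1921, 2, 3600, 198), (2252, 1, 2442, 210), (2252, 2, 2856, 198), (1643, 2, 2061, 225), (26, 2, 338, 210), (27, 0, 1745, 201), (27, 2, 3387, 210), (1378, 0, 2978, 225), (702, 1, 1199, 225), (702, 2, 2654, 225), (3240, 0, 2050, 198), (3240, 2, 1966, 216), (1305, 0, 1172, 201), (1305, 2, 2989, 198), (1936, 1, 909, 198), (1936, 2, 3693, 201), (2211, 0, 2000, 201), (2211, 2, 29, 228)]

/-- Steps. -/
def rows19_3 : List (ℕ × ℕ × ℕ × ℕ) := [(3418, 0, 2763, 216), (3418, 2, 1869, 198), (1559, 1, 1462, 198), (1559, 2, 43, 198), (3414, 0, 3073, 228), (3414, 2, 1604, 198), (1375, 0, 806, 228), (1375, 2, 2785, 216), (2783, 1, 3694, 201), (2783, 2, 2760, 225), (1162, 0, 2740, 216), (1162, 2, 185, 225), (3017, 0, 545, 216), (3017, 2, 264, 198), (2626, 1, 1679, 210), (2626, 2, 2932, 201), (1975, 0, 479, 198), (1975, 2, 754, 228), (2335, 0, 127, 228), (2335, 2, 33, 210), (336, 1, 966, 225), (336, 2, 2962, 210), (1056,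 0, 3084, 198), (1056, 2, 2643, 198), (1680, 0, 2882, 225), (1680, 2, 1458, 228), (2617, 1, 161, 210), (2617, 2, 2576, 216), (35, 0, 424, 216), (35, 2, 3481, 201), (2714, 0, 3406, 228), (2714, 2, 2441, 210), (3735, 1, 2057, 201), (3735, 2, 36, 216), (2613, 0, 2880, 201), (2613, 2, 1159, 210), (2278, 0, 3262, 201), (2278, 2, 2867, 228), (2866, 1, 2490, 228), (2866, 2, 2496, 228), (914, 0, 2846, 198), (914, 2, 39, 198), (80, 0, 2260, 201), (80, 2, 3350, 201), (416, 1, 3744, 216), (416, 2, 1026, 225), (442, 0, 862, 228), (442, 2, 3732, 225), (1636, 0, 1920, 198), (1636, 2, 40, 198), (3298, 1, 1215, 198), (3298, 2, 2603, 228), (1958, 0, 2167, 198), (1958, 2, 2564, 198), (1628, 0, 2549, 210), (1628, 2, 1301, 198), (3075, 1, 2977, 198), (3075, 2, 3345, 225), (3353, 0, 2201, 201), (3353, 2, 240, 210), (42, 0, 2745, 201), (42, 2, 3364, 210), (999, 0, 1682, 198), (999, 2, 642, 225), (3292, 0, 1821, 216), (1369, 1, 3284, 225), (1369, 2, 267, 216), (1824, 0, 1419, 225), (1824, 2,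 847, 201), (45, 0, 2432, 216), (45, 2, 1810, 210), (1115, 1, 1359, 216), (1115, 2, 2844, 198), (46, 0, 268, 210), (46, 2, 2913, 228), (2370, 0, 2331, 225), (2370, 2, 2479, 216), (2762, 1, 1938, 225), (2762, 2, 3344, 201), (906, 0, 387, 228), (906, 2, 3440, 225), (1104, 0, 363, 198), (1104, 2, 994, 216), (50, 1, 1785, 228), (50, 2, 969, 201), (1634, 0, 1409, 201), (1634, 2, 637, 201), (525, 0, 672, 216), (525, 2, 3004, 216), (1995, 1, 2956, 210), (1995, 2, 305, 210), (3059, 0, 523, 216), (3059, 2, 905, 216), (3639, 0, 537, 216), (3639, 2, 825, 201), (2988, 1, 505, 198), (2988, 2, 2784, 228), (1916, 0, 2187, 228), (1916, 2, 2926, 228), (229, 0, 1978, 225), (229, 2, 3328, 201), (1439, 1, 1131, 216), (1439, 2, 3107, 210), (1603, 0, 1504, 228), (1603, 2, 2674, 210), (1816, 0, 3336, 210), (1816, 2, 54, 198), (684, 1, 313, 201), (684, 2, 2045, 210), (1862, 0, 56, 216), (1862, 2, 1485, 210), (340, 0, 1842, 210), (340, 2, 838, 210), (2481, 0, 57, 228), (2481, 2, 666, 216), (276,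 0, 1896, 216), (60, 1, 1142, 198), (60, 2, 3002, 198), (2276, 0, 2386, 210), (2276, 2, 105, 216), (1890, 0, 3422, 216), (1890, 2, 251, 216), (1726, 1, 186, 228), (1726, 2, 1658, 201), (1494, 0, 2687, 201), (1494, 2, 3596, 210), (1848, 0, 3302, 228), (1848, 2, 225, 225), (2388, 1, 3310, 225), (2388, 2, 2385, 201), (138, 0, 62, 228), (138, 2, 155, 210), (1651, 0, 3725, 228), (1651, 2, 365, 225), (1543, 1, 1596, 210), (1543, 2, 1659, 216), (63, 0, 104, 216), (63, 2, 1872, 225), (1417, 0, 3490, 216), (1417, 2, 2520, 225), (1236, 1, 3604, 198), (1236, 2, 1895, 228), (1311, 0, 1086, 228), (1311, 2, 535, 228), (727, 0, 766, 228), (727, 2, 413, 225), (2149, 1, 110, 228), (2149, 2, 65, 225), (1991, 0, 2228, 210), (1991, 2, 712, 210), (981, 0, 1400, 198), (981, 2, 140, 216), (3257, 1, 2054, 216), (3257, 2, 2107, 201), (2209, 0, 2966, 225), (2209, 2, 211, 216), (3545, 0, 983, 228), (3545, 2, 1583, 210), (632, 1, 230, 228), (632, 2, 149, 210), (913, 0, 2166, 216), (913, 2, 1365,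 216), (272, 0, 866, 228), (272, 2, 70, 198), (755, 1, 3733, 210), (755, 2, 2894, 216), (1905, 0, 1692, 210), (1905, 2, 1037, 201), (71, 0, 962, 201), (71, 2, 2854, 225), (1084, 1, 1029, 228), (1084, 2, 2811, 210), (883, 0, 1999, 216), (883, 2, 2483, 201), (3401, 0, 3736, 201), (3401, 2, 2963, 198), (2981, 1, 786, 198), (2981, 2, 2883, 216), (75, 0, 113, 201), (75, 2, 1780, 198), (3097, 0, 1436, 225), (3097, 2, 2849, 210), (1418, 1, 1152, 228), (1418, 2, 1060, 228), (2523, 0, 2292, 210), (2523, 2, 947, 225), (811, 0, 655, 210), (811, 2, 3015, 228), (3118, 1, 182, 198), (3118, 2, 2644, 210), (2950, 0, 2858, 210), (2950, 2, 279, 216), (2011, 0, 1488, 216), (2011, 2, 3627, 201), (599, 1, 1319, 198), (599, 2, 101, 198), (2036, 0, 3025, 216), (2036, 2, 2907, 225), (2438, 0, 1831, 198), (2438, 2, 3706, 228), (366, 0, 791, 198), (366, 2, 3785, 225), (1010, 0, 1372, 210), (82, 1, 2938, 201), (82, 2, 1784, 198), (507, 0, 2471, 216), (507, 2, 1464, 201), (822, 0, 1399, 201), (822,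 2, 2342, 198), (2060, 1, 83, 198), (2060, 2, 1258, 216), (3283, 0, 1259, 225), (3283, 2, 570, 228), (425, 0, 1448, 228), (425, 2, 2323, 228), (317, 1, 372, 210), (317, 2, 2855, 228), (744, 0, 129, 210), (744, 2, 222, 225), (2869, 0, 3684, 201), (2869, 2, 1349, 225), (845, 1, 1429, 216), (845, 2, 1757, 210), (1016, 0, 1167, 210), (1016, 2, 1666, 216), (564, 0, 3062, 228), (564, 2, 86, 228), (1953, 1, 88, 225), (1953, 2, 619, 225), (3428, 0, 3554, 198), (3428, 2, 2744, 210), (1192, 0, 3253, 198), (1192, 2, 99, 210), (2573, 1, 91, 210), (2573, 2, 2965, 216), (1606, 0, 952, 228), (1606, 2, 2433, 210), (1923, 0, 759, 216), (1923, 2, 628, 228), (1154, 1, 2688, 210), (1154, 2, 2527, 216), (369, 0, 3232, 201), (369, 2, 2200, 201), (2159, 0, 2682, 228), (2159, 2, 1525, 225), (3446, 2, 244, 210), (290, 0, 652, 216), (290, 2, 95, 201), (1426, 0, 3222, 198), (1456, 1, 529, 225)]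

/-- Steps. -/
def rows19_4 : List (ℕ × ℕ × ℕ × ℕ) := [(1456, 2, 1888, 210), (1701, 0, 3690, 210), (1701, 2, 489, 201), (3776, 0, 2944, 201), (3776, 2, 1427, 201), (821, 1, 1293, 198), (821, 2, 3098, 225), (1982, 0, 2040, 201), (1982, 2, 2694, 198), (1075, 0, 1204, 198), (1075, 2, 1190, 201), (3273, 1, 3526, 225), (3273, 2, 3633, 216), (497, 0, 1870, 198), (497, 2, 3311, 210), (827, 0, 1252, 201), (827, 2, 259, 216), (783, 1, 1070, 228), (783, 2, 389, 216), (2595, 0, 713, 225), (2595, 2, 2525, 210), (3407, 0, 1441, 210), (3407, 2, 3473, 201), (2307, 1, 2069, 225), (2307, 2, 3135, 198), (1274, 0, 512, 216), (1274, 2, 1206, 198), (103, 0, 2318, 216), (103, 2, 2834, 225), (1299, 0, 431, 198), (1299, 2, 2702, 225), (2066, 0, 1990, 225), (875, 1, 3757, 210), (875, 2, 3254, 201), (2127, 0, 2303, 198), (2127, 2, 2430, 198), (839, 0, 990, 210), (839, 2, 1797, 225), (3538, 1, 1901, 228), (3538, 2, 2436, 228), (880, 0, 581, 210), (880, 2, 2250, 198), (573, 0, 2130, 216), (573,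 2, 1733, 198), (2799, 1, 2143, 198), (2799, 2, 2794, 228), (1071, 0, 1401, 228), (1071, 2, 3172, 228), (3274, 0, 111, 210), (3274, 2, 2967, 225), (3295, 1, 3207, 216), (3295, 2, 112, 210), (3611, 0, 3682, 198), (3611, 2, 607, 228), (762, 0, 2552, 228), (762, 2, 3582, 201), (2898, 1, 3134, 210), (2898, 2, 405, 210), (1379, 0, 355, 216), (1379, 2, 3443, 228), (3351, 0, 2358, 201), (3351, 2, 1276, 216), (2985, 1, 1034, 201), (2985, 2, 2173, 228), (115, 0, 3355, 210), (115, 2, 896, 216), (2258, 0, 2078, 198), (2258, 2, 3011, 198), (772, 1, 768, 201), (772, 2, 3425, 210), (2042, 0, 1766, 216), (2042, 2, 3615, 225), (1184, 0, 2623, 216), (1184, 2, 677, 216), (2162, 1, 501, 198), (2162, 2, 118, 216), (3434, 0, 3243, 210), (3434, 2, 120, 201), (3410, 0, 3558, 201), (3410, 2, 428, 198), (2874, 1, 1139, 210), (2874, 2, 3388, 228), (859, 0, 1722, 201), (859, 2, 2738, 216), (312, 0, 1397, 201), (312, 2, 1542, 216), (1673, 1, 3505, 216), (1673, 2, 1554, 216), (1080, 0, 295, 198),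 (1080, 2, 307, 201), (2033, 0, 3022, 210), (2033, 2, 3343, 228), (124, 1, 958, 216), (124, 2, 707, 225), (1918, 0, 2968, 201), (1918, 2, 3334, 225), (1897, 0, 703, 210), (1897, 2, 2943, 201), (2424, 1, 3300, 228), (2424, 2, 2710, 201), (3094, 0, 2909, 198), (3094, 2, 2540, 225), (1694, 0, 2374, 216), (1694, 2, 1493, 225), (181, 1, 2500, 228), (181, 2, 2469, 201), (2463, 0, 3755, 228), (2463, 2, 3020, 216), (2790, 0, 356, 216), (2790, 2, 378, 228), (888, 1, 3452, 216), (888, 2, 2519, 228), (346, 0, 3304, 228), (346, 2, 2998, 201), (3730, 0, 2514, 228), (3730, 2, 1394, 201), (2843, 1, 1138, 201), (2843, 2, 2108, 216), (3626, 0, 3534, 228), (3626, 2, 3638, 210), (2724, 0, 3173, 228), (2724, 2, 3320, 216), (2923, 1, 640, 228), (2923, 2, 2452, 216), (1561, 0, 1708, 228), (1561, 2, 3296, 216), (1229, 0, 1269, 225), (1229, 2, 132, 210), (477, 1, 627, 225), (477, 2, 1239, 210), (1613, 0, 1655, 228), (1613, 2, 2364, 225), (1413, 0, 714, 216), (1413, 2, 3555, 210), (1182, 1, 590,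 216), (1182, 2, 1742, 216), (180, 0, 2324, 216), (180, 2, 3379, 228), (622, 0, 1094, 210), (622, 2, 2666, 216), (2983, 0, 141, 201), (733, 0, 3389, 198), (2752, 0, 468, 198), (2752, 2, 3087, 210), (2715, 0, 2770, 198), (3573, 1, 2553, 201), (3573, 2, 1546, 225), (486, 0, 1149, 198), (486, 2, 1594, 228), (2287, 0, 3547, 198), (2287, 2, 1004, 198), (451, 1, 1941, 210), (451, 2, 3722, 210), (951, 0, 3159, 225), (951, 2, 746, 210), (146, 0, 3338, 216), (146, 2, 2006, 201), (2947, 1, 2578, 198), (2947, 2, 2169, 198), (1946, 0, 2788, 225), (1946, 2, 147, 210), (1602, 0, 2713, 198), (1602, 2, 2821, 216), (3106, 1, 940, 228), (3106, 2, 575, 198), (151, 0, 2925, 216), (151, 2, 1242, 216), (2746, 0, 150, 216), (2746, 2, 1121, 198), (2528, 1, 3794, 228), (2528, 2, 1881, 198), (3550, 0, 2638, 225), (3550, 2, 152, 216), (421, 0, 812, 228), (421, 2, 3780, 201), (1725, 1, 841, 210), (1725, 2, 1412, 225), (1532, 0, 1926, 210), (1532, 2, 2357, 198), (154, 0, 3417, 210), (154, 2, 1220,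 216), (1642, 2, 384, 228), (1348, 0, 1404, 225), (1348, 2, 1884, 198), (3581, 0, 2361, 210), (2522, 2, 2641, 198), (1499, 0, 1322, 228), (1499, 2, 159, 216), (1855, 0, 3650, 228), (426, 1, 2408, 228), (426, 2, 945, 216), (901, 0, 2124, 225), (901, 2, 490, 216), (2825, 0, 1045, 228), (2825, 2, 1314, 228), (1928, 1, 856, 216), (1928, 2, 162, 201), (1714, 0, 1969, 201), (1714, 2, 544, 228), (779, 0, 1428, 228), (779, 2, 3150, 225), (2449, 1, 2077, 216), (2449, 2, 974, 216), (2371, 0, 1912, 216), (2371, 2, 163, 228), (743, 0, 3655, 228), (743, 2, 248, 198), (3114, 1, 2020, 216), (3114, 2, 1147, 198), (915, 0, 1957, 225), (915, 2, 729, 210), (723, 0, 164, 210), (723, 2, 2216, 228), (2377, 1, 3793, 210), (2377, 2, 1627, 228), (271, 0, 2007, 201), (271, 2, 343, 216), (750, 0, 2014, 198), (750, 2, 3239, 228), (2707, 1, 1477, 228), (2707, 2, 2195, 228), (472, 0, 897, 228), (472, 2, 166, 210), (1563, 0, 1261, 201), (1563, 2, 3681, 216), (1435, 1, 1079, 228), (1435, 2, 168, 201),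 (2217, 2, 636, 210), (1298, 2, 1992, 216), (2338, 1, 485, 225), (2338, 2, 2579, 216), (357, 0, 1389, 201), (357, 2, 718, 228), (1861, 0, 1981, 228), (1861, 2, 371, 198), (1410, 1, 2615, 201), (1410, 2, 1384, 210), (1716, 0, 699, 216), (1716, 2, 172, 210), (3286, 0, 2750, 198), (3286, 2, 3165, 228), (665, 1, 814, 225), (665, 2, 956, 201), (1697, 0, 798, 225), (1697, 2, 3206, 216), (3492, 0, 3341, 225), (3492, 2, 1403, 216), (174, 1, 949, 225), (174, 2, 711, 225), (1304, 0, 3470, 225)]

/-- Steps. -/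
def rows19_5 : List (ℕ × ℕ × ℕ × ℕ) := [(1304, 2, 3516, 201), (2984, 0, 1787, 225), (2984, 2, 924, 201), (2076, 1, 519, 198), (2076, 2, 2445, 228), (1053, 0, 681, 225), (1053, 2, 1361, 225), (176, 0, 1433, 201), (176, 2, 1024, 228), (2949, 1, 2091, 210), (2949, 2, 2703, 198), (3337, 0, 217, 210), (3337, 2, 3517, 201), (446, 0, 1647, 216), (446, 2, 2627, 225), (3691, 0, 670, 201), (3691, 2, 1681, 210), (1398, 0, 1639, 228), (3186, 1, 403, 198), (3186, 2, 3372, 201), (183, 0, 1001, 210), (183, 2, 3653, 198), (2651, 0, 1064, 216), (2651, 2, 583, 198), (184, 1, 980, 228), (184, 2, 2722, 198), (214, 0, 816, 216), (214, 2, 2628, 225), (1646, 0, 480, 225), (1646, 2, 2582, 225), (710, 1, 2922, 225), (710, 2, 2489, 225), (908, 0, 961, 210), (908, 2, 1114, 198), (1352, 0, 187, 198), (1352, 2, 3698, 225), (1107, 1, 1408, 228), (1107, 2, 1392, 210), (449, 0, 1798, 228), (449, 2, 1007, 225), (1518, 0, 2982, 198), (1518, 2, 3166, 216), (3777, 1, 192, 198), (3777, 2, 2680, 198), (1186,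 0, 452, 198), (1186, 2, 2875, 210), (3657, 0, 1385, 228), (3657, 2, 297, 210), (394, 1, 687, 201), (394, 2, 3261, 210), (2298, 0, 625, 228), (2298, 2, 3132, 198), (927, 0, 1616, 210), (927, 2, 194, 225), (2416, 1, 834, 198), (2416, 2, 3754, 201), (1531, 0, 441, 210), (1531, 2, 749, 225), (3462, 0, 725, 201), (3462, 2, 3536, 225), (2254, 0, 197, 210), (2254, 2, 3128, 210), (2901, 0, 1100, 225), (201, 1, 662, 210), (201, 2, 3504, 225), (3726, 0, 701, 198), (3726, 2, 621, 216), (3282, 0, 574, 216), (3282, 2, 802, 198), (3702, 2, 1225, 210), (2896, 0, 202, 201), (2896, 2, 731, 225), (3537, 0, 1656, 228), (203, 1, 1049, 198), (203, 2, 1710, 228), (660, 0, 2568, 210), (660, 2, 3394, 198), (3566, 0, 1769, 210), (2499, 1, 1331, 210), (2499, 2, 3511, 198), (903, 0, 205, 216), (903, 2, 3663, 225), (3233, 0, 2879, 225), (3233, 2, 3081, 201), (891, 1, 3149, 198), (891, 2, 3737, 198), (3721, 0, 3381, 198), (3721, 2, 2836, 216), (207, 0, 2002, 210), (207, 2, 2389, 216), (1216, 1,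 3761, 201), (1216, 2, 3548, 198), (1959, 0, 1472, 225), (1959, 2, 208, 216), (1127, 0, 2155, 198), (1127, 2, 2049, 201), (3433, 1, 2415, 225), (3433, 2, 1021, 198), (2780, 0, 1168, 210), (2780, 2, 923, 228), (209, 0, 534, 216), (209, 2, 3082, 198), (3191, 1, 1055, 225), (3191, 2, 1776, 228), (1040, 0, 2778, 216), (1040, 2, 411, 201), (212, 0, 1278, 201), (212, 2, 3607, 201), (517, 1, 2915, 210), (517, 2, 1421, 198), (3250, 0, 1541, 216), (3250, 2, 1030, 210), (2048, 0, 3565, 198), (2048, 2, 738, 198), (475, 0, 609, 210), (475, 2, 1197, 198), (2235, 0, 2414, 228), (3076, 1, 3371, 198), (3076, 2, 1827, 228), (221, 0, 1119, 198), (221, 2, 3541, 225), (324, 0, 2098, 228), (324, 2, 3236, 210), (2753, 1, 872, 228), (2753, 2, 1150, 201), (2451, 0, 3449, 201), (2451, 2, 849, 198), (2090, 0, 1095, 228), (2090, 2, 3699, 216), (3052, 1, 2871, 201), (3052, 2, 2453, 225), (1633, 0, 1597, 216), (1633, 2, 571, 210), (1605, 0, 478, 198), (1605, 2, 1748, 225), (2219, 1, 3637, 210), (2219,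 2, 1072, 216), (231, 0, 2798, 225), (231, 2, 329, 228), (3219, 1, 464, 198), (3219, 2, 1076, 201), (2105, 0, 1922, 228), (2105, 2, 3609, 225), (1684, 0, 348, 210), (1684, 2, 270, 228), (1137, 1, 495, 198), (1137, 2, 3390, 201), (998, 0, 898, 216), (998, 2, 2895, 216), (1866, 0, 1837, 198), (1866, 2, 553, 198), (3742, 1, 1564, 201), (3742, 2, 1038, 228), (3784, 0, 1066, 228), (3784, 2, 538, 201), (392, 0, 3668, 228), (392, 2, 2611, 228), (2210, 0, 243, 210), (1362, 0, 2941, 216), (1858, 1, 1185, 210), (1858, 2, 683, 210), (3753, 0, 2718, 216), (3753, 2, 344, 228), (3280, 0, 246, 201), (3280, 2, 1925, 201), (3112, 1, 349, 228), (3112, 2, 2993, 210), (2464, 0, 252, 225), (2464, 2, 3575, 228), (406, 0, 2765, 198), (406, 2, 1987, 225), (973, 1, 614, 225), (973, 2, 255, 201), (876, 0, 803, 210), (876, 2, 2001, 216), (3276, 0, 781, 201), (3276, 2, 347, 225), (682, 1, 2604, 198), (682, 2, 269, 225), (3416, 0, 1619, 201), (3416, 2, 1763, 228), (789, 0, 3559, 225), (789, 2, 286,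 225), (273, 1, 461, 201), (273, 2, 487, 216), (790, 0, 1118, 225), (790, 2, 1551, 198), (2184, 0, 3675, 216), (2184, 2, 2330, 201), (1234, 1, 277, 216), (1234, 2, 321, 216), (2621, 0, 3469, 201), (2621, 2, 1687, 228), (3513, 0, 1289, 228), (1336, 1, 3117, 225), (1336, 2, 3085, 201), (542, 0, 283, 210), (542, 2, 1829, 198), (1487, 0, 3194, 198), (1487, 2, 3163, 198), (360, 2, 922, 201), (3533, 0, 284, 201), (3533, 2, 695, 210), (559, 0, 2538, 216), (1777, 1, 2286, 198), (1777, 2, 1002, 201), (963, 0, 1490, 198), (963, 2, 3393, 216), (3411, 0, 1808, 198), (3411, 2, 1565, 225), (339, 1, 1507, 198), (339, 2, 1325, 228), (633, 0, 3036, 201), (633, 2, 2304, 198), (911, 0, 3079, 225), (911, 2, 493, 216), (440, 2, 1483, 198), (308, 0, 1000, 225), (308, 2, 2268, 201), (1264, 0, 3570, 228), (3220, 1, 616, 198), (3220, 2, 311, 216), (2808, 0, 1371, 225), (2808, 2, 2650, 198), (3360, 0, 361, 198), (3360, 2, 3093, 198), (1712, 1, 1151, 198), (1712, 2, 3476, 198), (380, 0, 635, 201),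 (380, 2, 550, 228), (935, 0, 3569, 198), (935, 2, 3625, 198), (1566, 1, 316, 228), (1566, 2, 2136, 216), (1864, 0, 3354, 216), (1864, 2, 1764, 198), (2295, 0, 1662, 201), (2295, 2, 2376, 198), (2454, 0, 1366, 225), (2454, 2, 1927, 228), (1230, 0, 893, 216), (2823, 1, 3224, 198), (2823, 2, 1806, 210), (460, 0, 1998, 216), (460, 2, 1964, 225), (453, 0, 2018, 198), (453, 2, 638, 225), (3187, 0, 3594, 201), (3187, 2, 1702, 228), (3612, 0, 325, 198)]

/-- Steps. -/
def rows19_6 : List (ℕ × ℕ × ℕ × ℕ) := [(2197, 1, 992, 216), (2197, 2, 3050, 210), (2679, 0, 3032, 225), (2679, 2, 1251, 198), (3421, 0, 2865, 225), (3421, 2, 717, 210), (2455, 1, 3645, 198), (2455, 2, 3303, 210), (1500, 0, 401, 198), (1500, 2, 2516, 198), (1006, 0, 1422, 201), (1006, 2, 3480, 201), (1282, 1, 330, 201), (1282, 2, 3010, 225), (2693, 0, 2232, 228), (2693, 2, 2930, 228), (3589, 0, 1515, 228), (3589, 2, 1443, 198), (1111, 2, 2142, 225), (333, 0, 572, 225), (333, 2, 785, 210), (2063, 0, 1450, 225),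 (2826, 1, 3487, 228), (2826, 2, 3564, 216), (1360, 0, 3348, 216), (1360, 2, 2198, 210), (3366, 0, 649, 198), (3366, 2, 778, 201), (3727, 1, 2517, 216), (3727, 2, 1825, 210), (488, 0, 2399, 216), (488, 2, 858, 228), (716, 0, 1405, 225), (716, 2, 1880, 210), (3585, 1, 3661, 201), (3585, 2, 654, 228), (3553, 0, 1670, 225), (3553, 2, 1943, 225), (2863, 0, 1175, 225), (2863, 2, 3124, 225), (657, 1, 2583, 225), (657, 2, 1854, 201), (1091, 0, 948, 228), (1091, 2, 373, 228), (364, 0, 3628, 210), (364, 2, 3362, 225), (2431, 1, 3572, 228), (2431, 2, 1062, 228), (2670, 0, 2791, 198), (2670, 2, 2999, 216), (2160, 0, 688, 210), (2160, 2, 1700, 198), (2462, 1, 2960, 201), (2462, 2, 3349, 216), (381, 0, 1940, 225), (381, 2, 2637, 216), (579, 0, 383, 198), (579, 2, 2319, 225), (2692, 1, 462, 198), (2692, 2, 399, 201), (1661, 0, 646, 228), (1661, 2, 3071, 198), (1284, 0, 650, 225), (1284, 2, 3466, 198), (1758, 2, 1553, 216), (390, 0, 1335, 210), (390, 2, 2171, 201), (3038, 0, 3363, 210),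 (1971, 1, 1126, 228), (1971, 2, 2398, 216), (3121, 0, 1994, 228), (3121, 2, 2404, 210), (1129, 0, 719, 228), (1129, 2, 1468, 216), (3493, 1, 1434, 228), (3493, 2, 2075, 225), (1346, 0, 1457, 225), (1346, 2, 1556, 225), (1170, 0, 459, 198), (1170, 2, 1523, 216), (404, 1, 1402, 228), (404, 2, 2122, 225), (3369, 2, 2929, 210), (1444, 2, 2237, 228), (1669, 1, 752, 210), (1669, 2, 409, 216), (2541, 2, 1965, 210), (2607, 2, 1312, 216), (1879, 1, 1297, 210), (1879, 2, 1891, 225), (1536, 0, 1430, 201), (1536, 2, 3392, 210), (1835, 0, 1291, 198), (1835, 2, 3583, 225), (412, 0, 430, 216), (412, 2, 2828, 201), (2068, 0, 837, 198), (3374, 1, 1573, 201), (3374, 2, 1572, 210), (2121, 0, 2477, 216), (2121, 2, 3183, 216), (1967, 0, 547, 198), (1967, 2, 1374, 201), (2426, 1, 3540, 198), (2426, 2, 3723, 198), (3342, 0, 2793, 201), (3342, 2, 439, 225), (1125, 0, 2565, 228), (1125, 2, 3686, 228), (2669, 1, 504, 201), (2669, 2, 680, 201), (624, 0, 1463, 228), (624, 2, 2695, 210), (3043,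 0, 455, 198), (3043, 2, 2041, 198), (2213, 1, 978, 201), (2213, 2, 3237, 228), (2165, 0, 3445, 198), (2165, 2, 2111, 228), (3113, 0, 1512, 225), (3113, 2, 582, 225), (3412, 1, 2157, 216), (3412, 2, 720, 201), (777, 0, 1479, 201), (777, 2, 1498, 228), (3204, 0, 1188, 216), (3204, 2, 2234, 228), (1865, 1, 1253, 198), (1865, 2, 1929, 201), (2742, 0, 2838, 228), (2742, 2, 3674, 210), (3508, 0, 1980, 216), (3508, 2, 2581, 201), (3272, 1, 1674, 216), (3272, 2, 1265, 201), (1415, 0, 2356, 228), (1415, 2, 2053, 201), (482, 0, 745, 225), (482, 2, 3461, 216), (3767, 1, 2085, 225), (3767, 2, 2133, 216), (2031, 0, 2447, 210), (2031, 2, 3459, 210), (2729, 0, 604, 198), (870, 1, 2366, 225), (870, 2, 3419, 201), (2352, 0, 2175, 228), (2352, 2, 861, 201), (3321, 0, 1577, 225), (3321, 2, 2872, 216), (2592, 1, 3305, 225), (2592, 2, 3465, 228), (742, 0, 894, 228), (742, 2, 982, 198), (496, 0, 2608, 225), (496, 2, 2764, 228), (1469, 1, 1250, 201), (1469, 2, 2019, 210), (3587, 0, 2478, 201),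 (3587, 2, 920, 210), (516, 0, 2373, 210), (1770, 1, 2775, 201), (1770, 2, 2132, 216), (2249, 0, 3089, 210), (2249, 2, 1859, 228), (2961, 0, 524, 198), (2961, 2, 1622, 216), (528, 1, 1759, 228), (3671, 0, 3436, 228), (3764, 1, 2709, 198), (3764, 2, 1624, 225), (3458, 0, 3249, 225), (3458, 2, 555, 198), (2486, 0, 3065, 210), (2486, 2, 2023, 198), (3312, 1, 1979, 225), (3312, 2, 1067, 198), (3404, 0, 1530, 210), (3404, 2, 955, 216), (3601, 0, 2905, 225), (3601, 2, 2012, 201), (1510, 1, 2154, 225), (1510, 2, 1963, 210), (2806, 0, 2470, 198), (2806, 2, 1886, 225), (541, 0, 1317, 216), (541, 2, 1792, 225), (1088, 1, 1201, 201), (1088, 2, 1273, 225), (3734, 0, 569, 216), (3734, 2, 1578, 225), (1685, 0, 2236, 210), (2446, 1, 3103, 198), (2446, 2, 3177, 228), (2864, 0, 2491, 198), (2864, 2, 3427, 210), (600, 0, 1732, 198), (842, 0, 925, 210), (842, 2, 3676, 201), (3066, 0, 1470, 216), (1396, 0, 2577, 228), (3495, 0, 606, 216), (2535, 1, 2996, 201), (2535, 2, 885, 225), (2601,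 0, 2803, 225), (2601, 2, 611, 216), (2275, 0, 3620, 198), (2275, 2, 2413, 225), (2392, 1, 1592, 210), (2392, 2, 2631, 225), (2633, 0, 626, 201), (2633, 2, 1337, 201), (3634, 0, 2697, 228), (3634, 2, 3299, 216), (3223, 1, 3255, 198), (3223, 2, 3424, 201), (3700, 0, 2850, 228), (3700, 2, 2152, 201), (1707, 0, 2861, 216), (1707, 2, 3034, 216), (2829, 1, 1741, 216), (2829, 2, 643, 216), (769, 0, 2656, 201), (769, 2, 2322, 201), (1241, 1, 664, 210), (1241, 2, 2952, 225), (3672, 0, 2339, 228), (3672, 2, 2177, 225), (1826, 0, 3586, 198), (1826, 2, 2428, 198), (1932, 2, 907, 228), (865, 0, 674, 198), (865, 2, 1153, 210), (1268, 0, 782, 201), (1141, 1, 3024, 210), (3679, 2, 2616, 198), (774, 1, 3738, 210), (774, 2, 2113, 210), (3442, 2, 2309, 198), (3531, 2, 2991, 225), (3683, 0, 2904, 198), (3683, 2, 704, 201), (1032, 0, 1947, 228), (2104, 1, 2106, 201), (2104, 2, 1833, 225), (3202, 0, 1280, 228), (3202, 2, 1446, 198), (1906, 0, 3643, 216), (1906, 2, 2842, 210), (2940, 1, 2959,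 216)]

/-- Steps. -/
def rows19_7 : List (ℕ × ℕ × ℕ × ℕ) := [(2940, 2, 1641, 198), (2789, 0, 2013, 228), (2789, 2, 3053, 198), (3746, 0, 3306, 225), (3746, 2, 3235, 198), (3716, 0, 867, 228), (3716, 2, 1407, 198), (1356, 0, 1135, 216), (2035, 1, 2852, 216), (2035, 2, 3258, 225), (1773, 0, 1645, 201), (1773, 2, 2878, 216), (972, 0, 2813, 216), (972, 2, 3714, 210), (2711, 0, 2928, 198), (960, 1, 1177, 201), (3571, 2, 3711, 225), (1973, 1, 2832, 198), (1973, 2, 1277, 210), (979, 0, 2551, 201), (979, 2, 3649, 228), (1690, 0, 2024, 225), (1690, 2, 1804, 228), (3474, 1, 1501, 216), (3474, 2, 986, 198), (3307, 0, 3479, 216), (3307, 2, 2774, 228), (1019, 1, 1219, 225), (1019, 2, 3322, 201), (2748, 0, 2759, 198), (2748, 2, 3747, 210), (2539, 0, 1292, 201), (2539, 2, 3141, 198), (3241, 1, 2146, 228), (3241, 2, 1590, 225), (1228, 0, 2851, 228), (1228, 2, 1174, 201), (3662, 0, 2723, 201), (3662, 2, 3779, 228), (2240, 2, 2668, 228), (3430, 0, 2301, 210), (3430, 2, 3631, 201), (1805,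 0, 2139, 198), (2172, 1, 2280, 198), (2172, 2, 3606, 228), (2505, 0, 3787, 228), (2505, 2, 3660, 216), (2084, 0, 1985, 198), (1683, 1, 835, 210), (1683, 2, 1930, 225), (3396, 2, 2655, 198), (3006, 1, 236, 225), (2667, 1, 515, 216), (2667, 2, 1882, 216), (2881, 2, 1085, 198), (1, 1, 1213, 201), (2614, 2, 239, 228), (55, 0, 2089, 201), (12, 1, 3532, 201), (12, 2, 1601, 225), (2676, 2, 3040, 210), (2029, 1, 3610, 228), (2029, 2, 2575, 216), (1473, 2, 2548, 216), (588, 2, 1489, 228), (3377, 0, 3397, 216), (1367, 1, 3, 198), (1367, 2, 2661, 198), (3629, 2, 2391, 198), (2504, 1, 3080, 210), (2504, 2, 760, 225), (2660, 2, 3758, 216), (3432, 2, 2384, 216), (3766, 0, 3246, 201), (3551, 1, 2316, 228), (3551, 2, 3712, 198), (2537, 2, 4, 198), (2708, 1, 3656, 210), (2708, 2, 1209, 201), (2067, 2, 902, 210), (66, 2, 3147, 216), (235, 0, 931, 201), (391, 1, 1915, 216), (391, 2, 2328, 216), (554, 2, 3717, 210), (5, 1, 2274, 198), (5, 2, 320, 201), (2812, 2, 2769, 228), (2839, 1, 2418,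 216), (2839, 2, 3731, 210), (566, 2, 310, 210), (3104, 1, 6, 198), (833, 2, 1260, 216), (2351, 0, 3483, 198), (1939, 1, 2698, 210), (1939, 2, 1775, 225), (303, 2, 2245, 198), (3680, 1, 257, 210), (3680, 2, 2501, 210), (818, 2, 747, 201), (1988, 2, 1514, 201), (595, 0, 429, 228), (2008, 1, 967, 216), (2008, 2, 1907, 228), (3227, 2, 3463, 216), (2233, 1, 2264, 210), (2233, 2, 1717, 201), (2771, 2, 309, 201), (10, 1, 21, 198), (10, 2, 2980, 216), (3772, 2, 1350, 210), (1101, 1, 3180, 228), (2488, 2, 93, 225), (499, 0, 11, 225), (709, 1, 342, 216), (709, 2, 1224, 216), (38, 2, 2223, 225), (285, 1, 359, 216), (285, 2, 1330, 198), (2118, 2, 3597, 210), (2475, 2, 1817, 225), (2776, 0, 2450, 225), (31, 1, 1803, 198), (31, 2, 2363, 228), (74, 2, 3619, 210), (1819, 1, 3593, 216), (1819, 2, 49, 225), (1893, 2, 58, 228), (2119, 2, 787, 198), (1164, 0, 2954, 201), (14, 1, 2291, 216), (14, 2, 1612, 201), (484, 2, 2253, 210), (1822, 1, 618, 225), (1822, 2, 2163, 216), (2025, 2, 1233,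 216), (2647, 1, 1112, 228), (2647, 2, 3230, 210), (1740, 2, 2261, 201), (2939, 1, 1376, 198), (3648, 2, 3155, 198), (3647, 0, 2800, 198), (2599, 1, 3331, 216), (2599, 2, 1351, 225), (3658, 2, 3471, 210), (266, 1, 796, 228), (266, 2, 1461, 201), (16, 2, 1102, 228), (107, 2, 3231, 216), (2044, 0, 2736, 198), (1283, 2, 3214, 210), (1731, 0, 1743, 216), (1267, 1, 156, 210), (1267, 2, 1193, 210), (2096, 2, 3095, 198), (407, 1, 20, 225), (407, 2, 2511, 210), (1974, 2, 134, 225), (797, 2, 420, 225), (2726, 0, 263, 228), (1857, 1, 2183, 210), (1857, 2, 90, 210), (19, 2, 3636, 201), (2678, 1, 3102, 228), (2678, 2, 1471, 198), (1771, 2, 48, 198), (22, 2, 3423, 228), (1753, 0, 2873, 216), (878, 1, 1783, 210), (878, 2, 3497, 201), (3704, 2, 3278, 225), (2308, 1, 234, 225), (2308, 2, 274, 216), (2208, 2, 2675, 225), (2681, 2, 3790, 225), (2051, 0, 1977, 210), (3361, 1, 2375, 198), (3361, 2, 1323, 216), (3542, 2, 726, 201), (122, 1, 1123, 216), (122, 2, 3608, 228), (1608, 2, 261,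 225), (1664, 2, 3008, 225), (989, 0, 1205, 225), (1519, 1, 1308, 225), (1519, 2, 1012, 210), (170, 2, 2203, 201), (1786, 1, 3137, 210), (1786, 2, 1593, 210), (3600, 2, 3123, 210), (2442, 2, 1529, 201), (2856, 0, 3088, 210), (1745, 1, 2642, 210), (1745, 2, 157, 225), (3387, 2, 3251, 228), (2978, 1, 3170, 210), (1199, 2, 3356, 201), (2654, 0, 28, 225), (2050, 1, 1789, 201), (2050, 2, 938, 198), (1966, 2, 598, 201), (1172, 1, 2749, 225), (1172, 2, 2886, 228), (2989, 2, 918, 201), (909, 2, 585, 216), (3693, 0, 3086, 198), (2000, 1, 1288, 198), (2000, 2, 2243, 228), (29, 2, 89, 216), (2763, 1, 447, 198), (2763, 2, 2618, 216), (1869, 2, 2312, 228), (1462, 2, 568, 228), (43, 0, 3281, 201), (3073, 1, 2434, 225), (3073, 2, 30, 198), (1604, 2, 2937, 225), (806, 1, 2395, 228), (806, 2, 3590, 225), (2785, 2, 2179, 198), (3694, 2, 1734, 198), (2760, 0, 32, 198), (2740, 1, 3385, 216), (2740, 2, 651, 216), (185, 2, 3143, 201), (545, 1, 3398, 198), (545, 2, 521, 225), (264, 2, 671,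 228), (1679, 2, 249, 210), (2932, 0, 395, 210), (479, 1, 2290, 201), (479, 2, 1163, 210), (754, 2, 3115, 210), (127, 1, 1227, 225), (127, 2, 2135, 198), (33, 2, 984, 216), (966, 2, 34, 198), (2962, 0, 3748, 210), (3084, 1, 3632, 201), (3084, 2, 2837, 210), (2643, 2, 1051, 225), (2882, 1, 1307, 198), (2882, 2, 1364, 228), (1458, 2, 1437, 198), (161, 2, 3376, 201), (2576, 0, 792, 228), (424, 1, 848, 201), (424, 2, 824, 216), (3481, 2, 2801, 198), (3406, 1, 322, 225)]

/-- Steps. -/
def rows19_8 : List (ℕ × ℕ × ℕ × ℕ) := [(3406, 2, 936, 198), (2441, 2, 397, 198), (2057, 2, 137, 210), (36, 0, 2225, 201), (2880, 1, 2038, 216), (2880, 2, 148, 216), (1159, 2, 617, 198), (3262, 1, 3665, 225), (3262, 2, 3375, 201), (2867, 2, 2512, 198), (2490, 2, 2134, 201), (2496, 0, 332, 216), (2846, 1, 1425, 201), (2846, 2, 3614, 198), (39, 2, 514, 201), (2260, 1, 2946, 210), (2260, 2, 1116, 216), (3350, 2, 362, 225), (3744, 2, 2665, 225), (1026, 0, 2671, 228), (862, 1, 3367, 198), (862, 2,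 2997, 228), (3732, 2, 520, 201), (1920, 1, 3212, 225), (1920, 2, 3031, 225), (40, 2, 3091, 198), (1215, 2, 3021, 225), (2603, 0, 41, 210), (2167, 1, 697, 198), (2167, 2, 2508, 198), (2564, 2, 3068, 198), (2549, 1, 3319, 201), (2549, 2, 1496, 225), (1301, 2, 1956, 210), (2977, 2, 3501, 201), (3345, 0, 1338, 198), (2201, 1, 1484, 228), (2201, 2, 351, 201), (240, 2, 3740, 198), (2745, 1, 2355, 210), (2745, 2, 3077, 210), (3364, 2, 2321, 198), (1682, 1, 2888, 210), (1682, 2, 2885, 216), (642, 2, 498, 216), (1821, 1, 44, 210), (3284, 2, 2314, 198), (267, 0, 2480, 216), (1419, 1, 889, 228), (1419, 2, 3315, 201), (847, 2, 502, 210), (2432, 1, 3289, 210), (2432, 2, 815, 201), (1810, 2, 1300, 198), (1359, 2, 1997, 201), (2844, 0, 3324, 198), (268, 1, 2112, 210), (268, 2, 1124, 201), (2913, 2, 771, 225), (2331, 1, 1876, 228), (2331, 2, 3347, 216), (2479, 2, 3287, 228), (1938, 2, 47, 225), (3344, 0, 153, 210), (387, 1, 2046, 198), (387, 2, 382, 201), (3440, 2, 3783, 225), (363,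 1, 2921, 198), (363, 2, 694, 225), (994, 2, 3528, 228), (1785, 2, 3252, 198), (969, 0, 3064, 210), (1409, 1, 1586, 210), (1409, 2, 3308, 216), (637, 2, 1343, 210), (672, 1, 944, 216), (672, 2, 2333, 228), (3004, 2, 1747, 210), (2956, 2, 368, 210), (305, 0, 52, 228), (523, 1, 2350, 228), (523, 2, 2329, 198), (905, 2, 226, 201), (537, 1, 2792, 201), (537, 2, 2755, 198), (825, 2, 2768, 201), (505, 2, 1081, 210), (2784, 0, 1575, 201), (2187, 1, 1576, 198), (2187, 2, 419, 228), (2926, 2, 3157, 210), (1978, 1, 3119, 225), (1978, 2, 53, 228), (3328, 2, 910, 228), (1131, 2, 689, 201), (3107, 0, 3033, 225), (1504, 1, 2701, 198), (1504, 2, 2401, 198), (2674, 2, 1813, 216), (3336, 1, 1724, 216), (3336, 2, 3460, 228), (54, 2, 2461, 201), (313, 2, 2689, 228), (2045, 0, 2380, 198), (56, 1, 540, 225), (56, 2, 3329, 228), (1485, 2, 932, 201), (1842, 1, 748, 198), (1842, 2, 1560, 225), (838, 2, 2955, 225), (57, 1, 135, 198), (57, 2, 2456, 216), (666, 2, 1406, 216), (1896, 1, 1195, 201),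 (1142, 2, 1194, 216), (3002, 0, 2766, 216), (2386, 1, 2571, 210), (2386, 2, 3519, 201), (105, 2, 1238, 198), (3422, 1, 1540, 216), (3422, 2, 145, 216), (251, 2, 3000, 216), (186, 2, 2810, 210), (1658, 0, 2334, 210), (2687, 1, 61, 201), (2687, 2, 289, 228), (3596, 2, 2099, 216), (3302, 1, 2953, 210), (3302, 2, 2816, 198), (225, 2, 2297, 201), (3310, 2, 198, 228), (2385, 0, 1574, 228), (62, 1, 2429, 210), (62, 2, 2137, 201), (155, 2, 3756, 225), (3725, 1, 3673, 198), (3725, 2, 423, 225), (365, 2, 647, 225), (1596, 2, 1373, 225), (1659, 0, 2206, 201), (104, 1, 2212, 216), (104, 2, 247, 225), (1872, 2, 685, 225), (3490, 1, 3018, 201), (3490, 2, 2097, 225), (2520, 2, 3209, 201), (3604, 2, 64, 228), (1895, 0, 2945, 210), (1086, 1, 3196, 210), (1086, 2, 1207, 201), (535, 2, 1517, 198), (766, 1, 1898, 198), (766, 2, 1503, 210), (413, 2, 831, 216), (110, 2, 1302, 225), (65, 0, 1846, 216), (2228, 1, 970, 198), (2228, 2, 1329, 210), (712, 2, 557, 198), (1400, 1, 817, 198), (1400,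 2, 2547, 228), (140, 2, 2117, 198), (2054, 2, 2737, 225), (2107, 0, 2924, 225), (2966, 1, 2028, 201), (2966, 2, 1902, 228), (211, 2, 128, 210), (983, 1, 191, 225), (983, 2, 3242, 216), (1583, 2, 2605, 225), (230, 2, 388, 198), (149, 0, 2114, 201), (2166, 1, 2279, 216), (2166, 2, 1128, 228), (1365, 2, 3175, 201), (866, 1, 1815, 198), (866, 2, 3523, 198), (70, 2, 1877, 225), (3733, 2, 2892, 210), (2894, 0, 1069, 201), (1692, 1, 1263, 210), (1692, 2, 2021, 201), (1037, 2, 1058, 210), (962, 1, 1222, 228), (962, 2, 87, 225), (2854, 2, 3644, 225), (1029, 2, 219, 198), (2811, 0, 3728, 216), (1999, 1, 1802, 201), (1999, 2, 2831, 201), (2483, 2, 2079, 198), (3736, 1, 2189, 201), (3736, 2, 304, 216), (2963, 2, 2587, 201), (786, 2, 2958, 201), (2883, 0, 615, 201), (113, 1, 2781, 198), (113, 2, 142, 228), (1780, 2, 3603, 225), (1436, 1, 3595, 210), (1436, 2, 589, 216), (2849, 2, 2255, 228), (1152, 2, 2326, 198), (1060, 0, 1020, 216), (2292, 1, 577, 201), (2292, 2, 917, 228), (947,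 2, 466, 225), (655, 1, 76, 228), (655, 2, 3703, 198), (3015, 2, 1257, 198), (182, 2, 513, 201), (2644, 0, 843, 225), (2858, 1, 258, 210), (2858, 2, 3617, 216), (279, 2, 2683, 210), (1488, 1, 422, 210), (1488, 2, 578, 216), (3627, 2, 3778, 216), (1319, 2, 3012, 210), (101, 0, 3108, 210), (3025, 1, 253, 210), (3025, 2, 1768, 201), (2907, 2, 78, 201), (1831, 1, 1296, 225), (1831, 2, 2081, 198), (3706, 2, 1295, 201), (791, 1, 376, 216), (791, 2, 79, 201), (3785, 2, 2495, 225), (1372, 1, 809, 216), (2938, 2, 190, 201), (1784, 0, 2712, 201), (2471, 1, 1653, 201), (2471, 2, 2805, 210), (1464, 2, 1754, 216), (1399, 1, 1217, 225), (1399, 2, 1342, 198), (2342, 2, 345, 198), (83, 2, 673, 210), (1258, 0, 2412, 201), (1259, 1, 3549, 210), (1259, 2, 2468, 210), (570, 2, 1625, 198), (1448, 1, 1809, 201), (1448, 2, 2857, 210), (2323, 2, 408, 198), (372, 2, 1290, 225), (2855, 0, 3692, 228), (129, 1, 2804, 210), (129, 2, 1132, 228)]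

/-- Steps. -/
def rows19_9 : List (ℕ × ℕ × ℕ × ℕ) := [(222, 2, 92, 225), (3684, 1, 260, 201), (3684, 2, 1588, 225), (1349, 2, 2777, 198), (1429, 2, 2731, 216), (1757, 0, 2440, 210), (1167, 1, 1954, 198), (1167, 2, 3598, 201), (1666, 2, 1924, 198), (3062, 1, 3179, 210), (3062, 2, 193, 210), (86, 2, 3042, 216), (88, 2, 2277, 198), (619, 0, 1709, 198), (3554, 1, 591, 225), (3554, 2, 1506, 225), (2744, 2, 886, 210), (3253, 1, 350, 216), (3253, 2, 700, 210), (99, 2, 1621, 228), (91, 2, 813, 210), (2965, 0, 1073, 228), (952, 1, 3535, 225), (952, 2, 527, 210), (2433, 2, 1887, 228), (759, 1, 3484, 225), (759, 2, 3579, 216), (628, 2, 1820, 228), (2688, 2, 3408, 216), (2527, 0, 1198, 228), (3232, 1, 3290, 216), (3232, 2, 1960, 201), (2200, 2, 3267, 228), (2682, 1, 3195, 198), (2682, 2, 94, 228), (1525, 2, 1187, 216), (652, 1, 2569, 210), (652, 2, 3116, 228), (529, 2, 1900, 201), (1888, 0, 1022, 228), (3690, 1, 1467, 228), (3690, 2, 278, 198), (489, 2, 2870, 201), (2944, 1, 2732,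 216), (2944, 2, 1382, 198), (1427, 2, 96, 198), (1293, 2, 3055, 201), (3098, 0, 804, 210), (2040, 1, 3695, 210), (2040, 2, 1711, 216), (2694, 2, 2293, 216), (1204, 1, 3058, 198), (1204, 2, 1667, 216), (1190, 2, 2964, 198), (3526, 2, 2202, 225), (3633, 0, 100, 225), (1870, 1, 1781, 225), (1870, 2, 2493, 228), (3311, 2, 2009, 216), (1252, 1, 393, 198), (1252, 2, 1934, 198), (259, 2, 1262, 225), (1070, 2, 2630, 210), (389, 0, 3188, 225), (713, 1, 102, 225), (713, 2, 375, 216), (2525, 2, 3275, 210), (1441, 1, 1286, 198), (1441, 2, 2153, 228), (3473, 2, 1134, 210), (2069, 2, 926, 228), (3135, 0, 2899, 210), (512, 1, 171, 228), (512, 2, 3001, 216), (1206, 2, 337, 225), (2318, 1, 823, 198), (2318, 2, 1109, 216), (2834, 2, 3330, 210), (431, 1, 1706, 210), (431, 2, 237, 210), (2702, 2, 3791, 201), (1990, 1, 2123, 225), (3757, 2, 2574, 210), (3254, 0, 3789, 201), (2303, 1, 2484, 210), (2303, 2, 1495, 210), (2430, 2, 2498, 216), (990, 1, 291, 216), (990, 2, 522, 201), (1797, 2,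 1984, 216), (1901, 2, 3035, 225), (2436, 0, 2094, 198), (581, 1, 1344, 198), (581, 2, 3525, 216), (2250, 2, 109, 201), (2130, 1, 1502, 210), (2130, 2, 2802, 201), (1733, 2, 3215, 225), (2143, 2, 3291, 216), (2794, 0, 1440, 210), (1401, 1, 175, 201), (1401, 2, 116, 225), (3172, 2, 2492, 216), (111, 1, 3775, 201), (111, 2, 1077, 210), (2967, 2, 396, 225), (3207, 2, 736, 216), (112, 0, 1698, 210), (3682, 1, 1105, 228), (3682, 2, 1996, 225), (607, 2, 2957, 228), (2552, 1, 2658, 216), (2552, 2, 3029, 201), (3582, 2, 2138, 228), (3134, 2, 2877, 198), (405, 0, 2257, 216), (355, 1, 1391, 228), (355, 2, 114, 210), (3443, 2, 2782, 210), (2358, 1, 1031, 216), (2358, 2, 3515, 210), (1276, 2, 1635, 210), (1034, 2, 3199, 210), (2173, 0, 3368, 216), (3355, 1, 2482, 198), (3355, 2, 1169, 216), (896, 2, 469, 210), (2078, 1, 2942, 198), (2078, 2, 2120, 228), (3011, 2, 954, 216), (768, 2, 1509, 225), (3425, 0, 2916, 216), (1766, 1, 1721, 201), (1766, 2, 1478, 198), (3615, 2, 1914, 201),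 (2623, 1, 530, 201), (2623, 2, 2129, 216), (677, 2, 117, 225), (501, 2, 1610, 216), (118, 0, 1788, 198), (3243, 1, 2360, 201), (3243, 2, 3500, 198), (120, 2, 558, 216), (3558, 1, 256, 228), (3558, 2, 2653, 198), (428, 2, 2256, 198), (1139, 2, 881, 225), (3388, 0, 2827, 225), (1722, 1, 3451, 225), (1722, 2, 2192, 201), (2738, 2, 3640, 216), (1397, 1, 1860, 198), (1397, 2, 177, 210), (1542, 2, 763, 228), (3505, 2, 1649, 210), (1554, 0, 2518, 228), (295, 1, 3263, 228), (295, 2, 929, 201), (307, 2, 1039, 201), (3022, 1, 3247, 201), (3022, 2, 123, 201), (3343, 2, 3618, 210), (958, 2, 2634, 210), (707, 0, 2378, 198), (2968, 1, 675, 228), (2968, 2, 1727, 216), (3334, 2, 1794, 201), (703, 1, 1231, 228), (703, 2, 1157, 216), (2943, 2, 2082, 198), (3300, 2, 1014, 201), (2710, 0, 943, 210), (2909, 1, 3765, 210), (2909, 2, 724, 228), (2540, 2, 1675, 201), (2374, 1, 1370, 201), (2374, 2, 3144, 201), (1493, 2, 125, 228), (2500, 2, 126, 201), (2469, 0, 1200, 228), (3755, 1, 3359, 198),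 (3755, 2, 2558, 201), (3020, 2, 3211, 216), (356, 1, 3190, 228), (356, 2, 968, 201), (378, 2, 1377, 198), (3452, 2, 586, 216), (2519, 0, 594, 198), (3304, 1, 210, 198), (3304, 2, 1148, 198), (2998, 2, 130, 216), (2514, 1, 3447, 201), (2514, 2, 1867, 201), (1394, 2, 1281, 228), (1138, 2, 414, 225), (2108, 0, 1475, 198), (3534, 1, 2900, 210), (3534, 2, 3510, 228), (3638, 2, 2891, 216), (3173, 1, 1863, 225), (3173, 2, 669, 216), (3320, 2, 1455, 198), (640, 2, 3568, 198), (2452, 0, 1772, 228), (1708, 1, 1611, 201), (1708, 2, 1341, 198), (3296, 2, 761, 216), (1269, 1, 3435, 198), (1269, 2, 698, 225), (132, 2, 2425, 210), (627, 2, 1454, 210), (1239, 0, 1309, 201), (1655, 1, 2889, 228), (1655, 2, 133, 201), (2364, 2, 443, 225), (714, 1, 1945, 225), (714, 2, 2239, 216), (3555, 2, 2739, 210), (590, 2, 3584, 198), (1742, 0, 3496, 225), (2324, 1, 471, 225), (2324, 2, 2161, 216), (3379, 2, 139, 216), (1094, 1, 1178, 201), (1094, 2, 2570, 201), (2666, 2, 2717, 225), (468, 1, 143,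 228), (468, 2, 1689, 210), (3087, 2, 631, 225), (2770, 1, 1638, 228), (2553, 2, 3316, 216), (1546, 0, 2367, 228), (1149, 1, 3026, 228), (1149, 2, 2735, 216), (1594, 2, 830, 210), (3547, 1, 1676, 201), (3547, 2, 1368, 198), (1004, 2, 144, 198), (1941, 2, 1693, 201), (3722, 0, 851, 198), (3159, 1, 3174, 228), (3159, 2, 2845, 216), (746, 2, 3099, 225), (3338, 1, 3244, 228), (3338, 2, 3688, 201), (2006, 2, 828, 210), (2578, 2, 2229, 201), (2169, 0, 2369, 210), (2788, 1, 2686, 216), (2788, 2, 2822, 198)]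

/-- Steps. -/
def rows19_10 : List (ℕ × ℕ × ℕ × ℕ) := [(147, 2, 1211, 228), (2713, 1, 1327, 228), (2713, 2, 2580, 198), (2821, 2, 3781, 228), (940, 2, 1420, 201), (575, 0, 645, 198), (2925, 1, 1765, 216), (2925, 2, 3477, 198), (1242, 2, 3518, 210), (150, 1, 3715, 198), (150, 2, 3028, 201), (1121, 2, 2914, 198), (3794, 2, 2787, 228), (1881, 0, 301, 210), (2638, 1, 2064, 210), (2638, 2, 1539, 216), (152, 2, 1614, 210), (812, 1, 238, 225), (812, 2, 241, 198), (3780, 2, 1800, 210), (841, 2, 415, 210), (1412, 0, 3415, 216), (1926, 1, 2362, 225), (1926, 2, 3512, 198), (2357, 2, 3743, 201), (3417, 1, 1106, 228), (3417, 2, 188, 201), (1220, 2, 2533, 225), (1404, 1, 2393, 201), (1404, 2, 1099, 216), (1322, 1, 1528, 225), (1322, 2, 2088, 210), (2408, 2, 1845, 225), (945, 0, 2052, 198), (2124, 1, 2460, 216), (2124, 2, 3339, 225), (490, 2, 1691, 210), (1045, 1, 2684, 228), (1045, 2, 1720, 228), (1314, 2, 1333, 198), (856, 2, 1423, 198), (162, 0, 1545, 225), (1969, 1, 2181, 216),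 (1969, 2, 2337, 201), (544, 2, 3654, 198), (1428, 1, 1087, 225), (1428, 2, 2835, 228), (3150, 2, 3623, 198), (2077, 2, 216, 225), (974, 0, 448, 198), (1912, 1, 2556, 228), (1912, 2, 957, 210), (163, 2, 3718, 198), (3655, 1, 2987, 228), (3655, 2, 2927, 210), (248, 2, 1620, 201), (2020, 2, 1637, 216), (1147, 0, 930, 225), (1957, 1, 2269, 216), (1957, 2, 2344, 216), (729, 2, 3136, 210), (164, 1, 1089, 201), (164, 2, 975, 216), (2216, 2, 2043, 210), (3793, 2, 1122, 228), (1627, 0, 3444, 201), (2007, 1, 2820, 210), (2007, 2, 165, 216), (343, 2, 1767, 216), (2014, 1, 293, 201), (2014, 2, 603, 228), (3239, 2, 385, 225), (1477, 2, 1799, 198), (2195, 0, 1442, 201), (897, 1, 997, 210), (897, 2, 3218, 228), (166, 2, 1214, 228), (1261, 1, 2507, 201), (1261, 2, 228, 225), (3681, 2, 3488, 210), (1079, 2, 653, 198), (168, 0, 2315, 210), (485, 2, 1598, 225), (2579, 0, 169, 228), (1389, 1, 887, 201), (1389, 2, 2010, 216), (718, 2, 1688, 198), (1981, 1, 1718, 225), (1981, 2, 481, 225),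 (371, 2, 2347, 216), (2615, 2, 2513, 216), (1384, 0, 765, 198), (699, 1, 3030, 225), (699, 2, 2620, 198), (172, 2, 377, 210), (2750, 1, 1849, 210), (2750, 2, 1762, 228), (3165, 2, 1158, 201), (814, 2, 741, 210), (956, 0, 2004, 225), (798, 1, 1181, 216), (798, 2, 173, 198), (3206, 2, 3317, 210), (3341, 1, 3193, 201), (3341, 2, 1933, 216), (1403, 2, 3741, 216), (949, 2, 2862, 198), (711, 0, 511, 210), (3470, 1, 3122, 225), (3470, 2, 1221, 210), (3516, 2, 757, 198), (1787, 1, 281, 216), (1787, 2, 1320, 225), (924, 2, 659, 216), (519, 2, 299, 201), (2445, 0, 546, 225), (681, 1, 3265, 216), (681, 2, 832, 210), (1361, 2, 1438, 225), (1433, 1, 287, 201), (1433, 2, 1057, 216), (1024, 2, 2673, 210), (2091, 2, 1678, 216), (2703, 0, 3192, 228), (217, 1, 2868, 216), (217, 2, 463, 228), (3517, 2, 1626, 216), (1647, 1, 2196, 210), (1647, 2, 1549, 225), (2627, 2, 2485, 198), (670, 1, 3070, 198), (670, 2, 1839, 228), (1681, 2, 518, 198), (1639, 1, 179, 198), (403, 2, 2310, 228), (3372,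 0, 3234, 201), (1001, 1, 1411, 216), (1001, 2, 576, 225), (3653, 2, 435, 228), (1064, 1, 2437, 201), (1064, 2, 254, 225), (583, 2, 630, 198), (980, 2, 1395, 225), (2722, 0, 2609, 198), (816, 1, 1686, 198), (816, 2, 2876, 225), (2628, 2, 753, 201), (480, 1, 2532, 198), (480, 2, 580, 225), (2582, 2, 2497, 216), (2922, 2, 3126, 228), (2489, 0, 3229, 198), (961, 1, 904, 228), (961, 2, 306, 201), (1114, 2, 1976, 225), (187, 1, 2300, 216), (187, 2, 2128, 210), (3698, 2, 2186, 228), (1408, 2, 852, 201), (1392, 0, 2751, 198), (1798, 1, 2359, 201), (1798, 2, 476, 198), (1007, 2, 2848, 216), (2982, 1, 1760, 216), (2982, 2, 767, 225), (3166, 2, 189, 201), (192, 2, 873, 216), (2680, 0, 1761, 228), (452, 1, 1629, 225), (452, 2, 2421, 228), (2875, 2, 2058, 216), (1385, 1, 3588, 216), (1385, 2, 2719, 198), (297, 2, 2015, 225), (687, 2, 2936, 210), (3261, 0, 3009, 225), (625, 1, 808, 216), (625, 2, 1834, 225), (3132, 2, 379, 225), (1616, 1, 2141, 210), (1616, 2, 2600, 210), (194, 2,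 3083, 216), (834, 2, 793, 228), (3754, 0, 2506, 216), (441, 1, 2231, 216), (441, 2, 2126, 216), (749, 2, 993, 210), (725, 1, 1703, 216), (725, 2, 195, 225), (3536, 2, 1585, 201), (197, 1, 3346, 228), (197, 2, 715, 216), (3128, 2, 2115, 228), (1100, 1, 1156, 228), (662, 2, 2572, 216), (3504, 0, 1098, 198), (701, 1, 678, 201), (701, 2, 556, 228), (621, 2, 933, 225), (574, 1, 2529, 198), (574, 2, 3373, 228), (802, 2, 3378, 198), (202, 1, 2205, 225), (202, 2, 1961, 198), (1049, 2, 1196, 210), (1331, 2, 2340, 228), (3511, 0, 1828, 201), (205, 1, 3530, 210), (205, 2, 3067, 216), (3663, 2, 3051, 228), (2879, 1, 2140, 228), (2879, 2, 3687, 216), (3081, 2, 2238, 225), (3149, 2, 864, 225), (3737, 0, 706, 216), (3381, 1, 2594, 228), (3381, 2, 1451, 216), (2836, 2, 996, 201), (2002, 1, 3057, 216), (2002, 2, 1696, 216), (2389, 2, 2648, 216), (3761, 2, 1340, 228), (3548, 0, 262, 210), (1472, 1, 3074, 225), (1472, 2, 3259, 225), (208, 2, 2346, 216), (2155, 1, 2639, 225), (2155, 2,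 1899, 210), (2049, 2, 2327, 201), (2415, 2, 756, 228), (1021, 0, 1171, 216), (1168, 1, 1550, 210), (1168, 2, 2027, 201), (923, 2, 2259, 216), (534, 1, 1103, 225), (534, 2, 1226, 228), (3082, 2, 3358, 198), (1055, 2, 1497, 216), (1776, 0, 548, 225), (2778, 1, 2560, 210), (2778, 2, 3701, 198), (411, 2, 2086, 210), (1278, 1, 3659, 228), (1278, 2, 3325, 210), (3607, 2, 2720, 198), (2915, 2, 474, 225), (1421, 0, 3399, 228), (1541, 1, 1796, 210), (1541, 2, 2728, 225), (1030, 2, 213, 216)]

/-- Steps. -/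
def rows19_11 : List (ℕ × ℕ × ℕ × ℕ) := [(3565, 1, 2972, 201), (3565, 2, 2530, 216), (738, 2, 1176, 225), (609, 1, 1414, 228), (609, 2, 2754, 225), (1197, 2, 220, 225), (2414, 1, 2588, 228), (3371, 2, 3556, 225), (1827, 0, 1533, 225), (1119, 1, 352, 198), (1119, 2, 1952, 216), (3541, 2, 1640, 210), (2098, 1, 1568, 216), (2098, 2, 2467, 210), (3236, 2, 2951, 201), (872, 2, 740, 228), (1150, 0, 2979, 210), (3449, 1, 224, 216), (3449, 2, 3184, 210), (849, 2, 3502, 210), (1095, 1, 1140, 225), (1095, 2, 1894, 201), (3699, 2, 427, 198), (2871, 2, 2840, 228), (2453, 0, 3468, 225), (1597, 1, 2841, 216), (1597, 2, 764, 228), (571, 2, 298, 198), (478, 1, 1871, 201), (478, 2, 227, 198), (1748, 2, 1874, 198), (1072, 0, 692, 201), (2798, 1, 860, 210), (2798, 2, 1555, 210), (464, 2, 3285, 216), (1076, 0, 1516, 198), (1922, 1, 3048, 210), (1922, 2, 2055, 228), (3609, 2, 232, 228), (348, 1, 2158, 225), (348, 2, 3238, 225), (270, 2, 1173, 216), (495, 2, 233, 216), (3390, 0, 2705, 216),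 (898, 1, 563, 216), (898, 2, 1387, 201), (2895, 2, 3226, 228), (1837, 1, 1889, 216), (1837, 2, 1704, 210), (553, 2, 2700, 201), (1564, 2, 1235, 228), (1038, 0, 2685, 198), (1066, 1, 693, 228), (1066, 2, 1558, 201), (538, 2, 2809, 225), (3668, 1, 242, 228), (3668, 2, 1144, 201), (2611, 2, 1318, 228), (1185, 2, 552, 210), (683, 0, 2743, 216), (2718, 1, 3773, 228), (2718, 2, 1110, 201), (344, 2, 1931, 228), (246, 1, 3013, 216), (246, 2, 2299, 228), (1925, 2, 1654, 225), (349, 2, 1145, 216), (2993, 0, 2584, 216), (252, 1, 2372, 198), (252, 2, 3047, 228), (3575, 2, 2761, 228), (2765, 1, 2102, 198), (2765, 2, 1993, 225), (1987, 2, 950, 228), (614, 2, 3752, 198), (255, 0, 3096, 198), (803, 1, 1595, 228), (803, 2, 1161, 201), (2001, 2, 3014, 201), (781, 1, 288, 198), (781, 2, 1791, 210), (347, 2, 3769, 198), (2604, 2, 2174, 210), (269, 0, 739, 201), (1619, 1, 2226, 210), (1619, 2, 3580, 216), (1763, 2, 3439, 225), (3559, 1, 2317, 225), (3559, 2, 3403, 228), (286, 2, 3266, 210),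 (461, 2, 1705, 201), (487, 0, 3352, 201), (1118, 1, 294, 201), (1118, 2, 1465, 225), (1551, 2, 1847, 228), (3675, 1, 3019, 198), (3675, 2, 1240, 210), (2330, 2, 3677, 210), (277, 2, 1096, 198), (3117, 2, 1146, 228), (3085, 0, 1579, 228), (283, 1, 2659, 201), (283, 2, 3178, 201), (1829, 2, 641, 228), (3194, 1, 1431, 228), (3194, 2, 593, 198), (3163, 2, 2427, 210), (284, 1, 1713, 225), (284, 2, 445, 225), (2286, 2, 560, 225), (1002, 0, 2521, 225), (1490, 1, 3602, 201), (1490, 2, 292, 225), (3393, 2, 2598, 225), (1808, 1, 3037, 216), (1808, 2, 1739, 198), (1565, 2, 2072, 201), (1507, 2, 3054, 228), (1325, 0, 1432, 201), (3036, 1, 296, 198), (3036, 2, 3770, 216), (2304, 2, 1908, 198), (3079, 1, 644, 228), (3079, 2, 1306, 198), (493, 2, 2073, 198), (1000, 1, 3225, 228), (1000, 2, 3708, 210), (616, 2, 2188, 225), (311, 0, 434, 225), (1371, 1, 869, 228), (1371, 2, 3560, 198), (2650, 2, 1466, 201), (361, 1, 3003, 210), (361, 2, 2476, 216), (3093, 2, 433, 198), (1151, 2, 473,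 198), (3476, 0, 2289, 228), (635, 1, 315, 216), (635, 2, 437, 216), (550, 2, 1807, 216), (3569, 1, 2986, 210), (3569, 2, 2220, 216), (3625, 2, 1303, 198), (316, 2, 3719, 228), (2136, 0, 3707, 225), (3354, 1, 2400, 228), (3354, 2, 2397, 198), (1764, 2, 1648, 228), (1662, 1, 3138, 216), (1662, 2, 3270, 210), (2376, 2, 3130, 210), (1366, 1, 319, 201), (1366, 2, 2786, 225), (1927, 2, 3749, 198), (893, 1, 658, 225), (3224, 2, 3646, 201), (1806, 0, 323, 198), (1998, 1, 2193, 210), (1998, 2, 3739, 225), (1964, 2, 2773, 201), (2018, 1, 1272, 198), (2018, 2, 1609, 225), (638, 2, 2474, 198), (3594, 1, 3323, 198), (3594, 2, 899, 216), (1702, 2, 3455, 216), (325, 1, 1237, 216), (992, 2, 341, 201), (3050, 0, 2747, 198), (3032, 1, 3792, 216), (3032, 2, 2070, 201), (1251, 2, 916, 216), (2865, 1, 1183, 216), (2865, 2, 3498, 225), (717, 2, 3467, 216), (3645, 2, 667, 216), (3303, 0, 1778, 216), (401, 1, 3431, 198), (401, 2, 2559, 210), (2516, 2, 458, 198), (1422, 1, 551, 228), (1422,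 2, 2612, 225), (3480, 2, 2394, 225), (330, 2, 2241, 210), (3010, 0, 3522, 216), (2232, 1, 567, 198), (2232, 2, 1581, 201), (2930, 2, 934, 198), (1515, 1, 2677, 228), (1515, 2, 1090, 216), (1443, 2, 2246, 198), (572, 1, 2345, 225), (572, 2, 3591, 201), (3487, 2, 2306, 198), (3564, 0, 776, 198), (3348, 1, 1315, 201), (3348, 2, 1068, 228), (2198, 2, 3546, 198), (649, 1, 334, 216), (649, 2, 1061, 201), (778, 2, 2059, 216), (2517, 2, 335, 225), (1825, 0, 1043, 225), (2399, 1, 1738, 201), (2399, 2, 1913, 198), (858, 2, 2110, 225), (1405, 1, 3786, 216), (1405, 2, 2247, 216), (1880, 2, 2757, 201), (3661, 2, 2691, 228), (654, 0, 3697, 228), (1670, 1, 3491, 216), (1670, 2, 2390, 225), (1943, 2, 928, 216), (1175, 1, 1416, 225), (1175, 2, 1737, 228), (3124, 2, 1232, 216), (2583, 2, 1166, 228), (1854, 0, 1774, 216), (948, 1, 2242, 210), (948, 2, 3169, 228), (373, 2, 1491, 225), (3628, 1, 2973, 225), (3628, 2, 2610, 216), (3362, 2, 2919, 225), (3572, 2, 2596, 198), (1062, 0, 3072,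 198), (2791, 1, 3105, 201), (2791, 2, 3288, 216), (2999, 2, 2975, 228), (688, 1, 1358, 210), (688, 2, 1218, 216), (1700, 2, 3205, 201), (2960, 2, 1246, 210), (3349, 0, 1449, 201), (1940, 1, 1663, 228), (1940, 2, 1386, 228), (2637, 2, 2911, 201), (383, 1, 1892, 216), (383, 2, 526, 210), (2319, 2, 1524, 198), (462, 2, 2893, 225), (399, 0, 2145, 198), (646, 1, 386, 201), (646, 2, 3667, 198), (3071, 2, 2756, 198), (650, 1, 895, 201), (650, 2, 773, 210), (3466, 2, 1547, 198), (1335, 1, 2933, 228)]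

/-- Steps. -/
def rows19_12 : List (ℕ × ℕ × ℕ × ℕ) := [(1335, 2, 2336, 216), (1126, 2, 3210, 201), (2398, 0, 400, 201), (1994, 1, 531, 216), (1994, 2, 2502, 216), (2404, 2, 1255, 201), (719, 1, 2908, 210), (719, 2, 2302, 216), (1468, 2, 2903, 201), (1434, 2, 2266, 198), (2075, 0, 1623, 228), (1457, 1, 2797, 210), (1457, 2, 3154, 225), (1556, 2, 620, 216), (459, 1, 1041, 201), (459, 2, 402, 198), (1523, 2, 1755, 216), (1402, 2, 2625, 228), (2122, 0, 836, 198), (752, 2, 1600, 228), (409, 0, 3478, 216), (1297, 2, 3198, 225), (1891, 0, 410, 198), (1430, 1, 941, 225), (1430, 2, 912, 216), (3392, 2, 3664, 228), (1291, 1, 3039, 198), (1291, 2, 2100, 210), (3583, 2, 3142, 210), (430, 1, 3454, 216), (430, 2, 971, 210), (2828, 2, 2912, 201), (837, 1, 1033, 225), (1573, 2, 3382, 228), (1572, 0, 2062, 228), (2477, 1, 2148, 216), (2477, 2, 1526, 201), (3183, 2, 432, 225), (547, 1, 2101, 228), (547, 2, 1584, 198), (1374, 2, 1165, 201), (3540, 2, 1492, 228), (3723, 0, 2379, 198),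 (2793, 1, 3745, 198), (2793, 2, 3357, 228), (439, 2, 3527, 228), (2565, 1, 1832, 228), (2565, 2, 1569, 198), (3686, 2, 1254, 198), (504, 2, 1054, 225), (680, 0, 2092, 201), (1463, 1, 2555, 201), (1463, 2, 1672, 225), (2695, 2, 2733, 198), (455, 1, 2696, 216), (455, 2, 3216, 225), (2041, 2, 549, 198), (978, 2, 456, 216), (3237, 0, 1830, 228), (3445, 1, 2405, 210), (3445, 2, 1047, 210), (2111, 2, 2272, 198), (1512, 1, 3578, 198), (1512, 2, 829, 201), (582, 2, 2663, 228), (2157, 2, 1587, 201), (720, 0, 465, 210), (1479, 1, 2622, 201), (1479, 2, 3256, 210), (1498, 2, 3768, 210), (1188, 1, 900, 201), (1188, 2, 959, 198), (2234, 2, 819, 210), (1253, 2, 3441, 216), (1929, 0, 2282, 201), (2838, 1, 1381, 228), (2838, 2, 3774, 201), (3674, 2, 1955, 216), (1980, 1, 1212, 228), (1980, 2, 610, 198), (2581, 2, 3641, 201), (1674, 2, 2349, 201), (1265, 0, 3260, 225), (2356, 1, 2649, 198), (2356, 2, 2419, 228), (2053, 2, 3521, 198), (745, 1, 1042, 228), (745, 2, 1617, 216), (3461, 2,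 2204, 198), (2085, 2, 1023, 201), (2366, 2, 2887, 225), (3419, 0, 3160, 228), (2175, 1, 3475, 198), (2175, 2, 3162, 225), (861, 2, 3544, 210), (1577, 1, 1424, 216), (1577, 2, 2147, 225), (2872, 2, 1511, 228), (3305, 2, 1856, 201), (3465, 0, 3301, 198), (894, 1, 2095, 201), (894, 2, 2725, 210), (982, 2, 2109, 228), (2608, 1, 3577, 216), (2608, 2, 1074, 201), (2764, 2, 2636, 228), (1250, 2, 2859, 201), (2775, 2, 696, 228), (2132, 0, 1521, 228), (3089, 1, 584, 225), (3089, 2, 1005, 210), (1859, 2, 1393, 225), (524, 1, 1968, 228), (524, 2, 3269, 210), (1622, 2, 2353, 216), (2709, 2, 2332, 201), (1624, 0, 2285, 210), (3249, 1, 1942, 225), (3249, 2, 3567, 225), (555, 2, 868, 198), (3065, 1, 1453, 225), (3065, 2, 2796, 210), (2023, 2, 1452, 216), (1979, 2, 2563, 198), (1067, 0, 2706, 210), (1530, 1, 3069, 225), (1530, 2, 3131, 216), (955, 2, 853, 210), (2905, 1, 2585, 225), (2905, 2, 3327, 201), (2012, 2, 1950, 225), (2154, 2, 1660, 228), (1963, 0, 1538, 216), (2470, 1, 2704,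 210), (2470, 2, 3127, 228), (1886, 2, 2214, 225), (1317, 1, 751, 210), (1317, 2, 2244, 201), (1792, 2, 1935, 228), (1201, 2, 770, 228), (3103, 2, 2182, 210), (925, 1, 919, 228), (925, 2, 820, 198), (3676, 2, 2716, 228), (1470, 1, 1256, 225), (2996, 2, 1589, 216), (885, 0, 3313, 198), (2803, 1, 946, 225), (2803, 2, 2629, 198), (611, 2, 1113, 216), (3620, 1, 2176, 201), (3620, 2, 1015, 201), (2413, 2, 3016, 216), (1592, 2, 705, 198), (2631, 0, 2814, 201), (626, 1, 1083, 201), (626, 2, 3409, 228), (1337, 2, 2734, 210), (2697, 1, 1989, 210), (2697, 2, 2524, 201), (3299, 2, 3448, 216), (3255, 2, 3046, 216), (3424, 0, 2248, 225), (2850, 1, 2074, 228), (2850, 2, 1970, 216), (2152, 2, 882, 216), (2861, 1, 3760, 216), (2861, 2, 1883, 201), (3034, 2, 639, 216), (643, 0, 1130, 225), (2656, 1, 2544, 210), (2656, 2, 976, 198), (664, 2, 2423, 225), (2952, 0, 2017, 228), (2339, 1, 2767, 198), (2339, 2, 3788, 198), (2177, 2, 3485, 210), (3586, 1, 3181, 216), (3586, 2, 2087, 198), (2428,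 2, 2178, 225), (674, 1, 3642, 198), (674, 2, 686, 225), (3738, 2, 691, 198), (2113, 0, 1447, 228), (2904, 1, 2995, 216), (2904, 2, 1203, 201), (704, 2, 2459, 228), (1947, 1, 780, 198), (2106, 2, 844, 198), (1833, 0, 3208, 216), (1280, 1, 737, 225), (1280, 2, 1011, 225), (1446, 2, 1823, 216), (3643, 1, 1459, 216), (3643, 2, 2550, 210), (2842, 2, 3063, 225), (2959, 2, 1875, 225), (1641, 0, 784, 225), (2013, 1, 1354, 210), (2013, 2, 1668, 228), (3053, 2, 3457, 228), (3306, 1, 3696, 198), (3306, 2, 2016, 201), (3235, 2, 2443, 225), (867, 1, 788, 216), (867, 2, 2037, 198), (1407, 2, 2652, 225), (1135, 1, 2526, 228), (2852, 2, 799, 228), (3258, 0, 1735, 210), (1645, 1, 2190, 225), (1645, 2, 3576, 216), (2878, 2, 3171, 216), (2813, 1, 2554, 198), (2813, 2, 3724, 198), (3714, 2, 3509, 225), (2928, 1, 3750, 216), (2832, 2, 1937, 210), (1277, 0, 2080, 228), (2551, 1, 2690, 228), (2551, 2, 1557, 210), (3649, 2, 1873, 216), (2024, 1, 1818, 201), (2024, 2, 2561, 210), (1804, 2, 3420,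 198), (986, 0, 1310, 228), (3479, 1, 1189, 198), (3479, 2, 3751, 198), (1219, 2, 2515, 228), (3322, 0, 3489, 210), (2759, 1, 1482, 216), (2759, 2, 1782, 210), (3747, 2, 2039, 201), (1292, 1, 3203, 216), (1292, 2, 2589, 216), (3141, 2, 3561, 201), (2146, 2, 2215, 225), (1590, 0, 1756, 201), (2851, 1, 2992, 216), (2851, 2, 3145, 228), (1174, 2, 2093, 198), (2723, 1, 3161, 228), (2723, 2, 2727, 210), (3779, 2, 2402, 225), (2301, 1, 1544, 228), (2301, 2, 3710, 198), (2280, 2, 2833, 225), (239, 2, 2466, 198), (2089, 1, 3213, 210), (1489, 2, 1025, 210)]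

/-- Steps. -/
def rows19_13 : List (ℕ × ℕ × ℕ × ℕ) := [(3397, 1, 3279, 198), (2384, 2, 2273, 228), (3246, 1, 3248, 201), (3147, 2, 3309, 201), (931, 1, 937, 198), (1260, 2, 1844, 201), (3483, 1, 2699, 228), (1514, 2, 1749, 216), (429, 1, 1580, 216), (93, 2, 1750, 210), (11, 1, 2125, 228), (1817, 2, 13, 198), (2450, 1, 358, 216), (787, 2, 3152, 225), (2954, 1, 1046, 228), (3155, 2, 871, 216), (2800, 1, 1285, 198), (3214, 2, 3153, 201), (1743, 1, 2566, 198), (420, 2, 1328, 201), (263, 1, 995, 228), (3423, 2, 2657, 210), (2873, 1, 2741, 201), (3790, 2, 3158, 198), (1977, 1, 200, 225), (3008, 2, 24, 228), (1205, 1, 3622, 201), (3356, 2, 1962, 225), (28, 1, 3023, 228), (585, 2, 3111, 210), (3086, 1, 2664, 228), (568, 2, 1699, 210), (3281, 1, 73, 210), (1734, 2, 2758, 198), (32, 1, 2948, 228), (249, 2, 3678, 228), (395, 1, 1838, 201), (34, 2, 3574, 201), (3748, 1, 1063, 228), (3376, 2, 1582, 216), (792, 1, 1812, 210), (137, 2, 2830, 198), (2225, 1, 1027, 210), (2134, 2, 1008,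 216), (332, 1, 3405, 210), (2665, 2, 2920, 225), (2671, 1, 623, 225), (3021, 2, 51, 201), (41, 1, 690, 198), (3501, 2, 2503, 210), (1338, 1, 758, 225), (2314, 2, 223, 225), (2480, 1, 3100, 198), (1997, 2, 218, 225), (3324, 1, 592, 228), (47, 2, 2662, 228), (153, 1, 663, 201), (3252, 2, 2645, 210), (3064, 1, 3182, 225), (368, 2, 1481, 210), (52, 1, 2320, 225), (1081, 2, 3456, 198), (1575, 1, 807, 228), (689, 2, 2032, 210), (3033, 1, 2860, 198), (2689, 2, 1599, 216), (2380, 1, 1271, 210), (1194, 2, 661, 198), (2766, 1, 3563, 198), (2810, 2, 608, 201), (2334, 1, 1249, 198), (198, 2, 199, 228), (1574, 1, 3391, 210), (1373, 2, 3365, 210), (2206, 1, 2296, 210), (64, 2, 2281, 201), (2945, 1, 318, 225), (1302, 2, 2156, 201), (1846, 1, 3125, 201), (2737, 2, 2191, 198), (2924, 1, 2305, 198), (388, 2, 2030, 228), (2114, 1, 1744, 216), (2892, 2, 3200, 210), (1069, 1, 1082, 201), (219, 2, 72, 210), (3728, 1, 454, 228), (2958, 2, 3438, 198), (615, 1, 892, 210), (2326, 2, 3429, 210),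 (1020, 1, 1036, 216), (513, 2, 2083, 225), (843, 1, 77, 198), (3012, 2, 3539, 210), (3108, 1, 953, 210), (190, 2, 1695, 210), (2712, 1, 3507, 210), (673, 2, 735, 198), (2412, 1, 2283, 216), (1290, 2, 648, 210), (3692, 1, 2383, 201), (2731, 2, 2990, 216), (2440, 1, 2672, 225), (2277, 2, 436, 198), (1709, 1, 1048, 198), (813, 2, 1505, 210), (1073, 1, 3592, 216), (3408, 2, 1093, 201), (1198, 1, 3139, 210), (1900, 2, 204, 198), (1022, 1, 2382, 225), (3055, 2, 613, 198), (804, 1, 97, 210), (2202, 2, 215, 225), (100, 1, 987, 216), (2630, 2, 1248, 228), (3188, 1, 328, 216), (926, 2, 679, 201), (2899, 1, 457, 228), (2574, 2, 2593, 198), (3789, 1, 1793, 210), (3035, 2, 119, 216), (2094, 1, 353, 210), (3291, 2, 602, 198), (1440, 1, 3782, 216), (736, 2, 2890, 228), (1698, 1, 3630, 210), (2877, 2, 1723, 201), (2257, 1, 508, 225), (3199, 2, 300, 228), (3368, 1, 2417, 225), (1509, 2, 2597, 201), (2916, 1, 3713, 225), (1610, 2, 1355, 216), (1788, 1, 136, 198), (881, 2, 2230, 225),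 (2827, 1, 121, 216), (1649, 2, 282, 225), (2518, 1, 1615, 228), (2634, 2, 2144, 225), (2378, 1, 3669, 198), (1014, 2, 2994, 198), (943, 1, 3453, 228), (126, 2, 3720, 198), (1200, 1, 438, 216), (586, 2, 855, 201), (594, 1, 3666, 201), (414, 2, 131, 228), (1475, 1, 2557, 210), (3568, 2, 801, 198), (1772, 1, 3264, 210), (1454, 2, 167, 228), (1309, 1, 656, 210), (3584, 2, 1944, 216), (3496, 1, 3221, 210), (3316, 2, 2221, 201), (2367, 1, 2222, 201), (1693, 2, 1266, 216), (851, 1, 2624, 198), (2229, 2, 1811, 201), (2369, 1, 1476, 225), (1420, 2, 1245, 228), (645, 1, 1730, 201), (2787, 2, 503, 228), (301, 1, 879, 225), (415, 2, 1795, 198), (3415, 1, 2218, 198), (1845, 2, 810, 201), (2052, 1, 3277, 198), (1423, 2, 444, 198), (1545, 1, 302, 201), (216, 2, 494, 228), (448, 1, 3061, 198), (1637, 2, 1548, 201), (930, 1, 2224, 198), (1122, 2, 597, 201), (3444, 1, 1836, 201), (1799, 2, 3482, 228), (1442, 1, 2026, 228), (1598, 2, 2458, 228), (169, 1, 2606, 198), (2513, 2, 3078, 201),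 (765, 1, 2265, 198), (741, 2, 1948, 210), (2004, 1, 3616, 225), (2862, 2, 1631, 210), (511, 1, 500, 216), (299, 2, 275, 228), (546, 1, 3599, 210), (1678, 2, 3386, 225), (3192, 1, 178, 201), (2310, 2, 721, 216), (3234, 1, 3027, 225), (1395, 2, 1650, 210), (2609, 1, 2354, 225), (3126, 2, 1746, 198), (3229, 1, 3146, 216), (852, 2, 2448, 201), (2751, 1, 1133, 228), (873, 2, 3120, 210), (1761, 1, 3101, 228), (2936, 2, 331, 201), (3009, 1, 2632, 225), (793, 2, 2003, 228), (2506, 1, 2465, 198), (2572, 2, 417, 201), (1098, 1, 3552, 216), (2340, 2, 2185, 201), (1828, 1, 3562, 216), (864, 2, 2348, 210), (706, 1, 2902, 216), (1340, 2, 3335, 228), (262, 1, 3167, 198), (756, 2, 3332, 225), (1171, 1, 1244, 228), (1497, 2, 1868, 198), (548, 1, 2368, 201), (474, 2, 1059, 201), (3399, 1, 2311, 210), (3556, 2, 1287, 198), (1533, 1, 467, 228), (740, 2, 1044, 228), (2979, 1, 921, 225), (2840, 2, 1878, 228), (3468, 1, 2103, 228), (3285, 2, 3652, 210), (1516, 1, 3689, 201), (233, 2, 1814,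 198), (2705, 1, 3503, 201), (1235, 2, 2853, 225), (2685, 1, 2294, 225), (552, 2, 2536, 225), (2743, 1, 1028, 225), (1145, 2, 2180, 210), (2584, 1, 2047, 210), (3752, 2, 1388, 228), (3096, 1, 1652, 198), (2174, 2, 2034, 198), (739, 1, 3635, 216), (1705, 2, 1520, 225), (3352, 1, 2807, 228), (1146, 2, 3049, 216), (1579, 1, 3293, 228), (560, 2, 2819, 216), (2521, 1, 857, 225), (3054, 2, 418, 228), (1432, 1, 3197, 228), (2188, 2, 2931, 228), (434, 1, 1316, 210), (473, 2, 1460, 225)]

/-- Steps. -/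
def rows19_14 : List (ℕ × ℕ × ℕ × ℕ) := [(2289, 1, 2411, 225), (3719, 2, 1986, 198), (3707, 1, 2970, 210), (3646, 2, 840, 210), (323, 1, 1332, 210), (341, 2, 506, 210), (2747, 1, 326, 216), (667, 2, 327, 201), (1778, 1, 3759, 201), (2241, 2, 2422, 210), (3522, 1, 1275, 198), (2306, 2, 3763, 216), (776, 1, 2545, 198), (335, 2, 3380, 201), (1043, 1, 826, 201), (2691, 2, 354, 198), (3697, 1, 965, 228), (1166, 2, 634, 210), (1774, 1, 1321, 216), (2596, 2, 3060, 216), (3072, 1, 1570, 228), (1246, 2, 3529, 210), (1449, 1, 1527, 216), (2893, 2, 1801, 198), (2145, 1, 510, 228), (3210, 2, 2976, 198), (400, 1, 2227, 201), (2266, 2, 2406, 201), (1623, 1, 1840, 210), (3198, 2, 3271, 216), (410, 1, 3110, 201), (3382, 2, 2591, 216), (2062, 1, 2288, 201), (1492, 2, 2917, 228), (2379, 1, 2534, 210), (1054, 2, 1009, 216), (2092, 1, 1949, 198), (456, 2, 2635, 225), (1830, 1, 3189, 198), (1587, 2, 985, 201), (465, 1, 2325, 216), (3441, 2, 470, 201), (2282, 1, 2194, 210), (2349, 2, 3450,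 210), (3260, 1, 2910, 198), (2887, 2, 491, 198), (3160, 1, 2284, 198), (1856, 2, 3705, 198), (3301, 1, 1853, 201), (696, 2, 1779, 198), (1521, 1, 2473, 210), (2332, 2, 532, 198), (2285, 1, 1270, 228), (2563, 2, 533, 198), (2706, 1, 1562, 210), (1660, 2, 1728, 216), (1538, 1, 3520, 198), (1589, 2, 3670, 198), (3313, 1, 1752, 228), (705, 2, 1919, 201), (2814, 1, 3499, 198), (3046, 2, 964, 228), (2248, 1, 1223, 201), (2423, 2, 874, 201), (2017, 1, 3402, 225), (844, 2, 3318, 225), (3208, 1, 2263, 201), (1875, 2, 3228, 225), (784, 1, 1117, 216), (799, 2, 3383, 198), (1735, 1, 1903, 228), (1937, 2, 2435, 228), (2080, 1, 3151, 228), (2515, 2, 3543, 210), (3489, 1, 1665, 225), (2215, 2, 1313, 225), (1756, 1, 3771, 228)]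

/-- Steps of vertex 19. -/
def rows19 : List (ℕ × ℕ × ℕ × ℕ) := rows19_0 ++ rows19_1 ++ rows19_2 ++ rows19_3 ++ rows19_4 ++ rows19_5 ++ rows19_6 ++ rows19_7 ++ rows19_8 ++ rows19_9 ++ rows19_10 ++ rows19_11 ++ rows19_12 ++ rows19_13 ++ rows19_14

theorem sweep19 : (sweep gens19 rows19 (seedSet seeds19 0) == some (2 ^ numTrio - 1)) = true := by
  decide +kernel

theorem good19 (rows : ∀ k < numTrio, rowOk k = true) :
    ∀ k < numTrio, Good C (vlist C) (v19 C) k :=
  good_all C rows (seeds19_good C)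
    (fun g hg => ⟨gens19_fix C g hg, List.all_eq_true.1 gens19_ok g hg⟩) sweep19

end CfsgLib.J4Index
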