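import Cfsg.Agent.Lib.J4Index.Vertex0
import Cfsg.Agent.Lib.J4Index.Vertex1
import Cfsg.Agent.Lib.J4Index.Vertex2
import Cfsg.Agent.Lib.J4Index.Vertex3
import Cfsg.Agent.Lib.J4Index.Vertex4
import Cfsg.Agent.Lib.J4Index.Vertex5
import Cfsg.Agent.Lib.J4Index.Vertex6
import Cfsg.Agent.Lib.J4Index.Vertex7
import Cfsg.Agent.Lib.J4Index.Vertex8
import Cfsg.Agent.Lib.J4Index.Vertex9
import Cfsg.Agent.Lib.J4Index.Vertex10
import Cfsg.Agent.Lib.J4Index.Vertex12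
import Cfsg.Agent.Lib.J4Index.Vertex13
import Cfsg.Agent.Lib.J4Index.Vertex14
import Cfsg.Agent.Lib.J4Index.Vertex15
import Cfsg.Agent.Lib.J4Index.Vertex16
import Cfsg.Agent.Lib.J4Index.Vertex17
import Cfsg.Agent.Lib.J4Index.Vertex18
import Cfsg.Agent.Lib.J4Index.Vertex19
import Cfsg.Agent.Lib.J4Index.Vertex20
import Cfsg.Agent.Lib.J4Index.TrioCheck0
import Cfsg.Agent.Lib.J4Index.TrioCheck1
import Cfsg.Agent.Lib.J4Index.TrioCheck2
import Cfsg.Agent.Lib.J4Index.TrioCheck3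

/-!
# A set acted on with the relations of the presented Janko group J4 has at most 173067389 points
-/

set_option autoImplicit false
set_option maxRecDepth 100000

namespace CfsgLib.J4Index

theorem all_rows : ∀ k < numTrio, rowOk k = true := by
  intro k hk
  have h : rowsOk (64 * (k / 64)) 64 = true := by
    have hq : k / 64 < 60 := by unfold numTrio at hk; omega
    generalize k / 64 = q at hq
    interval_cases q
    · exact rows_0
    · exact rows_1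
    · exact rows_2
    · exact rows_3
    · exact rows_4
    · exact rows_5
    · exact rows_6
    · exact rows_7
    · exact rows_8
    · exact rows_9
    · exact rows_10
    · exact rows_11
    · exact rows_12
    · exact rows_13
    · exact rows_14
    · exact rows_15
    · exact rows_16
    · exact rows_17
    · exact rows_18
    · exact rows_19
    · exact rows_20
    · exact rows_21
    · exact rows_22
    · exact rows_23
    · exact rows_24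
    · exact rows_25
    · exact rows_26
    · exact rows_27
    · exact rows_28
    · exact rows_29
    · exact rows_30
    · exact rows_31
    · exact rows_32
    · exact rows_33
    · exact rows_34
    · exact rows_35
    · exact rows_36
    · exact rows_37
    · exact rows_38
    · exact rows_39
    · exact rows_40
    · exact rows_41
    · exact rows_42
    · exact rows_43
    · exact rows_44
    · exact rows_45
    · exact rows_46
    · exact rows_47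
    · exact rows_48
    · exact rows_49
    · exact rows_50
    · exact rows_51
    · exact rows_52
    · exact rows_53
    · exact rows_54
    · exact rows_55
    · exact rows_56
    · exact rows_57
    · exact rows_58
    · exact rows_59
  simp only [rowsOk, List.all_eq_true, List.mem_range, Bool.or_eq_true, Nat.ble_eq] at h
  have h2 := h (k % 64) (Nat.mod_lt _ (by norm_num))
  rw [Nat.div_add_mod] at h2
  exact h2.resolve_left (by omega)

variable {G X : Type} [Group G] [MulAction G X] (C : Ctx G X)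

theorem vlist_good : ∀ v ∈ vlist C, ∀ k < numTrio, Good C (vlist C) v k := by
  simp only [vlist, List.forall_mem_cons, List.not_mem_nil, IsEmpty.forall_iff, implies_true, and_true]
  exact ⟨good0 C all_rows, good1 C all_rows, good2 C all_rows, good3 C all_rows, good4 C all_rows, good5 C all_rows, good6 C all_rows, good7 C all_rows, good8 C all_rows, good9 C all_rows, good10 C all_rows, good12 C all_rows, good13 C all_rows, good14 C all_rows, good15 C all_rows, good16 C all_rows, good17 C all_rows, good18 C all_rows, good19 C all_rows, good20 C all_rows⟩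

/-- The number of points is at most the index of the subgroup generated by x, y and the third element. -/
theorem card_le [MulAction.IsPretransitive G X]
    (hgen : Subgroup.closure {C.a, C.b, C.t} = ⊤) : Finite X ∧ Nat.card X ≤ 173067389 := by
  have hu : (Set.univ : Set X) = orbSet C (v0 C) ∪ orbSet C (v1 C) ∪ orbSet C (v2 C) ∪ orbSet C (v3 C) ∪ orbSet C (v4 C) ∪ orbSet C (v5 C) ∪ orbSet C (v6 C) ∪ orbSet C (v7 C) ∪ orbSet C (v8 C) ∪ orbSet C (v9 C) ∪ orbSet C (v10 C) ∪ orbSet C (v12 C) ∪ orbSet C (v13 C) ∪ orbSet C (v14 C) ∪ orbSet C (v15 C) ∪ orbSet C (v16 C) ∪ orbSet C (v17 C) ∪ orbSet C (v18 C) ∪ orbSet C (v19 C) ∪ orbSet C (v20 C) := by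
    refine (Set.eq_univ_of_forall fun q => ?_).symm
    obtain ⟨g, rfl⟩ := MulAction.exists_smul_eq G C.p0 q
    obtain ⟨h, hh, v, hv, e⟩ := mem_union C all_rows (v0_mem C) (vlist_good C) hgen g
    simp only [Set.mem_union]
    simp only [vlist, List.mem_cons, List.not_mem_nil, or_false] at hv
    rcases hv with rfl | rfl | rfl | rfl | rfl | rfl | rfl | rfl | rfl | rfl | rfl | rfl | rfl | rfl | rfl | rfl | rfl | rfl | rfl | rfl
    all_goals
      have hm : g • C.p0 ∈ orbSet C _ := ⟨h, hh, e⟩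
      simp [hm]
  obtain ⟨f0', c0⟩ := orbit0 C
  obtain ⟨f1', c1⟩ := orbit1 C
  obtain ⟨f2', c2⟩ := orbit2 C
  obtain ⟨f3', c3⟩ := orbit3 C
  obtain ⟨f4', c4⟩ := orbit4 C
  obtain ⟨f5', c5⟩ := orbit5 C
  obtain ⟨f6', c6⟩ := orbit6 C
  obtain ⟨f7', c7⟩ := orbit7 C
  obtain ⟨f8', c8⟩ := orbit8 C
  obtain ⟨f9', c9⟩ := orbit9 C
  obtain ⟨f10', c10⟩ := orbit10 C
  obtain ⟨f12', c12⟩ := orbit12 C
  obtain ⟨f13', c13⟩ := orbit13 C
  obtain ⟨f14', c14⟩ := orbit14 C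
  obtain ⟨f15', c15⟩ := orbit15 C
  obtain ⟨f16', c16⟩ := orbit16 C
  obtain ⟨f17', c17⟩ := orbit17 C
  obtain ⟨f18', c18⟩ := orbit18 C
  obtain ⟨f19', c19⟩ := orbit19 C
  obtain ⟨f20', c20⟩ := orbit20 C
  have hfin : (Set.univ : Set X).Finite := by
    rw [hu]
    exact (((((((((((((((((((f0').union f1').union f2').union f3').union f4').union f5').union f6').union f7').union f8').union f9').union f10').union f12').union f13').union f14').union f15').union f16').union f17').union f18').union f19').union f20'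
  refine ⟨Set.finite_univ_iff.1 hfin, ?_⟩
  rw [← Set.ncard_univ, hu]
  have u0 : (orbSet C (v0 C)).ncard ≤ 1 := c0
  have u1 : (orbSet C (v0 C) ∪ orbSet C (v1 C)).ncard ≤ 3796 :=
    (Set.ncard_union_le _ _).trans (Nat.add_le_add u0 c1)
  have u2 : (orbSet C (v0 C) ∪ orbSet C (v1 C) ∪ orbSet C (v2 C)).ncard ≤ 322576 :=
    (Set.ncard_union_le _ _).trans (Nat.add_le_add u1 c2)
  have u3 : (orbSet C (v0 C) ∪ orbSet C (v1 C) ∪ orbSet C (v2 C) ∪ orbSet C (v3 C)).ncard ≤ 1597696 :=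
    (Set.ncard_union_le _ _).trans (Nat.add_le_add u2 c3)
  have u4 : (orbSet C (v0 C) ∪ orbSet C (v1 C) ∪ orbSet C (v2 C) ∪ orbSet C (v3 C) ∪ orbSet C (v4 C)).ncard ≤ 6698176 :=
    (Set.ncard_union_le _ _).trans (Nat.add_le_add u3 c4)
  have u5 : (orbSet C (v0 C) ∪ orbSet C (v1 C) ∪ orbSet C (v2 C) ∪ orbSet C (v3 C) ∪ orbSet C (v4 C) ∪ orbSet C (v5 C)).ncard ≤ 8610856 :=
    (Set.ncard_union_le _ _).trans (Nat.add_le_add u4 c5)
  have u6 : (orbSet C (v0 C) ∪ orbSet C (v1 C) ∪ orbSet C (v2 C) ∪ orbSet C (v3 C) ∪ orbSet C (v4 C) ∪ orbSet C (v5 C) ∪ orbSet C (v6 C)).ncard ≤ 9089026 :=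
    (Set.ncard_union_le _ _).trans (Nat.add_le_add u5 c6)
  have u7 : (orbSet C (v0 C) ∪ orbSet C (v1 C) ∪ orbSet C (v2 C) ∪ orbSet C (v3 C) ∪ orbSet C (v4 C) ∪ orbSet C (v5 C) ∪ orbSet C (v6 C) ∪ orbSet C (v7 C)).ncard ≤ 9100411 :=
    (Set.ncard_union_le _ _).trans (Nat.add_le_add u6 c7)
  have u8 : (orbSet C (v0 C) ∪ orbSet C (v1 C) ∪ orbSet C (v2 C) ∪ orbSet C (v3 C) ∪ orbSet C (v4 C) ∪ orbSet C (v5 C) ∪ orbSet C (v6 C) ∪ orbSet C (v7 C) ∪ orbSet C (v8 C)).ncard ≤ 9126976 :=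
    (Set.ncard_union_le _ _).trans (Nat.add_le_add u7 c8)
  have u9 : (orbSet C (v0 C) ∪ orbSet C (v1 C) ∪ orbSet C (v2 C) ∪ orbSet C (v3 C) ∪ orbSet C (v4 C) ∪ orbSet C (v5 C) ∪ orbSet C (v6 C) ∪ orbSet C (v7 C) ∪ orbSet C (v8 C) ∪ orbSet C (v9 C)).ncard ≤ 11677216 :=
    (Set.ncard_union_le _ _).trans (Nat.add_le_add u8 c9)
  have u10 : (orbSet C (v0 C) ∪ orbSet C (v1 C) ∪ orbSet C (v2 C) ∪ orbSet C (v3 C) ∪ orbSet C (v4 C) ∪ orbSet C (v5 C) ∪ orbSet C (v6 C) ∪ orbSet C (v7 C) ∪ orbSet C (v8 C) ∪ orbSet C (v9 C) ∪ orbSet C (v10 C)).ncard ≤ 14227456 :=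
    (Set.ncard_union_le _ _).trans (Nat.add_le_add u9 c10)
  have u11 : (orbSet C (v0 C) ∪ orbSet C (v1 C) ∪ orbSet C (v2 C) ∪ orbSet C (v3 C) ∪ orbSet C (v4 C) ∪ orbSet C (v5 C) ∪ orbSet C (v6 C) ∪ orbSet C (v7 C) ∪ orbSet C (v8 C) ∪ orbSet C (v9 C) ∪ orbSet C (v10 C) ∪ orbSet C (v12 C)).ncard ≤ 14280586 :=
    (Set.ncard_union_le _ _).trans (Nat.add_le_add u10 c12)
  have u12 : (orbSet C (v0 C) ∪ orbSet C (v1 C) ∪ orbSet C (v2 C) ∪ orbSet C (v3 C) ∪ orbSet C (v4 C) ∪ orbSet C (v5 C) ∪ orbSet C (v6 C) ∪ orbSet C (v7 C) ∪ orbSet C (v8 C) ∪ orbSet C (v9 C) ∪ orbSet C (v10 C) ∪ orbSet C (v12 C) ∪ orbSet C (v13 C)).ncard ≤ 14282357 :=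
    (Set.ncard_union_le _ _).trans (Nat.add_le_add u11 c13)
  have u13 : (orbSet C (v0 C) ∪ orbSet C (v1 C) ∪ orbSet C (v2 C) ∪ orbSet C (v3 C) ∪ orbSet C (v4 C) ∪ orbSet C (v5 C) ∪ orbSet C (v6 C) ∪ orbSet C (v7 C) ∪ orbSet C (v8 C) ∪ orbSet C (v9 C) ∪ orbSet C (v10 C) ∪ orbSet C (v12 C) ∪ orbSet C (v13 C) ∪ orbSet C (v14 C)).ncard ≤ 14494877 :=
    (Set.ncard_union_le _ _).trans (Nat.add_le_add u12 c14)
  have u14 : (orbSet C (v0 C) ∪ orbSet C (v1 C) ∪ orbSet C (v2 C) ∪ orbSet C (v3 C) ∪ orbSet C (v4 C) ∪ orbSet C (v5 C) ∪ orbSet C (v6 C) ∪ orbSet C (v7 C) ∪ orbSet C (v8 C) ∪ orbSet C (v9 C) ∪ orbSet C (v10 C) ∪ orbSet C (v12 C) ∪ orbSet C (v13 C) ∪ orbSet C (v14 C) ∪ orbSet C (v15 C)).ncard ≤ 29796317 :=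
    (Set.ncard_union_le _ _).trans (Nat.add_le_add u13 c15)
  have u15 : (orbSet C (v0 C) ∪ orbSet C (v1 C) ∪ orbSet C (v2 C) ∪ orbSet C (v3 C) ∪ orbSet C (v4 C) ∪ orbSet C (v5 C) ∪ orbSet C (v6 C) ∪ orbSet C (v7 C) ∪ orbSet C (v8 C) ∪ orbSet C (v9 C) ∪ orbSet C (v10 C) ∪ orbSet C (v12 C) ∪ orbSet C (v13 C) ∪ orbSet C (v14 C) ∪ orbSet C (v15 C) ∪ orbSet C (v16 C)).ncard ≤ 37447037 :=
    (Set.ncard_union_le _ _).trans (Nat.add_le_add u14 c16)
  have u16 : (orbSet C (v0 C) ∪ orbSet C (v1 C) ∪ orbSet C (v2 C) ∪ orbSet C (v3 C) ∪ orbSet C (v4 C) ∪ orbSet C (v5 C) ∪ orbSet C (v6 C) ∪ orbSet C (v7 C) ∪ orbSet C (v8 C) ∪ orbSet C (v9 C) ∪ orbSet C (v10 C) ∪ orbSet C (v12 C) ∪ orbSet C (v13 C) ∪ orbSet C (v14 C) ∪ orbSet C (v15 C) ∪ orbSet C (v16 C) ∪ orbSet C (v17 C)).ncard ≤ 78250877 :=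
    (Set.ncard_union_le _ _).trans (Nat.add_le_add u15 c17)
  have u17 : (orbSet C (v0 C) ∪ orbSet C (v1 C) ∪ orbSet C (v2 C) ∪ orbSet C (v3 C) ∪ orbSet C (v4 C) ∪ orbSet C (v5 C) ∪ orbSet C (v6 C) ∪ orbSet C (v7 C) ∪ orbSet C (v8 C) ∪ orbSet C (v9 C) ∪ orbSet C (v10 C) ∪ orbSet C (v12 C) ∪ orbSet C (v13 C) ∪ orbSet C (v14 C) ∪ orbSet C (v15 C) ∪ orbSet C (v16 C) ∪ orbSet C (v17 C) ∪ orbSet C (v18 C)).ncard ≤ 159858557 :=
    (Set.ncard_union_le _ _).trans (Nat.add_le_add u16 c18)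
  have u18 : (orbSet C (v0 C) ∪ orbSet C (v1 C) ∪ orbSet C (v2 C) ∪ orbSet C (v3 C) ∪ orbSet C (v4 C) ∪ orbSet C (v5 C) ∪ orbSet C (v6 C) ∪ orbSet C (v7 C) ∪ orbSet C (v8 C) ∪ orbSet C (v9 C) ∪ orbSet C (v10 C) ∪ orbSet C (v12 C) ∪ orbSet C (v13 C) ∪ orbSet C (v14 C) ∪ orbSet C (v15 C) ∪ orbSet C (v16 C) ∪ orbSet C (v17 C) ∪ orbSet C (v18 C) ∪ orbSet C (v19 C)).ncard ≤ 172099709 :=
    (Set.ncard_union_le _ _).trans (Nat.add_le_add u17 c19)
  have u19 : (orbSet C (v0 C) ∪ orbSet C (v1 C) ∪ orbSet C (v2 C) ∪ orbSet C (v3 C) ∪ orbSet C (v4 C) ∪ orbSet C (v5 C) ∪ orbSet C (v6 C) ∪ orbSet C (v7 C) ∪ orbSet C (v8 C) ∪ orbSet C (v9 C) ∪ orbSet C (v10 C) ∪ orbSet C (v12 C) ∪ orbSet C (v13 C) ∪ orbSet C (v14 C) ∪ orbSet C (v15 C) ∪ orbSet C (v16 C) ∪ orbSet C (v17 C) ∪ orbSet C (v18 C) ∪ orbSet C (v19 C) ∪ orbSet C (v20 C)).ncard ≤ 173067389 :=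
    (Set.ncard_union_le _ _).trans (Nat.add_le_add u18 c20)
  exact u19

end CfsgLib.J4Index
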