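import Cfsg.Agent.Lib.J4Index.Trios

/-!
# Closed unions of orbits and bounds for orbits
-/

set_option autoImplicit false
set_option maxRecDepth 100000

namespace CfsgLib.J4Index

open Cfsg CfsgLib.Golay CfsgLib.J4P
open CfsgLib.HNxyz (evalW evalW_nil evalW_cons)
open Ctx (isC)

theorem flat_id : ∀ {f : List ℕ}, (∀ l ∈ f, l < 4) → flat f = f
  | [], _ => rfl
  | a :: f, h => by
    obtain ⟨-, -, -, -, m0, m1, m2, m3, -⟩ := small_checks
    rw [flat, List.flatMap_cons, ← flat, flat_id fun g hg => h g (List.mem_cons_of_mem _ hg)]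
    have := h a List.mem_cons_self
    interval_cases a
    · rw [m0]; rfl
    · rw [m1]; rfl
    · rw [m2]; rfl
    · rw [m3]; rfl

variable {G X : Type} [Group G] [MulAction G X] (C : Ctx G X)

/-- The group generated by x and y. -/
abbrev Ctx.H : Subgroup G := Subgroup.closure {C.a, C.b}

theorem Ctx.W_mem (w : List ℕ) : C.W w ∈ C.H := by
  rw [Ctx.W, wv_flat]
  refine CfsgLib.J4P.evalW_mem _ fun g _ => ?_
  have := CfsgLib.J4P.eltL_mem_closure [C.a, C.b] g
  rwa [show {m | m ∈ [C.a, C.b]} = ({C.a, C.b} : Set G) by ext m; simp] at this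

theorem Ctx.mem_words {h : G} (hh : h ∈ C.H) : ∃ w : List ℕ, okW w = true ∧ C.W w = h := by
  have hrange : C.H ≤ (toM C.rels).range := by
    rw [Subgroup.closure_le]
    rintro m (rfl | rfl)
    · exact ⟨ga, by simp [toM, ga, PresentedGroup.toGroup.of]⟩
    · exact ⟨gb, by simp [toM, gb, PresentedGroup.toGroup.of]⟩
  obtain ⟨m, rfl⟩ := hrange hh
  suffices H : ∀ m : MG, ∃ f : List ℕ, (∀ l ∈ f, l < 4) ∧ evalW (eltL [ga, gb]) f = m by
    obtain ⟨f, hf, rfl⟩ := H m
    have h4 := small_checks.2.2.2.2.2.2.2.2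
    have hok : okW f = true := okW_iff.2 fun g hg => by have := hf g hg; omega
    refine ⟨f, hok, ?_⟩
    rw [toM_eval, Ctx.W, wv_flat, flat_id hf]
  intro m
  have hm : m ∈ Subgroup.closure {ga, gb} := mg_top ▸ Subgroup.mem_top m
  induction hm using Subgroup.closure_induction with
  | mem g hg =>
    rcases hg with rfl | rfl
    · exact ⟨[0], by simp, by simp [evalW, eltL]⟩
    · exact ⟨[2], by simp, by simp [evalW, eltL]⟩
  | one => exact ⟨[], by simp, rfl⟩
  | mul g g' _ _ e e' =>
    obtain ⟨u, hu, rfl⟩ := e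
    obtain ⟨v, hv, rfl⟩ := e'
    exact ⟨u ++ v, fun l hl => (List.mem_append.1 hl).elim (hu l) (hv l),
      CfsgLib.J4P.evalW_append _ u v⟩
  | inv g _ e =>
    obtain ⟨u, hu, rfl⟩ := e
    refine ⟨CfsgLib.HNxyz.invW u, ?_, CfsgLib.J4P.evalW_invW _ u⟩
    intro l hl
    simp only [CfsgLib.HNxyz.invW, List.mem_reverse, List.mem_map] at hl
    obtain ⟨g, hg, rfl⟩ := hl
    have := hu g hg
    interval_cases g <;> decide

/-- The union of the orbits of the listed vertices. -/
def inU (vl : List X) (q : X) : Prop := ∃ h ∈ C.H, ∃ v ∈ vl, h • v = q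

theorem inU_smul {vl : List X} {h : G} (hh : h ∈ C.H) {q : X} (hq : inU C vl q) :
    inU C vl (h • q) := by
  obtain ⟨g, hg, v, hv, rfl⟩ := hq
  exact ⟨h * g, mul_mem hh hg, v, hv, by rw [mul_smul]⟩

/-- The image under t of a point in one direction lies in the union. -/
def Good (vl : List X) (p : X) (k : ℕ) : Prop := inU C vl (C.t • C.W (tw k) • p)

theorem good_seed {vl : List X} {p q : X} {u v : List ℕ} (h : C.T p u q v) (k : ℕ) (c : List ℕ)
    (hq : q ∈ vl) (hc : isC c = true) (e : same u (c ++ tw k) = true) : Good C vl p k := by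
  have h' : C.t • C.W (tw k) • p = ((C.W c)⁻¹ * C.W v) • q := by
    have h1 : C.t • C.W u • p = C.W v • q := h
    rw [C.W_same e, C.W_append, mul_smul, ← mul_smul C.t, (C.commute_of_isC hc).eq,
      mul_smul] at h1
    rw [mul_smul, eq_inv_smul_iff]
    exact h1
  exact ⟨_, mul_mem (inv_mem (C.W_mem c)) (C.W_mem v), q, hq, h'.symm⟩

/-- The image of a point under a packed permutation. -/
def gimg (P i : ℕ) : ℕ := (P >>> (5 * i)) % 32

/-- The check of a packed generator. -/
def genOk (w : List ℕ) (P : ℕ) : Bool :=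
  okW w && (List.range 24).all fun i => Nat.beq (img w i) (gimg P i)

/-- The check of one step: parent, child and the correspondence of the blocks. -/
def stepOk (P : ℕ) (kp kc π : ℕ) : Bool :=
  Nat.blt kp numTrio && Nat.blt kc numTrio &&
    ((List.range 4).all fun a => (List.range 4).all fun b =>
      Nat.beq (labAt π a) (labAt π b) == Nat.beq a b) &&
    (List.range 24).all fun i =>
      Nat.beq (labAt (trioLab kp) (gimg P i)) (labAt π (labAt (trioLab kc) i))

/-- Follow the steps. -/
def sweep (gens : List (List ℕ × ℕ)) : List (ℕ × ℕ × ℕ × ℕ) → ℕ → Option ℕ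
  | [], m => some m
  | (kp, gi, kc, π) :: rows, m =>
    if m.testBit kp && Nat.blt gi gens.length && stepOk (gens.getD gi ([], 0)).2 kp kc π then
      sweep gens rows (m ||| 2 ^ kc)
    else none

/-- The set of the seeds. -/
def seedSet : List ℕ → ℕ → ℕ
  | [], m => m
  | p :: l, m => seedSet l (m ||| 2 ^ p)

theorem seedSet_mem : ∀ {l : List ℕ} {m : ℕ} {i : ℕ}, (seedSet l m).testBit i = true →
    i ∈ l ∨ m.testBit i = true
  | [], _, _, h => Or.inr h
  | p :: l, m, i, h => by
    rcases seedSet_mem (l := l) (m := m ||| 2 ^ p) h with h | h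
    · exact Or.inl (List.mem_cons_of_mem _ h)
    · rw [Nat.testBit_or, Bool.or_eq_true] at h
      rcases h with h | h
      · exact Or.inr h
      · rw [Nat.testBit_two_pow, decide_eq_true_eq] at h
        exact Or.inl (h ▸ List.mem_cons_self)

variable (rows : ∀ k < numTrio, rowOk k = true)

include rows

theorem good_step {vl : List X} {p : X} {kp kc π P : ℕ} {s : List ℕ} (hs : C.S p s)
    (hP : genOk s P = true) (hstep : stepOk P kp kc π = true) (hg : Good C vl p kp) :
    Good C vl p kc := by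
  simp only [genOk, Bool.and_eq_true, List.all_eq_true, List.mem_range, Nat.beq_eq] at hP
  simp only [stepOk, Bool.and_eq_true, List.all_eq_true, List.mem_range, Nat.blt_eq, Nat.beq_eq,
    beq_iff_eq] at hstep
  obtain ⟨hsok, himg⟩ := hP
  obtain ⟨⟨⟨hkp, hkc⟩, hinj⟩, hlab⟩ := hstep
  have okp := (okW_tw rows hkp).1
  have okc := okW_tw rows hkc
  set h := tw kp ++ s ++ twI kc with hh
  have hok : okW h = true := okW_append.2 ⟨okW_append.2 ⟨okp, hsok⟩, okc.2⟩
  have key : ∀ i < 24, labAt lab0 (img h i) = labAt π (labAt lab0 i) := by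
    intro i hi
    have h1 := img_lt okc.2 hi
    rw [hh, img_append, img_append, ← lab_tw rows hkp (img_lt hsok h1), himg _ h1, hlab _ h1,
      lab_tw rows hkc h1, ← img_append, img_of_same (row_spec rows hkc).sameI hi]
    rfl
  have hiff : LabIff h := by
    intro i hi j hj
    have hl : ∀ r, labAt lab0 r < 4 := fun r => Nat.mod_lt _ (by norm_num)
    rw [key i hi, key j hj, ← Nat.beq_eq, ← hinj _ (hl i) _ (hl j), Nat.beq_eq]
  obtain ⟨c, hc, e⟩ := exists_isC rows hok hiff
  have e2 : same (tw kp ++ s) (c ++ tw kc) = true := by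
    have h2 := same_app e (same_refl okc.1)
    have hI : same (twI kc ++ tw kc) [] = true := by
      refine same_iff.2 ⟨okW_append.2 ⟨okc.2, okc.1⟩, rfl, fun i hi => ?_⟩
      have h24 := base_lt hi
      have hinv : ∀ r < 24, img (tw kc) (img (twI kc) r) = r := fun r hr => by
        rw [← img_append, img_of_same (row_spec rows hkc).sameI hr]; rfl
      obtain ⟨r, hr, hri⟩ : ∃ r < 24, img (twI kc) r = img (twI kc) (img (tw kc) i) :=
        ⟨_, img_lt okc.1 h24, rfl⟩
      show img (twI kc ++ tw kc) i = i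
      rw [img_append]
      have hf : Function.Bijective (fun r : Fin 24 => (⟨img (tw kc) r.1, img_lt okc.1 r.2⟩ : Fin 24)) :=
        Finite.surjective_iff_bijective.1 fun r => ⟨⟨_, img_lt okc.2 r.2⟩, Fin.ext (hinv _ r.2)⟩
      have := @hf.1 ⟨_, img_lt okc.2 (img_lt okc.1 h24)⟩ ⟨i, h24⟩
        (Fin.ext (hinv _ (img_lt okc.1 h24)))
      exact congrArg Fin.val this
    refine same_trans ?_ h2
    rw [hh, List.append_assoc]
    refine same_iff.2 ⟨okW_append.2 ⟨okp, hsok⟩,
      okW_append.2 ⟨okW_append.2 ⟨okp, hsok⟩, okW_append.2 ⟨okc.2, okc.1⟩⟩, fun i hi => ?_⟩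
    rw [img_append (tw kp ++ s), img_of_same hI (base_lt hi)]
    rfl
  have h3 : C.t • C.W (tw kc) • p = (C.W c)⁻¹ • C.t • C.W (tw kp) • p := by
    conv_rhs => rw [← (hs : C.W s • p = p)]
    rw [eq_inv_smul_iff, ← mul_smul (C.W (tw kp)), ← C.W_append, C.W_same e2, C.W_append, mul_smul,
      ← mul_smul, ← (C.commute_of_isC hc).eq, mul_smul]
  show inU C vl (C.t • C.W (tw kc) • p)
  rw [h3]
  exact inU_smul C (inv_mem (C.W_mem c)) hg

theorem sweep_spec {vl : List X} {p : X} {gens : List (List ℕ × ℕ)}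
    (hgen : ∀ g ∈ gens, C.S p g.1 ∧ genOk g.1 g.2 = true) :
    ∀ {r : List (ℕ × ℕ × ℕ × ℕ)} {m m' : ℕ}, sweep gens r m = some m' →
      (∀ i, m.testBit i = true → Good C vl p i) → ∀ i, m'.testBit i = true → Good C vl p i
  | [], m, m', h, hm => by
    obtain rfl : m = m' := Option.some.inj h
    exact hm
  | (kp, gi, kc, π) :: r, m, m', h, hm => by
    rw [sweep] at h
    split at h
    next hc =>
      simp only [Bool.and_eq_true, Nat.blt_eq] at hc
      obtain ⟨⟨hp, hg⟩, hstep⟩ := hc
      have hmem : gens.getD gi ([], 0) ∈ gens := by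
        rw [List.getD_eq_getElem _ _ hg]; exact List.getElem_mem hg
      refine sweep_spec hgen h fun i hi => ?_
      rw [Nat.testBit_or, Bool.or_eq_true] at hi
      rcases hi with hi | hi
      · exact hm i hi
      · rw [Nat.testBit_two_pow, decide_eq_true_eq] at hi
        exact hi ▸ good_step C rows (hgen _ hmem).1 (hgen _ hmem).2 hstep (hm kp hp)
    next => exact absurd h (by simp)

theorem good_all {vl : List X} {p : X} {seeds : List ℕ} {gens : List (List ℕ × ℕ)}
    {r : List (ℕ × ℕ × ℕ × ℕ)} (hseed : ∀ k ∈ seeds, Good C vl p k)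
    (hgen : ∀ g ∈ gens, C.S p g.1 ∧ genOk g.1 g.2 = true)
    (h : (sweep gens r (seedSet seeds 0) == some (2 ^ numTrio - 1)) = true) :
    ∀ k < numTrio, Good C vl p k := by
  intro k hk
  refine sweep_spec C rows hgen (eq_of_beq h) (fun i hi => ?_) k
    (by rw [Nat.testBit_two_pow_sub_one]; simpa using hk)
  rcases seedSet_mem hi with hi | hi
  · exact hseed i hi
  · simp at hi

/-- A union closed under t in all directions is closed under the whole group. -/
theorem mem_union {vl : List X} (hp0 : C.p0 ∈ vl)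
    (hgood : ∀ v ∈ vl, ∀ k < numTrio, Good C vl v k)
    (hgen : Subgroup.closure {C.a, C.b, C.t} = ⊤) (g : G) : inU C vl (g • C.p0) := by
  have hT : ∀ q, inU C vl q → inU C vl (C.t • q) := by
    rintro q ⟨h, hh, v, hv, rfl⟩
    obtain ⟨w, hw, rfl⟩ := C.mem_words hh
    obtain ⟨k, hk, c, hc, e⟩ := decomp_letters rows (flat w) (flat_lt hw)
    rw [C.W_same (same_trans (same_flat hw) e), C.W_append, mul_smul, ← mul_smul C.t,
      (C.commute_of_isC hc).eq, mul_smul]
    exact inU_smul C (C.W_mem c) (hgood v hv k hk)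
  have hg : g ∈ Subgroup.closure {C.a, C.b, C.t} := hgen ▸ Subgroup.mem_top g
  suffices h : ∀ q, inU C vl q → inU C vl (g • q) ∧ inU C vl (g⁻¹ • q) from
    (h _ ⟨1, one_mem _, _, hp0, one_smul _ _⟩).1
  induction hg using Subgroup.closure_induction with
  | mem x hx =>
    intro q hq
    rcases hx with rfl | rfl | rfl
    · exact ⟨inU_smul C (Subgroup.subset_closure (Or.inl rfl)) hq,
        inU_smul C (inv_mem (Subgroup.subset_closure (Or.inl rfl))) hq⟩
    · exact ⟨inU_smul C (Subgroup.subset_closure (Or.inr rfl)) hq,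
        inU_smul C (inv_mem (Subgroup.subset_closure (Or.inr rfl))) hq⟩
    · exact ⟨hT q hq, by rw [inv_eq_of_mul_eq_one_right C.t_sq]; exact hT q hq⟩
  | one => intro q hq; simp only [inv_one, one_smul]; exact ⟨hq, hq⟩
  | mul x y _ _ ihx ihy =>
    intro q hq
    rw [mul_inv_rev, mul_smul, mul_smul]
    exact ⟨(ihx _ (ihy q hq).1).1, (ihy _ (ihx q hq).2).2⟩
  | inv x _ ih => intro q hq; rw [inv_inv]; exact ⟨(ih q hq).2, (ih q hq).1⟩

end CfsgLib.J4Index
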