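import Cfsg.Agent.Lib.J4Index.Verts

/-!
# Derived equations (generated)
-/

set_option autoImplicit false
set_option maxRecDepth 100000
set_option linter.style.longLine false

namespace CfsgLib.J4Index

variable {G X : Type} [Group G] [MulAction G X] (C : Ctx G X)

theorem f0 : C.S (v0 C) [10] :=
  rootAll C _

theorem f1 : C.S (v0 C) [7] :=
  rootAll C _

theorem f2 : C.T (v0 C) [] (v1 C) [] :=
  C.defn _ _

theorem f3 : C.S (v1 C) [10] :=
  C.transfer (f2 C) (f0 C) [132] _ (by decide +kernel) (by decide +kernel) (by decide +kernel)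

theorem f4 : C.S (v0 C) [24] :=
  C.stMul (f0 C) (f1 C) _ (by decide +kernel)

theorem f5 : C.S (v0 C) [20] :=
  C.stMul (f1 C) (f4 C) _ (by decide +kernel)

theorem f6 : C.S (v0 C) [22] :=
  C.stMul (f1 C) (f5 C) _ (by decide +kernel)

theorem f7 : C.S (v0 C) [4] :=
  C.stMul (f0 C) (f6 C) _ (by decide +kernel)

theorem f8 : C.S (v0 C) [5] :=
  C.stMul (f1 C) (f7 C) _ (by decide +kernel)

theorem f9 : C.S (v0 C) [19, 36] :=
  C.stMul (f0 C) (f8 C) _ (by decide +kernel)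

theorem f10 : C.S (v0 C) [15] :=
  C.stInv (f8 C) _ (by decide +kernel)

theorem f11 : C.S (v0 C) [20, 41] :=
  C.stMul (f10 C) (f9 C) _ (by decide +kernel)

theorem f12 : C.S (v1 C) [20, 41] :=
  C.transfer (f2 C) (f11 C) [142, 158, 164, 172, 178] _ (by decide +kernel) (by decide +kernel) (by decide +kernel)

theorem f13 : C.S (v0 C) [25] :=
  C.stMul (f1 C) (f1 C) _ (by decide +kernel)

theorem f14 : C.S (v0 C) [18] :=
  C.stMul (f0 C) (f13 C) _ (by decide +kernel)

theorem f15 : C.S (v0 C) [21] :=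
  C.stMul (f1 C) (f14 C) _ (by decide +kernel)

theorem f16 : C.S (v0 C) [14] :=
  C.stMul (f1 C) (f15 C) _ (by decide +kernel)

theorem f17 : C.S (v0 C) [16] :=
  C.stMul (f0 C) (f16 C) _ (by decide +kernel)

theorem f18 : C.S (v0 C) [16, 43] :=
  C.stMul (f1 C) (f17 C) _ (by decide +kernel)

theorem f19 : C.S (v0 C) [14, 43] :=
  C.stMul (f0 C) (f18 C) _ (by decide +kernel)

theorem f20 : C.S (v0 C) [9] :=
  C.stMul (f0 C) (f5 C) _ (by decide +kernel)

theorem f21 : C.S (v0 C) [9, 28] :=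
  C.stMul (f1 C) (f20 C) _ (by decide +kernel)

theorem f22 : C.S (v0 C) [20, 28] :=
  C.stMul (f0 C) (f21 C) _ (by decide +kernel)

theorem f23 : C.S (v0 C) [22, 28] :=
  C.stMul (f1 C) (f22 C) _ (by decide +kernel)

theorem f24 : C.S (v0 C) [24, 28] :=
  C.stMul (f1 C) (f23 C) _ (by decide +kernel)

theorem f25 : C.S (v0 C) [4, 42] :=
  C.stInv (f24 C) _ (by decide +kernel)

theorem f26 : C.S (v0 C) [19, 43] :=
  C.stMul (f25 C) (f19 C) _ (by decide +kernel)

theorem f27 : C.S (v1 C) [19, 43] :=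
  C.transfer (f2 C) (f26 C) [141] _ (by decide +kernel) (by decide +kernel) (by decide +kernel)

theorem f28 : C.T (v1 C) [] (v0 C) [] :=
  C.flip (f2 C)

theorem f29 : C.S (v0 C) [] :=
  C.stOne _

theorem f30 : C.S (v0 C) [25] :=
  C.stMul (f1 C) (f1 C) _ (by decide +kernel)

theorem f31 : C.S (v0 C) [18] :=
  C.stMul (f0 C) (f30 C) _ (by decide +kernel)

theorem f32 : C.S (v0 C) [21] :=
  C.stMul (f1 C) (f31 C) _ (by decide +kernel)

theorem f33 : C.S (v0 C) [14] :=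
  C.stMul (f1 C) (f32 C) _ (by decide +kernel)

theorem f34 : C.S (v0 C) [16] :=
  C.stMul (f0 C) (f33 C) _ (by decide +kernel)

theorem f35 : C.S (v0 C) [16, 43] :=
  C.stMul (f1 C) (f34 C) _ (by decide +kernel)

theorem f36 : C.S (v0 C) [16, 44] :=
  C.stMul (f1 C) (f35 C) _ (by decide +kernel)

theorem f37 : C.S (v0 C) [14, 44] :=
  C.stMul (f0 C) (f36 C) _ (by decide +kernel)

theorem f38 : C.S (v0 C) [18, 44] :=
  C.stMul (f1 C) (f37 C) _ (by decide +kernel)

theorem f39 : C.S (v0 C) [21, 44] :=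
  C.stMul (f1 C) (f38 C) _ (by decide +kernel)

theorem f40 : C.S (v0 C) [23, 44] :=
  C.stMul (f0 C) (f39 C) _ (by decide +kernel)

theorem f41 : C.S (v0 C) [13, 44] :=
  C.stMul (f1 C) (f40 C) _ (by decide +kernel)

theorem f42 : C.S (v0 C) [11, 44] :=
  C.stMul (f0 C) (f41 C) _ (by decide +kernel)

theorem f43 : C.T (v0 C) [20, 50] (v1 C) [] :=
  C.conv (f2 C) (f29 C) (f42 C) _ [] _ (by decide +kernel) (by decide +kernel) (by decide +kernel)

theorem f44 : C.S (v0 C) [11, 66] :=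
  C.stMul (f1 C) (f42 C) _ (by decide +kernel)

theorem f45 : C.T (v0 C) [17, 43] (v1 C) [] :=
  C.conv (f2 C) (f29 C) (f44 C) _ [] _ (by decide +kernel) (by decide +kernel) (by decide +kernel)

theorem f46 : C.T (v1 C) [] (v0 C) [17, 43] :=
  C.flip (f45 C)

theorem f47 : C.T (v1 C) [43, 66] (v1 C) [35, 66, 84, 105, 109, 115] :=
  C.closeT (p := (v0 C)) (pu := [])
    (C.pH [20, 50] [20, 50] (by decide +kernel)
    (C.pT (f43 C)
    (C.pH [11, 66] [11, 66] (by decide +kernel)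
    (C.pH [20, 50] [43, 66] (by decide +kernel) (C.pNil _ _)))))
    (C.pH [11, 66] [11, 44] (by decide +kernel)
    (C.pH [20, 50] [] (by decide +kernel)
    (C.pT (f46 C)
    (C.pH [11, 66] [] (by decide +kernel) (C.pNil _ _)))))
    (relLoopS C)

theorem f49 : C.S (v1 C) [4, 42, 65] :=
  C.stMul (f27 C) (f3 C) _ (by decide +kernel)

theorem f59 : C.T (v0 C) [23, 37, 55, 85, 102, 121] (v1 C) [23, 37, 55, 85, 102, 121] :=
  C.conv (f2 C) (f29 C) (f29 C) _ [145, 154, 165, 175] _ (by decide +kernel) (by decide +kernel) (by decide +kernel)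

theorem f60 : C.S (v0 C) [23] :=
  C.stMul (f0 C) (f32 C) _ (by decide +kernel)

theorem f61 : C.S (v0 C) [13] :=
  C.stMul (f1 C) (f60 C) _ (by decide +kernel)

theorem f62 : C.S (v0 C) [11] :=
  C.stMul (f0 C) (f61 C) _ (by decide +kernel)

theorem f63 : C.S (v0 C) [11, 31] :=
  C.stMul (f1 C) (f62 C) _ (by decide +kernel)

theorem f64 : C.S (v0 C) [13, 31] :=
  C.stMul (f0 C) (f63 C) _ (by decide +kernel)

theorem f65 : C.S (v0 C) [15, 31] :=
  C.stMul (f1 C) (f64 C) _ (by decide +kernel)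

theorem f66 : C.S (v0 C) [23, 31] :=
  C.stMul (f1 C) (f65 C) _ (by decide +kernel)

theorem f67 : C.S (v0 C) [21, 31] :=
  C.stMul (f0 C) (f66 C) _ (by decide +kernel)

theorem f68 : C.S (v0 C) [14, 31] :=
  C.stMul (f1 C) (f67 C) _ (by decide +kernel)

theorem f69 : C.S (v0 C) [18, 31] :=
  C.stMul (f1 C) (f68 C) _ (by decide +kernel)

theorem f70 : C.S (v0 C) [25, 31] :=
  C.stMul (f0 C) (f69 C) _ (by decide +kernel)

theorem f71 : C.S (v0 C) [31] :=
  C.stMul (f1 C) (f70 C) _ (by decide +kernel)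

theorem f72 : C.S (v0 C) [10, 31] :=
  C.stMul (f0 C) (f71 C) _ (by decide +kernel)

theorem f73 : C.S (v0 C) [17, 31] :=
  C.stMul (f1 C) (f72 C) _ (by decide +kernel)

theorem f74 : C.S (v0 C) [26, 31] :=
  C.stMul (f0 C) (f73 C) _ (by decide +kernel)

theorem f75 : C.S (v0 C) [26, 41, 50, 80] :=
  C.stMul (f1 C) (f74 C) _ (by decide +kernel)

theorem f76 : C.S (v0 C) [26, 44, 59, 77, 102] :=
  C.stMul (f1 C) (f75 C) _ (by decide +kernel)

theorem f77 : C.S (v0 C) [17, 44, 59, 77, 102] :=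
  C.stMul (f0 C) (f76 C) _ (by decide +kernel)

theorem f78 : C.S (v0 C) [6, 44, 59, 77, 102] :=
  C.stMul (f1 C) (f77 C) _ (by decide +kernel)

theorem f79 : C.T (v0 C) [12, 29, 59, 74, 94, 118] (v1 C) [26, 35, 58, 81, 99, 109, 111] :=
  C.conv (f2 C) (f29 C) (f78 C) _ [148, 162, 165, 176, 177] _ (by decide +kernel) (by decide +kernel) (by decide +kernel)

theorem f80 : C.T (v1 C) [26, 35, 58, 81, 99, 109, 111] (v0 C) [12, 29, 59, 74, 94, 118] :=
  C.flip (f79 C)

theorem f81 : C.T (v1 C) [48, 58, 84, 105, 110] (v1 C) [13, 46, 69, 76, 108, 112] :=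
  C.closeT (p := (v0 C)) (pu := [23, 37, 55, 85, 102, 121])
    (C.pT (f59 C)
    (C.pH [12, 35, 50, 83] [48, 58, 84, 105, 110] (by decide +kernel) (C.pNil _ _)))
    (C.pH [12, 35, 50, 83] [26, 35, 58, 81, 99, 109, 111] (by decide +kernel)
    (C.pT (f80 C)
    (C.pH [12, 35, 50, 83] [23, 37, 55, 85, 102, 121] (by decide +kernel) (C.pNil _ _))))
    (C.loop_of_one (relLoop0 C) _ _)

theorem f83 : C.S (v1 C) [12, 28, 60, 76, 96, 109, 120] :=
  C.stMul (f27 C) (f27 C) _ (by decide +kernel)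

theorem f84 : C.S (v1 C) [26, 40] :=
  C.stMul (f27 C) (f83 C) _ (by decide +kernel)

theorem f85 : C.S (v1 C) [17, 40] :=
  C.stMul (f3 C) (f84 C) _ (by decide +kernel)

theorem f86 : C.S (v1 C) [15, 41, 53, 71, 95, 121] :=
  C.stMul (f12 C) (f85 C) _ (by decide +kernel)

theorem f87 : C.S (v1 C) [23, 40, 58, 80, 95, 112] :=
  C.stMul (f27 C) (f86 C) _ (by decide +kernel)

theorem f96 : C.T (v1 C) [7] (v2 C) [] :=
  C.defn _ _

theorem f97 : C.S (v1 C) [9, 41] :=
  C.stMul (f3 C) (f12 C) _ (by decide +kernel)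

theorem f98 : C.S (v1 C) [25, 34, 60] :=
  C.stMul (f12 C) (f3 C) _ (by decide +kernel)

theorem f99 : C.S (v1 C) [9, 41] :=
  C.stInv (f98 C) _ (by decide +kernel)

theorem f100 : C.S (v1 C) [23, 37, 51, 72, 106, 109, 123] :=
  C.stMul (f99 C) (f97 C) _ (by decide +kernel)

theorem f101 : C.S (v2 C) [9, 29, 51, 76, 96, 109, 111] :=
  C.transfer (f96 C) (f100 C) [131, 155, 164, 173] _ (by decide +kernel) (by decide +kernel) (by decide +kernel)

theorem f102 : C.S (v1 C) [4, 42, 65] :=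
  C.stMul (f27 C) (f3 C) _ (by decide +kernel)

theorem f103 : C.S (v1 C) [21, 47, 65, 84, 96, 110, 122] :=
  C.stMul (f27 C) (f102 C) _ (by decide +kernel)

theorem f104 : C.S (v1 C) [23, 47, 65, 84, 96, 110, 122] :=
  C.stMul (f3 C) (f103 C) _ (by decide +kernel)

theorem f105 : C.S (v1 C) [15, 45, 62, 88, 96, 109, 113] :=
  C.stMul (f27 C) (f104 C) _ (by decide +kernel)

theorem f106 : C.S (v1 C) [8, 45, 62, 88, 96, 109, 113] :=
  C.stMul (f3 C) (f105 C) _ (by decide +kernel)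

theorem f107 : C.S (v1 C) [26, 28, 69, 84, 92, 109, 123] :=
  C.stInv (f105 C) _ (by decide +kernel)

theorem f108 : C.S (v1 C) [7, 30, 56, 86, 107] :=
  C.stMul (f107 C) (f106 C) _ (by decide +kernel)

theorem f109 : C.S (v2 C) [4, 48, 55, 78, 94, 109, 115] :=
  C.transfer (f96 C) (f108 C) [126, 158, 166, 176, 177] _ (by decide +kernel) (by decide +kernel) (by decide +kernel)

theorem f110 : C.S (v1 C) [6, 47, 60] :=
  C.stMul (f27 C) (f103 C) _ (by decide +kernel)

theorem f111 : C.S (v1 C) [12, 47, 60] :=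
  C.stMul (f3 C) (f110 C) _ (by decide +kernel)

theorem f112 : C.S (v1 C) [22, 35, 61, 76, 93, 109, 123] :=
  C.stMul (f12 C) (f111 C) _ (by decide +kernel)

theorem f113 : C.S (v1 C) [22, 42, 65] :=
  C.stInv (f111 C) _ (by decide +kernel)

theorem f114 : C.S (v1 C) [23, 30, 66, 73, 103, 110, 125] :=
  C.stMul (f113 C) (f112 C) _ (by decide +kernel)

theorem f115 : C.S (v2 C) [10, 47, 68, 89, 99, 110, 120] :=
  C.transfer (f96 C) (f114 C) [132, 162, 168] _ (by decide +kernel) (by decide +kernel) (by decide +kernel)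

theorem f116 : C.S (v1 C) [14, 44, 49, 70, 92, 109, 115] :=
  C.stMul (f27 C) (f12 C) _ (by decide +kernel)

theorem f117 : C.S (v1 C) [22, 30, 60, 95] :=
  C.stMul (f27 C) (f116 C) _ (by decide +kernel)

theorem f118 : C.S (v1 C) [5, 31, 55, 84, 101, 123] :=
  C.stMul (f27 C) (f117 C) _ (by decide +kernel)

theorem f119 : C.S (v1 C) [19, 33, 53, 74, 107, 121] :=
  C.stMul (f3 C) (f118 C) _ (by decide +kernel)

theorem f120 : C.S (v1 C) [12, 39, 63, 76, 103, 110, 117] :=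
  C.stMul (f27 C) (f119 C) _ (by decide +kernel)

theorem f121 : C.S (v1 C) [26, 46, 83, 95, 109, 123] :=
  C.stMul (f27 C) (f120 C) _ (by decide +kernel)

theorem f122 : C.S (v1 C) [14, 33, 51, 72, 97, 109, 118] :=
  C.stMul (f12 C) (f119 C) _ (by decide +kernel)

theorem f123 : C.S (v1 C) [6, 37, 51, 87, 102, 122] :=
  C.stInv (f122 C) _ (by decide +kernel)

theorem f124 : C.S (v1 C) [22, 30, 68, 78, 110, 122] :=
  C.stMul (f123 C) (f121 C) _ (by decide +kernel)

theorem f125 : C.S (v2 C) [10, 47, 49, 84, 94, 123] :=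
  C.transfer (f96 C) (f124 C) [132, 162, 175] _ (by decide +kernel) (by decide +kernel) (by decide +kernel)

theorem f126 : C.S (v1 C) [5, 35, 53, 75, 92, 121] :=
  C.stMul (f3 C) (f27 C) _ (by decide +kernel)

theorem f127 : C.S (v1 C) [20, 33, 65, 73, 98, 114] :=
  C.stMul (f27 C) (f126 C) _ (by decide +kernel)

theorem f128 : C.S (v1 C) [9, 33, 65, 73, 98, 114] :=
  C.stMul (f3 C) (f127 C) _ (by decide +kernel)

theorem f129 : C.S (v1 C) [21, 40, 61, 73, 107, 109, 118] :=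
  C.stMul (f12 C) (f128 C) _ (by decide +kernel)

theorem f130 : C.S (v1 C) [6, 40, 65, 92, 110, 114] :=
  C.stMul (f27 C) (f129 C) _ (by decide +kernel)

theorem f131 : C.S (v1 C) [12, 40, 65, 92, 110, 114] :=
  C.stMul (f3 C) (f130 C) _ (by decide +kernel)

theorem f132 : C.S (v1 C) [4, 30, 60, 95] :=
  C.stMul (f3 C) (f117 C) _ (by decide +kernel)

theorem f133 : C.S (v1 C) [21, 45, 57, 87, 105, 110, 114] :=
  C.stMul (f27 C) (f132 C) _ (by decide +kernel)

theorem f134 : C.S (v1 C) [23, 45, 57, 87, 105, 110, 114] :=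
  C.stMul (f3 C) (f133 C) _ (by decide +kernel)

theorem f135 : C.S (v1 C) [18, 48, 65, 82, 103, 109, 119] :=
  C.stMul (f12 C) (f134 C) _ (by decide +kernel)

theorem f136 : C.S (v1 C) [11, 43, 58, 86, 96, 115] :=
  C.stInv (f135 C) _ (by decide +kernel)

theorem f137 : C.S (v1 C) [22, 35, 67, 86, 106, 109, 122] :=
  C.stMul (f136 C) (f131 C) _ (by decide +kernel)

theorem f138 : C.S (v2 C) [6, 46, 58, 74, 94, 124] :=
  C.transfer (f96 C) (f137 C) [128, 149, 167, 172, 177] _ (by decide +kernel) (by decide +kernel) (by decide +kernel)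

theorem f139 : C.S (v1 C) [13, 36, 52, 88, 97, 114] :=
  C.stMul (f27 C) (f128 C) _ (by decide +kernel)

theorem f140 : C.S (v1 C) [25, 30, 54, 82, 108, 109, 123] :=
  C.stMul (f27 C) (f139 C) _ (by decide +kernel)

theorem f141 : C.S (v1 C) [24, 45, 65, 92, 110, 114] :=
  C.stMul (f27 C) (f140 C) _ (by decide +kernel)

theorem f142 : C.S (v1 C) [22, 42, 65] :=
  C.stMul (f3 C) (f102 C) _ (by decide +kernel)

theorem f143 : C.S (v1 C) [5, 47, 52, 84, 104, 112] :=
  C.stMul (f27 C) (f142 C) _ (by decide +kernel)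

theorem f144 : C.S (v1 C) [19, 44, 56, 75, 100, 109, 121] :=
  C.stMul (f3 C) (f143 C) _ (by decide +kernel)

theorem f145 : C.S (v1 C) [12, 46, 63, 87, 99, 109, 120] :=
  C.stMul (f27 C) (f144 C) _ (by decide +kernel)

theorem f146 : C.S (v1 C) [6, 46, 63, 87, 99, 109, 120] :=
  C.stMul (f3 C) (f145 C) _ (by decide +kernel)

theorem f147 : C.S (v1 C) [4, 28, 89, 103, 119] :=
  C.stInv (f146 C) _ (by decide +kernel)

theorem f148 : C.S (v1 C) [7, 28, 62, 74, 104, 114] :=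
  C.stMul (f147 C) (f141 C) _ (by decide +kernel)

theorem f149 : C.S (v2 C) [9, 29, 68, 96, 120] :=
  C.transfer (f96 C) (f148 C) [131, 155, 167, 173, 177] _ (by decide +kernel) (by decide +kernel) (by decide +kernel)

theorem f151 : C.T (v0 C) [20, 40, 57, 88, 103] (v1 C) [20, 40, 57, 88, 103] :=
  C.conv (f2 C) (f29 C) (f29 C) _ [142, 149, 166, 176, 177] _ (by decide +kernel) (by decide +kernel) (by decide +kernel)

theorem f152 : C.S (v1 C) [] :=
  C.stOne _

theorem f153 : C.S (v1 C) [5, 35, 53, 75, 92, 121] :=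
  C.stMul (f3 C) (f27 C) _ (by decide +kernel)

theorem f154 : C.S (v1 C) [26, 46, 64, 84, 103, 110, 124] :=
  C.stMul (f12 C) (f153 C) _ (by decide +kernel)

theorem f155 : C.S (v1 C) [39, 69, 70, 99, 117] :=
  C.stMul (f27 C) (f154 C) _ (by decide +kernel)

theorem f156 : C.S (v1 C) [10, 39, 69, 70, 99, 117] :=
  C.stMul (f3 C) (f155 C) _ (by decide +kernel)

theorem f157 : C.S (v1 C) [4, 48, 57, 74, 97, 110, 112] :=
  C.stMul (f27 C) (f156 C) _ (by decide +kernel)

theorem f158 : C.S (v1 C) [21, 64, 88, 105] :=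
  C.stMul (f27 C) (f157 C) _ (by decide +kernel)

theorem f159 : C.S (v1 C) [6, 28, 64, 88, 105] :=
  C.stMul (f27 C) (f158 C) _ (by decide +kernel)

theorem f160 : C.S (v1 C) [12, 28, 64, 88, 105] :=
  C.stMul (f3 C) (f159 C) _ (by decide +kernel)

theorem f161 : C.S (v1 C) [26, 40, 57, 88, 101, 109, 113] :=
  C.stMul (f27 C) (f160 C) _ (by decide +kernel)

theorem f162 : C.S (v1 C) [57, 88, 101, 109, 113] :=
  C.stMul (f27 C) (f161 C) _ (by decide +kernel)

theorem f163 : C.S (v1 C) [19, 43, 57, 88, 101, 109, 113] :=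
  C.stMul (f27 C) (f162 C) _ (by decide +kernel)

theorem f164 : C.T (v1 C) [23, 36, 64, 81, 103, 110, 112] (v2 C) [11, 29, 63, 79, 107, 113] :=
  C.conv (f96 C) (f152 C) (f163 C) _ [133, 149, 174] _ (by decide +kernel) (by decide +kernel) (by decide +kernel)

theorem f165 : C.S (v0 C) [24] :=
  C.stMul (f0 C) (f1 C) _ (by decide +kernel)

theorem f166 : C.S (v0 C) [20] :=
  C.stMul (f1 C) (f165 C) _ (by decide +kernel)

theorem f167 : C.S (v0 C) [22] :=
  C.stMul (f1 C) (f166 C) _ (by decide +kernel)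

theorem f168 : C.S (v0 C) [4] :=
  C.stMul (f0 C) (f167 C) _ (by decide +kernel)

theorem f169 : C.S (v0 C) [5] :=
  C.stMul (f1 C) (f168 C) _ (by decide +kernel)

theorem f170 : C.S (v0 C) [19] :=
  C.stMul (f1 C) (f169 C) _ (by decide +kernel)

theorem f171 : C.S (v0 C) [5, 42] :=
  C.stMul (f0 C) (f170 C) _ (by decide +kernel)

theorem f172 : C.S (v0 C) [19, 42] :=
  C.stMul (f1 C) (f171 C) _ (by decide +kernel)

theorem f173 : C.S (v0 C) [5, 46, 53] :=
  C.stMul (f0 C) (f172 C) _ (by decide +kernel)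

theorem f174 : C.S (v0 C) [19, 46, 53] :=
  C.stMul (f1 C) (f173 C) _ (by decide +kernel)

theorem f175 : C.S (v0 C) [4, 46, 53] :=
  C.stMul (f1 C) (f174 C) _ (by decide +kernel)

theorem f176 : C.S (v0 C) [22, 46, 53] :=
  C.stMul (f0 C) (f175 C) _ (by decide +kernel)

theorem f177 : C.S (v0 C) [24, 46, 53] :=
  C.stMul (f1 C) (f176 C) _ (by decide +kernel)

theorem f178 : C.S (v0 C) [7, 46, 53] :=
  C.stMul (f0 C) (f177 C) _ (by decide +kernel)

theorem f179 : C.S (v0 C) [25, 46, 53] :=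
  C.stMul (f1 C) (f178 C) _ (by decide +kernel)

theorem f180 : C.S (v0 C) [46, 53] :=
  C.stMul (f1 C) (f179 C) _ (by decide +kernel)

theorem f181 : C.S (v0 C) [10, 46, 53] :=
  C.stMul (f0 C) (f180 C) _ (by decide +kernel)

theorem f182 : C.S (v0 C) [17, 46, 53] :=
  C.stMul (f1 C) (f181 C) _ (by decide +kernel)

theorem f183 : C.S (v0 C) [26, 46, 53] :=
  C.stMul (f0 C) (f182 C) _ (by decide +kernel)

theorem f184 : C.S (v0 C) [26, 30, 53] :=
  C.stMul (f1 C) (f183 C) _ (by decide +kernel)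

theorem f185 : C.S (v0 C) [17, 30, 53] :=
  C.stMul (f0 C) (f184 C) _ (by decide +kernel)

theorem f186 : C.S (v0 C) [6, 30, 53] :=
  C.stMul (f1 C) (f185 C) _ (by decide +kernel)

theorem f187 : C.S (v0 C) [10, 30, 53] :=
  C.stMul (f1 C) (f186 C) _ (by decide +kernel)

theorem f188 : C.S (v0 C) [30, 53] :=
  C.stMul (f0 C) (f187 C) _ (by decide +kernel)

theorem f189 : C.S (v0 C) [7, 30, 53] :=
  C.stMul (f1 C) (f188 C) _ (by decide +kernel)

theorem f190 : C.S (v0 C) [24, 30, 53] :=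
  C.stMul (f0 C) (f189 C) _ (by decide +kernel)

theorem f191 : C.S (v0 C) [20, 30, 53] :=
  C.stMul (f1 C) (f190 C) _ (by decide +kernel)

theorem f192 : C.S (v0 C) [9, 30, 53] :=
  C.stMul (f0 C) (f191 C) _ (by decide +kernel)

theorem f193 : C.S (v0 C) [9, 43, 65, 108] :=
  C.stMul (f1 C) (f192 C) _ (by decide +kernel)

theorem f194 : C.S (v0 C) [20, 43, 65, 108] :=
  C.stMul (f0 C) (f193 C) _ (by decide +kernel)

theorem f195 : C.T (v0 C) [17, 36, 49, 72, 96, 109] (v1 C) [25, 44, 58, 75, 92, 125] :=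
  C.conv (f2 C) (f29 C) (f194 C) _ [147, 151, 165, 175, 178] _ (by decide +kernel) (by decide +kernel) (by decide +kernel)

theorem f196 : C.T (v1 C) [25, 44, 58, 75, 92, 125] (v0 C) [17, 36, 49, 72, 96, 109] :=
  C.flip (f195 C)

theorem f197 : C.T (v2 C) [24, 31, 53, 70, 90, 110, 125] (v1 C) [4, 29, 55, 75, 102, 125] :=
  C.closeT (p := (v0 C)) (pu := [20, 40, 57, 88, 103])
    (C.pT (f151 C)
    (C.pH [8, 30, 65, 84, 94, 117] [23, 36, 64, 81, 103, 110, 112] (by decide +kernel)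
    (C.pT (f164 C)
    (C.pH [26, 38, 54, 89, 90, 113] [24, 31, 53, 70, 90, 110, 125] (by decide +kernel) (C.pNil _ _)))))
    (C.pH [8, 30, 65, 84, 94, 117] [25, 44, 58, 75, 92, 125] (by decide +kernel)
    (C.pT (f196 C)
    (C.pH [26, 38, 54, 89, 90, 113] [20, 40, 57, 88, 103] (by decide +kernel) (C.pNil _ _))))
    (C.loop_of_one (relLoop1 C) _ _)

theorem f198 : C.T (v1 C) [4, 29, 55, 75, 102, 125] (v2 C) [24, 31, 53, 70, 90, 110, 125] :=
  C.flip (f197 C)

theorem f199 : C.S (v1 C) [14, 44, 49, 70, 92, 109, 115] :=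
  C.stMul (f27 C) (f12 C) _ (by decide +kernel)

theorem f200 : C.S (v1 C) [22, 30, 60, 95] :=
  C.stMul (f27 C) (f199 C) _ (by decide +kernel)

theorem f201 : C.S (v1 C) [5, 31, 55, 84, 101, 123] :=
  C.stMul (f27 C) (f200 C) _ (by decide +kernel)

theorem f202 : C.S (v1 C) [19, 33, 53, 74, 107, 121] :=
  C.stMul (f3 C) (f201 C) _ (by decide +kernel)

theorem f203 : C.S (v1 C) [14, 33, 51, 72, 97, 109, 118] :=
  C.stMul (f12 C) (f202 C) _ (by decide +kernel)

theorem f204 : C.S (v1 C) [16, 33, 51, 72, 97, 109, 118] :=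
  C.stMul (f3 C) (f203 C) _ (by decide +kernel)

theorem f205 : C.S (v1 C) [7, 39, 56, 89, 103, 119] :=
  C.stMul (f27 C) (f204 C) _ (by decide +kernel)

theorem f206 : C.S (v1 C) [24, 39, 56, 89, 103, 119] :=
  C.stMul (f3 C) (f205 C) _ (by decide +kernel)

theorem f207 : C.S (v1 C) [9, 47, 69, 89, 98, 121] :=
  C.stMul (f27 C) (f206 C) _ (by decide +kernel)

theorem f208 : C.S (v1 C) [20, 47, 69, 89, 98, 121] :=
  C.stMul (f3 C) (f207 C) _ (by decide +kernel)

theorem f209 : C.T (v1 C) [4, 29, 55, 75, 102, 125] (v2 C) [7, 31, 56, 70, 98, 119] :=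
  C.conv (f96 C) (f152 C) (f208 C) _ [129, 160, 166, 174] _ (by decide +kernel) (by decide +kernel) (by decide +kernel)

theorem f210 : C.E (v2 C) [7, 31, 56, 70, 98, 119] (v2 C) [24, 31, 53, 70, 90, 110, 125] :=
  C.sameSrc (f209 C) (f198 C)

theorem f211 : C.S (v2 C) [9, 44, 64, 79, 100, 122] :=
  C.stEq (f210 C) _ (by decide +kernel)

theorem f218 : C.T (v1 C) [15, 28, 65, 74, 95, 110] (v1 C) [15, 45, 67, 79, 95, 109, 113] :=
  C.conv (f47 C) (f49 C) (f49 C) _ [137, 161, 164] _ (by decide +kernel) (by decide +kernel) (by decide +kernel)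

theorem f219 : C.S (v1 C) [4, 42, 65] :=
  C.stMul (f27 C) (f3 C) _ (by decide +kernel)

theorem f220 : C.S (v1 C) [21, 47, 65, 84, 96, 110, 122] :=
  C.stMul (f27 C) (f219 C) _ (by decide +kernel)

theorem f221 : C.S (v1 C) [23, 47, 65, 84, 96, 110, 122] :=
  C.stMul (f3 C) (f220 C) _ (by decide +kernel)

theorem f222 : C.S (v1 C) [18, 35, 67, 84, 113] :=
  C.stMul (f12 C) (f221 C) _ (by decide +kernel)

theorem f223 : C.S (v1 C) [25, 35, 67, 84, 113] :=
  C.stMul (f3 C) (f222 C) _ (by decide +kernel)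

theorem f224 : C.S (v1 C) [24, 30, 56, 88, 97, 110, 123] :=
  C.stMul (f27 C) (f223 C) _ (by decide +kernel)

theorem f225 : C.S (v1 C) [7, 30, 56, 88, 97, 110, 123] :=
  C.stMul (f3 C) (f224 C) _ (by decide +kernel)

theorem f226 : C.S (v1 C) [16, 30, 68, 85, 103, 110, 112] :=
  C.stMul (f27 C) (f225 C) _ (by decide +kernel)

theorem f227 : C.S (v1 C) [14, 30, 68, 85, 103, 110, 112] :=
  C.stMul (f3 C) (f226 C) _ (by decide +kernel)

theorem f228 : C.S (v1 C) [22, 28, 59, 81, 98, 109, 125] :=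
  C.stMul (f27 C) (f227 C) _ (by decide +kernel)

theorem f229 : C.S (v1 C) [4, 28, 59, 81, 98, 109, 125] :=
  C.stMul (f3 C) (f228 C) _ (by decide +kernel)

theorem f230 : C.T (v1 C) [15, 29, 52, 89, 93, 110, 114] (v2 C) [16, 37, 67, 77, 91, 110, 123] :=
  C.conv (f96 C) (f152 C) (f229 C) _ [138, 160, 171, 178] _ (by decide +kernel) (by decide +kernel) (by decide +kernel)

theorem f231 : C.T (v2 C) [16, 34, 52, 85, 95, 110, 125] (v1 C) [15, 33, 51, 88, 97, 110] :=
  C.closeT (p := (v1 C)) (pu := [15, 28, 65, 74, 95, 110])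
    (C.pT (f218 C)
    (C.pH [12, 35, 50, 83] [15, 29, 52, 89, 93, 110, 114] (by decide +kernel)
    (C.pT (f230 C)
    (C.pH [12, 35, 50, 83] [16, 34, 52, 85, 95, 110, 125] (by decide +kernel) (C.pNil _ _)))))
    (C.pH [12, 35, 50, 83] [15, 28, 65, 74, 95, 110] (by decide +kernel) (C.pNil _ _))
    (C.loop_of_one (relLoop0 C) _ _)

theorem f232 : C.T (v1 C) [15, 33, 51, 88, 97, 110] (v2 C) [16, 34, 52, 85, 95, 110, 125] :=
  C.flip (f231 C)

theorem f233 : C.S (v1 C) [12, 28, 60, 76, 96, 109, 120] :=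
  C.stMul (f27 C) (f27 C) _ (by decide +kernel)

theorem f234 : C.S (v1 C) [6, 28, 60, 76, 96, 109, 120] :=
  C.stMul (f3 C) (f233 C) _ (by decide +kernel)

theorem f235 : C.S (v1 C) [10, 39, 63, 87, 100, 109, 113] :=
  C.stMul (f27 C) (f234 C) _ (by decide +kernel)

theorem f236 : C.S (v1 C) [4, 48, 67, 89, 97, 109, 125] :=
  C.stMul (f27 C) (f235 C) _ (by decide +kernel)

theorem f237 : C.S (v1 C) [22, 48, 67, 89, 97, 109, 125] :=
  C.stMul (f3 C) (f236 C) _ (by decide +kernel)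

theorem f238 : C.S (v1 C) [12, 45, 55, 103, 109, 120] :=
  C.stMul (f12 C) (f237 C) _ (by decide +kernel)

theorem f239 : C.S (v1 C) [26, 32, 64, 83, 96, 110, 123] :=
  C.stMul (f27 C) (f238 C) _ (by decide +kernel)

theorem f240 : C.S (v1 C) [31, 50, 82, 94, 109] :=
  C.stMul (f27 C) (f239 C) _ (by decide +kernel)

theorem f241 : C.T (v1 C) [15, 33, 51, 88, 97, 110] (v2 C) [17, 42, 66, 76, 106, 118] :=
  C.conv (f96 C) (f152 C) (f240 C) _ [139, 155, 176, 177] _ (by decide +kernel) (by decide +kernel) (by decide +kernel)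

theorem f242 : C.E (v2 C) [17, 42, 66, 76, 106, 118] (v2 C) [16, 34, 52, 85, 95, 110, 125] :=
  C.sameSrc (f241 C) (f232 C)

theorem f243 : C.S (v2 C) [11, 46, 54, 82, 104, 110, 124] :=
  C.stEq (f242 C) _ (by decide +kernel)

theorem f249 : C.T (v1 C) [19, 47, 50, 77, 95, 109, 114] (v2 C) [8, 41, 51, 74, 103, 119] :=
  C.conv (f96 C) (f152 C) (f152 C) _ [130, 155, 169, 176] _ (by decide +kernel) (by decide +kernel) (by decide +kernel)

theorem f250 : C.S (v1 C) [12, 39, 63, 76, 103, 110, 117] :=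
  C.stMul (f27 C) (f202 C) _ (by decide +kernel)

theorem f251 : C.S (v1 C) [6, 39, 63, 76, 103, 110, 117] :=
  C.stMul (f3 C) (f250 C) _ (by decide +kernel)

theorem f252 : C.S (v1 C) [10, 32, 60, 72, 101, 109, 116] :=
  C.stMul (f27 C) (f251 C) _ (by decide +kernel)

theorem f253 : C.S (v1 C) [32, 60, 72, 101, 109, 116] :=
  C.stMul (f3 C) (f252 C) _ (by decide +kernel)

theorem f254 : C.T (v1 C) [6, 46, 50, 76, 106, 110, 111] (v2 C) [21, 33, 51, 106, 123] :=
  C.conv (f96 C) (f152 C) (f253 C) _ [143, 151, 165, 173, 178] _ (by decide +kernel) (by decide +kernel) (by decide +kernel)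

theorem f255 : C.T (v2 C) [21, 33, 51, 106, 123] (v1 C) [6, 46, 50, 76, 106, 110, 111] :=
  C.flip (f254 C)

theorem f256 : C.T (v2 C) [10, 48, 69, 77, 99, 110, 125] (v2 C) [10, 30, 57, 82, 106, 109, 116] :=
  C.closeT (p := (v1 C)) (pu := [19, 47, 50, 77, 95, 109, 114])
    (C.pT (f249 C)
    (C.pH [12, 35, 50, 83] [10, 48, 69, 77, 99, 110, 125] (by decide +kernel) (C.pNil _ _)))
    (C.pH [12, 35, 50, 83] [21, 33, 51, 106, 123] (by decide +kernel)
    (C.pT (f255 C)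
    (C.pH [12, 35, 50, 83] [19, 47, 50, 77, 95, 109, 114] (by decide +kernel) (C.pNil _ _))))
    (C.loop_of_one (relLoop0 C) _ _)

theorem f258 : C.S (v2 C) [6, 46, 61, 80, 99, 109, 116] :=
  C.stMul (f211 C) (f125 C) _ (by decide +kernel)

theorem f261 : C.T (v1 C) [25, 34, 50, 75, 92, 109, 114] (v2 C) [21, 53, 82, 90, 109, 115] :=
  C.conv (f96 C) (f152 C) (f152 C) _ [143, 158, 168, 172] _ (by decide +kernel) (by decide +kernel) (by decide +kernel)

theorem f262 : C.S (v1 C) [26, 40] :=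
  C.stMul (f27 C) (f233 C) _ (by decide +kernel)

theorem f263 : C.S (v1 C) [17, 40] :=
  C.stMul (f3 C) (f262 C) _ (by decide +kernel)

theorem f264 : C.S (v1 C) [15, 41, 53, 71, 95, 121] :=
  C.stMul (f12 C) (f263 C) _ (by decide +kernel)

theorem f265 : C.S (v1 C) [8, 41, 53, 71, 95, 121] :=
  C.stMul (f3 C) (f264 C) _ (by decide +kernel)

theorem f266 : C.S (v1 C) [11, 36, 59, 71, 92, 109, 125] :=
  C.stMul (f27 C) (f265 C) _ (by decide +kernel)

theorem f267 : C.T (v1 C) [17, 40, 49, 72, 93, 109, 125] (v2 C) [15, 45, 60, 89, 97, 109, 115] :=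
  C.conv (f96 C) (f152 C) (f266 C) _ [137, 162, 169, 177] _ (by decide +kernel) (by decide +kernel) (by decide +kernel)

theorem f268 : C.T (v2 C) [15, 45, 60, 89, 97, 109, 115] (v1 C) [17, 40, 49, 72, 93, 109, 125] :=
  C.flip (f267 C)

theorem f269 : C.T (v2 C) [8, 38, 49, 86, 93, 109, 122] (v2 C) [15, 57, 70, 105, 113] :=
  C.closeT (p := (v1 C)) (pu := [25, 34, 50, 75, 92, 109, 114])
    (C.pT (f261 C)
    (C.pH [12, 35, 50, 83] [8, 38, 49, 86, 93, 109, 122] (by decide +kernel) (C.pNil _ _)))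
    (C.pH [12, 35, 50, 83] [15, 45, 60, 89, 97, 109, 115] (by decide +kernel)
    (C.pT (f268 C)
    (C.pH [12, 35, 50, 83] [25, 34, 50, 75, 92, 109, 114] (by decide +kernel) (C.pNil _ _))))
    (C.loop_of_one (relLoop0 C) _ _)

theorem f271 : C.S (v2 C) [4, 46, 68, 85, 99, 109, 124] :=
  C.stMul (f211 C) (f149 C) _ (by decide +kernel)

theorem f273 : C.T (v1 C) [16, 43, 52, 83, 93, 114] (v2 C) [8, 44, 58, 84, 91, 115] :=
  C.conv (f96 C) (f152 C) (f152 C) _ [130, 169, 171, 178] _ (by decide +kernel) (by decide +kernel) (by decide +kernel)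

theorem f274 : C.S (v1 C) [16, 44, 49, 70, 92, 109, 115] :=
  C.stMul (f3 C) (f199 C) _ (by decide +kernel)

theorem f275 : C.S (v1 C) [8, 28, 65, 83, 95, 109, 113] :=
  C.stMul (f12 C) (f274 C) _ (by decide +kernel)

theorem f276 : C.S (v1 C) [11, 31, 67, 70, 92, 109, 115] :=
  C.stMul (f27 C) (f275 C) _ (by decide +kernel)

theorem f277 : C.S (v1 C) [13, 31, 67, 70, 92, 109, 115] :=
  C.stMul (f3 C) (f276 C) _ (by decide +kernel)

theorem f278 : C.S (v1 C) [25, 44, 58, 81, 104, 109, 124] :=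
  C.stMul (f27 C) (f277 C) _ (by decide +kernel)

theorem f279 : C.S (v1 C) [18, 44, 58, 81, 104, 109, 124] :=
  C.stMul (f3 C) (f278 C) _ (by decide +kernel)

theorem f280 : C.S (v1 C) [17, 43, 69, 81, 104, 109, 124] :=
  C.stMul (f27 C) (f279 C) _ (by decide +kernel)

theorem f281 : C.S (v1 C) [26, 43, 69, 81, 104, 109, 124] :=
  C.stMul (f3 C) (f280 C) _ (by decide +kernel)

theorem f282 : C.S (v1 C) [30, 65, 83, 98, 109] :=
  C.stMul (f27 C) (f281 C) _ (by decide +kernel)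

theorem f283 : C.T (v1 C) [16, 41, 54, 83, 101, 110, 121] (v2 C) [26, 47, 68, 82, 90, 109, 115] :=
  C.conv (f96 C) (f152 C) (f282 C) _ [148, 156, 168, 176, 178] _ (by decide +kernel) (by decide +kernel) (by decide +kernel)

theorem f284 : C.T (v2 C) [26, 47, 68, 82, 90, 109, 115] (v1 C) [16, 41, 54, 83, 101, 110, 121] :=
  C.flip (f283 C)

theorem f285 : C.T (v2 C) [10, 46, 62, 89, 101, 118] (v2 C) [13, 48, 69, 72, 91, 110, 118] :=
  C.closeT (p := (v1 C)) (pu := [16, 43, 52, 83, 93, 114])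
    (C.pT (f273 C)
    (C.pH [12, 35, 50, 83] [10, 46, 62, 89, 101, 118] (by decide +kernel) (C.pNil _ _)))
    (C.pH [12, 35, 50, 83] [26, 47, 68, 82, 90, 109, 115] (by decide +kernel)
    (C.pT (f284 C)
    (C.pH [12, 35, 50, 83] [16, 43, 52, 83, 93, 114] (by decide +kernel) (C.pNil _ _))))
    (C.loop_of_one (relLoop0 C) _ _)

theorem f289 : C.T (v1 C) [14, 33, 53, 93, 110, 122] (v1 C) [14, 32, 57, 73, 99, 110, 122] :=
  C.conv (f47 C) (f49 C) (f49 C) _ [136, 152, 167, 172] _ (by decide +kernel) (by decide +kernel) (by decide +kernel)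

theorem f290 : C.S (v1 C) [22, 42, 65] :=
  C.stMul (f3 C) (f219 C) _ (by decide +kernel)

theorem f291 : C.S (v1 C) [12, 36, 51, 87, 90, 119] :=
  C.stMul (f12 C) (f290 C) _ (by decide +kernel)

theorem f292 : C.S (v1 C) [6, 36, 51, 87, 90, 119] :=
  C.stMul (f3 C) (f291 C) _ (by decide +kernel)

theorem f293 : C.S (v1 C) [10, 46, 58, 86, 104, 110, 118] :=
  C.stMul (f27 C) (f292 C) _ (by decide +kernel)

theorem f294 : C.S (v1 C) [4, 29, 66, 83, 94, 109, 123] :=
  C.stMul (f27 C) (f293 C) _ (by decide +kernel)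

theorem f295 : C.S (v1 C) [22, 29, 66, 83, 94, 109, 123] :=
  C.stMul (f3 C) (f294 C) _ (by decide +kernel)

theorem f296 : C.S (v1 C) [5, 46, 70, 103, 110, 113] :=
  C.stMul (f27 C) (f295 C) _ (by decide +kernel)

theorem f297 : C.T (v1 C) [5, 28, 52, 71, 103, 110, 125] (v2 C) [9, 63, 81, 98, 110, 118] :=
  C.conv (f96 C) (f152 C) (f296 C) _ [131, 163, 166, 178] _ (by decide +kernel) (by decide +kernel) (by decide +kernel)

theorem f298 : C.S (v1 C) [5, 47, 52, 84, 104, 112] :=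
  C.stMul (f27 C) (f290 C) _ (by decide +kernel)

theorem f299 : C.S (v1 C) [20, 32, 69, 106, 118] :=
  C.stMul (f27 C) (f298 C) _ (by decide +kernel)

theorem f300 : C.S (v1 C) [9, 32, 69, 106, 118] :=
  C.stMul (f3 C) (f299 C) _ (by decide +kernel)

theorem f301 : C.S (v1 C) [21, 33, 64, 80, 96, 121] :=
  C.stMul (f12 C) (f300 C) _ (by decide +kernel)

theorem f302 : C.S (v1 C) [6, 33, 54, 76, 92, 117] :=
  C.stMul (f27 C) (f301 C) _ (by decide +kernel)

theorem f303 : C.S (v1 C) [10, 30, 63, 80, 93, 109, 118] :=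
  C.stMul (f27 C) (f302 C) _ (by decide +kernel)

theorem f304 : C.S (v1 C) [4, 38, 55, 108, 110] :=
  C.stMul (f27 C) (f303 C) _ (by decide +kernel)

theorem f305 : C.T (v1 C) [12, 35, 68, 86, 107, 109, 118] (v2 C) [9, 68, 80, 99, 109, 123] :=
  C.conv (f96 C) (f152 C) (f304 C) _ [131, 163, 168, 172] _ (by decide +kernel) (by decide +kernel) (by decide +kernel)

theorem f306 : C.T (v2 C) [9, 68, 80, 99, 109, 123] (v1 C) [12, 35, 68, 86, 107, 109, 118] :=
  C.flip (f305 C)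

theorem f307 : C.T (v2 C) [22, 42, 60, 75, 107, 109, 115] (v2 C) [25, 28, 67, 85, 105, 117] :=
  C.closeT (p := (v1 C)) (pu := [14, 33, 53, 93, 110, 122])
    (C.pT (f289 C)
    (C.pH [8, 30, 65, 84, 94, 117] [5, 28, 52, 71, 103, 110, 125] (by decide +kernel)
    (C.pT (f297 C)
    (C.pH [26, 38, 54, 89, 90, 113] [22, 42, 60, 75, 107, 109, 115] (by decide +kernel) (C.pNil _ _)))))
    (C.pH [8, 30, 65, 84, 94, 117] [9, 68, 80, 99, 109, 123] (by decide +kernel)
    (C.pT (f306 C)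
    (C.pH [26, 38, 54, 89, 90, 113] [14, 33, 53, 93, 110, 122] (by decide +kernel) (C.pNil _ _))))
    (C.loop_of_one (relLoop1 C) _ _)

theorem f309 : C.S (v2 C) [23, 47, 61, 79, 105, 120] :=
  C.stMul (f149 C) (f109 C) _ (by decide +kernel)

theorem f310 : C.S (v2 C) [21, 27, 52, 73, 95, 114] :=
  C.stMul (f243 C) (f309 C) _ (by decide +kernel)

theorem f311 : C.S (v2 C) [8, 42, 51, 73, 93, 110, 111] :=
  C.stMul (f211 C) (f310 C) _ (by decide +kernel)

theorem f313 : C.T (v2 C) [25, 27, 56, 81, 91, 110, 124] (v1 C) [24, 34, 49, 72, 99, 110, 111] :=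
  C.conv (f231 C) (f243 C) (f243 C) _ [158, 164, 175] _ (by decide +kernel) (by decide +kernel) (by decide +kernel)

theorem f314 : C.S (v1 C) [4, 30, 60, 95] :=
  C.stMul (f3 C) (f200 C) _ (by decide +kernel)

theorem f315 : C.S (v1 C) [21, 45, 57, 87, 105, 110, 114] :=
  C.stMul (f27 C) (f314 C) _ (by decide +kernel)

theorem f316 : C.S (v1 C) [6, 35, 58, 78, 103, 109, 117] :=
  C.stMul (f27 C) (f315 C) _ (by decide +kernel)

theorem f317 : C.S (v1 C) [12, 35, 58, 78, 103, 109, 117] :=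
  C.stMul (f3 C) (f316 C) _ (by decide +kernel)

theorem f318 : C.S (v1 C) [26, 38, 55, 70, 94, 109, 124] :=
  C.stMul (f27 C) (f317 C) _ (by decide +kernel)

theorem f319 : C.S (v1 C) [46, 55, 70, 94, 109, 124] :=
  C.stMul (f27 C) (f318 C) _ (by decide +kernel)

theorem f320 : C.T (v1 C) [6, 44, 61, 78, 106, 110, 112] (v2 C) [24, 32, 51, 89, 97, 109, 114] :=
  C.conv (f96 C) (f152 C) (f319 C) _ [146, 159, 165, 171, 178] _ (by decide +kernel) (by decide +kernel) (by decide +kernel)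

theorem f321 : C.T (v2 C) [6, 41, 50, 79, 102, 122] (v2 C) [17, 39, 49, 80, 105, 117] :=
  C.closeT (p := (v2 C)) (pu := [25, 27, 56, 81, 91, 110, 124])
    (C.pT (f313 C)
    (C.pH [12, 35, 50, 83] [6, 44, 61, 78, 106, 110, 112] (by decide +kernel)
    (C.pT (f320 C)
    (C.pH [12, 35, 50, 83] [6, 41, 50, 79, 102, 122] (by decide +kernel) (C.pNil _ _)))))
    (C.pH [12, 35, 50, 83] [25, 27, 56, 81, 91, 110, 124] (by decide +kernel) (C.pNil _ _))
    (C.loop_of_one (relLoop0 C) _ _)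

theorem f323 : C.S (v2 C) [] :=
  C.stOne _

theorem f325 : C.T (v2 C) [20, 40, 66, 78, 91, 109, 118] (v3 C) [] :=
  C.defn _ _

theorem f326 : C.S (v2 C) [10, 47, 49, 84, 94, 123] :=
  C.stInv (f125 C) _ (by decide +kernel)

theorem f327 : C.S (v2 C) [23, 43, 68, 74, 104, 110, 114] :=
  C.stMul (f326 C) (f138 C) _ (by decide +kernel)

theorem f328 : C.S (v3 C) [11, 48, 53, 72, 98, 109, 122] :=
  C.transfer (f325 C) (f327 C) [133, 161, 167, 175, 177] _ (by decide +kernel) (by decide +kernel) (by decide +kernel)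

theorem f329 : C.S (v2 C) [10, 47, 68, 89, 99, 110, 120] :=
  C.stInv (f115 C) _ (by decide +kernel)

theorem f330 : C.S (v2 C) [24, 37, 65, 70, 95, 110, 119] :=
  C.stMul (f329 C) (f243 C) _ (by decide +kernel)

theorem f331 : C.S (v3 C) [22, 34, 57, 72, 100, 110, 112] :=
  C.transfer (f325 C) (f330 C) [144, 150, 169, 174] _ (by decide +kernel) (by decide +kernel) (by decide +kernel)

theorem f332 : C.S (v2 C) [4, 46, 89, 107, 116] :=
  C.stMul (f211 C) (f101 C) _ (by decide +kernel)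

theorem f333 : C.S (v2 C) [10, 47, 68, 89, 99, 110, 120] :=
  C.stInv (f115 C) _ (by decide +kernel)

theorem f334 : C.S (v2 C) [18, 44, 61, 70, 105, 112] :=
  C.stMul (f333 C) (f332 C) _ (by decide +kernel)

theorem f335 : C.S (v3 C) [24, 39, 64, 70, 96, 119] :=
  C.transfer (f325 C) (f334 C) [146, 154, 166, 176, 178] _ (by decide +kernel) (by decide +kernel) (by decide +kernel)

theorem f336 : C.T (v3 C) [] (v2 C) [20, 40, 66, 78, 91, 109, 118] :=
  C.flip (f325 C)

theorem f337 : C.T (v1 C) [20, 47, 63, 77, 90, 110, 122] (v2 C) [22, 48, 57, 80, 104, 110, 113] :=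
  C.conv (f96 C) (f152 C) (f152 C) _ [144, 158, 165, 176] _ (by decide +kernel) (by decide +kernel) (by decide +kernel)

theorem f338 : C.T (v2 C) [6, 43, 50, 71, 116] (v3 C) [24, 27, 58, 75, 93, 114] :=
  C.conv (f325 C) (f323 C) (f323 C) _ [146, 156, 170, 172, 177] _ (by decide +kernel) (by decide +kernel) (by decide +kernel)

theorem f339 : C.S (v1 C) [25, 41, 64, 88, 105] :=
  C.stMul (f12 C) (f156 C) _ (by decide +kernel)

theorem f340 : C.S (v1 C) [24, 31, 56, 70, 96, 109] :=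
  C.stMul (f27 C) (f339 C) _ (by decide +kernel)

theorem f341 : C.S (v1 C) [9, 43, 68, 79, 98, 122] :=
  C.stMul (f27 C) (f340 C) _ (by decide +kernel)

theorem f342 : C.S (v1 C) [20, 43, 68, 79, 98, 122] :=
  C.stMul (f3 C) (f341 C) _ (by decide +kernel)

theorem f343 : C.S (v1 C) [30, 65, 83, 102, 119] :=
  C.stMul (f12 C) (f342 C) _ (by decide +kernel)

theorem f344 : C.T (v1 C) [17, 41, 50, 78, 94, 109] (v2 C) [14, 48, 68, 74, 106, 109, 118] :=
  C.conv (f96 C) (f152 C) (f343 C) _ [136, 157, 167, 178] _ (by decide +kernel) (by decide +kernel) (by decide +kernel)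

theorem f345 : C.T (v2 C) [14, 48, 68, 74, 106, 109, 118] (v1 C) [17, 41, 50, 78, 94, 109] :=
  C.flip (f344 C)

theorem f346 : C.T (v3 C) [12, 43, 56, 85, 107, 110, 113] (v2 C) [26, 47, 62, 73, 93, 122] :=
  C.closeT (p := (v1 C)) (pu := [20, 47, 63, 77, 90, 110, 122])
    (C.pT (f337 C)
    (C.pH [8, 30, 65, 84, 94, 117] [6, 43, 50, 71, 116] (by decide +kernel)
    (C.pT (f338 C)
    (C.pH [26, 38, 54, 89, 90, 113] [12, 43, 56, 85, 107, 110, 113] (by decide +kernel) (C.pNil _ _)))))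
    (C.pH [8, 30, 65, 84, 94, 117] [14, 48, 68, 74, 106, 109, 118] (by decide +kernel)
    (C.pT (f345 C)
    (C.pH [26, 38, 54, 89, 90, 113] [20, 47, 63, 77, 90, 110, 122] (by decide +kernel) (C.pNil _ _))))
    (C.loop_of_one (relLoop1 C) _ _)

theorem f347 : C.T (v2 C) [26, 47, 62, 73, 93, 122] (v3 C) [12, 43, 56, 85, 107, 110, 113] :=
  C.flip (f346 C)

theorem f348 : C.S (v2 C) [13, 27, 59, 85, 101, 109, 113] :=
  C.stMul (f243 C) (f115 C) _ (by decide +kernel)

theorem f349 : C.S (v2 C) [11, 46, 65, 80, 104, 110, 124] :=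
  C.stMul (f138 C) (f348 C) _ (by decide +kernel)

theorem f350 : C.S (v2 C) [5, 33, 82, 107, 111] :=
  C.stMul (f211 C) (f243 C) _ (by decide +kernel)

theorem f351 : C.S (v2 C) [12, 31, 50, 71, 105, 120] :=
  C.stInv (f350 C) _ (by decide +kernel)

theorem f352 : C.S (v2 C) [17, 33, 66, 83, 99, 109] :=
  C.stMul (f351 C) (f349 C) _ (by decide +kernel)

theorem f353 : C.S (v3 C) [9, 37, 52, 75, 90, 109, 123] :=
  C.transfer (f347 C) (f352 C) [132, 152, 177] _ (by decide +kernel) (by decide +kernel) (by decide +kernel)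

theorem f355 : C.T (v1 C) [6, 50, 88, 92, 109] (v2 C) [10, 39, 62, 72, 95, 120] :=
  C.conv (f96 C) (f152 C) (f152 C) _ [132, 158, 170, 173, 177] _ (by decide +kernel) (by decide +kernel) (by decide +kernel)

theorem f356 : C.S (v2 C) [21, 36, 52, 86, 99, 110, 120] :=
  C.stMul (f149 C) (f243 C) _ (by decide +kernel)

theorem f357 : C.S (v2 C) [20, 48, 66, 80, 98, 121] :=
  C.stMul (f149 C) (f101 C) _ (by decide +kernel)

theorem f358 : C.S (v2 C) [9, 29, 58, 79, 99, 118] :=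
  C.stMul (f125 C) (f357 C) _ (by decide +kernel)

theorem f359 : C.S (v2 C) [24, 37, 67, 72, 110, 111] :=
  C.stMul (f243 C) (f358 C) _ (by decide +kernel)

theorem f360 : C.T (v2 C) [21, 40, 54, 78, 93, 110, 121] (v3 C) [6, 47, 62, 78, 106, 109, 116] :=
  C.conv (f347 C) (f356 C) (f359 C) _ [126, 157, 176] _ (by decide +kernel) (by decide +kernel) (by decide +kernel)

theorem f361 : C.S (v1 C) [19, 44, 56, 75, 100, 109, 121] :=
  C.stMul (f3 C) (f298 C) _ (by decide +kernel)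

theorem f362 : C.S (v1 C) [12, 46, 63, 87, 99, 109, 120] :=
  C.stMul (f27 C) (f361 C) _ (by decide +kernel)

theorem f363 : C.S (v1 C) [26, 31, 50, 78, 103, 124] :=
  C.stMul (f27 C) (f362 C) _ (by decide +kernel)

theorem f364 : C.S (v1 C) [17, 31, 50, 78, 103, 124] :=
  C.stMul (f3 C) (f363 C) _ (by decide +kernel)

theorem f365 : C.S (v1 C) [18, 50, 78, 103, 124] :=
  C.stMul (f27 C) (f364 C) _ (by decide +kernel)

theorem f366 : C.T (v1 C) [22, 43, 55, 80, 98, 109, 115] (v2 C) [25, 35, 61, 70, 90, 109, 123] :=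
  C.conv (f96 C) (f152 C) (f365 C) _ [147, 163, 176] _ (by decide +kernel) (by decide +kernel) (by decide +kernel)

theorem f367 : C.T (v2 C) [25, 35, 61, 70, 90, 109, 123] (v1 C) [22, 43, 55, 80, 98, 109, 115] :=
  C.flip (f366 C)

theorem f368 : C.T (v3 C) [13, 31, 56, 72, 100, 121] (v2 C) [4, 45, 78, 114] :=
  C.closeT (p := (v1 C)) (pu := [6, 50, 88, 92, 109])
    (C.pT (f355 C)
    (C.pH [26, 38, 54, 89, 90, 113] [21, 40, 54, 78, 93, 110, 121] (by decide +kernel)
    (C.pT (f360 C)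
    (C.pH [8, 30, 65, 84, 94, 117] [13, 31, 56, 72, 100, 121] (by decide +kernel) (C.pNil _ _)))))
    (C.pH [26, 38, 54, 89, 90, 113] [25, 35, 61, 70, 90, 109, 123] (by decide +kernel)
    (C.pT (f367 C)
    (C.pH [8, 30, 65, 84, 94, 117] [6, 50, 88, 92, 109] (by decide +kernel) (C.pNil _ _))))
    (C.loop_of_one (relLoop2 C) _ _)

theorem f369 : C.T (v2 C) [4, 45, 78, 114] (v3 C) [13, 31, 56, 72, 100, 121] :=
  C.flip (f368 C)

theorem f370 : C.T (v2 C) [10, 48, 53, 76, 108, 110] (v3 C) [24, 27, 52, 83, 103, 111] :=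
  C.conv (f325 C) (f323 C) (f323 C) _ [146, 156, 168, 176] _ (by decide +kernel) (by decide +kernel) (by decide +kernel)

theorem f371 : C.S (v2 C) [57, 81, 107, 110, 123] :=
  C.stMul (f149 C) (f115 C) _ (by decide +kernel)

theorem f372 : C.T (v2 C) [8, 41, 58, 78, 92, 110, 122] (v3 C) [13, 31, 61, 82, 99, 111] :=
  C.conv (f369 C) (f138 C) (f371 C) _ [142, 157, 164, 173] _ (by decide +kernel) (by decide +kernel) (by decide +kernel)

theorem f373 : C.T (v3 C) [13, 31, 61, 82, 99, 111] (v2 C) [8, 41, 58, 78, 92, 110, 122] :=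
  C.flip (f372 C)

theorem f374 : C.T (v3 C) [6, 27, 52, 78, 106, 110, 114] (v3 C) [4, 42, 59, 85, 99, 110, 119] :=
  C.closeT (p := (v2 C)) (pu := [10, 48, 53, 76, 108, 110])
    (C.pT (f370 C)
    (C.pH [12, 35, 50, 83] [6, 27, 52, 78, 106, 110, 114] (by decide +kernel) (C.pNil _ _)))
    (C.pH [12, 35, 50, 83] [13, 31, 61, 82, 99, 111] (by decide +kernel)
    (C.pT (f373 C)
    (C.pH [12, 35, 50, 83] [10, 48, 53, 76, 108, 110] (by decide +kernel) (C.pNil _ _))))
    (C.loop_of_one (relLoop0 C) _ _)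

theorem f376 : C.S (v3 C) [] :=
  C.stOne _

theorem f378 : C.T (v2 C) [18, 41, 57, 80, 108, 109, 115] (v3 C) [15, 38, 53, 73, 98, 121] :=
  C.conv (f347 C) (f356 C) (f356 C) _ [136, 158, 168, 171, 178] _ (by decide +kernel) (by decide +kernel) (by decide +kernel)

theorem f379 : C.S (v2 C) [28, 53, 81, 103, 109, 117] :=
  C.stMul (f138 C) (f109 C) _ (by decide +kernel)

theorem f380 : C.S (v2 C) [11, 28, 66, 73, 95, 110, 113] :=
  C.stMul (f243 C) (f379 C) _ (by decide +kernel)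

theorem f381 : C.T (v2 C) [18, 34, 62, 84, 103, 110, 124] (v3 C) [17, 29, 55, 85, 99, 109, 121] :=
  C.conv (f347 C) (f356 C) (f380 C) _ [138, 162, 167, 178] _ (by decide +kernel) (by decide +kernel) (by decide +kernel)

theorem f382 : C.T (v3 C) [17, 29, 55, 85, 99, 109, 121] (v2 C) [18, 34, 62, 84, 103, 110, 124] :=
  C.flip (f381 C)

theorem f383 : C.T (v3 C) [15, 38, 53, 83, 97, 123] (v3 C) [9, 40, 66, 70, 106, 109, 118] :=
  C.closeT (p := (v2 C)) (pu := [18, 41, 57, 80, 108, 109, 115])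
    (C.pT (f378 C)
    (C.pH [12, 35, 50, 83] [15, 38, 53, 83, 97, 123] (by decide +kernel) (C.pNil _ _)))
    (C.pH [12, 35, 50, 83] [17, 29, 55, 85, 99, 109, 121] (by decide +kernel)
    (C.pT (f382 C)
    (C.pH [12, 35, 50, 83] [18, 41, 57, 80, 108, 109, 115] (by decide +kernel) (C.pNil _ _))))
    (C.loop_of_one (relLoop0 C) _ _)

theorem f385 : C.S (v3 C) [15, 34, 56, 71, 106, 109, 117] :=
  C.stMul (f331 C) (f353 C) _ (by decide +kernel)

theorem f386 : C.S (v3 C) [16, 65, 76, 94, 125] :=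
  C.stMul (f335 C) (f385 C) _ (by decide +kernel)

theorem f390 : C.S (v3 C) [13, 29, 60, 92, 109, 121] :=
  C.stMul (f353 C) (f328 C) _ (by decide +kernel)

theorem f391 : C.S (v3 C) [8, 48, 63, 86, 90, 110, 123] :=
  C.stMul (f331 C) (f390 C) _ (by decide +kernel)

theorem f392 : C.T (v3 C) [24, 28, 54, 74, 102, 110, 116] (v2 C) [18, 43, 59, 72, 100, 110, 117] :=
  C.conv (f346 C) (f391 C) (f391 C) _ [135, 163, 165, 174, 177] _ (by decide +kernel) (by decide +kernel) (by decide +kernel)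

theorem f393 : C.S (v2 C) [23, 43, 50, 83, 104, 110, 125] :=
  C.stMul (f138 C) (f149 C) _ (by decide +kernel)

theorem f394 : C.S (v2 C) [21, 36, 49, 74, 95, 124] :=
  C.stMul (f243 C) (f393 C) _ (by decide +kernel)

theorem f395 : C.T (v2 C) [18, 44, 56, 78, 100, 109, 119] (v3 C) [14, 47, 65, 85, 93, 110, 119] :=
  C.conv (f347 C) (f356 C) (f394 C) _ [148, 154, 168, 174, 177] _ (by decide +kernel) (by decide +kernel) (by decide +kernel)

theorem f396 : C.T (v3 C) [14, 37, 55, 76, 104] (v3 C) [19, 45, 49, 77, 107, 109, 124] :=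
  C.closeT (p := (v3 C)) (pu := [24, 28, 54, 74, 102, 110, 116])
    (C.pT (f392 C)
    (C.pH [12, 35, 50, 83] [18, 44, 56, 78, 100, 109, 119] (by decide +kernel)
    (C.pT (f395 C)
    (C.pH [12, 35, 50, 83] [14, 37, 55, 76, 104] (by decide +kernel) (C.pNil _ _)))))
    (C.pH [12, 35, 50, 83] [24, 28, 54, 74, 102, 110, 116] (by decide +kernel) (C.pNil _ _))
    (C.loop_of_one (relLoop0 C) _ _)

theorem f399 : C.T (v1 C) [20] (v4 C) [] :=
  C.defn _ _

theorem f400 : C.S (v1 C) [12, 28, 60, 76, 96, 109, 120] :=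
  C.stMul (f27 C) (f27 C) _ (by decide +kernel)

theorem f401 : C.S (v1 C) [6, 28, 60, 76, 96, 109, 120] :=
  C.stMul (f3 C) (f400 C) _ (by decide +kernel)

theorem f402 : C.S (v1 C) [10, 39, 63, 87, 100, 109, 113] :=
  C.stMul (f27 C) (f401 C) _ (by decide +kernel)

theorem f403 : C.S (v1 C) [39, 63, 87, 100, 109, 113] :=
  C.stMul (f3 C) (f402 C) _ (by decide +kernel)

theorem f404 : C.S (v1 C) [19, 33, 58, 79, 96, 109, 124] :=
  C.stMul (f27 C) (f403 C) _ (by decide +kernel)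

theorem f405 : C.S (v1 C) [38, 64, 71, 92, 110, 116] :=
  C.stInv (f403 C) _ (by decide +kernel)

theorem f406 : C.S (v1 C) [6, 35, 57, 89, 105, 114] :=
  C.stMul (f405 C) (f404 C) _ (by decide +kernel)

theorem f407 : C.S (v4 C) [12, 37, 55, 87, 100, 110, 120] :=
  C.transfer (f399 C) (f406 C) [134, 156, 166, 173, 178] _ (by decide +kernel) (by decide +kernel) (by decide +kernel)

theorem f408 : C.S (v1 C) [25, 34, 60] :=
  C.stMul (f12 C) (f3 C) _ (by decide +kernel)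

theorem f409 : C.S (v1 C) [18, 34, 60] :=
  C.stMul (f3 C) (f408 C) _ (by decide +kernel)

theorem f410 : C.S (v1 C) [17, 34, 63, 88, 99, 110] :=
  C.stMul (f27 C) (f409 C) _ (by decide +kernel)

theorem f411 : C.S (v1 C) [26, 34, 63, 88, 99, 110] :=
  C.stMul (f3 C) (f410 C) _ (by decide +kernel)

theorem f412 : C.S (v1 C) [41, 55, 88, 99, 110] :=
  C.stMul (f27 C) (f411 C) _ (by decide +kernel)

theorem f413 : C.S (v1 C) [19, 47, 55, 85, 97, 109, 114] :=
  C.stMul (f27 C) (f412 C) _ (by decide +kernel)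

theorem f414 : C.S (v1 C) [5, 35, 53, 75, 92, 121] :=
  C.stMul (f3 C) (f27 C) _ (by decide +kernel)

theorem f415 : C.S (v1 C) [20, 33, 65, 73, 98, 114] :=
  C.stMul (f27 C) (f414 C) _ (by decide +kernel)

theorem f416 : C.S (v1 C) [14, 33, 54, 84, 99, 110] :=
  C.stMul (f27 C) (f415 C) _ (by decide +kernel)

theorem f417 : C.S (v1 C) [16, 33, 54, 84, 99, 110] :=
  C.stMul (f3 C) (f416 C) _ (by decide +kernel)

theorem f418 : C.S (v1 C) [8, 41, 49, 71, 97, 123] :=
  C.stMul (f12 C) (f417 C) _ (by decide +kernel)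

theorem f419 : C.S (v1 C) [17, 46, 67, 89, 98, 109, 115] :=
  C.stInv (f418 C) _ (by decide +kernel)

theorem f420 : C.S (v1 C) [20, 27, 51, 84, 94, 110, 118] :=
  C.stMul (f419 C) (f413 C) _ (by decide +kernel)

theorem f421 : C.S (v4 C) [8, 38, 58, 78, 99, 110, 116] :=
  C.transfer (f399 C) (f420 C) [130, 159, 168, 172] _ (by decide +kernel) (by decide +kernel) (by decide +kernel)

theorem f422 : C.T (v4 C) [] (v1 C) [20] :=
  C.flip (f399 C)

theorem f423 : C.T (v1 C) [12, 33, 67, 76, 94, 110, 122] (v2 C) [23, 45, 62, 74, 106, 109, 119] :=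
  C.conv (f96 C) (f152 C) (f152 C) _ [145, 156, 170] _ (by decide +kernel) (by decide +kernel) (by decide +kernel)

theorem f424 : C.S (v1 C) [14, 44, 49, 70, 92, 109, 115] :=
  C.stMul (f27 C) (f12 C) _ (by decide +kernel)

theorem f425 : C.S (v1 C) [16, 44, 49, 70, 92, 109, 115] :=
  C.stMul (f3 C) (f424 C) _ (by decide +kernel)

theorem f426 : C.S (v1 C) [8, 28, 65, 83, 95, 109, 113] :=
  C.stMul (f12 C) (f425 C) _ (by decide +kernel)

theorem f427 : C.S (v1 C) [11, 31, 67, 70, 92, 109, 115] :=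
  C.stMul (f27 C) (f426 C) _ (by decide +kernel)

theorem f428 : C.S (v1 C) [13, 31, 67, 70, 92, 109, 115] :=
  C.stMul (f3 C) (f427 C) _ (by decide +kernel)

theorem f429 : C.S (v1 C) [25, 44, 58, 81, 104, 109, 124] :=
  C.stMul (f27 C) (f428 C) _ (by decide +kernel)

theorem f430 : C.S (v1 C) [24, 38, 62, 73, 110, 123] :=
  C.stMul (f27 C) (f429 C) _ (by decide +kernel)

theorem f431 : C.S (v1 C) [7, 38, 62, 73, 110, 123] :=
  C.stMul (f3 C) (f430 C) _ (by decide +kernel)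

theorem f432 : C.S (v1 C) [16, 31, 56, 88, 100, 109, 113] :=
  C.stMul (f27 C) (f431 C) _ (by decide +kernel)

theorem f433 : C.S (v1 C) [7, 38, 66, 75, 108, 110, 112] :=
  C.stMul (f27 C) (f432 C) _ (by decide +kernel)

theorem f434 : C.S (v1 C) [16, 31, 66, 70, 91, 110, 125] :=
  C.stMul (f27 C) (f433 C) _ (by decide +kernel)

theorem f435 : C.T (v1 C) [32, 68, 78, 101] (v4 C) [24, 27, 58, 79, 108, 109, 111] :=
  C.conv (f399 C) (f152 C) (f434 C) _ [146, 156, 170, 175] _ (by decide +kernel) (by decide +kernel) (by decide +kernel)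

theorem f436 : C.T (v4 C) [24, 27, 58, 79, 108, 109, 111] (v1 C) [32, 68, 78, 101] :=
  C.flip (f435 C)

theorem f437 : C.T (v2 C) [37, 67, 79, 93, 110, 117] (v4 C) [19, 58, 86, 98, 109, 112] :=
  C.closeT (p := (v1 C)) (pu := [12, 33, 67, 76, 94, 110, 122])
    (C.pT (f423 C)
    (C.pH [12, 35, 50, 83] [37, 67, 79, 93, 110, 117] (by decide +kernel) (C.pNil _ _)))
    (C.pH [12, 35, 50, 83] [24, 27, 58, 79, 108, 109, 111] (by decide +kernel)
    (C.pT (f436 C)
    (C.pH [12, 35, 50, 83] [12, 33, 67, 76, 94, 110, 122] (by decide +kernel) (C.pNil _ _))))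
    (C.loop_of_one (relLoop0 C) _ _)

theorem f438 : C.T (v4 C) [19, 58, 86, 98, 109, 112] (v2 C) [37, 67, 79, 93, 110, 117] :=
  C.flip (f437 C)

theorem f439 : C.T (v1 C) [20, 32, 53, 79, 94, 109, 123] (v2 C) [7, 45, 51, 81, 101, 110, 112] :=
  C.conv (f96 C) (f152 C) (f152 C) _ [129, 150, 170, 175, 177] _ (by decide +kernel) (by decide +kernel) (by decide +kernel)

theorem f440 : C.S (v1 C) [25, 34, 60] :=
  C.stMul (f12 C) (f3 C) _ (by decide +kernel)

theorem f441 : C.S (v1 C) [24, 32, 65] :=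
  C.stMul (f27 C) (f440 C) _ (by decide +kernel)

theorem f442 : C.S (v1 C) [9, 34, 53, 80, 107, 109, 116] :=
  C.stMul (f27 C) (f441 C) _ (by decide +kernel)

theorem f443 : C.S (v1 C) [13, 60] :=
  C.stMul (f27 C) (f442 C) _ (by decide +kernel)

theorem f444 : C.S (v1 C) [11, 60] :=
  C.stMul (f3 C) (f443 C) _ (by decide +kernel)

theorem f445 : C.S (v1 C) [8, 47, 54, 80, 90, 116] :=
  C.stMul (f27 C) (f444 C) _ (by decide +kernel)

theorem f446 : C.S (v1 C) [11, 35, 52, 73, 93, 110, 111] :=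
  C.stMul (f27 C) (f445 C) _ (by decide +kernel)

theorem f447 : C.S (v1 C) [8, 59, 71, 92, 109, 116] :=
  C.stMul (f27 C) (f446 C) _ (by decide +kernel)

theorem f448 : C.T (v1 C) [11, 36, 55, 79, 106, 118] (v4 C) [26, 32, 50, 80, 98, 110, 122] :=
  C.conv (f399 C) (f152 C) (f447 C) _ [148, 152, 166, 175, 177] _ (by decide +kernel) (by decide +kernel) (by decide +kernel)

theorem f449 : C.T (v4 C) [26, 32, 50, 80, 98, 110, 122] (v1 C) [11, 36, 55, 79, 106, 118] :=
  C.flip (f448 C)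

theorem f450 : C.T (v2 C) [7, 48, 63, 70, 90, 110, 115] (v4 C) [13, 61, 87, 105, 109, 112] :=
  C.closeT (p := (v1 C)) (pu := [20, 32, 53, 79, 94, 109, 123])
    (C.pT (f439 C)
    (C.pH [12, 35, 50, 83] [7, 48, 63, 70, 90, 110, 115] (by decide +kernel) (C.pNil _ _)))
    (C.pH [12, 35, 50, 83] [26, 32, 50, 80, 98, 110, 122] (by decide +kernel)
    (C.pT (f449 C)
    (C.pH [12, 35, 50, 83] [20, 32, 53, 79, 94, 109, 123] (by decide +kernel) (C.pNil _ _))))
    (C.loop_of_one (relLoop0 C) _ _)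

theorem f452 : C.T (v1 C) [20, 35, 55, 79, 106, 110, 116] (v4 C) [11, 37, 53, 86, 98, 109, 116] :=
  C.conv (f399 C) (f152 C) (f152 C) _ [133, 163, 176, 178] _ (by decide +kernel) (by decide +kernel) (by decide +kernel)

theorem f453 : C.S (v1 C) [12, 28, 60, 76, 96, 109, 120] :=
  C.stMul (f27 C) (f27 C) _ (by decide +kernel)

theorem f454 : C.S (v1 C) [26, 40] :=
  C.stMul (f27 C) (f453 C) _ (by decide +kernel)

theorem f455 : C.S (v1 C) [17, 40] :=
  C.stMul (f3 C) (f454 C) _ (by decide +kernel)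

theorem f456 : C.S (v1 C) [18, 41, 59, 75, 103, 119] :=
  C.stMul (f27 C) (f455 C) _ (by decide +kernel)

theorem f457 : C.S (v1 C) [17, 28, 69, 84, 92, 109, 123] :=
  C.stMul (f27 C) (f456 C) _ (by decide +kernel)

theorem f458 : C.S (v1 C) [26, 28, 69, 84, 92, 109, 123] :=
  C.stMul (f3 C) (f457 C) _ (by decide +kernel)

theorem f459 : C.S (v1 C) [32, 64, 83, 97, 120] :=
  C.stMul (f27 C) (f458 C) _ (by decide +kernel)

theorem f460 : C.T (v1 C) [11, 45, 66, 73, 100, 117] (v4 C) [18, 41, 60, 87, 93, 109, 116] :=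
  C.conv (f399 C) (f152 C) (f459 C) _ [140, 153, 165] _ (by decide +kernel) (by decide +kernel) (by decide +kernel)

theorem f461 : C.T (v4 C) [18, 41, 60, 87, 93, 109, 116] (v1 C) [11, 45, 66, 73, 100, 117] :=
  C.flip (f460 C)

theorem f462 : C.T (v4 C) [20, 34, 51, 86, 99, 110, 116] (v4 C) [18, 34, 51, 82, 90, 118] :=
  C.closeT (p := (v1 C)) (pu := [20, 35, 55, 79, 106, 110, 116])
    (C.pT (f452 C)
    (C.pH [12, 35, 50, 83] [20, 34, 51, 86, 99, 110, 116] (by decide +kernel) (C.pNil _ _)))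
    (C.pH [12, 35, 50, 83] [18, 41, 60, 87, 93, 109, 116] (by decide +kernel)
    (C.pT (f461 C)
    (C.pH [12, 35, 50, 83] [20, 35, 55, 79, 106, 110, 116] (by decide +kernel) (C.pNil _ _))))
    (C.loop_of_one (relLoop0 C) _ _)

theorem f467 : C.T (v1 C) [18, 50, 89, 102, 112] (v4 C) [27, 52, 76, 100, 112] :=
  C.conv (f399 C) (f152 C) (f152 C) _ [149, 168, 173, 178] _ (by decide +kernel) (by decide +kernel) (by decide +kernel)

theorem f468 : C.S (v1 C) [9, 41] :=
  C.stMul (f3 C) (f12 C) _ (by decide +kernel)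

theorem f469 : C.S (v1 C) [21, 37, 51, 72, 106, 109, 123] :=
  C.stMul (f12 C) (f468 C) _ (by decide +kernel)

theorem f470 : C.S (v1 C) [6, 37, 51, 87, 102, 122] :=
  C.stMul (f27 C) (f469 C) _ (by decide +kernel)

theorem f471 : C.S (v1 C) [10, 35, 67, 81, 98, 110, 113] :=
  C.stMul (f27 C) (f470 C) _ (by decide +kernel)

theorem f472 : C.S (v1 C) [35, 67, 81, 98, 110, 113] :=
  C.stMul (f3 C) (f471 C) _ (by decide +kernel)

theorem f473 : C.S (v1 C) [19, 48, 50, 81, 116] :=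
  C.stMul (f27 C) (f472 C) _ (by decide +kernel)

theorem f474 : C.S (v1 C) [12, 40, 51, 75, 105, 122] :=
  C.stMul (f27 C) (f473 C) _ (by decide +kernel)

theorem f475 : C.S (v1 C) [26, 29, 69, 84, 101, 109, 125] :=
  C.stMul (f27 C) (f474 C) _ (by decide +kernel)

theorem f476 : C.T (v1 C) [18, 66, 86, 91, 116] (v4 C) [6, 58, 76, 97, 110, 121] :=
  C.conv (f399 C) (f152 C) (f475 C) _ [128, 157, 165, 171, 178] _ (by decide +kernel) (by decide +kernel) (by decide +kernel)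

theorem f477 : C.T (v4 C) [6, 58, 76, 97, 110, 121] (v1 C) [18, 66, 86, 91, 116] :=
  C.flip (f476 C)

theorem f478 : C.T (v4 C) [12, 44, 79, 97, 117] (v4 C) [24, 45, 52, 81, 91, 109, 125] :=
  C.closeT (p := (v1 C)) (pu := [18, 50, 89, 102, 112])
    (C.pT (f467 C)
    (C.pH [12, 35, 50, 83] [12, 44, 79, 97, 117] (by decide +kernel) (C.pNil _ _)))
    (C.pH [12, 35, 50, 83] [6, 58, 76, 97, 110, 121] (by decide +kernel)
    (C.pT (f477 C)
    (C.pH [12, 35, 50, 83] [18, 50, 89, 102, 112] (by decide +kernel) (C.pNil _ _))))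
    (C.loop_of_one (relLoop0 C) _ _)

theorem f485 : C.T (v1 C) [6, 28, 59, 70, 108, 110, 124] (v4 C) [25, 34, 60, 84, 100, 124] :=
  C.conv (f399 C) (f152 C) (f152 C) _ [147, 159, 167, 171] _ (by decide +kernel) (by decide +kernel) (by decide +kernel)

theorem f486 : C.S (v1 C) [18, 34, 60] :=
  C.stMul (f3 C) (f440 C) _ (by decide +kernel)

theorem f487 : C.S (v1 C) [17, 34, 63, 88, 99, 110] :=
  C.stMul (f27 C) (f486 C) _ (by decide +kernel)

theorem f488 : C.S (v1 C) [26, 34, 63, 88, 99, 110] :=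
  C.stMul (f3 C) (f487 C) _ (by decide +kernel)

theorem f489 : C.S (v1 C) [5, 36, 63, 88, 99, 110] :=
  C.stMul (f12 C) (f488 C) _ (by decide +kernel)

theorem f490 : C.S (v1 C) [19, 41, 63, 88, 99, 110] :=
  C.stMul (f3 C) (f489 C) _ (by decide +kernel)

theorem f491 : C.S (v1 C) [12, 35, 50, 89, 101, 117] :=
  C.stMul (f27 C) (f490 C) _ (by decide +kernel)

theorem f492 : C.S (v1 C) [26, 38, 53, 89, 101, 117] :=
  C.stMul (f27 C) (f491 C) _ (by decide +kernel)

theorem f493 : C.S (v1 C) [46, 53, 89, 101, 117] :=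
  C.stMul (f27 C) (f492 C) _ (by decide +kernel)

theorem f494 : C.T (v1 C) [24, 28, 49, 73, 98, 113] (v4 C) [9, 41, 51, 84, 91, 109, 111] :=
  C.conv (f399 C) (f152 C) (f493 C) _ [131, 158, 169] _ (by decide +kernel) (by decide +kernel) (by decide +kernel)

theorem f495 : C.T (v4 C) [9, 41, 51, 84, 91, 109, 111] (v1 C) [24, 28, 49, 73, 98, 113] :=
  C.flip (f494 C)

theorem f496 : C.T (v4 C) [9, 29, 69, 76, 106, 110, 120] (v4 C) [25, 47, 57, 73, 108, 117] :=
  C.closeT (p := (v1 C)) (pu := [6, 28, 59, 70, 108, 110, 124])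
    (C.pT (f485 C)
    (C.pH [12, 35, 50, 83] [9, 29, 69, 76, 106, 110, 120] (by decide +kernel) (C.pNil _ _)))
    (C.pH [12, 35, 50, 83] [9, 41, 51, 84, 91, 109, 111] (by decide +kernel)
    (C.pT (f495 C)
    (C.pH [12, 35, 50, 83] [6, 28, 59, 70, 108, 110, 124] (by decide +kernel) (C.pNil _ _))))
    (C.loop_of_one (relLoop0 C) _ _)

theorem f500 : C.T (v1 C) [12, 37, 62, 70, 100, 109, 113] (v1 C) [12, 34, 60, 85, 106, 116] :=
  C.conv (f47 C) (f49 C) (f49 C) _ [134, 157, 167, 175, 177] _ (by decide +kernel) (by decide +kernel) (by decide +kernel)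

theorem f501 : C.S (v1 C) [4, 42, 65] :=
  C.stMul (f27 C) (f3 C) _ (by decide +kernel)

theorem f502 : C.S (v1 C) [21, 47, 65, 84, 96, 110, 122] :=
  C.stMul (f27 C) (f501 C) _ (by decide +kernel)

theorem f503 : C.S (v1 C) [23, 47, 65, 84, 96, 110, 122] :=
  C.stMul (f3 C) (f502 C) _ (by decide +kernel)

theorem f504 : C.S (v1 C) [15, 45, 62, 88, 96, 109, 113] :=
  C.stMul (f27 C) (f503 C) _ (by decide +kernel)

theorem f505 : C.S (v1 C) [23, 38, 60, 83, 104, 110, 119] :=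
  C.stMul (f27 C) (f504 C) _ (by decide +kernel)

theorem f506 : C.S (v1 C) [21, 38, 60, 83, 104, 110, 119] :=
  C.stMul (f3 C) (f505 C) _ (by decide +kernel)

theorem f507 : C.T (v1 C) [21, 35, 52, 73, 100, 117] (v4 C) [22, 40, 69, 71, 90, 109, 122] :=
  C.conv (f399 C) (f152 C) (f506 C) _ [144, 154, 165, 175] _ (by decide +kernel) (by decide +kernel) (by decide +kernel)

theorem f508 : C.S (v1 C) [18, 46, 61, 89, 96, 110, 111] :=
  C.stMul (f27 C) (f487 C) _ (by decide +kernel)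

theorem f509 : C.S (v1 C) [17, 47, 53, 88, 104, 110, 118] :=
  C.stMul (f27 C) (f508 C) _ (by decide +kernel)

theorem f510 : C.S (v1 C) [26, 47, 53, 88, 104, 110, 118] :=
  C.stMul (f3 C) (f509 C) _ (by decide +kernel)

theorem f511 : C.S (v1 C) [37, 66, 73, 107, 109, 116] :=
  C.stMul (f27 C) (f510 C) _ (by decide +kernel)

theorem f512 : C.S (v1 C) [10, 37, 66, 73, 107, 109, 116] :=
  C.stMul (f3 C) (f511 C) _ (by decide +kernel)

theorem f513 : C.S (v1 C) [4, 30, 65, 74, 96, 112] :=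
  C.stMul (f27 C) (f512 C) _ (by decide +kernel)

theorem f514 : C.S (v1 C) [22, 30, 65, 74, 96, 112] :=
  C.stMul (f3 C) (f513 C) _ (by decide +kernel)

theorem f515 : C.T (v1 C) [24, 31, 67, 76, 107, 109, 124] (v4 C) [13, 29, 49, 87, 105, 109, 112] :=
  C.conv (f399 C) (f152 C) (f514 C) _ [135, 149, 165, 176, 178] _ (by decide +kernel) (by decide +kernel) (by decide +kernel)

theorem f516 : C.T (v4 C) [13, 29, 49, 87, 105, 109, 112] (v1 C) [24, 31, 67, 76, 107, 109, 124] :=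
  C.flip (f515 C)

theorem f517 : C.T (v4 C) [19, 41, 51, 76, 108, 115] (v4 C) [6, 44, 72, 97, 110, 125] :=
  C.closeT (p := (v1 C)) (pu := [12, 37, 62, 70, 100, 109, 113])
    (C.pT (f500 C)
    (C.pH [8, 30, 65, 84, 94, 117] [21, 35, 52, 73, 100, 117] (by decide +kernel)
    (C.pT (f507 C)
    (C.pH [26, 38, 54, 89, 90, 113] [19, 41, 51, 76, 108, 115] (by decide +kernel) (C.pNil _ _)))))
    (C.pH [8, 30, 65, 84, 94, 117] [13, 29, 49, 87, 105, 109, 112] (by decide +kernel)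
    (C.pT (f516 C)
    (C.pH [26, 38, 54, 89, 90, 113] [12, 37, 62, 70, 100, 109, 113] (by decide +kernel) (C.pNil _ _))))
    (C.loop_of_one (relLoop1 C) _ _)

theorem f521 : C.T (v1 C) [8, 36, 66, 75, 98, 110, 123] (v1 C) [8, 39, 53, 76, 96, 110, 115] :=
  C.conv (f47 C) (f49 C) (f49 C) _ [130, 149, 164, 172] _ (by decide +kernel) (by decide +kernel) (by decide +kernel)

theorem f522 : C.S (v1 C) [12, 37, 51, 87, 102, 122] :=
  C.stMul (f3 C) (f470 C) _ (by decide +kernel)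

theorem f523 : C.S (v1 C) [22, 34, 51, 87, 102, 122] :=
  C.stMul (f12 C) (f522 C) _ (by decide +kernel)

theorem f524 : C.S (v1 C) [5, 43, 66, 83, 91, 109, 120] :=
  C.stMul (f27 C) (f523 C) _ (by decide +kernel)

theorem f525 : C.S (v1 C) [20, 47, 51, 81, 98, 110, 114] :=
  C.stMul (f27 C) (f524 C) _ (by decide +kernel)

theorem f526 : C.S (v1 C) [14, 35, 69, 77, 92, 110, 119] :=
  C.stMul (f27 C) (f525 C) _ (by decide +kernel)

theorem f527 : C.S (v1 C) [16, 35, 69, 77, 92, 110, 119] :=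
  C.stMul (f3 C) (f526 C) _ (by decide +kernel)

theorem f528 : C.S (v1 C) [7, 44, 58, 82, 97, 109, 119] :=
  C.stMul (f27 C) (f527 C) _ (by decide +kernel)

theorem f529 : C.T (v1 C) [47, 66, 77, 97, 119] (v4 C) [21, 68, 76, 95, 109, 113] :=
  C.conv (f399 C) (f152 C) (f528 C) _ [143, 158, 167, 174] _ (by decide +kernel) (by decide +kernel) (by decide +kernel)

theorem f530 : C.S (v1 C) [22, 30, 60, 95] :=
  C.stMul (f27 C) (f424 C) _ (by decide +kernel)

theorem f531 : C.S (v1 C) [4, 30, 60, 95] :=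
  C.stMul (f3 C) (f530 C) _ (by decide +kernel)

theorem f532 : C.S (v1 C) [24, 44, 63, 85, 90, 109, 118] :=
  C.stMul (f12 C) (f531 C) _ (by decide +kernel)

theorem f533 : C.S (v1 C) [9, 37, 59, 76, 111] :=
  C.stMul (f27 C) (f532 C) _ (by decide +kernel)

theorem f534 : C.S (v1 C) [20, 37, 59, 76, 111] :=
  C.stMul (f3 C) (f533 C) _ (by decide +kernel)

theorem f535 : C.S (v1 C) [41, 58, 84, 98, 123] :=
  C.stMul (f12 C) (f534 C) _ (by decide +kernel)

theorem f536 : C.S (v1 C) [19, 47, 60, 71, 98, 123] :=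
  C.stMul (f27 C) (f535 C) _ (by decide +kernel)

theorem f537 : C.S (v1 C) [12, 34, 59, 87, 100] :=
  C.stMul (f27 C) (f536 C) _ (by decide +kernel)

theorem f538 : C.S (v1 C) [6, 34, 59, 87, 100] :=
  C.stMul (f3 C) (f537 C) _ (by decide +kernel)

theorem f539 : C.S (v1 C) [10, 47, 68, 88, 97, 116] :=
  C.stMul (f27 C) (f538 C) _ (by decide +kernel)

theorem f540 : C.T (v1 C) [5, 29, 65, 71, 105, 118] (v4 C) [14, 38, 54, 82, 106, 110, 115] :=
  C.conv (f399 C) (f152 C) (f539 C) _ [136, 149, 167, 176, 178] _ (by decide +kernel) (by decide +kernel) (by decide +kernel)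

theorem f541 : C.T (v4 C) [14, 38, 54, 82, 106, 110, 115] (v1 C) [5, 29, 65, 71, 105, 118] :=
  C.flip (f540 C)

theorem f542 : C.T (v4 C) [6, 34, 64, 72, 103, 109, 124] (v4 C) [26, 48, 49, 79, 97, 119] :=
  C.closeT (p := (v1 C)) (pu := [8, 36, 66, 75, 98, 110, 123])
    (C.pT (f521 C)
    (C.pH [8, 30, 65, 84, 94, 117] [47, 66, 77, 97, 119] (by decide +kernel)
    (C.pT (f529 C)
    (C.pH [26, 38, 54, 89, 90, 113] [6, 34, 64, 72, 103, 109, 124] (by decide +kernel) (C.pNil _ _)))))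
    (C.pH [8, 30, 65, 84, 94, 117] [14, 38, 54, 82, 106, 110, 115] (by decide +kernel)
    (C.pT (f541 C)
    (C.pH [26, 38, 54, 89, 90, 113] [8, 36, 66, 75, 98, 110, 123] (by decide +kernel) (C.pNil _ _))))
    (C.loop_of_one (relLoop1 C) _ _)

theorem f546 : C.T (v1 C) [10, 36, 55, 76, 106] (v1 C) [33, 59, 71, 92, 110, 113] :=
  C.conv (f81 C) (f87 C) (f87 C) _ [132, 154, 165, 174, 177] _ (by decide +kernel) (by decide +kernel) (by decide +kernel)

theorem f547 : C.S (v1 C) [7, 32, 65] :=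
  C.stMul (f3 C) (f441 C) _ (by decide +kernel)

theorem f548 : C.S (v1 C) [16, 39, 52, 71, 107, 109, 115] :=
  C.stMul (f27 C) (f547 C) _ (by decide +kernel)

theorem f549 : C.S (v1 C) [7, 32, 58, 89, 106, 110, 120] :=
  C.stMul (f27 C) (f548 C) _ (by decide +kernel)

theorem f550 : C.S (v1 C) [16, 39, 60, 84, 90, 109, 113] :=
  C.stMul (f27 C) (f549 C) _ (by decide +kernel)

theorem f551 : C.S (v1 C) [14, 39, 60, 84, 90, 109, 113] :=
  C.stMul (f3 C) (f550 C) _ (by decide +kernel)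

theorem f552 : C.S (v1 C) [19, 32, 60, 84, 90, 109, 113] :=
  C.stMul (f12 C) (f551 C) _ (by decide +kernel)

theorem f553 : C.S (v1 C) [12, 29, 55, 88, 106, 109, 111] :=
  C.stMul (f27 C) (f552 C) _ (by decide +kernel)

theorem f554 : C.S (v1 C) [6, 29, 55, 88, 106, 109, 111] :=
  C.stMul (f3 C) (f553 C) _ (by decide +kernel)

theorem f555 : C.T (v1 C) [8, 44, 68, 76, 94, 123] (v4 C) [9, 48, 49, 78, 95, 116] :=
  C.conv (f399 C) (f152 C) (f554 C) _ [131, 156, 169, 175, 177] _ (by decide +kernel) (by decide +kernel) (by decide +kernel)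

theorem f556 : C.S (v1 C) [8, 45, 62, 88, 96, 109, 113] :=
  C.stMul (f3 C) (f504 C) _ (by decide +kernel)

theorem f557 : C.S (v1 C) [16, 31, 54, 88, 100, 109, 121] :=
  C.stMul (f12 C) (f556 C) _ (by decide +kernel)

theorem f558 : C.S (v1 C) [7, 38, 52, 72, 94, 110, 116] :=
  C.stMul (f27 C) (f557 C) _ (by decide +kernel)

theorem f559 : C.S (v1 C) [16, 31, 57, 87, 105, 110, 118] :=
  C.stMul (f27 C) (f558 C) _ (by decide +kernel)

theorem f560 : C.S (v1 C) [7, 38, 61, 81, 107, 110, 116] :=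
  C.stMul (f27 C) (f559 C) _ (by decide +kernel)

theorem f561 : C.T (v1 C) [18, 28, 53, 70, 107, 110, 120] (v4 C) [17, 43, 52, 85, 107, 113] :=
  C.conv (f399 C) (f152 C) (f560 C) _ [139, 151, 167, 176, 177] _ (by decide +kernel) (by decide +kernel) (by decide +kernel)

theorem f562 : C.T (v4 C) [17, 43, 52, 85, 107, 113] (v1 C) [18, 28, 53, 70, 107, 110, 120] :=
  C.flip (f561 C)

theorem f563 : C.T (v4 C) [22, 29, 53, 107, 114] (v4 C) [7, 39, 51, 70, 101, 109, 113] :=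
  C.closeT (p := (v1 C)) (pu := [10, 36, 55, 76, 106])
    (C.pT (f546 C)
    (C.pH [8, 30, 65, 84, 94, 117] [8, 44, 68, 76, 94, 123] (by decide +kernel)
    (C.pT (f555 C)
    (C.pH [26, 38, 54, 89, 90, 113] [22, 29, 53, 107, 114] (by decide +kernel) (C.pNil _ _)))))
    (C.pH [8, 30, 65, 84, 94, 117] [17, 43, 52, 85, 107, 113] (by decide +kernel)
    (C.pT (f562 C)
    (C.pH [26, 38, 54, 89, 90, 113] [10, 36, 55, 76, 106] (by decide +kernel) (C.pNil _ _))))
    (C.loop_of_one (relLoop1 C) _ _)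

theorem f567 : C.T (v1 C) [24, 41, 49, 103, 122] (v1 C) [16, 34, 58, 95, 109, 115] :=
  C.conv (f81 C) (f87 C) (f87 C) _ [146, 159, 170, 176, 178] _ (by decide +kernel) (by decide +kernel) (by decide +kernel)

theorem f568 : C.S (v1 C) [5, 31, 55, 84, 101, 123] :=
  C.stMul (f27 C) (f530 C) _ (by decide +kernel)

theorem f569 : C.S (v1 C) [19, 33, 53, 74, 107, 121] :=
  C.stMul (f3 C) (f568 C) _ (by decide +kernel)

theorem f570 : C.S (v1 C) [12, 39, 63, 76, 103, 110, 117] :=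
  C.stMul (f27 C) (f569 C) _ (by decide +kernel)

theorem f571 : C.S (v1 C) [6, 39, 63, 76, 103, 110, 117] :=
  C.stMul (f3 C) (f570 C) _ (by decide +kernel)

theorem f572 : C.S (v1 C) [10, 32, 60, 72, 101, 109, 116] :=
  C.stMul (f27 C) (f571 C) _ (by decide +kernel)

theorem f573 : C.S (v1 C) [4, 68, 81, 117] :=
  C.stMul (f27 C) (f572 C) _ (by decide +kernel)

theorem f574 : C.S (v1 C) [22, 68, 81, 117] :=
  C.stMul (f3 C) (f573 C) _ (by decide +kernel)

theorem f575 : C.S (v1 C) [5, 36, 55, 73, 90, 109, 114] :=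
  C.stMul (f27 C) (f574 C) _ (by decide +kernel)

theorem f576 : C.S (v1 C) [19, 41, 55, 73, 90, 109, 114] :=
  C.stMul (f3 C) (f575 C) _ (by decide +kernel)

theorem f577 : C.T (v1 C) [20, 37, 61, 83, 99, 109, 113] (v4 C) [5, 32, 68, 86, 106, 110, 118] :=
  C.conv (f399 C) (f152 C) (f576 C) _ [127, 159, 167, 175, 177] _ (by decide +kernel) (by decide +kernel) (by decide +kernel)

theorem f578 : C.S (v1 C) [22, 42, 65] :=
  C.stMul (f3 C) (f501 C) _ (by decide +kernel)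

theorem f579 : C.S (v1 C) [5, 47, 52, 84, 104, 112] :=
  C.stMul (f27 C) (f578 C) _ (by decide +kernel)

theorem f580 : C.S (v1 C) [19, 44, 56, 75, 100, 109, 121] :=
  C.stMul (f3 C) (f579 C) _ (by decide +kernel)

theorem f581 : C.S (v1 C) [12, 46, 63, 87, 99, 109, 120] :=
  C.stMul (f27 C) (f580 C) _ (by decide +kernel)

theorem f582 : C.S (v1 C) [26, 31, 50, 78, 103, 124] :=
  C.stMul (f27 C) (f581 C) _ (by decide +kernel)

theorem f583 : C.S (v1 C) [43, 56, 75, 100, 109, 121] :=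
  C.stMul (f27 C) (f582 C) _ (by decide +kernel)

theorem f584 : C.S (v1 C) [10, 43, 56, 75, 100, 109, 121] :=
  C.stMul (f3 C) (f583 C) _ (by decide +kernel)

theorem f585 : C.S (v1 C) [4, 35, 61, 84, 93, 109, 120] :=
  C.stMul (f27 C) (f584 C) _ (by decide +kernel)

theorem f586 : C.S (v1 C) [22, 35, 61, 84, 93, 109, 120] :=
  C.stMul (f3 C) (f585 C) _ (by decide +kernel)

theorem f587 : C.T (v1 C) [11, 39, 58, 82, 94, 110, 122] (v4 C) [26, 32, 50, 71, 104, 110, 112] :=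
  C.conv (f399 C) (f152 C) (f586 C) _ [148, 152, 166, 172, 177] _ (by decide +kernel) (by decide +kernel) (by decide +kernel)

theorem f588 : C.T (v4 C) [26, 32, 50, 71, 104, 110, 112] (v1 C) [11, 39, 58, 82, 94, 110, 122] :=
  C.flip (f587 C)

theorem f589 : C.T (v4 C) [8, 39, 65, 84, 100, 116] (v4 C) [19, 43, 67, 88, 105, 125] :=
  C.closeT (p := (v1 C)) (pu := [24, 41, 49, 103, 122])
    (C.pT (f567 C)
    (C.pH [8, 30, 65, 84, 94, 117] [20, 37, 61, 83, 99, 109, 113] (by decide +kernel)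
    (C.pT (f577 C)
    (C.pH [26, 38, 54, 89, 90, 113] [8, 39, 65, 84, 100, 116] (by decide +kernel) (C.pNil _ _)))))
    (C.pH [8, 30, 65, 84, 94, 117] [26, 32, 50, 71, 104, 110, 112] (by decide +kernel)
    (C.pT (f588 C)
    (C.pH [26, 38, 54, 89, 90, 113] [24, 41, 49, 103, 122] (by decide +kernel) (C.pNil _ _))))
    (C.loop_of_one (relLoop1 C) _ _)

theorem f592 : C.T (v1 C) [22, 40, 68, 88, 107, 124] (v2 C) [46, 58, 86, 104, 110, 118] :=
  C.conv (f96 C) (f152 C) (f152 C) _ [161, 165] _ (by decide +kernel) (by decide +kernel) (by decide +kernel)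

theorem f593 : C.S (v2 C) [20, 61, 78, 104, 112] :=
  C.stMul (f149 C) (f211 C) _ (by decide +kernel)

theorem f594 : C.S (v2 C) [10, 47, 50, 84, 107, 110, 117] :=
  C.stMul (f211 C) (f593 C) _ (by decide +kernel)

theorem f595 : C.S (v2 C) [6, 46, 55, 80, 91, 109, 112] :=
  C.stMul (f211 C) (f594 C) _ (by decide +kernel)

theorem f596 : C.S (v2 C) [4, 46, 68, 85, 99, 109, 124] :=
  C.stMul (f211 C) (f149 C) _ (by decide +kernel)

theorem f597 : C.S (v2 C) [22, 36, 90, 110, 124] :=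
  C.stMul (f243 C) (f596 C) _ (by decide +kernel)

theorem f598 : C.S (v2 C) [13, 27, 56, 71, 104, 109, 114] :=
  C.stMul (f149 C) (f597 C) _ (by decide +kernel)

theorem f599 : C.T (v2 C) [8, 42, 63, 87, 90, 110, 113] (v4 C) [12, 30, 57, 80, 101, 109, 111] :=
  C.conv (f437 C) (f595 C) (f598 C) _ [135, 155, 169, 175] _ (by decide +kernel) (by decide +kernel) (by decide +kernel)

theorem f600 : C.S (v1 C) [12, 36, 51, 87, 90, 119] :=
  C.stMul (f12 C) (f578 C) _ (by decide +kernel)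

theorem f601 : C.S (v1 C) [26, 27, 49, 80, 97, 121] :=
  C.stMul (f27 C) (f600 C) _ (by decide +kernel)

theorem f602 : C.S (v1 C) [17, 27, 49, 80, 97, 121] :=
  C.stMul (f3 C) (f601 C) _ (by decide +kernel)

theorem f603 : C.S (v1 C) [15, 44, 66, 87, 95, 116] :=
  C.stMul (f12 C) (f602 C) _ (by decide +kernel)

theorem f604 : C.T (v1 C) [9, 46, 63, 91, 122] (v4 C) [6, 34, 58, 82, 101, 124] :=
  C.conv (f399 C) (f152 C) (f603 C) _ [128, 162, 165, 172, 177] _ (by decide +kernel) (by decide +kernel) (by decide +kernel)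

theorem f605 : C.T (v4 C) [6, 34, 58, 82, 101, 124] (v1 C) [9, 46, 63, 91, 122] :=
  C.flip (f604 C)

theorem f606 : C.T (v4 C) [14, 31, 65, 77, 107, 109, 120] (v4 C) [22, 36, 59, 88, 95, 110, 116] :=
  C.closeT (p := (v1 C)) (pu := [22, 40, 68, 88, 107, 124])
    (C.pT (f592 C)
    (C.pH [8, 30, 65, 84, 94, 117] [8, 42, 63, 87, 90, 110, 113] (by decide +kernel)
    (C.pT (f599 C)
    (C.pH [26, 38, 54, 89, 90, 113] [14, 31, 65, 77, 107, 109, 120] (by decide +kernel) (C.pNil _ _)))))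
    (C.pH [8, 30, 65, 84, 94, 117] [6, 34, 58, 82, 101, 124] (by decide +kernel)
    (C.pT (f605 C)
    (C.pH [26, 38, 54, 89, 90, 113] [22, 40, 68, 88, 107, 124] (by decide +kernel) (C.pNil _ _))))
    (C.loop_of_one (relLoop1 C) _ _)

theorem f626 : C.T (v1 C) [24, 30, 62, 78, 100, 124] (v2 C) [25, 29, 61, 85, 101, 122] :=
  C.conv (f96 C) (f152 C) (f152 C) _ [147, 149, 164, 178] _ (by decide +kernel) (by decide +kernel) (by decide +kernel)

theorem f627 : C.S (v2 C) [23, 47, 56, 71, 104, 109, 114] :=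
  C.stMul (f211 C) (f138 C) _ (by decide +kernel)

theorem f628 : C.S (v2 C) [4, 48, 54, 83, 104, 115] :=
  C.stMul (f101 C) (f627 C) _ (by decide +kernel)

theorem f629 : C.T (v2 C) [9, 33, 60, 88, 99, 110, 122] (v4 C) [22, 37, 57, 80, 106, 109, 125] :=
  C.conv (f437 C) (f595 C) (f628 C) _ [131, 161, 166, 176, 177] _ (by decide +kernel) (by decide +kernel) (by decide +kernel)

theorem f630 : C.S (v1 C) [4, 40, 67, 88, 102, 109, 119] :=
  C.stMul (f27 C) (f471 C) _ (by decide +kernel)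

theorem f631 : C.S (v1 C) [22, 40, 67, 88, 102, 109, 119] :=
  C.stMul (f3 C) (f630 C) _ (by decide +kernel)

theorem f632 : C.S (v1 C) [5, 35, 51, 72, 106, 109, 123] :=
  C.stMul (f27 C) (f631 C) _ (by decide +kernel)

theorem f633 : C.S (v1 C) [20, 33, 63, 71, 106, 111] :=
  C.stMul (f27 C) (f632 C) _ (by decide +kernel)

theorem f634 : C.T (v1 C) [11, 47, 60, 82, 96, 109, 123] (v4 C) [20, 34, 54, 88, 97, 109, 123] :=
  C.conv (f399 C) (f152 C) (f633 C) _ [142, 159, 165, 178] _ (by decide +kernel) (by decide +kernel) (by decide +kernel)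

theorem f635 : C.T (v4 C) [20, 34, 54, 88, 97, 109, 123] (v1 C) [11, 47, 60, 82, 96, 109, 123] :=
  C.flip (f634 C)

theorem f636 : C.T (v4 C) [19, 32, 52, 87, 91, 125] (v4 C) [16, 38, 53, 71, 99, 123] :=
  C.closeT (p := (v1 C)) (pu := [24, 30, 62, 78, 100, 124])
    (C.pT (f626 C)
    (C.pH [8, 30, 65, 84, 94, 117] [9, 33, 60, 88, 99, 110, 122] (by decide +kernel)
    (C.pT (f629 C)
    (C.pH [26, 38, 54, 89, 90, 113] [19, 32, 52, 87, 91, 125] (by decide +kernel) (C.pNil _ _)))))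
    (C.pH [8, 30, 65, 84, 94, 117] [20, 34, 54, 88, 97, 109, 123] (by decide +kernel)
    (C.pT (f635 C)
    (C.pH [26, 38, 54, 89, 90, 113] [24, 30, 62, 78, 100, 124] (by decide +kernel) (C.pNil _ _))))
    (C.loop_of_one (relLoop1 C) _ _)

theorem f641 : C.T (v1 C) [15, 41, 53, 88, 94, 109] (v1 C) [15, 36, 63, 76, 99, 110, 113] :=
  C.conv (f47 C) (f49 C) (f49 C) _ [137, 158, 170, 172] _ (by decide +kernel) (by decide +kernel) (by decide +kernel)

theorem f642 : C.S (v1 C) [20, 32, 69, 106, 118] :=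
  C.stMul (f27 C) (f579 C) _ (by decide +kernel)

theorem f643 : C.S (v1 C) [9, 32, 69, 106, 118] :=
  C.stMul (f3 C) (f642 C) _ (by decide +kernel)

theorem f644 : C.S (v1 C) [21, 33, 64, 80, 96, 121] :=
  C.stMul (f12 C) (f643 C) _ (by decide +kernel)

theorem f645 : C.S (v1 C) [23, 33, 64, 80, 96, 121] :=
  C.stMul (f3 C) (f644 C) _ (by decide +kernel)

theorem f646 : C.S (v1 C) [15, 36, 50, 84, 103, 110, 124] :=
  C.stMul (f27 C) (f645 C) _ (by decide +kernel)

theorem f647 : C.S (v1 C) [23, 33, 56, 76, 99, 110, 123] :=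
  C.stMul (f27 C) (f646 C) _ (by decide +kernel)

theorem f648 : C.S (v1 C) [21, 33, 56, 76, 99, 110, 123] :=
  C.stMul (f3 C) (f647 C) _ (by decide +kernel)

theorem f649 : C.S (v1 C) [6, 33, 57, 71, 107, 110, 118] :=
  C.stMul (f27 C) (f648 C) _ (by decide +kernel)

theorem f650 : C.T (v1 C) [9, 28, 62, 79, 101, 109, 111] (v4 C) [18, 45, 57, 88, 96, 110, 116] :=
  C.conv (f399 C) (f152 C) (f649 C) _ [140, 162, 169, 175] _ (by decide +kernel) (by decide +kernel) (by decide +kernel)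

theorem f651 : C.S (v1 C) [21, 45, 57, 87, 105, 110, 114] :=
  C.stMul (f27 C) (f531 C) _ (by decide +kernel)

theorem f652 : C.S (v1 C) [23, 45, 57, 87, 105, 110, 114] :=
  C.stMul (f3 C) (f651 C) _ (by decide +kernel)

theorem f653 : C.S (v1 C) [18, 48, 65, 82, 103, 109, 119] :=
  C.stMul (f12 C) (f652 C) _ (by decide +kernel)

theorem f654 : C.S (v1 C) [25, 48, 65, 82, 103, 109, 119] :=
  C.stMul (f3 C) (f653 C) _ (by decide +kernel)

theorem f655 : C.S (v1 C) [24, 28, 65, 82, 103, 109, 119] :=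
  C.stMul (f27 C) (f654 C) _ (by decide +kernel)

theorem f656 : C.T (v1 C) [10, 36, 49, 73, 93, 109, 115] (v4 C) [32, 58, 79, 104, 125] :=
  C.conv (f399 C) (f152 C) (f655 C) _ [153, 165, 174] _ (by decide +kernel) (by decide +kernel) (by decide +kernel)

theorem f657 : C.T (v4 C) [32, 58, 79, 104, 125] (v1 C) [10, 36, 49, 73, 93, 109, 115] :=
  C.flip (f656 C)

theorem f658 : C.T (v4 C) [4, 48, 67, 73, 97, 110, 112] (v4 C) [7, 36, 62, 81, 124] :=
  C.closeT (p := (v1 C)) (pu := [15, 41, 53, 88, 94, 109])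
    (C.pT (f641 C)
    (C.pH [26, 38, 54, 89, 90, 113] [9, 28, 62, 79, 101, 109, 111] (by decide +kernel)
    (C.pT (f650 C)
    (C.pH [8, 30, 65, 84, 94, 117] [4, 48, 67, 73, 97, 110, 112] (by decide +kernel) (C.pNil _ _)))))
    (C.pH [26, 38, 54, 89, 90, 113] [32, 58, 79, 104, 125] (by decide +kernel)
    (C.pT (f657 C)
    (C.pH [8, 30, 65, 84, 94, 117] [15, 41, 53, 88, 94, 109] (by decide +kernel) (C.pNil _ _))))
    (C.loop_of_one (relLoop2 C) _ _)

theorem f662 : C.T (v1 C) [48, 60, 87, 95, 125] (v1 C) [9, 31, 53, 83, 93, 109, 119] :=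
  C.conv (f81 C) (f87 C) (f87 C) _ [166, 175, 177] _ (by decide +kernel) (by decide +kernel) (by decide +kernel)

theorem f663 : C.S (v1 C) [13, 35, 52, 87, 102, 122] :=
  C.stMul (f27 C) (f468 C) _ (by decide +kernel)

theorem f664 : C.S (v1 C) [11, 35, 52, 87, 102, 122] :=
  C.stMul (f3 C) (f663 C) _ (by decide +kernel)

theorem f665 : C.S (v1 C) [7, 27, 52, 86, 92, 110, 114] :=
  C.stMul (f12 C) (f664 C) _ (by decide +kernel)

theorem f666 : C.S (v1 C) [24, 27, 52, 86, 92, 110, 114] :=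
  C.stMul (f3 C) (f665 C) _ (by decide +kernel)

theorem f667 : C.S (v1 C) [9, 46, 52, 86, 92, 110, 114] :=
  C.stMul (f27 C) (f666 C) _ (by decide +kernel)

theorem f668 : C.S (v1 C) [20, 46, 52, 86, 92, 110, 114] :=
  C.stMul (f3 C) (f667 C) _ (by decide +kernel)

theorem f669 : C.S (v1 C) [14, 30, 52, 86, 92, 110, 114] :=
  C.stMul (f27 C) (f668 C) _ (by decide +kernel)

theorem f670 : C.T (v1 C) [22, 28, 64, 89, 93, 110, 125] (v4 C) [4, 32, 67, 82, 105, 123] :=
  C.conv (f399 C) (f152 C) (f669 C) _ [126, 162, 169, 171] _ (by decide +kernel) (by decide +kernel) (by decide +kernel)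

theorem f671 : C.S (v1 C) [11, 37, 59, 78, 104, 112] :=
  C.stMul (f27 C) (f556 C) _ (by decide +kernel)

theorem f672 : C.S (v1 C) [13, 37, 59, 78, 104, 112] :=
  C.stMul (f3 C) (f671 C) _ (by decide +kernel)

theorem f673 : C.S (v1 C) [25, 35, 56, 72, 107, 110, 111] :=
  C.stMul (f27 C) (f672 C) _ (by decide +kernel)

theorem f674 : C.S (v1 C) [18, 35, 56, 72, 107, 110, 111] :=
  C.stMul (f3 C) (f673 C) _ (by decide +kernel)

theorem f675 : C.S (v1 C) [23, 47, 60, 76, 95, 109, 115] :=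
  C.stMul (f12 C) (f674 C) _ (by decide +kernel)

theorem f676 : C.T (v1 C) [8, 46, 63, 72, 95, 110, 123] (v4 C) [21, 33, 59, 70, 95, 110, 120] :=
  C.conv (f399 C) (f152 C) (f675 C) _ [143, 151, 164, 178] _ (by decide +kernel) (by decide +kernel) (by decide +kernel)

theorem f677 : C.T (v4 C) [21, 33, 59, 70, 95, 110, 120] (v1 C) [8, 46, 63, 72, 95, 110, 123] :=
  C.flip (f676 C)

theorem f678 : C.T (v4 C) [25, 46, 67, 82, 105, 123] (v4 C) [10, 31, 50, 80, 95] :=
  C.closeT (p := (v1 C)) (pu := [48, 60, 87, 95, 125])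
    (C.pT (f662 C)
    (C.pH [26, 38, 54, 89, 90, 113] [22, 28, 64, 89, 93, 110, 125] (by decide +kernel)
    (C.pT (f670 C)
    (C.pH [8, 30, 65, 84, 94, 117] [25, 46, 67, 82, 105, 123] (by decide +kernel) (C.pNil _ _)))))
    (C.pH [26, 38, 54, 89, 90, 113] [21, 33, 59, 70, 95, 110, 120] (by decide +kernel)
    (C.pT (f677 C)
    (C.pH [8, 30, 65, 84, 94, 117] [48, 60, 87, 95, 125] (by decide +kernel) (C.pNil _ _))))
    (C.loop_of_one (relLoop2 C) _ _)

theorem f681 : C.T (v2 C) [12, 40, 50, 87, 93, 111] (v2 C) [19, 48, 52, 71, 105, 109, 125] :=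
  C.conv (f307 C) (f311 C) (f311 C) _ [133, 157, 166, 174, 177] _ (by decide +kernel) (by decide +kernel) (by decide +kernel)

theorem f682 : C.S (v2 C) [12, 30, 55, 77, 93, 124] :=
  C.stMul (f243 C) (f138 C) _ (by decide +kernel)

theorem f683 : C.S (v2 C) [15, 46, 51, 72, 98, 110, 118] :=
  C.stMul (f211 C) (f682 C) _ (by decide +kernel)

theorem f684 : C.S (v2 C) [19, 40, 65, 81, 119] :=
  C.stMul (f109 C) (f683 C) _ (by decide +kernel)

theorem f685 : C.T (v2 C) [24, 46, 62, 82, 103, 110, 115] (v4 C) [18, 41, 59, 70, 109, 122] :=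
  C.conv (f450 C) (f109 C) (f684 C) _ [126, 155, 168, 171, 178] _ (by decide +kernel) (by decide +kernel) (by decide +kernel)

theorem f686 : C.T (v4 C) [18, 47, 66, 81, 97, 109, 120] (v2 C) [41, 65, 83, 104, 110, 111] :=
  C.closeT (p := (v2 C)) (pu := [12, 40, 50, 87, 93, 111])
    (C.pT (f681 C)
    (C.pH [12, 35, 50, 83] [24, 46, 62, 82, 103, 110, 115] (by decide +kernel)
    (C.pT (f685 C)
    (C.pH [12, 35, 50, 83] [18, 47, 66, 81, 97, 109, 120] (by decide +kernel) (C.pNil _ _)))))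
    (C.pH [12, 35, 50, 83] [12, 40, 50, 87, 93, 111] (by decide +kernel) (C.pNil _ _))
    (C.loop_of_one (relLoop0 C) _ _)

theorem f687 : C.T (v2 C) [41, 65, 83, 104, 110, 111] (v4 C) [18, 47, 66, 81, 97, 109, 120] :=
  C.flip (f686 C)

theorem f688 : C.S (v2 C) [23, 47, 56, 71, 104, 109, 114] :=
  C.stMul (f211 C) (f138 C) _ (by decide +kernel)

theorem f689 : C.S (v2 C) [20, 89, 105, 110, 115] :=
  C.stMul (f211 C) (f688 C) _ (by decide +kernel)

theorem f690 : C.S (v2 C) [10, 47, 66, 85, 103, 109, 116] :=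
  C.stMul (f211 C) (f689 C) _ (by decide +kernel)

theorem f691 : C.T (v2 C) [41, 65, 83, 104, 110, 111] (v4 C) [23, 38, 57, 80, 104, 118] :=
  C.conv (f450 C) (f109 C) (f690 C) _ [137, 151, 167, 175, 177] _ (by decide +kernel) (by decide +kernel) (by decide +kernel)

theorem f692 : C.E (v4 C) [23, 38, 57, 80, 104, 118] (v4 C) [18, 47, 66, 81, 97, 109, 120] :=
  C.sameSrc (f691 C) (f687 C)

theorem f693 : C.S (v4 C) [21, 44, 61, 102, 114] :=
  C.stEq (f692 C) _ (by decide +kernel)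

theorem f697 : C.S (v4 C) [] :=
  C.stOne _

theorem f700 : C.S (v4 C) [10, 27, 56, 84, 93, 109, 113] :=
  C.stMul (f407 C) (f421 C) _ (by decide +kernel)

theorem f703 : C.S (v4 C) [18, 46, 49, 75, 97, 110, 118] :=
  C.stMul (f407 C) (f407 C) _ (by decide +kernel)

theorem f706 : C.S (v4 C) [8, 31, 60, 85, 98, 110, 125] :=
  C.stMul (f693 C) (f407 C) _ (by decide +kernel)

theorem f709 : C.S (v4 C) [18, 46, 49, 75, 97, 110, 118] :=
  C.stMul (f407 C) (f407 C) _ (by decide +kernel)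

theorem f715 : C.S (v4 C) [10, 27, 56, 84, 93, 109, 113] :=
  C.stMul (f407 C) (f421 C) _ (by decide +kernel)

theorem f718 : C.S (v4 C) [17, 35, 66, 70, 95] :=
  C.stMul (f421 C) (f407 C) _ (by decide +kernel)

theorem f721 : C.S (v4 C) [8, 31, 60, 85, 98, 110, 125] :=
  C.stMul (f693 C) (f407 C) _ (by decide +kernel)

theorem f722 : C.S (v4 C) [42, 63, 82, 91, 110, 125] :=
  C.stMul (f421 C) (f721 C) _ (by decide +kernel)

theorem f723 : C.S (v4 C) [12, 31, 56, 72, 107, 109, 112] :=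
  C.stMul (f407 C) (f722 C) _ (by decide +kernel)

theorem f730 : C.S (v4 C) [18, 46, 49, 75, 97, 110, 118] :=
  C.stMul (f407 C) (f407 C) _ (by decide +kernel)

theorem f736 : C.S (v4 C) [17, 35, 66, 70, 95] :=
  C.stMul (f421 C) (f407 C) _ (by decide +kernel)

theorem f737 : C.S (v4 C) [13, 44, 51, 82, 106, 110, 111] :=
  C.stMul (f407 C) (f736 C) _ (by decide +kernel)

theorem f739 : C.S (v4 C) [23, 41, 49, 78, 91, 109] :=
  C.stMul (f693 C) (f421 C) _ (by decide +kernel)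

theorem f741 : C.T (v2 C) [15, 38, 63, 76, 101, 111] (v4 C) [18, 27, 52, 74, 98, 110, 121] :=
  C.conv (f437 C) (f595 C) (f595 C) _ [137, 160, 166, 173, 178] _ (by decide +kernel) (by decide +kernel) (by decide +kernel)

theorem f742 : C.S (v4 C) [17, 35, 66, 70, 95] :=
  C.stMul (f421 C) (f407 C) _ (by decide +kernel)

theorem f743 : C.S (v4 C) [13, 44, 51, 82, 106, 110, 111] :=
  C.stMul (f407 C) (f742 C) _ (by decide +kernel)

theorem f744 : C.S (v4 C) [21, 35, 69, 73, 94, 109, 122] :=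
  C.stMul (f421 C) (f743 C) _ (by decide +kernel)

theorem f745 : C.S (v4 C) [18, 37, 59, 73, 102, 116] :=
  C.stMul (f693 C) (f744 C) _ (by decide +kernel)

theorem f746 : C.T (v4 C) [4, 39, 68, 74, 94, 110, 116] (v4 C) [8, 30, 53, 89, 108, 113] :=
  C.conv (f478 C) (f730 C) (f745 C) _ [128, 160, 171, 178] _ (by decide +kernel) (by decide +kernel) (by decide +kernel)

theorem f747 : C.S (v2 C) [24, 36, 66, 89, 90, 114] :=
  C.stMul (f243 C) (f211 C) _ (by decide +kernel)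

theorem f748 : C.S (v2 C) [16, 34, 52, 73, 96, 114] :=
  C.stMul (f211 C) (f747 C) _ (by decide +kernel)

theorem f749 : C.T (v2 C) [20, 30, 57, 74, 102, 110, 122] (v4 C) [11, 61, 83, 90, 109, 125] :=
  C.conv (f450 C) (f109 C) (f748 C) _ [131, 151, 164, 174] _ (by decide +kernel) (by decide +kernel) (by decide +kernel)

theorem f750 : C.T (v4 C) [11, 61, 83, 90, 109, 125] (v2 C) [20, 30, 57, 74, 102, 110, 122] :=
  C.flip (f749 C)

theorem f751 : C.T (v4 C) [11, 27, 60, 112] (v4 C) [13, 30, 53, 88, 91, 110, 117] :=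
  C.closeT (p := (v2 C)) (pu := [15, 38, 63, 76, 101, 111])
    (C.pT (f741 C)
    (C.pH [8, 30, 65, 84, 94, 117] [4, 39, 68, 74, 94, 110, 116] (by decide +kernel)
    (C.pT (f746 C)
    (C.pH [26, 38, 54, 89, 90, 113] [11, 27, 60, 112] (by decide +kernel) (C.pNil _ _)))))
    (C.pH [8, 30, 65, 84, 94, 117] [11, 61, 83, 90, 109, 125] (by decide +kernel)
    (C.pT (f750 C)
    (C.pH [26, 38, 54, 89, 90, 113] [15, 38, 63, 76, 101, 111] (by decide +kernel) (C.pNil _ _))))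
    (C.loop_of_one (relLoop1 C) _ _)

theorem f753 : C.S (v4 C) [18, 46, 49, 75, 97, 110, 118] :=
  C.stMul (f407 C) (f407 C) _ (by decide +kernel)

theorem f757 : C.T (v2 C) [13, 41, 55, 81, 91, 109, 115] (v1 C) [6, 38, 59, 84, 107, 110, 119] :=
  C.conv (f231 C) (f243 C) (f243 C) _ [137, 159, 166, 174, 177] _ (by decide +kernel) (by decide +kernel) (by decide +kernel)

theorem f758 : C.S (v1 C) [7, 43, 67, 83, 98, 114] :=
  C.stMul (f27 C) (f425 C) _ (by decide +kernel)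

theorem f759 : C.S (v1 C) [24, 43, 67, 83, 98, 114] :=
  C.stMul (f3 C) (f758 C) _ (by decide +kernel)

theorem f760 : C.S (v1 C) [4, 40, 58, 73, 107] :=
  C.stMul (f12 C) (f759 C) _ (by decide +kernel)

theorem f761 : C.S (v1 C) [22, 40, 58, 73, 107] :=
  C.stMul (f3 C) (f760 C) _ (by decide +kernel)

theorem f762 : C.S (v1 C) [5, 35, 57, 78, 107, 109] :=
  C.stMul (f27 C) (f761 C) _ (by decide +kernel)

theorem f763 : C.S (v1 C) [19, 43, 69, 72, 122] :=
  C.stMul (f3 C) (f762 C) _ (by decide +kernel)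

theorem f764 : C.S (v1 C) [14, 44, 71, 104, 109, 125] :=
  C.stMul (f12 C) (f763 C) _ (by decide +kernel)

theorem f765 : C.S (v1 C) [22, 30, 66, 98, 109, 118] :=
  C.stMul (f27 C) (f764 C) _ (by decide +kernel)

theorem f766 : C.S (v1 C) [4, 30, 66, 98, 109, 118] :=
  C.stMul (f3 C) (f765 C) _ (by decide +kernel)

theorem f767 : C.T (v1 C) [4, 39, 63, 78, 94, 110, 124] (v4 C) [10, 43, 56, 88, 102, 109, 114] :=
  C.conv (f399 C) (f152 C) (f766 C) _ [132, 160, 174, 178] _ (by decide +kernel) (by decide +kernel) (by decide +kernel)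

theorem f768 : C.S (v2 C) [24, 36, 66, 89, 90, 114] :=
  C.stMul (f243 C) (f211 C) _ (by decide +kernel)

theorem f769 : C.S (v2 C) [16, 34, 52, 73, 96, 114] :=
  C.stMul (f211 C) (f768 C) _ (by decide +kernel)

theorem f770 : C.S (v2 C) [14, 34, 50, 70, 91, 110, 123] :=
  C.stMul (f109 C) (f769 C) _ (by decide +kernel)

theorem f771 : C.T (v2 C) [6, 38, 58, 76, 101, 117] (v4 C) [13, 42, 49, 75, 99, 118] :=
  C.conv (f437 C) (f595 C) (f770 C) _ [137, 149, 166, 176] _ (by decide +kernel) (by decide +kernel) (by decide +kernel)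

theorem f772 : C.T (v4 C) [13, 42, 49, 75, 99, 118] (v2 C) [6, 38, 58, 76, 101, 117] :=
  C.flip (f771 C)

theorem f773 : C.T (v4 C) [15, 28, 53, 88, 99, 110, 111] (v4 C) [16, 42, 67, 89, 108, 110, 123] :=
  C.closeT (p := (v2 C)) (pu := [13, 41, 55, 81, 91, 109, 115])
    (C.pT (f757 C)
    (C.pH [26, 38, 54, 89, 90, 113] [4, 39, 63, 78, 94, 110, 124] (by decide +kernel)
    (C.pT (f767 C)
    (C.pH [8, 30, 65, 84, 94, 117] [15, 28, 53, 88, 99, 110, 111] (by decide +kernel) (C.pNil _ _)))))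
    (C.pH [26, 38, 54, 89, 90, 113] [13, 42, 49, 75, 99, 118] (by decide +kernel)
    (C.pT (f772 C)
    (C.pH [8, 30, 65, 84, 94, 117] [13, 41, 55, 81, 91, 109, 115] (by decide +kernel) (C.pNil _ _))))
    (C.loop_of_one (relLoop2 C) _ _)

theorem f776 : C.T (v4 C) [9, 41, 60, 89, 106, 109, 121] (v2 C) [10, 48, 80, 92, 110, 121] :=
  C.conv (f686 C) (f739 C) (f739 C) _ [132, 150, 170, 171, 178] _ (by decide +kernel) (by decide +kernel) (by decide +kernel)

theorem f777 : C.T (v2 C) [21, 42, 80, 92, 110, 121] (v4 C) [7, 43, 69, 95, 109, 115] :=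
  C.conv (f450 C) (f109 C) (f683 C) _ [132, 172, 178] _ (by decide +kernel) (by decide +kernel) (by decide +kernel)

theorem f778 : C.T (v4 C) [7, 43, 49, 83, 91, 110, 112] (v4 C) [25, 47, 54, 89, 99, 110, 112] :=
  C.closeT (p := (v4 C)) (pu := [9, 41, 60, 89, 106, 109, 121])
    (C.pT (f776 C)
    (C.pH [12, 35, 50, 83] [21, 42, 80, 92, 110, 121] (by decide +kernel)
    (C.pT (f777 C)
    (C.pH [12, 35, 50, 83] [7, 43, 49, 83, 91, 110, 112] (by decide +kernel) (C.pNil _ _)))))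
    (C.pH [12, 35, 50, 83] [9, 41, 60, 89, 106, 109, 121] (by decide +kernel) (C.pNil _ _))
    (C.loop_of_one (relLoop0 C) _ _)

theorem f781 : C.T (v4 C) [18, 44, 53, 88, 108, 110, 118] (v4 C) [10, 33, 87, 100, 110, 113] :=
  C.conv (f658 C) (f700 C) (f700 C) _ [131, 151, 169, 176, 177] _ (by decide +kernel) (by decide +kernel) (by decide +kernel)

theorem f782 : C.T (v4 C) [21, 28, 73, 96] (v4 C) [7, 29, 58, 81, 93, 111] :=
  C.conv (f678 C) (f697 C) (f407 C) _ [128, 163, 169, 171] _ (by decide +kernel) (by decide +kernel) (by decide +kernel)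

theorem f783 : C.T (v4 C) [7, 31, 52, 77, 93, 109, 125] (v4 C) [18, 43, 60, 89, 95, 110, 122] :=
  C.closeT (p := (v4 C)) (pu := [18, 44, 53, 88, 108, 110, 118])
    (C.pT (f781 C)
    (C.pH [12, 35, 50, 83] [21, 28, 73, 96] (by decide +kernel)
    (C.pT (f782 C)
    (C.pH [12, 35, 50, 83] [7, 31, 52, 77, 93, 109, 125] (by decide +kernel) (C.pNil _ _)))))
    (C.pH [12, 35, 50, 83] [18, 44, 53, 88, 108, 110, 118] (by decide +kernel) (C.pNil _ _))
    (C.loop_of_one (relLoop0 C) _ _)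

theorem f786 : C.T (v4 C) [22, 30, 62, 79, 101, 110] (v4 C) [12, 40, 55, 70, 101, 111] :=
  C.conv (f678 C) (f697 C) (f697 C) _ [143, 150, 169, 174] _ (by decide +kernel) (by decide +kernel) (by decide +kernel)

theorem f787 : C.T (v4 C) [9, 37, 64, 72, 101, 119] (v4 C) [11, 37, 63, 78, 102, 124] :=
  C.conv (f636 C) (f703 C) (f421 C) _ [127, 156, 164, 173, 178] _ (by decide +kernel) (by decide +kernel) (by decide +kernel)

theorem f788 : C.T (v4 C) [11, 37, 63, 78, 102, 124] (v4 C) [9, 37, 64, 72, 101, 119] :=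
  C.flip (f787 C)

theorem f789 : C.T (v4 C) [13, 38, 49, 79, 104, 111] (v4 C) [9, 38, 54, 70, 96, 109, 119] :=
  C.conv (f658 C) (f700 C) (f697 C) _ [143, 176] _ (by decide +kernel) (by decide +kernel) (by decide +kernel)

theorem f790 : C.T (v4 C) [9, 38, 54, 70, 96, 109, 119] (v4 C) [13, 38, 49, 79, 104, 111] :=
  C.flip (f789 C)

theorem f791 : C.T (v4 C) [21, 40, 52, 88, 106, 110, 125] (v4 C) [15, 67, 82, 90, 123] :=
  C.closeT (p := (v4 C)) (pu := [22, 30, 62, 79, 101, 110])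
    (C.pT (f786 C)
    (C.pH [8, 30, 65, 84, 94, 117] [21, 40, 52, 88, 106, 110, 125] (by decide +kernel) (C.pNil _ _)))
    (C.pH [26, 38, 54, 89, 90, 113] [9, 38, 54, 70, 96, 109, 119] (by decide +kernel)
    (C.pT (f790 C)
    (C.pH [8, 30, 65, 84, 94, 117] [11, 37, 63, 78, 102, 124] (by decide +kernel)
    (C.pT (f788 C)
    (C.pH [26, 38, 54, 89, 90, 113] [22, 30, 62, 79, 101, 110] (by decide +kernel) (C.pNil _ _))))))
    (C.loop_of_one (relLoop1 C) _ _)

theorem f793 : C.S (v4 C) [10, 27, 56, 84, 93, 109, 113] :=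
  C.stMul (f407 C) (f421 C) _ (by decide +kernel)

theorem f795 : C.T (v4 C) [9, 44, 50, 75, 106, 110] (v4 C) [20, 46, 59, 107] :=
  C.conv (f517 C) (f723 C) (f723 C) _ [138, 159, 167, 175, 177] _ (by decide +kernel) (by decide +kernel) (by decide +kernel)

theorem f796 : C.T (v4 C) [23, 42, 64, 76, 104, 113] (v4 C) [12, 44, 66, 87, 105, 110, 122] :=
  C.conv (f462 C) (f737 C) (f693 C) _ [142, 168, 174] _ (by decide +kernel) (by decide +kernel) (by decide +kernel)

theorem f797 : C.T (v4 C) [14, 45, 68, 74, 94, 109, 118] (v4 C) [24, 29, 63, 81, 95, 110, 123] :=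
  C.conv (f517 C) (f723 C) (f421 C) _ [139, 155, 171, 178] _ (by decide +kernel) (by decide +kernel) (by decide +kernel)

theorem f798 : C.T (v4 C) [16, 47, 61, 70, 104, 121] (v4 C) [15, 34, 66, 82, 94, 110, 113] :=
  C.closeT (p := (v4 C)) (pu := [9, 44, 50, 75, 106, 110])
    (C.pT (f795 C)
    (C.pH [8, 30, 65, 84, 94, 117] [23, 42, 64, 76, 104, 113] (by decide +kernel)
    (C.pT (f796 C)
    (C.pH [26, 38, 54, 89, 90, 113] [14, 45, 68, 74, 94, 109, 118] (by decide +kernel)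
    (C.pT (f797 C)
    (C.pH [8, 30, 65, 84, 94, 117] [16, 47, 61, 70, 104, 121] (by decide +kernel) (C.pNil _ _)))))))
    (C.pH [26, 38, 54, 89, 90, 113] [9, 44, 50, 75, 106, 110] (by decide +kernel) (C.pNil _ _))
    (C.loop_of_one (relLoop1 C) _ _)

theorem f800 : C.S (v4 C) [18, 46, 49, 75, 97, 110, 118] :=
  C.stMul (f407 C) (f407 C) _ (by decide +kernel)

theorem f802 : C.T (v4 C) [21, 28, 51, 71, 90, 110, 124] (v2 C) [13, 39, 59, 71, 101, 109] :=
  C.conv (f686 C) (f739 C) (f739 C) _ [135, 151, 169, 173, 178] _ (by decide +kernel) (by decide +kernel) (by decide +kernel)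

theorem f803 : C.S (v2 C) [24, 37, 68, 82, 104, 109] :=
  C.stMul (f243 C) (f149 C) _ (by decide +kernel)

theorem f804 : C.T (v2 C) [23, 45, 69, 80, 91, 110, 123] (v3 C) [24, 58, 85, 90, 109, 113] :=
  C.conv (f347 C) (f356 C) (f803 C) _ [143, 161, 167, 174, 178] _ (by decide +kernel) (by decide +kernel) (by decide +kernel)

theorem f805 : C.S (v4 C) [13, 28, 60, 83, 108, 110, 119] :=
  C.stMul (f421 C) (f693 C) _ (by decide +kernel)

theorem f806 : C.T (v4 C) [12, 27, 59, 78, 91, 114] (v4 C) [19, 30, 58, 79, 99, 110, 111] :=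
  C.conv (f798 C) (f421 C) (f805 C) _ [147, 149, 164, 171] _ (by decide +kernel) (by decide +kernel) (by decide +kernel)

theorem f807 : C.T (v4 C) [19, 30, 58, 79, 99, 110, 111] (v4 C) [12, 27, 59, 78, 91, 114] :=
  C.flip (f806 C)

theorem f808 : C.T (v3 C) [16, 34, 64, 86, 97, 109, 120] (v4 C) [22, 35, 69, 85, 106, 109] :=
  C.closeT (p := (v4 C)) (pu := [21, 28, 51, 71, 90, 110, 124])
    (C.pT (f802 C)
    (C.pH [26, 38, 54, 89, 90, 113] [23, 45, 69, 80, 91, 110, 123] (by decide +kernel)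
    (C.pT (f804 C)
    (C.pH [8, 30, 65, 84, 94, 117] [16, 34, 64, 86, 97, 109, 120] (by decide +kernel) (C.pNil _ _)))))
    (C.pH [26, 38, 54, 89, 90, 113] [19, 30, 58, 79, 99, 110, 111] (by decide +kernel)
    (C.pT (f807 C)
    (C.pH [8, 30, 65, 84, 94, 117] [21, 28, 51, 71, 90, 110, 124] (by decide +kernel) (C.pNil _ _))))
    (C.loop_of_one (relLoop2 C) _ _)

theorem f809 : C.T (v4 C) [22, 35, 69, 85, 106, 109] (v3 C) [16, 34, 64, 86, 97, 109, 120] :=
  C.flip (f808 C)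

theorem f810 : C.T (v4 C) [22, 43, 62, 86, 106, 111] (v4 C) [18, 45, 64, 88, 94, 121] :=
  C.conv (f496 C) (f697 C) (f697 C) _ [139, 162, 168, 172, 178] _ (by decide +kernel) (by decide +kernel) (by decide +kernel)

theorem f811 : C.T (v4 C) [10, 35, 50, 77, 105, 112] (v2 C) [17, 29, 66, 86, 93, 110, 118] :=
  C.conv (f438 C) (f421 C) (f693 C) _ [139, 156, 167, 176, 178] _ (by decide +kernel) (by decide +kernel) (by decide +kernel)

theorem f812 : C.S (v4 C) [18, 46, 49, 75, 97, 110, 118] :=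
  C.stMul (f407 C) (f407 C) _ (by decide +kernel)

theorem f813 : C.S (v4 C) [10, 42, 56, 80, 93, 109, 122] :=
  C.stMul (f693 C) (f812 C) _ (by decide +kernel)

theorem f814 : C.S (v4 C) [10, 27, 56, 84, 93, 109, 113] :=
  C.stMul (f407 C) (f421 C) _ (by decide +kernel)

theorem f815 : C.T (v4 C) [17, 52, 81, 91, 119] (v3 C) [4, 33, 50, 82, 98, 110, 111] :=
  C.conv (f809 C) (f813 C) (f814 C) _ [129, 158, 168, 171] _ (by decide +kernel) (by decide +kernel) (by decide +kernel)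

theorem f816 : C.T (v3 C) [4, 33, 50, 82, 98, 110, 111] (v4 C) [17, 52, 81, 91, 119] :=
  C.flip (f815 C)

theorem f817 : C.T (v2 C) [22, 33, 81, 90, 110, 118] (v3 C) [6, 48, 88, 105, 110, 117] :=
  C.closeT (p := (v4 C)) (pu := [22, 43, 62, 86, 106, 111])
    (C.pT (f810 C)
    (C.pH [26, 38, 54, 89, 90, 113] [10, 35, 50, 77, 105, 112] (by decide +kernel)
    (C.pT (f811 C)
    (C.pH [8, 30, 65, 84, 94, 117] [22, 33, 81, 90, 110, 118] (by decide +kernel) (C.pNil _ _)))))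
    (C.pH [26, 38, 54, 89, 90, 113] [4, 33, 50, 82, 98, 110, 111] (by decide +kernel)
    (C.pT (f816 C)
    (C.pH [8, 30, 65, 84, 94, 117] [22, 43, 62, 86, 106, 111] (by decide +kernel) (C.pNil _ _))))
    (C.loop_of_one (relLoop2 C) _ _)

theorem f818 : C.T (v3 C) [6, 48, 88, 105, 110, 117] (v2 C) [22, 33, 81, 90, 110, 118] :=
  C.flip (f817 C)

theorem f819 : C.T (v4 C) [7, 42, 69, 73, 98] (v2 C) [17, 30, 66, 74, 93, 109, 122] :=
  C.conv (f438 C) (f421 C) (f421 C) _ [139, 157, 173, 177] _ (by decide +kernel) (by decide +kernel) (by decide +kernel)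

theorem f820 : C.S (v2 C) [4, 48, 69, 79, 94, 109, 124] :=
  C.stMul (f211 C) (f211 C) _ (by decide +kernel)

theorem f821 : C.S (v2 C) [22, 45, 64, 80, 102, 110, 121] :=
  C.stMul (f243 C) (f820 C) _ (by decide +kernel)

theorem f822 : C.T (v2 C) [20, 28, 54, 71, 93, 110, 124] (v4 C) [5, 45, 56, 94, 116] :=
  C.conv (f437 C) (f595 C) (f821 C) _ [131, 151, 170, 176] _ (by decide +kernel) (by decide +kernel) (by decide +kernel)

theorem f823 : C.S (v4 C) [17, 35, 66, 70, 95] :=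
  C.stMul (f421 C) (f407 C) _ (by decide +kernel)

theorem f824 : C.S (v4 C) [26, 44, 64, 94, 121] :=
  C.stMul (f693 C) (f823 C) _ (by decide +kernel)

theorem f825 : C.T (v4 C) [11, 29, 69, 73, 92, 110] (v4 C) [16, 46, 63, 87, 106, 112] :=
  C.conv (f606 C) (f421 C) (f824 C) _ [136, 163, 164, 175, 177] _ (by decide +kernel) (by decide +kernel) (by decide +kernel)

theorem f826 : C.T (v4 C) [16, 46, 63, 87, 106, 112] (v4 C) [11, 29, 69, 73, 92, 110] :=
  C.flip (f825 C)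

theorem f827 : C.T (v4 C) [12, 27, 50, 77, 104, 114] (v4 C) [26, 36, 84, 98, 110, 117] :=
  C.closeT (p := (v4 C)) (pu := [7, 42, 69, 73, 98])
    (C.pT (f819 C)
    (C.pH [26, 38, 54, 89, 90, 113] [20, 28, 54, 71, 93, 110, 124] (by decide +kernel)
    (C.pT (f822 C)
    (C.pH [8, 30, 65, 84, 94, 117] [12, 27, 50, 77, 104, 114] (by decide +kernel) (C.pNil _ _)))))
    (C.pH [26, 38, 54, 89, 90, 113] [16, 46, 63, 87, 106, 112] (by decide +kernel)
    (C.pT (f826 C)
    (C.pH [8, 30, 65, 84, 94, 117] [7, 42, 69, 73, 98] (by decide +kernel) (C.pNil _ _))))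
    (C.loop_of_one (relLoop2 C) _ _)

theorem f829 : C.S (v4 C) [17, 35, 66, 70, 95] :=
  C.stMul (f421 C) (f407 C) _ (by decide +kernel)

theorem f830 : C.S (v4 C) [13, 44, 51, 82, 106, 110, 111] :=
  C.stMul (f407 C) (f829 C) _ (by decide +kernel)

theorem f831 : C.S (v4 C) [21, 35, 69, 73, 94, 109, 122] :=
  C.stMul (f421 C) (f830 C) _ (by decide +kernel)

theorem f833 : C.T (v4 C) [14, 47, 67, 86, 105, 116] (v1 C) [19, 36, 68, 80, 106, 120] :=
  C.conv (f422 C) (f697 C) (f697 C) _ [136, 153, 166, 173, 177] _ (by decide +kernel) (by decide +kernel) (by decide +kernel)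

theorem f834 : C.S (v1 C) [39, 63, 87, 100, 109, 113] :=
  C.stMul (f3 C) (f235 C) _ (by decide +kernel)

theorem f835 : C.S (v1 C) [19, 33, 58, 79, 96, 109, 124] :=
  C.stMul (f27 C) (f834 C) _ (by decide +kernel)

theorem f836 : C.T (v1 C) [17, 41, 57, 86, 94, 110, 114] (v2 C) [24, 30, 57, 71, 101, 110, 125] :=
  C.conv (f96 C) (f152 C) (f835 C) _ [146, 163, 164, 176] _ (by decide +kernel) (by decide +kernel) (by decide +kernel)

theorem f837 : C.S (v2 C) [18, 44, 60, 72, 100, 117] :=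
  C.stMul (f138 C) (f125 C) _ (by decide +kernel)

theorem f838 : C.S (v2 C) [4, 48, 69, 79, 94, 109, 124] :=
  C.stMul (f211 C) (f211 C) _ (by decide +kernel)

theorem f839 : C.S (v2 C) [18, 44, 66, 78, 93, 113] :=
  C.stMul (f211 C) (f838 C) _ (by decide +kernel)

theorem f840 : C.T (v2 C) [16, 41, 63, 70, 102, 110, 125] (v3 C) [42, 64, 86, 94, 112] :=
  C.conv (f817 C) (f837 C) (f839 C) _ [130, 150, 178] _ (by decide +kernel) (by decide +kernel) (by decide +kernel)

theorem f841 : C.T (v3 C) [26, 37, 58, 80, 99, 109, 116] (v4 C) [26, 39, 56, 75, 100, 119] :=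
  C.closeT (p := (v4 C)) (pu := [14, 47, 67, 86, 105, 116])
    (C.pT (f833 C)
    (C.pH [26, 38, 54, 89, 90, 113] [17, 41, 57, 86, 94, 110, 114] (by decide +kernel)
    (C.pT (f836 C)
    (C.pH [8, 30, 65, 84, 94, 117] [16, 41, 63, 70, 102, 110, 125] (by decide +kernel)
    (C.pT (f840 C)
    (C.pH [26, 38, 54, 89, 90, 113] [26, 37, 58, 80, 99, 109, 116] (by decide +kernel) (C.pNil _ _)))))))
    (C.pH [8, 30, 65, 84, 94, 117] [14, 47, 67, 86, 105, 116] (by decide +kernel) (C.pNil _ _))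
    (C.loop_of_one (relLoop2 C) _ _)

theorem f842 : C.T (v4 C) [26, 39, 56, 75, 100, 119] (v3 C) [26, 37, 58, 80, 99, 109, 116] :=
  C.flip (f841 C)

theorem f843 : C.T (v4 C) [12, 46, 65, 83, 111] (v1 C) [23, 43, 68, 89, 93, 114] :=
  C.conv (f422 C) (f697 C) (f697 C) _ [134, 160, 169, 171, 178] _ (by decide +kernel) (by decide +kernel) (by decide +kernel)

theorem f844 : C.S (v1 C) [25, 34, 60] :=
  C.stMul (f12 C) (f3 C) _ (by decide +kernel)

theorem f845 : C.S (v1 C) [24, 32, 65] :=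
  C.stMul (f27 C) (f844 C) _ (by decide +kernel)

theorem f846 : C.S (v1 C) [9, 34, 53, 80, 107, 109, 116] :=
  C.stMul (f27 C) (f845 C) _ (by decide +kernel)

theorem f847 : C.S (v1 C) [20, 34, 53, 80, 107, 109, 116] :=
  C.stMul (f3 C) (f846 C) _ (by decide +kernel)

theorem f848 : C.S (v1 C) [14, 53, 80, 107, 109, 116] :=
  C.stMul (f27 C) (f847 C) _ (by decide +kernel)

theorem f849 : C.S (v1 C) [16, 53, 80, 107, 109, 116] :=
  C.stMul (f3 C) (f848 C) _ (by decide +kernel)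

theorem f850 : C.S (v1 C) [7, 49, 106, 109, 122] :=
  C.stMul (f27 C) (f849 C) _ (by decide +kernel)

theorem f851 : C.S (v1 C) [24, 49, 106, 109, 122] :=
  C.stMul (f3 C) (f850 C) _ (by decide +kernel)

theorem f852 : C.S (v1 C) [4, 43, 68, 75, 93, 116] :=
  C.stMul (f12 C) (f851 C) _ (by decide +kernel)

theorem f853 : C.S (v1 C) [22, 43, 68, 75, 93, 116] :=
  C.stMul (f3 C) (f852 C) _ (by decide +kernel)

theorem f854 : C.T (v1 C) [7, 40, 52, 76, 105, 110, 123] (v2 C) [10, 72, 102, 110, 121] :=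
  C.conv (f96 C) (f152 C) (f853 C) _ [132, 171, 177] _ (by decide +kernel) (by decide +kernel) (by decide +kernel)

theorem f855 : C.T (v4 C) [5, 35, 68, 70, 102, 110, 119] (v4 C) [8, 27, 63, 85, 90] :=
  C.conv (f798 C) (f421 C) (f800 C) _ [142, 155, 170, 173, 177] _ (by decide +kernel) (by decide +kernel) (by decide +kernel)

theorem f856 : C.T (v4 C) [8, 27, 63, 85, 90] (v4 C) [5, 35, 68, 70, 102, 110, 119] :=
  C.flip (f855 C)

theorem f857 : C.T (v2 C) [15, 43, 50, 78, 102, 109, 114] (v4 C) [5, 43, 58, 72, 97, 109, 122] :=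
  C.closeT (p := (v4 C)) (pu := [12, 46, 65, 83, 111])
    (C.pT (f843 C)
    (C.pH [26, 38, 54, 89, 90, 113] [7, 40, 52, 76, 105, 110, 123] (by decide +kernel)
    (C.pT (f854 C)
    (C.pH [8, 30, 65, 84, 94, 117] [15, 43, 50, 78, 102, 109, 114] (by decide +kernel) (C.pNil _ _)))))
    (C.pH [26, 38, 54, 89, 90, 113] [8, 27, 63, 85, 90] (by decide +kernel)
    (C.pT (f856 C)
    (C.pH [8, 30, 65, 84, 94, 117] [12, 46, 65, 83, 111] (by decide +kernel) (C.pNil _ _))))
    (C.loop_of_one (relLoop2 C) _ _)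

theorem f858 : C.T (v4 C) [5, 43, 58, 72, 97, 109, 122] (v2 C) [15, 43, 50, 78, 102, 109, 114] :=
  C.flip (f857 C)

theorem f859 : C.T (v4 C) [9, 33, 50, 81, 97, 110, 125] (v4 C) [24, 35, 63, 86, 102, 109] :=
  C.conv (f773 C) (f697 C) (f697 C) _ [140, 160, 174, 177] _ (by decide +kernel) (by decide +kernel) (by decide +kernel)

theorem f860 : C.S (v4 C) [18, 46, 49, 75, 97, 110, 118] :=
  C.stMul (f407 C) (f407 C) _ (by decide +kernel)

theorem f861 : C.S (v4 C) [17, 35, 66, 70, 95] :=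
  C.stMul (f421 C) (f407 C) _ (by decide +kernel)

theorem f862 : C.T (v4 C) [12, 30, 53, 83, 100, 109] (v2 C) [30, 54, 75, 95] :=
  C.conv (f858 C) (f860 C) (f861 C) _ [131, 152, 170, 172] _ (by decide +kernel) (by decide +kernel) (by decide +kernel)

theorem f863 : C.S (v2 C) [13, 27, 59, 85, 101, 109, 113] :=
  C.stMul (f243 C) (f115 C) _ (by decide +kernel)

theorem f864 : C.S (v2 C) [12, 30, 59, 76, 108, 125] :=
  C.stMul (f149 C) (f863 C) _ (by decide +kernel)

theorem f865 : C.S (v2 C) [24, 36, 66, 89, 90, 114] :=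
  C.stMul (f243 C) (f211 C) _ (by decide +kernel)

theorem f866 : C.S (v2 C) [11, 28, 69, 77, 99, 110, 118] :=
  C.stMul (f115 C) (f865 C) _ (by decide +kernel)

theorem f867 : C.T (v2 C) [8, 28, 64, 79, 104, 111] (v4 C) [37, 53, 71, 100, 109, 115] :=
  C.conv (f857 C) (f864 C) (f866 C) _ [138, 150, 170, 177] _ (by decide +kernel) (by decide +kernel) (by decide +kernel)

theorem f868 : C.T (v4 C) [26, 29, 62, 79, 103, 118] (v4 C) [25, 29, 59, 72, 102, 110, 116] :=
  C.closeT (p := (v4 C)) (pu := [9, 33, 50, 81, 97, 110, 125])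
    (C.pT (f859 C)
    (C.pH [26, 38, 54, 89, 90, 113] [12, 30, 53, 83, 100, 109] (by decide +kernel)
    (C.pT (f862 C)
    (C.pH [8, 30, 65, 84, 94, 117] [8, 28, 64, 79, 104, 111] (by decide +kernel)
    (C.pT (f867 C)
    (C.pH [26, 38, 54, 89, 90, 113] [26, 29, 62, 79, 103, 118] (by decide +kernel) (C.pNil _ _)))))))
    (C.pH [8, 30, 65, 84, 94, 117] [9, 33, 50, 81, 97, 110, 125] (by decide +kernel) (C.pNil _ _))
    (C.loop_of_one (relLoop2 C) _ _)

theorem f869 : C.T (v4 C) [25, 29, 59, 72, 102, 110, 116] (v4 C) [26, 29, 62, 79, 103, 118] :=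
  C.flip (f868 C)

theorem f870 : C.T (v1 C) [21, 37, 53, 78, 104, 110, 114] (v4 C) [9, 40, 68, 80, 92, 112] :=
  C.conv (f399 C) (f152 C) (f152 C) _ [131, 149, 175, 177] _ (by decide +kernel) (by decide +kernel) (by decide +kernel)

theorem f871 : C.S (v1 C) [15, 48, 61, 82, 104, 110, 116] :=
  C.stMul (f12 C) (f364 C) _ (by decide +kernel)

theorem f872 : C.S (v1 C) [8, 48, 61, 82, 104, 110, 116] :=
  C.stMul (f3 C) (f871 C) _ (by decide +kernel)

theorem f873 : C.S (v1 C) [11, 38, 56, 85, 107, 109, 120] :=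
  C.stMul (f27 C) (f872 C) _ (by decide +kernel)

theorem f874 : C.S (v1 C) [13, 38, 56, 85, 107, 109, 120] :=
  C.stMul (f3 C) (f873 C) _ (by decide +kernel)

theorem f875 : C.S (v1 C) [25, 56, 85, 107, 109, 120] :=
  C.stMul (f27 C) (f874 C) _ (by decide +kernel)

theorem f876 : C.T (v1 C) [10, 37, 60, 88, 108, 109, 114] (v2 C) [11, 29, 63, 71, 103, 122] :=
  C.conv (f96 C) (f152 C) (f875 C) _ [133, 149, 176, 177] _ (by decide +kernel) (by decide +kernel) (by decide +kernel)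

theorem f877 : C.T (v2 C) [11, 29, 63, 71, 103, 122] (v1 C) [10, 37, 60, 88, 108, 109, 114] :=
  C.flip (f876 C)

theorem f878 : C.S (v2 C) [20, 48, 49, 77, 103, 110, 112] :=
  C.stMul (f125 C) (f101 C) _ (by decide +kernel)

theorem f879 : C.S (v2 C) [10, 47, 84, 108, 125] :=
  C.stMul (f149 C) (f878 C) _ (by decide +kernel)

theorem f880 : C.T (v2 C) [13, 34, 53, 74, 103, 109, 111] (v4 C) [25, 29, 54, 85, 99, 109] :=
  C.conv (f857 C) (f864 C) (f879 C) _ [140, 160, 170] _ (by decide +kernel) (by decide +kernel) (by decide +kernel)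

theorem f881 : C.T (v4 C) [25, 29, 54, 85, 99, 109] (v2 C) [13, 34, 53, 74, 103, 109, 111] :=
  C.flip (f880 C)

theorem f882 : C.T (v4 C) [18, 42, 83, 98, 110, 113] (v4 C) [4, 31, 66, 78, 104, 119] :=
  C.closeT (p := (v1 C)) (pu := [21, 37, 53, 78, 104, 110, 114])
    (C.pT (f870 C)
    (C.pH [8, 30, 65, 84, 94, 117] [18, 42, 83, 98, 110, 113] (by decide +kernel) (C.pNil _ _)))
    (C.pH [26, 38, 54, 89, 90, 113] [25, 29, 54, 85, 99, 109] (by decide +kernel)
    (C.pT (f881 C)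
    (C.pH [8, 30, 65, 84, 94, 117] [11, 29, 63, 71, 103, 122] (by decide +kernel)
    (C.pT (f877 C)
    (C.pH [26, 38, 54, 89, 90, 113] [21, 37, 53, 78, 104, 110, 114] (by decide +kernel) (C.pNil _ _))))))
    (C.loop_of_one (relLoop1 C) _ _)

theorem f887 : C.T (v2 C) [14, 37, 53, 73, 93, 110, 113] (v4 C) [26, 28, 60, 79, 95, 111] :=
  C.conv (f857 C) (f864 C) (f864 C) _ [143, 152, 164, 175, 178] _ (by decide +kernel) (by decide +kernel) (by decide +kernel)

theorem f888 : C.T (v2 C) [14, 47, 57, 86, 98, 110, 125] (v4 C) [10, 48, 57, 74, 104, 110, 117] :=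
  C.conv (f857 C) (f864 C) (f109 C) _ [148, 157, 168, 171] _ (by decide +kernel) (by decide +kernel) (by decide +kernel)

theorem f889 : C.T (v4 C) [10, 48, 57, 74, 104, 110, 117] (v2 C) [14, 47, 57, 86, 98, 110, 125] :=
  C.flip (f888 C)

theorem f890 : C.T (v4 C) [4, 64, 75, 101, 112] (v4 C) [8, 41, 66, 78, 106, 110, 125] :=
  C.closeT (p := (v2 C)) (pu := [14, 37, 53, 73, 93, 110, 113])
    (C.pT (f887 C)
    (C.pH [12, 35, 50, 83] [4, 64, 75, 101, 112] (by decide +kernel) (C.pNil _ _)))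
    (C.pH [12, 35, 50, 83] [10, 48, 57, 74, 104, 110, 117] (by decide +kernel)
    (C.pT (f889 C)
    (C.pH [12, 35, 50, 83] [14, 37, 53, 73, 93, 110, 113] (by decide +kernel) (C.pNil _ _))))
    (C.loop_of_one (relLoop0 C) _ _)

theorem f892 : C.S (v4 C) [17, 35, 66, 70, 95] :=
  C.stMul (f421 C) (f407 C) _ (by decide +kernel)

theorem f893 : C.S (v4 C) [13, 44, 51, 82, 106, 110, 111] :=
  C.stMul (f407 C) (f892 C) _ (by decide +kernel)

theorem f895 : C.T (v2 C) [9, 43, 59, 89, 107, 109, 112] (v2 C) [38, 51, 78, 107, 109] :=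
  C.conv (f307 C) (f311 C) (f311 C) _ [147, 163, 164] _ (by decide +kernel) (by decide +kernel) (by decide +kernel)

theorem f896 : C.T (v2 C) [8, 47, 67, 81, 94, 109, 124] (v4 C) [18, 44, 54, 81, 99, 110, 114] :=
  C.conv (f857 C) (f864 C) (f211 C) _ [128, 154, 167, 173, 178] _ (by decide +kernel) (by decide +kernel) (by decide +kernel)

theorem f897 : C.S (v2 C) [4, 46, 89, 107, 116] :=
  C.stMul (f211 C) (f101 C) _ (by decide +kernel)

theorem f898 : C.S (v2 C) [18, 44, 67, 80, 97, 121] :=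
  C.stMul (f125 C) (f897 C) _ (by decide +kernel)

theorem f899 : C.T (v2 C) [15, 48, 67, 83, 93, 121] (v4 C) [24, 28, 49, 81, 96, 112] :=
  C.conv (f857 C) (f864 C) (f898 C) _ [140, 160, 168, 173] _ (by decide +kernel) (by decide +kernel) (by decide +kernel)

theorem f900 : C.T (v4 C) [24, 28, 49, 81, 96, 112] (v2 C) [15, 48, 67, 83, 93, 121] :=
  C.flip (f899 C)

theorem f901 : C.T (v4 C) [10, 60, 87, 90, 110, 117] (v4 C) [21, 45, 49, 71, 109, 112] :=
  C.closeT (p := (v2 C)) (pu := [9, 43, 59, 89, 107, 109, 112])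
    (C.pT (f895 C)
    (C.pH [8, 30, 65, 84, 94, 117] [8, 47, 67, 81, 94, 109, 124] (by decide +kernel)
    (C.pT (f896 C)
    (C.pH [26, 38, 54, 89, 90, 113] [10, 60, 87, 90, 110, 117] (by decide +kernel) (C.pNil _ _)))))
    (C.pH [8, 30, 65, 84, 94, 117] [24, 28, 49, 81, 96, 112] (by decide +kernel)
    (C.pT (f900 C)
    (C.pH [26, 38, 54, 89, 90, 113] [9, 43, 59, 89, 107, 109, 112] (by decide +kernel) (C.pNil _ _))))
    (C.loop_of_one (relLoop1 C) _ _)

theorem f903 : C.S (v4 C) [17, 35, 66, 70, 95] :=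
  C.stMul (f421 C) (f407 C) _ (by decide +kernel)

theorem f904 : C.S (v4 C) [26, 44, 64, 94, 121] :=
  C.stMul (f693 C) (f903 C) _ (by decide +kernel)

theorem f908 : C.T (v2 C) [6, 54, 81, 102, 109, 123] (v4 C) [11, 28, 59, 78, 105, 110, 123] :=
  C.conv (f437 C) (f595 C) (f595 C) _ [128, 152, 166, 175, 178] _ (by decide +kernel) (by decide +kernel) (by decide +kernel)

theorem f909 : C.S (v2 C) [20, 48, 66, 80, 98, 121] :=
  C.stMul (f149 C) (f101 C) _ (by decide +kernel)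

theorem f910 : C.S (v2 C) [7, 34, 59, 89, 103, 109, 117] :=
  C.stMul (f243 C) (f909 C) _ (by decide +kernel)

theorem f911 : C.S (v2 C) [17, 33, 56, 85, 91, 110, 117] :=
  C.stMul (f211 C) (f910 C) _ (by decide +kernel)

theorem f912 : C.T (v2 C) [21, 29, 55, 73, 95, 120] (v4 C) [4, 32, 58, 89, 97, 109, 123] :=
  C.conv (f857 C) (f864 C) (f911 C) _ [127, 160, 168, 173, 177] _ (by decide +kernel) (by decide +kernel) (by decide +kernel)

theorem f913 : C.T (v4 C) [4, 32, 58, 89, 97, 109, 123] (v2 C) [21, 29, 55, 73, 95, 120] :=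
  C.flip (f912 C)

theorem f914 : C.T (v4 C) [18, 42, 58, 81, 104, 109] (v4 C) [15, 47, 53, 88, 90, 109, 115] :=
  C.conv (f901 C) (f697 C) (f904 C) _ [134, 163, 168, 171, 177] _ (by decide +kernel) (by decide +kernel) (by decide +kernel)

theorem f915 : C.T (v4 C) [15, 47, 53, 88, 90, 109, 115] (v4 C) [18, 42, 58, 81, 104, 109] :=
  C.flip (f914 C)

theorem f916 : C.T (v4 C) [7, 40, 67, 89, 108] (v4 C) [20, 33, 57, 76, 108, 111] :=
  C.closeT (p := (v2 C)) (pu := [6, 54, 81, 102, 109, 123])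
    (C.pT (f908 C)
    (C.pH [8, 30, 65, 84, 94, 117] [7, 40, 67, 89, 108] (by decide +kernel) (C.pNil _ _)))
    (C.pH [26, 38, 54, 89, 90, 113] [15, 47, 53, 88, 90, 109, 115] (by decide +kernel)
    (C.pT (f915 C)
    (C.pH [8, 30, 65, 84, 94, 117] [4, 32, 58, 89, 97, 109, 123] (by decide +kernel)
    (C.pT (f913 C)
    (C.pH [26, 38, 54, 89, 90, 113] [6, 54, 81, 102, 109, 123] (by decide +kernel) (C.pNil _ _))))))
    (C.loop_of_one (relLoop1 C) _ _)

theorem f918 : C.S (v4 C) [18, 46, 49, 75, 97, 110, 118] :=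
  C.stMul (f407 C) (f407 C) _ (by decide +kernel)

theorem f919 : C.S (v4 C) [16, 43, 64, 82, 90, 110, 123] :=
  C.stMul (f421 C) (f918 C) _ (by decide +kernel)

theorem f924 : C.S (v3 C) [4, 35, 66, 84, 105, 109, 115] :=
  C.stMul (f335 C) (f331 C) _ (by decide +kernel)

theorem f925 : C.S (v3 C) [17, 52, 88, 94, 110, 125] :=
  C.stMul (f331 C) (f924 C) _ (by decide +kernel)

theorem f926 : C.S (v3 C) [21, 39, 65, 74, 103, 110, 122] :=
  C.stMul (f353 C) (f925 C) _ (by decide +kernel)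

theorem f927 : C.T (v3 C) [25, 27, 55, 73, 121] (v4 C) [25, 36, 49, 78, 90, 119] :=
  C.conv (f841 C) (f926 C) (f926 C) _ [140, 169, 178] _ (by decide +kernel) (by decide +kernel) (by decide +kernel)

theorem f928 : C.S (v3 C) [19, 30, 60, 72, 107, 110, 116] :=
  C.stMul (f331 C) (f335 C) _ (by decide +kernel)

theorem f929 : C.S (v3 C) [26, 29, 49, 97, 123] :=
  C.stMul (f335 C) (f928 C) _ (by decide +kernel)

theorem f930 : C.S (v3 C) [4, 30, 49, 89, 105, 125] :=
  C.stMul (f353 C) (f929 C) _ (by decide +kernel)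

theorem f931 : C.T (v3 C) [17, 39, 62, 87, 102, 109, 111] (v4 C) [19, 28, 79, 108, 109, 118] :=
  C.conv (f841 C) (f926 C) (f930 C) _ [160, 170, 172] _ (by decide +kernel) (by decide +kernel) (by decide +kernel)

theorem f932 : C.T (v4 C) [19, 28, 79, 108, 109, 118] (v3 C) [17, 39, 62, 87, 102, 109, 111] :=
  C.flip (f931 C)

theorem f933 : C.T (v4 C) [9, 33, 69, 71, 107, 114] (v4 C) [6, 47, 52, 71, 101, 110, 118] :=
  C.closeT (p := (v3 C)) (pu := [25, 27, 55, 73, 121])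
    (C.pT (f927 C)
    (C.pH [12, 35, 50, 83] [9, 33, 69, 71, 107, 114] (by decide +kernel) (C.pNil _ _)))
    (C.pH [12, 35, 50, 83] [19, 28, 79, 108, 109, 118] (by decide +kernel)
    (C.pT (f932 C)
    (C.pH [12, 35, 50, 83] [25, 27, 55, 73, 121] (by decide +kernel) (C.pNil _ _))))
    (C.loop_of_one (relLoop0 C) _ _)

theorem f936 : C.T (v3 C) [17, 34, 55, 77, 96, 113] (v3 C) [5, 39, 65, 81, 96, 111] :=
  C.conv (f374 C) (f376 C) (f376 C) _ [144, 153, 165, 172, 178] _ (by decide +kernel) (by decide +kernel) (by decide +kernel)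

theorem f937 : C.S (v3 C) [15, 34, 56, 71, 106, 109, 117] :=
  C.stMul (f331 C) (f353 C) _ (by decide +kernel)

theorem f938 : C.S (v3 C) [16, 65, 76, 94, 125] :=
  C.stMul (f335 C) (f937 C) _ (by decide +kernel)

theorem f939 : C.S (v3 C) [4, 35, 66, 84, 105, 109, 115] :=
  C.stMul (f335 C) (f331 C) _ (by decide +kernel)

theorem f940 : C.S (v3 C) [16, 36, 62, 79, 96, 109, 125] :=
  C.stMul (f353 C) (f939 C) _ (by decide +kernel)

theorem f941 : C.T (v3 C) [12, 37, 67, 78, 105, 122] (v4 C) [25, 68, 80, 106, 109, 121] :=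
  C.conv (f808 C) (f938 C) (f940 C) _ [132, 162, 175] _ (by decide +kernel) (by decide +kernel) (by decide +kernel)

theorem f942 : C.S (v3 C) [6, 43, 52, 78, 106, 118] :=
  C.stMul (f328 C) (f939 C) _ (by decide +kernel)

theorem f943 : C.T (v3 C) [19, 33, 80, 97, 119] (v4 C) [13, 48, 60, 83, 100, 109, 118] :=
  C.conv (f808 C) (f938 C) (f942 C) _ [128, 154, 172] _ (by decide +kernel) (by decide +kernel) (by decide +kernel)

theorem f944 : C.T (v4 C) [13, 48, 60, 83, 100, 109, 118] (v3 C) [19, 33, 80, 97, 119] :=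
  C.flip (f943 C)

theorem f945 : C.T (v4 C) [18, 48, 84, 108, 119] (v4 C) [6, 27, 51, 88, 100, 114] :=
  C.closeT (p := (v3 C)) (pu := [17, 34, 55, 77, 96, 113])
    (C.pT (f936 C)
    (C.pH [8, 30, 65, 84, 94, 117] [12, 37, 67, 78, 105, 122] (by decide +kernel)
    (C.pT (f941 C)
    (C.pH [26, 38, 54, 89, 90, 113] [18, 48, 84, 108, 119] (by decide +kernel) (C.pNil _ _)))))
    (C.pH [8, 30, 65, 84, 94, 117] [13, 48, 60, 83, 100, 109, 118] (by decide +kernel)
    (C.pT (f944 C)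
    (C.pH [26, 38, 54, 89, 90, 113] [17, 34, 55, 77, 96, 113] (by decide +kernel) (C.pNil _ _))))
    (C.loop_of_one (relLoop1 C) _ _)

theorem f948 : C.T (v3 C) [16, 37, 60, 72, 100, 109, 113] (v3 C) [17, 43, 55, 84, 92, 110, 112] :=
  C.conv (f374 C) (f376 C) (f376 C) _ [158, 166, 174] _ (by decide +kernel) (by decide +kernel) (by decide +kernel)

theorem f949 : C.S (v3 C) [13, 29, 60, 92, 109, 121] :=
  C.stMul (f353 C) (f328 C) _ (by decide +kernel)

theorem f950 : C.S (v3 C) [8, 48, 63, 86, 90, 110, 123] :=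
  C.stMul (f331 C) (f949 C) _ (by decide +kernel)

theorem f951 : C.T (v3 C) [22, 45, 50, 89, 103, 110, 116] (v4 C) [4, 43, 66, 83, 102, 110, 114] :=
  C.conv (f808 C) (f938 C) (f950 C) _ [146, 167, 176, 178] _ (by decide +kernel) (by decide +kernel) (by decide +kernel)

theorem f952 : C.S (v3 C) [5, 33, 52, 77, 103, 122] :=
  C.stMul (f335 C) (f940 C) _ (by decide +kernel)

theorem f953 : C.T (v3 C) [26, 45, 61, 84, 108, 116] (v4 C) [21, 47, 57, 79, 104] :=
  C.conv (f808 C) (f938 C) (f952 C) _ [131, 171] _ (by decide +kernel) (by decide +kernel) (by decide +kernel)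

theorem f954 : C.T (v4 C) [21, 47, 57, 79, 104] (v3 C) [26, 45, 61, 84, 108, 116] :=
  C.flip (f953 C)

theorem f955 : C.T (v4 C) [25, 41, 58, 74, 105, 109, 113] (v4 C) [12, 47, 57, 88, 106, 109, 125] :=
  C.closeT (p := (v3 C)) (pu := [16, 37, 60, 72, 100, 109, 113])
    (C.pT (f948 C)
    (C.pH [8, 30, 65, 84, 94, 117] [22, 45, 50, 89, 103, 110, 116] (by decide +kernel)
    (C.pT (f951 C)
    (C.pH [26, 38, 54, 89, 90, 113] [25, 41, 58, 74, 105, 109, 113] (by decide +kernel) (C.pNil _ _)))))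
    (C.pH [8, 30, 65, 84, 94, 117] [21, 47, 57, 79, 104] (by decide +kernel)
    (C.pT (f954 C)
    (C.pH [26, 38, 54, 89, 90, 113] [16, 37, 60, 72, 100, 109, 113] (by decide +kernel) (C.pNil _ _))))
    (C.loop_of_one (relLoop1 C) _ _)

theorem f957 : C.S (v4 C) [23, 41, 49, 78, 91, 109] :=
  C.stMul (f693 C) (f421 C) _ (by decide +kernel)

theorem f959 : C.T (v4 C) [40, 60, 80, 93, 109, 117] (v4 C) [8, 41, 69, 73, 98, 110] :=
  C.conv (f751 C) (f753 C) (f753 C) _ [133, 156, 169, 176, 177] _ (by decide +kernel) (by decide +kernel) (by decide +kernel)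

theorem f960 : C.S (v4 C) [13, 28, 60, 83, 108, 110, 119] :=
  C.stMul (f421 C) (f693 C) _ (by decide +kernel)

theorem f961 : C.S (v4 C) [17, 45, 53, 80, 99, 109, 123] :=
  C.stMul (f407 C) (f960 C) _ (by decide +kernel)

theorem f962 : C.T (v4 C) [23, 42, 63, 85, 105, 124] (v4 C) [23, 39, 68, 76, 93, 119] :=
  C.conv (f916 C) (f919 C) (f961 C) _ [140, 152, 170, 178] _ (by decide +kernel) (by decide +kernel) (by decide +kernel)

theorem f963 : C.T (v4 C) [23, 39, 68, 76, 93, 119] (v4 C) [23, 42, 63, 85, 105, 124] :=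
  C.flip (f962 C)

theorem f964 : C.T (v4 C) [10, 48, 59, 82, 104, 110, 111] (v4 C) [12, 27, 59, 89, 96, 109, 116] :=
  C.closeT (p := (v4 C)) (pu := [40, 60, 80, 93, 109, 117])
    (C.pT (f959 C)
    (C.pH [12, 35, 50, 83] [10, 48, 59, 82, 104, 110, 111] (by decide +kernel) (C.pNil _ _)))
    (C.pH [12, 35, 50, 83] [23, 39, 68, 76, 93, 119] (by decide +kernel)
    (C.pT (f963 C)
    (C.pH [12, 35, 50, 83] [40, 60, 80, 93, 109, 117] (by decide +kernel) (C.pNil _ _))))
    (C.loop_of_one (relLoop0 C) _ _)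

theorem f968 : C.T (v4 C) [12, 61, 82, 108, 110, 115] (v4 C) [21, 28, 61, 81, 102, 118] :=
  C.conv (f868 C) (f421 C) (f421 C) _ [148, 162, 167, 174] _ (by decide +kernel) (by decide +kernel) (by decide +kernel)

theorem f969 : C.S (v4 C) [10, 27, 56, 84, 93, 109, 113] :=
  C.stMul (f407 C) (f421 C) _ (by decide +kernel)

theorem f970 : C.T (v4 C) [8, 39, 60, 101, 112] (v4 C) [25, 34, 54, 84, 108, 110, 115] :=
  C.conv (f964 C) (f693 C) (f969 C) _ [143, 156, 165, 174, 178] _ (by decide +kernel) (by decide +kernel) (by decide +kernel)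

theorem f971 : C.T (v4 C) [9, 29, 79, 101, 109, 117] (v4 C) [47, 62, 74, 101, 116] :=
  C.closeT (p := (v4 C)) (pu := [12, 61, 82, 108, 110, 115])
    (C.pT (f968 C)
    (C.pH [12, 35, 50, 83] [8, 39, 60, 101, 112] (by decide +kernel)
    (C.pT (f970 C)
    (C.pH [12, 35, 50, 83] [9, 29, 79, 101, 109, 117] (by decide +kernel) (C.pNil _ _)))))
    (C.pH [12, 35, 50, 83] [12, 61, 82, 108, 110, 115] (by decide +kernel) (C.pNil _ _))
    (C.loop_of_one (relLoop0 C) _ _)

theorem f972 : C.T (v4 C) [47, 62, 74, 101, 116] (v4 C) [9, 29, 79, 101, 109, 117] :=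
  C.flip (f971 C)

theorem f973 : C.T (v4 C) [20, 47, 61, 77, 93, 109, 113] (v4 C) [8, 38, 69, 77, 104, 110, 122] :=
  C.conv (f868 C) (f421 C) (f421 C) _ [146, 159, 167, 175] _ (by decide +kernel) (by decide +kernel) (by decide +kernel)

theorem f974 : C.S (v4 C) [10, 27, 56, 84, 93, 109, 113] :=
  C.stMul (f407 C) (f421 C) _ (by decide +kernel)

theorem f975 : C.T (v4 C) [10, 34, 53, 73, 97, 110, 125] (v4 C) [11, 65, 76, 97, 123] :=
  C.conv (f971 C) (f974 C) (f407 C) _ [133, 158, 164, 175, 177] _ (by decide +kernel) (by decide +kernel) (by decide +kernel)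

theorem f976 : C.T (v4 C) [20, 42, 59, 87, 96, 109, 125] (v4 C) [11, 39, 52, 78, 106, 109, 111] :=
  C.closeT (p := (v4 C)) (pu := [20, 47, 61, 77, 93, 109, 113])
    (C.pT (f973 C)
    (C.pH [12, 35, 50, 83] [10, 34, 53, 73, 97, 110, 125] (by decide +kernel)
    (C.pT (f975 C)
    (C.pH [12, 35, 50, 83] [20, 42, 59, 87, 96, 109, 125] (by decide +kernel) (C.pNil _ _)))))
    (C.pH [12, 35, 50, 83] [20, 47, 61, 77, 93, 109, 113] (by decide +kernel) (C.pNil _ _))
    (C.loop_of_one (relLoop0 C) _ _)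

theorem f978 : C.S (v4 C) [17, 35, 66, 70, 95] :=
  C.stMul (f421 C) (f407 C) _ (by decide +kernel)

theorem f982 : C.T (v2 C) [18, 44] (v5 C) [] :=
  C.defn _ _

theorem f983 : C.S (v2 C) [18, 29, 62, 80, 99, 125] :=
  C.stMul (f115 C) (f109 C) _ (by decide +kernel)

theorem f984 : C.S (v2 C) [13, 42, 53, 88, 102, 120] :=
  C.stInv (f243 C) _ (by decide +kernel)

theorem f985 : C.S (v2 C) [12, 30, 52, 82, 93, 109, 120] :=
  C.stMul (f984 C) (f983 C) _ (by decide +kernel)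

theorem f986 : C.S (v5 C) [9, 29, 68, 75, 108, 110, 124] :=
  C.transfer (f982 C) (f985 C) [131, 155, 167, 171, 178] _ (by decide +kernel) (by decide +kernel) (by decide +kernel)

theorem f988 : C.T (v1 C) [7, 31, 53, 86, 96, 118] (v2 C) [12, 44, 64, 73, 105, 109, 115] :=
  C.conv (f96 C) (f152 C) (f152 C) _ [134, 155, 170, 176] _ (by decide +kernel) (by decide +kernel) (by decide +kernel)

theorem f989 : C.S (v2 C) [20, 50, 86, 101, 109, 117] :=
  C.stMul (f115 C) (f211 C) _ (by decide +kernel)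

theorem f990 : C.S (v2 C) [10, 47, 56, 71, 92, 109, 123] :=
  C.stMul (f211 C) (f989 C) _ (by decide +kernel)

theorem f991 : C.S (v2 C) [6, 46, 64, 74, 104, 110, 118] :=
  C.stMul (f211 C) (f990 C) _ (by decide +kernel)

theorem f992 : C.T (v2 C) [21, 32, 57, 85, 111] (v5 C) [18, 34, 60, 87, 91, 122] :=
  C.conv (f982 C) (f323 C) (f991 C) _ [140, 159, 167, 172] _ (by decide +kernel) (by decide +kernel) (by decide +kernel)

theorem f993 : C.S (v1 C) [16, 54, 81, 125] :=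
  C.stMul (f27 C) (f758 C) _ (by decide +kernel)

theorem f994 : C.S (v1 C) [14, 54, 81, 125] :=
  C.stMul (f3 C) (f993 C) _ (by decide +kernel)

theorem f995 : C.S (v1 C) [22, 38, 49, 72, 97, 115] :=
  C.stMul (f27 C) (f994 C) _ (by decide +kernel)

theorem f996 : C.S (v1 C) [4, 38, 49, 72, 97, 115] :=
  C.stMul (f3 C) (f995 C) _ (by decide +kernel)

theorem f997 : C.S (v1 C) [24, 29, 69, 83, 104, 109, 114] :=
  C.stMul (f12 C) (f996 C) _ (by decide +kernel)

theorem f998 : C.S (v1 C) [7, 29, 69, 83, 104, 109, 114] :=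
  C.stMul (f3 C) (f997 C) _ (by decide +kernel)

theorem f999 : C.S (v1 C) [16, 43, 65, 86, 90, 125] :=
  C.stMul (f27 C) (f998 C) _ (by decide +kernel)

theorem f1000 : C.S (v1 C) [7, 31, 65, 86, 90, 125] :=
  C.stMul (f27 C) (f999 C) _ (by decide +kernel)

theorem f1001 : C.T (v1 C) [23, 45, 58, 82, 96, 110, 118] (v4 C) [16, 48, 65, 85, 97, 112] :=
  C.conv (f399 C) (f152 C) (f1000 C) _ [138, 157, 169, 174, 178] _ (by decide +kernel) (by decide +kernel) (by decide +kernel)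

theorem f1002 : C.T (v4 C) [16, 48, 65, 85, 97, 112] (v1 C) [23, 45, 58, 82, 96, 110, 118] :=
  C.flip (f1001 C)

theorem f1003 : C.T (v5 C) [10, 44, 61, 71, 100, 110, 112] (v4 C) [24, 35, 49, 80, 100, 110, 123] :=
  C.closeT (p := (v1 C)) (pu := [7, 31, 53, 86, 96, 118])
    (C.pT (f988 C)
    (C.pH [8, 30, 65, 84, 94, 117] [21, 32, 57, 85, 111] (by decide +kernel)
    (C.pT (f992 C)
    (C.pH [26, 38, 54, 89, 90, 113] [10, 44, 61, 71, 100, 110, 112] (by decide +kernel) (C.pNil _ _)))))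
    (C.pH [8, 30, 65, 84, 94, 117] [16, 48, 65, 85, 97, 112] (by decide +kernel)
    (C.pT (f1002 C)
    (C.pH [26, 38, 54, 89, 90, 113] [7, 31, 53, 86, 96, 118] (by decide +kernel) (C.pNil _ _))))
    (C.loop_of_one (relLoop1 C) _ _)

theorem f1004 : C.T (v4 C) [24, 35, 49, 80, 100, 110, 123] (v5 C) [10, 44, 61, 71, 100, 110, 112] :=
  C.flip (f1003 C)

theorem f1005 : C.S (v4 C) [8, 31, 60, 85, 98, 110, 125] :=
  C.stMul (f693 C) (f407 C) _ (by decide +kernel)

theorem f1006 : C.S (v4 C) [8, 38, 58, 78, 99, 110, 116] :=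
  C.stInv (f421 C) _ (by decide +kernel)

theorem f1007 : C.S (v4 C) [42, 63, 82, 91, 110, 125] :=
  C.stMul (f1006 C) (f1005 C) _ (by decide +kernel)

theorem f1008 : C.S (v5 C) [41, 51, 74, 97, 118] :=
  C.transfer (f1004 C) (f1007 C) [152, 167, 176, 177] _ (by decide +kernel) (by decide +kernel) (by decide +kernel)

theorem f1010 : C.T (v1 C) [15, 28, 50, 89, 96, 110, 116] (v2 C) [14, 32, 64, 74, 101, 109, 121] :=
  C.conv (f96 C) (f152 C) (f152 C) _ [136, 162, 168, 176] _ (by decide +kernel) (by decide +kernel) (by decide +kernel)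

theorem f1011 : C.S (v2 C) [18, 29, 52, 78, 97, 114] :=
  C.stMul (f125 C) (f109 C) _ (by decide +kernel)

theorem f1012 : C.T (v2 C) [5, 28, 50, 104, 109, 124] (v5 C) [20, 33, 84, 100, 109, 113] :=
  C.conv (f982 C) (f323 C) (f1011 C) _ [142, 166] _ (by decide +kernel) (by decide +kernel) (by decide +kernel)

theorem f1013 : C.S (v1 C) [8, 30, 59, 89, 90, 110, 124] :=
  C.stMul (f27 C) (f266 C) _ (by decide +kernel)

theorem f1014 : C.T (v1 C) [20, 38, 64, 77, 96, 125] (v2 C) [6, 34, 61, 80, 94, 110, 112] :=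
  C.conv (f96 C) (f152 C) (f1013 C) _ [128, 162, 164, 172] _ (by decide +kernel) (by decide +kernel) (by decide +kernel)

theorem f1015 : C.T (v2 C) [6, 34, 61, 80, 94, 110, 112] (v1 C) [20, 38, 64, 77, 96, 125] :=
  C.flip (f1014 C)

theorem f1016 : C.T (v5 C) [15, 47, 59, 78, 109, 111] (v2 C) [22, 36, 63, 84, 105, 117] :=
  C.closeT (p := (v1 C)) (pu := [15, 28, 50, 89, 96, 110, 116])
    (C.pT (f1010 C)
    (C.pH [8, 30, 65, 84, 94, 117] [5, 28, 50, 104, 109, 124] (by decide +kernel)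
    (C.pT (f1012 C)
    (C.pH [26, 38, 54, 89, 90, 113] [15, 47, 59, 78, 109, 111] (by decide +kernel) (C.pNil _ _)))))
    (C.pH [8, 30, 65, 84, 94, 117] [6, 34, 61, 80, 94, 110, 112] (by decide +kernel)
    (C.pT (f1015 C)
    (C.pH [26, 38, 54, 89, 90, 113] [15, 28, 50, 89, 96, 110, 116] (by decide +kernel) (C.pNil _ _))))
    (C.loop_of_one (relLoop1 C) _ _)

theorem f1017 : C.T (v2 C) [22, 36, 63, 84, 105, 117] (v5 C) [15, 47, 59, 78, 109, 111] :=
  C.flip (f1016 C)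

theorem f1018 : C.S (v2 C) [23, 43, 68, 74, 104, 110, 114] :=
  C.stMul (f125 C) (f138 C) _ (by decide +kernel)

theorem f1019 : C.S (v2 C) [21, 36, 66, 83, 107, 111] :=
  C.stMul (f243 C) (f1018 C) _ (by decide +kernel)

theorem f1020 : C.S (v2 C) [8, 46, 64, 84, 102, 109, 123] :=
  C.stMul (f211 C) (f1019 C) _ (by decide +kernel)

theorem f1021 : C.T (v2 C) [22, 36, 63, 84, 105, 117] (v5 C) [19, 45, 51, 80, 106, 110, 114] :=
  C.conv (f982 C) (f323 C) (f1020 C) _ [141, 156, 173, 177] _ (by decide +kernel) (by decide +kernel) (by decide +kernel)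

theorem f1022 : C.E (v5 C) [19, 45, 51, 80, 106, 110, 114] (v5 C) [15, 47, 59, 78, 109, 111] :=
  C.sameSrc (f1021 C) (f1017 C)

theorem f1023 : C.S (v5 C) [20, 32, 52, 74, 93, 125] :=
  C.stEq (f1022 C) _ (by decide +kernel)

theorem f1031 : C.T (v1 C) [22, 34, 61, 88, 101, 114] (v4 C) [7, 32, 54, 86, 96, 109, 117] :=
  C.conv (f399 C) (f152 C) (f152 C) _ [129, 155, 169, 177] _ (by decide +kernel) (by decide +kernel) (by decide +kernel)

theorem f1032 : C.S (v4 C) [13, 28, 60, 83, 108, 110, 119] :=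
  C.stMul (f421 C) (f693 C) _ (by decide +kernel)

theorem f1033 : C.T (v4 C) [17, 31, 66, 73, 101, 122] (v5 C) [11, 41, 72, 100, 110, 118] :=
  C.conv (f1004 C) (f1032 C) (f421 C) _ [138, 159, 167, 173, 177] _ (by decide +kernel) (by decide +kernel) (by decide +kernel)

theorem f1034 : C.S (v1 C) [15, 41, 53, 71, 95, 121] :=
  C.stMul (f12 C) (f455 C) _ (by decide +kernel)

theorem f1035 : C.S (v1 C) [23, 40, 58, 80, 95, 112] :=
  C.stMul (f27 C) (f1034 C) _ (by decide +kernel)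

theorem f1036 : C.S (v1 C) [15, 39, 51, 78, 107, 109, 125] :=
  C.stMul (f27 C) (f1035 C) _ (by decide +kernel)

theorem f1037 : C.S (v1 C) [23, 59, 87, 95, 110, 122] :=
  C.stMul (f27 C) (f1036 C) _ (by decide +kernel)

theorem f1038 : C.S (v1 C) [21, 59, 87, 95, 110, 122] :=
  C.stMul (f3 C) (f1037 C) _ (by decide +kernel)

theorem f1039 : C.S (v1 C) [9, 43, 50, 85, 93, 120] :=
  C.stMul (f12 C) (f1038 C) _ (by decide +kernel)

theorem f1040 : C.S (v1 C) [20, 43, 50, 85, 93, 120] :=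
  C.stMul (f3 C) (f1039 C) _ (by decide +kernel)

theorem f1041 : C.T (v1 C) [9, 42, 54, 70, 106, 110, 121] (v4 C) [8, 44, 58, 88, 103, 109, 111] :=
  C.conv (f399 C) (f152 C) (f1040 C) _ [130, 169, 173, 178] _ (by decide +kernel) (by decide +kernel) (by decide +kernel)

theorem f1042 : C.T (v4 C) [8, 44, 58, 88, 103, 109, 111] (v1 C) [9, 42, 54, 70, 106, 110, 121] :=
  C.flip (f1041 C)

theorem f1043 : C.T (v5 C) [24, 28, 57, 72, 105, 116] (v4 C) [33, 49, 79, 92, 118] :=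
  C.closeT (p := (v1 C)) (pu := [22, 34, 61, 88, 101, 114])
    (C.pT (f1031 C)
    (C.pH [8, 30, 65, 84, 94, 117] [17, 31, 66, 73, 101, 122] (by decide +kernel)
    (C.pT (f1033 C)
    (C.pH [26, 38, 54, 89, 90, 113] [24, 28, 57, 72, 105, 116] (by decide +kernel) (C.pNil _ _)))))
    (C.pH [8, 30, 65, 84, 94, 117] [8, 44, 58, 88, 103, 109, 111] (by decide +kernel)
    (C.pT (f1042 C)
    (C.pH [26, 38, 54, 89, 90, 113] [22, 34, 61, 88, 101, 114] (by decide +kernel) (C.pNil _ _))))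
    (C.loop_of_one (relLoop1 C) _ _)

theorem f1044 : C.T (v4 C) [33, 49, 79, 92, 118] (v5 C) [24, 28, 57, 72, 105, 116] :=
  C.flip (f1043 C)

theorem f1045 : C.T (v2 C) [12, 42, 69, 70, 107, 109, 116] (v3 C) [14, 45, 59, 70, 95, 112] :=
  C.conv (f817 C) (f837 C) (f837 C) _ [156, 169, 176] _ (by decide +kernel) (by decide +kernel) (by decide +kernel)

theorem f1046 : C.T (v2 C) [33, 49, 86, 104, 118] (v5 C) [6, 28, 59, 87, 107, 109, 118] :=
  C.conv (f982 C) (f323 C) (f1020 C) _ [128, 158, 169, 172] _ (by decide +kernel) (by decide +kernel) (by decide +kernel)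

theorem f1047 : C.T (v5 C) [6, 28, 59, 87, 107, 109, 118] (v2 C) [33, 49, 86, 104, 118] :=
  C.flip (f1046 C)

theorem f1048 : C.T (v3 C) [14, 48, 62, 82, 100, 124] (v5 C) [24, 28, 49, 86, 96, 113] :=
  C.closeT (p := (v2 C)) (pu := [12, 42, 69, 70, 107, 109, 116])
    (C.pT (f1045 C)
    (C.pH [12, 35, 50, 83] [14, 48, 62, 82, 100, 124] (by decide +kernel) (C.pNil _ _)))
    (C.pH [12, 35, 50, 83] [6, 28, 59, 87, 107, 109, 118] (by decide +kernel)
    (C.pT (f1047 C)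
    (C.pH [12, 35, 50, 83] [12, 42, 69, 70, 107, 109, 116] (by decide +kernel) (C.pNil _ _))))
    (C.loop_of_one (relLoop0 C) _ _)

theorem f1049 : C.T (v5 C) [24, 28, 49, 86, 96, 113] (v3 C) [14, 48, 62, 82, 100, 124] :=
  C.flip (f1048 C)

theorem f1051 : C.S (v2 C) [20, 48, 51, 81, 90, 116] :=
  C.stMul (f115 C) (f101 C) _ (by decide +kernel)

theorem f1060 : C.T (v2 C) [7, 44, 65, 88, 102, 109, 111] (v2 C) [58, 109, 116] :=
  C.conv (f269 C) (f271 C) (f271 C) _ [139, 149, 165, 174, 178] _ (by decide +kernel) (by decide +kernel) (by decide +kernel)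

theorem f1061 : C.S (v2 C) [24, 37, 68, 82, 104, 109] :=
  C.stMul (f243 C) (f149 C) _ (by decide +kernel)

theorem f1062 : C.S (v2 C) [22, 36, 54, 85, 101, 121] :=
  C.stMul (f149 C) (f1061 C) _ (by decide +kernel)

theorem f1063 : C.T (v2 C) [26, 38, 50, 86, 108, 110, 115] (v5 C) [21, 37, 56, 74, 100, 109, 118] :=
  C.conv (f982 C) (f323 C) (f1062 C) _ [143, 154, 164, 171] _ (by decide +kernel) (by decide +kernel) (by decide +kernel)

theorem f1064 : C.S (v2 C) [18, 44, 61, 70, 105, 112] :=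
  C.stMul (f211 C) (f109 C) _ (by decide +kernel)

theorem f1065 : C.S (v2 C) [62, 79, 107, 109, 125] :=
  C.stMul (f211 C) (f1064 C) _ (by decide +kernel)

theorem f1066 : C.T (v2 C) [11, 45, 66, 82, 117] (v5 C) [12, 40, 61, 75, 112] :=
  C.conv (f982 C) (f323 C) (f1065 C) _ [134, 154, 165, 178] _ (by decide +kernel) (by decide +kernel) (by decide +kernel)

theorem f1067 : C.T (v5 C) [12, 40, 61, 75, 112] (v2 C) [11, 45, 66, 82, 117] :=
  C.flip (f1066 C)

theorem f1068 : C.T (v5 C) [24, 44, 72, 99, 115] (v5 C) [24, 45, 86, 106, 109, 117] :=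
  C.closeT (p := (v2 C)) (pu := [7, 44, 65, 88, 102, 109, 111])
    (C.pT (f1060 C)
    (C.pH [26, 38, 54, 89, 90, 113] [26, 38, 50, 86, 108, 110, 115] (by decide +kernel)
    (C.pT (f1063 C)
    (C.pH [8, 30, 65, 84, 94, 117] [24, 44, 72, 99, 115] (by decide +kernel) (C.pNil _ _)))))
    (C.pH [26, 38, 54, 89, 90, 113] [12, 40, 61, 75, 112] (by decide +kernel)
    (C.pT (f1067 C)
    (C.pH [8, 30, 65, 84, 94, 117] [7, 44, 65, 88, 102, 109, 111] (by decide +kernel) (C.pNil _ _))))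
    (C.loop_of_one (relLoop2 C) _ _)

theorem f1071 : C.T (v2 C) [20, 33, 69, 74, 97, 109, 114] (v2 C) [21, 45, 63, 89, 106, 110, 122] :=
  C.conv (f307 C) (f311 C) (f311 C) _ [144, 149, 164, 177] _ (by decide +kernel) (by decide +kernel) (by decide +kernel)

theorem f1072 : C.T (v2 C) [6, 35, 49, 75, 94, 110, 116] (v5 C) [26, 42, 56, 86, 94, 109, 117] :=
  C.conv (f982 C) (f323 C) (f149 C) _ [148, 155, 169, 177] _ (by decide +kernel) (by decide +kernel) (by decide +kernel)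

theorem f1073 : C.S (v2 C) [4, 46, 89, 107, 116] :=
  C.stMul (f211 C) (f101 C) _ (by decide +kernel)

theorem f1074 : C.S (v2 C) [18, 44, 67, 80, 97, 121] :=
  C.stMul (f125 C) (f1073 C) _ (by decide +kernel)

theorem f1075 : C.S (v2 C) [25, 42, 55, 84, 103, 109, 123] :=
  C.stMul (f243 C) (f1074 C) _ (by decide +kernel)

theorem f1076 : C.S (v2 C) [11, 46, 55, 71, 106, 124] :=
  C.stMul (f149 C) (f1075 C) _ (by decide +kernel)

theorem f1077 : C.T (v2 C) [16, 42, 67, 74, 106, 123] (v5 C) [11, 30, 69, 84, 91, 109, 111] :=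
  C.conv (f982 C) (f323 C) (f1076 C) _ [133, 156, 168, 172, 177] _ (by decide +kernel) (by decide +kernel) (by decide +kernel)

theorem f1078 : C.T (v5 C) [11, 30, 69, 84, 91, 109, 111] (v2 C) [16, 42, 67, 74, 106, 123] :=
  C.flip (f1077 C)

theorem f1079 : C.T (v5 C) [14, 33, 56, 70, 98, 110, 112] (v5 C) [8, 32, 83, 102, 122] :=
  C.closeT (p := (v2 C)) (pu := [20, 33, 69, 74, 97, 109, 114])
    (C.pT (f1071 C)
    (C.pH [26, 38, 54, 89, 90, 113] [6, 35, 49, 75, 94, 110, 116] (by decide +kernel)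
    (C.pT (f1072 C)
    (C.pH [8, 30, 65, 84, 94, 117] [14, 33, 56, 70, 98, 110, 112] (by decide +kernel) (C.pNil _ _)))))
    (C.pH [26, 38, 54, 89, 90, 113] [11, 30, 69, 84, 91, 109, 111] (by decide +kernel)
    (C.pT (f1078 C)
    (C.pH [8, 30, 65, 84, 94, 117] [20, 33, 69, 74, 97, 109, 114] (by decide +kernel) (C.pNil _ _))))
    (C.loop_of_one (relLoop2 C) _ _)

theorem f1090 : C.T (v2 C) [10, 37, 69, 72, 92, 109, 111] (v3 C) [19, 35, 55, 80, 105, 111] :=
  C.conv (f347 C) (f356 C) (f356 C) _ [127, 160, 167, 171] _ (by decide +kernel) (by decide +kernel) (by decide +kernel)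

theorem f1091 : C.S (v3 C) [23, 29, 57, 87, 91, 110, 120] :=
  C.stMul (f331 C) (f328 C) _ (by decide +kernel)

theorem f1092 : C.S (v3 C) [21, 45, 66, 81, 102, 110] :=
  C.stMul (f335 C) (f1091 C) _ (by decide +kernel)

theorem f1093 : C.S (v3 C) [14, 36, 68, 75, 101, 109, 114] :=
  C.stMul (f353 C) (f1092 C) _ (by decide +kernel)

theorem f1094 : C.S (v3 C) [25, 30, 54, 78, 106, 110, 122] :=
  C.stMul (f328 C) (f1092 C) _ (by decide +kernel)

theorem f1095 : C.T (v3 C) [17, 30, 50, 77, 102, 110, 124] (v5 C) [21, 37, 59, 86, 104, 123] :=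
  C.conv (f1048 C) (f1093 C) (f1094 C) _ [133, 170, 173, 178] _ (by decide +kernel) (by decide +kernel) (by decide +kernel)

theorem f1096 : C.S (v2 C) [4, 48, 69, 79, 94, 109, 124] :=
  C.stMul (f211 C) (f211 C) _ (by decide +kernel)

theorem f1097 : C.S (v2 C) [18, 44, 66, 78, 93, 113] :=
  C.stMul (f211 C) (f1096 C) _ (by decide +kernel)

theorem f1098 : C.S (v2 C) [4, 46, 53, 83, 92, 112] :=
  C.stMul (f115 C) (f1097 C) _ (by decide +kernel)

theorem f1099 : C.T (v2 C) [23, 34, 69, 79, 107, 125] (v5 C) [12, 46, 68, 81, 98, 110, 125] :=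
  C.conv (f982 C) (f323 C) (f1098 C) _ [134, 160, 170, 178] _ (by decide +kernel) (by decide +kernel) (by decide +kernel)

theorem f1100 : C.T (v5 C) [12, 46, 68, 81, 98, 110, 125] (v2 C) [23, 34, 69, 79, 107, 125] :=
  C.flip (f1099 C)

theorem f1101 : C.T (v5 C) [24, 44, 51, 72, 105, 109, 111] (v5 C) [24, 29, 68, 85, 96, 114] :=
  C.closeT (p := (v2 C)) (pu := [10, 37, 69, 72, 92, 109, 111])
    (C.pT (f1090 C)
    (C.pH [26, 38, 54, 89, 90, 113] [17, 30, 50, 77, 102, 110, 124] (by decide +kernel)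
    (C.pT (f1095 C)
    (C.pH [8, 30, 65, 84, 94, 117] [24, 44, 51, 72, 105, 109, 111] (by decide +kernel) (C.pNil _ _)))))
    (C.pH [26, 38, 54, 89, 90, 113] [12, 46, 68, 81, 98, 110, 125] (by decide +kernel)
    (C.pT (f1100 C)
    (C.pH [8, 30, 65, 84, 94, 117] [10, 37, 69, 72, 92, 109, 111] (by decide +kernel) (C.pNil _ _))))
    (C.loop_of_one (relLoop2 C) _ _)

theorem f1104 : C.T (v2 C) [20, 34, 51, 75, 93, 110, 115] (v4 C) [4, 39, 65, 79, 90, 110, 124] :=
  C.conv (f437 C) (f595 C) (f595 C) _ [142, 152, 168, 175, 178] _ (by decide +kernel) (by decide +kernel) (by decide +kernel)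

theorem f1105 : C.T (v4 C) [25, 27, 73, 97, 117] (v4 C) [25, 61, 71, 97, 110, 117] :=
  C.conv (f916 C) (f919 C) (f961 C) _ [126, 159, 166, 172] _ (by decide +kernel) (by decide +kernel) (by decide +kernel)

theorem f1106 : C.T (v2 C) [16, 38, 68, 97, 110, 124] (v5 C) [15, 38, 58, 83, 113] :=
  C.conv (f982 C) (f323 C) (f1065 C) _ [137, 159, 168, 176] _ (by decide +kernel) (by decide +kernel) (by decide +kernel)

theorem f1107 : C.T (v5 C) [15, 38, 58, 83, 113] (v2 C) [16, 38, 68, 97, 110, 124] :=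
  C.flip (f1106 C)

theorem f1108 : C.T (v4 C) [9, 47, 50, 86, 102, 110, 119] (v5 C) [20, 30, 54, 103, 109, 112] :=
  C.closeT (p := (v2 C)) (pu := [20, 34, 51, 75, 93, 110, 115])
    (C.pT (f1104 C)
    (C.pH [26, 38, 54, 89, 90, 113] [25, 27, 73, 97, 117] (by decide +kernel)
    (C.pT (f1105 C)
    (C.pH [8, 30, 65, 84, 94, 117] [9, 47, 50, 86, 102, 110, 119] (by decide +kernel) (C.pNil _ _)))))
    (C.pH [26, 38, 54, 89, 90, 113] [15, 38, 58, 83, 113] (by decide +kernel)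
    (C.pT (f1107 C)
    (C.pH [8, 30, 65, 84, 94, 117] [20, 34, 51, 75, 93, 110, 115] (by decide +kernel) (C.pNil _ _))))
    (C.loop_of_one (relLoop2 C) _ _)

theorem f1110 : C.T (v3 C) [26, 27, 64, 76, 95, 118] (v5 C) [18, 33, 56, 76, 91, 109, 111] :=
  C.conv (f1048 C) (f1093 C) (f1093 C) _ [135, 162, 165, 173] _ (by decide +kernel) (by decide +kernel) (by decide +kernel)

theorem f1111 : C.S (v3 C) [15, 34, 56, 71, 106, 109, 117] :=
  C.stMul (f331 C) (f353 C) _ (by decide +kernel)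

theorem f1112 : C.T (v3 C) [31, 60, 78, 90, 110, 121] (v2 C) [6, 33, 64, 75, 99, 118] :=
  C.conv (f346 C) (f391 C) (f1111 C) _ [134, 159, 167, 175, 177] _ (by decide +kernel) (by decide +kernel) (by decide +kernel)

theorem f1113 : C.T (v2 C) [6, 33, 64, 75, 99, 118] (v3 C) [31, 60, 78, 90, 110, 121] :=
  C.flip (f1112 C)

theorem f1114 : C.T (v2 C) [22, 41, 57, 106, 109, 114] (v5 C) [18, 44, 52, 73, 92, 109, 116] :=
  C.conv (f982 C) (f323 C) (f1073 C) _ [140, 151, 166, 173, 178] _ (by decide +kernel) (by decide +kernel) (by decide +kernel)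

end CfsgLib.J4Index
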