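import Cfsg.Agent.Lib.J4Index.Facts0

/-!
# Derived equations (generated)
-/

set_option autoImplicit false
set_option maxRecDepth 100000
set_option linter.style.longLine false

namespace CfsgLib.J4Index

variable {G X : Type} [Group G] [MulAction G X] (C : Ctx G X)

theorem f1115 : C.T (v5 C) [18, 44, 52, 73, 92, 109, 116] (v2 C) [22, 41, 57, 106, 109, 114] :=
  C.flip (f1114 C)

theorem f1116 : C.T (v5 C) [4, 30, 49, 75, 92, 114] (v5 C) [25, 45, 83, 96, 121] :=
  C.closeT (p := (v3 C)) (pu := [26, 27, 64, 76, 95, 118])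
    (C.pT (f1110 C)
    (C.pH [8, 30, 65, 84, 94, 117] [4, 30, 49, 75, 92, 114] (by decide +kernel) (C.pNil _ _)))
    (C.pH [26, 38, 54, 89, 90, 113] [18, 44, 52, 73, 92, 109, 116] (by decide +kernel)
    (C.pT (f1115 C)
    (C.pH [8, 30, 65, 84, 94, 117] [6, 33, 64, 75, 99, 118] (by decide +kernel)
    (C.pT (f1113 C)
    (C.pH [26, 38, 54, 89, 90, 113] [26, 27, 64, 76, 95, 118] (by decide +kernel) (C.pNil _ _))))))
    (C.loop_of_one (relLoop1 C) _ _)

theorem f1120 : C.T (v3 C) [18, 29, 57, 89, 98, 109, 116] (v2 C) [6, 28, 73, 106, 110, 116] :=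
  C.conv (f346 C) (f391 C) (f391 C) _ [133, 156, 167] _ (by decide +kernel) (by decide +kernel) (by decide +kernel)

theorem f1121 : C.S (v2 C) [20, 48, 49, 77, 103, 110, 112] :=
  C.stMul (f125 C) (f101 C) _ (by decide +kernel)

theorem f1122 : C.S (v2 C) [10, 43, 65, 81, 98, 110, 117] :=
  C.stMul (f211 C) (f1121 C) _ (by decide +kernel)

theorem f1123 : C.T (v2 C) [4, 43, 70, 91, 119] (v5 C) [21, 47, 66, 85, 100, 109, 117] :=
  C.conv (f982 C) (f323 C) (f1122 C) _ [143, 166, 176, 177] _ (by decide +kernel) (by decide +kernel) (by decide +kernel)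

theorem f1124 : C.S (v3 C) [4, 35, 66, 84, 105, 109, 115] :=
  C.stMul (f335 C) (f331 C) _ (by decide +kernel)

theorem f1125 : C.S (v3 C) [17, 52, 88, 94, 110, 125] :=
  C.stMul (f331 C) (f1124 C) _ (by decide +kernel)

theorem f1126 : C.S (v3 C) [21, 39, 65, 74, 103, 110, 122] :=
  C.stMul (f353 C) (f1125 C) _ (by decide +kernel)

theorem f1127 : C.T (v3 C) [9, 29, 61, 72, 92, 109, 125] (v5 C) [6, 63, 84, 96, 110, 122] :=
  C.conv (f1048 C) (f1093 C) (f1126 C) _ [142, 151, 168, 173, 177] _ (by decide +kernel) (by decide +kernel) (by decide +kernel)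

theorem f1128 : C.T (v5 C) [6, 63, 84, 96, 110, 122] (v3 C) [9, 29, 61, 72, 92, 109, 125] :=
  C.flip (f1127 C)

theorem f1129 : C.T (v5 C) [24, 40, 53, 75, 103, 109, 117] (v5 C) [21, 29, 56, 84, 90, 110, 119] :=
  C.closeT (p := (v3 C)) (pu := [18, 29, 57, 89, 98, 109, 116])
    (C.pT (f1120 C)
    (C.pH [26, 38, 54, 89, 90, 113] [4, 43, 70, 91, 119] (by decide +kernel)
    (C.pT (f1123 C)
    (C.pH [8, 30, 65, 84, 94, 117] [24, 40, 53, 75, 103, 109, 117] (by decide +kernel) (C.pNil _ _)))))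
    (C.pH [26, 38, 54, 89, 90, 113] [6, 63, 84, 96, 110, 122] (by decide +kernel)
    (C.pT (f1128 C)
    (C.pH [8, 30, 65, 84, 94, 117] [18, 29, 57, 89, 98, 109, 116] (by decide +kernel) (C.pNil _ _))))
    (C.loop_of_one (relLoop2 C) _ _)

theorem f1132 : C.T (v4 C) [19, 52, 85, 95, 117] (v4 C) [4, 30, 64, 86, 94] :=
  C.conv (f751 C) (f753 C) (f753 C) _ [137, 169, 171, 178] _ (by decide +kernel) (by decide +kernel) (by decide +kernel)

theorem f1133 : C.S (v4 C) [23, 41, 49, 78, 91, 109] :=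
  C.stMul (f693 C) (f421 C) _ (by decide +kernel)

theorem f1134 : C.S (v4 C) [17, 35, 66, 70, 95] :=
  C.stMul (f421 C) (f407 C) _ (by decide +kernel)

theorem f1135 : C.S (v4 C) [13, 44, 51, 82, 106, 110, 111] :=
  C.stMul (f407 C) (f1134 C) _ (by decide +kernel)

theorem f1136 : C.T (v4 C) [13, 39, 69, 73, 97, 112] (v5 C) [16, 41, 65, 88, 102, 116] :=
  C.conv (f1108 C) (f1133 C) (f1135 C) _ [139, 158, 164, 175] _ (by decide +kernel) (by decide +kernel) (by decide +kernel)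

theorem f1137 : C.T (v5 C) [16, 43, 61, 89, 110, 120] (v4 C) [6, 27, 55, 83, 104, 110, 119] :=
  C.closeT (p := (v4 C)) (pu := [19, 52, 85, 95, 117])
    (C.pT (f1132 C)
    (C.pH [12, 35, 50, 83] [13, 39, 69, 73, 97, 112] (by decide +kernel)
    (C.pT (f1136 C)
    (C.pH [12, 35, 50, 83] [16, 43, 61, 89, 110, 120] (by decide +kernel) (C.pNil _ _)))))
    (C.pH [12, 35, 50, 83] [19, 52, 85, 95, 117] (by decide +kernel) (C.pNil _ _))
    (C.loop_of_one (relLoop0 C) _ _)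

theorem f1138 : C.T (v4 C) [6, 27, 55, 83, 104, 110, 119] (v5 C) [16, 43, 61, 89, 110, 120] :=
  C.flip (f1137 C)

theorem f1139 : C.T (v4 C) [6, 27, 55, 83, 104, 110, 119] (v5 C) [16, 41, 61, 81, 93, 110, 118] :=
  C.conv (f1108 C) (f1133 C) (f407 C) _ [139, 163, 164, 176, 178] _ (by decide +kernel) (by decide +kernel) (by decide +kernel)

theorem f1140 : C.E (v5 C) [16, 41, 61, 81, 93, 110, 118] (v5 C) [16, 43, 61, 89, 110, 120] :=
  C.sameSrc (f1139 C) (f1138 C)

theorem f1141 : C.S (v5 C) [38, 59, 83, 100, 109, 119] :=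
  C.stEq (f1140 C) _ (by decide +kernel)

theorem f1147 : C.S (v5 C) [20, 31, 50, 86, 96, 109, 115] :=
  C.stMul (f1141 C) (f1023 C) _ (by decide +kernel)

theorem f1149 : C.S (v5 C) [9, 47, 59, 85, 92, 123] :=
  C.stMul (f1008 C) (f986 C) _ (by decide +kernel)

theorem f1153 : C.S (v5 C) [] :=
  C.stOne _

theorem f1156 : C.S (v5 C) [10, 27, 54, 88, 92, 110, 113] :=
  C.stMul (f1023 C) (f1023 C) _ (by decide +kernel)

theorem f1157 : C.S (v5 C) [7, 48, 49, 78, 90, 109, 120] :=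
  C.stMul (f986 C) (f1156 C) _ (by decide +kernel)

theorem f1158 : C.S (v5 C) [24, 59, 70, 101, 109, 114] :=
  C.stMul (f1023 C) (f1157 C) _ (by decide +kernel)

theorem f1172 : C.T (v4 C) [5, 43, 52, 80, 94, 121] (v5 C) [25, 39, 52, 88, 103, 109, 120] :=
  C.conv (f1108 C) (f1133 C) (f1133 C) _ [146, 151, 167, 175] _ (by decide +kernel) (by decide +kernel) (by decide +kernel)

theorem f1173 : C.S (v4 C) [8, 31, 60, 85, 98, 110, 125] :=
  C.stMul (f693 C) (f407 C) _ (by decide +kernel)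

theorem f1174 : C.S (v4 C) [42, 63, 82, 91, 110, 125] :=
  C.stMul (f421 C) (f1173 C) _ (by decide +kernel)

theorem f1175 : C.S (v4 C) [12, 31, 56, 72, 107, 109, 112] :=
  C.stMul (f407 C) (f1174 C) _ (by decide +kernel)

theorem f1176 : C.T (v4 C) [5, 43, 62, 82, 108, 109, 112] (v5 C) [13, 47, 51, 92, 125] :=
  C.conv (f1108 C) (f1133 C) (f1175 C) _ [143, 159, 164, 173, 177] _ (by decide +kernel) (by decide +kernel) (by decide +kernel)

theorem f1177 : C.T (v5 C) [13, 47, 51, 92, 125] (v4 C) [5, 43, 62, 82, 108, 109, 112] :=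
  C.flip (f1176 C)

theorem f1178 : C.T (v5 C) [9, 30, 53, 85, 106, 110, 114] (v5 C) [4, 37, 61, 100, 122] :=
  C.closeT (p := (v4 C)) (pu := [5, 43, 52, 80, 94, 121])
    (C.pT (f1172 C)
    (C.pH [12, 35, 50, 83] [9, 30, 53, 85, 106, 110, 114] (by decide +kernel) (C.pNil _ _)))
    (C.pH [12, 35, 50, 83] [13, 47, 51, 92, 125] (by decide +kernel)
    (C.pT (f1177 C)
    (C.pH [12, 35, 50, 83] [5, 43, 52, 80, 94, 121] (by decide +kernel) (C.pNil _ _))))
    (C.loop_of_one (relLoop0 C) _ _)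

theorem f1181 : C.T (v4 C) [11, 37, 51, 81, 99, 110, 121] (v4 C) [18, 47, 58, 85, 91, 110, 112] :=
  C.conv (f563 C) (f715 C) (f715 C) _ [144, 159, 167, 176, 177] _ (by decide +kernel) (by decide +kernel) (by decide +kernel)

theorem f1182 : C.S (v4 C) [18, 46, 49, 75, 97, 110, 118] :=
  C.stMul (f407 C) (f407 C) _ (by decide +kernel)

theorem f1183 : C.S (v4 C) [23, 45, 57, 77, 95, 110, 118] :=
  C.stMul (f407 C) (f1182 C) _ (by decide +kernel)

theorem f1184 : C.T (v4 C) [4, 29, 61, 76, 92, 109, 124] (v5 C) [17, 33, 63, 77, 108, 110, 116] :=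
  C.conv (f1108 C) (f1133 C) (f1183 C) _ [130, 152, 167, 176, 178] _ (by decide +kernel) (by decide +kernel) (by decide +kernel)

theorem f1185 : C.S (v4 C) [10, 27, 56, 84, 93, 109, 113] :=
  C.stMul (f407 C) (f421 C) _ (by decide +kernel)

theorem f1186 : C.S (v4 C) [16, 32, 68, 79, 93, 110, 124] :=
  C.stMul (f407 C) (f1185 C) _ (by decide +kernel)

theorem f1187 : C.T (v4 C) [8, 31, 55, 74, 104, 109, 124] (v5 C) [17, 33, 60, 88, 99, 115] :=
  C.conv (f1108 C) (f1133 C) (f1186 C) _ [130, 160, 169, 171, 177] _ (by decide +kernel) (by decide +kernel) (by decide +kernel)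

theorem f1188 : C.T (v5 C) [17, 33, 60, 88, 99, 115] (v4 C) [8, 31, 55, 74, 104, 109, 124] :=
  C.flip (f1187 C)

theorem f1189 : C.T (v5 C) [20, 46, 66, 84, 99, 109, 114] (v5 C) [7, 28, 56, 82, 100, 110, 123] :=
  C.closeT (p := (v4 C)) (pu := [11, 37, 51, 81, 99, 110, 121])
    (C.pT (f1181 C)
    (C.pH [8, 30, 65, 84, 94, 117] [4, 29, 61, 76, 92, 109, 124] (by decide +kernel)
    (C.pT (f1184 C)
    (C.pH [26, 38, 54, 89, 90, 113] [20, 46, 66, 84, 99, 109, 114] (by decide +kernel) (C.pNil _ _)))))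
    (C.pH [8, 30, 65, 84, 94, 117] [17, 33, 60, 88, 99, 115] (by decide +kernel)
    (C.pT (f1188 C)
    (C.pH [26, 38, 54, 89, 90, 113] [11, 37, 51, 81, 99, 110, 121] (by decide +kernel) (C.pNil _ _))))
    (C.loop_of_one (relLoop1 C) _ _)

theorem f1192 : C.S (v4 C) [17, 35, 66, 70, 95] :=
  C.stMul (f421 C) (f407 C) _ (by decide +kernel)

theorem f1193 : C.S (v4 C) [13, 44, 51, 82, 106, 110, 111] :=
  C.stMul (f407 C) (f1192 C) _ (by decide +kernel)

theorem f1194 : C.S (v4 C) [21, 35, 69, 73, 94, 109, 122] :=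
  C.stMul (f421 C) (f1193 C) _ (by decide +kernel)

theorem f1195 : C.T (v4 C) [25, 43, 66, 79, 99, 113] (v4 C) [22, 38, 67, 85, 108, 116] :=
  C.conv (f972 C) (f1194 C) (f1194 C) _ [147, 158, 166, 176, 178] _ (by decide +kernel) (by decide +kernel) (by decide +kernel)

theorem f1196 : C.S (v4 C) [17, 35, 66, 70, 95] :=
  C.stMul (f421 C) (f407 C) _ (by decide +kernel)

theorem f1197 : C.T (v4 C) [19, 44, 59, 73, 91, 110, 119] (v5 C) [9, 30, 49, 85, 98, 109, 115] :=
  C.conv (f1004 C) (f1032 C) (f1196 C) _ [137, 153, 166, 173, 178] _ (by decide +kernel) (by decide +kernel) (by decide +kernel)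

theorem f1198 : C.S (v4 C) [23, 41, 49, 78, 91, 109] :=
  C.stMul (f693 C) (f421 C) _ (by decide +kernel)

theorem f1199 : C.T (v4 C) [4, 41, 63, 84, 98, 110] (v5 C) [16, 46, 53, 89, 98, 110, 117] :=
  C.conv (f1004 C) (f1032 C) (f1198 C) _ [146, 156, 166, 171, 178] _ (by decide +kernel) (by decide +kernel) (by decide +kernel)

theorem f1200 : C.T (v5 C) [16, 46, 53, 89, 98, 110, 117] (v4 C) [4, 41, 63, 84, 98, 110] :=
  C.flip (f1199 C)

theorem f1201 : C.T (v5 C) [18, 47, 51, 80, 105, 109, 113] (v5 C) [26, 36, 57, 82, 97, 116] :=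
  C.closeT (p := (v4 C)) (pu := [25, 43, 66, 79, 99, 113])
    (C.pT (f1195 C)
    (C.pH [26, 38, 54, 89, 90, 113] [19, 44, 59, 73, 91, 110, 119] (by decide +kernel)
    (C.pT (f1197 C)
    (C.pH [8, 30, 65, 84, 94, 117] [18, 47, 51, 80, 105, 109, 113] (by decide +kernel) (C.pNil _ _)))))
    (C.pH [26, 38, 54, 89, 90, 113] [16, 46, 53, 89, 98, 110, 117] (by decide +kernel)
    (C.pT (f1200 C)
    (C.pH [8, 30, 65, 84, 94, 117] [25, 43, 66, 79, 99, 113] (by decide +kernel) (C.pNil _ _))))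
    (C.loop_of_one (relLoop2 C) _ _)

theorem f1203 : C.S (v5 C) [9, 47, 59, 85, 92, 123] :=
  C.stMul (f1008 C) (f986 C) _ (by decide +kernel)

theorem f1205 : C.T (v5 C) [17, 48, 65, 80, 90, 109, 119] (v5 C) [14, 46, 52, 87, 97, 110, 114] :=
  C.conv (f1079 C) (f1158 C) (f1158 C) _ [146, 154, 168, 171, 177] _ (by decide +kernel) (by decide +kernel) (by decide +kernel)

theorem f1206 : C.S (v5 C) [7, 29, 66, 74, 106, 124] :=
  C.stMul (f1141 C) (f986 C) _ (by decide +kernel)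

theorem f1207 : C.S (v5 C) [10, 47, 68, 82, 95, 110] :=
  C.stMul (f986 C) (f1206 C) _ (by decide +kernel)

theorem f1208 : C.T (v5 C) [9, 28, 67, 74, 98, 120] (v5 C) [14, 28, 51, 83, 107, 120] :=
  C.conv (f1079 C) (f1158 C) (f1207 C) _ [143, 150, 173] _ (by decide +kernel) (by decide +kernel) (by decide +kernel)

theorem f1209 : C.T (v5 C) [14, 28, 51, 83, 107, 120] (v5 C) [9, 28, 67, 74, 98, 120] :=
  C.flip (f1208 C)

theorem f1210 : C.T (v5 C) [14, 31, 61, 72, 95, 110, 123] (v5 C) [14, 30, 65, 72, 106, 109, 125] :=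
  C.closeT (p := (v5 C)) (pu := [17, 48, 65, 80, 90, 109, 119])
    (C.pT (f1205 C)
    (C.pH [12, 35, 50, 83] [14, 31, 61, 72, 95, 110, 123] (by decide +kernel) (C.pNil _ _)))
    (C.pH [12, 35, 50, 83] [14, 28, 51, 83, 107, 120] (by decide +kernel)
    (C.pT (f1209 C)
    (C.pH [12, 35, 50, 83] [17, 48, 65, 80, 90, 109, 119] (by decide +kernel) (C.pNil _ _))))
    (C.loop_of_one (relLoop0 C) _ _)

theorem f1212 : C.S (v5 C) [7, 29, 66, 74, 106, 124] :=
  C.stMul (f1141 C) (f986 C) _ (by decide +kernel)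

theorem f1213 : C.S (v5 C) [24, 39, 60, 76, 105, 109, 124] :=
  C.stMul (f1023 C) (f1212 C) _ (by decide +kernel)

theorem f1215 : C.T (v5 C) [20, 27, 60, 70, 95, 110, 112] (v5 C) [18, 27, 55, 79, 107, 109, 120] :=
  C.conv (f1079 C) (f1158 C) (f1158 C) _ [130, 159, 164, 176] _ (by decide +kernel) (by decide +kernel) (by decide +kernel)

theorem f1216 : C.S (v5 C) [20, 35, 58, 88, 120] :=
  C.stMul (f1023 C) (f1008 C) _ (by decide +kernel)

theorem f1217 : C.S (v5 C) [20, 47, 55, 81, 100, 109] :=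
  C.stMul (f1141 C) (f1216 C) _ (by decide +kernel)

theorem f1218 : C.S (v5 C) [13, 51, 82, 105, 114] :=
  C.stMul (f986 C) (f1217 C) _ (by decide +kernel)

theorem f1219 : C.T (v5 C) [11, 48, 64, 77, 91, 109, 122] (v5 C) [20, 38, 64, 79, 99, 122] :=
  C.conv (f1079 C) (f1158 C) (f1218 C) _ [143, 158, 164, 172, 177] _ (by decide +kernel) (by decide +kernel) (by decide +kernel)

theorem f1220 : C.T (v5 C) [20, 38, 64, 79, 99, 122] (v5 C) [11, 48, 64, 77, 91, 109, 122] :=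
  C.flip (f1219 C)

theorem f1221 : C.T (v5 C) [18, 37, 57, 71, 96, 116] (v5 C) [11, 27, 66, 73, 101, 109, 118] :=
  C.closeT (p := (v5 C)) (pu := [20, 27, 60, 70, 95, 110, 112])
    (C.pT (f1215 C)
    (C.pH [12, 35, 50, 83] [18, 37, 57, 71, 96, 116] (by decide +kernel) (C.pNil _ _)))
    (C.pH [12, 35, 50, 83] [20, 38, 64, 79, 99, 122] (by decide +kernel)
    (C.pT (f1220 C)
    (C.pH [12, 35, 50, 83] [20, 27, 60, 70, 95, 110, 112] (by decide +kernel) (C.pNil _ _))))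
    (C.loop_of_one (relLoop0 C) _ _)

theorem f1223 : C.S (v5 C) [20, 31, 50, 86, 96, 109, 115] :=
  C.stMul (f1141 C) (f1023 C) _ (by decide +kernel)

theorem f1224 : C.S (v5 C) [13, 46, 69, 87, 93, 110, 118] :=
  C.stMul (f986 C) (f1223 C) _ (by decide +kernel)

theorem f1225 : C.S (v5 C) [24, 43, 71, 105, 110, 122] :=
  C.stMul (f1141 C) (f1224 C) _ (by decide +kernel)

theorem f1227 : C.T (v5 C) [15, 29, 53, 76, 105, 110] (v5 C) [8, 29, 66, 78, 91, 110, 120] :=
  C.conv (f1178 C) (f1023 C) (f1023 C) _ [126, 154, 164, 175, 177] _ (by decide +kernel) (by decide +kernel) (by decide +kernel)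

theorem f1228 : C.T (v5 C) [10, 40, 57, 91, 110, 123] (v5 C) [6, 30, 77, 95, 109, 112] :=
  C.conv (f1201 C) (f1153 C) (f1203 C) _ [127, 160, 168, 176, 177] _ (by decide +kernel) (by decide +kernel) (by decide +kernel)

theorem f1229 : C.T (v5 C) [19, 34, 58, 76, 90, 122] (v5 C) [15, 45, 58, 79, 99, 110, 119] :=
  C.closeT (p := (v5 C)) (pu := [15, 29, 53, 76, 105, 110])
    (C.pT (f1227 C)
    (C.pH [12, 35, 50, 83] [10, 40, 57, 91, 110, 123] (by decide +kernel)
    (C.pT (f1228 C)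
    (C.pH [12, 35, 50, 83] [19, 34, 58, 76, 90, 122] (by decide +kernel) (C.pNil _ _)))))
    (C.pH [12, 35, 50, 83] [15, 29, 53, 76, 105, 110] (by decide +kernel) (C.pNil _ _))
    (C.loop_of_one (relLoop0 C) _ _)

theorem f1232 : C.T (v5 C) [46, 65, 76, 92, 123] (v5 C) [20, 48, 57, 75, 91, 109, 122] :=
  C.conv (f1189 C) (f1153 C) (f1153 C) _ [144, 163, 174, 177] _ (by decide +kernel) (by decide +kernel) (by decide +kernel)

theorem f1233 : C.S (v5 C) [13, 31, 66, 73, 100, 119] :=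
  C.stMul (f986 C) (f1023 C) _ (by decide +kernel)

theorem f1234 : C.S (v5 C) [7, 35, 57, 74, 106, 123] :=
  C.stMul (f1023 C) (f1233 C) _ (by decide +kernel)

theorem f1235 : C.T (v5 C) [23, 37, 69, 99, 110, 125] (v5 C) [10, 41, 59, 104, 109, 113] :=
  C.conv (f1210 C) (f1213 C) (f1234 C) _ [145, 156, 167, 173] _ (by decide +kernel) (by decide +kernel) (by decide +kernel)

theorem f1236 : C.T (v5 C) [7, 33, 61, 74, 102, 109, 123] (v5 C) [13, 48, 65, 70, 95, 110, 123] :=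
  C.conv (f1210 C) (f1213 C) (f986 C) _ [139, 161, 168, 175] _ (by decide +kernel) (by decide +kernel) (by decide +kernel)

theorem f1237 : C.T (v5 C) [13, 48, 65, 70, 95, 110, 123] (v5 C) [7, 33, 61, 74, 102, 109, 123] :=
  C.flip (f1236 C)

theorem f1238 : C.T (v5 C) [21, 45, 55, 79, 90, 113] (v5 C) [6, 27, 65, 80, 94, 117] :=
  C.closeT (p := (v5 C)) (pu := [46, 65, 76, 92, 123])
    (C.pT (f1232 C)
    (C.pH [8, 30, 65, 84, 94, 117] [23, 37, 69, 99, 110, 125] (by decide +kernel)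
    (C.pT (f1235 C)
    (C.pH [26, 38, 54, 89, 90, 113] [21, 45, 55, 79, 90, 113] (by decide +kernel) (C.pNil _ _)))))
    (C.pH [8, 30, 65, 84, 94, 117] [13, 48, 65, 70, 95, 110, 123] (by decide +kernel)
    (C.pT (f1237 C)
    (C.pH [26, 38, 54, 89, 90, 113] [46, 65, 76, 92, 123] (by decide +kernel) (C.pNil _ _))))
    (C.loop_of_one (relLoop1 C) _ _)

theorem f1241 : C.T (v5 C) [26, 48, 52, 85, 91, 110] (v5 C) [14, 27, 59, 80, 102, 112] :=
  C.conv (f1189 C) (f1153 C) (f1153 C) _ [127, 164, 176, 178] _ (by decide +kernel) (by decide +kernel) (by decide +kernel)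

theorem f1242 : C.S (v5 C) [13, 35, 69, 89, 94, 109, 112] :=
  C.stMul (f1023 C) (f986 C) _ (by decide +kernel)

theorem f1243 : C.S (v5 C) [24, 42, 52, 76, 99, 109, 120] :=
  C.stMul (f1141 C) (f1242 C) _ (by decide +kernel)

theorem f1244 : C.T (v5 C) [5, 35, 50, 79, 99, 110, 113] (v5 C) [8, 35, 58, 70, 101, 114] :=
  C.conv (f1221 C) (f1225 C) (f1243 C) _ [127, 158, 166, 175] _ (by decide +kernel) (by decide +kernel) (by decide +kernel)

theorem f1245 : C.S (v5 C) [13, 40, 57, 80, 101, 109, 113] :=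
  C.stMul (f1008 C) (f1242 C) _ (by decide +kernel)

theorem f1246 : C.T (v5 C) [46, 68, 80, 104, 110, 114] (v5 C) [23, 48, 52, 81, 94, 110, 122] :=
  C.conv (f1221 C) (f1225 C) (f1245 C) _ [160, 167, 174, 178] _ (by decide +kernel) (by decide +kernel) (by decide +kernel)

theorem f1247 : C.T (v5 C) [23, 48, 52, 81, 94, 110, 122] (v5 C) [46, 68, 80, 104, 110, 114] :=
  C.flip (f1246 C)

theorem f1248 : C.T (v5 C) [11, 54, 85, 103, 110, 123] (v5 C) [20, 42, 50, 71, 96, 112] :=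
  C.closeT (p := (v5 C)) (pu := [26, 48, 52, 85, 91, 110])
    (C.pT (f1241 C)
    (C.pH [8, 30, 65, 84, 94, 117] [5, 35, 50, 79, 99, 110, 113] (by decide +kernel)
    (C.pT (f1244 C)
    (C.pH [26, 38, 54, 89, 90, 113] [11, 54, 85, 103, 110, 123] (by decide +kernel) (C.pNil _ _)))))
    (C.pH [8, 30, 65, 84, 94, 117] [23, 48, 52, 81, 94, 110, 122] (by decide +kernel)
    (C.pT (f1247 C)
    (C.pH [26, 38, 54, 89, 90, 113] [26, 48, 52, 85, 91, 110] (by decide +kernel) (C.pNil _ _))))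
    (C.loop_of_one (relLoop1 C) _ _)

theorem f1251 : C.T (v5 C) [41, 54, 71, 90, 123] (v5 C) [37, 64, 78, 98, 109, 115] :=
  C.conv (f1210 C) (f1213 C) (f1213 C) _ [131, 160, 168, 171, 178] _ (by decide +kernel) (by decide +kernel) (by decide +kernel)

theorem f1252 : C.T (v5 C) [8, 46, 55, 70, 98, 110, 115] (v5 C) [20, 28, 56, 83, 94, 110] :=
  C.conv (f1079 C) (f1158 C) (f1156 C) _ [138, 150, 170, 174, 177] _ (by decide +kernel) (by decide +kernel) (by decide +kernel)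

theorem f1253 : C.T (v5 C) [7, 42, 59, 80, 107, 117] (v5 C) [19, 40, 68, 75, 106, 109, 125] :=
  C.conv (f1079 C) (f1158 C) (f1156 C) _ [133, 153, 168, 173, 177] _ (by decide +kernel) (by decide +kernel) (by decide +kernel)

theorem f1254 : C.T (v5 C) [19, 40, 68, 75, 106, 109, 125] (v5 C) [7, 42, 59, 80, 107, 117] :=
  C.flip (f1253 C)

theorem f1255 : C.T (v5 C) [15, 27, 59, 77, 91, 113] (v5 C) [15, 27, 59, 77, 91, 113] :=
  C.closeT (p := (v5 C)) (pu := [41, 54, 71, 90, 123])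
    (C.pT (f1251 C)
    (C.pH [8, 30, 65, 84, 94, 117] [8, 46, 55, 70, 98, 110, 115] (by decide +kernel)
    (C.pT (f1252 C)
    (C.pH [26, 38, 54, 89, 90, 113] [15, 27, 59, 77, 91, 113] (by decide +kernel) (C.pNil _ _)))))
    (C.pH [8, 30, 65, 84, 94, 117] [19, 40, 68, 75, 106, 109, 125] (by decide +kernel)
    (C.pT (f1254 C)
    (C.pH [26, 38, 54, 89, 90, 113] [41, 54, 71, 90, 123] (by decide +kernel) (C.pNil _ _))))
    (C.loop_of_one (relLoop1 C) _ _)

theorem f1257 : C.T (v5 C) [9, 39, 59, 81, 97, 110, 124] (v5 C) [6, 42, 59, 74, 92, 116] :=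
  C.conv (f1221 C) (f1225 C) (f1225 C) _ [146, 163, 165] _ (by decide +kernel) (by decide +kernel) (by decide +kernel)

theorem f1258 : C.T (v5 C) [13, 40, 51, 80, 90, 109, 121] (v5 C) [13, 48, 67, 77, 119] :=
  C.conv (f1101 C) (f1153 C) (f1153 C) _ [145, 162, 167, 171, 177] _ (by decide +kernel) (by decide +kernel) (by decide +kernel)

theorem f1259 : C.T (v5 C) [23, 40, 68, 76, 109] (v5 C) [9, 39, 50, 88, 93, 110, 111] :=
  C.conv (f1221 C) (f1225 C) (f986 C) _ [147, 153, 167, 174] _ (by decide +kernel) (by decide +kernel) (by decide +kernel)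

theorem f1260 : C.T (v5 C) [18, 33, 63, 81, 103, 109, 112] (v5 C) [15, 40, 62, 75, 101, 125] :=
  C.closeT (p := (v5 C)) (pu := [9, 39, 59, 81, 97, 110, 124])
    (C.pT (f1257 C)
    (C.pH [8, 30, 65, 84, 94, 117] [13, 40, 51, 80, 90, 109, 121] (by decide +kernel)
    (C.pT (f1258 C)
    (C.pH [26, 38, 54, 89, 90, 113] [23, 40, 68, 76, 109] (by decide +kernel)
    (C.pT (f1259 C)
    (C.pH [8, 30, 65, 84, 94, 117] [18, 33, 63, 81, 103, 109, 112] (by decide +kernel) (C.pNil _ _)))))))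
    (C.pH [26, 38, 54, 89, 90, 113] [9, 39, 59, 81, 97, 110, 124] (by decide +kernel) (C.pNil _ _))
    (C.loop_of_one (relLoop1 C) _ _)

theorem f1262 : C.S (v5 C) [7, 29, 66, 74, 106, 124] :=
  C.stMul (f1141 C) (f986 C) _ (by decide +kernel)

theorem f1264 : C.T (v5 C) [10, 50] (v6 C) [] :=
  C.defn _ _

theorem f1265 : C.S (v5 C) [43, 67, 71, 98, 119] :=
  C.stMul (f986 C) (f986 C) _ (by decide +kernel)

theorem f1266 : C.S (v6 C) [11, 44, 64, 73, 97, 110, 123] :=
  C.transfer (f1264 C) (f1265 C) [133, 153, 166, 171, 177] _ (by decide +kernel) (by decide +kernel) (by decide +kernel)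

theorem f1267 : C.S (v5 C) [20, 35, 58, 88, 120] :=
  C.stMul (f1023 C) (f1008 C) _ (by decide +kernel)

theorem f1268 : C.S (v5 C) [38, 59, 83, 100, 109, 119] :=
  C.stInv (f1141 C) _ (by decide +kernel)

theorem f1269 : C.S (v5 C) [20, 47, 55, 81, 100, 109] :=
  C.stMul (f1268 C) (f1267 C) _ (by decide +kernel)

theorem f1270 : C.S (v6 C) [20, 35, 52, 75, 95, 110, 117] :=
  C.transfer (f1264 C) (f1269 C) [142, 152, 164, 175] _ (by decide +kernel) (by decide +kernel) (by decide +kernel)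

theorem f1271 : C.T (v6 C) [] (v5 C) [10, 50] :=
  C.flip (f1264 C)

theorem f1272 : C.T (v4 C) [5, 43, 68, 86, 107, 109, 123] (v5 C) [10, 45, 69, 82, 92, 114] :=
  C.conv (f1108 C) (f1133 C) (f1133 C) _ [147, 161, 165, 178] _ (by decide +kernel) (by decide +kernel) (by decide +kernel)

theorem f1273 : C.S (v5 C) [9, 47, 59, 85, 92, 123] :=
  C.stMul (f1008 C) (f986 C) _ (by decide +kernel)

theorem f1274 : C.T (v5 C) [21, 45, 59, 83, 97, 112] (v6 C) [5, 39, 53, 81, 90, 110] :=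
  C.conv (f1264 C) (f1153 C) (f1273 C) _ [127, 163, 170, 175, 177] _ (by decide +kernel) (by decide +kernel) (by decide +kernel)

theorem f1275 : C.T (v6 C) [5, 28, 66, 100, 109, 123] (v4 C) [5, 43, 57, 73, 93, 110, 111] :=
  C.closeT (p := (v4 C)) (pu := [5, 43, 68, 86, 107, 109, 123])
    (C.pT (f1272 C)
    (C.pH [12, 35, 50, 83] [21, 45, 59, 83, 97, 112] (by decide +kernel)
    (C.pT (f1274 C)
    (C.pH [12, 35, 50, 83] [5, 28, 66, 100, 109, 123] (by decide +kernel) (C.pNil _ _)))))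
    (C.pH [12, 35, 50, 83] [5, 43, 68, 86, 107, 109, 123] (by decide +kernel) (C.pNil _ _))
    (C.loop_of_one (relLoop0 C) _ _)

theorem f1276 : C.T (v4 C) [5, 43, 57, 73, 93, 110, 111] (v6 C) [5, 28, 66, 100, 109, 123] :=
  C.flip (f1275 C)

theorem f1277 : C.T (v4 C) [20, 34, 68, 99, 110, 119] (v4 C) [7, 45, 66, 78, 103, 109, 112] :=
  C.conv (f678 C) (f697 C) (f697 C) _ [126, 157, 166, 173] _ (by decide +kernel) (by decide +kernel) (by decide +kernel)

theorem f1278 : C.S (v4 C) [10, 27, 56, 84, 93, 109, 113] :=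
  C.stMul (f407 C) (f421 C) _ (by decide +kernel)

theorem f1279 : C.S (v4 C) [16, 32, 68, 79, 93, 110, 124] :=
  C.stMul (f407 C) (f1278 C) _ (by decide +kernel)

theorem f1280 : C.S (v4 C) [18, 44, 51, 79, 106, 114] :=
  C.stMul (f421 C) (f1279 C) _ (by decide +kernel)

theorem f1281 : C.T (v4 C) [17, 35, 50, 75, 100, 124] (v5 C) [5, 69, 86, 95, 109, 120] :=
  C.conv (f1044 C) (f1279 C) (f1280 C) _ [126, 162, 167, 173, 178] _ (by decide +kernel) (by decide +kernel) (by decide +kernel)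

theorem f1282 : C.S (v5 C) [7, 29, 66, 74, 106, 124] :=
  C.stMul (f1141 C) (f986 C) _ (by decide +kernel)

theorem f1283 : C.T (v5 C) [8, 30, 57, 70, 90, 110, 114] (v6 C) [12, 37, 53, 85, 101, 109, 117] :=
  C.conv (f1264 C) (f1153 C) (f1282 C) _ [134, 156, 175, 178] _ (by decide +kernel) (by decide +kernel) (by decide +kernel)

theorem f1284 : C.T (v6 C) [21, 61, 84, 101, 117] (v4 C) [17, 38, 60, 82, 102, 109, 115] :=
  C.closeT (p := (v4 C)) (pu := [20, 34, 68, 99, 110, 119])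
    (C.pT (f1277 C)
    (C.pH [8, 30, 65, 84, 94, 117] [17, 35, 50, 75, 100, 124] (by decide +kernel)
    (C.pT (f1281 C)
    (C.pH [26, 38, 54, 89, 90, 113] [8, 30, 57, 70, 90, 110, 114] (by decide +kernel)
    (C.pT (f1283 C)
    (C.pH [8, 30, 65, 84, 94, 117] [21, 61, 84, 101, 117] (by decide +kernel) (C.pNil _ _)))))))
    (C.pH [26, 38, 54, 89, 90, 113] [20, 34, 68, 99, 110, 119] (by decide +kernel) (C.pNil _ _))
    (C.loop_of_one (relLoop1 C) _ _)

theorem f1285 : C.T (v4 C) [17, 38, 60, 82, 102, 109, 115] (v6 C) [21, 61, 84, 101, 117] :=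
  C.flip (f1284 C)

theorem f1286 : C.S (v4 C) [17, 35, 66, 70, 95] :=
  C.stMul (f421 C) (f407 C) _ (by decide +kernel)

theorem f1287 : C.S (v4 C) [13, 44, 51, 82, 106, 110, 111] :=
  C.stMul (f407 C) (f1286 C) _ (by decide +kernel)

theorem f1288 : C.S (v4 C) [23, 41, 49, 78, 91, 109] :=
  C.stMul (f693 C) (f421 C) _ (by decide +kernel)

theorem f1289 : C.S (v4 C) [25, 32, 52, 83, 96, 110, 121] :=
  C.stInv (f1288 C) _ (by decide +kernel)

theorem f1290 : C.S (v4 C) [10, 44, 68, 74, 91, 110, 116] :=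
  C.stMul (f1289 C) (f1287 C) _ (by decide +kernel)

theorem f1291 : C.S (v6 C) [14, 62, 74, 98, 110, 125] :=
  C.transfer (f1285 C) (f1290 C) [161, 168, 175] _ (by decide +kernel) (by decide +kernel) (by decide +kernel)

theorem f1294 : C.T (v4 C) [7, 30, 77, 108, 110, 124] (v4 C) [26, 37, 57, 73, 96, 110, 117] :=
  C.conv (f658 C) (f700 C) (f700 C) _ [130, 164, 171, 178] _ (by decide +kernel) (by decide +kernel) (by decide +kernel)

theorem f1295 : C.S (v4 C) [17, 35, 66, 70, 95] :=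
  C.stMul (f421 C) (f407 C) _ (by decide +kernel)

theorem f1296 : C.S (v4 C) [26, 44, 64, 94, 121] :=
  C.stMul (f693 C) (f1295 C) _ (by decide +kernel)

theorem f1297 : C.T (v4 C) [14, 46, 64, 74, 95, 121] (v5 C) [18, 47, 62, 75, 91, 109, 125] :=
  C.conv (f1044 C) (f1279 C) (f1296 C) _ [146, 161, 164, 171, 178] _ (by decide +kernel) (by decide +kernel) (by decide +kernel)

theorem f1298 : C.S (v5 C) [13, 35, 69, 89, 94, 109, 112] :=
  C.stMul (f1023 C) (f986 C) _ (by decide +kernel)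

theorem f1299 : C.T (v5 C) [10, 28, 69, 83, 92, 109, 125] (v6 C) [18, 41, 58, 87, 90, 110, 120] :=
  C.conv (f1264 C) (f1153 C) (f1298 C) _ [140, 153, 168, 174] _ (by decide +kernel) (by decide +kernel) (by decide +kernel)

theorem f1300 : C.T (v6 C) [4, 34, 50, 84, 102, 109, 119] (v4 C) [23, 53, 73, 101, 110, 118] :=
  C.closeT (p := (v4 C)) (pu := [7, 30, 77, 108, 110, 124])
    (C.pT (f1294 C)
    (C.pH [8, 30, 65, 84, 94, 117] [14, 46, 64, 74, 95, 121] (by decide +kernel)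
    (C.pT (f1297 C)
    (C.pH [26, 38, 54, 89, 90, 113] [10, 28, 69, 83, 92, 109, 125] (by decide +kernel)
    (C.pT (f1299 C)
    (C.pH [8, 30, 65, 84, 94, 117] [4, 34, 50, 84, 102, 109, 119] (by decide +kernel) (C.pNil _ _)))))))
    (C.pH [26, 38, 54, 89, 90, 113] [7, 30, 77, 108, 110, 124] (by decide +kernel) (C.pNil _ _))
    (C.loop_of_one (relLoop1 C) _ _)

theorem f1301 : C.T (v4 C) [23, 53, 73, 101, 110, 118] (v6 C) [4, 34, 50, 84, 102, 109, 119] :=
  C.flip (f1300 C)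

theorem f1302 : C.S (v4 C) [23, 41, 49, 78, 91, 109] :=
  C.stMul (f693 C) (f421 C) _ (by decide +kernel)

theorem f1303 : C.S (v4 C) [17, 35, 66, 70, 95] :=
  C.stMul (f421 C) (f407 C) _ (by decide +kernel)

theorem f1304 : C.S (v4 C) [13, 44, 51, 82, 106, 110, 111] :=
  C.stMul (f407 C) (f1303 C) _ (by decide +kernel)

theorem f1305 : C.T (v4 C) [23, 53, 73, 101, 110, 118] (v6 C) [21, 38, 64, 87, 101, 122] :=
  C.conv (f1285 C) (f1302 C) (f1304 C) _ [137, 160, 168, 172, 177] _ (by decide +kernel) (by decide +kernel) (by decide +kernel)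

theorem f1306 : C.E (v6 C) [21, 38, 64, 87, 101, 122] (v6 C) [4, 34, 50, 84, 102, 109, 119] :=
  C.sameSrc (f1305 C) (f1301 C)

theorem f1307 : C.S (v6 C) [22, 32, 64, 83, 95, 116] :=
  C.stEq (f1306 C) _ (by decide +kernel)

theorem f1316 : C.T (v4 C) [9, 47, 56, 70, 94, 120] (v4 C) [25, 33, 67, 87, 98, 115] :=
  C.conv (f563 C) (f715 C) (f715 C) _ [126, 155, 165, 175, 177] _ (by decide +kernel) (by decide +kernel) (by decide +kernel)

theorem f1317 : C.S (v4 C) [23, 41, 49, 78, 91, 109] :=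
  C.stMul (f693 C) (f421 C) _ (by decide +kernel)

theorem f1318 : C.T (v4 C) [9, 41, 65, 86, 99, 122] (v6 C) [37, 57, 87, 110, 117] :=
  C.conv (f1276 C) (f407 C) (f1317 C) _ [131, 154, 164] _ (by decide +kernel) (by decide +kernel) (by decide +kernel)

theorem f1319 : C.S (v4 C) [18, 46, 49, 75, 97, 110, 118] :=
  C.stMul (f407 C) (f407 C) _ (by decide +kernel)

theorem f1320 : C.S (v4 C) [23, 45, 57, 77, 95, 110, 118] :=
  C.stMul (f407 C) (f1319 C) _ (by decide +kernel)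

theorem f1321 : C.S (v4 C) [16, 46, 68, 72, 103, 110, 111] :=
  C.stMul (f693 C) (f1320 C) _ (by decide +kernel)

theorem f1322 : C.T (v4 C) [15, 27, 60, 88, 102, 109, 125] (v6 C) [22, 40, 49, 82, 93, 110] :=
  C.conv (f1276 C) (f407 C) (f1321 C) _ [132, 159, 165, 171] _ (by decide +kernel) (by decide +kernel) (by decide +kernel)

theorem f1323 : C.T (v6 C) [22, 40, 49, 82, 93, 110] (v4 C) [15, 27, 60, 88, 102, 109, 125] :=
  C.flip (f1322 C)

theorem f1324 : C.T (v6 C) [26, 29, 54, 78, 109] (v6 C) [17, 34, 69, 84, 97, 110, 123] :=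
  C.closeT (p := (v4 C)) (pu := [9, 47, 56, 70, 94, 120])
    (C.pT (f1316 C)
    (C.pH [8, 30, 65, 84, 94, 117] [9, 41, 65, 86, 99, 122] (by decide +kernel)
    (C.pT (f1318 C)
    (C.pH [26, 38, 54, 89, 90, 113] [26, 29, 54, 78, 109] (by decide +kernel) (C.pNil _ _)))))
    (C.pH [8, 30, 65, 84, 94, 117] [22, 40, 49, 82, 93, 110] (by decide +kernel)
    (C.pT (f1323 C)
    (C.pH [26, 38, 54, 89, 90, 113] [9, 47, 56, 70, 94, 120] (by decide +kernel) (C.pNil _ _))))
    (C.loop_of_one (relLoop1 C) _ _)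

theorem f1328 : C.T (v4 C) [17, 29, 58, 80, 100, 112] (v4 C) [5, 36, 60, 72, 103, 109, 117] :=
  C.conv (f773 C) (f697 C) (f697 C) _ [147, 156, 167, 174] _ (by decide +kernel) (by decide +kernel) (by decide +kernel)

theorem f1329 : C.T (v4 C) [12, 38, 55, 80, 110, 124] (v6 C) [12, 43, 61, 74, 105, 109, 112] :=
  C.conv (f1285 C) (f1302 C) (f697 C) _ [126, 157, 169, 176] _ (by decide +kernel) (by decide +kernel) (by decide +kernel)

theorem f1330 : C.S (v4 C) [18, 46, 49, 75, 97, 110, 118] :=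
  C.stMul (f407 C) (f407 C) _ (by decide +kernel)

theorem f1331 : C.T (v4 C) [19, 39, 59, 81, 103, 125] (v6 C) [14, 37, 56, 87, 104, 110, 116] :=
  C.conv (f1285 C) (f1302 C) (f1330 C) _ [143, 158, 168, 173, 177] _ (by decide +kernel) (by decide +kernel) (by decide +kernel)

theorem f1332 : C.T (v6 C) [14, 37, 56, 87, 104, 110, 116] (v4 C) [19, 39, 59, 81, 103, 125] :=
  C.flip (f1331 C)

theorem f1333 : C.T (v6 C) [14, 37, 50, 83, 93, 109, 122] (v6 C) [26, 35, 63, 87, 96, 117] :=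
  C.closeT (p := (v4 C)) (pu := [17, 29, 58, 80, 100, 112])
    (C.pT (f1328 C)
    (C.pH [8, 30, 65, 84, 94, 117] [12, 38, 55, 80, 110, 124] (by decide +kernel)
    (C.pT (f1329 C)
    (C.pH [26, 38, 54, 89, 90, 113] [14, 37, 50, 83, 93, 109, 122] (by decide +kernel) (C.pNil _ _)))))
    (C.pH [8, 30, 65, 84, 94, 117] [14, 37, 56, 87, 104, 110, 116] (by decide +kernel)
    (C.pT (f1332 C)
    (C.pH [26, 38, 54, 89, 90, 113] [17, 29, 58, 80, 100, 112] (by decide +kernel) (C.pNil _ _))))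
    (C.loop_of_one (relLoop1 C) _ _)

theorem f1339 : C.T (v4 C) [16, 44, 69, 90, 110, 116] (v4 C) [30, 67, 89, 108, 115] :=
  C.conv (f791 C) (f793 C) (f793 C) _ [143, 156, 166, 172] _ (by decide +kernel) (by decide +kernel) (by decide +kernel)

theorem f1340 : C.S (v4 C) [8, 31, 60, 85, 98, 110, 125] :=
  C.stMul (f693 C) (f407 C) _ (by decide +kernel)

theorem f1341 : C.T (v4 C) [8, 28, 53, 80, 97, 109, 118] (v6 C) [24, 27, 59, 82, 95, 110, 111] :=
  C.conv (f1285 C) (f1302 C) (f1340 C) _ [144, 151, 171] _ (by decide +kernel) (by decide +kernel) (by decide +kernel)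

theorem f1342 : C.S (v4 C) [18, 46, 49, 75, 97, 110, 118] :=
  C.stMul (f407 C) (f407 C) _ (by decide +kernel)

theorem f1343 : C.S (v4 C) [16, 43, 64, 82, 90, 110, 123] :=
  C.stMul (f421 C) (f1342 C) _ (by decide +kernel)

theorem f1344 : C.T (v4 C) [26, 39, 62, 80, 103, 110, 120] (v4 C) [15, 44, 62, 86, 107, 109, 119] :=
  C.conv (f901 C) (f697 C) (f1343 C) _ [144, 160, 167, 177] _ (by decide +kernel) (by decide +kernel) (by decide +kernel)

theorem f1345 : C.T (v4 C) [15, 44, 62, 86, 107, 109, 119] (v4 C) [26, 39, 62, 80, 103, 110, 120] :=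
  C.flip (f1344 C)

theorem f1346 : C.T (v6 C) [12, 43, 52, 72, 106] (v4 C) [10, 45, 61, 88, 109, 121] :=
  C.closeT (p := (v4 C)) (pu := [16, 44, 69, 90, 110, 116])
    (C.pT (f1339 C)
    (C.pH [8, 30, 65, 84, 94, 117] [8, 28, 53, 80, 97, 109, 118] (by decide +kernel)
    (C.pT (f1341 C)
    (C.pH [26, 38, 54, 89, 90, 113] [12, 43, 52, 72, 106] (by decide +kernel) (C.pNil _ _)))))
    (C.pH [8, 30, 65, 84, 94, 117] [15, 44, 62, 86, 107, 109, 119] (by decide +kernel)
    (C.pT (f1345 C)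
    (C.pH [26, 38, 54, 89, 90, 113] [16, 44, 69, 90, 110, 116] (by decide +kernel) (C.pNil _ _))))
    (C.loop_of_one (relLoop1 C) _ _)

theorem f1347 : C.T (v4 C) [10, 45, 61, 88, 109, 121] (v6 C) [12, 43, 52, 72, 106] :=
  C.flip (f1346 C)

theorem f1348 : C.S (v4 C) [17, 35, 66, 70, 95] :=
  C.stMul (f421 C) (f407 C) _ (by decide +kernel)

theorem f1349 : C.S (v4 C) [26, 44, 64, 94, 121] :=
  C.stMul (f693 C) (f1348 C) _ (by decide +kernel)

theorem f1350 : C.S (v4 C) [23, 27, 56, 70, 98, 125] :=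
  C.stMul (f421 C) (f1349 C) _ (by decide +kernel)

theorem f1351 : C.T (v4 C) [10, 45, 61, 88, 109, 121] (v6 C) [22, 30, 68, 88, 99, 110, 112] :=
  C.conv (f1276 C) (f407 C) (f1350 C) _ [127, 159, 164, 177] _ (by decide +kernel) (by decide +kernel) (by decide +kernel)

theorem f1352 : C.E (v6 C) [22, 30, 68, 88, 99, 110, 112] (v6 C) [12, 43, 52, 72, 106] :=
  C.sameSrc (f1351 C) (f1347 C)

theorem f1353 : C.S (v6 C) [23, 52, 70, 93, 110, 114] :=
  C.stEq (f1352 C) _ (by decide +kernel)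

theorem f1356 : C.S (v6 C) [11, 44, 64, 73, 97, 110, 123] :=
  C.stInv (f1266 C) _ (by decide +kernel)

theorem f1357 : C.S (v6 C) [22] :=
  C.stMul (f1356 C) (f1353 C) _ (by decide +kernel)

theorem f1358 : C.S (v6 C) [9, 36, 53, 71, 90, 110, 121] :=
  C.transfer (f1333 C) (f1357 C) [144, 156, 171] _ (by decide +kernel) (by decide +kernel) (by decide +kernel)

theorem f1361 : C.S (v6 C) [23, 30, 68, 70, 100, 109, 111] :=
  C.stMul (f1307 C) (f1307 C) _ (by decide +kernel)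

theorem f1369 : C.S (v6 C) [] :=
  C.stOne _

theorem f1371 : C.S (v6 C) [15, 67, 76, 100, 118] :=
  C.stMul (f1291 C) (f1266 C) _ (by decide +kernel)

theorem f1376 : C.T (v4 C) [4, 53, 82, 90, 110, 113] (v4 C) [14, 38, 50, 85, 108, 109, 120] :=
  C.conv (f890 C) (f893 C) (f893 C) _ [145, 152, 169, 171, 178] _ (by decide +kernel) (by decide +kernel) (by decide +kernel)

theorem f1377 : C.S (v4 C) [10, 27, 56, 84, 93, 109, 113] :=
  C.stMul (f407 C) (f421 C) _ (by decide +kernel)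

theorem f1378 : C.T (v4 C) [5, 27, 49, 82, 108, 124] (v6 C) [26, 46, 65, 84, 108, 110, 116] :=
  C.conv (f1285 C) (f1302 C) (f1377 C) _ [128, 173] _ (by decide +kernel) (by decide +kernel) (by decide +kernel)

theorem f1379 : C.S (v4 C) [8, 31, 60, 85, 98, 110, 125] :=
  C.stMul (f693 C) (f407 C) _ (by decide +kernel)

theorem f1380 : C.T (v4 C) [6, 29, 59, 88, 100, 121] (v5 C) [17, 45, 60, 101, 110, 115] :=
  C.conv (f1004 C) (f1032 C) (f1379 C) _ [147, 152, 174, 178] _ (by decide +kernel) (by decide +kernel) (by decide +kernel)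

theorem f1381 : C.T (v5 C) [17, 45, 60, 101, 110, 115] (v4 C) [6, 29, 59, 88, 100, 121] :=
  C.flip (f1380 C)

theorem f1382 : C.T (v6 C) [16, 42, 69, 81, 92, 109, 122] (v5 C) [7, 48, 65, 87, 115] :=
  C.closeT (p := (v4 C)) (pu := [4, 53, 82, 90, 110, 113])
    (C.pT (f1376 C)
    (C.pH [8, 30, 65, 84, 94, 117] [5, 27, 49, 82, 108, 124] (by decide +kernel)
    (C.pT (f1378 C)
    (C.pH [26, 38, 54, 89, 90, 113] [16, 42, 69, 81, 92, 109, 122] (by decide +kernel) (C.pNil _ _)))))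
    (C.pH [8, 30, 65, 84, 94, 117] [17, 45, 60, 101, 110, 115] (by decide +kernel)
    (C.pT (f1381 C)
    (C.pH [26, 38, 54, 89, 90, 113] [4, 53, 82, 90, 110, 113] (by decide +kernel) (C.pNil _ _))))
    (C.loop_of_one (relLoop1 C) _ _)

theorem f1383 : C.T (v5 C) [7, 48, 65, 87, 115] (v6 C) [16, 42, 69, 81, 92, 109, 122] :=
  C.flip (f1382 C)

theorem f1384 : C.T (v4 C) [13, 38, 53, 83, 94, 109, 117] (v4 C) [5, 35, 63, 84, 99, 109, 121] :=
  C.conv (f945 C) (f693 C) (f693 C) _ [143, 149, 169, 174, 177] _ (by decide +kernel) (by decide +kernel) (by decide +kernel)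

theorem f1385 : C.T (v4 C) [12, 46, 52, 87, 97, 113] (v6 C) [4, 34, 58, 80, 92, 116] :=
  C.conv (f1285 C) (f1302 C) (f1303 C) _ [134, 153, 168, 173, 177] _ (by decide +kernel) (by decide +kernel) (by decide +kernel)

theorem f1386 : C.S (v4 C) [13, 28, 60, 83, 108, 110, 119] :=
  C.stMul (f421 C) (f693 C) _ (by decide +kernel)

theorem f1387 : C.T (v4 C) [16, 31, 54, 84, 110, 119] (v6 C) [6, 47, 64, 87, 90, 122] :=
  C.conv (f1285 C) (f1302 C) (f1386 C) _ [144, 151, 169, 172, 178] _ (by decide +kernel) (by decide +kernel) (by decide +kernel)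

theorem f1388 : C.T (v6 C) [6, 47, 64, 87, 90, 122] (v4 C) [16, 31, 54, 84, 110, 119] :=
  C.flip (f1387 C)

theorem f1389 : C.T (v6 C) [25, 38, 65, 75, 105, 123] (v6 C) [22, 32, 64, 73, 102, 110, 113] :=
  C.closeT (p := (v4 C)) (pu := [13, 38, 53, 83, 94, 109, 117])
    (C.pT (f1384 C)
    (C.pH [8, 30, 65, 84, 94, 117] [12, 46, 52, 87, 97, 113] (by decide +kernel)
    (C.pT (f1385 C)
    (C.pH [26, 38, 54, 89, 90, 113] [25, 38, 65, 75, 105, 123] (by decide +kernel) (C.pNil _ _)))))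
    (C.pH [8, 30, 65, 84, 94, 117] [6, 47, 64, 87, 90, 122] (by decide +kernel)
    (C.pT (f1388 C)
    (C.pH [26, 38, 54, 89, 90, 113] [13, 38, 53, 83, 94, 109, 117] (by decide +kernel) (C.pNil _ _))))
    (C.loop_of_one (relLoop1 C) _ _)

theorem f1391 : C.S (v6 C) [23, 43, 50, 75, 100, 110, 114] :=
  C.stMul (f1358 C) (f1266 C) _ (by decide +kernel)

theorem f1394 : C.T (v4 C) [19, 54, 86, 95, 109, 120] (v4 C) [25, 41, 60, 89, 105, 109, 112] :=
  C.conv (f882 C) (f407 C) (f407 C) _ [138, 150, 164, 172, 178] _ (by decide +kernel) (by decide +kernel) (by decide +kernel)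

theorem f1395 : C.T (v4 C) [18, 45, 57, 72, 99, 110, 118] (v6 C) [17, 28, 63, 85, 95, 118] :=
  C.conv (f1285 C) (f1302 C) (f693 C) _ [128, 153, 170, 172, 178] _ (by decide +kernel) (by decide +kernel) (by decide +kernel)

theorem f1396 : C.T (v4 C) [15, 42, 65, 73, 107, 110, 115] (v6 C) [15, 39, 56, 83, 90, 109, 124] :=
  C.conv (f1285 C) (f1302 C) (f697 C) _ [147, 150, 164, 174, 177] _ (by decide +kernel) (by decide +kernel) (by decide +kernel)

theorem f1397 : C.T (v6 C) [15, 39, 56, 83, 90, 109, 124] (v4 C) [15, 42, 65, 73, 107, 110, 115] :=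
  C.flip (f1396 C)

theorem f1398 : C.T (v6 C) [22, 38, 58, 74, 99, 109, 122] (v6 C) [20, 46, 51, 86, 95, 120] :=
  C.closeT (p := (v4 C)) (pu := [19, 54, 86, 95, 109, 120])
    (C.pT (f1394 C)
    (C.pH [26, 38, 54, 89, 90, 113] [18, 45, 57, 72, 99, 110, 118] (by decide +kernel)
    (C.pT (f1395 C)
    (C.pH [8, 30, 65, 84, 94, 117] [22, 38, 58, 74, 99, 109, 122] (by decide +kernel) (C.pNil _ _)))))
    (C.pH [26, 38, 54, 89, 90, 113] [15, 39, 56, 83, 90, 109, 124] (by decide +kernel)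
    (C.pT (f1397 C)
    (C.pH [8, 30, 65, 84, 94, 117] [19, 54, 86, 95, 109, 120] (by decide +kernel) (C.pNil _ _))))
    (C.loop_of_one (relLoop2 C) _ _)

theorem f1400 : C.S (v6 C) [19, 43, 50, 81, 107, 115] :=
  C.stMul (f1358 C) (f1270 C) _ (by decide +kernel)

theorem f1403 : C.S (v5 C) [7, 29, 66, 74, 106, 124] :=
  C.stMul (f1141 C) (f986 C) _ (by decide +kernel)

theorem f1404 : C.T (v5 C) [24, 29, 63, 108, 110, 124] (v6 C) [23, 33, 65, 75, 92, 109, 115] :=
  C.conv (f1383 C) (f1403 C) (f1403 C) _ [143, 155, 165, 171, 178] _ (by decide +kernel) (by decide +kernel) (by decide +kernel)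

theorem f1405 : C.S (v5 C) [20, 30, 59, 71, 105, 121] :=
  C.stMul (f1008 C) (f1023 C) _ (by decide +kernel)

theorem f1406 : C.T (v5 C) [19, 33, 56, 70, 103, 118] (v6 C) [23, 46, 50, 72, 106, 110, 119] :=
  C.conv (f1383 C) (f1403 C) (f1405 C) _ [146, 151, 169, 176] _ (by decide +kernel) (by decide +kernel) (by decide +kernel)

theorem f1407 : C.T (v6 C) [23, 46, 50, 72, 106, 110, 119] (v5 C) [19, 33, 56, 70, 103, 118] :=
  C.flip (f1406 C)

theorem f1408 : C.T (v6 C) [32, 55, 74, 99, 110, 125] (v6 C) [12, 28, 68, 73, 110, 119] :=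
  C.closeT (p := (v5 C)) (pu := [24, 29, 63, 108, 110, 124])
    (C.pT (f1404 C)
    (C.pH [12, 35, 50, 83] [32, 55, 74, 99, 110, 125] (by decide +kernel) (C.pNil _ _)))
    (C.pH [12, 35, 50, 83] [23, 46, 50, 72, 106, 110, 119] (by decide +kernel)
    (C.pT (f1407 C)
    (C.pH [12, 35, 50, 83] [24, 29, 63, 108, 110, 124] (by decide +kernel) (C.pNil _ _))))
    (C.loop_of_one (relLoop0 C) _ _)

theorem f1410 : C.S (v6 C) [14, 41, 67, 84, 93, 110, 111] :=
  C.stMul (f1270 C) (f1358 C) _ (by decide +kernel)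

theorem f1413 : C.T (v5 C) [26, 34, 87, 106, 110, 125] (v6 C) [12, 28, 49, 79, 108, 122] :=
  C.conv (f1383 C) (f1403 C) (f1403 C) _ [137, 153, 169, 176, 177] _ (by decide +kernel) (by decide +kernel) (by decide +kernel)

theorem f1414 : C.T (v5 C) [13, 45, 67, 71, 104, 110, 121] (v6 C) [23, 54, 85, 106, 109, 117] :=
  C.conv (f1383 C) (f1403 C) (f986 C) _ [132, 151, 169, 173] _ (by decide +kernel) (by decide +kernel) (by decide +kernel)

theorem f1415 : C.T (v6 C) [23, 54, 85, 106, 109, 117] (v5 C) [13, 45, 67, 71, 104, 110, 121] :=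
  C.flip (f1414 C)

theorem f1416 : C.T (v6 C) [23, 46, 64, 89, 101, 109, 117] (v6 C) [12, 44, 61, 79, 96, 118] :=
  C.closeT (p := (v5 C)) (pu := [26, 34, 87, 106, 110, 125])
    (C.pT (f1413 C)
    (C.pH [12, 35, 50, 83] [23, 46, 64, 89, 101, 109, 117] (by decide +kernel) (C.pNil _ _)))
    (C.pH [12, 35, 50, 83] [23, 54, 85, 106, 109, 117] (by decide +kernel)
    (C.pT (f1415 C)
    (C.pH [12, 35, 50, 83] [26, 34, 87, 106, 110, 125] (by decide +kernel) (C.pNil _ _))))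
    (C.loop_of_one (relLoop0 C) _ _)

theorem f1418 : C.S (v6 C) [24, 35, 72, 96, 109, 113] :=
  C.stMul (f1270 C) (f1291 C) _ (by decide +kernel)

theorem f1420 : C.T (v5 C) [26, 55, 78, 98, 110, 124] (v5 C) [15, 28, 50, 86, 97, 110, 117] :=
  C.conv (f1129 C) (f986 C) (f986 C) _ [151, 169, 172, 177] _ (by decide +kernel) (by decide +kernel) (by decide +kernel)

theorem f1421 : C.T (v5 C) [19, 38, 67, 84, 108, 109, 114] (v6 C) [6, 39, 67, 79, 101, 110] :=
  C.conv (f1383 C) (f1403 C) (f1141 C) _ [134, 163, 164] _ (by decide +kernel) (by decide +kernel) (by decide +kernel)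

theorem f1422 : C.S (v5 C) [13, 35, 69, 89, 94, 109, 112] :=
  C.stMul (f1023 C) (f986 C) _ (by decide +kernel)

theorem f1423 : C.S (v5 C) [24, 42, 52, 76, 99, 109, 120] :=
  C.stMul (f1141 C) (f1422 C) _ (by decide +kernel)

theorem f1424 : C.T (v5 C) [45, 54, 78, 109, 125] (v6 C) [10, 38, 61, 78, 98, 117] :=
  C.conv (f1383 C) (f1403 C) (f1423 C) _ [144, 153, 178] _ (by decide +kernel) (by decide +kernel) (by decide +kernel)

theorem f1425 : C.T (v6 C) [10, 38, 61, 78, 98, 117] (v5 C) [45, 54, 78, 109, 125] :=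
  C.flip (f1424 C)

theorem f1426 : C.T (v6 C) [4, 29, 62, 70, 94, 110, 115] (v6 C) [23, 29, 78, 90, 121] :=
  C.closeT (p := (v5 C)) (pu := [26, 55, 78, 98, 110, 124])
    (C.pT (f1420 C)
    (C.pH [8, 30, 65, 84, 94, 117] [19, 38, 67, 84, 108, 109, 114] (by decide +kernel)
    (C.pT (f1421 C)
    (C.pH [26, 38, 54, 89, 90, 113] [4, 29, 62, 70, 94, 110, 115] (by decide +kernel) (C.pNil _ _)))))
    (C.pH [8, 30, 65, 84, 94, 117] [10, 38, 61, 78, 98, 117] (by decide +kernel)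
    (C.pT (f1425 C)
    (C.pH [26, 38, 54, 89, 90, 113] [26, 55, 78, 98, 110, 124] (by decide +kernel) (C.pNil _ _))))
    (C.loop_of_one (relLoop1 C) _ _)

theorem f1429 : C.T (v5 C) [8, 34, 64, 108, 110, 124] (v5 C) [17, 47, 73, 102, 110, 113] :=
  C.conv (f1129 C) (f986 C) (f986 C) _ [134, 157, 167, 172, 178] _ (by decide +kernel) (by decide +kernel) (by decide +kernel)

theorem f1430 : C.S (v5 C) [20, 48, 54, 82, 103, 116] :=
  C.stMul (f1023 C) (f1141 C) _ (by decide +kernel)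

theorem f1431 : C.T (v5 C) [22, 31, 51, 80, 93, 109, 125] (v6 C) [6, 29, 76, 104, 110, 120] :=
  C.conv (f1383 C) (f1403 C) (f1430 C) _ [136, 161, 164, 171, 178] _ (by decide +kernel) (by decide +kernel) (by decide +kernel)

theorem f1432 : C.S (v5 C) [7, 35, 57, 86, 101, 110, 119] :=
  C.stMul (f1008 C) (f1403 C) _ (by decide +kernel)

theorem f1433 : C.T (v5 C) [5, 31, 56, 71, 104, 115] (v6 C) [21, 43, 62, 83, 104, 111] :=
  C.conv (f1383 C) (f1403 C) (f1432 C) _ [141, 159, 166, 171] _ (by decide +kernel) (by decide +kernel) (by decide +kernel)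

theorem f1434 : C.T (v6 C) [21, 43, 62, 83, 104, 111] (v5 C) [5, 31, 56, 71, 104, 115] :=
  C.flip (f1433 C)

theorem f1435 : C.T (v6 C) [4, 55, 78, 102, 110, 112] (v6 C) [12, 43, 62, 89, 96, 123] :=
  C.closeT (p := (v5 C)) (pu := [8, 34, 64, 108, 110, 124])
    (C.pT (f1429 C)
    (C.pH [8, 30, 65, 84, 94, 117] [22, 31, 51, 80, 93, 109, 125] (by decide +kernel)
    (C.pT (f1431 C)
    (C.pH [26, 38, 54, 89, 90, 113] [4, 55, 78, 102, 110, 112] (by decide +kernel) (C.pNil _ _)))))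
    (C.pH [8, 30, 65, 84, 94, 117] [21, 43, 62, 83, 104, 111] (by decide +kernel)
    (C.pT (f1434 C)
    (C.pH [26, 38, 54, 89, 90, 113] [8, 34, 64, 108, 110, 124] (by decide +kernel) (C.pNil _ _))))
    (C.loop_of_one (relLoop1 C) _ _)

theorem f1437 : C.S (v6 C) [22, 38, 64, 77, 91, 115] :=
  C.stMul (f1270 C) (f1270 C) _ (by decide +kernel)

theorem f1439 : C.T (v5 C) [16, 31, 63, 89, 97, 109, 125] (v5 C) [26, 43, 60, 76, 94, 109, 115] :=
  C.conv (f1238 C) (f1153 C) (f1153 C) _ [132, 163, 168, 175, 177] _ (by decide +kernel) (by decide +kernel) (by decide +kernel)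

theorem f1440 : C.T (v5 C) [14, 43, 53, 86, 92, 109] (v6 C) [4, 28, 49, 89, 96] :=
  C.conv (f1383 C) (f1403 C) (f1422 C) _ [127, 153, 165, 172, 177] _ (by decide +kernel) (by decide +kernel) (by decide +kernel)

theorem f1441 : C.S (v5 C) [40, 65, 79, 103, 110, 124] :=
  C.stMul (f1008 C) (f1141 C) _ (by decide +kernel)

theorem f1442 : C.T (v5 C) [26, 47, 62, 94, 115] (v6 C) [25, 38, 55, 80, 104, 119] :=
  C.conv (f1383 C) (f1403 C) (f1441 C) _ [163, 165, 173, 177] _ (by decide +kernel) (by decide +kernel) (by decide +kernel)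

theorem f1443 : C.T (v6 C) [25, 38, 55, 80, 104, 119] (v5 C) [26, 47, 62, 94, 115] :=
  C.flip (f1442 C)

theorem f1444 : C.T (v6 C) [25, 39, 51, 84, 96, 110, 123] (v6 C) [4, 36, 51, 86, 92, 116] :=
  C.closeT (p := (v5 C)) (pu := [16, 31, 63, 89, 97, 109, 125])
    (C.pT (f1439 C)
    (C.pH [8, 30, 65, 84, 94, 117] [14, 43, 53, 86, 92, 109] (by decide +kernel)
    (C.pT (f1440 C)
    (C.pH [26, 38, 54, 89, 90, 113] [25, 39, 51, 84, 96, 110, 123] (by decide +kernel) (C.pNil _ _)))))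
    (C.pH [8, 30, 65, 84, 94, 117] [25, 38, 55, 80, 104, 119] (by decide +kernel)
    (C.pT (f1443 C)
    (C.pH [26, 38, 54, 89, 90, 113] [16, 31, 63, 89, 97, 109, 125] (by decide +kernel) (C.pNil _ _))))
    (C.loop_of_one (relLoop1 C) _ _)

theorem f1446 : C.S (v6 C) [7, 41, 67, 76, 108, 117] :=
  C.stMul (f1307 C) (f1270 C) _ (by decide +kernel)

theorem f1448 : C.T (v5 C) [26, 29, 57, 83, 105, 110, 111] (v6 C) [24, 48, 61, 73, 96, 109, 116] :=
  C.conv (f1264 C) (f1153 C) (f1153 C) _ [146, 157, 169, 173, 178] _ (by decide +kernel) (by decide +kernel) (by decide +kernel)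

theorem f1449 : C.T (v5 C) [37, 52, 81, 102, 115] (v5 C) [36, 66, 70, 106, 110, 118] :=
  C.conv (f1229 C) (f986 C) (f1023 C) _ [143, 156, 169, 173, 177] _ (by decide +kernel) (by decide +kernel) (by decide +kernel)

theorem f1450 : C.T (v5 C) [36, 66, 70, 106, 110, 118] (v5 C) [37, 52, 81, 102, 115] :=
  C.flip (f1449 C)

theorem f1451 : C.T (v5 C) [8, 32, 65, 70, 102, 114] (v6 C) [6, 35, 62, 70, 96, 110, 112] :=
  C.conv (f1264 C) (f1153 C) (f1023 C) _ [128, 156, 167, 175] _ (by decide +kernel) (by decide +kernel) (by decide +kernel)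

theorem f1452 : C.T (v6 C) [6, 35, 62, 70, 96, 110, 112] (v5 C) [8, 32, 65, 70, 102, 114] :=
  C.flip (f1451 C)

theorem f1453 : C.T (v6 C) [16, 52, 88, 92, 109, 112] (v6 C) [21, 45, 65, 75, 104, 121] :=
  C.closeT (p := (v5 C)) (pu := [26, 29, 57, 83, 105, 110, 111])
    (C.pT (f1448 C)
    (C.pH [8, 30, 65, 84, 94, 117] [16, 52, 88, 92, 109, 112] (by decide +kernel) (C.pNil _ _)))
    (C.pH [26, 38, 54, 89, 90, 113] [6, 35, 62, 70, 96, 110, 112] (by decide +kernel)
    (C.pT (f1452 C)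
    (C.pH [8, 30, 65, 84, 94, 117] [36, 66, 70, 106, 110, 118] (by decide +kernel)
    (C.pT (f1450 C)
    (C.pH [26, 38, 54, 89, 90, 113] [26, 29, 57, 83, 105, 110, 111] (by decide +kernel) (C.pNil _ _))))))
    (C.loop_of_one (relLoop1 C) _ _)

theorem f1456 : C.T (v6 C) [10, 34, 60] (v7 C) [] :=
  C.defn _ _

theorem f1457 : C.S (v6 C) [11, 44, 64, 73, 97, 110, 123] :=
  C.stInv (f1266 C) _ (by decide +kernel)

theorem f1458 : C.S (v6 C) [22] :=
  C.stMul (f1457 C) (f1353 C) _ (by decide +kernel)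

theorem f1459 : C.S (v7 C) [20, 29, 51, 76, 96, 109, 111] :=
  C.transfer (f1456 C) (f1458 C) [142, 155, 164, 173] _ (by decide +kernel) (by decide +kernel) (by decide +kernel)

theorem f1460 : C.S (v7 C) [20, 48, 66, 80, 108, 110, 115] :=
  C.transfer (f1456 C) (f1358 C) [142, 156, 165, 175, 178] _ (by decide +kernel) (by decide +kernel) (by decide +kernel)

theorem f1461 : C.S (v6 C) [23, 43, 50, 75, 100, 110, 114] :=
  C.stMul (f1358 C) (f1266 C) _ (by decide +kernel)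

theorem f1462 : C.S (v6 C) [11, 44, 64, 73, 97, 110, 123] :=
  C.stInv (f1266 C) _ (by decide +kernel)

theorem f1463 : C.S (v6 C) [22, 48, 68, 70, 96, 114] :=
  C.stMul (f1462 C) (f1461 C) _ (by decide +kernel)

theorem f1464 : C.S (v7 C) [7, 39, 56, 89, 103, 119] :=
  C.transfer (f1456 C) (f1463 C) [129, 170, 175, 178] _ (by decide +kernel) (by decide +kernel) (by decide +kernel)

theorem f1465 : C.S (v6 C) [12, 43, 52, 87, 108, 110, 119] :=
  C.stMul (f1266 C) (f1270 C) _ (by decide +kernel)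

theorem f1466 : C.S (v6 C) [12, 34, 51, 81, 108, 110, 120] :=
  C.stInv (f1270 C) _ (by decide +kernel)

theorem f1467 : C.S (v6 C) [22, 27, 69, 79, 96, 109, 117] :=
  C.stMul (f1466 C) (f1465 C) _ (by decide +kernel)

theorem f1468 : C.S (v7 C) [20, 54, 86, 100, 115] :=
  C.transfer (f1456 C) (f1467 C) [142, 163, 172] _ (by decide +kernel) (by decide +kernel) (by decide +kernel)

theorem f1469 : C.S (v6 C) [22, 38, 64, 77, 91, 115] :=
  C.stMul (f1270 C) (f1270 C) _ (by decide +kernel)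

theorem f1470 : C.S (v6 C) [11, 44, 64, 73, 97, 110, 123] :=
  C.stInv (f1266 C) _ (by decide +kernel)

theorem f1471 : C.S (v6 C) [23, 30, 68, 70, 100, 109, 111] :=
  C.stMul (f1470 C) (f1469 C) _ (by decide +kernel)

theorem f1472 : C.S (v7 C) [9, 44, 70, 110, 118] :=
  C.transfer (f1456 C) (f1471 C) [131, 151, 169, 175, 177] _ (by decide +kernel) (by decide +kernel) (by decide +kernel)

theorem f1473 : C.S (v6 C) [19, 43, 50, 81, 107, 115] :=
  C.stMul (f1358 C) (f1270 C) _ (by decide +kernel)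

theorem f1474 : C.S (v6 C) [12, 34, 51, 81, 108, 110, 120] :=
  C.stInv (f1270 C) _ (by decide +kernel)

theorem f1475 : C.S (v6 C) [25, 30, 50, 71, 102, 120] :=
  C.stMul (f1474 C) (f1473 C) _ (by decide +kernel)

theorem f1476 : C.S (v7 C) [13, 45, 66, 71, 92, 109, 125] :=
  C.transfer (f1456 C) (f1475 C) [135, 162, 168, 173] _ (by decide +kernel) (by decide +kernel) (by decide +kernel)

theorem f1478 : C.T (v6 C) [14, 39, 50, 77, 102, 117] (v6 C) [17, 40, 52, 84, 98, 110, 122] :=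
  C.conv (f1333 C) (f1361 C) (f1361 C) _ [143, 160, 166, 178] _ (by decide +kernel) (by decide +kernel) (by decide +kernel)

theorem f1479 : C.T (v6 C) [25, 34, 56, 77, 107, 117] (v7 C) [25, 29, 60, 70, 92, 109, 115] :=
  C.conv (f1456 C) (f1369 C) (f1266 C) _ [147, 149, 167, 171, 178] _ (by decide +kernel) (by decide +kernel) (by decide +kernel)

theorem f1480 : C.T (v7 C) [9, 48, 56, 87, 107, 110, 121] (v6 C) [14, 34, 61, 73, 103, 119] :=
  C.closeT (p := (v6 C)) (pu := [14, 39, 50, 77, 102, 117])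
    (C.pT (f1478 C)
    (C.pH [12, 35, 50, 83] [25, 34, 56, 77, 107, 117] (by decide +kernel)
    (C.pT (f1479 C)
    (C.pH [12, 35, 50, 83] [9, 48, 56, 87, 107, 110, 121] (by decide +kernel) (C.pNil _ _)))))
    (C.pH [12, 35, 50, 83] [14, 39, 50, 77, 102, 117] (by decide +kernel) (C.pNil _ _))
    (C.loop_of_one (relLoop0 C) _ _)

theorem f1481 : C.T (v6 C) [14, 34, 61, 73, 103, 119] (v7 C) [9, 48, 56, 87, 107, 110, 121] :=
  C.flip (f1480 C)

theorem f1482 : C.T (v6 C) [14, 34, 61, 73, 103, 119] (v7 C) [22, 42, 63, 71, 103, 110, 112] :=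
  C.conv (f1456 C) (f1369 C) (f1369 C) _ [144, 169, 171] _ (by decide +kernel) (by decide +kernel) (by decide +kernel)

theorem f1483 : C.E (v7 C) [22, 42, 63, 71, 103, 110, 112] (v7 C) [9, 48, 56, 87, 107, 110, 121] :=
  C.sameSrc (f1482 C) (f1481 C)

theorem f1484 : C.S (v7 C) [5, 47, 51, 84, 96, 119] :=
  C.stEq (f1483 C) _ (by decide +kernel)

theorem f1490 : C.T (v6 C) [14, 48, 55, 81, 92, 110, 112] (v6 C) [20, 44, 63, 76, 95, 109, 121] :=
  C.conv (f1389 C) (f1391 C) (f1391 C) _ [133, 163, 166, 178] _ (by decide +kernel) (by decide +kernel) (by decide +kernel)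

theorem f1491 : C.S (v6 C) [15, 67, 76, 100, 118] :=
  C.stMul (f1291 C) (f1266 C) _ (by decide +kernel)

theorem f1492 : C.T (v6 C) [22, 46, 63, 76, 95, 109, 121] (v7 C) [5, 28, 65, 75, 96, 110, 113] :=
  C.conv (f1456 C) (f1369 C) (f1491 C) _ [127, 156, 167, 174, 177] _ (by decide +kernel) (by decide +kernel) (by decide +kernel)

theorem f1493 : C.T (v7 C) [5, 40, 65, 75, 96, 110, 113] (v6 C) [14, 45, 50, 71, 102, 122] :=
  C.closeT (p := (v6 C)) (pu := [14, 48, 55, 81, 92, 110, 112])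
    (C.pT (f1490 C)
    (C.pH [12, 35, 50, 83] [22, 46, 63, 76, 95, 109, 121] (by decide +kernel)
    (C.pT (f1492 C)
    (C.pH [12, 35, 50, 83] [5, 40, 65, 75, 96, 110, 113] (by decide +kernel) (C.pNil _ _)))))
    (C.pH [12, 35, 50, 83] [14, 48, 55, 81, 92, 110, 112] (by decide +kernel) (C.pNil _ _))
    (C.loop_of_one (relLoop0 C) _ _)

theorem f1494 : C.T (v6 C) [14, 45, 50, 71, 102, 122] (v7 C) [5, 40, 65, 75, 96, 110, 113] :=
  C.flip (f1493 C)

theorem f1495 : C.T (v6 C) [14, 45, 50, 71, 102, 122] (v7 C) [9, 32, 66, 84, 97, 111] :=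
  C.conv (f1456 C) (f1369 C) (f1369 C) _ [131, 160, 165, 174, 177] _ (by decide +kernel) (by decide +kernel) (by decide +kernel)

theorem f1496 : C.E (v7 C) [9, 32, 66, 84, 97, 111] (v7 C) [5, 40, 65, 75, 96, 110, 113] :=
  C.sameSrc (f1495 C) (f1494 C)

theorem f1497 : C.S (v7 C) [9, 39, 68, 74, 96, 111] :=
  C.stEq (f1496 C) _ (by decide +kernel)

theorem f1502 : C.T (v6 C) [19, 29, 50, 80, 93, 125] (v7 C) [24, 30, 67, 85, 103, 109, 116] :=
  C.conv (f1456 C) (f1369 C) (f1369 C) _ [146, 163, 169, 173, 177] _ (by decide +kernel) (by decide +kernel) (by decide +kernel)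

theorem f1503 : C.T (v6 C) [6, 36, 53, 87, 102, 110, 113] (v7 C) [6, 43, 52, 74, 98, 110, 117] :=
  C.conv (f1456 C) (f1369 C) (f1266 C) _ [128, 160, 167, 174, 177] _ (by decide +kernel) (by decide +kernel) (by decide +kernel)

theorem f1504 : C.T (v7 C) [6, 43, 52, 74, 98, 110, 117] (v6 C) [6, 36, 53, 87, 102, 110, 113] :=
  C.flip (f1503 C)

theorem f1505 : C.T (v7 C) [6, 43, 68, 78, 98, 110, 112] (v7 C) [24, 30, 85, 103, 110, 112] :=
  C.closeT (p := (v6 C)) (pu := [19, 29, 50, 80, 93, 125])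
    (C.pT (f1502 C)
    (C.pH [12, 35, 50, 83] [6, 43, 68, 78, 98, 110, 112] (by decide +kernel) (C.pNil _ _)))
    (C.pH [12, 35, 50, 83] [6, 43, 52, 74, 98, 110, 117] (by decide +kernel)
    (C.pT (f1504 C)
    (C.pH [12, 35, 50, 83] [19, 29, 50, 80, 93, 125] (by decide +kernel) (C.pNil _ _))))
    (C.loop_of_one (relLoop0 C) _ _)

theorem f1507 : C.S (v7 C) [] :=
  C.stOne _

theorem f1509 : C.T (v6 C) [8, 46, 60, 78, 102, 109] (v7 C) [9, 37, 65, 86, 101, 109, 125] :=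
  C.conv (f1456 C) (f1369 C) (f1369 C) _ [131, 161, 165, 173, 177] _ (by decide +kernel) (by decide +kernel) (by decide +kernel)

theorem f1510 : C.T (v6 C) [21, 48, 59, 74, 105, 115] (v7 C) [21, 45, 59, 84, 98, 110] :=
  C.conv (f1456 C) (f1369 C) (f1307 C) _ [143, 156, 168, 171, 178] _ (by decide +kernel) (by decide +kernel) (by decide +kernel)

theorem f1511 : C.T (v7 C) [21, 45, 59, 84, 98, 110] (v6 C) [21, 48, 59, 74, 105, 115] :=
  C.flip (f1510 C)

theorem f1512 : C.T (v7 C) [17, 36, 59, 84, 98, 110, 124] (v7 C) [10, 45, 69, 75, 94, 125] :=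
  C.closeT (p := (v6 C)) (pu := [8, 46, 60, 78, 102, 109])
    (C.pT (f1509 C)
    (C.pH [12, 35, 50, 83] [17, 36, 59, 84, 98, 110, 124] (by decide +kernel) (C.pNil _ _)))
    (C.pH [12, 35, 50, 83] [21, 45, 59, 84, 98, 110] (by decide +kernel)
    (C.pT (f1511 C)
    (C.pH [12, 35, 50, 83] [8, 46, 60, 78, 102, 109] (by decide +kernel) (C.pNil _ _))))
    (C.loop_of_one (relLoop0 C) _ _)

theorem f1514 : C.S (v7 C) [17, 27, 53, 80, 90, 109, 111] :=
  C.stMul (f1484 C) (f1484 C) _ (by decide +kernel)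

theorem f1516 : C.T (v6 C) [49, 71, 99, 110] (v6 C) [19, 32, 59, 84, 92, 109, 123] :=
  C.conv (f1426 C) (f1270 C) (f1270 C) _ [138, 157, 166, 173] _ (by decide +kernel) (by decide +kernel) (by decide +kernel)

theorem f1517 : C.T (v6 C) [17, 47, 71, 108, 123] (v7 C) [7, 41, 61, 80, 93, 118] :=
  C.conv (f1456 C) (f1369 C) (f1491 C) _ [129, 154, 167, 173, 178] _ (by decide +kernel) (by decide +kernel) (by decide +kernel)

theorem f1518 : C.T (v6 C) [8, 34, 59, 89, 106, 114] (v7 C) [13, 48, 60, 78, 94, 110, 113] :=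
  C.conv (f1456 C) (f1369 C) (f1291 C) _ [135, 161, 164, 177] _ (by decide +kernel) (by decide +kernel) (by decide +kernel)

theorem f1519 : C.T (v7 C) [13, 48, 60, 78, 94, 110, 113] (v6 C) [8, 34, 59, 89, 106, 114] :=
  C.flip (f1518 C)

theorem f1520 : C.T (v7 C) [17, 46, 61, 80, 93, 118] (v7 C) [16, 43, 64, 84, 103, 109, 123] :=
  C.closeT (p := (v6 C)) (pu := [49, 71, 99, 110])
    (C.pT (f1516 C)
    (C.pH [26, 38, 54, 89, 90, 113] [17, 47, 71, 108, 123] (by decide +kernel)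
    (C.pT (f1517 C)
    (C.pH [8, 30, 65, 84, 94, 117] [17, 46, 61, 80, 93, 118] (by decide +kernel) (C.pNil _ _)))))
    (C.pH [26, 38, 54, 89, 90, 113] [13, 48, 60, 78, 94, 110, 113] (by decide +kernel)
    (C.pT (f1519 C)
    (C.pH [8, 30, 65, 84, 94, 117] [49, 71, 99, 110] (by decide +kernel) (C.pNil _ _))))
    (C.loop_of_one (relLoop2 C) _ _)

theorem f1523 : C.T (v7 C) [20, 50] (v8 C) [] :=
  C.defn _ _

theorem f1524 : C.S (v7 C) [20, 48, 66, 80, 108, 110, 115] :=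
  C.stInv (f1460 C) _ (by decide +kernel)

theorem f1525 : C.S (v7 C) [11, 44, 56, 75, 90, 109, 118] :=
  C.stMul (f1524 C) (f1464 C) _ (by decide +kernel)

theorem f1526 : C.S (v8 C) [20, 63, 89, 93, 110, 115] :=
  C.transfer (f1523 C) (f1525 C) [142, 163, 166, 173, 178] _ (by decide +kernel) (by decide +kernel) (by decide +kernel)

theorem f1527 : C.S (v7 C) [20, 48, 66, 80, 108, 110, 115] :=
  C.stInv (f1460 C) _ (by decide +kernel)

theorem f1528 : C.S (v7 C) [28, 52, 73, 91, 110, 119] :=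
  C.stMul (f1527 C) (f1468 C) _ (by decide +kernel)

theorem f1529 : C.S (v8 C) [31, 53, 71, 96, 116] :=
  C.transfer (f1523 C) (f1528 C) [152, 169] _ (by decide +kernel) (by decide +kernel) (by decide +kernel)

theorem f1530 : C.S (v7 C) [20, 29, 51, 76, 96, 109, 111] :=
  C.stInv (f1459 C) _ (by decide +kernel)

theorem f1531 : C.S (v7 C) [24, 41, 51, 71, 93, 109, 121] :=
  C.stMul (f1530 C) (f1476 C) _ (by decide +kernel)

theorem f1532 : C.S (v8 C) [11, 31, 60, 106, 109, 122] :=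
  C.transfer (f1523 C) (f1531 C) [133, 151, 170, 174, 177] _ (by decide +kernel) (by decide +kernel) (by decide +kernel)

theorem f1533 : C.S (v7 C) [20, 48, 51, 80, 93, 117] :=
  C.stMul (f1484 C) (f1472 C) _ (by decide +kernel)

theorem f1534 : C.S (v7 C) [10, 28, 58, 124] :=
  C.stMul (f1472 C) (f1459 C) _ (by decide +kernel)

theorem f1535 : C.S (v7 C) [10, 28, 58, 124] :=
  C.stInv (f1534 C) _ (by decide +kernel)

theorem f1536 : C.S (v7 C) [9, 58, 84, 95, 113] :=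
  C.stMul (f1535 C) (f1533 C) _ (by decide +kernel)

theorem f1537 : C.S (v8 C) [12, 27, 60, 85, 103, 110, 114] :=
  C.transfer (f1523 C) (f1536 C) [134, 163, 165, 174] _ (by decide +kernel) (by decide +kernel) (by decide +kernel)

theorem f1538 : C.S (v7 C) [5, 28, 64, 80, 108, 110, 113] :=
  C.stMul (f1472 C) (f1484 C) _ (by decide +kernel)

theorem f1539 : C.S (v7 C) [10, 28, 57, 75, 98, 109, 117] :=
  C.stInv (f1484 C) _ (by decide +kernel)

theorem f1540 : C.S (v7 C) [45, 55, 81, 108, 115] :=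
  C.stMul (f1539 C) (f1538 C) _ (by decide +kernel)

theorem f1541 : C.S (v8 C) [28, 62, 72, 94, 114] :=
  C.transfer (f1523 C) (f1540 C) [150, 170, 174] _ (by decide +kernel) (by decide +kernel) (by decide +kernel)

theorem f1542 : C.S (v7 C) [20, 39, 54, 78, 100] :=
  C.stMul (f1476 C) (f1497 C) _ (by decide +kernel)

theorem f1543 : C.S (v7 C) [10, 44, 52, 88, 108, 110, 121] :=
  C.stMul (f1464 C) (f1497 C) _ (by decide +kernel)

theorem f1544 : C.S (v7 C) [7, 41, 61, 71, 94, 109, 115] :=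
  C.stInv (f1543 C) _ (by decide +kernel)

theorem f1545 : C.S (v7 C) [11, 27, 61, 70, 100, 118] :=
  C.stMul (f1544 C) (f1542 C) _ (by decide +kernel)

theorem f1546 : C.S (v8 C) [20, 42, 57, 78, 94, 110, 117] :=
  C.transfer (f1523 C) (f1545 C) [142, 153, 177] _ (by decide +kernel) (by decide +kernel) (by decide +kernel)

theorem f1547 : C.S (v7 C) [47, 62, 87, 90, 110, 118] :=
  C.stMul (f1460 C) (f1459 C) _ (by decide +kernel)

theorem f1548 : C.S (v7 C) [5, 46, 62, 81, 95, 110, 115] :=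
  C.stMul (f1484 C) (f1547 C) _ (by decide +kernel)

theorem f1549 : C.S (v7 C) [14, 39, 58, 78, 93, 124] :=
  C.stMul (f1497 C) (f1484 C) _ (by decide +kernel)

theorem f1550 : C.S (v7 C) [14, 35, 54, 80, 100, 109, 118] :=
  C.stInv (f1549 C) _ (by decide +kernel)

theorem f1551 : C.S (v7 C) [15, 37, 66, 85, 98, 109, 119] :=
  C.stMul (f1550 C) (f1548 C) _ (by decide +kernel)

theorem f1552 : C.S (v8 C) [28, 53, 74, 100, 109, 123] :=
  C.transfer (f1523 C) (f1551 C) [150, 168, 172, 177] _ (by decide +kernel) (by decide +kernel) (by decide +kernel)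

theorem f1553 : C.T (v8 C) [] (v7 C) [20, 50] :=
  C.flip (f1523 C)

theorem f1554 : C.T (v6 C) [6, 30, 60, 76, 91] (v7 C) [7, 29, 51, 74, 99, 109, 113] :=
  C.conv (f1456 C) (f1369 C) (f1369 C) _ [129, 152, 164, 172] _ (by decide +kernel) (by decide +kernel) (by decide +kernel)

theorem f1555 : C.S (v7 C) [14, 39, 58, 78, 93, 124] :=
  C.stMul (f1497 C) (f1484 C) _ (by decide +kernel)

theorem f1556 : C.S (v7 C) [17, 47, 62, 89, 92, 118] :=
  C.stMul (f1464 C) (f1555 C) _ (by decide +kernel)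

theorem f1557 : C.S (v7 C) [5, 46, 62, 75, 99, 110, 117] :=
  C.stMul (f1476 C) (f1556 C) _ (by decide +kernel)

theorem f1558 : C.S (v7 C) [14, 38, 60, 78, 90, 116] :=
  C.stMul (f1497 C) (f1557 C) _ (by decide +kernel)

theorem f1559 : C.S (v7 C) [9, 29, 61, 80, 94] :=
  C.stMul (f1484 C) (f1558 C) _ (by decide +kernel)

theorem f1560 : C.T (v7 C) [17, 42, 84, 107, 109, 119] (v7 C) [24, 47, 53, 83, 102, 110, 125] :=
  C.conv (f1512 C) (f1514 C) (f1559 C) _ [137, 161, 169, 172, 177] _ (by decide +kernel) (by decide +kernel) (by decide +kernel)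

theorem f1561 : C.T (v7 C) [12, 33, 59, 73, 100, 109, 111] (v8 C) [14, 47, 69, 82, 110, 124] :=
  C.conv (f1523 C) (f1507 C) (f1459 C) _ [136, 153, 165] _ (by decide +kernel) (by decide +kernel) (by decide +kernel)

theorem f1562 : C.T (v8 C) [5, 32, 57, 83, 90] (v6 C) [21, 40, 54, 99, 110, 114] :=
  C.closeT (p := (v6 C)) (pu := [6, 30, 60, 76, 91])
    (C.pT (f1554 C)
    (C.pH [8, 30, 65, 84, 94, 117] [17, 42, 84, 107, 109, 119] (by decide +kernel)
    (C.pT (f1560 C)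
    (C.pH [26, 38, 54, 89, 90, 113] [12, 33, 59, 73, 100, 109, 111] (by decide +kernel)
    (C.pT (f1561 C)
    (C.pH [8, 30, 65, 84, 94, 117] [5, 32, 57, 83, 90] (by decide +kernel) (C.pNil _ _)))))))
    (C.pH [26, 38, 54, 89, 90, 113] [6, 30, 60, 76, 91] (by decide +kernel) (C.pNil _ _))
    (C.loop_of_one (relLoop1 C) _ _)

theorem f1563 : C.T (v6 C) [21, 40, 54, 99, 110, 114] (v8 C) [5, 32, 57, 83, 90] :=
  C.flip (f1562 C)

theorem f1564 : C.S (v8 C) [11, 38, 67, 74, 92, 110] :=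
  C.transfer (f1563 C) (f1353 C) [134, 170, 172, 178] _ (by decide +kernel) (by decide +kernel) (by decide +kernel)

theorem f1565 : C.S (v6 C) [15, 67, 76, 100, 118] :=
  C.stMul (f1291 C) (f1266 C) _ (by decide +kernel)

theorem f1566 : C.S (v6 C) [9, 36, 53, 71, 90, 110, 121] :=
  C.stInv (f1358 C) _ (by decide +kernel)

theorem f1567 : C.S (v6 C) [18, 29, 50, 88, 104, 121] :=
  C.stMul (f1566 C) (f1565 C) _ (by decide +kernel)

theorem f1568 : C.S (v8 C) [24, 48, 57, 78, 108, 110, 120] :=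
  C.transfer (f1563 C) (f1567 C) [129, 159, 170, 175] _ (by decide +kernel) (by decide +kernel) (by decide +kernel)

theorem f1570 : C.T (v6 C) [19, 48, 50, 71, 92, 109, 112] (v6 C) [14, 38, 56, 84, 105, 109, 111] :=
  C.conv (f1416 C) (f1418 C) (f1418 C) _ [138, 155, 165, 174, 177] _ (by decide +kernel) (by decide +kernel) (by decide +kernel)

theorem f1571 : C.T (v6 C) [5, 32, 60, 87, 107, 124] (v8 C) [23, 30, 61, 83, 104] :=
  C.conv (f1563 C) (f1369 C) (f1307 C) _ [141, 150, 169, 178] _ (by decide +kernel) (by decide +kernel) (by decide +kernel)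

theorem f1572 : C.T (v6 C) [15, 66, 87, 90, 110, 116] (v8 C) [22, 28, 65, 77, 108, 109, 117] :=
  C.conv (f1563 C) (f1369 C) (f1307 C) _ [130, 155, 167] _ (by decide +kernel) (by decide +kernel) (by decide +kernel)

theorem f1573 : C.T (v8 C) [22, 28, 65, 77, 108, 109, 117] (v6 C) [15, 66, 87, 90, 110, 116] :=
  C.flip (f1572 C)

theorem f1574 : C.T (v8 C) [10, 29, 55, 84, 105, 110, 123] (v8 C) [9, 31, 58, 72, 91, 123] :=
  C.closeT (p := (v6 C)) (pu := [19, 48, 50, 71, 92, 109, 112])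
    (C.pT (f1570 C)
    (C.pH [26, 38, 54, 89, 90, 113] [5, 32, 60, 87, 107, 124] (by decide +kernel)
    (C.pT (f1571 C)
    (C.pH [8, 30, 65, 84, 94, 117] [10, 29, 55, 84, 105, 110, 123] (by decide +kernel) (C.pNil _ _)))))
    (C.pH [26, 38, 54, 89, 90, 113] [22, 28, 65, 77, 108, 109, 117] (by decide +kernel)
    (C.pT (f1573 C)
    (C.pH [8, 30, 65, 84, 94, 117] [19, 48, 50, 71, 92, 109, 112] (by decide +kernel) (C.pNil _ _))))
    (C.loop_of_one (relLoop2 C) _ _)

theorem f1575 : C.S (v8 C) [11, 44, 56, 77, 100, 110, 116] :=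
  C.stMul (f1537 C) (f1546 C) _ (by decide +kernel)

theorem f1576 : C.S (v8 C) [12, 70, 105, 122] :=
  C.stMul (f1532 C) (f1546 C) _ (by decide +kernel)

theorem f1577 : C.S (v8 C) [11, 48, 67, 84, 112] :=
  C.stInv (f1576 C) _ (by decide +kernel)

theorem f1578 : C.S (v8 C) [20, 48, 49, 77, 103, 110, 112] :=
  C.stMul (f1577 C) (f1575 C) _ (by decide +kernel)

theorem f1579 : C.S (v8 C) [107, 124] :=
  C.transfer (f1574 C) (f1578 C) [129, 154, 166, 173] _ (by decide +kernel) (by decide +kernel) (by decide +kernel)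

theorem f1585 : C.T (v7 C) [11, 48, 54, 87, 95, 109, 117] (v7 C) [20, 48, 65, 86, 94, 123] :=
  C.conv (f1505 C) (f1507 C) (f1507 C) _ [141, 158, 168, 174, 177] _ (by decide +kernel) (by decide +kernel) (by decide +kernel)

theorem f1586 : C.S (v7 C) [10, 58, 74, 96, 110] :=
  C.stMul (f1497 C) (f1459 C) _ (by decide +kernel)

theorem f1587 : C.S (v7 C) [47, 68, 93, 109, 114] :=
  C.stMul (f1484 C) (f1586 C) _ (by decide +kernel)

theorem f1588 : C.T (v7 C) [15, 57, 82, 95, 111] (v8 C) [5, 28, 51, 77, 98, 125] :=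
  C.conv (f1523 C) (f1507 C) (f1587 C) _ [127, 156, 178] _ (by decide +kernel) (by decide +kernel) (by decide +kernel)

theorem f1589 : C.S (v7 C) [20, 38, 57, 73, 94, 121] :=
  C.stMul (f1484 C) (f1497 C) _ (by decide +kernel)

theorem f1590 : C.T (v7 C) [13, 44, 66, 89, 108, 109, 116] (v8 C) [14, 29, 51, 73, 92, 110, 119] :=
  C.conv (f1523 C) (f1507 C) (f1589 C) _ [136, 158, 165, 174, 178] _ (by decide +kernel) (by decide +kernel) (by decide +kernel)

theorem f1591 : C.T (v8 C) [14, 29, 51, 73, 92, 110, 119] (v7 C) [13, 44, 66, 89, 108, 109, 116] :=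
  C.flip (f1590 C)

theorem f1592 : C.T (v8 C) [12, 40, 56, 81, 108, 109, 122] (v8 C) [12, 33, 62, 81, 109, 112] :=
  C.closeT (p := (v7 C)) (pu := [11, 48, 54, 87, 95, 109, 117])
    (C.pT (f1585 C)
    (C.pH [26, 38, 54, 89, 90, 113] [15, 57, 82, 95, 111] (by decide +kernel)
    (C.pT (f1588 C)
    (C.pH [8, 30, 65, 84, 94, 117] [12, 40, 56, 81, 108, 109, 122] (by decide +kernel) (C.pNil _ _)))))
    (C.pH [26, 38, 54, 89, 90, 113] [14, 29, 51, 73, 92, 110, 119] (by decide +kernel)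
    (C.pT (f1591 C)
    (C.pH [8, 30, 65, 84, 94, 117] [11, 48, 54, 87, 95, 109, 117] (by decide +kernel) (C.pNil _ _))))
    (C.loop_of_one (relLoop2 C) _ _)

theorem f1594 : C.S (v8 C) [7, 60, 79, 102] :=
  C.stMul (f1552 C) (f1537 C) _ (by decide +kernel)

theorem f1597 : C.T (v8 C) [24, 46, 64, 82, 105, 112] (v8 C) [4, 45, 65, 82, 94, 125] :=
  C.conv (f1574 C) (f1529 C) (f1529 C) _ [142, 149, 172] _ (by decide +kernel) (by decide +kernel) (by decide +kernel)

theorem f1598 : C.S (v8 C) [] :=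
  C.stOne _

theorem f1599 : C.T (v8 C) [19, 48, 64, 84, 99, 110, 117] (v8 C) [8, 33, 54, 86, 104, 124] :=
  C.conv (f1574 C) (f1529 C) (f1598 C) _ [142, 165] _ (by decide +kernel) (by decide +kernel) (by decide +kernel)

theorem f1600 : C.T (v8 C) [8, 33, 54, 86, 104, 124] (v8 C) [19, 48, 64, 84, 99, 110, 117] :=
  C.flip (f1599 C)

theorem f1601 : C.T (v8 C) [13, 29, 57, 88, 107, 109, 118] (v8 C) [21, 33, 61, 78, 98, 109, 125] :=
  C.closeT (p := (v8 C)) (pu := [24, 46, 64, 82, 105, 112])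
    (C.pT (f1597 C)
    (C.pH [12, 35, 50, 83] [13, 29, 57, 88, 107, 109, 118] (by decide +kernel) (C.pNil _ _)))
    (C.pH [12, 35, 50, 83] [8, 33, 54, 86, 104, 124] (by decide +kernel)
    (C.pT (f1600 C)
    (C.pH [12, 35, 50, 83] [24, 46, 64, 82, 105, 112] (by decide +kernel) (C.pNil _ _))))
    (C.loop_of_one (relLoop0 C) _ _)

theorem f1604 : C.T (v8 C) [6, 34] (v9 C) [] :=
  C.defn _ _

theorem f1605 : C.S (v8 C) [20, 63, 89, 93, 110, 115] :=
  C.stInv (f1526 C) _ (by decide +kernel)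

theorem f1606 : C.S (v8 C) [20, 46, 63, 77, 100, 109, 114] :=
  C.stMul (f1605 C) (f1529 C) _ (by decide +kernel)

theorem f1607 : C.S (v9 C) [69, 81, 100, 113] :=
  C.transfer (f1604 C) (f1606 C) [170, 174, 178] _ (by decide +kernel) (by decide +kernel) (by decide +kernel)

theorem f1608 : C.S (v8 C) [12, 27, 69, 86, 90, 116] :=
  C.stInv (f1532 C) _ (by decide +kernel)

theorem f1609 : C.S (v8 C) [20, 89, 101, 117] :=
  C.stMul (f1608 C) (f1537 C) _ (by decide +kernel)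

theorem f1610 : C.S (v9 C) [11, 45, 70, 104, 115] :=
  C.transfer (f1604 C) (f1609 C) [133, 162, 167, 174, 177] _ (by decide +kernel) (by decide +kernel) (by decide +kernel)

theorem f1611 : C.S (v8 C) [23, 47, 59, 85, 108, 109, 124] :=
  C.stMul (f1537 C) (f1532 C) _ (by decide +kernel)

theorem f1612 : C.S (v8 C) [20, 48, 69, 105, 110, 115] :=
  C.stMul (f1541 C) (f1526 C) _ (by decide +kernel)

theorem f1613 : C.S (v8 C) [20, 48, 69, 105, 110, 115] :=
  C.stInv (f1612 C) _ (by decide +kernel)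

theorem f1614 : C.S (v8 C) [18, 29, 62, 80, 99, 125] :=
  C.stMul (f1613 C) (f1611 C) _ (by decide +kernel)

theorem f1615 : C.S (v9 C) [13, 45, 66, 71, 92, 109, 125] :=
  C.transfer (f1604 C) (f1614 C) [135, 162, 168, 173] _ (by decide +kernel) (by decide +kernel) (by decide +kernel)

theorem f1616 : C.S (v8 C) [32, 57, 72, 97, 110, 111] :=
  C.stMul (f1552 C) (f1541 C) _ (by decide +kernel)

theorem f1617 : C.S (v8 C) [12, 28, 53, 82, 93, 109, 120] :=
  C.stMul (f1546 C) (f1532 C) _ (by decide +kernel)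

theorem f1618 : C.S (v8 C) [11, 39, 62, 80, 91, 119] :=
  C.stInv (f1617 C) _ (by decide +kernel)

theorem f1619 : C.S (v8 C) [11, 48, 67, 71, 108, 110, 112] :=
  C.stMul (f1618 C) (f1616 C) _ (by decide +kernel)

theorem f1620 : C.S (v9 C) [10, 47, 62, 87, 90, 110, 118] :=
  C.transfer (f1604 C) (f1619 C) [132, 162, 167, 175, 178] _ (by decide +kernel) (by decide +kernel) (by decide +kernel)

theorem f1621 : C.S (v8 C) [20, 42, 57, 77, 101, 109, 114] :=
  C.stMul (f1579 C) (f1546 C) _ (by decide +kernel)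

theorem f1622 : C.S (v8 C) [20, 42, 57, 78, 94, 110, 117] :=
  C.stInv (f1546 C) _ (by decide +kernel)

theorem f1623 : C.S (v8 C) [73, 98, 114] :=
  C.stMul (f1622 C) (f1621 C) _ (by decide +kernel)

theorem f1624 : C.S (v9 C) [23, 37, 62, 82, 103] :=
  C.transfer (f1604 C) (f1623 C) [145, 154, 167, 175, 177] _ (by decide +kernel) (by decide +kernel) (by decide +kernel)

theorem f1625 : C.T (v9 C) [] (v8 C) [6, 34] :=
  C.flip (f1604 C)

theorem f1626 : C.T (v7 C) [15, 41, 56, 82, 101, 109, 117] (v8 C) [5, 36, 62, 80, 99, 117] :=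
  C.conv (f1523 C) (f1507 C) (f1507 C) _ [127, 161, 169] _ (by decide +kernel) (by decide +kernel) (by decide +kernel)

theorem f1627 : C.T (v8 C) [5, 46, 60, 70, 94, 110, 125] (v9 C) [9, 37, 49, 85, 90] :=
  C.conv (f1604 C) (f1598 C) (f1541 C) _ [131, 161, 168, 172] _ (by decide +kernel) (by decide +kernel) (by decide +kernel)

theorem f1628 : C.T (v9 C) [17, 36, 58, 82, 105, 110, 114] (v7 C) [15, 36, 62, 70, 100, 109, 117] :=
  C.closeT (p := (v7 C)) (pu := [15, 41, 56, 82, 101, 109, 117])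
    (C.pT (f1626 C)
    (C.pH [12, 35, 50, 83] [5, 46, 60, 70, 94, 110, 125] (by decide +kernel)
    (C.pT (f1627 C)
    (C.pH [12, 35, 50, 83] [17, 36, 58, 82, 105, 110, 114] (by decide +kernel) (C.pNil _ _)))))
    (C.pH [12, 35, 50, 83] [15, 41, 56, 82, 101, 109, 117] (by decide +kernel) (C.pNil _ _))
    (C.loop_of_one (relLoop0 C) _ _)

theorem f1629 : C.T (v7 C) [15, 36, 62, 70, 100, 109, 117] (v9 C) [17, 36, 58, 82, 105, 110, 114] :=
  C.flip (f1628 C)

theorem f1630 : C.T (v7 C) [19, 27, 64, 72, 102, 109, 115] (v7 C) [16, 44, 70, 97, 112] :=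
  C.conv (f1505 C) (f1507 C) (f1507 C) _ [126, 154, 175, 178] _ (by decide +kernel) (by decide +kernel) (by decide +kernel)

theorem f1631 : C.S (v7 C) [15, 48, 49, 85, 105, 119] :=
  C.stMul (f1484 C) (f1468 C) _ (by decide +kernel)

theorem f1632 : C.S (v7 C) [17, 27, 53, 80, 90, 109, 111] :=
  C.stMul (f1484 C) (f1484 C) _ (by decide +kernel)

theorem f1633 : C.S (v7 C) [15, 43, 67, 85, 100, 109, 114] :=
  C.stMul (f1497 C) (f1632 C) _ (by decide +kernel)

theorem f1634 : C.S (v7 C) [16, 29, 58, 84, 100, 109, 118] :=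
  C.stMul (f1476 C) (f1633 C) _ (by decide +kernel)

theorem f1635 : C.S (v7 C) [16, 35, 66, 107, 110, 111] :=
  C.stMul (f1497 C) (f1634 C) _ (by decide +kernel)

theorem f1636 : C.T (v7 C) [20, 30, 49, 73, 108, 110, 115] (v9 C) [22, 44, 58, 76, 92, 113] :=
  C.conv (f1629 C) (f1631 C) (f1635 C) _ [131, 164, 175] _ (by decide +kernel) (by decide +kernel) (by decide +kernel)

theorem f1637 : C.S (v7 C) [15, 30, 60, 82, 104, 125] :=
  C.stMul (f1484 C) (f1460 C) _ (by decide +kernel)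

theorem f1638 : C.S (v7 C) [14, 29, 59, 80, 107, 112] :=
  C.stMul (f1484 C) (f1637 C) _ (by decide +kernel)

theorem f1639 : C.S (v7 C) [5, 58, 80, 108, 110, 114] :=
  C.stMul (f1497 C) (f1638 C) _ (by decide +kernel)

theorem f1640 : C.S (v7 C) [8, 48, 62, 88, 106, 113] :=
  C.stMul (f1464 C) (f1639 C) _ (by decide +kernel)

theorem f1641 : C.T (v7 C) [22, 34, 56, 85, 105, 109, 122] (v9 C) [26, 41, 66, 83, 91, 109, 116] :=
  C.conv (f1629 C) (f1631 C) (f1640 C) _ [132, 160, 169, 171, 177] _ (by decide +kernel) (by decide +kernel) (by decide +kernel)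

theorem f1642 : C.T (v9 C) [26, 41, 66, 83, 91, 109, 116] (v7 C) [22, 34, 56, 85, 105, 109, 122] :=
  C.flip (f1641 C)

theorem f1643 : C.T (v9 C) [19, 34, 52, 95, 110, 112] (v9 C) [19, 28, 77, 90, 110, 118] :=
  C.closeT (p := (v7 C)) (pu := [19, 27, 64, 72, 102, 109, 115])
    (C.pT (f1630 C)
    (C.pH [8, 30, 65, 84, 94, 117] [20, 30, 49, 73, 108, 110, 115] (by decide +kernel)
    (C.pT (f1636 C)
    (C.pH [26, 38, 54, 89, 90, 113] [19, 34, 52, 95, 110, 112] (by decide +kernel) (C.pNil _ _)))))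
    (C.pH [8, 30, 65, 84, 94, 117] [26, 41, 66, 83, 91, 109, 116] (by decide +kernel)
    (C.pT (f1642 C)
    (C.pH [26, 38, 54, 89, 90, 113] [19, 27, 64, 72, 102, 109, 115] (by decide +kernel) (C.pNil _ _))))
    (C.loop_of_one (relLoop1 C) _ _)

theorem f1646 : C.T (v7 C) [19, 29, 58, 79, 91, 109, 124] (v7 C) [13, 42, 51, 85, 108, 110, 124] :=
  C.conv (f1512 C) (f1514 C) (f1514 C) _ [134, 150, 164, 176, 177] _ (by decide +kernel) (by decide +kernel) (by decide +kernel)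

theorem f1647 : C.S (v7 C) [15, 37, 56, 74, 104, 113] :=
  C.stMul (f1484 C) (f1459 C) _ (by decide +kernel)

theorem f1648 : C.S (v7 C) [14, 38, 65, 83, 104, 113] :=
  C.stMul (f1484 C) (f1647 C) _ (by decide +kernel)

theorem f1649 : C.S (v7 C) [14, 32, 73, 107, 109, 118] :=
  C.stMul (f1472 C) (f1648 C) _ (by decide +kernel)

theorem f1650 : C.T (v7 C) [11, 34, 68, 72, 103, 112] (v9 C) [15, 31, 55, 72, 102, 109, 121] :=
  C.conv (f1629 C) (f1631 C) (f1649 C) _ [143, 170, 176] _ (by decide +kernel) (by decide +kernel) (by decide +kernel)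

theorem f1651 : C.S (v7 C) [8, 34, 84, 97, 110, 120] :=
  C.stMul (f1484 C) (f1464 C) _ (by decide +kernel)

theorem f1652 : C.S (v7 C) [16, 32, 59, 74, 103, 114] :=
  C.stMul (f1484 C) (f1651 C) _ (by decide +kernel)

theorem f1653 : C.T (v7 C) [22, 32, 61, 77, 110, 124] (v9 C) [14, 36, 64, 74, 93, 109, 119] :=
  C.conv (f1629 C) (f1631 C) (f1652 C) _ [147, 159, 169, 172] _ (by decide +kernel) (by decide +kernel) (by decide +kernel)

theorem f1654 : C.T (v9 C) [14, 36, 64, 74, 93, 109, 119] (v7 C) [22, 32, 61, 77, 110, 124] :=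
  C.flip (f1653 C)

theorem f1655 : C.T (v9 C) [9, 32, 69, 89, 108, 110, 119] (v9 C) [26, 40, 58, 75, 100, 109, 114] :=
  C.closeT (p := (v7 C)) (pu := [19, 29, 58, 79, 91, 109, 124])
    (C.pT (f1646 C)
    (C.pH [8, 30, 65, 84, 94, 117] [11, 34, 68, 72, 103, 112] (by decide +kernel)
    (C.pT (f1650 C)
    (C.pH [26, 38, 54, 89, 90, 113] [9, 32, 69, 89, 108, 110, 119] (by decide +kernel) (C.pNil _ _)))))
    (C.pH [8, 30, 65, 84, 94, 117] [14, 36, 64, 74, 93, 109, 119] (by decide +kernel)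
    (C.pT (f1654 C)
    (C.pH [26, 38, 54, 89, 90, 113] [19, 29, 58, 79, 91, 109, 124] (by decide +kernel) (C.pNil _ _))))
    (C.loop_of_one (relLoop1 C) _ _)

theorem f1657 : C.S (v9 C) [] :=
  C.stOne _

theorem f1659 : C.T (v7 C) [26, 31, 61, 78, 98, 109] (v8 C) [14, 58, 86, 98, 109, 123] :=
  C.conv (f1523 C) (f1507 C) (f1507 C) _ [136, 151, 165, 172, 178] _ (by decide +kernel) (by decide +kernel) (by decide +kernel)

theorem f1660 : C.S (v8 C) [12, 46, 68, 75, 94, 109, 118] :=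
  C.stMul (f1564 C) (f1526 C) _ (by decide +kernel)

theorem f1661 : C.S (v8 C) [7, 41, 66, 82, 106, 110, 123] :=
  C.stMul (f1552 C) (f1660 C) _ (by decide +kernel)

theorem f1662 : C.T (v8 C) [5, 31, 50, 86, 98, 109, 123] (v9 C) [18, 38, 54, 81, 104, 113] :=
  C.conv (f1604 C) (f1598 C) (f1661 C) _ [140, 160, 166, 175] _ (by decide +kernel) (by decide +kernel) (by decide +kernel)

theorem f1663 : C.S (v7 C) [10, 44, 52, 88, 90, 116] :=
  C.stMul (f1497 C) (f1460 C) _ (by decide +kernel)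

theorem f1664 : C.S (v7 C) [34, 63, 71, 91, 109] :=
  C.stMul (f1484 C) (f1663 C) _ (by decide +kernel)

theorem f1665 : C.S (v7 C) [13, 28, 60, 73, 105, 110, 125] :=
  C.stMul (f1476 C) (f1664 C) _ (by decide +kernel)

theorem f1666 : C.S (v7 C) [24, 34, 52, 73, 104, 112] :=
  C.stMul (f1468 C) (f1665 C) _ (by decide +kernel)

theorem f1667 : C.T (v7 C) [28, 54, 82, 90, 120] (v9 C) [15, 29, 69, 86, 94, 109, 125] :=
  C.conv (f1629 C) (f1631 C) (f1666 C) _ [135, 160, 169, 173] _ (by decide +kernel) (by decide +kernel) (by decide +kernel)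

theorem f1668 : C.T (v9 C) [15, 29, 69, 86, 94, 109, 125] (v7 C) [28, 54, 82, 90, 120] :=
  C.flip (f1667 C)

theorem f1669 : C.T (v9 C) [10, 41, 51, 73, 92, 109, 111] (v9 C) [10, 27, 69, 77, 95, 110, 116] :=
  C.closeT (p := (v7 C)) (pu := [26, 31, 61, 78, 98, 109])
    (C.pT (f1659 C)
    (C.pH [8, 30, 65, 84, 94, 117] [5, 31, 50, 86, 98, 109, 123] (by decide +kernel)
    (C.pT (f1662 C)
    (C.pH [26, 38, 54, 89, 90, 113] [10, 41, 51, 73, 92, 109, 111] (by decide +kernel) (C.pNil _ _)))))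
    (C.pH [8, 30, 65, 84, 94, 117] [15, 29, 69, 86, 94, 109, 125] (by decide +kernel)
    (C.pT (f1668 C)
    (C.pH [26, 38, 54, 89, 90, 113] [26, 31, 61, 78, 98, 109] (by decide +kernel) (C.pNil _ _))))
    (C.loop_of_one (relLoop1 C) _ _)

theorem f1672 : C.T (v8 C) [5, 30, 56, 76] (v9 C) [4, 32, 57, 71, 94, 110, 123] :=
  C.conv (f1604 C) (f1598 C) (f1598 C) _ [126, 162, 172, 177] _ (by decide +kernel) (by decide +kernel) (by decide +kernel)

theorem f1673 : C.T (v8 C) [5, 46, 56, 76] (v9 C) [13, 33, 71, 90] :=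
  C.conv (f1604 C) (f1598 C) (f1526 C) _ [135, 158, 175] _ (by decide +kernel) (by decide +kernel) (by decide +kernel)

theorem f1674 : C.T (v9 C) [13, 33, 71, 90] (v8 C) [5, 46, 56, 76] :=
  C.flip (f1673 C)

theorem f1675 : C.T (v9 C) [13, 27, 49, 72, 93, 110, 123] (v9 C) [4, 33, 104, 109, 119] :=
  C.closeT (p := (v8 C)) (pu := [5, 30, 56, 76])
    (C.pT (f1672 C)
    (C.pH [12, 35, 50, 83] [13, 27, 49, 72, 93, 110, 123] (by decide +kernel) (C.pNil _ _)))
    (C.pH [12, 35, 50, 83] [13, 33, 71, 90] (by decide +kernel)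
    (C.pT (f1674 C)
    (C.pH [12, 35, 50, 83] [5, 30, 56, 76] (by decide +kernel) (C.pNil _ _))))
    (C.loop_of_one (relLoop0 C) _ _)

theorem f1677 : C.S (v9 C) [25, 29, 50, 71, 91, 114] :=
  C.stMul (f1620 C) (f1624 C) _ (by decide +kernel)

theorem f1679 : C.T (v8 C) [6, 59, 75, 99, 109, 119] (v9 C) [5, 41, 64, 72, 105, 109, 114] :=
  C.conv (f1604 C) (f1598 C) (f1598 C) _ [127, 149, 166, 174] _ (by decide +kernel) (by decide +kernel) (by decide +kernel)

theorem f1680 : C.T (v8 C) [24, 45, 57, 75, 105, 109, 117] (v9 C) [5, 31, 51, 78, 106, 110, 112] :=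
  C.conv (f1604 C) (f1598 C) (f1552 C) _ [127, 158, 170, 174, 178] _ (by decide +kernel) (by decide +kernel) (by decide +kernel)

theorem f1681 : C.T (v9 C) [5, 31, 51, 78, 106, 110, 112] (v8 C) [24, 45, 57, 75, 105, 109, 117] :=
  C.flip (f1680 C)

theorem f1682 : C.T (v9 C) [5, 44, 51, 89, 102, 110, 124] (v9 C) [5, 44, 62, 79, 98, 113] :=
  C.closeT (p := (v8 C)) (pu := [6, 59, 75, 99, 109, 119])
    (C.pT (f1679 C)
    (C.pH [12, 35, 50, 83] [5, 44, 51, 89, 102, 110, 124] (by decide +kernel) (C.pNil _ _)))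
    (C.pH [12, 35, 50, 83] [5, 31, 51, 78, 106, 110, 112] (by decide +kernel)
    (C.pT (f1681 C)
    (C.pH [12, 35, 50, 83] [6, 59, 75, 99, 109, 119] (by decide +kernel) (C.pNil _ _))))
    (C.loop_of_one (relLoop0 C) _ _)

theorem f1686 : C.T (v9 C) [8, 35, 54, 87, 100, 109, 120] (v7 C) [5, 31, 53, 83, 106, 110, 125] :=
  C.conv (f1628 C) (f1657 C) (f1657 C) _ [131, 157, 170, 172] _ (by decide +kernel) (by decide +kernel) (by decide +kernel)

theorem f1687 : C.S (v7 C) [15, 40, 57, 79, 103, 121] :=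
  C.stMul (f1472 C) (f1631 C) _ (by decide +kernel)

theorem f1688 : C.S (v7 C) [17, 31, 52, 77, 101, 109, 125] :=
  C.stMul (f1497 C) (f1687 C) _ (by decide +kernel)

theorem f1689 : C.T (v7 C) [5, 41, 53, 75, 102, 110, 119] (v9 C) [8, 33, 54, 86, 93, 110, 125] :=
  C.conv (f1629 C) (f1631 C) (f1688 C) _ [146, 153, 167, 175] _ (by decide +kernel) (by decide +kernel) (by decide +kernel)

theorem f1690 : C.T (v9 C) [10, 30, 54, 85, 92, 117] (v9 C) [21, 35, 53, 70, 95, 121] :=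
  C.closeT (p := (v9 C)) (pu := [8, 35, 54, 87, 100, 109, 120])
    (C.pT (f1686 C)
    (C.pH [12, 35, 50, 83] [5, 41, 53, 75, 102, 110, 119] (by decide +kernel)
    (C.pT (f1689 C)
    (C.pH [12, 35, 50, 83] [10, 30, 54, 85, 92, 117] (by decide +kernel) (C.pNil _ _)))))
    (C.pH [12, 35, 50, 83] [8, 35, 54, 87, 100, 109, 120] (by decide +kernel) (C.pNil _ _))
    (C.loop_of_one (relLoop0 C) _ _)

theorem f1692 : C.S (v9 C) [10, 28, 53, 80, 101, 110, 112] :=
  C.stMul (f1607 C) (f1620 C) _ (by decide +kernel)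

theorem f1693 : C.S (v9 C) [21, 38, 57, 84, 103, 109, 118] :=
  C.stMul (f1624 C) (f1692 C) _ (by decide +kernel)

theorem f1695 : C.T (v8 C) [21, 44] (v10 C) [] :=
  C.defn _ _

theorem f1696 : C.S (v8 C) [11, 31, 52, 82, 91, 109, 115] :=
  C.stMul (f1537 C) (f1526 C) _ (by decide +kernel)

theorem f1697 : C.S (v8 C) [32, 65, 72, 107, 109, 125] :=
  C.stInv (f1552 C) _ (by decide +kernel)

theorem f1698 : C.S (v8 C) [7, 32, 63, 79, 92, 122] :=
  C.stMul (f1697 C) (f1696 C) _ (by decide +kernel)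

theorem f1699 : C.S (v10 C) [11, 35, 66, 82, 97, 113] :=
  C.transfer (f1695 C) (f1698 C) [133, 155, 168, 174, 178] _ (by decide +kernel) (by decide +kernel) (by decide +kernel)

theorem f1700 : C.S (v8 C) [39, 69, 87, 106, 110, 122] :=
  C.stMul (f1564 C) (f1532 C) _ (by decide +kernel)

theorem f1701 : C.S (v8 C) [25, 28, 57, 76, 102, 124] :=
  C.stMul (f1568 C) (f1526 C) _ (by decide +kernel)

theorem f1702 : C.S (v8 C) [25, 28, 57, 76, 102, 124] :=
  C.stInv (f1701 C) _ (by decide +kernel)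

theorem f1703 : C.S (v8 C) [25, 27, 63, 77, 90, 109, 119] :=
  C.stMul (f1702 C) (f1700 C) _ (by decide +kernel)

theorem f1704 : C.S (v10 C) [23, 30, 62, 76, 97, 117] :=
  C.transfer (f1695 C) (f1703 C) [145, 160, 166, 172, 177] _ (by decide +kernel) (by decide +kernel) (by decide +kernel)

theorem f1705 : C.S (v8 C) [12, 70, 105, 122] :=
  C.stMul (f1532 C) (f1546 C) _ (by decide +kernel)

theorem f1706 : C.S (v8 C) [22, 34, 56, 72, 106, 110, 125] :=
  C.stMul (f1541 C) (f1537 C) _ (by decide +kernel)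

theorem f1707 : C.S (v8 C) [22, 34, 56, 72, 106, 110, 125] :=
  C.stInv (f1706 C) _ (by decide +kernel)

theorem f1708 : C.S (v8 C) [18, 40, 56, 88, 99, 110, 122] :=
  C.stMul (f1707 C) (f1705 C) _ (by decide +kernel)

theorem f1709 : C.S (v10 C) [7, 43, 61, 71, 105, 110, 121] :=
  C.transfer (f1695 C) (f1708 C) [129, 151, 164, 174, 177] _ (by decide +kernel) (by decide +kernel) (by decide +kernel)

theorem f1710 : C.S (v8 C) [28, 53, 73, 93, 109, 118] :=
  C.stMul (f1579 C) (f1552 C) _ (by decide +kernel)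

theorem f1711 : C.S (v8 C) [32, 58, 100, 110, 123] :=
  C.stMul (f1541 C) (f1529 C) _ (by decide +kernel)

theorem f1712 : C.S (v8 C) [32, 58, 100, 110, 123] :=
  C.stInv (f1711 C) _ (by decide +kernel)

theorem f1713 : C.S (v8 C) [31, 56, 90, 109] :=
  C.stMul (f1712 C) (f1710 C) _ (by decide +kernel)

theorem f1714 : C.S (v10 C) [20, 34, 64, 71, 107, 109, 113] :=
  C.transfer (f1695 C) (f1713 C) [142, 159, 170, 174, 178] _ (by decide +kernel) (by decide +kernel) (by decide +kernel)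

theorem f1715 : C.T (v10 C) [] (v8 C) [21, 44] :=
  C.flip (f1695 C)

theorem f1716 : C.T (v6 C) [14, 30, 59, 78, 105, 120] (v8 C) [21, 46, 54, 71, 100, 109, 111] :=
  C.conv (f1563 C) (f1369 C) (f1369 C) _ [144, 160, 169, 173, 177] _ (by decide +kernel) (by decide +kernel) (by decide +kernel)

theorem f1717 : C.S (v8 C) [28, 53, 74, 108] :=
  C.stMul (f1552 C) (f1579 C) _ (by decide +kernel)

theorem f1718 : C.S (v8 C) [24, 27, 64, 85, 107, 117] :=
  C.stMul (f1568 C) (f1717 C) _ (by decide +kernel)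

theorem f1719 : C.T (v8 C) [8, 31, 57, 87, 100, 109, 121] (v10 C) [11, 30, 56, 82, 98, 110, 124] :=
  C.conv (f1695 C) (f1598 C) (f1718 C) _ [133, 156, 166, 173, 177] _ (by decide +kernel) (by decide +kernel) (by decide +kernel)

theorem f1720 : C.T (v10 C) [20, 43, 52, 84, 104, 109, 114] (v6 C) [14, 60, 80, 95, 113] :=
  C.closeT (p := (v6 C)) (pu := [14, 30, 59, 78, 105, 120])
    (C.pT (f1716 C)
    (C.pH [12, 35, 50, 83] [8, 31, 57, 87, 100, 109, 121] (by decide +kernel)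
    (C.pT (f1719 C)
    (C.pH [12, 35, 50, 83] [20, 43, 52, 84, 104, 109, 114] (by decide +kernel) (C.pNil _ _)))))
    (C.pH [12, 35, 50, 83] [14, 30, 59, 78, 105, 120] (by decide +kernel) (C.pNil _ _))
    (C.loop_of_one (relLoop0 C) _ _)

theorem f1721 : C.T (v6 C) [14, 60, 80, 95, 113] (v10 C) [20, 43, 52, 84, 104, 109, 114] :=
  C.flip (f1720 C)

theorem f1722 : C.S (v10 C) [20, 47, 63, 103, 119] :=
  C.transfer (f1721 C) (f1291 C) [133, 153, 166, 172, 178] _ (by decide +kernel) (by decide +kernel) (by decide +kernel)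

theorem f1724 : C.T (v6 C) [12, 36, 55, 82, 94, 119] (v6 C) [7, 38, 69, 80, 102, 110, 111] :=
  C.conv (f1324 C) (f1369 C) (f1369 C) _ [128, 162, 168, 172] _ (by decide +kernel) (by decide +kernel) (by decide +kernel)

theorem f1725 : C.S (v6 C) [22, 38, 64, 77, 91, 115] :=
  C.stMul (f1270 C) (f1270 C) _ (by decide +kernel)

theorem f1726 : C.S (v6 C) [12, 34, 51, 81, 108, 110, 120] :=
  C.stMul (f1270 C) (f1725 C) _ (by decide +kernel)

theorem f1727 : C.T (v6 C) [17, 29, 61, 75, 97, 117] (v10 C) [10, 47, 53, 89, 90, 109, 113] :=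
  C.conv (f1721 C) (f1725 C) (f1726 C) _ [143, 149, 170, 171, 177] _ (by decide +kernel) (by decide +kernel) (by decide +kernel)

theorem f1728 : C.T (v6 C) [24, 39, 50, 81, 112] (v10 C) [13, 37, 66, 74, 107, 109, 122] :=
  C.conv (f1721 C) (f1725 C) (f1270 C) _ [146, 152, 169, 173, 177] _ (by decide +kernel) (by decide +kernel) (by decide +kernel)

theorem f1729 : C.T (v10 C) [13, 37, 66, 74, 107, 109, 122] (v6 C) [24, 39, 50, 81, 112] :=
  C.flip (f1728 C)

theorem f1730 : C.T (v10 C) [21, 34, 61, 70, 107, 116] (v10 C) [6, 48, 51, 76, 97, 110, 113] :=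
  C.closeT (p := (v6 C)) (pu := [12, 36, 55, 82, 94, 119])
    (C.pT (f1724 C)
    (C.pH [8, 30, 65, 84, 94, 117] [17, 29, 61, 75, 97, 117] (by decide +kernel)
    (C.pT (f1727 C)
    (C.pH [26, 38, 54, 89, 90, 113] [21, 34, 61, 70, 107, 116] (by decide +kernel) (C.pNil _ _)))))
    (C.pH [8, 30, 65, 84, 94, 117] [13, 37, 66, 74, 107, 109, 122] (by decide +kernel)
    (C.pT (f1729 C)
    (C.pH [26, 38, 54, 89, 90, 113] [12, 36, 55, 82, 94, 119] (by decide +kernel) (C.pNil _ _))))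
    (C.loop_of_one (relLoop1 C) _ _)

theorem f1733 : C.T (v6 C) [6, 37, 63, 74, 99, 116] (v6 C) [23, 37, 58, 84, 104, 114] :=
  C.conv (f1453 C) (f1291 C) (f1291 C) _ [139, 160, 164] _ (by decide +kernel) (by decide +kernel) (by decide +kernel)

theorem f1734 : C.S (v6 C) [19, 63, 70, 93, 118] :=
  C.stMul (f1291 C) (f1353 C) _ (by decide +kernel)

theorem f1735 : C.T (v6 C) [10, 35, 58, 84, 104, 110, 122] (v10 C) [10, 31, 55, 97, 109, 118] :=
  C.conv (f1721 C) (f1725 C) (f1734 C) _ [128, 160, 166, 172, 178] _ (by decide +kernel) (by decide +kernel) (by decide +kernel)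

theorem f1736 : C.S (v6 C) [23, 33, 68, 76, 108, 109, 119] :=
  C.stMul (f1307 C) (f1725 C) _ (by decide +kernel)

theorem f1737 : C.T (v6 C) [21, 46, 79, 100, 109] (v10 C) [25, 34, 54, 77, 95, 109, 125] :=
  C.conv (f1721 C) (f1725 C) (f1736 C) _ [146, 155, 176, 178] _ (by decide +kernel) (by decide +kernel) (by decide +kernel)

theorem f1738 : C.T (v10 C) [25, 34, 54, 77, 95, 109, 125] (v6 C) [21, 46, 79, 100, 109] :=
  C.flip (f1737 C)

theorem f1739 : C.T (v10 C) [21, 33, 63, 75, 97, 110, 113] (v10 C) [4, 42, 61, 86, 103, 109, 114] :=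
  C.closeT (p := (v6 C)) (pu := [6, 37, 63, 74, 99, 116])
    (C.pT (f1733 C)
    (C.pH [8, 30, 65, 84, 94, 117] [10, 35, 58, 84, 104, 110, 122] (by decide +kernel)
    (C.pT (f1735 C)
    (C.pH [26, 38, 54, 89, 90, 113] [21, 33, 63, 75, 97, 110, 113] (by decide +kernel) (C.pNil _ _)))))
    (C.pH [8, 30, 65, 84, 94, 117] [25, 34, 54, 77, 95, 109, 125] (by decide +kernel)
    (C.pT (f1738 C)
    (C.pH [26, 38, 54, 89, 90, 113] [6, 37, 63, 74, 99, 116] (by decide +kernel) (C.pNil _ _))))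
    (C.loop_of_one (relLoop1 C) _ _)

theorem f1743 : C.T (v6 C) [17, 40, 68, 70, 106, 110, 121] (v6 C) [9, 42, 64, 70, 90, 118] :=
  C.conv (f1453 C) (f1291 C) (f1291 C) _ [145, 154, 169, 171] _ (by decide +kernel) (by decide +kernel) (by decide +kernel)

theorem f1744 : C.S (v6 C) [22] :=
  C.stMul (f1353 C) (f1266 C) _ (by decide +kernel)

theorem f1745 : C.S (v6 C) [17, 44, 70, 90, 110, 111] :=
  C.stMul (f1291 C) (f1744 C) _ (by decide +kernel)

theorem f1746 : C.T (v6 C) [18, 28, 55, 72, 95, 109, 118] (v10 C) [13, 31, 65, 85, 99, 110, 117] :=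
  C.conv (f1721 C) (f1725 C) (f1745 C) _ [131, 159, 171, 177] _ (by decide +kernel) (by decide +kernel) (by decide +kernel)

theorem f1747 : C.T (v6 C) [19, 37, 53, 86, 102, 109, 125] (v10 C) [24, 45, 60, 78, 106, 109, 117] :=
  C.conv (f1721 C) (f1725 C) (f1726 C) _ [131, 162, 164, 175, 178] _ (by decide +kernel) (by decide +kernel) (by decide +kernel)

theorem f1748 : C.T (v10 C) [24, 45, 60, 78, 106, 109, 117] (v6 C) [19, 37, 53, 86, 102, 109, 125] :=
  C.flip (f1747 C)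

theorem f1749 : C.T (v10 C) [23, 33, 61, 71, 106, 109, 120] (v10 C) [21, 36, 54, 80, 106, 110, 116] :=
  C.closeT (p := (v6 C)) (pu := [17, 40, 68, 70, 106, 110, 121])
    (C.pT (f1743 C)
    (C.pH [8, 30, 65, 84, 94, 117] [18, 28, 55, 72, 95, 109, 118] (by decide +kernel)
    (C.pT (f1746 C)
    (C.pH [26, 38, 54, 89, 90, 113] [23, 33, 61, 71, 106, 109, 120] (by decide +kernel) (C.pNil _ _)))))
    (C.pH [8, 30, 65, 84, 94, 117] [24, 45, 60, 78, 106, 109, 117] (by decide +kernel)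
    (C.pT (f1748 C)
    (C.pH [26, 38, 54, 89, 90, 113] [17, 40, 68, 70, 106, 110, 121] (by decide +kernel) (C.pNil _ _))))
    (C.loop_of_one (relLoop1 C) _ _)

theorem f1753 : C.T (v6 C) [4, 42, 59, 81, 99, 110, 116] (v8 C) [14, 44, 56, 80, 96, 110, 112] :=
  C.conv (f1563 C) (f1369 C) (f1369 C) _ [140, 149, 169, 173, 177] _ (by decide +kernel) (by decide +kernel) (by decide +kernel)

theorem f1754 : C.S (v8 C) [12, 44, 64, 80, 93, 110, 118] :=
  C.stMul (f1552 C) (f1532 C) _ (by decide +kernel)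

theorem f1755 : C.S (v8 C) [31, 56, 106, 122] :=
  C.stMul (f1532 C) (f1754 C) _ (by decide +kernel)

theorem f1756 : C.T (v8 C) [5, 43, 50, 77, 96, 110, 112] (v10 C) [21, 45, 52, 101, 109, 119] :=
  C.conv (f1695 C) (f1598 C) (f1755 C) _ [143, 156, 171, 177] _ (by decide +kernel) (by decide +kernel) (by decide +kernel)

theorem f1757 : C.S (v6 C) [11, 38, 64, 88, 106, 110] :=
  C.stMul (f1353 C) (f1307 C) _ (by decide +kernel)

theorem f1758 : C.S (v6 C) [23, 31, 65, 80, 90, 110, 123] :=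
  C.stMul (f1358 C) (f1757 C) _ (by decide +kernel)

theorem f1759 : C.T (v6 C) [6, 47, 50, 88, 102, 113] (v10 C) [13, 33, 51, 81, 109, 123] :=
  C.conv (f1721 C) (f1725 C) (f1758 C) _ [131, 157, 170, 176] _ (by decide +kernel) (by decide +kernel) (by decide +kernel)

theorem f1760 : C.T (v10 C) [13, 33, 51, 81, 109, 123] (v6 C) [6, 47, 50, 88, 102, 113] :=
  C.flip (f1759 C)

theorem f1761 : C.T (v10 C) [6, 35, 69, 77, 92, 120] (v10 C) [6, 46, 57, 71, 104, 109, 124] :=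
  C.closeT (p := (v6 C)) (pu := [4, 42, 59, 81, 99, 110, 116])
    (C.pT (f1753 C)
    (C.pH [8, 30, 65, 84, 94, 117] [5, 43, 50, 77, 96, 110, 112] (by decide +kernel)
    (C.pT (f1756 C)
    (C.pH [26, 38, 54, 89, 90, 113] [6, 35, 69, 77, 92, 120] (by decide +kernel) (C.pNil _ _)))))
    (C.pH [8, 30, 65, 84, 94, 117] [13, 33, 51, 81, 109, 123] (by decide +kernel)
    (C.pT (f1760 C)
    (C.pH [26, 38, 54, 89, 90, 113] [4, 42, 59, 81, 99, 110, 116] (by decide +kernel) (C.pNil _ _))))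
    (C.loop_of_one (relLoop1 C) _ _)

theorem f1764 : C.T (v6 C) [5, 32, 63, 86, 102, 109, 112] (v6 C) [19, 42, 63, 73, 93, 109, 117] :=
  C.conv (f1398 C) (f1400 C) (f1400 C) _ [136, 157, 169, 173, 177] _ (by decide +kernel) (by decide +kernel) (by decide +kernel)

theorem f1765 : C.S (v6 C) [6, 48, 74, 102, 123] :=
  C.stMul (f1266 C) (f1358 C) _ (by decide +kernel)

theorem f1766 : C.T (v6 C) [17, 46, 67, 88, 100, 110, 111] (v10 C) [8, 27, 68, 88, 94, 113] :=
  C.conv (f1721 C) (f1725 C) (f1765 C) _ [141, 156, 165, 172, 178] _ (by decide +kernel) (by decide +kernel) (by decide +kernel)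

theorem f1767 : C.S (v6 C) [6, 36, 61, 74, 96, 122] :=
  C.stMul (f1307 C) (f1358 C) _ (by decide +kernel)

theorem f1768 : C.T (v6 C) [14, 47, 53, 88, 94, 114] (v10 C) [15, 45, 66, 71, 95, 110, 118] :=
  C.conv (f1721 C) (f1725 C) (f1767 C) _ [127, 153, 165, 176, 178] _ (by decide +kernel) (by decide +kernel) (by decide +kernel)

theorem f1769 : C.T (v10 C) [15, 45, 66, 71, 95, 110, 118] (v6 C) [14, 47, 53, 88, 94, 114] :=
  C.flip (f1768 C)

theorem f1770 : C.T (v10 C) [37, 58, 88, 90, 110, 116] (v10 C) [20, 43, 50, 99, 110, 124] :=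
  C.closeT (p := (v6 C)) (pu := [5, 32, 63, 86, 102, 109, 112])
    (C.pT (f1764 C)
    (C.pH [26, 38, 54, 89, 90, 113] [17, 46, 67, 88, 100, 110, 111] (by decide +kernel)
    (C.pT (f1766 C)
    (C.pH [8, 30, 65, 84, 94, 117] [37, 58, 88, 90, 110, 116] (by decide +kernel) (C.pNil _ _)))))
    (C.pH [26, 38, 54, 89, 90, 113] [15, 45, 66, 71, 95, 110, 118] (by decide +kernel)
    (C.pT (f1769 C)
    (C.pH [8, 30, 65, 84, 94, 117] [5, 32, 63, 86, 102, 109, 112] (by decide +kernel) (C.pNil _ _))))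
    (C.loop_of_one (relLoop2 C) _ _)

theorem f1772 : C.S (v10 C) [12, 29, 59, 82, 105, 117] :=
  C.stMul (f1709 C) (f1699 C) _ (by decide +kernel)

theorem f1773 : C.S (v10 C) [11, 38, 67, 74, 101, 109, 111] :=
  C.stMul (f1714 C) (f1772 C) _ (by decide +kernel)

theorem f1775 : C.T (v6 C) [17, 30, 69, 88, 98, 123] (v6 C) [15, 30, 65, 80, 108, 110, 113] :=
  C.conv (f1416 C) (f1418 C) (f1418 C) _ [127, 151, 174, 178] _ (by decide +kernel) (by decide +kernel) (by decide +kernel)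

theorem f1776 : C.S (v6 C) [24, 27, 64, 104, 118] :=
  C.stMul (f1358 C) (f1307 C) _ (by decide +kernel)

theorem f1777 : C.S (v6 C) [25, 41, 57, 76, 96, 110, 113] :=
  C.stMul (f1266 C) (f1776 C) _ (by decide +kernel)

theorem f1778 : C.T (v6 C) [9, 36, 60, 78, 104, 110, 121] (v10 C) [16, 32, 53, 74, 102, 110, 124] :=
  C.conv (f1721 C) (f1725 C) (f1777 C) _ [137, 157, 166, 171, 177] _ (by decide +kernel) (by decide +kernel) (by decide +kernel)

theorem f1779 : C.T (v6 C) [7, 46, 52, 75, 100, 117] (v10 C) [19, 45, 67, 75, 91, 110, 114] :=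
  C.conv (f1721 C) (f1725 C) (f1777 C) _ [139, 151, 166, 174, 178] _ (by decide +kernel) (by decide +kernel) (by decide +kernel)

theorem f1780 : C.T (v10 C) [19, 45, 67, 75, 91, 110, 114] (v6 C) [7, 46, 52, 75, 100, 117] :=
  C.flip (f1779 C)

theorem f1781 : C.T (v10 C) [20, 40, 55, 88, 95, 109, 112] (v10 C) [22, 30, 53, 82, 109, 114] :=
  C.closeT (p := (v6 C)) (pu := [17, 30, 69, 88, 98, 123])
    (C.pT (f1775 C)
    (C.pH [26, 38, 54, 89, 90, 113] [9, 36, 60, 78, 104, 110, 121] (by decide +kernel)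
    (C.pT (f1778 C)
    (C.pH [8, 30, 65, 84, 94, 117] [20, 40, 55, 88, 95, 109, 112] (by decide +kernel) (C.pNil _ _)))))
    (C.pH [26, 38, 54, 89, 90, 113] [19, 45, 67, 75, 91, 110, 114] (by decide +kernel)
    (C.pT (f1780 C)
    (C.pH [8, 30, 65, 84, 94, 117] [17, 30, 69, 88, 98, 123] (by decide +kernel) (C.pNil _ _))))
    (C.loop_of_one (relLoop2 C) _ _)

theorem f1783 : C.S (v10 C) [12, 29, 59, 82, 105, 117] :=
  C.stMul (f1709 C) (f1699 C) _ (by decide +kernel)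

theorem f1784 : C.S (v10 C) [11, 38, 67, 74, 101, 109, 111] :=
  C.stMul (f1714 C) (f1783 C) _ (by decide +kernel)

theorem f1786 : C.T (v6 C) [21, 43, 59, 75, 105, 119] (v10 C) [16, 47, 53, 82, 96, 125] :=
  C.conv (f1721 C) (f1725 C) (f1725 C) _ [137, 157, 170, 171, 178] _ (by decide +kernel) (by decide +kernel) (by decide +kernel)

theorem f1787 : C.S (v6 C) [6, 36, 61, 74, 96, 122] :=
  C.stMul (f1307 C) (f1358 C) _ (by decide +kernel)

theorem f1788 : C.S (v6 C) [9, 37, 67, 75, 91, 109, 119] :=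
  C.stMul (f1266 C) (f1787 C) _ (by decide +kernel)

theorem f1789 : C.S (v6 C) [7, 38, 49, 87, 91, 110, 123] :=
  C.stMul (f1291 C) (f1788 C) _ (by decide +kernel)

theorem f1790 : C.S (v6 C) [12, 35, 64, 82, 97, 110, 115] :=
  C.stMul (f1358 C) (f1789 C) _ (by decide +kernel)

theorem f1791 : C.T (v6 C) [12, 43, 52, 82, 100, 109, 113] (v4 C) [26, 39, 54, 70, 90, 109, 120] :=
  C.conv (f1346 C) (f1371 C) (f1790 C) _ [144, 154, 174, 178] _ (by decide +kernel) (by decide +kernel) (by decide +kernel)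

theorem f1792 : C.T (v4 C) [26, 39, 54, 70, 90, 109, 120] (v6 C) [12, 43, 52, 82, 100, 109, 113] :=
  C.flip (f1791 C)

theorem f1793 : C.S (v4 C) [21, 60, 87, 91, 109, 120] :=
  C.stMul (f407 C) (f1343 C) _ (by decide +kernel)

theorem f1794 : C.S (v4 C) [13, 34, 59, 73, 105, 109, 115] :=
  C.stMul (f421 C) (f1793 C) _ (by decide +kernel)

theorem f1795 : C.T (v4 C) [41, 66, 78, 101, 109, 124] (v4 C) [9, 48, 64, 84, 107, 109, 122] :=
  C.conv (f901 C) (f697 C) (f1794 C) _ [139, 156, 165, 172, 178] _ (by decide +kernel) (by decide +kernel) (by decide +kernel)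

theorem f1796 : C.T (v4 C) [9, 48, 64, 84, 107, 109, 122] (v4 C) [41, 66, 78, 101, 109, 124] :=
  C.flip (f1795 C)

theorem f1797 : C.T (v10 C) [13, 27, 56, 84, 100, 119] (v4 C) [25, 41, 57, 83, 99, 119] :=
  C.closeT (p := (v6 C)) (pu := [21, 43, 59, 75, 105, 119])
    (C.pT (f1786 C)
    (C.pH [26, 38, 54, 89, 90, 113] [13, 27, 56, 84, 100, 119] (by decide +kernel) (C.pNil _ _)))
    (C.pH [8, 30, 65, 84, 94, 117] [9, 48, 64, 84, 107, 109, 122] (by decide +kernel)
    (C.pT (f1796 C)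
    (C.pH [26, 38, 54, 89, 90, 113] [26, 39, 54, 70, 90, 109, 120] (by decide +kernel)
    (C.pT (f1792 C)
    (C.pH [8, 30, 65, 84, 94, 117] [21, 43, 59, 75, 105, 119] (by decide +kernel) (C.pNil _ _))))))
    (C.loop_of_one (relLoop2 C) _ _)

theorem f1798 : C.T (v4 C) [25, 41, 57, 83, 99, 119] (v10 C) [13, 27, 56, 84, 100, 119] :=
  C.flip (f1797 C)

theorem f1799 : C.T (v8 C) [15, 46, 70, 103, 109, 114] (v10 C) [30, 63, 87, 91, 109, 119] :=
  C.conv (f1695 C) (f1598 C) (f1598 C) _ [151, 168, 175] _ (by decide +kernel) (by decide +kernel) (by decide +kernel)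

theorem f1800 : C.S (v8 C) [28, 62, 72, 97, 110, 125] :=
  C.stMul (f1541 C) (f1579 C) _ (by decide +kernel)

theorem f1801 : C.S (v8 C) [28, 55, 71, 105, 109, 119] :=
  C.stMul (f1579 C) (f1800 C) _ (by decide +kernel)

theorem f1802 : C.T (v8 C) [15, 46, 65, 85, 101, 110, 116] (v10 C) [23, 28, 57, 88, 92, 110, 124] :=
  C.conv (f1695 C) (f1598 C) (f1801 C) _ [145, 149, 166, 177] _ (by decide +kernel) (by decide +kernel) (by decide +kernel)

theorem f1803 : C.T (v10 C) [23, 28, 57, 88, 92, 110, 124] (v8 C) [15, 46, 65, 85, 101, 110, 116] :=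
  C.flip (f1802 C)

theorem f1804 : C.T (v10 C) [12, 46, 54, 78, 96, 109, 113] (v10 C) [12, 61, 85, 97, 116] :=
  C.closeT (p := (v8 C)) (pu := [15, 46, 70, 103, 109, 114])
    (C.pT (f1799 C)
    (C.pH [12, 35, 50, 83] [12, 46, 54, 78, 96, 109, 113] (by decide +kernel) (C.pNil _ _)))
    (C.pH [12, 35, 50, 83] [23, 28, 57, 88, 92, 110, 124] (by decide +kernel)
    (C.pT (f1803 C)
    (C.pH [12, 35, 50, 83] [15, 46, 70, 103, 109, 114] (by decide +kernel) (C.pNil _ _))))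
    (C.loop_of_one (relLoop0 C) _ _)

theorem f1806 : C.S (v10 C) [12, 29, 59, 82, 105, 117] :=
  C.stMul (f1709 C) (f1699 C) _ (by decide +kernel)

theorem f1807 : C.S (v10 C) [11, 38, 67, 74, 101, 109, 111] :=
  C.stMul (f1714 C) (f1806 C) _ (by decide +kernel)

theorem f1809 : C.T (v8 C) [4, 45, 59, 80, 101, 116] (v10 C) [16, 43, 56, 74, 99, 121] :=
  C.conv (f1695 C) (f1598 C) (f1598 C) _ [138, 152, 175] _ (by decide +kernel) (by decide +kernel) (by decide +kernel)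

theorem f1810 : C.S (v8 C) [20, 47, 84, 98, 111] :=
  C.stMul (f1546 C) (f1529 C) _ (by decide +kernel)

theorem f1811 : C.S (v8 C) [18, 41, 52, 71, 94, 110, 120] :=
  C.stMul (f1552 C) (f1810 C) _ (by decide +kernel)

theorem f1812 : C.T (v8 C) [26, 31, 61, 78, 101, 114] (v10 C) [16, 44, 69, 89, 107, 125] :=
  C.conv (f1695 C) (f1598 C) (f1811 C) _ [138, 156, 164, 175] _ (by decide +kernel) (by decide +kernel) (by decide +kernel)

theorem f1813 : C.T (v10 C) [16, 44, 69, 89, 107, 125] (v8 C) [26, 31, 61, 78, 101, 114] :=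
  C.flip (f1812 C)

theorem f1814 : C.T (v10 C) [16, 32, 51, 79, 96, 120] (v10 C) [16, 30, 57, 77, 103, 119] :=
  C.closeT (p := (v8 C)) (pu := [4, 45, 59, 80, 101, 116])
    (C.pT (f1809 C)
    (C.pH [12, 35, 50, 83] [16, 32, 51, 79, 96, 120] (by decide +kernel) (C.pNil _ _)))
    (C.pH [12, 35, 50, 83] [16, 44, 69, 89, 107, 125] (by decide +kernel)
    (C.pT (f1813 C)
    (C.pH [12, 35, 50, 83] [4, 45, 59, 80, 101, 116] (by decide +kernel) (C.pNil _ _))))
    (C.loop_of_one (relLoop0 C) _ _)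

theorem f1819 : C.T (v8 C) [25, 40, 69, 76, 92, 109, 115] (v8 C) [25, 30, 49, 89, 107, 109, 125] :=
  C.conv (f1592 C) (f1594 C) (f1594 C) _ [143, 149, 169, 174] _ (by decide +kernel) (by decide +kernel) (by decide +kernel)

theorem f1820 : C.S (v8 C) [11, 30, 69, 71, 102, 110, 122] :=
  C.stMul (f1532 C) (f1541 C) _ (by decide +kernel)

theorem f1821 : C.T (v8 C) [9, 34, 51, 84, 103, 110, 115] (v10 C) [9, 33, 80, 90, 116] :=
  C.conv (f1695 C) (f1598 C) (f1820 C) _ [131, 166, 173, 178] _ (by decide +kernel) (by decide +kernel) (by decide +kernel)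

theorem f1822 : C.S (v8 C) [32, 58, 100, 110, 123] :=
  C.stMul (f1541 C) (f1529 C) _ (by decide +kernel)

theorem f1823 : C.S (v8 C) [20, 43, 68, 74, 97, 110, 123] :=
  C.stMul (f1546 C) (f1822 C) _ (by decide +kernel)

theorem f1824 : C.T (v8 C) [4, 47, 70, 102, 117] (v10 C) [25, 28, 64, 88, 98, 111] :=
  C.conv (f1695 C) (f1598 C) (f1823 C) _ [147, 164, 176] _ (by decide +kernel) (by decide +kernel) (by decide +kernel)

theorem f1825 : C.T (v10 C) [25, 28, 64, 88, 98, 111] (v8 C) [4, 47, 70, 102, 117] :=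
  C.flip (f1824 C)

theorem f1826 : C.T (v10 C) [22, 45, 54, 84, 101, 110, 125] (v10 C) [4, 31, 59, 73, 93, 109, 115] :=
  C.closeT (p := (v8 C)) (pu := [25, 40, 69, 76, 92, 109, 115])
    (C.pT (f1819 C)
    (C.pH [8, 30, 65, 84, 94, 117] [9, 34, 51, 84, 103, 110, 115] (by decide +kernel)
    (C.pT (f1821 C)
    (C.pH [26, 38, 54, 89, 90, 113] [22, 45, 54, 84, 101, 110, 125] (by decide +kernel) (C.pNil _ _)))))
    (C.pH [8, 30, 65, 84, 94, 117] [25, 28, 64, 88, 98, 111] (by decide +kernel)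
    (C.pT (f1825 C)
    (C.pH [26, 38, 54, 89, 90, 113] [25, 40, 69, 76, 92, 109, 115] (by decide +kernel) (C.pNil _ _))))
    (C.loop_of_one (relLoop1 C) _ _)

theorem f1828 : C.S (v10 C) [] :=
  C.stOne _

theorem f1830 : C.T (v8 C) [22, 41, 53, 89, 90, 109, 125] (v10 C) [17, 28, 67, 70, 96] :=
  C.conv (f1695 C) (f1598 C) (f1598 C) _ [139, 153, 164, 176, 178] _ (by decide +kernel) (by decide +kernel) (by decide +kernel)

theorem f1831 : C.S (v8 C) [12, 44, 64, 73, 104, 110] :=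
  C.stMul (f1537 C) (f1529 C) _ (by decide +kernel)

theorem f1832 : C.S (v8 C) [18, 46, 49, 74, 90, 120] :=
  C.stMul (f1537 C) (f1831 C) _ (by decide +kernel)

theorem f1833 : C.S (v8 C) [31, 56, 86, 90, 110, 124] :=
  C.stMul (f1552 C) (f1529 C) _ (by decide +kernel)

theorem f1834 : C.T (v8 C) [9, 32, 65, 86, 91, 110, 122] (v6 C) [22, 40, 51, 74, 94, 118] :=
  C.conv (f1562 C) (f1832 C) (f1833 C) _ [131, 151, 172] _ (by decide +kernel) (by decide +kernel) (by decide +kernel)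

theorem f1835 : C.T (v6 C) [22, 40, 51, 74, 94, 118] (v8 C) [9, 32, 65, 86, 91, 110, 122] :=
  C.flip (f1834 C)

theorem f1836 : C.S (v6 C) [12, 29, 59, 86, 102, 109] :=
  C.stMul (f1270 C) (f1307 C) _ (by decide +kernel)

theorem f1837 : C.T (v6 C) [17, 34, 59, 81, 107, 109, 117] (v10 C) [16, 47, 63, 84, 103, 110, 121] :=
  C.conv (f1721 C) (f1725 C) (f1836 C) _ [139, 164] _ (by decide +kernel) (by decide +kernel) (by decide +kernel)

theorem f1838 : C.T (v10 C) [16, 47, 63, 84, 103, 110, 121] (v6 C) [17, 34, 59, 81, 107, 109, 117] :=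
  C.flip (f1837 C)

theorem f1839 : C.T (v10 C) [22, 38, 64, 86, 91, 122] (v10 C) [26, 28, 49, 75, 96, 109, 115] :=
  C.closeT (p := (v8 C)) (pu := [22, 41, 53, 89, 90, 109, 125])
    (C.pT (f1830 C)
    (C.pH [8, 30, 65, 84, 94, 117] [22, 38, 64, 86, 91, 122] (by decide +kernel) (C.pNil _ _)))
    (C.pH [26, 38, 54, 89, 90, 113] [16, 47, 63, 84, 103, 110, 121] (by decide +kernel)
    (C.pT (f1838 C)
    (C.pH [8, 30, 65, 84, 94, 117] [22, 40, 51, 74, 94, 118] (by decide +kernel)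
    (C.pT (f1835 C)
    (C.pH [26, 38, 54, 89, 90, 113] [22, 41, 53, 89, 90, 109, 125] (by decide +kernel) (C.pNil _ _))))))
    (C.loop_of_one (relLoop1 C) _ _)

theorem f1842 : C.T (v10 C) [22, 28, 49, 87, 90, 109, 123] (v6 C) [4, 32, 61, 89, 97, 120] :=
  C.conv (f1720 C) (f1699 C) (f1699 C) _ [142, 154, 168, 176] _ (by decide +kernel) (by decide +kernel) (by decide +kernel)

theorem f1843 : C.T (v6 C) [13, 27, 56, 86, 106, 110, 123] (v10 C) [11, 36, 66, 79, 91, 109, 112] :=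
  C.conv (f1721 C) (f1725 C) (f1266 C) _ [144, 150, 168, 176] _ (by decide +kernel) (by decide +kernel) (by decide +kernel)

theorem f1844 : C.T (v10 C) [20, 32, 50, 86, 91, 109, 124] (v10 C) [20, 47, 51, 77, 101, 109, 123] :=
  C.closeT (p := (v10 C)) (pu := [22, 28, 49, 87, 90, 109, 123])
    (C.pT (f1842 C)
    (C.pH [12, 35, 50, 83] [13, 27, 56, 86, 106, 110, 123] (by decide +kernel)
    (C.pT (f1843 C)
    (C.pH [12, 35, 50, 83] [20, 32, 50, 86, 91, 109, 124] (by decide +kernel) (C.pNil _ _)))))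
    (C.pH [12, 35, 50, 83] [22, 28, 49, 87, 90, 109, 123] (by decide +kernel) (C.pNil _ _))
    (C.loop_of_one (relLoop0 C) _ _)

theorem f1847 : C.T (v10 C) [10, 42, 65, 77, 90, 117] (v10 C) [4, 41, 58, 88, 104, 110, 118] :=
  C.conv (f1730 C) (f1709 C) (f1709 C) _ [130, 156, 169, 173] _ (by decide +kernel) (by decide +kernel) (by decide +kernel)

theorem f1848 : C.T (v10 C) [8, 30, 55, 89, 92, 110, 111] (v10 C) [9, 27, 60, 82, 108, 110, 125] :=
  C.conv (f1770 C) (f1773 C) (f1709 C) _ [126, 149, 172] _ (by decide +kernel) (by decide +kernel) (by decide +kernel)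

theorem f1849 : C.T (v10 C) [9, 27, 60, 82, 108, 110, 125] (v10 C) [8, 30, 55, 89, 92, 110, 111] :=
  C.flip (f1848 C)

theorem f1850 : C.T (v10 C) [13, 43, 58, 88, 104, 110, 118] (v10 C) [25, 41, 68, 88, 95, 109, 117] :=
  C.closeT (p := (v10 C)) (pu := [10, 42, 65, 77, 90, 117])
    (C.pT (f1847 C)
    (C.pH [12, 35, 50, 83] [13, 43, 58, 88, 104, 110, 118] (by decide +kernel) (C.pNil _ _)))
    (C.pH [12, 35, 50, 83] [9, 27, 60, 82, 108, 110, 125] (by decide +kernel)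
    (C.pT (f1849 C)
    (C.pH [12, 35, 50, 83] [10, 42, 65, 77, 90, 117] (by decide +kernel) (C.pNil _ _))))
    (C.loop_of_one (relLoop0 C) _ _)

theorem f1853 : C.S (v10 C) [18, 30, 59, 73] :=
  C.stMul (f1699 C) (f1714 C) _ (by decide +kernel)

theorem f1854 : C.T (v10 C) [13, 27, 52, 91, 110, 125] (v4 C) [25, 35, 51, 73] :=
  C.conv (f1797 C) (f1853 C) (f1853 C) _ [127, 159, 165, 176] _ (by decide +kernel) (by decide +kernel) (by decide +kernel)

theorem f1855 : C.S (v4 C) [23, 41, 49, 78, 91, 109] :=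
  C.stMul (f693 C) (f421 C) _ (by decide +kernel)

theorem f1856 : C.S (v4 C) [26, 36, 62, 77, 94, 121] :=
  C.stMul (f421 C) (f1855 C) _ (by decide +kernel)

theorem f1857 : C.S (v4 C) [18, 46, 49, 75, 97, 110, 118] :=
  C.stMul (f407 C) (f407 C) _ (by decide +kernel)

theorem f1858 : C.S (v4 C) [16, 43, 64, 82, 90, 110, 123] :=
  C.stMul (f421 C) (f1857 C) _ (by decide +kernel)

theorem f1859 : C.S (v4 C) [21, 60, 87, 91, 109, 120] :=
  C.stMul (f407 C) (f1858 C) _ (by decide +kernel)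

theorem f1860 : C.S (v4 C) [8, 48, 61, 83, 103, 117] :=
  C.stMul (f407 C) (f1859 C) _ (by decide +kernel)

theorem f1861 : C.S (v4 C) [31, 58, 82, 95, 109, 115] :=
  C.stMul (f421 C) (f1860 C) _ (by decide +kernel)

theorem f1862 : C.T (v4 C) [9, 34, 89, 96, 110, 122] (v10 C) [26, 37, 60, 85, 98, 109, 117] :=
  C.conv (f1798 C) (f1856 C) (f1861 C) _ [143, 163, 164, 175, 178] _ (by decide +kernel) (by decide +kernel) (by decide +kernel)

theorem f1863 : C.T (v10 C) [4, 35, 68, 89, 90, 114] (v10 C) [4, 32, 55, 73, 105, 110, 125] :=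
  C.closeT (p := (v10 C)) (pu := [13, 27, 52, 91, 110, 125])
    (C.pT (f1854 C)
    (C.pH [12, 35, 50, 83] [9, 34, 89, 96, 110, 122] (by decide +kernel)
    (C.pT (f1862 C)
    (C.pH [12, 35, 50, 83] [4, 35, 68, 89, 90, 114] (by decide +kernel) (C.pNil _ _)))))
    (C.pH [12, 35, 50, 83] [13, 27, 52, 91, 110, 125] (by decide +kernel) (C.pNil _ _))
    (C.loop_of_one (relLoop0 C) _ _)

theorem f1865 : C.S (v10 C) [12, 36, 63, 82, 101, 109, 123] :=
  C.stMul (f1714 C) (f1699 C) _ (by decide +kernel)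

theorem f1866 : C.S (v10 C) [11, 44, 66, 74, 91, 109, 124] :=
  C.stMul (f1709 C) (f1865 C) _ (by decide +kernel)

theorem f1868 : C.T (v10 C) [16, 33, 60, 82, 99, 121] (v10 C) [15, 40, 55, 86, 90, 119] :=
  C.conv (f1781 C) (f1784 C) (f1784 C) _ [127, 159, 165, 174, 177] _ (by decide +kernel) (by decide +kernel) (by decide +kernel)

theorem f1869 : C.T (v10 C) [19, 46, 66, 70, 101, 113] (v10 C) [10, 31, 52, 80, 100, 124] :=
  C.conv (f1863 C) (f1866 C) (f1709 C) _ [127, 163, 170, 172, 178] _ (by decide +kernel) (by decide +kernel) (by decide +kernel)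

theorem f1870 : C.T (v10 C) [26, 40, 60, 84, 96, 125] (v10 C) [24, 38, 51, 79, 96, 110, 123] :=
  C.conv (f1863 C) (f1866 C) (f1699 C) _ [142, 158, 164, 176, 178] _ (by decide +kernel) (by decide +kernel) (by decide +kernel)

theorem f1871 : C.T (v10 C) [24, 38, 51, 79, 96, 110, 123] (v10 C) [26, 40, 60, 84, 96, 125] :=
  C.flip (f1870 C)

theorem f1872 : C.T (v10 C) [21, 33, 60, 71, 105, 109, 120] (v10 C) [21, 28, 55, 79, 97, 112] :=
  C.closeT (p := (v10 C)) (pu := [16, 33, 60, 82, 99, 121])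
    (C.pT (f1868 C)
    (C.pH [8, 30, 65, 84, 94, 117] [19, 46, 66, 70, 101, 113] (by decide +kernel)
    (C.pT (f1869 C)
    (C.pH [26, 38, 54, 89, 90, 113] [21, 33, 60, 71, 105, 109, 120] (by decide +kernel) (C.pNil _ _)))))
    (C.pH [8, 30, 65, 84, 94, 117] [24, 38, 51, 79, 96, 110, 123] (by decide +kernel)
    (C.pT (f1871 C)
    (C.pH [26, 38, 54, 89, 90, 113] [16, 33, 60, 82, 99, 121] (by decide +kernel) (C.pNil _ _))))
    (C.loop_of_one (relLoop1 C) _ _)

theorem f1874 : C.S (v10 C) [18, 30, 59, 73] :=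
  C.stMul (f1699 C) (f1714 C) _ (by decide +kernel)

theorem f1875 : C.S (v10 C) [23, 45, 58, 72, 105, 121] :=
  C.stMul (f1714 C) (f1874 C) _ (by decide +kernel)

theorem f1877 : C.T (v10 C) [7, 34, 51, 75, 96, 110, 123] (v4 C) [12, 43, 53, 70, 90, 110, 115] :=
  C.conv (f1797 C) (f1853 C) (f1853 C) _ [143, 166, 171, 178] _ (by decide +kernel) (by decide +kernel) (by decide +kernel)

theorem f1878 : C.T (v4 C) [21, 43, 51, 73, 96, 109, 117] (v4 C) [5, 47, 75, 99, 109, 121] :=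
  C.conv (f589 C) (f697 C) (f407 C) _ [132, 152, 170, 176] _ (by decide +kernel) (by decide +kernel) (by decide +kernel)

theorem f1879 : C.S (v4 C) [23, 45, 57, 77, 95, 110, 118] :=
  C.stMul (f407 C) (f1857 C) _ (by decide +kernel)

theorem f1880 : C.S (v4 C) [26, 43, 63, 73, 104, 112] :=
  C.stMul (f421 C) (f1879 C) _ (by decide +kernel)

theorem f1881 : C.S (v4 C) [25, 46, 61, 102, 110, 119] :=
  C.stMul (f407 C) (f1880 C) _ (by decide +kernel)

theorem f1882 : C.S (v4 C) [26, 42, 68, 71, 107, 109, 113] :=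
  C.stMul (f407 C) (f1881 C) _ (by decide +kernel)

theorem f1883 : C.T (v4 C) [8, 35, 61, 70, 90, 111] (v10 C) [20, 31, 63, 89, 102, 109] :=
  C.conv (f1798 C) (f1856 C) (f1882 C) _ [147, 149, 174, 178] _ (by decide +kernel) (by decide +kernel) (by decide +kernel)

theorem f1884 : C.T (v10 C) [23, 32, 52, 73, 90, 109, 121] (v10 C) [23, 39, 69, 86, 104, 109, 122] :=
  C.closeT (p := (v10 C)) (pu := [7, 34, 51, 75, 96, 110, 123])
    (C.pT (f1877 C)
    (C.pH [8, 30, 65, 84, 94, 117] [21, 43, 51, 73, 96, 109, 117] (by decide +kernel)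
    (C.pT (f1878 C)
    (C.pH [26, 38, 54, 89, 90, 113] [8, 35, 61, 70, 90, 111] (by decide +kernel)
    (C.pT (f1883 C)
    (C.pH [8, 30, 65, 84, 94, 117] [23, 32, 52, 73, 90, 109, 121] (by decide +kernel) (C.pNil _ _)))))))
    (C.pH [26, 38, 54, 89, 90, 113] [7, 34, 51, 75, 96, 110, 123] (by decide +kernel) (C.pNil _ _))
    (C.loop_of_one (relLoop1 C) _ _)

theorem f1886 : C.S (v10 C) [23, 28, 62, 82, 97, 109, 114] :=
  C.stMul (f1709 C) (f1714 C) _ (by decide +kernel)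

theorem f1887 : C.S (v10 C) [36, 53, 78, 90, 120] :=
  C.stMul (f1704 C) (f1886 C) _ (by decide +kernel)

theorem f1889 : C.T (v10 C) [9, 35, 62, 73, 110] (v10 C) [6, 43, 64, 81, 93, 118] :=
  C.conv (f1781 C) (f1784 C) (f1784 C) _ [126, 154, 169, 178] _ (by decide +kernel) (by decide +kernel) (by decide +kernel)

theorem f1890 : C.S (v10 C) [23, 30, 58, 82, 102, 109, 118] :=
  C.stMul (f1722 C) (f1865 C) _ (by decide +kernel)

theorem f1891 : C.S (v10 C) [20, 33, 69, 104, 110, 121] :=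
  C.stMul (f1709 C) (f1890 C) _ (by decide +kernel)

theorem f1892 : C.T (v10 C) [4, 41, 84, 96, 125] (v10 C) [26, 65, 72, 97, 109, 118] :=
  C.conv (f1863 C) (f1866 C) (f1891 C) _ [126, 150, 170, 172, 177] _ (by decide +kernel) (by decide +kernel) (by decide +kernel)

theorem f1893 : C.S (v10 C) [18, 30, 59, 73] :=
  C.stMul (f1699 C) (f1714 C) _ (by decide +kernel)

theorem f1894 : C.S (v10 C) [22, 38, 68, 79, 106, 109, 111] :=
  C.stMul (f1709 C) (f1893 C) _ (by decide +kernel)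

theorem f1895 : C.T (v10 C) [25, 39, 66, 74, 101, 110, 114] (v10 C) [16, 27, 56, 79, 104, 110, 115] :=
  C.conv (f1863 C) (f1866 C) (f1894 C) _ [144, 152, 167, 176, 178] _ (by decide +kernel) (by decide +kernel) (by decide +kernel)

theorem f1896 : C.T (v10 C) [16, 27, 56, 79, 104, 110, 115] (v10 C) [25, 39, 66, 74, 101, 110, 114] :=
  C.flip (f1895 C)

theorem f1897 : C.T (v10 C) [14, 34, 61, 86, 104, 109, 124] (v10 C) [26, 37, 73, 107, 115] :=
  C.closeT (p := (v10 C)) (pu := [9, 35, 62, 73, 110])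
    (C.pT (f1889 C)
    (C.pH [26, 38, 54, 89, 90, 113] [4, 41, 84, 96, 125] (by decide +kernel)
    (C.pT (f1892 C)
    (C.pH [8, 30, 65, 84, 94, 117] [14, 34, 61, 86, 104, 109, 124] (by decide +kernel) (C.pNil _ _)))))
    (C.pH [26, 38, 54, 89, 90, 113] [16, 27, 56, 79, 104, 110, 115] (by decide +kernel)
    (C.pT (f1896 C)
    (C.pH [8, 30, 65, 84, 94, 117] [9, 35, 62, 73, 110] (by decide +kernel) (C.pNil _ _))))
    (C.loop_of_one (relLoop2 C) _ _)

theorem f1900 : C.T (v10 C) [14, 36, 69, 78, 90, 109] (v4 C) [15, 28, 63, 85, 94, 119] :=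
  C.conv (f1797 C) (f1853 C) (f1853 C) _ [140, 153, 170, 174, 178] _ (by decide +kernel) (by decide +kernel) (by decide +kernel)

theorem f1901 : C.S (v4 C) [17, 35, 66, 70, 95] :=
  C.stMul (f421 C) (f407 C) _ (by decide +kernel)

theorem f1902 : C.S (v4 C) [13, 44, 51, 82, 106, 110, 111] :=
  C.stMul (f407 C) (f1901 C) _ (by decide +kernel)

theorem f1903 : C.S (v4 C) [17, 29, 60, 75, 100, 110, 113] :=
  C.stMul (f407 C) (f1902 C) _ (by decide +kernel)

theorem f1904 : C.S (v4 C) [12, 44, 50, 85, 106, 124] :=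
  C.stMul (f421 C) (f1903 C) _ (by decide +kernel)

theorem f1905 : C.S (v4 C) [8, 33, 58, 79, 105, 109, 111] :=
  C.stMul (f693 C) (f1904 C) _ (by decide +kernel)

theorem f1906 : C.T (v4 C) [9, 30, 63, 85, 91, 125] (v10 C) [4, 45, 59, 80, 106, 113] :=
  C.conv (f1798 C) (f1856 C) (f1905 C) _ [133, 161, 165] _ (by decide +kernel) (by decide +kernel) (by decide +kernel)

theorem f1907 : C.S (v10 C) [22, 29, 89, 106, 109, 124] :=
  C.stMul (f1714 C) (f1709 C) _ (by decide +kernel)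

theorem f1908 : C.S (v10 C) [18, 46, 56, 86, 101, 110, 125] :=
  C.stMul (f1709 C) (f1907 C) _ (by decide +kernel)

theorem f1909 : C.T (v10 C) [26, 40, 66, 84, 101, 110, 124] (v10 C) [17, 46, 54, 86, 92, 113] :=
  C.conv (f1863 C) (f1866 C) (f1908 C) _ [142, 154, 167, 173, 177] _ (by decide +kernel) (by decide +kernel) (by decide +kernel)

theorem f1910 : C.T (v10 C) [17, 46, 54, 86, 92, 113] (v10 C) [26, 40, 66, 84, 101, 110, 124] :=
  C.flip (f1909 C)

theorem f1911 : C.T (v10 C) [25, 33, 68, 75, 90, 110, 117] (v10 C) [19, 42, 58, 85, 92, 110, 119] :=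
  C.closeT (p := (v10 C)) (pu := [14, 36, 69, 78, 90, 109])
    (C.pT (f1900 C)
    (C.pH [26, 38, 54, 89, 90, 113] [9, 30, 63, 85, 91, 125] (by decide +kernel)
    (C.pT (f1906 C)
    (C.pH [8, 30, 65, 84, 94, 117] [25, 33, 68, 75, 90, 110, 117] (by decide +kernel) (C.pNil _ _)))))
    (C.pH [26, 38, 54, 89, 90, 113] [17, 46, 54, 86, 92, 113] (by decide +kernel)
    (C.pT (f1910 C)
    (C.pH [8, 30, 65, 84, 94, 117] [14, 36, 69, 78, 90, 109] (by decide +kernel) (C.pNil _ _))))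
    (C.loop_of_one (relLoop2 C) _ _)

theorem f1913 : C.S (v10 C) [23, 28, 62, 82, 97, 109, 114] :=
  C.stMul (f1709 C) (f1714 C) _ (by decide +kernel)

theorem f1914 : C.S (v10 C) [18, 30, 59, 73] :=
  C.stMul (f1699 C) (f1714 C) _ (by decide +kernel)

theorem f1916 : C.T (v10 C) [39, 68, 88, 103, 110, 113] (v10 C) [22, 40, 49, 89, 108, 110, 121] :=
  C.conv (f1850 C) (f1828 C) (f1828 C) _ [146, 150, 166] _ (by decide +kernel) (by decide +kernel) (by decide +kernel)

theorem f1917 : C.T (v10 C) [19, 41, 50, 71, 103, 110, 113] (v10 C) [15, 41, 50, 74, 106, 109, 118] :=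
  C.conv (f1911 C) (f1913 C) (f1914 C) _ [132, 152, 164, 171, 177] _ (by decide +kernel) (by decide +kernel) (by decide +kernel)

theorem f1918 : C.S (v10 C) [12, 36, 68, 81, 93, 109, 118] :=
  C.stMul (f1722 C) (f1704 C) _ (by decide +kernel)

theorem f1919 : C.T (v10 C) [8, 44, 65, 77, 90, 112] (v10 C) [5, 39, 81, 99, 123] :=
  C.conv (f1911 C) (f1913 C) (f1918 C) _ [133, 154, 167, 178] _ (by decide +kernel) (by decide +kernel) (by decide +kernel)

theorem f1920 : C.T (v10 C) [5, 39, 81, 99, 123] (v10 C) [8, 44, 65, 77, 90, 112] :=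
  C.flip (f1919 C)

theorem f1921 : C.T (v10 C) [19, 45, 62, 81, 93, 110, 121] (v10 C) [14, 35, 64, 73, 90, 110, 119] :=
  C.closeT (p := (v10 C)) (pu := [39, 68, 88, 103, 110, 113])
    (C.pT (f1916 C)
    (C.pH [26, 38, 54, 89, 90, 113] [19, 41, 50, 71, 103, 110, 113] (by decide +kernel)
    (C.pT (f1917 C)
    (C.pH [8, 30, 65, 84, 94, 117] [19, 45, 62, 81, 93, 110, 121] (by decide +kernel) (C.pNil _ _)))))
    (C.pH [26, 38, 54, 89, 90, 113] [5, 39, 81, 99, 123] (by decide +kernel)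
    (C.pT (f1920 C)
    (C.pH [8, 30, 65, 84, 94, 117] [39, 68, 88, 103, 110, 113] (by decide +kernel) (C.pNil _ _))))
    (C.loop_of_one (relLoop2 C) _ _)

theorem f1923 : C.S (v10 C) [18, 48, 57, 98, 110, 125] :=
  C.stMul (f1704 C) (f1709 C) _ (by decide +kernel)

theorem f1924 : C.S (v10 C) [23, 46, 68, 81, 97, 110, 119] :=
  C.stMul (f1714 C) (f1923 C) _ (by decide +kernel)

theorem f1926 : C.T (v10 C) [15, 40, 68, 81, 101, 110, 124] (v10 C) [15, 45, 58, 86, 104, 117] :=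
  C.conv (f1872 C) (f1875 C) (f1875 C) _ [129, 155, 164, 172, 177] _ (by decide +kernel) (by decide +kernel) (by decide +kernel)

theorem f1927 : C.S (v10 C) [12, 36, 63, 82, 101, 109, 123] :=
  C.stMul (f1714 C) (f1699 C) _ (by decide +kernel)

theorem f1928 : C.S (v10 C) [7, 41, 66, 82, 99, 109, 121] :=
  C.stMul (f1699 C) (f1927 C) _ (by decide +kernel)

theorem f1929 : C.T (v10 C) [9, 29, 83, 101, 110] (v10 C) [14, 33, 89, 93, 110, 116] :=
  C.conv (f1884 C) (f1887 C) (f1928 C) _ [141, 149, 167, 176, 177] _ (by decide +kernel) (by decide +kernel) (by decide +kernel)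

theorem f1930 : C.S (v10 C) [18, 35, 52, 77, 102, 109, 115] :=
  C.stMul (f1714 C) (f1704 C) _ (by decide +kernel)

theorem f1931 : C.S (v10 C) [22, 40, 53, 75, 107, 125] :=
  C.stMul (f1709 C) (f1930 C) _ (by decide +kernel)

theorem f1932 : C.T (v10 C) [5, 39, 51, 102, 125] (v10 C) [14, 31, 65, 82, 101] :=
  C.conv (f1921 C) (f1924 C) (f1931 C) _ [131, 149, 167, 173] _ (by decide +kernel) (by decide +kernel) (by decide +kernel)

theorem f1933 : C.T (v10 C) [5, 47, 67, 71, 99, 109, 124] (v10 C) [10, 28, 56, 72, 104, 110, 120] :=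
  C.closeT (p := (v10 C)) (pu := [15, 40, 68, 81, 101, 110, 124])
    (C.pT (f1926 C)
    (C.pH [26, 38, 54, 89, 90, 113] [9, 29, 83, 101, 110] (by decide +kernel)
    (C.pT (f1929 C)
    (C.pH [8, 30, 65, 84, 94, 117] [5, 39, 51, 102, 125] (by decide +kernel)
    (C.pT (f1932 C)
    (C.pH [26, 38, 54, 89, 90, 113] [5, 47, 67, 71, 99, 109, 124] (by decide +kernel) (C.pNil _ _)))))))
    (C.pH [8, 30, 65, 84, 94, 117] [15, 40, 68, 81, 101, 110, 124] (by decide +kernel) (C.pNil _ _))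
    (C.loop_of_one (relLoop2 C) _ _)

theorem f1935 : C.S (v10 C) [22, 34, 56, 72, 106, 110, 125] :=
  C.stMul (f1704 C) (f1699 C) _ (by decide +kernel)

theorem f1937 : C.T (v2 C) [48, 62, 78, 92, 110, 124] (v4 C) [18, 35, 57, 83, 90, 109, 125] :=
  C.conv (f857 C) (f864 C) (f864 C) _ [132, 157, 167, 174, 177] _ (by decide +kernel) (by decide +kernel) (by decide +kernel)

theorem f1938 : C.S (v4 C) [8, 31, 60, 85, 98, 110, 125] :=
  C.stMul (f693 C) (f407 C) _ (by decide +kernel)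

theorem f1939 : C.S (v4 C) [42, 63, 82, 91, 110, 125] :=
  C.stMul (f421 C) (f1938 C) _ (by decide +kernel)

theorem f1940 : C.T (v4 C) [10, 34, 49, 74, 95, 110] (v10 C) [11, 32, 50, 81, 106, 110, 120] :=
  C.conv (f1798 C) (f1856 C) (f1939 C) _ [146, 152, 164, 176] _ (by decide +kernel) (by decide +kernel) (by decide +kernel)

theorem f1941 : C.S (v2 C) [20, 48, 67, 87, 99, 110, 122] :=
  C.stMul (f211 C) (f1018 C) _ (by decide +kernel)

theorem f1942 : C.T (v2 C) [8, 46, 66, 101, 110, 113] (v5 C) [17, 43, 50, 88, 108, 119] :=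
  C.conv (f982 C) (f323 C) (f1941 C) _ [139, 151] _ (by decide +kernel) (by decide +kernel) (by decide +kernel)

theorem f1943 : C.T (v5 C) [17, 43, 50, 88, 108, 119] (v2 C) [8, 46, 66, 101, 110, 113] :=
  C.flip (f1942 C)

theorem f1944 : C.T (v10 C) [7, 30, 61, 87, 94, 110, 115] (v5 C) [19, 29, 63, 84, 100, 121] :=
  C.closeT (p := (v2 C)) (pu := [48, 62, 78, 92, 110, 124])
    (C.pT (f1937 C)
    (C.pH [26, 38, 54, 89, 90, 113] [10, 34, 49, 74, 95, 110] (by decide +kernel)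
    (C.pT (f1940 C)
    (C.pH [8, 30, 65, 84, 94, 117] [7, 30, 61, 87, 94, 110, 115] (by decide +kernel) (C.pNil _ _)))))
    (C.pH [26, 38, 54, 89, 90, 113] [17, 43, 50, 88, 108, 119] (by decide +kernel)
    (C.pT (f1943 C)
    (C.pH [8, 30, 65, 84, 94, 117] [48, 62, 78, 92, 110, 124] (by decide +kernel) (C.pNil _ _))))
    (C.loop_of_one (relLoop2 C) _ _)

theorem f1945 : C.T (v5 C) [19, 29, 63, 84, 100, 121] (v10 C) [7, 30, 61, 87, 94, 110, 115] :=
  C.flip (f1944 C)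

theorem f1946 : C.T (v4 C) [11, 36, 66, 81, 107, 110, 116] (v6 C) [11, 43, 56, 72, 90, 118] :=
  C.conv (f1276 C) (f407 C) (f407 C) _ [132, 163, 168, 174] _ (by decide +kernel) (by decide +kernel) (by decide +kernel)

theorem f1947 : C.S (v4 C) [16, 46, 68, 72, 103, 110, 111] :=
  C.stMul (f693 C) (f1879 C) _ (by decide +kernel)

theorem f1948 : C.T (v4 C) [22, 27, 53, 83, 103, 110, 124] (v10 C) [23, 48, 62, 77, 105, 109, 121] :=
  C.conv (f1798 C) (f1856 C) (f1947 C) _ [148, 155, 164, 178] _ (by decide +kernel) (by decide +kernel) (by decide +kernel)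

theorem f1949 : C.T (v10 C) [23, 48, 62, 77, 105, 109, 121] (v4 C) [22, 27, 53, 83, 103, 110, 124] :=
  C.flip (f1948 C)

theorem f1950 : C.T (v6 C) [20, 75, 102, 109, 121] (v10 C) [12, 48, 50, 73, 91, 110, 114] :=
  C.closeT (p := (v4 C)) (pu := [11, 36, 66, 81, 107, 110, 116])
    (C.pT (f1946 C)
    (C.pH [12, 35, 50, 83] [20, 75, 102, 109, 121] (by decide +kernel) (C.pNil _ _)))
    (C.pH [12, 35, 50, 83] [23, 48, 62, 77, 105, 109, 121] (by decide +kernel)
    (C.pT (f1949 C)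
    (C.pH [12, 35, 50, 83] [11, 36, 66, 81, 107, 110, 116] (by decide +kernel) (C.pNil _ _))))
    (C.loop_of_one (relLoop0 C) _ _)

theorem f1951 : C.T (v10 C) [12, 48, 50, 73, 91, 110, 114] (v6 C) [20, 75, 102, 109, 121] :=
  C.flip (f1950 C)

theorem f1952 : C.T (v5 C) [19, 37, 50, 80, 106, 109, 118] (v5 C) [21, 31, 69, 79, 93, 122] :=
  C.conv (f1260 C) (f1262 C) (f1262 C) _ [136, 160, 167, 174] _ (by decide +kernel) (by decide +kernel) (by decide +kernel)

theorem f1953 : C.S (v5 C) [10, 27, 54, 88, 92, 110, 113] :=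
  C.stMul (f1023 C) (f1023 C) _ (by decide +kernel)

theorem f1954 : C.S (v5 C) [7, 48, 49, 78, 90, 109, 120] :=
  C.stMul (f986 C) (f1953 C) _ (by decide +kernel)

theorem f1955 : C.S (v5 C) [20, 48, 54, 82, 103, 116] :=
  C.stMul (f1023 C) (f1141 C) _ (by decide +kernel)

theorem f1956 : C.T (v5 C) [6, 40, 68, 87, 103, 110, 119] (v10 C) [21, 39, 63, 89, 93, 123] :=
  C.conv (f1945 C) (f1954 C) (f1955 C) _ [132, 156, 164, 173, 177] _ (by decide +kernel) (by decide +kernel) (by decide +kernel)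

theorem f1957 : C.T (v10 C) [21, 39, 63, 89, 93, 123] (v5 C) [6, 40, 68, 87, 103, 110, 119] :=
  C.flip (f1956 C)

theorem f1958 : C.T (v5 C) [8, 45, 64, 73, 94, 109, 112] (v10 C) [10, 46, 59, 77, 94, 109, 120] :=
  C.closeT (p := (v5 C)) (pu := [19, 37, 50, 80, 106, 109, 118])
    (C.pT (f1952 C)
    (C.pH [12, 35, 50, 83] [8, 45, 64, 73, 94, 109, 112] (by decide +kernel) (C.pNil _ _)))
    (C.pH [12, 35, 50, 83] [21, 39, 63, 89, 93, 123] (by decide +kernel)
    (C.pT (f1957 C)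
    (C.pH [12, 35, 50, 83] [19, 37, 50, 80, 106, 109, 118] (by decide +kernel) (C.pNil _ _))))
    (C.loop_of_one (relLoop0 C) _ _)

theorem f1959 : C.T (v10 C) [10, 46, 59, 77, 94, 109, 120] (v5 C) [8, 45, 64, 73, 94, 109, 112] :=
  C.flip (f1958 C)

theorem f1960 : C.T (v5 C) [11, 46, 59, 82, 106, 109, 122] (v10 C) [13, 38, 54, 89, 93, 109, 122] :=
  C.conv (f1945 C) (f1954 C) (f1954 C) _ [132, 157, 169, 176, 178] _ (by decide +kernel) (by decide +kernel) (by decide +kernel)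

theorem f1961 : C.S (v5 C) [20, 35, 58, 88, 120] :=
  C.stMul (f1023 C) (f1008 C) _ (by decide +kernel)

theorem f1962 : C.S (v5 C) [20, 48, 54, 79, 94, 109, 111] :=
  C.stMul (f1008 C) (f1961 C) _ (by decide +kernel)

theorem f1963 : C.S (v5 C) [43, 67, 71, 98, 119] :=
  C.stMul (f986 C) (f986 C) _ (by decide +kernel)

theorem f1964 : C.S (v5 C) [9, 68, 77, 104, 110, 122] :=
  C.stMul (f986 C) (f1963 C) _ (by decide +kernel)

theorem f1965 : C.T (v5 C) [22, 41, 63, 75, 98, 109] (v10 C) [21, 32, 66, 82, 100, 120] :=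
  C.conv (f1958 C) (f1962 C) (f1964 C) _ [140, 159, 167, 176] _ (by decide +kernel) (by decide +kernel) (by decide +kernel)

theorem f1966 : C.T (v10 C) [21, 32, 66, 82, 100, 120] (v5 C) [22, 41, 63, 75, 98, 109] :=
  C.flip (f1965 C)

theorem f1967 : C.T (v10 C) [26, 48, 55, 91, 109, 123] (v10 C) [10, 32, 55, 89, 92, 110] :=
  C.closeT (p := (v5 C)) (pu := [11, 46, 59, 82, 106, 109, 122])
    (C.pT (f1960 C)
    (C.pH [12, 35, 50, 83] [26, 48, 55, 91, 109, 123] (by decide +kernel) (C.pNil _ _)))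
    (C.pH [12, 35, 50, 83] [21, 32, 66, 82, 100, 120] (by decide +kernel)
    (C.pT (f1966 C)
    (C.pH [12, 35, 50, 83] [11, 46, 59, 82, 106, 109, 122] (by decide +kernel) (C.pNil _ _))))
    (C.loop_of_one (relLoop0 C) _ _)

theorem f1970 : C.T (v5 C) [5, 46, 69, 73, 107, 112] (v5 C) [19, 44, 52, 74, 105, 109] :=
  C.conv (f1116 C) (f1147 C) (f1147 C) _ [145, 158, 170, 176, 178] _ (by decide +kernel) (by decide +kernel) (by decide +kernel)

theorem f1971 : C.S (v5 C) [20, 30, 59, 71, 105, 121] :=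
  C.stMul (f1008 C) (f1023 C) _ (by decide +kernel)

theorem f1972 : C.T (v5 C) [26, 35, 63, 87, 92, 123] (v5 C) [18, 31, 53, 75, 96, 119] :=
  C.conv (f1221 C) (f1225 C) (f1971 C) _ [160, 167, 171, 177] _ (by decide +kernel) (by decide +kernel) (by decide +kernel)

theorem f1973 : C.T (v5 C) [10, 30, 69, 87, 102, 109, 116] (v10 C) [9, 35, 60, 70, 109, 112] :=
  C.conv (f1945 C) (f1954 C) (f1955 C) _ [146, 152, 169] _ (by decide +kernel) (by decide +kernel) (by decide +kernel)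

theorem f1974 : C.T (v10 C) [18, 41, 63, 88, 104, 118] (v5 C) [14, 44, 61, 82, 107, 110, 117] :=
  C.closeT (p := (v5 C)) (pu := [5, 46, 69, 73, 107, 112])
    (C.pT (f1970 C)
    (C.pH [8, 30, 65, 84, 94, 117] [26, 35, 63, 87, 92, 123] (by decide +kernel)
    (C.pT (f1972 C)
    (C.pH [26, 38, 54, 89, 90, 113] [10, 30, 69, 87, 102, 109, 116] (by decide +kernel)
    (C.pT (f1973 C)
    (C.pH [8, 30, 65, 84, 94, 117] [18, 41, 63, 88, 104, 118] (by decide +kernel) (C.pNil _ _)))))))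
    (C.pH [26, 38, 54, 89, 90, 113] [5, 46, 69, 73, 107, 112] (by decide +kernel) (C.pNil _ _))
    (C.loop_of_one (relLoop1 C) _ _)

theorem f1975 : C.T (v5 C) [14, 44, 61, 82, 107, 110, 117] (v10 C) [18, 41, 63, 88, 104, 118] :=
  C.flip (f1974 C)

theorem f1976 : C.T (v5 C) [21, 32, 52, 78, 99, 109, 121] (v4 C) [11, 40, 64, 103, 109, 116] :=
  C.conv (f1137 C) (f1149 C) (f1149 C) _ [127, 150, 168, 175] _ (by decide +kernel) (by decide +kernel) (by decide +kernel)

theorem f1977 : C.S (v4 C) [21, 35, 69, 73, 94, 109, 122] :=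
  C.stMul (f421 C) (f1902 C) _ (by decide +kernel)

theorem f1978 : C.S (v4 C) [18, 37, 59, 73, 102, 116] :=
  C.stMul (f693 C) (f1977 C) _ (by decide +kernel)

theorem f1979 : C.T (v4 C) [24, 29, 49, 72, 102, 124] (v10 C) [6, 32, 62, 73, 90, 121] :=
  C.conv (f1798 C) (f1856 C) (f1978 C) _ [129, 160, 167, 172] _ (by decide +kernel) (by decide +kernel) (by decide +kernel)

theorem f1980 : C.S (v5 C) [43, 67, 71, 98, 119] :=
  C.stMul (f986 C) (f986 C) _ (by decide +kernel)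

theorem f1981 : C.T (v5 C) [12, 44, 62, 89, 102, 110, 115] (v10 C) [39, 51, 86, 103, 110] :=
  C.conv (f1975 C) (f1023 C) (f1980 C) _ [140, 155, 171, 178] _ (by decide +kernel) (by decide +kernel) (by decide +kernel)

theorem f1982 : C.T (v10 C) [39, 51, 86, 103, 110] (v5 C) [12, 44, 62, 89, 102, 110, 115] :=
  C.flip (f1981 C)

theorem f1983 : C.T (v10 C) [13, 47, 57, 74, 100, 110, 117] (v10 C) [7, 27, 54, 80, 96, 110, 112] :=
  C.closeT (p := (v5 C)) (pu := [21, 32, 52, 78, 99, 109, 121])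
    (C.pT (f1976 C)
    (C.pH [26, 38, 54, 89, 90, 113] [24, 29, 49, 72, 102, 124] (by decide +kernel)
    (C.pT (f1979 C)
    (C.pH [8, 30, 65, 84, 94, 117] [13, 47, 57, 74, 100, 110, 117] (by decide +kernel) (C.pNil _ _)))))
    (C.pH [26, 38, 54, 89, 90, 113] [39, 51, 86, 103, 110] (by decide +kernel)
    (C.pT (f1982 C)
    (C.pH [8, 30, 65, 84, 94, 117] [21, 32, 52, 78, 99, 109, 121] (by decide +kernel) (C.pNil _ _))))
    (C.loop_of_one (relLoop2 C) _ _)

theorem f1984 : C.T (v10 C) [7, 27, 54, 80, 96, 110, 112] (v10 C) [13, 47, 57, 74, 100, 110, 117] :=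
  C.flip (f1983 C)

theorem f1985 : C.S (v6 C) [17, 39, 57, 81, 99, 110, 123] :=
  C.stMul (f1291 C) (f1307 C) _ (by decide +kernel)

theorem f1986 : C.T (v6 C) [26, 29, 53, 80, 98, 109, 119] (v10 C) [16, 46, 59, 75, 102, 115] :=
  C.conv (f1950 C) (f1985 C) (f1985 C) _ [127, 149, 166, 175, 177] _ (by decide +kernel) (by decide +kernel) (by decide +kernel)

theorem f1987 : C.T (v10 C) [16, 46, 65, 83, 106, 110, 123] (v10 C) [14, 40, 66, 75, 108, 109, 111] :=
  C.conv (f1984 C) (f1709 C) (f1722 C) _ [145, 151, 165, 172] _ (by decide +kernel) (by decide +kernel) (by decide +kernel)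

theorem f1988 : C.T (v10 C) [14, 40, 88, 106, 109, 112] (v6 C) [13, 27, 54, 78, 93, 120] :=
  C.closeT (p := (v6 C)) (pu := [26, 29, 53, 80, 98, 109, 119])
    (C.pT (f1986 C)
    (C.pH [12, 35, 50, 83] [16, 46, 65, 83, 106, 110, 123] (by decide +kernel)
    (C.pT (f1987 C)
    (C.pH [12, 35, 50, 83] [14, 40, 88, 106, 109, 112] (by decide +kernel) (C.pNil _ _)))))
    (C.pH [12, 35, 50, 83] [26, 29, 53, 80, 98, 109, 119] (by decide +kernel) (C.pNil _ _))
    (C.loop_of_one (relLoop0 C) _ _)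

theorem f1989 : C.T (v6 C) [13, 27, 54, 78, 93, 120] (v10 C) [14, 40, 88, 106, 109, 112] :=
  C.flip (f1988 C)

theorem f1990 : C.T (v9 C) [7, 33, 79, 100, 122] (v7 C) [22, 29, 60, 75, 102, 117] :=
  C.conv (f1628 C) (f1657 C) (f1657 C) _ [127, 149, 168, 172, 178] _ (by decide +kernel) (by decide +kernel) (by decide +kernel)

theorem f1991 : C.S (v7 C) [5, 28, 64, 80, 108, 110, 113] :=
  C.stMul (f1472 C) (f1484 C) _ (by decide +kernel)

theorem f1992 : C.S (v7 C) [14, 47, 54, 86, 100, 110, 119] :=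
  C.stMul (f1497 C) (f1991 C) _ (by decide +kernel)

theorem f1993 : C.S (v7 C) [26, 46, 59, 89, 100, 110, 122] :=
  C.stMul (f1460 C) (f1992 C) _ (by decide +kernel)

theorem f1994 : C.S (v7 C) [19, 48, 81, 123] :=
  C.stMul (f1476 C) (f1993 C) _ (by decide +kernel)

theorem f1995 : C.S (v7 C) [19, 47, 68, 70, 107, 110, 117] :=
  C.stMul (f1497 C) (f1994 C) _ (by decide +kernel)

theorem f1996 : C.S (v7 C) [26, 31, 63, 80, 94, 109, 115] :=
  C.stMul (f1484 C) (f1995 C) _ (by decide +kernel)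

theorem f1997 : C.T (v7 C) [19, 61, 70, 94, 110, 111] (v6 C) [8, 42, 50, 72, 110, 122] :=
  C.conv (f1493 C) (f1497 C) (f1996 C) _ [135, 172] _ (by decide +kernel) (by decide +kernel) (by decide +kernel)

theorem f1998 : C.S (v6 C) [7, 45, 62, 89, 101, 114] :=
  C.stMul (f1270 C) (f1353 C) _ (by decide +kernel)

theorem f1999 : C.S (v6 C) [18, 33, 62, 83, 98, 109, 117] :=
  C.stMul (f1266 C) (f1998 C) _ (by decide +kernel)

theorem f2000 : C.T (v6 C) [42, 76, 90, 110] (v10 C) [5, 34, 50, 89, 92, 109, 122] :=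
  C.conv (f1950 C) (f1985 C) (f1999 C) _ [148, 153, 165, 174, 178] _ (by decide +kernel) (by decide +kernel) (by decide +kernel)

theorem f2001 : C.T (v10 C) [8, 42, 62, 89, 97, 110, 115] (v9 C) [11, 36, 60, 85, 99, 110, 112] :=
  C.closeT (p := (v9 C)) (pu := [7, 33, 79, 100, 122])
    (C.pT (f1990 C)
    (C.pH [26, 38, 54, 89, 90, 113] [19, 61, 70, 94, 110, 111] (by decide +kernel)
    (C.pT (f1997 C)
    (C.pH [8, 30, 65, 84, 94, 117] [42, 76, 90, 110] (by decide +kernel)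
    (C.pT (f2000 C)
    (C.pH [26, 38, 54, 89, 90, 113] [8, 42, 62, 89, 97, 110, 115] (by decide +kernel) (C.pNil _ _)))))))
    (C.pH [8, 30, 65, 84, 94, 117] [7, 33, 79, 100, 122] (by decide +kernel) (C.pNil _ _))
    (C.loop_of_one (relLoop2 C) _ _)

theorem f2002 : C.T (v9 C) [11, 36, 60, 85, 99, 110, 112] (v10 C) [8, 42, 62, 89, 97, 110, 115] :=
  C.flip (f2001 C)

theorem f2003 : C.S (v10 C) [12, 29, 59, 82, 105, 117] :=
  C.stMul (f1709 C) (f1699 C) _ (by decide +kernel)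

theorem f2004 : C.T (v10 C) [17, 46, 64, 76, 92, 111] (v5 C) [22, 27, 66, 86, 103, 110, 121] :=
  C.conv (f1959 C) (f2003 C) (f2003 C) _ [143, 156, 170, 176] _ (by decide +kernel) (by decide +kernel) (by decide +kernel)

theorem f2005 : C.S (v10 C) [18, 48, 57, 98, 110, 125] :=
  C.stMul (f1704 C) (f1709 C) _ (by decide +kernel)

theorem f2006 : C.S (v10 C) [22, 48, 53, 80, 99, 115] :=
  C.stMul (f1709 C) (f2005 C) _ (by decide +kernel)

theorem f2007 : C.S (v10 C) [18, 35, 59, 78, 91, 110, 122] :=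
  C.stMul (f1722 C) (f1699 C) _ (by decide +kernel)

theorem f2008 : C.T (v10 C) [9, 32, 64, 86, 108, 109, 122] (v9 C) [7, 43, 50, 84, 97, 118] :=
  C.conv (f2001 C) (f2006 C) (f2007 C) _ [140, 162, 167, 173] _ (by decide +kernel) (by decide +kernel) (by decide +kernel)

theorem f2009 : C.T (v9 C) [7, 43, 50, 84, 97, 118] (v10 C) [9, 32, 64, 86, 108, 109, 122] :=
  C.flip (f2008 C)

theorem f2010 : C.T (v5 C) [11, 36, 56, 76, 108, 110, 120] (v9 C) [7, 43, 49, 80, 102, 109, 124] :=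
  C.closeT (p := (v10 C)) (pu := [17, 46, 64, 76, 92, 111])
    (C.pT (f2004 C)
    (C.pH [12, 35, 50, 83] [11, 36, 56, 76, 108, 110, 120] (by decide +kernel) (C.pNil _ _)))
    (C.pH [12, 35, 50, 83] [7, 43, 50, 84, 97, 118] (by decide +kernel)
    (C.pT (f2009 C)
    (C.pH [12, 35, 50, 83] [17, 46, 64, 76, 92, 111] (by decide +kernel) (C.pNil _ _))))
    (C.loop_of_one (relLoop0 C) _ _)

theorem f2011 : C.T (v9 C) [7, 43, 49, 80, 102, 109, 124] (v5 C) [11, 36, 56, 76, 108, 110, 120] :=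
  C.flip (f2010 C)

theorem f2012 : C.T (v10 C) [10, 45, 69, 87, 90, 110, 116] (v9 C) [15, 38, 59, 80, 104, 109, 118] :=
  C.conv (f2001 C) (f2006 C) (f2006 C) _ [141, 158, 170, 171] _ (by decide +kernel) (by decide +kernel) (by decide +kernel)

theorem f2013 : C.S (v10 C) [22, 38, 58, 88, 93, 121] :=
  C.stMul (f1722 C) (f1709 C) _ (by decide +kernel)

theorem f2014 : C.T (v10 C) [8, 27, 58, 89, 105, 110, 118] (v5 C) [8, 30, 69, 71, 106, 110] :=
  C.conv (f1959 C) (f2003 C) (f2013 C) _ [131, 149, 165, 171] _ (by decide +kernel) (by decide +kernel) (by decide +kernel)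

theorem f2015 : C.T (v5 C) [8, 30, 69, 71, 106, 110] (v10 C) [8, 27, 58, 89, 105, 110, 118] :=
  C.flip (f2014 C)

theorem f2016 : C.T (v9 C) [15, 38, 58, 74, 107, 110, 114] (v5 C) [21, 29, 58, 72, 106, 114] :=
  C.closeT (p := (v10 C)) (pu := [10, 45, 69, 87, 90, 110, 116])
    (C.pT (f2012 C)
    (C.pH [12, 35, 50, 83] [15, 38, 58, 74, 107, 110, 114] (by decide +kernel) (C.pNil _ _)))
    (C.pH [12, 35, 50, 83] [8, 30, 69, 71, 106, 110] (by decide +kernel)
    (C.pT (f2015 C)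
    (C.pH [12, 35, 50, 83] [10, 45, 69, 87, 90, 110, 116] (by decide +kernel) (C.pNil _ _))))
    (C.loop_of_one (relLoop0 C) _ _)

theorem f2017 : C.T (v5 C) [21, 29, 58, 72, 106, 114] (v9 C) [15, 38, 58, 74, 107, 110, 114] :=
  C.flip (f2016 C)

theorem f2018 : C.T (v10 C) [42, 53, 88, 93, 110, 115] (v10 C) [7, 46, 60, 82, 90, 123] :=
  C.conv (f1730 C) (f1709 C) (f1709 C) _ [132, 162, 165, 174, 177] _ (by decide +kernel) (by decide +kernel) (by decide +kernel)

theorem f2019 : C.T (v10 C) [17, 30, 51, 78, 103, 117] (v9 C) [5, 46, 67, 76, 95, 110, 117] :=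
  C.conv (f2001 C) (f2006 C) (f1828 C) _ [130, 161, 167, 171, 178] _ (by decide +kernel) (by decide +kernel) (by decide +kernel)

theorem f2020 : C.T (v10 C) [7, 32, 50, 78, 93, 109, 118] (v9 C) [5, 36, 55, 74, 95, 109, 111] :=
  C.conv (f2001 C) (f2006 C) (f1722 C) _ [138, 149, 173, 178] _ (by decide +kernel) (by decide +kernel) (by decide +kernel)

theorem f2021 : C.T (v9 C) [5, 36, 55, 74, 95, 109, 111] (v10 C) [7, 32, 50, 78, 93, 109, 118] :=
  C.flip (f2020 C)

theorem f2022 : C.T (v9 C) [8, 46, 69, 77, 100, 109, 117] (v9 C) [14, 40, 54, 88, 105, 109, 117] :=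
  C.closeT (p := (v10 C)) (pu := [42, 53, 88, 93, 110, 115])
    (C.pT (f2018 C)
    (C.pH [8, 30, 65, 84, 94, 117] [17, 30, 51, 78, 103, 117] (by decide +kernel)
    (C.pT (f2019 C)
    (C.pH [26, 38, 54, 89, 90, 113] [8, 46, 69, 77, 100, 109, 117] (by decide +kernel) (C.pNil _ _)))))
    (C.pH [8, 30, 65, 84, 94, 117] [5, 36, 55, 74, 95, 109, 111] (by decide +kernel)
    (C.pT (f2021 C)
    (C.pH [26, 38, 54, 89, 90, 113] [42, 53, 88, 93, 110, 115] (by decide +kernel) (C.pNil _ _))))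
    (C.loop_of_one (relLoop1 C) _ _)

theorem f2024 : C.S (v9 C) [25, 29, 50, 71, 91, 114] :=
  C.stMul (f1620 C) (f1624 C) _ (by decide +kernel)

theorem f2026 : C.T (v10 C) [15, 36, 64, 81, 102, 124] (v10 C) [15, 38, 63, 75, 92, 119] :=
  C.conv (f1804 C) (f1807 C) (f1807 C) _ [136, 154, 164, 177] _ (by decide +kernel) (by decide +kernel) (by decide +kernel)

theorem f2027 : C.S (v10 C) [12, 29, 59, 82, 105, 117] :=
  C.stMul (f1709 C) (f1699 C) _ (by decide +kernel)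

theorem f2028 : C.S (v10 C) [20, 29, 67, 83, 102, 110, 114] :=
  C.stMul (f1704 C) (f2027 C) _ (by decide +kernel)

theorem f2029 : C.T (v10 C) [19, 39, 66, 71, 110, 112] (v5 C) [7, 29, 66, 84, 98, 109, 116] :=
  C.conv (f1974 C) (f2028 C) (f2027 C) _ [137, 167, 174, 177] _ (by decide +kernel) (by decide +kernel) (by decide +kernel)

theorem f2030 : C.S (v5 C) [9, 33, 66, 75, 101, 109, 123] :=
  C.stMul (f986 C) (f1141 C) _ (by decide +kernel)

theorem f2031 : C.S (v5 C) [13, 31, 66, 73, 100, 119] :=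
  C.stMul (f986 C) (f1023 C) _ (by decide +kernel)

theorem f2032 : C.T (v5 C) [40, 54, 79, 98, 109, 111] (v9 C) [4, 30, 68, 73, 106, 109, 112] :=
  C.conv (f2017 C) (f2030 C) (f2031 C) _ [145, 155, 165, 172, 177] _ (by decide +kernel) (by decide +kernel) (by decide +kernel)

theorem f2033 : C.T (v9 C) [25, 47, 59, 76, 104, 109, 114] (v10 C) [20, 35, 53, 85, 110, 123] :=
  C.closeT (p := (v10 C)) (pu := [15, 36, 64, 81, 102, 124])
    (C.pT (f2026 C)
    (C.pH [8, 30, 65, 84, 94, 117] [19, 39, 66, 71, 110, 112] (by decide +kernel)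
    (C.pT (f2029 C)
    (C.pH [26, 38, 54, 89, 90, 113] [40, 54, 79, 98, 109, 111] (by decide +kernel)
    (C.pT (f2032 C)
    (C.pH [8, 30, 65, 84, 94, 117] [25, 47, 59, 76, 104, 109, 114] (by decide +kernel) (C.pNil _ _)))))))
    (C.pH [26, 38, 54, 89, 90, 113] [15, 36, 64, 81, 102, 124] (by decide +kernel) (C.pNil _ _))
    (C.loop_of_one (relLoop1 C) _ _)

theorem f2034 : C.T (v10 C) [20, 35, 53, 85, 110, 123] (v9 C) [25, 47, 59, 76, 104, 109, 114] :=
  C.flip (f2033 C)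

theorem f2035 : C.T (v10 C) [8, 30, 62, 71, 105, 123] (v10 C) [8, 37, 57, 81, 90, 120] :=
  C.conv (f1884 C) (f1887 C) (f1887 C) _ [136, 157] _ (by decide +kernel) (by decide +kernel) (by decide +kernel)

theorem f2036 : C.S (v10 C) [12, 35, 58, 88, 108, 110, 119] :=
  C.stMul (f1704 C) (f1714 C) _ (by decide +kernel)

theorem f2037 : C.S (v10 C) [23, 45, 65, 73, 92, 109, 123] :=
  C.stMul (f1722 C) (f2036 C) _ (by decide +kernel)

theorem f2038 : C.T (v10 C) [46, 64, 88, 96, 118] (v9 C) [4, 46, 65, 70, 106, 109, 116] :=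
  C.conv (f2034 C) (f2037 C) (f1704 C) _ [134, 161, 165, 173, 178] _ (by decide +kernel) (by decide +kernel) (by decide +kernel)

theorem f2039 : C.S (v10 C) [18, 48, 57, 98, 110, 125] :=
  C.stMul (f1704 C) (f1709 C) _ (by decide +kernel)

theorem f2040 : C.S (v10 C) [22, 48, 53, 80, 99, 115] :=
  C.stMul (f1709 C) (f2039 C) _ (by decide +kernel)

theorem f2041 : C.T (v10 C) [5, 62, 87, 101, 109, 115] (v4 C) [23, 40, 65, 76, 103, 109, 122] :=
  C.conv (f1797 C) (f1853 C) (f2040 C) _ [143, 154, 164, 172] _ (by decide +kernel) (by decide +kernel) (by decide +kernel)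

theorem f2042 : C.T (v4 C) [23, 40, 65, 76, 103, 109, 122] (v10 C) [5, 62, 87, 101, 109, 115] :=
  C.flip (f2041 C)

theorem f2043 : C.T (v9 C) [25, 45, 60, 87, 97, 111] (v4 C) [20, 32, 66, 89, 92, 110, 121] :=
  C.closeT (p := (v10 C)) (pu := [8, 30, 62, 71, 105, 123])
    (C.pT (f2035 C)
    (C.pH [8, 30, 65, 84, 94, 117] [46, 64, 88, 96, 118] (by decide +kernel)
    (C.pT (f2038 C)
    (C.pH [26, 38, 54, 89, 90, 113] [25, 45, 60, 87, 97, 111] (by decide +kernel) (C.pNil _ _)))))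
    (C.pH [8, 30, 65, 84, 94, 117] [23, 40, 65, 76, 103, 109, 122] (by decide +kernel)
    (C.pT (f2042 C)
    (C.pH [26, 38, 54, 89, 90, 113] [8, 30, 62, 71, 105, 123] (by decide +kernel) (C.pNil _ _))))
    (C.loop_of_one (relLoop1 C) _ _)

theorem f2044 : C.T (v4 C) [20, 32, 66, 89, 92, 110, 121] (v9 C) [25, 45, 60, 87, 97, 111] :=
  C.flip (f2043 C)

theorem f2045 : C.T (v10 C) [13, 51, 71, 105, 120] (v10 C) [6, 44, 55, 85, 92, 110, 116] :=
  C.conv (f1781 C) (f1784 C) (f1784 C) _ [147, 162, 164] _ (by decide +kernel) (by decide +kernel) (by decide +kernel)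

theorem f2046 : C.S (v10 C) [12, 35, 58, 88, 108, 110, 119] :=
  C.stMul (f1704 C) (f1714 C) _ (by decide +kernel)

theorem f2047 : C.T (v10 C) [4, 32, 50, 88, 94, 124] (v9 C) [20, 27, 56, 73, 107, 123] :=
  C.conv (f2001 C) (f2006 C) (f2046 C) _ [145, 163, 166, 174, 178] _ (by decide +kernel) (by decide +kernel) (by decide +kernel)

theorem f2048 : C.S (v10 C) [23, 28, 62, 82, 97, 109, 114] :=
  C.stMul (f1709 C) (f1714 C) _ (by decide +kernel)

theorem f2049 : C.T (v10 C) [6, 43, 61, 89, 99, 110, 123] (v9 C) [14, 37, 60, 86, 95, 110, 124] :=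
  C.conv (f2001 C) (f2006 C) (f2048 C) _ [130, 153, 164, 171] _ (by decide +kernel) (by decide +kernel) (by decide +kernel)

theorem f2050 : C.T (v9 C) [14, 37, 60, 86, 95, 110, 124] (v10 C) [6, 43, 61, 89, 99, 110, 123] :=
  C.flip (f2049 C)

theorem f2051 : C.T (v9 C) [23, 29, 67, 74, 96, 109, 122] (v9 C) [12, 43, 50, 87, 92, 109, 124] :=
  C.closeT (p := (v10 C)) (pu := [13, 51, 71, 105, 120])
    (C.pT (f2045 C)
    (C.pH [26, 38, 54, 89, 90, 113] [4, 32, 50, 88, 94, 124] (by decide +kernel)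
    (C.pT (f2047 C)
    (C.pH [8, 30, 65, 84, 94, 117] [23, 29, 67, 74, 96, 109, 122] (by decide +kernel) (C.pNil _ _)))))
    (C.pH [26, 38, 54, 89, 90, 113] [14, 37, 60, 86, 95, 110, 124] (by decide +kernel)
    (C.pT (f2050 C)
    (C.pH [8, 30, 65, 84, 94, 117] [13, 51, 71, 105, 120] (by decide +kernel) (C.pNil _ _))))
    (C.loop_of_one (relLoop2 C) _ _)

theorem f2053 : C.S (v9 C) [21, 32, 63, 85, 106, 110, 120] :=
  C.stMul (f1624 C) (f1620 C) _ (by decide +kernel)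

theorem f2054 : C.S (v9 C) [12, 29, 63, 103, 119] :=
  C.stMul (f1620 C) (f2053 C) _ (by decide +kernel)

theorem f2058 : C.T (v10 C) [16, 44, 61, 88, 98, 124] (v10 C) [16, 31, 54, 76, 97, 109, 113] :=
  C.conv (f1844 C) (f1828 C) (f1828 C) _ [137, 162, 170, 174] _ (by decide +kernel) (by decide +kernel) (by decide +kernel)

theorem f2059 : C.S (v10 C) [12, 36, 63, 82, 101, 109, 123] :=
  C.stMul (f1714 C) (f1699 C) _ (by decide +kernel)

theorem f2060 : C.S (v10 C) [11, 44, 66, 74, 91, 109, 124] :=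
  C.stMul (f1709 C) (f2059 C) _ (by decide +kernel)

theorem f2061 : C.T (v10 C) [13, 38, 53, 73, 106, 121] (v9 C) [21, 30, 57, 83, 100, 124] :=
  C.conv (f2001 C) (f2006 C) (f2060 C) _ [135, 150, 167, 171, 178] _ (by decide +kernel) (by decide +kernel) (by decide +kernel)

theorem f2062 : C.T (v10 C) [24, 43, 61, 86, 91, 109, 113] (v9 C) [23, 32, 49, 73, 95, 109, 123] :=
  C.conv (f2001 C) (f2006 C) (f2005 C) _ [129, 153, 169, 172, 178] _ (by decide +kernel) (by decide +kernel) (by decide +kernel)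

theorem f2063 : C.T (v9 C) [23, 32, 49, 73, 95, 109, 123] (v10 C) [24, 43, 61, 86, 91, 109, 113] :=
  C.flip (f2062 C)

theorem f2064 : C.T (v9 C) [24, 47, 68, 74, 95, 110, 122] (v9 C) [13, 42, 49, 81, 108, 116] :=
  C.closeT (p := (v10 C)) (pu := [16, 44, 61, 88, 98, 124])
    (C.pT (f2058 C)
    (C.pH [26, 38, 54, 89, 90, 113] [13, 38, 53, 73, 106, 121] (by decide +kernel)
    (C.pT (f2061 C)
    (C.pH [8, 30, 65, 84, 94, 117] [24, 47, 68, 74, 95, 110, 122] (by decide +kernel) (C.pNil _ _)))))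
    (C.pH [26, 38, 54, 89, 90, 113] [23, 32, 49, 73, 95, 109, 123] (by decide +kernel)
    (C.pT (f2063 C)
    (C.pH [8, 30, 65, 84, 94, 117] [16, 44, 61, 88, 98, 124] (by decide +kernel) (C.pNil _ _))))
    (C.loop_of_one (relLoop2 C) _ _)

theorem f2066 : C.S (v9 C) [10, 47, 79, 100, 110, 114] :=
  C.stMul (f1620 C) (f1607 C) _ (by decide +kernel)

theorem f2068 : C.T (v10 C) [16, 44, 60, 84, 96, 123] (v10 C) [6, 39, 66, 89, 108, 110, 112] :=
  C.conv (f1911 C) (f1913 C) (f1913 C) _ [140, 165, 174] _ (by decide +kernel) (by decide +kernel) (by decide +kernel)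

theorem f2069 : C.S (v10 C) [23, 28, 62, 82, 97, 109, 114] :=
  C.stMul (f1709 C) (f1714 C) _ (by decide +kernel)

theorem f2070 : C.S (v10 C) [18, 48, 57, 98, 110, 125] :=
  C.stMul (f1704 C) (f1709 C) _ (by decide +kernel)

theorem f2071 : C.T (v10 C) [4, 29, 49, 73, 97, 117] (v5 C) [19, 28, 56, 105, 113] :=
  C.conv (f1944 C) (f2069 C) (f2070 C) _ [144, 155, 167, 175, 178] _ (by decide +kernel) (by decide +kernel) (by decide +kernel)

theorem f2072 : C.S (v10 C) [41, 66, 82, 98, 110, 124] :=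
  C.stMul (f1722 C) (f1714 C) _ (by decide +kernel)

theorem f2073 : C.S (v10 C) [7, 45, 54, 73, 106, 109, 125] :=
  C.stMul (f1709 C) (f2072 C) _ (by decide +kernel)

theorem f2074 : C.T (v10 C) [24, 43, 49, 79, 94, 109, 121] (v9 C) [19, 35, 58, 80, 102, 110, 121] :=
  C.conv (f2034 C) (f2037 C) (f2073 C) _ [146, 156, 165, 173, 177] _ (by decide +kernel) (by decide +kernel) (by decide +kernel)

theorem f2075 : C.T (v9 C) [19, 35, 58, 80, 102, 110, 121] (v10 C) [24, 43, 49, 79, 94, 109, 121] :=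
  C.flip (f2074 C)

theorem f2076 : C.T (v5 C) [26, 41, 69, 89, 98, 109, 122] (v9 C) [22, 43, 69, 80, 103, 110, 116] :=
  C.closeT (p := (v10 C)) (pu := [16, 44, 60, 84, 96, 123])
    (C.pT (f2068 C)
    (C.pH [26, 38, 54, 89, 90, 113] [4, 29, 49, 73, 97, 117] (by decide +kernel)
    (C.pT (f2071 C)
    (C.pH [8, 30, 65, 84, 94, 117] [26, 41, 69, 89, 98, 109, 122] (by decide +kernel) (C.pNil _ _)))))
    (C.pH [26, 38, 54, 89, 90, 113] [19, 35, 58, 80, 102, 110, 121] (by decide +kernel)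
    (C.pT (f2075 C)
    (C.pH [8, 30, 65, 84, 94, 117] [16, 44, 60, 84, 96, 123] (by decide +kernel) (C.pNil _ _))))
    (C.loop_of_one (relLoop2 C) _ _)

theorem f2077 : C.T (v9 C) [22, 43, 69, 80, 103, 110, 116] (v5 C) [26, 41, 69, 89, 98, 109, 122] :=
  C.flip (f2076 C)

theorem f2078 : C.T (v5 C) [21, 44, 59, 89, 99, 109, 120] (v9 C) [19, 46, 58, 77, 98, 110, 119] :=
  C.conv (f2076 C) (f1008 C) (f1008 C) _ [148, 159, 168, 178] _ (by decide +kernel) (by decide +kernel) (by decide +kernel)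

theorem f2079 : C.S (v5 C) [40, 65, 79, 103, 110, 124] :=
  C.stMul (f1008 C) (f1141 C) _ (by decide +kernel)

theorem f2080 : C.S (v5 C) [20, 30, 59, 75, 107, 110, 123] :=
  C.stMul (f1023 C) (f2079 C) _ (by decide +kernel)

theorem f2081 : C.T (v5 C) [12, 45, 51, 73, 104, 115] (v5 C) [44, 66, 81, 93, 109, 111] :=
  C.conv (f1079 C) (f1158 C) (f2080 C) _ [132, 155, 169, 173, 178] _ (by decide +kernel) (by decide +kernel) (by decide +kernel)

theorem f2082 : C.T (v5 C) [44, 66, 81, 93, 109, 111] (v5 C) [12, 45, 51, 73, 104, 115] :=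
  C.flip (f2081 C)

theorem f2083 : C.S (v5 C) [43, 67, 71, 98, 119] :=
  C.stMul (f986 C) (f986 C) _ (by decide +kernel)

theorem f2084 : C.S (v5 C) [43, 67, 79, 93, 109, 124] :=
  C.stMul (f1141 C) (f2083 C) _ (by decide +kernel)

theorem f2085 : C.T (v5 C) [7, 31, 68, 86, 103, 109, 118] (v9 C) [21, 38, 66, 89, 93, 109, 121] :=
  C.conv (f2076 C) (f1008 C) (f2084 C) _ [131, 150, 173, 177] _ (by decide +kernel) (by decide +kernel) (by decide +kernel)

theorem f2086 : C.T (v9 C) [21, 38, 66, 89, 93, 109, 121] (v5 C) [7, 31, 68, 86, 103, 109, 118] :=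
  C.flip (f2085 C)

theorem f2087 : C.T (v9 C) [17, 28, 61, 75, 92, 110, 122] (v9 C) [12, 69, 84, 101, 111] :=
  C.closeT (p := (v5 C)) (pu := [21, 44, 59, 89, 99, 109, 120])
    (C.pT (f2078 C)
    (C.pH [26, 38, 54, 89, 90, 113] [17, 28, 61, 75, 92, 110, 122] (by decide +kernel) (C.pNil _ _)))
    (C.pH [8, 30, 65, 84, 94, 117] [21, 38, 66, 89, 93, 109, 121] (by decide +kernel)
    (C.pT (f2086 C)
    (C.pH [26, 38, 54, 89, 90, 113] [44, 66, 81, 93, 109, 111] (by decide +kernel)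
    (C.pT (f2082 C)
    (C.pH [8, 30, 65, 84, 94, 117] [21, 44, 59, 89, 99, 109, 120] (by decide +kernel) (C.pNil _ _))))))
    (C.loop_of_one (relLoop2 C) _ _)

theorem f2093 : C.T (v6 C) [7, 35, 66, 88, 98, 109, 116] (v6 C) [20, 46, 49, 74, 91, 110, 121] :=
  C.conv (f1333 C) (f1361 C) (f1361 C) _ [138, 160, 173, 178] _ (by decide +kernel) (by decide +kernel) (by decide +kernel)

theorem f2094 : C.S (v6 C) [12, 43, 52, 87, 108, 110, 119] :=
  C.stMul (f1266 C) (f1270 C) _ (by decide +kernel)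

theorem f2095 : C.S (v6 C) [19, 35, 52, 75, 95, 110, 117] :=
  C.stMul (f1353 C) (f2094 C) _ (by decide +kernel)

theorem f2096 : C.T (v6 C) [23, 42, 51, 74, 108, 110, 112] (v10 C) [9, 30, 51, 78, 100, 109, 115] :=
  C.conv (f1950 C) (f1985 C) (f2095 C) _ [143, 159, 169, 174] _ (by decide +kernel) (by decide +kernel) (by decide +kernel)

theorem f2097 : C.T (v10 C) [22, 47, 65, 83, 94, 110, 117] (v9 C) [12, 45, 66, 82, 98, 110, 118] :=
  C.conv (f2001 C) (f2006 C) (f1828 C) _ [140, 149, 168, 177] _ (by decide +kernel) (by decide +kernel) (by decide +kernel)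

theorem f2098 : C.T (v9 C) [21, 44, 65, 74, 103, 110, 116] (v6 C) [23, 44, 55, 80, 104, 110] :=
  C.closeT (p := (v6 C)) (pu := [7, 35, 66, 88, 98, 109, 116])
    (C.pT (f2093 C)
    (C.pH [8, 30, 65, 84, 94, 117] [23, 42, 51, 74, 108, 110, 112] (by decide +kernel)
    (C.pT (f2096 C)
    (C.pH [26, 38, 54, 89, 90, 113] [22, 47, 65, 83, 94, 110, 117] (by decide +kernel)
    (C.pT (f2097 C)
    (C.pH [8, 30, 65, 84, 94, 117] [21, 44, 65, 74, 103, 110, 116] (by decide +kernel) (C.pNil _ _)))))))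
    (C.pH [26, 38, 54, 89, 90, 113] [7, 35, 66, 88, 98, 109, 116] (by decide +kernel) (C.pNil _ _))
    (C.loop_of_one (relLoop1 C) _ _)

theorem f2099 : C.T (v6 C) [23, 44, 55, 80, 104, 110] (v9 C) [21, 44, 65, 74, 103, 110, 116] :=
  C.flip (f2098 C)

theorem f2100 : C.T (v6 C) [24, 31, 59, 73, 90, 109, 124] (v8 C) [22, 48, 58, 79, 97, 110, 119] :=
  C.conv (f1563 C) (f1369 C) (f1369 C) _ [141, 165, 172] _ (by decide +kernel) (by decide +kernel) (by decide +kernel)

theorem f2101 : C.S (v6 C) [7, 41, 67, 76, 108, 117] :=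
  C.stMul (f1307 C) (f1270 C) _ (by decide +kernel)

theorem f2102 : C.S (v6 C) [9, 31, 56, 85, 106, 110, 125] :=
  C.stMul (f1291 C) (f2101 C) _ (by decide +kernel)

theorem f2103 : C.T (v6 C) [11, 29, 62, 70, 92, 120] (v10 C) [23, 48, 57, 71, 97, 111] :=
  C.conv (f1950 C) (f1985 C) (f2102 C) _ [134, 157, 169, 175] _ (by decide +kernel) (by decide +kernel) (by decide +kernel)

theorem f2104 : C.T (v10 C) [23, 48, 57, 71, 97, 111] (v6 C) [11, 29, 62, 70, 92, 120] :=
  C.flip (f2103 C)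

theorem f2105 : C.S (v10 C) [18, 30, 59, 73] :=
  C.stMul (f1699 C) (f1714 C) _ (by decide +kernel)

theorem f2106 : C.S (v10 C) [11, 36, 55, 86, 109, 119] :=
  C.stMul (f1722 C) (f2105 C) _ (by decide +kernel)

theorem f2107 : C.T (v10 C) [20, 42, 64, 85, 105, 125] (v9 C) [17, 40, 59, 85, 105, 109, 123] :=
  C.conv (f2034 C) (f2037 C) (f2106 C) _ [145, 157, 168, 173, 177] _ (by decide +kernel) (by decide +kernel) (by decide +kernel)

theorem f2108 : C.T (v9 C) [17, 40, 59, 85, 105, 109, 123] (v10 C) [20, 42, 64, 85, 105, 125] :=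
  C.flip (f2107 C)

theorem f2109 : C.T (v8 C) [6, 43, 49, 78, 96, 118] (v9 C) [19, 37, 67, 83, 103, 115] :=
  C.closeT (p := (v6 C)) (pu := [24, 31, 59, 73, 90, 109, 124])
    (C.pT (f2100 C)
    (C.pH [8, 30, 65, 84, 94, 117] [6, 43, 49, 78, 96, 118] (by decide +kernel) (C.pNil _ _)))
    (C.pH [26, 38, 54, 89, 90, 113] [17, 40, 59, 85, 105, 109, 123] (by decide +kernel)
    (C.pT (f2108 C)
    (C.pH [8, 30, 65, 84, 94, 117] [23, 48, 57, 71, 97, 111] (by decide +kernel)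
    (C.pT (f2104 C)
    (C.pH [26, 38, 54, 89, 90, 113] [24, 31, 59, 73, 90, 109, 124] (by decide +kernel) (C.pNil _ _))))))
    (C.loop_of_one (relLoop1 C) _ _)

theorem f2110 : C.T (v9 C) [19, 37, 67, 83, 103, 115] (v8 C) [6, 43, 49, 78, 96, 118] :=
  C.flip (f2109 C)

theorem f2111 : C.T (v10 C) [35, 66, 84, 105, 109, 115] (v11 C) [] :=
  C.defn _ _

theorem f2112 : C.S (v11 C) [23, 37, 55, 75, 92, 110, 123] :=
  C.transfer (f2111 C) (f1704 C) [145, 154, 165, 172, 178] _ (by decide +kernel) (by decide +kernel) (by decide +kernel)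

theorem f2113 : C.S (v11 C) [15, 47, 62, 83, 99, 109, 124] :=
  C.transfer (f2111 C) (f1709 C) [137, 154] _ (by decide +kernel) (by decide +kernel) (by decide +kernel)

theorem f2114 : C.S (v10 C) [11, 35, 66, 82, 97, 113] :=
  C.stInv (f1699 C) _ (by decide +kernel)

theorem f2115 : C.S (v10 C) [18, 30, 59, 73] :=
  C.stMul (f2114 C) (f1714 C) _ (by decide +kernel)

theorem f2116 : C.S (v11 C) [14, 39, 54, 78, 105, 109] :=
  C.transfer (f2111 C) (f2115 C) [136, 155, 169, 172] _ (by decide +kernel) (by decide +kernel) (by decide +kernel)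

theorem f2117 : C.S (v10 C) [11, 35, 66, 82, 97, 113] :=
  C.stInv (f1699 C) _ (by decide +kernel)

theorem f2118 : C.S (v10 C) [18, 35, 59, 78, 91, 110, 122] :=
  C.stMul (f2117 C) (f1722 C) _ (by decide +kernel)

theorem f2119 : C.S (v11 C) [14, 30, 65, 83, 99, 110, 112] :=
  C.transfer (f2111 C) (f2118 C) [136, 163, 167, 175, 177] _ (by decide +kernel) (by decide +kernel) (by decide +kernel)

theorem f2121 : C.T (v10 C) [4, 30, 63, 78, 92, 110, 112] (v10 C) [19, 47, 62, 86, 95, 117] :=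
  C.conv (f1839 C) (f1828 C) (f1828 C) _ [135, 153, 169, 173, 178] _ (by decide +kernel) (by decide +kernel) (by decide +kernel)

theorem f2122 : C.T (v10 C) [24, 40, 69, 78, 105, 109, 118] (v11 C) [24, 45, 62, 74, 93, 110, 125] :=
  C.conv (f2111 C) (f1828 C) (f1828 C) _ [146, 150, 166, 173, 177] _ (by decide +kernel) (by decide +kernel) (by decide +kernel)

theorem f2123 : C.T (v11 C) [6, 64, 74, 107, 110, 118] (v10 C) [26, 27, 60, 87, 102, 125] :=
  C.closeT (p := (v10 C)) (pu := [4, 30, 63, 78, 92, 110, 112])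
    (C.pT (f2121 C)
    (C.pH [12, 35, 50, 83] [24, 40, 69, 78, 105, 109, 118] (by decide +kernel)
    (C.pT (f2122 C)
    (C.pH [12, 35, 50, 83] [6, 64, 74, 107, 110, 118] (by decide +kernel) (C.pNil _ _)))))
    (C.pH [12, 35, 50, 83] [4, 30, 63, 78, 92, 110, 112] (by decide +kernel) (C.pNil _ _))
    (C.loop_of_one (relLoop0 C) _ _)

theorem f2124 : C.T (v10 C) [26, 27, 60, 87, 102, 125] (v11 C) [6, 64, 74, 107, 110, 118] :=
  C.flip (f2123 C)

theorem f2125 : C.T (v10 C) [26, 27, 60, 87, 102, 125] (v11 C) [26, 34, 55, 86, 105, 114] :=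
  C.conv (f2111 C) (f1828 C) (f1828 C) _ [148, 159, 166, 174, 178] _ (by decide +kernel) (by decide +kernel) (by decide +kernel)

theorem f2126 : C.E (v11 C) [26, 34, 55, 86, 105, 114] (v11 C) [6, 64, 74, 107, 110, 118] :=
  C.sameSrc (f2125 C) (f2124 C)

theorem f2127 : C.S (v11 C) [17, 34, 61, 85, 101, 115] :=
  C.stEq (f2126 C) _ (by decide +kernel)

theorem f2134 : C.T (v10 C) [20, 41, 59, 78, 105, 109, 122] (v11 C) [20, 40, 54, 78, 100, 110, 111] :=
  C.conv (f2111 C) (f1828 C) (f1828 C) _ [142, 149, 170, 172, 178] _ (by decide +kernel) (by decide +kernel) (by decide +kernel)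

theorem f2135 : C.S (v10 C) [22, 34, 56, 72, 106, 110, 125] :=
  C.stMul (f1704 C) (f1699 C) _ (by decide +kernel)

theorem f2136 : C.S (v10 C) [7, 41, 65, 80, 117] :=
  C.stMul (f1722 C) (f2135 C) _ (by decide +kernel)

theorem f2137 : C.S (v10 C) [36, 62, 81, 100, 119] :=
  C.stMul (f1709 C) (f2136 C) _ (by decide +kernel)

theorem f2138 : C.T (v10 C) [11, 31, 75, 108] (v10 C) [23, 30, 60, 94, 116] :=
  C.conv (f1872 C) (f1875 C) (f2137 C) _ [148, 158, 167, 173, 177] _ (by decide +kernel) (by decide +kernel) (by decide +kernel)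

theorem f2139 : C.T (v10 C) [23, 30, 60, 94, 116] (v10 C) [11, 31, 75, 108] :=
  C.flip (f2138 C)

theorem f2140 : C.T (v11 C) [22, 32, 66, 73, 104, 109, 115] (v10 C) [12, 46, 60, 86, 90, 125] :=
  C.closeT (p := (v10 C)) (pu := [20, 41, 59, 78, 105, 109, 122])
    (C.pT (f2134 C)
    (C.pH [12, 35, 50, 83] [22, 32, 66, 73, 104, 109, 115] (by decide +kernel) (C.pNil _ _)))
    (C.pH [12, 35, 50, 83] [23, 30, 60, 94, 116] (by decide +kernel)
    (C.pT (f2139 C)
    (C.pH [12, 35, 50, 83] [20, 41, 59, 78, 105, 109, 122] (by decide +kernel) (C.pNil _ _))))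
    (C.loop_of_one (relLoop0 C) _ _)

theorem f2141 : C.T (v10 C) [12, 46, 60, 86, 90, 125] (v11 C) [22, 32, 66, 73, 104, 109, 115] :=
  C.flip (f2140 C)

theorem f2142 : C.T (v10 C) [12, 46, 60, 86, 90, 125] (v11 C) [20, 48, 58, 73, 100, 121] :=
  C.conv (f2111 C) (f1828 C) (f1699 C) _ [142, 156, 164, 173, 177] _ (by decide +kernel) (by decide +kernel) (by decide +kernel)

theorem f2143 : C.E (v11 C) [20, 48, 58, 73, 100, 121] (v11 C) [22, 32, 66, 73, 104, 109, 115] :=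
  C.sameSrc (f2142 C) (f2141 C)

theorem f2144 : C.S (v11 C) [22, 32, 51, 70, 102, 109, 117] :=
  C.stEq (f2143 C) _ (by decide +kernel)

theorem f2152 : C.T (v10 C) [9, 29, 69, 85, 95, 111] (v10 C) [10, 60, 86, 108, 109, 113] :=
  C.conv (f1770 C) (f1773 C) (f1773 C) _ [131, 167, 172, 177] _ (by decide +kernel) (by decide +kernel) (by decide +kernel)

theorem f2153 : C.T (v10 C) [15, 43, 53, 79, 98, 110, 118] (v11 C) [16, 42, 57, 75, 102, 112] :=
  C.conv (f2111 C) (f1828 C) (f1699 C) _ [138, 164, 174, 178] _ (by decide +kernel) (by decide +kernel) (by decide +kernel)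

theorem f2154 : C.T (v10 C) [15, 45, 51, 85, 106, 122] (v11 C) [15, 62, 70, 101, 110, 111] :=
  C.conv (f2111 C) (f1828 C) (f1828 C) _ [137, 160, 168, 177] _ (by decide +kernel) (by decide +kernel) (by decide +kernel)

theorem f2155 : C.T (v11 C) [15, 62, 70, 101, 110, 111] (v10 C) [15, 45, 51, 85, 106, 122] :=
  C.flip (f2154 C)

theorem f2156 : C.T (v11 C) [13, 42, 57, 72, 91, 110, 113] (v11 C) [10, 47, 54, 89, 99, 110, 124] :=
  C.closeT (p := (v10 C)) (pu := [9, 29, 69, 85, 95, 111])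
    (C.pT (f2152 C)
    (C.pH [8, 30, 65, 84, 94, 117] [15, 43, 53, 79, 98, 110, 118] (by decide +kernel)
    (C.pT (f2153 C)
    (C.pH [26, 38, 54, 89, 90, 113] [13, 42, 57, 72, 91, 110, 113] (by decide +kernel) (C.pNil _ _)))))
    (C.pH [8, 30, 65, 84, 94, 117] [15, 62, 70, 101, 110, 111] (by decide +kernel)
    (C.pT (f2155 C)
    (C.pH [26, 38, 54, 89, 90, 113] [9, 29, 69, 85, 95, 111] (by decide +kernel) (C.pNil _ _))))
    (C.loop_of_one (relLoop1 C) _ _)

theorem f2158 : C.S (v11 C) [11, 43, 60, 73, 108, 125] :=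
  C.stMul (f2112 C) (f2144 C) _ (by decide +kernel)

theorem f2159 : C.S (v11 C) [19, 33, 56, 75, 94, 119] :=
  C.stMul (f2113 C) (f2158 C) _ (by decide +kernel)

theorem f2160 : C.S (v11 C) [8, 44, 64, 86, 94, 109, 113] :=
  C.stMul (f2144 C) (f2159 C) _ (by decide +kernel)

theorem f2163 : C.T (v11 C) [16, 41, 56, 92, 124] (v11 C) [8, 30, 58, 72, 97, 110, 116] :=
  C.conv (f2156 C) (f2160 C) (f2160 C) _ [143, 159, 178] _ (by decide +kernel) (by decide +kernel) (by decide +kernel)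

theorem f2164 : C.S (v11 C) [19, 37, 89, 103, 110, 124] :=
  C.stMul (f2116 C) (f2144 C) _ (by decide +kernel)

theorem f2165 : C.S (v11 C) [8, 47, 66, 76, 108, 110, 120] :=
  C.stMul (f2144 C) (f2164 C) _ (by decide +kernel)

theorem f2166 : C.T (v11 C) [10, 42, 57, 85, 96, 116] (v11 C) [9, 32, 66, 80, 101, 109, 112] :=
  C.conv (f2156 C) (f2160 C) (f2165 C) _ [141, 153, 166, 175, 177] _ (by decide +kernel) (by decide +kernel) (by decide +kernel)

theorem f2167 : C.T (v11 C) [17, 46, 66, 81, 90, 109, 117] (v11 C) [16, 32, 57, 83, 107, 116] :=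
  C.closeT (p := (v11 C)) (pu := [16, 41, 56, 92, 124])
    (C.pT (f2163 C)
    (C.pH [12, 35, 50, 83] [10, 42, 57, 85, 96, 116] (by decide +kernel)
    (C.pT (f2166 C)
    (C.pH [12, 35, 50, 83] [17, 46, 66, 81, 90, 109, 117] (by decide +kernel) (C.pNil _ _)))))
    (C.pH [12, 35, 50, 83] [16, 41, 56, 92, 124] (by decide +kernel) (C.pNil _ _))
    (C.loop_of_one (relLoop0 C) _ _)

theorem f2169 : C.S (v11 C) [22, 38, 55, 82, 102, 110, 111] :=
  C.stMul (f2116 C) (f2116 C) _ (by decide +kernel)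

theorem f2170 : C.S (v11 C) [11, 40, 68, 90, 110, 117] :=
  C.stMul (f2144 C) (f2169 C) _ (by decide +kernel)

theorem f2174 : C.T (v11 C) [6] (v12 C) [] :=
  C.defn _ _

theorem f2175 : C.S (v11 C) [15, 59, 85, 104, 109, 122] :=
  C.stMul (f2119 C) (f2112 C) _ (by decide +kernel)

theorem f2176 : C.S (v11 C) [24, 32, 67, 75, 92, 109, 116] :=
  C.stMul (f2144 C) (f2175 C) _ (by decide +kernel)

theorem f2177 : C.S (v11 C) [17, 48, 67, 70, 101, 110, 111] :=
  C.stMul (f2113 C) (f2112 C) _ (by decide +kernel)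

theorem f2178 : C.S (v11 C) [14, 31, 56, 86, 110, 112] :=
  C.stInv (f2177 C) _ (by decide +kernel)

theorem f2179 : C.S (v11 C) [10, 47, 62, 87, 99, 109, 116] :=
  C.stMul (f2178 C) (f2176 C) _ (by decide +kernel)

theorem f2180 : C.S (v12 C) [11, 45, 70, 104, 115] :=
  C.transfer (f2174 C) (f2179 C) [133, 162, 167, 174, 177] _ (by decide +kernel) (by decide +kernel) (by decide +kernel)

theorem f2181 : C.S (v11 C) [22, 28, 55, 78, 103, 109, 113] :=
  C.stMul (f2127 C) (f2113 C) _ (by decide +kernel)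

theorem f2182 : C.S (v11 C) [11, 36, 62, 74, 99, 109, 114] :=
  C.stMul (f2144 C) (f2181 C) _ (by decide +kernel)

theorem f2183 : C.S (v11 C) [19, 48, 58, 85, 94, 119] :=
  C.stMul (f2112 C) (f2177 C) _ (by decide +kernel)

theorem f2184 : C.S (v11 C) [19, 48, 58, 85, 94, 119] :=
  C.stInv (f2183 C) _ (by decide +kernel)

theorem f2185 : C.S (v11 C) [15, 44, 50, 71, 102, 110, 116] :=
  C.stMul (f2184 C) (f2182 C) _ (by decide +kernel)

theorem f2186 : C.S (v12 C) [23, 29, 69, 85, 101, 109] :=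
  C.transfer (f2174 C) (f2185 C) [145, 163, 165, 175, 177] _ (by decide +kernel) (by decide +kernel) (by decide +kernel)

theorem f2187 : C.S (v11 C) [22, 48, 68, 72, 104, 122] :=
  C.stMul (f2113 C) (f2116 C) _ (by decide +kernel)

theorem f2188 : C.S (v11 C) [19, 44, 66, 70, 94, 110, 113] :=
  C.stMul (f2116 C) (f2187 C) _ (by decide +kernel)

theorem f2189 : C.S (v11 C) [17, 42, 51, 86, 104, 123] :=
  C.stMul (f2116 C) (f2112 C) _ (by decide +kernel)

theorem f2190 : C.S (v11 C) [19, 58, 85, 103, 110, 114] :=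
  C.stMul (f2144 C) (f2189 C) _ (by decide +kernel)

theorem f2191 : C.S (v11 C) [14, 39, 50, 88, 105, 110, 112] :=
  C.stInv (f2190 C) _ (by decide +kernel)

theorem f2192 : C.S (v11 C) [29, 58, 71, 96, 114] :=
  C.stMul (f2191 C) (f2188 C) _ (by decide +kernel)

theorem f2193 : C.S (v12 C) [18, 35, 55, 86, 105, 110] :=
  C.transfer (f2174 C) (f2192 C) [140, 163, 168, 172, 178] _ (by decide +kernel) (by decide +kernel) (by decide +kernel)

theorem f2194 : C.S (v11 C) [23, 37, 50, 72, 102, 110, 117] :=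
  C.stMul (f2127 C) (f2116 C) _ (by decide +kernel)

theorem f2195 : C.S (v11 C) [14, 61, 78, 99, 116] :=
  C.stMul (f2127 C) (f2194 C) _ (by decide +kernel)

theorem f2196 : C.S (v11 C) [57, 88, 90, 110, 120] :=
  C.stMul (f2144 C) (f2112 C) _ (by decide +kernel)

theorem f2197 : C.S (v11 C) [15, 47, 52, 84, 106, 109, 113] :=
  C.stMul (f2113 C) (f2196 C) _ (by decide +kernel)

theorem f2198 : C.S (v11 C) [25, 31, 55, 72, 98, 109, 118] :=
  C.stInv (f2197 C) _ (by decide +kernel)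

theorem f2199 : C.S (v11 C) [23, 47, 62, 87, 99, 109, 116] :=
  C.stMul (f2198 C) (f2195 C) _ (by decide +kernel)

theorem f2200 : C.S (v12 C) [13, 45, 70, 104, 115] :=
  C.transfer (f2174 C) (f2199 C) [135, 162, 167, 174, 177] _ (by decide +kernel) (by decide +kernel) (by decide +kernel)

theorem f2201 : C.T (v12 C) [] (v11 C) [6] :=
  C.flip (f2174 C)

theorem f2202 : C.T (v10 C) [14, 35, 69, 73, 102, 109, 125] (v11 C) [14, 27, 68, 82, 97, 120] :=
  C.conv (f2111 C) (f1828 C) (f1828 C) _ [136, 161, 170, 176, 178] _ (by decide +kernel) (by decide +kernel) (by decide +kernel)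

theorem f2203 : C.S (v11 C) [] :=
  C.stOne _

theorem f2204 : C.S (v11 C) [24, 27, 60, 84, 96, 117] :=
  C.stMul (f2144 C) (f2113 C) _ (by decide +kernel)

theorem f2205 : C.S (v11 C) [9, 43, 67, 71, 107, 124] :=
  C.stMul (f2144 C) (f2204 C) _ (by decide +kernel)

theorem f2206 : C.S (v11 C) [5, 39, 58, 88, 92, 110, 122] :=
  C.stMul (f2144 C) (f2205 C) _ (by decide +kernel)

theorem f2207 : C.S (v11 C) [5, 28, 60, 74, 90, 110, 112] :=
  C.stMul (f2112 C) (f2206 C) _ (by decide +kernel)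

theorem f2208 : C.T (v11 C) [14, 47, 51, 78, 93, 110, 119] (v12 C) [18, 46, 49, 96, 109, 120] :=
  C.conv (f2174 C) (f2203 C) (f2207 C) _ [140, 156, 171] _ (by decide +kernel) (by decide +kernel) (by decide +kernel)

theorem f2209 : C.T (v12 C) [18, 33, 55, 87, 108, 109, 111] (v10 C) [14, 35, 60, 74, 104, 110, 115] :=
  C.closeT (p := (v10 C)) (pu := [14, 35, 69, 73, 102, 109, 125])
    (C.pT (f2202 C)
    (C.pH [12, 35, 50, 83] [14, 47, 51, 78, 93, 110, 119] (by decide +kernel)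
    (C.pT (f2208 C)
    (C.pH [12, 35, 50, 83] [18, 33, 55, 87, 108, 109, 111] (by decide +kernel) (C.pNil _ _)))))
    (C.pH [12, 35, 50, 83] [14, 35, 69, 73, 102, 109, 125] (by decide +kernel) (C.pNil _ _))
    (C.loop_of_one (relLoop0 C) _ _)

theorem f2210 : C.T (v10 C) [14, 35, 60, 74, 104, 110, 115] (v12 C) [18, 33, 55, 87, 108, 109, 111] :=
  C.flip (f2209 C)

theorem f2211 : C.S (v12 C) [23, 29, 62, 85, 93, 109, 116] :=
  C.transfer (f2210 C) (f1699 C) [145, 158, 170, 174] _ (by decide +kernel) (by decide +kernel) (by decide +kernel)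

theorem f2213 : C.S (v10 C) [18, 48, 57, 98, 110, 125] :=
  C.stMul (f1704 C) (f1709 C) _ (by decide +kernel)

theorem f2231 : C.T (v10 C) [23, 46, 64, 87, 104, 109, 122] (v10 C) [18, 67, 84, 97, 109, 120] :=
  C.conv (f1850 C) (f1828 C) (f1828 C) _ [131, 156, 164, 172] _ (by decide +kernel) (by decide +kernel) (by decide +kernel)

theorem f2232 : C.T (v10 C) [10, 37, 53, 88, 106, 110, 116] (v12 C) [19, 31, 50, 84, 106, 119] :=
  C.conv (f2210 C) (f2213 C) (f1714 C) _ [127, 154, 165, 171] _ (by decide +kernel) (by decide +kernel) (by decide +kernel)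

theorem f2233 : C.S (v10 C) [22, 48, 53, 80, 99, 115] :=
  C.stMul (f1709 C) (f2213 C) _ (by decide +kernel)

theorem f2234 : C.T (v10 C) [20, 33, 54, 70, 107, 110, 115] (v12 C) [5, 48, 53, 75, 102, 110] :=
  C.conv (f2210 C) (f2213 C) (f2233 C) _ [141, 158, 168, 175, 178] _ (by decide +kernel) (by decide +kernel) (by decide +kernel)

theorem f2235 : C.T (v12 C) [5, 48, 53, 75, 102, 110] (v10 C) [20, 33, 54, 70, 107, 110, 115] :=
  C.flip (f2234 C)

theorem f2236 : C.T (v12 C) [26, 33, 50, 84, 98, 110, 114] (v12 C) [14, 33, 50, 72, 93, 110, 115] :=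
  C.closeT (p := (v10 C)) (pu := [23, 46, 64, 87, 104, 109, 122])
    (C.pT (f2231 C)
    (C.pH [26, 38, 54, 89, 90, 113] [10, 37, 53, 88, 106, 110, 116] (by decide +kernel)
    (C.pT (f2232 C)
    (C.pH [8, 30, 65, 84, 94, 117] [26, 33, 50, 84, 98, 110, 114] (by decide +kernel) (C.pNil _ _)))))
    (C.pH [26, 38, 54, 89, 90, 113] [5, 48, 53, 75, 102, 110] (by decide +kernel)
    (C.pT (f2235 C)
    (C.pH [8, 30, 65, 84, 94, 117] [23, 46, 64, 87, 104, 109, 122] (by decide +kernel) (C.pNil _ _))))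
    (C.loop_of_one (relLoop2 C) _ _)

theorem f2238 : C.S (v12 C) [7, 38, 64, 70, 95, 125] :=
  C.stMul (f2211 C) (f2193 C) _ (by decide +kernel)

theorem f2239 : C.S (v12 C) [9, 43, 59, 78, 105, 117] :=
  C.stMul (f2200 C) (f2238 C) _ (by decide +kernel)

theorem f2243 : C.T (v10 C) [28, 54, 73, 108, 110, 117] (v12 C) [6, 37, 62, 91, 110, 122] :=
  C.conv (f2210 C) (f2213 C) (f2213 C) _ [135, 151, 168, 174, 178] _ (by decide +kernel) (by decide +kernel) (by decide +kernel)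

theorem f2244 : C.S (v10 C) [22, 29, 89, 106, 109, 124] :=
  C.stMul (f1714 C) (f1709 C) _ (by decide +kernel)

theorem f2245 : C.T (v10 C) [8, 57, 79, 90, 109] (v10 C) [20, 48, 57, 86, 105, 109, 122] :=
  C.conv (f1781 C) (f1784 C) (f2244 C) _ [133, 162, 167, 176, 177] _ (by decide +kernel) (by decide +kernel) (by decide +kernel)

theorem f2246 : C.T (v10 C) [20, 48, 57, 86, 105, 109, 122] (v10 C) [8, 57, 79, 90, 109] :=
  C.flip (f2245 C)

theorem f2247 : C.T (v10 C) [17, 47, 68, 70, 92, 109, 119] (v12 C) [13, 34, 59, 82, 107, 114] :=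
  C.conv (f2210 C) (f2213 C) (f1828 C) _ [128, 158, 165, 171] _ (by decide +kernel) (by decide +kernel) (by decide +kernel)

theorem f2248 : C.T (v12 C) [13, 34, 59, 82, 107, 114] (v10 C) [17, 47, 68, 70, 92, 109, 119] :=
  C.flip (f2247 C)

theorem f2249 : C.T (v12 C) [4, 30, 62, 73, 91, 112] (v12 C) [6, 35, 64, 79, 100, 109, 121] :=
  C.closeT (p := (v10 C)) (pu := [28, 54, 73, 108, 110, 117])
    (C.pT (f2243 C)
    (C.pH [26, 38, 54, 89, 90, 113] [4, 30, 62, 73, 91, 112] (by decide +kernel) (C.pNil _ _)))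
    (C.pH [8, 30, 65, 84, 94, 117] [13, 34, 59, 82, 107, 114] (by decide +kernel)
    (C.pT (f2248 C)
    (C.pH [26, 38, 54, 89, 90, 113] [20, 48, 57, 86, 105, 109, 122] (by decide +kernel)
    (C.pT (f2246 C)
    (C.pH [8, 30, 65, 84, 94, 117] [28, 54, 73, 108, 110, 117] (by decide +kernel) (C.pNil _ _))))))
    (C.loop_of_one (relLoop2 C) _ _)

theorem f2251 : C.S (v12 C) [7, 38, 60, 83, 97, 110, 112] :=
  C.stMul (f2193 C) (f2186 C) _ (by decide +kernel)

theorem f2252 : C.S (v12 C) [9, 43, 54, 83, 94, 110, 116] :=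
  C.stMul (f2200 C) (f2251 C) _ (by decide +kernel)

theorem f2253 : C.S (v12 C) [24, 38, 61, 86, 98, 116] :=
  C.stMul (f2193 C) (f2252 C) _ (by decide +kernel)

theorem f2263 : C.T (v11 C) [8, 34, 53, 78, 101, 110, 120] (v12 C) [11, 29, 65, 73, 109, 119] :=
  C.conv (f2174 C) (f2203 C) (f2203 C) _ [133, 149, 167, 176] _ (by decide +kernel) (by decide +kernel) (by decide +kernel)

theorem f2264 : C.S (v11 C) [28, 69, 87, 103, 124] :=
  C.stMul (f2119 C) (f2116 C) _ (by decide +kernel)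

theorem f2265 : C.S (v11 C) [22, 40, 58, 78, 96, 109, 113] :=
  C.stMul (f2144 C) (f2264 C) _ (by decide +kernel)

theorem f2266 : C.S (v11 C) [11, 46, 56, 90, 125] :=
  C.stMul (f2127 C) (f2265 C) _ (by decide +kernel)

end CfsgLib.J4Index
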