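import Cfsg.Agent.Lib.J4Index.Facts9

/-!
# Derived equations (generated)
-/

set_option autoImplicit false
set_option maxRecDepth 100000
set_option linter.style.longLine false

namespace CfsgLib.J4Index

variable {G X : Type} [Group G] [MulAction G X] (C : Ctx G X)

theorem f10043 : C.T (v3 C) [26, 27, 69, 74, 107, 109, 117] (v18 C) [13, 45, 65, 72, 92, 110, 115] :=
  C.conv (f6916 C) (f7402 C) (f10042 C) _ [139, 167, 171] _ (by decide +kernel) (by decide +kernel) (by decide +kernel)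

theorem f10044 : C.T (v18 C) [13, 45, 65, 72, 92, 110, 115] (v3 C) [26, 27, 69, 74, 107, 109, 117] :=
  C.flip (f10043 C)

theorem f10045 : C.T (v18 C) [15, 27, 69, 86, 92, 109, 120] (v18 C) [6, 52, 83, 100, 109, 111] :=
  C.closeT (p := (v3 C)) (pu := [16, 41, 56, 80, 110, 114])
    (C.pT (f10036 C)
    (C.pH [8, 30, 65, 84, 94, 117] [18, 27, 54, 84, 112] (by decide +kernel)
    (C.pT (f10039 C)
    (C.pH [26, 38, 54, 89, 90, 113] [15, 27, 69, 86, 92, 109, 120] (by decide +kernel) (C.pNil _ _)))))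
    (C.pH [8, 30, 65, 84, 94, 117] [13, 45, 65, 72, 92, 110, 115] (by decide +kernel)
    (C.pT (f10044 C)
    (C.pH [26, 38, 54, 89, 90, 113] [16, 41, 56, 80, 110, 114] (by decide +kernel) (C.pNil _ _))))
    (C.loop_of_one (relLoop1 C) _ _)

theorem f10046 : C.T (v18 C) [6, 52, 83, 100, 109, 111] (v18 C) [15, 27, 69, 86, 92, 109, 120] :=
  C.flip (f10045 C)

theorem f10047 : C.T (v3 C) [23, 34, 60, 75, 97, 110, 113] (v4 C) [13, 34, 57, 74, 122] :=
  C.conv (f808 C) (f938 C) (f938 C) _ [128, 153, 165, 171, 178] _ (by decide +kernel) (by decide +kernel) (by decide +kernel)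

theorem f10048 : C.S (v4 C) [10, 27, 56, 84, 93, 109, 113] :=
  C.stMul (f407 C) (f421 C) _ (by decide +kernel)

theorem f10049 : C.S (v4 C) [25, 47, 59, 76, 103, 109, 113] :=
  C.stMul (f421 C) (f10048 C) _ (by decide +kernel)

theorem f10050 : C.T (v4 C) [11, 29, 60, 75, 105, 109, 125] (v18 C) [7, 46, 56, 73, 106, 110, 111] :=
  C.conv (f8339 C) (f8769 C) (f10049 C) _ [129, 154, 165, 171, 178] _ (by decide +kernel) (by decide +kernel) (by decide +kernel)

theorem f10051 : C.S (v3 C) [43, 67, 71, 98, 119] :=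
  C.stMul (f335 C) (f9985 C) _ (by decide +kernel)

theorem f10052 : C.S (v3 C) [24, 29, 68, 87, 103, 110, 119] :=
  C.stMul (f335 C) (f10051 C) _ (by decide +kernel)

theorem f10053 : C.T (v3 C) [13, 34, 69, 70, 103, 109, 116] (v18 C) [22, 35, 62, 85, 101, 109, 114] :=
  C.conv (f9221 C) (f9279 C) (f10052 C) _ [148, 149, 168, 177] _ (by decide +kernel) (by decide +kernel) (by decide +kernel)

theorem f10054 : C.T (v18 C) [22, 35, 62, 85, 101, 109, 114] (v3 C) [13, 34, 69, 70, 103, 109, 116] :=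
  C.flip (f10053 C)

theorem f10055 : C.T (v18 C) [37, 69, 80, 96, 123] (v18 C) [17, 40, 67, 78, 102, 110, 121] :=
  C.closeT (p := (v3 C)) (pu := [23, 34, 60, 75, 97, 110, 113])
    (C.pT (f10047 C)
    (C.pH [8, 30, 65, 84, 94, 117] [11, 29, 60, 75, 105, 109, 125] (by decide +kernel)
    (C.pT (f10050 C)
    (C.pH [26, 38, 54, 89, 90, 113] [37, 69, 80, 96, 123] (by decide +kernel) (C.pNil _ _)))))
    (C.pH [8, 30, 65, 84, 94, 117] [22, 35, 62, 85, 101, 109, 114] (by decide +kernel)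
    (C.pT (f10054 C)
    (C.pH [26, 38, 54, 89, 90, 113] [23, 34, 60, 75, 97, 110, 113] (by decide +kernel) (C.pNil _ _))))
    (C.loop_of_one (relLoop1 C) _ _)

theorem f10059 : C.T (v3 C) [20, 36, 65, 74, 102, 110, 112] (v4 C) [17, 38, 59, 106, 120] :=
  C.conv (f808 C) (f938 C) (f938 C) _ [141, 166, 173, 177] _ (by decide +kernel) (by decide +kernel) (by decide +kernel)

theorem f10060 : C.S (v4 C) [10, 27, 56, 84, 93, 109, 113] :=
  C.stMul (f407 C) (f421 C) _ (by decide +kernel)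

theorem f10061 : C.S (v4 C) [16, 32, 68, 79, 93, 110, 124] :=
  C.stMul (f407 C) (f10060 C) _ (by decide +kernel)

theorem f10062 : C.T (v4 C) [22, 27, 50, 79, 92, 109, 117] (v15 C) [15, 38, 66, 86, 102, 109, 121] :=
  C.conv (f2744 C) (f2911 C) (f10061 C) _ [130, 162, 164, 176] _ (by decide +kernel) (by decide +kernel) (by decide +kernel)

theorem f10063 : C.S (v3 C) [21, 45, 66, 81, 102, 110] :=
  C.stMul (f335 C) (f9343 C) _ (by decide +kernel)

theorem f10064 : C.S (v3 C) [14, 36, 68, 75, 101, 109, 114] :=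
  C.stMul (f353 C) (f10063 C) _ (by decide +kernel)

theorem f10065 : C.S (v3 C) [21, 27, 55, 84, 96, 110] :=
  C.stMul (f331 C) (f10064 C) _ (by decide +kernel)

theorem f10066 : C.T (v3 C) [17, 32, 57, 70, 101, 109, 120] (v18 C) [15, 37, 67, 83, 93, 122] :=
  C.conv (f8216 C) (f8435 C) (f10065 C) _ [139, 157, 175] _ (by decide +kernel) (by decide +kernel) (by decide +kernel)

theorem f10067 : C.T (v18 C) [15, 37, 67, 83, 93, 122] (v3 C) [17, 32, 57, 70, 101, 109, 120] :=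
  C.flip (f10066 C)

theorem f10068 : C.T (v15 C) [9, 34, 50, 78, 101, 112] (v18 C) [10, 31, 54, 71, 104, 111] :=
  C.closeT (p := (v3 C)) (pu := [20, 36, 65, 74, 102, 110, 112])
    (C.pT (f10059 C)
    (C.pH [8, 30, 65, 84, 94, 117] [22, 27, 50, 79, 92, 109, 117] (by decide +kernel)
    (C.pT (f10062 C)
    (C.pH [26, 38, 54, 89, 90, 113] [9, 34, 50, 78, 101, 112] (by decide +kernel) (C.pNil _ _)))))
    (C.pH [8, 30, 65, 84, 94, 117] [15, 37, 67, 83, 93, 122] (by decide +kernel)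
    (C.pT (f10067 C)
    (C.pH [26, 38, 54, 89, 90, 113] [20, 36, 65, 74, 102, 110, 112] (by decide +kernel) (C.pNil _ _))))
    (C.loop_of_one (relLoop1 C) _ _)

theorem f10069 : C.T (v18 C) [10, 31, 54, 71, 104, 111] (v15 C) [9, 34, 50, 78, 101, 112] :=
  C.flip (f10068 C)

theorem f10070 : C.T (v3 C) [24, 46, 51, 85, 107, 109, 113] (v4 C) [17, 48, 68, 81, 91, 110, 125] :=
  C.conv (f808 C) (f938 C) (f938 C) _ [137, 158, 174] _ (by decide +kernel) (by decide +kernel) (by decide +kernel)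

theorem f10071 : C.T (v4 C) [22, 30, 55, 73, 103, 125] (v18 C) [48, 66, 89, 108, 110, 122] :=
  C.conv (f7256 C) (f7503 C) (f407 C) _ [129, 154, 167, 175, 177] _ (by decide +kernel) (by decide +kernel) (by decide +kernel)

theorem f10072 : C.S (v3 C) [16, 46, 65, 76, 99, 109, 118] :=
  C.stMul (f353 C) (f9281 C) _ (by decide +kernel)

theorem f10073 : C.T (v3 C) [11, 33, 60, 76, 97, 109, 111] (v18 C) [23, 46, 55, 98, 109, 117] :=
  C.conv (f9221 C) (f9279 C) (f10072 C) _ [136, 154, 167, 172] _ (by decide +kernel) (by decide +kernel) (by decide +kernel)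

theorem f10074 : C.T (v18 C) [23, 46, 55, 98, 109, 117] (v3 C) [11, 33, 60, 76, 97, 109, 111] :=
  C.flip (f10073 C)

theorem f10075 : C.T (v18 C) [26, 45, 58, 74, 91, 109, 120] (v18 C) [20, 33, 55, 88, 93, 110, 116] :=
  C.closeT (p := (v3 C)) (pu := [24, 46, 51, 85, 107, 109, 113])
    (C.pT (f10070 C)
    (C.pH [8, 30, 65, 84, 94, 117] [22, 30, 55, 73, 103, 125] (by decide +kernel)
    (C.pT (f10071 C)
    (C.pH [26, 38, 54, 89, 90, 113] [26, 45, 58, 74, 91, 109, 120] (by decide +kernel) (C.pNil _ _)))))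
    (C.pH [8, 30, 65, 84, 94, 117] [23, 46, 55, 98, 109, 117] (by decide +kernel)
    (C.pT (f10074 C)
    (C.pH [26, 38, 54, 89, 90, 113] [24, 46, 51, 85, 107, 109, 113] (by decide +kernel) (C.pNil _ _))))
    (C.loop_of_one (relLoop1 C) _ _)

theorem f10076 : C.T (v18 C) [20, 33, 55, 88, 93, 110, 116] (v18 C) [26, 45, 58, 74, 91, 109, 120] :=
  C.flip (f10075 C)

theorem f10077 : C.T (v3 C) [15, 32, 55, 79, 99, 115] (v4 C) [13, 29, 55, 84, 93, 111] :=
  C.conv (f808 C) (f938 C) (f938 C) _ [147, 157, 164, 174, 178] _ (by decide +kernel) (by decide +kernel) (by decide +kernel)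

theorem f10078 : C.S (v3 C) [14, 46, 79, 106, 123] :=
  C.stMul (f353 C) (f9829 C) _ (by decide +kernel)

theorem f10079 : C.T (v3 C) [20, 27, 61, 72, 95, 124] (v15 C) [24, 42, 64, 80, 96, 109] :=
  C.conv (f3166 C) (f3236 C) (f10078 C) _ [134, 161, 174, 177] _ (by decide +kernel) (by decide +kernel) (by decide +kernel)

theorem f10080 : C.T (v15 C) [24, 42, 64, 80, 96, 109] (v3 C) [20, 27, 61, 72, 95, 124] :=
  C.flip (f10079 C)

theorem f10081 : C.T (v15 C) [21, 38, 64, 88, 97, 109, 121] (v18 C) [25, 35, 54, 74, 105, 110, 124] :=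
  C.conv (f10068 C) (f2569 C) (f2569 C) _ [140, 158, 173] _ (by decide +kernel) (by decide +kernel) (by decide +kernel)

theorem f10082 : C.T (v18 C) [25, 35, 54, 74, 105, 110, 124] (v15 C) [21, 38, 64, 88, 97, 109, 121] :=
  C.flip (f10081 C)

theorem f10083 : C.T (v4 C) [11, 35, 53, 73, 109, 123] (v18 C) [4, 45, 68, 73, 97, 109, 116] :=
  C.closeT (p := (v3 C)) (pu := [15, 32, 55, 79, 99, 115])
    (C.pT (f10077 C)
    (C.pH [8, 30, 65, 84, 94, 117] [11, 35, 53, 73, 109, 123] (by decide +kernel) (C.pNil _ _)))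
    (C.pH [26, 38, 54, 89, 90, 113] [25, 35, 54, 74, 105, 110, 124] (by decide +kernel)
    (C.pT (f10082 C)
    (C.pH [8, 30, 65, 84, 94, 117] [24, 42, 64, 80, 96, 109] (by decide +kernel)
    (C.pT (f10080 C)
    (C.pH [26, 38, 54, 89, 90, 113] [15, 32, 55, 79, 99, 115] (by decide +kernel) (C.pNil _ _))))))
    (C.loop_of_one (relLoop1 C) _ _)

theorem f10084 : C.T (v18 C) [4, 45, 68, 73, 97, 109, 116] (v4 C) [11, 35, 53, 73, 109, 123] :=
  C.flip (f10083 C)

theorem f10085 : C.T (v3 C) [5, 33, 81, 93, 122] (v4 C) [21, 33, 54, 78, 105, 110, 125] :=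
  C.conv (f808 C) (f938 C) (f938 C) _ [128, 157, 166, 172, 178] _ (by decide +kernel) (by decide +kernel) (by decide +kernel)

theorem f10086 : C.S (v4 C) [16, 43, 64, 82, 90, 110, 123] :=
  C.stMul (f421 C) (f7428 C) _ (by decide +kernel)

theorem f10087 : C.S (v4 C) [21, 60, 87, 91, 109, 120] :=
  C.stMul (f407 C) (f10086 C) _ (by decide +kernel)

theorem f10088 : C.T (v4 C) [24, 69, 88, 104, 109, 125] (v18 C) [10, 46, 56, 72, 108, 109, 122] :=
  C.conv (f6924 C) (f7427 C) (f10087 C) _ [132, 154, 173, 178] _ (by decide +kernel) (by decide +kernel) (by decide +kernel)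

theorem f10089 : C.S (v3 C) [7, 37, 53, 78, 98, 118] :=
  C.stMul (f353 C) (f335 C) _ (by decide +kernel)

theorem f10090 : C.S (v3 C) [12, 31, 63, 83, 106, 121] :=
  C.stMul (f331 C) (f10089 C) _ (by decide +kernel)

theorem f10091 : C.T (v3 C) [14, 32, 52, 84, 105, 110, 125] (v18 C) [24, 44, 61, 81, 106, 109, 111] :=
  C.conv (f6888 C) (f7333 C) (f10090 C) _ [147, 167, 172] _ (by decide +kernel) (by decide +kernel) (by decide +kernel)

theorem f10092 : C.T (v18 C) [24, 44, 61, 81, 106, 109, 111] (v3 C) [14, 32, 52, 84, 105, 110, 125] :=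
  C.flip (f10091 C)

theorem f10093 : C.T (v18 C) [21, 43, 56, 78, 105, 113] (v18 C) [21, 37, 65, 75, 106, 109, 118] :=
  C.closeT (p := (v3 C)) (pu := [5, 33, 81, 93, 122])
    (C.pT (f10085 C)
    (C.pH [8, 30, 65, 84, 94, 117] [24, 69, 88, 104, 109, 125] (by decide +kernel)
    (C.pT (f10088 C)
    (C.pH [26, 38, 54, 89, 90, 113] [21, 43, 56, 78, 105, 113] (by decide +kernel) (C.pNil _ _)))))
    (C.pH [8, 30, 65, 84, 94, 117] [24, 44, 61, 81, 106, 109, 111] (by decide +kernel)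
    (C.pT (f10092 C)
    (C.pH [26, 38, 54, 89, 90, 113] [5, 33, 81, 93, 122] (by decide +kernel) (C.pNil _ _))))
    (C.loop_of_one (relLoop1 C) _ _)

theorem f10096 : C.T (v3 C) [20, 28, 51, 84, 101, 110, 121] (v4 C) [25, 46, 55, 86, 90, 113] :=
  C.conv (f808 C) (f938 C) (f938 C) _ [132, 156, 170, 171] _ (by decide +kernel) (by decide +kernel) (by decide +kernel)

theorem f10097 : C.S (v4 C) [16, 32, 68, 79, 93, 110, 124] :=
  C.stMul (f407 C) (f7480 C) _ (by decide +kernel)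

theorem f10098 : C.S (v4 C) [18, 44, 51, 79, 106, 114] :=
  C.stMul (f421 C) (f10097 C) _ (by decide +kernel)

theorem f10099 : C.S (v4 C) [10, 44, 68, 74, 91, 110, 116] :=
  C.stMul (f693 C) (f10098 C) _ (by decide +kernel)

theorem f10100 : C.T (v4 C) [9, 39, 63, 72, 100, 110, 115] (v18 C) [26, 40, 52, 86, 90, 119] :=
  C.conv (f7423 C) (f7483 C) (f10099 C) _ [162, 170, 172, 177] _ (by decide +kernel) (by decide +kernel) (by decide +kernel)

theorem f10101 : C.S (v3 C) [9, 29, 68, 75, 108, 110, 124] :=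
  C.stMul (f335 C) (f328 C) _ (by decide +kernel)

theorem f10102 : C.S (v3 C) [13, 45, 62, 78, 97, 110, 120] :=
  C.stMul (f328 C) (f10101 C) _ (by decide +kernel)

theorem f10103 : C.T (v3 C) [17, 30, 61, 84, 96, 109, 121] (v15 C) [19, 28, 65, 85, 95, 123] :=
  C.conv (f3166 C) (f3236 C) (f10102 C) _ [131, 170, 174] _ (by decide +kernel) (by decide +kernel) (by decide +kernel)

theorem f10104 : C.T (v15 C) [19, 28, 65, 85, 95, 123] (v3 C) [17, 30, 61, 84, 96, 109, 121] :=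
  C.flip (f10103 C)

theorem f10105 : C.T (v18 C) [16, 33, 50, 81, 108, 113] (v15 C) [15, 29, 61, 84, 108] :=
  C.closeT (p := (v3 C)) (pu := [20, 28, 51, 84, 101, 110, 121])
    (C.pT (f10096 C)
    (C.pH [8, 30, 65, 84, 94, 117] [9, 39, 63, 72, 100, 110, 115] (by decide +kernel)
    (C.pT (f10100 C)
    (C.pH [26, 38, 54, 89, 90, 113] [16, 33, 50, 81, 108, 113] (by decide +kernel) (C.pNil _ _)))))
    (C.pH [8, 30, 65, 84, 94, 117] [19, 28, 65, 85, 95, 123] (by decide +kernel)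
    (C.pT (f10104 C)
    (C.pH [26, 38, 54, 89, 90, 113] [20, 28, 51, 84, 101, 110, 121] (by decide +kernel) (C.pNil _ _))))
    (C.loop_of_one (relLoop1 C) _ _)

theorem f10106 : C.T (v15 C) [15, 29, 61, 84, 108] (v18 C) [16, 33, 50, 81, 108, 113] :=
  C.flip (f10105 C)

theorem f10107 : C.T (v3 C) [23, 36, 60, 87, 95, 109, 117] (v4 C) [26, 42, 54, 78, 105, 110, 123] :=
  C.conv (f808 C) (f938 C) (f938 C) _ [137, 152, 167, 175, 178] _ (by decide +kernel) (by decide +kernel) (by decide +kernel)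

theorem f10108 : C.T (v3 C) [13, 33, 61, 88, 92, 119] (v18 C) [9, 27, 57, 84, 103, 109, 121] :=
  C.conv (f8216 C) (f8435 C) (f9343 C) _ [146, 153, 167, 176] _ (by decide +kernel) (by decide +kernel) (by decide +kernel)

theorem f10109 : C.T (v18 C) [9, 27, 57, 84, 103, 109, 121] (v3 C) [13, 33, 61, 88, 92, 119] :=
  C.flip (f10108 C)

theorem f10110 : C.T (v18 C) [25, 40, 57, 87, 95, 109] (v18 C) [10, 38, 50, 71, 102, 109, 116] :=
  C.conv (f9036 C) (f9038 C) (f9038 C) _ [126, 161, 170, 174, 178] _ (by decide +kernel) (by decide +kernel) (by decide +kernel)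

theorem f10111 : C.T (v18 C) [10, 38, 50, 71, 102, 109, 116] (v18 C) [25, 40, 57, 87, 95, 109] :=
  C.flip (f10110 C)

theorem f10112 : C.T (v4 C) [14, 33, 54, 78, 103, 109, 113] (v18 C) [18, 32, 83, 103, 109, 124] :=
  C.closeT (p := (v3 C)) (pu := [23, 36, 60, 87, 95, 109, 117])
    (C.pT (f10107 C)
    (C.pH [8, 30, 65, 84, 94, 117] [14, 33, 54, 78, 103, 109, 113] (by decide +kernel) (C.pNil _ _)))
    (C.pH [26, 38, 54, 89, 90, 113] [10, 38, 50, 71, 102, 109, 116] (by decide +kernel)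
    (C.pT (f10111 C)
    (C.pH [8, 30, 65, 84, 94, 117] [9, 27, 57, 84, 103, 109, 121] (by decide +kernel)
    (C.pT (f10109 C)
    (C.pH [26, 38, 54, 89, 90, 113] [23, 36, 60, 87, 95, 109, 117] (by decide +kernel) (C.pNil _ _))))))
    (C.loop_of_one (relLoop1 C) _ _)

theorem f10113 : C.T (v18 C) [18, 32, 83, 103, 109, 124] (v4 C) [14, 33, 54, 78, 103, 109, 113] :=
  C.flip (f10112 C)

theorem f10114 : C.T (v3 C) [24, 46, 65, 73, 94, 110, 120] (v4 C) [12, 45, 57, 86, 99, 120] :=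
  C.conv (f808 C) (f938 C) (f938 C) _ [129, 158, 167, 175] _ (by decide +kernel) (by decide +kernel) (by decide +kernel)

theorem f10115 : C.T (v4 C) [21, 44, 67, 84, 99, 109, 120] (v17 C) [12, 44, 60, 88, 100, 109, 117] :=
  C.conv (f5743 C) (f7641 C) (f407 C) _ [143, 163, 168, 171] _ (by decide +kernel) (by decide +kernel) (by decide +kernel)

theorem f10116 : C.T (v3 C) [11, 33, 49, 71, 94, 110, 125] (v18 C) [20, 55, 87, 103, 110, 113] :=
  C.conv (f7327 C) (f7806 C) (f9999 C) _ [146, 156, 166, 174] _ (by decide +kernel) (by decide +kernel) (by decide +kernel)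

theorem f10117 : C.T (v18 C) [20, 55, 87, 103, 110, 113] (v3 C) [11, 33, 49, 71, 94, 110, 125] :=
  C.flip (f10116 C)

theorem f10118 : C.T (v17 C) [14, 45, 58, 76, 110, 111] (v18 C) [16, 39, 65, 71, 92, 109, 121] :=
  C.closeT (p := (v3 C)) (pu := [24, 46, 65, 73, 94, 110, 120])
    (C.pT (f10114 C)
    (C.pH [8, 30, 65, 84, 94, 117] [21, 44, 67, 84, 99, 109, 120] (by decide +kernel)
    (C.pT (f10115 C)
    (C.pH [26, 38, 54, 89, 90, 113] [14, 45, 58, 76, 110, 111] (by decide +kernel) (C.pNil _ _)))))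
    (C.pH [8, 30, 65, 84, 94, 117] [20, 55, 87, 103, 110, 113] (by decide +kernel)
    (C.pT (f10117 C)
    (C.pH [26, 38, 54, 89, 90, 113] [24, 46, 65, 73, 94, 110, 120] (by decide +kernel) (C.pNil _ _))))
    (C.loop_of_one (relLoop1 C) _ _)

theorem f10119 : C.T (v18 C) [16, 39, 65, 71, 92, 109, 121] (v17 C) [14, 45, 58, 76, 110, 111] :=
  C.flip (f10118 C)

theorem f10120 : C.S (v3 C) [23, 29, 57, 87, 91, 110, 120] :=
  C.stMul (f331 C) (f328 C) _ (by decide +kernel)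

theorem f10121 : C.S (v3 C) [21, 45, 66, 81, 102, 110] :=
  C.stMul (f335 C) (f10120 C) _ (by decide +kernel)

theorem f10122 : C.T (v3 C) [24, 47, 67, 86, 101, 114] (v2 C) [26, 44, 60, 76, 91, 109, 115] :=
  C.conv (f818 C) (f10121 C) (f10121 C) _ [127, 149, 169, 174] _ (by decide +kernel) (by decide +kernel) (by decide +kernel)

theorem f10123 : C.T (v2 C) [14, 28, 60, 70, 94, 110, 116] (v18 C) [13, 30, 66, 82, 94, 109, 113] :=
  C.conv (f8124 C) (f8182 C) (f8251 C) _ [146, 150, 170, 172] _ (by decide +kernel) (by decide +kernel) (by decide +kernel)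

theorem f10124 : C.S (v3 C) [6, 45, 53, 79, 94, 110, 115] :=
  C.stMul (f335 C) (f10011 C) _ (by decide +kernel)

theorem f10125 : C.S (v3 C) [26, 27, 69, 86, 106, 110, 119] :=
  C.stMul (f353 C) (f10124 C) _ (by decide +kernel)

theorem f10126 : C.S (v3 C) [6, 49, 86, 91, 110, 112] :=
  C.stMul (f331 C) (f10125 C) _ (by decide +kernel)

theorem f10127 : C.T (v3 C) [11, 27, 60, 91, 122] (v17 C) [30, 60, 78, 90] :=
  C.conv (f6822 C) (f7297 C) (f10126 C) _ [142, 156, 166, 172] _ (by decide +kernel) (by decide +kernel) (by decide +kernel)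

theorem f10128 : C.T (v17 C) [30, 60, 78, 90] (v3 C) [11, 27, 60, 91, 122] :=
  C.flip (f10127 C)

theorem f10129 : C.T (v18 C) [23, 56, 79, 96, 110, 114] (v17 C) [8, 28, 83, 92, 110, 124] :=
  C.closeT (p := (v3 C)) (pu := [24, 47, 67, 86, 101, 114])
    (C.pT (f10122 C)
    (C.pH [8, 30, 65, 84, 94, 117] [14, 28, 60, 70, 94, 110, 116] (by decide +kernel)
    (C.pT (f10123 C)
    (C.pH [26, 38, 54, 89, 90, 113] [23, 56, 79, 96, 110, 114] (by decide +kernel) (C.pNil _ _)))))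
    (C.pH [8, 30, 65, 84, 94, 117] [30, 60, 78, 90] (by decide +kernel)
    (C.pT (f10128 C)
    (C.pH [26, 38, 54, 89, 90, 113] [24, 47, 67, 86, 101, 114] (by decide +kernel) (C.pNil _ _))))
    (C.loop_of_one (relLoop1 C) _ _)

theorem f10130 : C.T (v17 C) [8, 28, 83, 92, 110, 124] (v18 C) [23, 56, 79, 96, 110, 114] :=
  C.flip (f10129 C)

theorem f10131 : C.T (v3 C) [22, 33, 59, 88, 108, 109, 113] (v2 C) [19, 40, 50, 73, 98, 115] :=
  C.conv (f818 C) (f10121 C) (f10121 C) _ [138, 163, 176, 177] _ (by decide +kernel) (by decide +kernel) (by decide +kernel)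

theorem f10132 : C.S (v2 C) [11, 46, 65, 80, 104, 110, 124] :=
  C.stMul (f138 C) (f6905 C) _ (by decide +kernel)

theorem f10133 : C.S (v2 C) [5, 33, 57, 71, 96, 116] :=
  C.stMul (f211 C) (f10132 C) _ (by decide +kernel)

theorem f10134 : C.S (v2 C) [15, 32, 65, 85, 100, 109, 117] :=
  C.stMul (f243 C) (f10133 C) _ (by decide +kernel)

theorem f10135 : C.T (v2 C) [26, 34, 60, 86, 93, 118] (v18 C) [21, 28, 60, 89, 99, 109, 120] :=
  C.conv (f6850 C) (f6867 C) (f10134 C) _ [135, 161, 164] _ (by decide +kernel) (by decide +kernel) (by decide +kernel)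

theorem f10136 : C.S (v3 C) [9, 29, 68, 75, 108, 110, 124] :=
  C.stMul (f335 C) (f328 C) _ (by decide +kernel)

theorem f10137 : C.S (v3 C) [11, 28, 50, 85, 94, 124] :=
  C.stMul (f353 C) (f10136 C) _ (by decide +kernel)

theorem f10138 : C.S (v3 C) [9, 38, 62, 72, 93, 110, 122] :=
  C.stMul (f335 C) (f10137 C) _ (by decide +kernel)

theorem f10139 : C.T (v3 C) [9, 45, 62, 70, 90, 123] (v17 C) [19, 41, 58, 87, 100, 111] :=
  C.conv (f6808 C) (f9290 C) (f10138 C) _ [126, 165, 171, 178] _ (by decide +kernel) (by decide +kernel) (by decide +kernel)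

theorem f10140 : C.T (v17 C) [19, 41, 58, 87, 100, 111] (v3 C) [9, 45, 62, 70, 90, 123] :=
  C.flip (f10139 C)

theorem f10141 : C.T (v18 C) [6, 36, 52, 86, 97, 112] (v17 C) [15, 34, 51, 104, 117] :=
  C.closeT (p := (v3 C)) (pu := [22, 33, 59, 88, 108, 109, 113])
    (C.pT (f10131 C)
    (C.pH [8, 30, 65, 84, 94, 117] [26, 34, 60, 86, 93, 118] (by decide +kernel)
    (C.pT (f10135 C)
    (C.pH [26, 38, 54, 89, 90, 113] [6, 36, 52, 86, 97, 112] (by decide +kernel) (C.pNil _ _)))))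
    (C.pH [8, 30, 65, 84, 94, 117] [19, 41, 58, 87, 100, 111] (by decide +kernel)
    (C.pT (f10140 C)
    (C.pH [26, 38, 54, 89, 90, 113] [22, 33, 59, 88, 108, 109, 113] (by decide +kernel) (C.pNil _ _))))
    (C.loop_of_one (relLoop1 C) _ _)

theorem f10142 : C.T (v17 C) [15, 34, 51, 104, 117] (v18 C) [6, 36, 52, 86, 97, 112] :=
  C.flip (f10141 C)

theorem f10143 : C.T (v3 C) [23, 34, 66, 70, 102, 109, 123] (v2 C) [24, 47, 65, 86, 93, 109, 115] :=
  C.conv (f818 C) (f10121 C) (f10121 C) _ [131, 157, 164, 173, 177] _ (by decide +kernel) (by decide +kernel) (by decide +kernel)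

theorem f10144 : C.S (v2 C) [20, 61, 78, 104, 112] :=
  C.stMul (f149 C) (f211 C) _ (by decide +kernel)

theorem f10145 : C.S (v2 C) [7, 42, 65, 103, 109, 122] :=
  C.stMul (f243 C) (f10144 C) _ (by decide +kernel)

theorem f10146 : C.S (v2 C) [25, 37, 66, 84, 106, 110, 120] :=
  C.stMul (f149 C) (f10145 C) _ (by decide +kernel)

theorem f10147 : C.T (v2 C) [16, 45, 67, 86, 94, 109, 118] (v4 C) [9, 33, 62, 89, 94, 117] :=
  C.conv (f857 C) (f864 C) (f10146 C) _ [138, 155, 168, 177] _ (by decide +kernel) (by decide +kernel) (by decide +kernel)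

theorem f10148 : C.S (v3 C) [20, 29, 56, 72, 109, 121] :=
  C.stMul (f335 C) (f8433 C) _ (by decide +kernel)

theorem f10149 : C.S (v3 C) [24, 38, 68, 85, 97, 110, 111] :=
  C.stMul (f353 C) (f10148 C) _ (by decide +kernel)

theorem f10150 : C.S (v3 C) [7, 27, 59, 75, 93, 110, 124] :=
  C.stMul (f335 C) (f10149 C) _ (by decide +kernel)

theorem f10151 : C.T (v3 C) [13, 34, 49, 72, 95, 115] (v18 C) [9, 27, 57, 89, 100, 109, 115] :=
  C.conv (f8216 C) (f8435 C) (f10150 C) _ [132, 160, 169, 172] _ (by decide +kernel) (by decide +kernel) (by decide +kernel)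

theorem f10152 : C.T (v18 C) [9, 27, 57, 89, 100, 109, 115] (v3 C) [13, 34, 49, 72, 95, 115] :=
  C.flip (f10151 C)

theorem f10153 : C.T (v4 C) [22, 45, 63, 82, 94, 109, 124] (v18 C) [25, 40, 57, 79, 97, 109, 116] :=
  C.closeT (p := (v3 C)) (pu := [23, 34, 66, 70, 102, 109, 123])
    (C.pT (f10143 C)
    (C.pH [8, 30, 65, 84, 94, 117] [16, 45, 67, 86, 94, 109, 118] (by decide +kernel)
    (C.pT (f10147 C)
    (C.pH [26, 38, 54, 89, 90, 113] [22, 45, 63, 82, 94, 109, 124] (by decide +kernel) (C.pNil _ _)))))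
    (C.pH [8, 30, 65, 84, 94, 117] [9, 27, 57, 89, 100, 109, 115] (by decide +kernel)
    (C.pT (f10152 C)
    (C.pH [26, 38, 54, 89, 90, 113] [23, 34, 66, 70, 102, 109, 123] (by decide +kernel) (C.pNil _ _))))
    (C.loop_of_one (relLoop1 C) _ _)

theorem f10154 : C.T (v18 C) [25, 40, 57, 79, 97, 109, 116] (v4 C) [22, 45, 63, 82, 94, 109, 124] :=
  C.flip (f10153 C)

theorem f10155 : C.T (v3 C) [7, 36, 59, 70, 94, 110, 121] (v2 C) [6, 32, 54, 86, 101, 113] :=
  C.conv (f818 C) (f10121 C) (f10121 C) _ [132, 154, 166, 173] _ (by decide +kernel) (by decide +kernel) (by decide +kernel)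

theorem f10156 : C.S (v2 C) [17, 33, 59, 79, 103, 110, 113] :=
  C.stMul (f211 C) (f8050 C) _ (by decide +kernel)

theorem f10157 : C.T (v2 C) [13, 47, 60, 89, 95, 109, 118] (v18 C) [48, 55, 70, 96, 109, 111] :=
  C.conv (f6850 C) (f6867 C) (f10156 C) _ [140, 151, 165, 176, 177] _ (by decide +kernel) (by decide +kernel) (by decide +kernel)

theorem f10158 : C.S (v3 C) [30, 69, 79, 91] :=
  C.stMul (f335 C) (f9850 C) _ (by decide +kernel)

theorem f10159 : C.S (v3 C) [22, 48, 51, 106, 122] :=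
  C.stMul (f331 C) (f10158 C) _ (by decide +kernel)

theorem f10160 : C.T (v3 C) [23, 38, 55, 74, 107, 110, 123] (v18 C) [24, 35, 57, 86, 101, 110, 121] :=
  C.conv (f9184 C) (f9232 C) (f10159 C) _ [135, 160, 169, 174] _ (by decide +kernel) (by decide +kernel) (by decide +kernel)

theorem f10161 : C.T (v18 C) [24, 35, 57, 86, 101, 110, 121] (v3 C) [23, 38, 55, 74, 107, 110, 123] :=
  C.flip (f10160 C)

theorem f10162 : C.T (v18 C) [26, 45, 50, 72, 94, 116] (v18 C) [21, 43, 68, 74, 97, 109, 119] :=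
  C.closeT (p := (v3 C)) (pu := [7, 36, 59, 70, 94, 110, 121])
    (C.pT (f10155 C)
    (C.pH [8, 30, 65, 84, 94, 117] [13, 47, 60, 89, 95, 109, 118] (by decide +kernel)
    (C.pT (f10157 C)
    (C.pH [26, 38, 54, 89, 90, 113] [26, 45, 50, 72, 94, 116] (by decide +kernel) (C.pNil _ _)))))
    (C.pH [8, 30, 65, 84, 94, 117] [24, 35, 57, 86, 101, 110, 121] (by decide +kernel)
    (C.pT (f10161 C)
    (C.pH [26, 38, 54, 89, 90, 113] [7, 36, 59, 70, 94, 110, 121] (by decide +kernel) (C.pNil _ _))))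
    (C.loop_of_one (relLoop1 C) _ _)

theorem f10163 : C.T (v18 C) [21, 43, 68, 74, 97, 109, 119] (v18 C) [26, 45, 50, 72, 94, 116] :=
  C.flip (f10162 C)

theorem f10164 : C.T (v3 C) [29, 51, 83, 105, 119] (v2 C) [26, 37, 55, 72, 98, 109, 113] :=
  C.conv (f818 C) (f10121 C) (f10121 C) _ [136, 162, 167, 174] _ (by decide +kernel) (by decide +kernel) (by decide +kernel)

theorem f10165 : C.S (v2 C) [12, 31, 52, 82, 91, 120] :=
  C.stMul (f138 C) (f6920 C) _ (by decide +kernel)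

theorem f10166 : C.T (v2 C) [14, 46, 62, 79, 104, 110, 118] (v18 C) [10, 32, 62, 80, 98, 110, 121] :=
  C.conv (f6850 C) (f6867 C) (f10165 C) _ [131, 153, 167, 171, 178] _ (by decide +kernel) (by decide +kernel) (by decide +kernel)

theorem f10167 : C.T (v3 C) [7, 37, 68, 74, 99, 110, 119] (v18 C) [10, 48, 64, 89, 108, 110, 123] :=
  C.conv (f8216 C) (f8435 C) (f9436 C) _ [131, 163, 176, 178] _ (by decide +kernel) (by decide +kernel) (by decide +kernel)

theorem f10168 : C.T (v18 C) [10, 48, 64, 89, 108, 110, 123] (v3 C) [7, 37, 68, 74, 99, 110, 119] :=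
  C.flip (f10167 C)

theorem f10169 : C.T (v18 C) [21, 28, 63, 82, 99, 110, 122] (v18 C) [23, 27, 60, 87, 108, 109, 122] :=
  C.closeT (p := (v3 C)) (pu := [29, 51, 83, 105, 119])
    (C.pT (f10164 C)
    (C.pH [8, 30, 65, 84, 94, 117] [14, 46, 62, 79, 104, 110, 118] (by decide +kernel)
    (C.pT (f10166 C)
    (C.pH [26, 38, 54, 89, 90, 113] [21, 28, 63, 82, 99, 110, 122] (by decide +kernel) (C.pNil _ _)))))
    (C.pH [8, 30, 65, 84, 94, 117] [10, 48, 64, 89, 108, 110, 123] (by decide +kernel)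
    (C.pT (f10168 C)
    (C.pH [26, 38, 54, 89, 90, 113] [29, 51, 83, 105, 119] (by decide +kernel) (C.pNil _ _))))
    (C.loop_of_one (relLoop1 C) _ _)

theorem f10170 : C.T (v18 C) [23, 27, 60, 87, 108, 109, 122] (v18 C) [21, 28, 63, 82, 99, 110, 122] :=
  C.flip (f10169 C)

theorem f10171 : C.T (v3 C) [17, 41, 51, 72, 102, 115] (v2 C) [7, 36, 62, 78, 96, 125] :=
  C.conv (f818 C) (f10121 C) (f10121 C) _ [133, 157, 175] _ (by decide +kernel) (by decide +kernel) (by decide +kernel)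

theorem f10172 : C.S (v2 C) [18, 29, 61, 72, 92, 110, 122] :=
  C.stMul (f243 C) (f8183 C) _ (by decide +kernel)

theorem f10173 : C.S (v2 C) [25, 37, 65, 86, 99, 117] :=
  C.stMul (f243 C) (f10172 C) _ (by decide +kernel)

theorem f10174 : C.T (v2 C) [17, 27, 68, 86, 101, 116] (v18 C) [17, 42, 69, 80, 107, 110, 120] :=
  C.conv (f8124 C) (f8182 C) (f10173 C) _ [148, 158, 165, 175] _ (by decide +kernel) (by decide +kernel) (by decide +kernel)

theorem f10175 : C.S (v3 C) [7, 37, 53, 78, 98, 118] :=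
  C.stMul (f353 C) (f335 C) _ (by decide +kernel)

theorem f10176 : C.S (v3 C) [12, 31, 63, 83, 106, 121] :=
  C.stMul (f331 C) (f10175 C) _ (by decide +kernel)

theorem f10177 : C.T (v3 C) [19, 36, 54, 73, 107, 121] (v18 C) [24, 50, 71, 103, 120] :=
  C.conv (f6911 C) (f8231 C) (f10176 C) _ [148, 165, 173, 178] _ (by decide +kernel) (by decide +kernel) (by decide +kernel)

theorem f10178 : C.T (v18 C) [24, 50, 71, 103, 120] (v3 C) [19, 36, 54, 73, 107, 121] :=
  C.flip (f10177 C)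

theorem f10179 : C.T (v18 C) [20, 31, 51, 78, 103, 111] (v18 C) [21, 33, 53, 73, 122] :=
  C.closeT (p := (v3 C)) (pu := [17, 41, 51, 72, 102, 115])
    (C.pT (f10171 C)
    (C.pH [8, 30, 65, 84, 94, 117] [17, 27, 68, 86, 101, 116] (by decide +kernel)
    (C.pT (f10174 C)
    (C.pH [26, 38, 54, 89, 90, 113] [20, 31, 51, 78, 103, 111] (by decide +kernel) (C.pNil _ _)))))
    (C.pH [8, 30, 65, 84, 94, 117] [24, 50, 71, 103, 120] (by decide +kernel)
    (C.pT (f10178 C)
    (C.pH [26, 38, 54, 89, 90, 113] [17, 41, 51, 72, 102, 115] (by decide +kernel) (C.pNil _ _))))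
    (C.loop_of_one (relLoop1 C) _ _)

theorem f10180 : C.T (v18 C) [21, 33, 53, 73, 122] (v18 C) [20, 31, 51, 78, 103, 111] :=
  C.flip (f10179 C)

theorem f10181 : C.T (v3 C) [4, 36, 53, 81, 108, 109] (v4 C) [4, 39, 57, 86, 109, 116] :=
  C.conv (f841 C) (f926 C) (f926 C) _ [140, 162, 164, 175, 178] _ (by decide +kernel) (by decide +kernel) (by decide +kernel)

theorem f10182 : C.S (v3 C) [8, 48, 63, 86, 90, 110, 123] :=
  C.stMul (f331 C) (f9442 C) _ (by decide +kernel)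

theorem f10183 : C.T (v3 C) [6, 35, 69, 70, 93, 110, 115] (v18 C) [19, 27, 60, 88, 102, 109] :=
  C.conv (f6888 C) (f7333 C) (f10182 C) _ [136, 155, 166, 171] _ (by decide +kernel) (by decide +kernel) (by decide +kernel)

theorem f10184 : C.T (v18 C) [19, 27, 60, 88, 102, 109] (v3 C) [6, 35, 69, 70, 93, 110, 115] :=
  C.flip (f10183 C)

theorem f10185 : C.S (v18 C) [26, 43, 49, 77, 91, 110, 115] :=
  C.stMul (f6836 C) (f6836 C) _ (by decide +kernel)

theorem f10186 : C.T (v18 C) [15, 35, 50, 74, 102, 109, 118] (v18 C) [22, 41, 52, 72, 95, 112] :=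
  C.conv (f9665 C) (f10185 C) (f7121 C) _ [146, 159, 169, 171] _ (by decide +kernel) (by decide +kernel) (by decide +kernel)

theorem f10187 : C.T (v18 C) [22, 41, 52, 72, 95, 112] (v18 C) [15, 35, 50, 74, 102, 109, 118] :=
  C.flip (f10186 C)

theorem f10188 : C.T (v4 C) [25, 37, 53, 77, 94, 116] (v18 C) [9, 32, 64, 85, 96, 117] :=
  C.closeT (p := (v3 C)) (pu := [4, 36, 53, 81, 108, 109])
    (C.pT (f10181 C)
    (C.pH [8, 30, 65, 84, 94, 117] [25, 37, 53, 77, 94, 116] (by decide +kernel) (C.pNil _ _)))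
    (C.pH [26, 38, 54, 89, 90, 113] [22, 41, 52, 72, 95, 112] (by decide +kernel)
    (C.pT (f10187 C)
    (C.pH [8, 30, 65, 84, 94, 117] [19, 27, 60, 88, 102, 109] (by decide +kernel)
    (C.pT (f10184 C)
    (C.pH [26, 38, 54, 89, 90, 113] [4, 36, 53, 81, 108, 109] (by decide +kernel) (C.pNil _ _))))))
    (C.loop_of_one (relLoop1 C) _ _)

theorem f10189 : C.T (v18 C) [9, 32, 64, 85, 96, 117] (v4 C) [25, 37, 53, 77, 94, 116] :=
  C.flip (f10188 C)

theorem f10190 : C.T (v3 C) [6, 48, 53, 80, 95, 119] (v4 C) [6, 31, 63, 74, 105, 110, 116] :=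
  C.conv (f841 C) (f926 C) (f926 C) _ [140, 150, 166, 171, 178] _ (by decide +kernel) (by decide +kernel) (by decide +kernel)

theorem f10191 : C.S (v4 C) [18, 46, 49, 75, 97, 110, 118] :=
  C.stMul (f407 C) (f407 C) _ (by decide +kernel)

theorem f10192 : C.S (v4 C) [23, 45, 57, 77, 95, 110, 118] :=
  C.stMul (f407 C) (f10191 C) _ (by decide +kernel)

theorem f10193 : C.S (v4 C) [16, 46, 68, 72, 103, 110, 111] :=
  C.stMul (f693 C) (f10192 C) _ (by decide +kernel)

theorem f10194 : C.S (v4 C) [26, 43, 63, 73, 104, 112] :=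
  C.stMul (f421 C) (f10192 C) _ (by decide +kernel)

theorem f10195 : C.S (v4 C) [25, 46, 61, 102, 110, 119] :=
  C.stMul (f407 C) (f10194 C) _ (by decide +kernel)

theorem f10196 : C.S (v4 C) [10, 38, 55, 71, 94, 110, 113] :=
  C.stMul (f421 C) (f10195 C) _ (by decide +kernel)

theorem f10197 : C.T (v4 C) [13, 35, 57, 86, 103, 110, 122] (v17 C) [12, 35, 53, 76, 107, 120] :=
  C.conv (f6121 C) (f10193 C) (f10196 C) _ [135, 157, 166, 176] _ (by decide +kernel) (by decide +kernel) (by decide +kernel)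

theorem f10198 : C.S (v3 C) [43, 67, 71, 98, 119] :=
  C.stMul (f335 C) (f8434 C) _ (by decide +kernel)

theorem f10199 : C.T (v3 C) [21, 38, 50, 85, 99, 110, 125] (v18 C) [15, 28, 68, 70, 106, 124] :=
  C.conv (f8216 C) (f8435 C) (f10198 C) _ [136, 169, 171] _ (by decide +kernel) (by decide +kernel) (by decide +kernel)

theorem f10200 : C.T (v18 C) [15, 28, 68, 70, 106, 124] (v3 C) [21, 38, 50, 85, 99, 110, 125] :=
  C.flip (f10199 C)

theorem f10201 : C.T (v17 C) [14, 33, 67, 76, 105, 116] (v18 C) [10, 43, 54, 71, 90, 116] :=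
  C.closeT (p := (v3 C)) (pu := [6, 48, 53, 80, 95, 119])
    (C.pT (f10190 C)
    (C.pH [8, 30, 65, 84, 94, 117] [13, 35, 57, 86, 103, 110, 122] (by decide +kernel)
    (C.pT (f10197 C)
    (C.pH [26, 38, 54, 89, 90, 113] [14, 33, 67, 76, 105, 116] (by decide +kernel) (C.pNil _ _)))))
    (C.pH [8, 30, 65, 84, 94, 117] [15, 28, 68, 70, 106, 124] (by decide +kernel)
    (C.pT (f10200 C)
    (C.pH [26, 38, 54, 89, 90, 113] [6, 48, 53, 80, 95, 119] (by decide +kernel) (C.pNil _ _))))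
    (C.loop_of_one (relLoop1 C) _ _)

theorem f10202 : C.T (v18 C) [10, 43, 54, 71, 90, 116] (v17 C) [14, 33, 67, 76, 105, 116] :=
  C.flip (f10201 C)

theorem f10203 : C.T (v3 C) [14, 46, 58, 72, 96, 109, 111] (v4 C) [14, 36, 68, 78, 94, 110, 125] :=
  C.conv (f841 C) (f926 C) (f926 C) _ [140, 156, 168, 175, 178] _ (by decide +kernel) (by decide +kernel) (by decide +kernel)

theorem f10204 : C.S (v4 C) [21, 60, 87, 91, 109, 120] :=
  C.stMul (f407 C) (f8277 C) _ (by decide +kernel)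

theorem f10205 : C.S (v4 C) [13, 34, 59, 73, 105, 109, 115] :=
  C.stMul (f421 C) (f10204 C) _ (by decide +kernel)

theorem f10206 : C.T (v4 C) [5, 42, 69, 84, 92, 110, 125] (v18 C) [14, 38, 53, 76, 94, 110, 125] :=
  C.conv (f8246 C) (f8275 C) (f10205 C) _ [127, 153, 169, 171] _ (by decide +kernel) (by decide +kernel) (by decide +kernel)

theorem f10207 : C.S (v3 C) [20, 43, 61, 80, 107, 110, 114] :=
  C.stMul (f335 C) (f9290 C) _ (by decide +kernel)

theorem f10208 : C.T (v3 C) [12, 41, 51, 74, 94, 110] (v17 C) [18, 44, 60, 87, 103, 109, 121] :=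
  C.conv (f6808 C) (f9290 C) (f10207 C) _ [128, 156, 165] _ (by decide +kernel) (by decide +kernel) (by decide +kernel)

theorem f10209 : C.T (v17 C) [18, 44, 60, 87, 103, 109, 121] (v3 C) [12, 41, 51, 74, 94, 110] :=
  C.flip (f10208 C)

theorem f10210 : C.T (v18 C) [5, 32, 61, 87, 96, 109, 124] (v17 C) [9, 38, 60, 87, 103, 109, 121] :=
  C.closeT (p := (v3 C)) (pu := [14, 46, 58, 72, 96, 109, 111])
    (C.pT (f10203 C)
    (C.pH [8, 30, 65, 84, 94, 117] [5, 42, 69, 84, 92, 110, 125] (by decide +kernel)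
    (C.pT (f10206 C)
    (C.pH [26, 38, 54, 89, 90, 113] [5, 32, 61, 87, 96, 109, 124] (by decide +kernel) (C.pNil _ _)))))
    (C.pH [8, 30, 65, 84, 94, 117] [18, 44, 60, 87, 103, 109, 121] (by decide +kernel)
    (C.pT (f10209 C)
    (C.pH [26, 38, 54, 89, 90, 113] [14, 46, 58, 72, 96, 109, 111] (by decide +kernel) (C.pNil _ _))))
    (C.loop_of_one (relLoop1 C) _ _)

theorem f10211 : C.T (v17 C) [9, 38, 60, 87, 103, 109, 121] (v18 C) [5, 32, 61, 87, 96, 109, 124] :=
  C.flip (f10210 C)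

theorem f10212 : C.T (v3 C) [6, 32, 53, 83, 110, 122] (v4 C) [6, 41, 59, 83, 98, 109, 121] :=
  C.conv (f841 C) (f926 C) (f926 C) _ [130, 153, 169, 175, 177] _ (by decide +kernel) (by decide +kernel) (by decide +kernel)

theorem f10213 : C.S (v3 C) [7, 39, 56, 89, 103, 119] :=
  C.stMul (f331 C) (f9298 C) _ (by decide +kernel)

theorem f10214 : C.S (v3 C) [12, 34, 51, 89, 101, 111] :=
  C.stMul (f331 C) (f10213 C) _ (by decide +kernel)

theorem f10215 : C.T (v3 C) [21, 41, 72, 100, 109, 118] (v18 C) [10, 28, 65, 84, 103, 109, 125] :=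
  C.conv (f9221 C) (f9279 C) (f10214 C) _ [142, 159, 174, 177] _ (by decide +kernel) (by decide +kernel) (by decide +kernel)

theorem f10216 : C.T (v18 C) [10, 28, 65, 84, 103, 109, 125] (v3 C) [21, 41, 72, 100, 109, 118] :=
  C.flip (f10215 C)

theorem f10217 : C.T (v18 C) [23, 64, 83, 95, 116] (v18 C) [7, 31, 68, 82, 97, 110, 117] :=
  C.conv (f9855 C) (f7121 C) (f6836 C) _ [134, 149, 166, 178] _ (by decide +kernel) (by decide +kernel) (by decide +kernel)

theorem f10218 : C.T (v18 C) [7, 31, 68, 82, 97, 110, 117] (v18 C) [23, 64, 83, 95, 116] :=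
  C.flip (f10217 C)

theorem f10219 : C.T (v4 C) [13, 27, 53, 74, 90] (v18 C) [23, 45, 56, 86, 107, 109, 118] :=
  C.closeT (p := (v3 C)) (pu := [6, 32, 53, 83, 110, 122])
    (C.pT (f10212 C)
    (C.pH [8, 30, 65, 84, 94, 117] [13, 27, 53, 74, 90] (by decide +kernel) (C.pNil _ _)))
    (C.pH [26, 38, 54, 89, 90, 113] [7, 31, 68, 82, 97, 110, 117] (by decide +kernel)
    (C.pT (f10218 C)
    (C.pH [8, 30, 65, 84, 94, 117] [10, 28, 65, 84, 103, 109, 125] (by decide +kernel)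
    (C.pT (f10216 C)
    (C.pH [26, 38, 54, 89, 90, 113] [6, 32, 53, 83, 110, 122] (by decide +kernel) (C.pNil _ _))))))
    (C.loop_of_one (relLoop1 C) _ _)

theorem f10220 : C.T (v18 C) [23, 45, 56, 86, 107, 109, 118] (v4 C) [13, 27, 53, 74, 90] :=
  C.flip (f10219 C)

theorem f10221 : C.T (v3 C) [13, 32, 64, 74, 97, 109, 112] (v4 C) [13, 41, 61, 79, 97, 117] :=
  C.conv (f841 C) (f926 C) (f926 C) _ [142, 152, 171] _ (by decide +kernel) (by decide +kernel) (by decide +kernel)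

theorem f10222 : C.S (v4 C) [18, 46, 49, 75, 97, 110, 118] :=
  C.stMul (f407 C) (f407 C) _ (by decide +kernel)

theorem f10223 : C.S (v4 C) [23, 45, 57, 77, 95, 110, 118] :=
  C.stMul (f407 C) (f10222 C) _ (by decide +kernel)

theorem f10224 : C.T (v4 C) [11, 30, 62, 72, 100, 109, 125] (v18 C) [24, 32, 57, 75, 93, 109, 111] :=
  C.conv (f7487 C) (f8474 C) (f10223 C) _ [159, 170, 171, 178] _ (by decide +kernel) (by decide +kernel) (by decide +kernel)

theorem f10225 : C.S (v3 C) [7, 37, 53, 78, 98, 118] :=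
  C.stMul (f353 C) (f335 C) _ (by decide +kernel)

theorem f10226 : C.S (v3 C) [12, 31, 63, 83, 106, 121] :=
  C.stMul (f331 C) (f10225 C) _ (by decide +kernel)

theorem f10227 : C.S (v3 C) [25, 37, 55, 85, 105, 109] :=
  C.stMul (f335 C) (f10226 C) _ (by decide +kernel)

theorem f10228 : C.T (v3 C) [16, 39, 68, 78, 107, 110, 118] (v18 C) [23, 54, 72, 95, 114] :=
  C.conv (f8216 C) (f8435 C) (f10227 C) _ [162, 167, 172, 178] _ (by decide +kernel) (by decide +kernel) (by decide +kernel)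

theorem f10229 : C.T (v18 C) [23, 54, 72, 95, 114] (v3 C) [16, 39, 68, 78, 107, 110, 118] :=
  C.flip (f10228 C)

theorem f10230 : C.T (v18 C) [12, 47, 51, 76, 95, 109, 111] (v18 C) [20, 37, 74, 105, 109, 117] :=
  C.closeT (p := (v3 C)) (pu := [13, 32, 64, 74, 97, 109, 112])
    (C.pT (f10221 C)
    (C.pH [8, 30, 65, 84, 94, 117] [11, 30, 62, 72, 100, 109, 125] (by decide +kernel)
    (C.pT (f10224 C)
    (C.pH [26, 38, 54, 89, 90, 113] [12, 47, 51, 76, 95, 109, 111] (by decide +kernel) (C.pNil _ _)))))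
    (C.pH [8, 30, 65, 84, 94, 117] [23, 54, 72, 95, 114] (by decide +kernel)
    (C.pT (f10229 C)
    (C.pH [26, 38, 54, 89, 90, 113] [13, 32, 64, 74, 97, 109, 112] (by decide +kernel) (C.pNil _ _))))
    (C.loop_of_one (relLoop1 C) _ _)

theorem f10231 : C.T (v18 C) [20, 37, 74, 105, 109, 117] (v18 C) [12, 47, 51, 76, 95, 109, 111] :=
  C.flip (f10230 C)

theorem f10232 : C.T (v3 C) [23, 27, 55, 86, 95, 110, 111] (v4 C) [23, 36, 53, 74, 100, 109, 125] :=
  C.conv (f841 C) (f926 C) (f926 C) _ [127, 151, 178] _ (by decide +kernel) (by decide +kernel) (by decide +kernel)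

theorem f10233 : C.S (v4 C) [18, 46, 49, 75, 97, 110, 118] :=
  C.stMul (f407 C) (f407 C) _ (by decide +kernel)

theorem f10234 : C.S (v4 C) [23, 45, 57, 77, 95, 110, 118] :=
  C.stMul (f407 C) (f10233 C) _ (by decide +kernel)

theorem f10235 : C.S (v4 C) [26, 43, 63, 73, 104, 112] :=
  C.stMul (f421 C) (f10234 C) _ (by decide +kernel)

theorem f10236 : C.S (v4 C) [25, 46, 61, 102, 110, 119] :=
  C.stMul (f407 C) (f10235 C) _ (by decide +kernel)

theorem f10237 : C.S (v4 C) [26, 42, 68, 71, 107, 109, 113] :=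
  C.stMul (f407 C) (f10236 C) _ (by decide +kernel)

theorem f10238 : C.T (v4 C) [10, 46, 68, 74, 91, 109, 117] (v18 C) [39, 68, 82, 100, 110, 125] :=
  C.conv (f8235 C) (f8735 C) (f10237 C) _ [134, 153, 175] _ (by decide +kernel) (by decide +kernel) (by decide +kernel)

theorem f10239 : C.S (v3 C) [18, 43, 59, 78, 90, 110, 111] :=
  C.stMul (f353 C) (f9754 C) _ (by decide +kernel)

theorem f10240 : C.S (v3 C) [6, 29, 67, 88, 100, 110] :=
  C.stMul (f335 C) (f10239 C) _ (by decide +kernel)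

theorem f10241 : C.S (v3 C) [4, 27, 54, 85, 102, 122] :=
  C.stMul (f328 C) (f10240 C) _ (by decide +kernel)

theorem f10242 : C.T (v3 C) [13, 45, 53, 89, 96, 118] (v17 C) [12, 46, 51, 79, 105, 109, 116] :=
  C.conv (f6808 C) (f9290 C) (f10241 C) _ [143, 152, 169, 174] _ (by decide +kernel) (by decide +kernel) (by decide +kernel)

theorem f10243 : C.T (v17 C) [12, 46, 51, 79, 105, 109, 116] (v3 C) [13, 45, 53, 89, 96, 118] :=
  C.flip (f10242 C)

theorem f10244 : C.T (v18 C) [26, 42, 66, 73, 90, 120] (v17 C) [5, 35, 74, 97, 109, 116] :=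
  C.closeT (p := (v3 C)) (pu := [23, 27, 55, 86, 95, 110, 111])
    (C.pT (f10232 C)
    (C.pH [8, 30, 65, 84, 94, 117] [10, 46, 68, 74, 91, 109, 117] (by decide +kernel)
    (C.pT (f10238 C)
    (C.pH [26, 38, 54, 89, 90, 113] [26, 42, 66, 73, 90, 120] (by decide +kernel) (C.pNil _ _)))))
    (C.pH [8, 30, 65, 84, 94, 117] [12, 46, 51, 79, 105, 109, 116] (by decide +kernel)
    (C.pT (f10243 C)
    (C.pH [26, 38, 54, 89, 90, 113] [23, 27, 55, 86, 95, 110, 111] (by decide +kernel) (C.pNil _ _))))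
    (C.loop_of_one (relLoop1 C) _ _)

theorem f10245 : C.T (v17 C) [5, 35, 74, 97, 109, 116] (v18 C) [26, 42, 66, 73, 90, 120] :=
  C.flip (f10244 C)

theorem f10246 : C.T (v3 C) [15, 29, 62, 79, 105, 109, 118] (v4 C) [15, 46, 59, 81, 105, 110, 113] :=
  C.conv (f841 C) (f926 C) (f926 C) _ [135, 160, 170, 174, 178] _ (by decide +kernel) (by decide +kernel) (by decide +kernel)

theorem f10247 : C.S (v4 C) [8, 31, 60, 85, 98, 110, 125] :=
  C.stMul (f693 C) (f407 C) _ (by decide +kernel)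

theorem f10248 : C.T (v4 C) [19, 47, 66, 72, 90, 110, 114] (v18 C) [8, 37, 66, 76, 102, 123] :=
  C.conv (f6895 C) (f8570 C) (f10247 C) _ [147, 160, 164, 172, 177] _ (by decide +kernel) (by decide +kernel) (by decide +kernel)

theorem f10249 : C.S (v3 C) [23, 29, 57, 87, 91, 110, 120] :=
  C.stMul (f331 C) (f328 C) _ (by decide +kernel)

theorem f10250 : C.S (v3 C) [7, 39, 56, 89, 103, 119] :=
  C.stMul (f331 C) (f10249 C) _ (by decide +kernel)

theorem f10251 : C.S (v3 C) [12, 34, 51, 89, 101, 111] :=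
  C.stMul (f331 C) (f10250 C) _ (by decide +kernel)

theorem f10252 : C.T (v3 C) [20, 36, 65, 73, 90, 110, 112] (v18 C) [23, 37, 61, 75, 101, 109, 122] :=
  C.conv (f6911 C) (f8231 C) (f10251 C) _ [132, 150, 167, 172, 177] _ (by decide +kernel) (by decide +kernel) (by decide +kernel)

theorem f10253 : C.T (v18 C) [23, 37, 61, 75, 101, 109, 122] (v3 C) [20, 36, 65, 73, 90, 110, 112] :=
  C.flip (f10252 C)

theorem f10254 : C.T (v18 C) [11, 48, 60, 86, 97, 110, 121] (v18 C) [20, 48, 66, 80, 101, 119] :=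
  C.closeT (p := (v3 C)) (pu := [15, 29, 62, 79, 105, 109, 118])
    (C.pT (f10246 C)
    (C.pH [8, 30, 65, 84, 94, 117] [19, 47, 66, 72, 90, 110, 114] (by decide +kernel)
    (C.pT (f10248 C)
    (C.pH [26, 38, 54, 89, 90, 113] [11, 48, 60, 86, 97, 110, 121] (by decide +kernel) (C.pNil _ _)))))
    (C.pH [8, 30, 65, 84, 94, 117] [23, 37, 61, 75, 101, 109, 122] (by decide +kernel)
    (C.pT (f10253 C)
    (C.pH [26, 38, 54, 89, 90, 113] [15, 29, 62, 79, 105, 109, 118] (by decide +kernel) (C.pNil _ _))))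
    (C.loop_of_one (relLoop1 C) _ _)

theorem f10257 : C.T (v3 C) [18, 31, 50, 89, 107, 110, 119] (v4 C) [18, 36, 69, 70, 95, 109, 112] :=
  C.conv (f841 C) (f926 C) (f926 C) _ [136, 159, 165, 171] _ (by decide +kernel) (by decide +kernel) (by decide +kernel)

theorem f10258 : C.T (v4 C) [4, 44, 66, 88, 96, 109, 118] (v17 C) [21, 45, 61, 76, 106, 109, 125] :=
  C.conv (f5743 C) (f7641 C) (f7640 C) _ [142, 160, 165, 172, 177] _ (by decide +kernel) (by decide +kernel) (by decide +kernel)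

theorem f10259 : C.S (v3 C) [23, 32, 60, 77, 103, 109, 115] :=
  C.stMul (f353 C) (f9613 C) _ (by decide +kernel)

theorem f10260 : C.T (v3 C) [25, 28, 67, 80, 90, 110, 111] (v18 C) [24, 48, 50, 75, 98, 109, 112] :=
  C.conv (f7327 C) (f7806 C) (f10259 C) _ [127, 162, 176, 178] _ (by decide +kernel) (by decide +kernel) (by decide +kernel)

theorem f10261 : C.T (v18 C) [24, 48, 50, 75, 98, 109, 112] (v3 C) [25, 28, 67, 80, 90, 110, 111] :=
  C.flip (f10260 C)

theorem f10262 : C.T (v17 C) [6, 35, 66, 80, 91, 113] (v18 C) [21, 39, 57, 106] :=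
  C.closeT (p := (v3 C)) (pu := [18, 31, 50, 89, 107, 110, 119])
    (C.pT (f10257 C)
    (C.pH [8, 30, 65, 84, 94, 117] [4, 44, 66, 88, 96, 109, 118] (by decide +kernel)
    (C.pT (f10258 C)
    (C.pH [26, 38, 54, 89, 90, 113] [6, 35, 66, 80, 91, 113] (by decide +kernel) (C.pNil _ _)))))
    (C.pH [8, 30, 65, 84, 94, 117] [24, 48, 50, 75, 98, 109, 112] (by decide +kernel)
    (C.pT (f10261 C)
    (C.pH [26, 38, 54, 89, 90, 113] [18, 31, 50, 89, 107, 110, 119] (by decide +kernel) (C.pNil _ _))))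
    (C.loop_of_one (relLoop1 C) _ _)

theorem f10263 : C.T (v18 C) [21, 39, 57, 106] (v17 C) [6, 35, 66, 80, 91, 113] :=
  C.flip (f10262 C)

theorem f10264 : C.T (v3 C) [10, 34, 64, 99, 110, 118] (v4 C) [10, 40, 49, 79, 92, 109, 114] :=
  C.conv (f841 C) (f926 C) (f926 C) _ [134, 151, 166] _ (by decide +kernel) (by decide +kernel) (by decide +kernel)

theorem f10265 : C.T (v4 C) [15, 47, 67, 78, 94, 110, 124] (v15 C) [8, 45, 63, 74, 95, 110, 122] :=
  C.conv (f2662 C) (f2712 C) (f697 C) _ [128, 175, 178] _ (by decide +kernel) (by decide +kernel) (by decide +kernel)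

theorem f10266 : C.S (v3 C) [22, 48, 51, 106, 122] :=
  C.stMul (f331 C) (f9208 C) _ (by decide +kernel)

theorem f10267 : C.S (v3 C) [22, 31, 56, 81, 104, 113] :=
  C.stMul (f328 C) (f10266 C) _ (by decide +kernel)

theorem f10268 : C.T (v3 C) [18, 35, 82, 100, 122] (v18 C) [23, 47, 57, 87, 100, 120] :=
  C.conv (f6916 C) (f7402 C) (f10267 C) _ [138, 152, 166, 172] _ (by decide +kernel) (by decide +kernel) (by decide +kernel)

theorem f10269 : C.T (v18 C) [23, 47, 57, 87, 100, 120] (v3 C) [18, 35, 82, 100, 122] :=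
  C.flip (f10268 C)

theorem f10270 : C.T (v15 C) [11, 34, 49, 79, 103, 125] (v18 C) [20, 44, 63, 85, 103, 109, 125] :=
  C.closeT (p := (v3 C)) (pu := [10, 34, 64, 99, 110, 118])
    (C.pT (f10264 C)
    (C.pH [8, 30, 65, 84, 94, 117] [15, 47, 67, 78, 94, 110, 124] (by decide +kernel)
    (C.pT (f10265 C)
    (C.pH [26, 38, 54, 89, 90, 113] [11, 34, 49, 79, 103, 125] (by decide +kernel) (C.pNil _ _)))))
    (C.pH [8, 30, 65, 84, 94, 117] [23, 47, 57, 87, 100, 120] (by decide +kernel)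
    (C.pT (f10269 C)
    (C.pH [26, 38, 54, 89, 90, 113] [10, 34, 64, 99, 110, 118] (by decide +kernel) (C.pNil _ _))))
    (C.loop_of_one (relLoop1 C) _ _)

theorem f10271 : C.T (v18 C) [20, 44, 63, 85, 103, 109, 125] (v15 C) [11, 34, 49, 79, 103, 125] :=
  C.flip (f10270 C)

theorem f10272 : C.T (v3 C) [22, 37, 66, 72, 99, 109, 119] (v4 C) [22, 36, 66, 82, 94, 109, 115] :=
  C.conv (f841 C) (f926 C) (f926 C) _ [135, 155, 165, 174, 177] _ (by decide +kernel) (by decide +kernel) (by decide +kernel)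

theorem f10273 : C.S (v4 C) [10, 27, 56, 84, 93, 109, 113] :=
  C.stMul (f407 C) (f421 C) _ (by decide +kernel)

theorem f10274 : C.S (v4 C) [16, 32, 68, 79, 93, 110, 124] :=
  C.stMul (f407 C) (f10273 C) _ (by decide +kernel)

theorem f10275 : C.S (v4 C) [18, 46, 49, 75, 97, 110, 118] :=
  C.stMul (f407 C) (f407 C) _ (by decide +kernel)

theorem f10276 : C.T (v4 C) [6, 34, 52, 88, 91, 112] (v18 C) [23, 44, 59, 77, 100, 110, 116] :=
  C.conv (f8297 C) (f10274 C) (f10275 C) _ [147, 156, 168, 173, 177] _ (by decide +kernel) (by decide +kernel) (by decide +kernel)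

theorem f10277 : C.S (v3 C) [19, 30, 60, 72, 107, 110, 116] :=
  C.stMul (f331 C) (f335 C) _ (by decide +kernel)

theorem f10278 : C.S (v3 C) [19, 31, 52, 79, 98, 122] :=
  C.stMul (f328 C) (f10277 C) _ (by decide +kernel)

theorem f10279 : C.S (v3 C) [5, 41, 68, 78, 104, 110, 120] :=
  C.stMul (f353 C) (f10278 C) _ (by decide +kernel)

theorem f10280 : C.T (v3 C) [9, 38, 49, 77, 120] (v18 C) [15, 30, 55, 98, 110, 119] :=
  C.conv (f6916 C) (f7402 C) (f10279 C) _ [146, 162, 175, 177] _ (by decide +kernel) (by decide +kernel) (by decide +kernel)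

theorem f10281 : C.T (v18 C) [15, 30, 55, 98, 110, 119] (v3 C) [9, 38, 49, 77, 120] :=
  C.flip (f10280 C)

theorem f10282 : C.T (v18 C) [7, 35, 69, 76, 105, 116] (v18 C) [10, 42, 55, 94, 112] :=
  C.closeT (p := (v3 C)) (pu := [22, 37, 66, 72, 99, 109, 119])
    (C.pT (f10272 C)
    (C.pH [8, 30, 65, 84, 94, 117] [6, 34, 52, 88, 91, 112] (by decide +kernel)
    (C.pT (f10276 C)
    (C.pH [26, 38, 54, 89, 90, 113] [7, 35, 69, 76, 105, 116] (by decide +kernel) (C.pNil _ _)))))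
    (C.pH [8, 30, 65, 84, 94, 117] [15, 30, 55, 98, 110, 119] (by decide +kernel)
    (C.pT (f10281 C)
    (C.pH [26, 38, 54, 89, 90, 113] [22, 37, 66, 72, 99, 109, 119] (by decide +kernel) (C.pNil _ _))))
    (C.loop_of_one (relLoop1 C) _ _)

theorem f10283 : C.T (v18 C) [10, 42, 55, 94, 112] (v18 C) [7, 35, 69, 76, 105, 116] :=
  C.flip (f10282 C)

theorem f10284 : C.T (v3 C) [43, 49, 71, 108, 110, 117] (v5 C) [6, 44, 52, 87, 104, 109, 124] :=
  C.conv (f1048 C) (f1093 C) (f1093 C) _ [141, 154, 169, 175, 177] _ (by decide +kernel) (by decide +kernel) (by decide +kernel)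

theorem f10285 : C.S (v5 C) [7, 29, 66, 74, 106, 124] :=
  C.stMul (f1141 C) (f986 C) _ (by decide +kernel)

theorem f10286 : C.S (v5 C) [7, 35, 57, 86, 101, 110, 119] :=
  C.stMul (f1008 C) (f10285 C) _ (by decide +kernel)

theorem f10287 : C.S (v5 C) [9, 39, 54, 78, 101, 110, 118] :=
  C.stMul (f1141 C) (f10286 C) _ (by decide +kernel)

theorem f10288 : C.T (v5 C) [13, 29, 57, 81, 90, 109, 113] (v18 C) [4, 30, 60, 74, 105, 121] :=
  C.conv (f8652 C) (f8670 C) (f10287 C) _ [129, 149, 170, 174] _ (by decide +kernel) (by decide +kernel) (by decide +kernel)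

theorem f10289 : C.S (v3 C) [16, 36, 62, 79, 96, 109, 125] :=
  C.stMul (f353 C) (f8134 C) _ (by decide +kernel)

theorem f10290 : C.S (v3 C) [25, 39, 51, 72, 98, 110, 117] :=
  C.stMul (f331 C) (f10289 C) _ (by decide +kernel)

theorem f10291 : C.T (v3 C) [7, 28, 60, 71, 113] (v18 C) [22, 28, 49, 73, 90, 119] :=
  C.conv (f7327 C) (f7806 C) (f10290 C) _ [128, 162, 164, 174] _ (by decide +kernel) (by decide +kernel) (by decide +kernel)

theorem f10292 : C.T (v18 C) [22, 28, 49, 73, 90, 119] (v3 C) [7, 28, 60, 71, 113] :=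
  C.flip (f10291 C)

theorem f10293 : C.T (v18 C) [25, 42, 56, 79, 104, 113] (v18 C) [17, 27, 56, 76, 98, 109, 115] :=
  C.closeT (p := (v3 C)) (pu := [43, 49, 71, 108, 110, 117])
    (C.pT (f10284 C)
    (C.pH [8, 30, 65, 84, 94, 117] [13, 29, 57, 81, 90, 109, 113] (by decide +kernel)
    (C.pT (f10288 C)
    (C.pH [26, 38, 54, 89, 90, 113] [25, 42, 56, 79, 104, 113] (by decide +kernel) (C.pNil _ _)))))
    (C.pH [8, 30, 65, 84, 94, 117] [22, 28, 49, 73, 90, 119] (by decide +kernel)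
    (C.pT (f10292 C)
    (C.pH [26, 38, 54, 89, 90, 113] [43, 49, 71, 108, 110, 117] (by decide +kernel) (C.pNil _ _))))
    (C.loop_of_one (relLoop1 C) _ _)

theorem f10296 : C.T (v3 C) [9, 43, 60, 85, 90, 109, 120] (v5 C) [5, 30, 67, 84, 101, 121] :=
  C.conv (f1048 C) (f1093 C) (f1093 C) _ [133, 156, 168, 171] _ (by decide +kernel) (by decide +kernel) (by decide +kernel)

theorem f10297 : C.S (v5 C) [20, 30, 59, 71, 105, 121] :=
  C.stMul (f1008 C) (f1023 C) _ (by decide +kernel)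

theorem f10298 : C.S (v5 C) [10, 36, 50, 70, 106, 110, 123] :=
  C.stMul (f1023 C) (f10297 C) _ (by decide +kernel)

theorem f10299 : C.S (v5 C) [7, 29, 66, 74, 106, 124] :=
  C.stMul (f1141 C) (f986 C) _ (by decide +kernel)

theorem f10300 : C.S (v5 C) [24, 39, 60, 76, 105, 109, 124] :=
  C.stMul (f1023 C) (f10299 C) _ (by decide +kernel)

theorem f10301 : C.S (v5 C) [11, 40, 57, 81, 102, 125] :=
  C.stMul (f986 C) (f10300 C) _ (by decide +kernel)

theorem f10302 : C.T (v5 C) [12, 31, 50, 86, 105, 121] (v18 C) [4, 36, 51, 77, 107, 109, 125] :=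
  C.conv (f9050 C) (f10298 C) (f10301 C) _ [145, 151, 169, 175, 177] _ (by decide +kernel) (by decide +kernel) (by decide +kernel)

theorem f10303 : C.S (v3 C) [15, 40, 50, 78, 92, 118] :=
  C.stMul (f328 C) (f9498 C) _ (by decide +kernel)

theorem f10304 : C.S (v3 C) [16, 39, 64, 74, 93, 112] :=
  C.stMul (f335 C) (f10303 C) _ (by decide +kernel)

theorem f10305 : C.S (v3 C) [25, 29, 76, 106, 113] :=
  C.stMul (f331 C) (f10304 C) _ (by decide +kernel)

theorem f10306 : C.T (v3 C) [15, 48, 52, 71, 100, 117] (v15 C) [19, 28, 60, 74, 95, 123] :=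
  C.conv (f3166 C) (f3236 C) (f10305 C) _ [135, 157, 170, 175, 177] _ (by decide +kernel) (by decide +kernel) (by decide +kernel)

theorem f10307 : C.T (v15 C) [19, 28, 60, 74, 95, 123] (v3 C) [15, 48, 52, 71, 100, 117] :=
  C.flip (f10306 C)

theorem f10308 : C.T (v18 C) [25, 34, 62, 78, 105, 113] (v15 C) [15, 29, 68, 83, 93, 110, 122] :=
  C.closeT (p := (v3 C)) (pu := [9, 43, 60, 85, 90, 109, 120])
    (C.pT (f10296 C)
    (C.pH [8, 30, 65, 84, 94, 117] [12, 31, 50, 86, 105, 121] (by decide +kernel)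
    (C.pT (f10302 C)
    (C.pH [26, 38, 54, 89, 90, 113] [25, 34, 62, 78, 105, 113] (by decide +kernel) (C.pNil _ _)))))
    (C.pH [8, 30, 65, 84, 94, 117] [19, 28, 60, 74, 95, 123] (by decide +kernel)
    (C.pT (f10307 C)
    (C.pH [26, 38, 54, 89, 90, 113] [9, 43, 60, 85, 90, 109, 120] (by decide +kernel) (C.pNil _ _))))
    (C.loop_of_one (relLoop1 C) _ _)

theorem f10309 : C.T (v15 C) [15, 29, 68, 83, 93, 110, 122] (v18 C) [25, 34, 62, 78, 105, 113] :=
  C.flip (f10308 C)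

theorem f10310 : C.T (v3 C) [4, 27, 49, 72, 104, 110, 111] (v5 C) [7, 48, 60, 75, 103, 109, 111] :=
  C.conv (f1048 C) (f1093 C) (f1093 C) _ [148, 158, 169, 174] _ (by decide +kernel) (by decide +kernel) (by decide +kernel)

theorem f10311 : C.S (v5 C) [9, 47, 59, 85, 92, 123] :=
  C.stMul (f1008 C) (f986 C) _ (by decide +kernel)

theorem f10312 : C.S (v5 C) [13, 51, 87, 106, 110, 118] :=
  C.stMul (f1023 C) (f10311 C) _ (by decide +kernel)

theorem f10313 : C.S (v5 C) [13, 46, 69, 70, 106, 110, 115] :=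
  C.stMul (f1008 C) (f10312 C) _ (by decide +kernel)

theorem f10314 : C.S (v5 C) [24, 43, 75, 99, 116] :=
  C.stMul (f1141 C) (f10313 C) _ (by decide +kernel)

theorem f10315 : C.S (v5 C) [20, 35, 58, 88, 120] :=
  C.stMul (f1023 C) (f1008 C) _ (by decide +kernel)

theorem f10316 : C.S (v5 C) [13, 30, 62, 74, 92, 120] :=
  C.stMul (f986 C) (f10315 C) _ (by decide +kernel)

theorem f10317 : C.T (v5 C) [17, 45, 64, 103, 110, 114] (v18 C) [9, 35, 96, 116] :=
  C.conv (f8600 C) (f10314 C) (f10316 C) _ [146, 155, 169, 174, 177] _ (by decide +kernel) (by decide +kernel) (by decide +kernel)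

theorem f10318 : C.S (v3 C) [23, 32, 60, 77, 103, 109, 115] :=
  C.stMul (f353 C) (f9706 C) _ (by decide +kernel)

theorem f10319 : C.T (v3 C) [6, 42, 56, 76, 96, 109, 115] (v18 C) [23, 35, 58, 80, 94, 110] :=
  C.conv (f9221 C) (f9279 C) (f10318 C) _ [130, 153, 165, 175, 177] _ (by decide +kernel) (by decide +kernel) (by decide +kernel)

theorem f10320 : C.T (v18 C) [23, 35, 58, 80, 94, 110] (v3 C) [6, 42, 56, 76, 96, 109, 115] :=
  C.flip (f10319 C)

theorem f10321 : C.T (v18 C) [22, 46, 56, 85, 103, 109, 119] (v18 C) [20, 41, 53, 88, 103, 110] :=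
  C.closeT (p := (v3 C)) (pu := [4, 27, 49, 72, 104, 110, 111])
    (C.pT (f10310 C)
    (C.pH [8, 30, 65, 84, 94, 117] [17, 45, 64, 103, 110, 114] (by decide +kernel)
    (C.pT (f10317 C)
    (C.pH [26, 38, 54, 89, 90, 113] [22, 46, 56, 85, 103, 109, 119] (by decide +kernel) (C.pNil _ _)))))
    (C.pH [8, 30, 65, 84, 94, 117] [23, 35, 58, 80, 94, 110] (by decide +kernel)
    (C.pT (f10320 C)
    (C.pH [26, 38, 54, 89, 90, 113] [4, 27, 49, 72, 104, 110, 111] (by decide +kernel) (C.pNil _ _))))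
    (C.loop_of_one (relLoop1 C) _ _)

theorem f10322 : C.T (v18 C) [20, 41, 53, 88, 103, 110] (v18 C) [22, 46, 56, 85, 103, 109, 119] :=
  C.flip (f10321 C)

theorem f10323 : C.T (v3 C) [18, 46, 54, 77, 108, 110, 124] (v5 C) [10, 39, 52, 79, 101, 112] :=
  C.conv (f1048 C) (f1093 C) (f1093 C) _ [148, 154, 168, 174, 177] _ (by decide +kernel) (by decide +kernel) (by decide +kernel)

theorem f10324 : C.S (v5 C) [41, 51, 86, 105, 123] :=
  C.stMul (f1141 C) (f1008 C) _ (by decide +kernel)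

theorem f10325 : C.S (v5 C) [9, 47, 59, 84, 108, 109, 120] :=
  C.stMul (f986 C) (f10324 C) _ (by decide +kernel)

theorem f10326 : C.S (v5 C) [9, 29, 68, 76, 107, 109, 113] :=
  C.stMul (f1008 C) (f10325 C) _ (by decide +kernel)

theorem f10327 : C.T (v5 C) [15, 42, 62, 82, 109, 117] (v18 C) [16, 38, 62, 72, 107, 119] :=
  C.conv (f8600 C) (f10314 C) (f10326 C) _ [130, 152, 165] _ (by decide +kernel) (by decide +kernel) (by decide +kernel)

theorem f10328 : C.S (v3 C) [26, 34, 52, 84, 93, 110, 125] :=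
  C.stMul (f331 C) (f9248 C) _ (by decide +kernel)

theorem f10329 : C.T (v3 C) [25, 32, 57, 79, 91, 124] (v18 C) [19, 46, 54, 87, 95, 110, 124] :=
  C.conv (f9184 C) (f9232 C) (f10328 C) _ [130, 154, 167, 171, 177] _ (by decide +kernel) (by decide +kernel) (by decide +kernel)

theorem f10330 : C.T (v18 C) [19, 46, 54, 87, 95, 110, 124] (v3 C) [25, 32, 57, 79, 91, 124] :=
  C.flip (f10329 C)

theorem f10331 : C.T (v18 C) [13, 34, 68, 77, 90] (v18 C) [15, 40, 58, 87, 103, 109, 125] :=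
  C.closeT (p := (v3 C)) (pu := [18, 46, 54, 77, 108, 110, 124])
    (C.pT (f10323 C)
    (C.pH [8, 30, 65, 84, 94, 117] [15, 42, 62, 82, 109, 117] (by decide +kernel)
    (C.pT (f10327 C)
    (C.pH [26, 38, 54, 89, 90, 113] [13, 34, 68, 77, 90] (by decide +kernel) (C.pNil _ _)))))
    (C.pH [8, 30, 65, 84, 94, 117] [19, 46, 54, 87, 95, 110, 124] (by decide +kernel)
    (C.pT (f10330 C)
    (C.pH [26, 38, 54, 89, 90, 113] [18, 46, 54, 77, 108, 110, 124] (by decide +kernel) (C.pNil _ _))))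
    (C.loop_of_one (relLoop1 C) _ _)

theorem f10332 : C.T (v18 C) [15, 40, 58, 87, 103, 109, 125] (v18 C) [13, 34, 68, 77, 90] :=
  C.flip (f10331 C)

theorem f10333 : C.T (v3 C) [5, 28, 52, 89, 97, 109, 112] (v5 C) [10, 43, 50, 88, 97, 109, 111] :=
  C.conv (f1048 C) (f1093 C) (f1093 C) _ [145, 167, 172, 177] _ (by decide +kernel) (by decide +kernel) (by decide +kernel)

theorem f10334 : C.S (v5 C) [13, 40, 57, 80, 101, 109, 113] :=
  C.stMul (f1008 C) (f7672 C) _ (by decide +kernel)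

theorem f10335 : C.S (v5 C) [7, 37, 54, 76, 108, 117] :=
  C.stMul (f1023 C) (f10334 C) _ (by decide +kernel)

theorem f10336 : C.T (v5 C) [15, 28, 66, 94, 116] (v18 C) [5, 46, 64, 76, 99, 125] :=
  C.conv (f6953 C) (f7672 C) (f10335 C) _ [131, 163, 169] _ (by decide +kernel) (by decide +kernel) (by decide +kernel)

theorem f10337 : C.T (v3 C) [14, 48, 60, 80, 102, 109, 115] (v18 C) [13, 35, 57, 74, 95, 109, 114] :=
  C.conv (f9184 C) (f9232 C) (f9529 C) _ [126, 155, 176, 177] _ (by decide +kernel) (by decide +kernel) (by decide +kernel)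

theorem f10338 : C.T (v18 C) [13, 35, 57, 74, 95, 109, 114] (v3 C) [14, 48, 60, 80, 102, 109, 115] :=
  C.flip (f10337 C)

theorem f10339 : C.T (v18 C) [8, 46, 55, 86, 101, 110, 116] (v18 C) [6, 31, 63, 83, 98, 110, 120] :=
  C.closeT (p := (v3 C)) (pu := [5, 28, 52, 89, 97, 109, 112])
    (C.pT (f10333 C)
    (C.pH [8, 30, 65, 84, 94, 117] [15, 28, 66, 94, 116] (by decide +kernel)
    (C.pT (f10336 C)
    (C.pH [26, 38, 54, 89, 90, 113] [8, 46, 55, 86, 101, 110, 116] (by decide +kernel) (C.pNil _ _)))))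
    (C.pH [8, 30, 65, 84, 94, 117] [13, 35, 57, 74, 95, 109, 114] (by decide +kernel)
    (C.pT (f10338 C)
    (C.pH [26, 38, 54, 89, 90, 113] [5, 28, 52, 89, 97, 109, 112] (by decide +kernel) (C.pNil _ _))))
    (C.loop_of_one (relLoop1 C) _ _)

theorem f10340 : C.T (v18 C) [6, 31, 63, 83, 98, 110, 120] (v18 C) [8, 46, 55, 86, 101, 110, 116] :=
  C.flip (f10339 C)

theorem f10341 : C.T (v3 C) [9, 42, 69, 84, 106, 110, 123] (v5 C) [26, 48, 59, 81, 91, 110, 122] :=
  C.conv (f1048 C) (f1093 C) (f1093 C) _ [134, 156, 164, 175] _ (by decide +kernel) (by decide +kernel) (by decide +kernel)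

theorem f10342 : C.S (v5 C) [43, 67, 71, 98, 119] :=
  C.stMul (f986 C) (f986 C) _ (by decide +kernel)

theorem f10343 : C.S (v5 C) [9, 68, 77, 104, 110, 122] :=
  C.stMul (f986 C) (f10342 C) _ (by decide +kernel)

theorem f10344 : C.S (v5 C) [7, 48, 49, 88, 106, 110, 120] :=
  C.stMul (f1141 C) (f10343 C) _ (by decide +kernel)

theorem f10345 : C.T (v5 C) [14, 38, 52, 88, 108, 110, 112] (v17 C) [17, 33, 61, 73, 105, 110, 120] :=
  C.conv (f5187 C) (f5193 C) (f10344 C) _ [128, 162, 165, 175] _ (by decide +kernel) (by decide +kernel) (by decide +kernel)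

theorem f10346 : C.S (v3 C) [19, 43, 49, 77, 108, 109, 113] :=
  C.stMul (f331 C) (f10149 C) _ (by decide +kernel)

theorem f10347 : C.T (v3 C) [15, 39, 64, 80, 92, 109] (v18 C) [17, 43, 65, 78, 108, 110, 118] :=
  C.conv (f8216 C) (f8435 C) (f10346 C) _ [148, 149, 165, 177] _ (by decide +kernel) (by decide +kernel) (by decide +kernel)

theorem f10348 : C.T (v18 C) [17, 43, 65, 78, 108, 110, 118] (v3 C) [15, 39, 64, 80, 92, 109] :=
  C.flip (f10347 C)

theorem f10349 : C.T (v17 C) [20, 46, 58, 86, 98, 109, 125] (v18 C) [7, 39, 66, 74, 107, 110, 123] :=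
  C.closeT (p := (v3 C)) (pu := [9, 42, 69, 84, 106, 110, 123])
    (C.pT (f10341 C)
    (C.pH [8, 30, 65, 84, 94, 117] [14, 38, 52, 88, 108, 110, 112] (by decide +kernel)
    (C.pT (f10345 C)
    (C.pH [26, 38, 54, 89, 90, 113] [20, 46, 58, 86, 98, 109, 125] (by decide +kernel) (C.pNil _ _)))))
    (C.pH [8, 30, 65, 84, 94, 117] [17, 43, 65, 78, 108, 110, 118] (by decide +kernel)
    (C.pT (f10348 C)
    (C.pH [26, 38, 54, 89, 90, 113] [9, 42, 69, 84, 106, 110, 123] (by decide +kernel) (C.pNil _ _))))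
    (C.loop_of_one (relLoop1 C) _ _)

theorem f10350 : C.T (v18 C) [7, 39, 66, 74, 107, 110, 123] (v17 C) [20, 46, 58, 86, 98, 109, 125] :=
  C.flip (f10349 C)

theorem f10351 : C.T (v3 C) [14, 39, 59, 85, 106, 110] (v5 C) [10, 31, 54, 84, 97, 110, 125] :=
  C.conv (f1048 C) (f1093 C) (f1093 C) _ [142, 149, 167, 176, 178] _ (by decide +kernel) (by decide +kernel) (by decide +kernel)

theorem f10352 : C.S (v5 C) [13, 35, 69, 89, 94, 109, 112] :=
  C.stMul (f1023 C) (f986 C) _ (by decide +kernel)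

theorem f10353 : C.S (v5 C) [7, 39, 54, 75, 91, 110, 122] :=
  C.stMul (f1023 C) (f10352 C) _ (by decide +kernel)

theorem f10354 : C.S (v5 C) [24, 29, 57, 76, 96, 114] :=
  C.stMul (f1023 C) (f10353 C) _ (by decide +kernel)

theorem f10355 : C.T (v5 C) [15, 37, 67, 70, 105, 110, 124] (v18 C) [19, 36, 51, 88, 98, 110, 115] :=
  C.conv (f7155 C) (f9162 C) (f10354 C) _ [135, 160, 165, 173, 177] _ (by decide +kernel) (by decide +kernel) (by decide +kernel)

theorem f10356 : C.S (v3 C) [7, 59, 76, 107, 120] :=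
  C.stMul (f328 C) (f3235 C) _ (by decide +kernel)

theorem f10357 : C.T (v3 C) [12, 29, 57, 75, 93, 110, 111] (v15 C) [14, 41, 62, 80, 91, 115] :=
  C.conv (f3166 C) (f3236 C) (f10356 C) _ [132, 155, 172] _ (by decide +kernel) (by decide +kernel) (by decide +kernel)

theorem f10358 : C.T (v15 C) [14, 41, 62, 80, 91, 115] (v3 C) [12, 29, 57, 75, 93, 110, 111] :=
  C.flip (f10357 C)

theorem f10359 : C.T (v18 C) [17, 41, 61, 82, 106, 113] (v15 C) [26, 36, 51, 82, 91, 122] :=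
  C.closeT (p := (v3 C)) (pu := [14, 39, 59, 85, 106, 110])
    (C.pT (f10351 C)
    (C.pH [8, 30, 65, 84, 94, 117] [15, 37, 67, 70, 105, 110, 124] (by decide +kernel)
    (C.pT (f10355 C)
    (C.pH [26, 38, 54, 89, 90, 113] [17, 41, 61, 82, 106, 113] (by decide +kernel) (C.pNil _ _)))))
    (C.pH [8, 30, 65, 84, 94, 117] [14, 41, 62, 80, 91, 115] (by decide +kernel)
    (C.pT (f10358 C)
    (C.pH [26, 38, 54, 89, 90, 113] [14, 39, 59, 85, 106, 110] (by decide +kernel) (C.pNil _ _))))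
    (C.loop_of_one (relLoop1 C) _ _)

theorem f10360 : C.T (v15 C) [26, 36, 51, 82, 91, 122] (v18 C) [17, 41, 61, 82, 106, 113] :=
  C.flip (f10359 C)

theorem f10361 : C.T (v3 C) [18, 28, 54, 76, 96, 123] (v15 C) [15, 44, 62, 73, 98] :=
  C.conv (f2902 C) (f2981 C) (f2981 C) _ [138, 161, 164, 175, 178] _ (by decide +kernel) (by decide +kernel) (by decide +kernel)

theorem f10362 : C.S (v3 C) [13, 45, 62, 78, 97, 110, 120] :=
  C.stMul (f328 C) (f10136 C) _ (by decide +kernel)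

theorem f10363 : C.S (v3 C) [43, 67, 71, 98, 119] :=
  C.stMul (f335 C) (f10362 C) _ (by decide +kernel)

theorem f10364 : C.T (v3 C) [25, 29, 65, 70, 96, 110, 122] (v17 C) [13, 40, 54, 87, 102, 110, 114] :=
  C.conv (f6808 C) (f9290 C) (f10363 C) _ [129, 171, 178] _ (by decide +kernel) (by decide +kernel) (by decide +kernel)

theorem f10365 : C.T (v17 C) [13, 40, 54, 87, 102, 110, 114] (v3 C) [25, 29, 65, 70, 96, 110, 122] :=
  C.flip (f10364 C)

theorem f10366 : C.S (v17 C) [23, 31, 49, 84, 96, 117] :=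
  C.stMul (f4137 C) (f4137 C) _ (by decide +kernel)

theorem f10367 : C.T (v17 C) [6, 42, 63, 95, 122] (v18 C) [10, 40, 67, 87, 98, 109, 122] :=
  C.conv (f7511 C) (f10366 C) (f10366 C) _ [126, 159, 167, 171, 177] _ (by decide +kernel) (by decide +kernel) (by decide +kernel)

theorem f10368 : C.T (v18 C) [10, 40, 67, 87, 98, 109, 122] (v17 C) [6, 42, 63, 95, 122] :=
  C.flip (f10367 C)

theorem f10369 : C.T (v15 C) [19, 29, 64, 88, 111] (v18 C) [18, 46, 60, 75, 121] :=
  C.closeT (p := (v3 C)) (pu := [18, 28, 54, 76, 96, 123])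
    (C.pT (f10361 C)
    (C.pH [8, 30, 65, 84, 94, 117] [19, 29, 64, 88, 111] (by decide +kernel) (C.pNil _ _)))
    (C.pH [26, 38, 54, 89, 90, 113] [10, 40, 67, 87, 98, 109, 122] (by decide +kernel)
    (C.pT (f10368 C)
    (C.pH [8, 30, 65, 84, 94, 117] [13, 40, 54, 87, 102, 110, 114] (by decide +kernel)
    (C.pT (f10365 C)
    (C.pH [26, 38, 54, 89, 90, 113] [18, 28, 54, 76, 96, 123] (by decide +kernel) (C.pNil _ _))))))
    (C.loop_of_one (relLoop1 C) _ _)

theorem f10370 : C.T (v18 C) [18, 46, 60, 75, 121] (v15 C) [19, 29, 64, 88, 111] :=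
  C.flip (f10369 C)

theorem f10371 : C.T (v3 C) [9, 56, 79, 104, 110, 121] (v15 C) [7, 30, 53, 71, 98, 111] :=
  C.conv (f2902 C) (f2981 C) (f2981 C) _ [140, 153, 164, 176, 178] _ (by decide +kernel) (by decide +kernel) (by decide +kernel)

theorem f10372 : C.S (v15 C) [25, 47, 66, 86, 107, 124] :=
  C.stMul (f2569 C) (f2565 C) _ (by decide +kernel)

theorem f10373 : C.S (v15 C) [24, 44, 51, 82, 106, 110, 112] :=
  C.stMul (f2565 C) (f10372 C) _ (by decide +kernel)

theorem f10374 : C.S (v15 C) [24, 34, 69, 71, 96, 109] :=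
  C.stMul (f2581 C) (f10373 C) _ (by decide +kernel)

theorem f10375 : C.S (v15 C) [20, 39, 55, 88, 95, 110, 125] :=
  C.stMul (f2581 C) (f2565 C) _ (by decide +kernel)

theorem f10376 : C.T (v15 C) [17, 40, 49, 100, 110, 125] (v18 C) [16, 39, 65, 85, 95, 110, 116] :=
  C.conv (f8567 C) (f10374 C) (f10375 C) _ [128, 155, 167, 171] _ (by decide +kernel) (by decide +kernel) (by decide +kernel)

theorem f10377 : C.S (v3 C) [7, 37, 53, 78, 98, 118] :=
  C.stMul (f353 C) (f335 C) _ (by decide +kernel)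

theorem f10378 : C.S (v3 C) [12, 31, 63, 83, 106, 121] :=
  C.stMul (f331 C) (f10377 C) _ (by decide +kernel)

theorem f10379 : C.S (v3 C) [12, 42, 52, 73, 92, 110, 120] :=
  C.stMul (f328 C) (f10378 C) _ (by decide +kernel)

theorem f10380 : C.T (v3 C) [15, 47, 62, 73, 92, 110] (v17 C) [4, 37, 56, 73, 97, 110] :=
  C.conv (f6828 C) (f9427 C) (f10379 C) _ [131, 154, 164, 172, 177] _ (by decide +kernel) (by decide +kernel) (by decide +kernel)

theorem f10381 : C.T (v17 C) [4, 37, 56, 73, 97, 110] (v3 C) [15, 47, 62, 73, 92, 110] :=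
  C.flip (f10380 C)

theorem f10382 : C.T (v18 C) [13, 32, 61, 78, 105, 121] (v17 C) [18, 46, 66, 91, 110, 122] :=
  C.closeT (p := (v3 C)) (pu := [9, 56, 79, 104, 110, 121])
    (C.pT (f10371 C)
    (C.pH [8, 30, 65, 84, 94, 117] [17, 40, 49, 100, 110, 125] (by decide +kernel)
    (C.pT (f10376 C)
    (C.pH [26, 38, 54, 89, 90, 113] [13, 32, 61, 78, 105, 121] (by decide +kernel) (C.pNil _ _)))))
    (C.pH [8, 30, 65, 84, 94, 117] [4, 37, 56, 73, 97, 110] (by decide +kernel)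
    (C.pT (f10381 C)
    (C.pH [26, 38, 54, 89, 90, 113] [9, 56, 79, 104, 110, 121] (by decide +kernel) (C.pNil _ _))))
    (C.loop_of_one (relLoop1 C) _ _)

theorem f10383 : C.T (v17 C) [18, 46, 66, 91, 110, 122] (v18 C) [13, 32, 61, 78, 105, 121] :=
  C.flip (f10382 C)

theorem f10384 : C.T (v3 C) [8, 28, 69, 89, 97, 109, 114] (v15 C) [23, 31, 56, 85, 109] :=
  C.conv (f2902 C) (f2981 C) (f2981 C) _ [144, 156, 169, 174, 178] _ (by decide +kernel) (by decide +kernel) (by decide +kernel)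

theorem f10385 : C.S (v3 C) [19, 31, 52, 79, 98, 122] :=
  C.stMul (f328 C) (f7360 C) _ (by decide +kernel)

theorem f10386 : C.T (v3 C) [5, 48, 56, 79, 101, 121] (v17 C) [20, 32, 69, 82, 99, 122] :=
  C.conv (f6814 C) (f7361 C) (f10385 C) _ [140, 150, 169, 175, 177] _ (by decide +kernel) (by decide +kernel) (by decide +kernel)

theorem f10387 : C.T (v17 C) [20, 32, 69, 82, 99, 122] (v3 C) [5, 48, 56, 79, 101, 121] :=
  C.flip (f10386 C)

theorem f10388 : C.S (v17 C) [23, 31, 75, 92, 109, 116] :=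
  C.stMul (f4137 C) (f4132 C) _ (by decide +kernel)

theorem f10389 : C.T (v17 C) [16, 41, 65, 83, 97, 109, 111] (v18 C) [23, 43, 58, 80, 92, 110, 116] :=
  C.conv (f8872 C) (f4132 C) (f10388 C) _ [147, 155, 169, 178] _ (by decide +kernel) (by decide +kernel) (by decide +kernel)

theorem f10390 : C.T (v18 C) [23, 43, 58, 80, 92, 110, 116] (v17 C) [16, 41, 65, 83, 97, 109, 111] :=
  C.flip (f10389 C)

theorem f10391 : C.T (v15 C) [10, 40, 69, 82, 95, 113] (v18 C) [13, 40, 61, 83, 94, 110, 120] :=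
  C.closeT (p := (v3 C)) (pu := [8, 28, 69, 89, 97, 109, 114])
    (C.pT (f10384 C)
    (C.pH [8, 30, 65, 84, 94, 117] [10, 40, 69, 82, 95, 113] (by decide +kernel) (C.pNil _ _)))
    (C.pH [26, 38, 54, 89, 90, 113] [23, 43, 58, 80, 92, 110, 116] (by decide +kernel)
    (C.pT (f10390 C)
    (C.pH [8, 30, 65, 84, 94, 117] [20, 32, 69, 82, 99, 122] (by decide +kernel)
    (C.pT (f10387 C)
    (C.pH [26, 38, 54, 89, 90, 113] [8, 28, 69, 89, 97, 109, 114] (by decide +kernel) (C.pNil _ _))))))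
    (C.loop_of_one (relLoop1 C) _ _)

theorem f10392 : C.T (v18 C) [13, 40, 61, 83, 94, 110, 120] (v15 C) [10, 40, 69, 82, 95, 113] :=
  C.flip (f10391 C)

theorem f10393 : C.T (v3 C) [5, 30, 61, 75, 98, 109, 121] (v15 C) [22, 46, 58, 75, 91, 111] :=
  C.conv (f2902 C) (f2981 C) (f2981 C) _ [161, 164, 173] _ (by decide +kernel) (by decide +kernel) (by decide +kernel)

theorem f10394 : C.S (v15 C) [24, 47, 64, 83, 99, 109, 111] :=
  C.stMul (f2581 C) (f2569 C) _ (by decide +kernel)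

theorem f10395 : C.T (v15 C) [6, 45, 60, 87, 104, 109, 125] (v15 C) [15, 37, 53, 102] :=
  C.conv (f3355 C) (f2581 C) (f10394 C) _ [132, 149, 170, 175] _ (by decide +kernel) (by decide +kernel) (by decide +kernel)

theorem f10396 : C.T (v3 C) [14, 45, 65, 81, 90, 113] (v18 C) [13, 29, 84, 100, 110, 123] :=
  C.conv (f6902 C) (f7285 C) (f7377 C) _ [145, 154, 167, 174] _ (by decide +kernel) (by decide +kernel) (by decide +kernel)

theorem f10397 : C.T (v18 C) [13, 29, 84, 100, 110, 123] (v3 C) [14, 45, 65, 81, 90, 113] :=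
  C.flip (f10396 C)

theorem f10398 : C.T (v15 C) [9, 41, 65, 84, 108, 110, 122] (v18 C) [6, 44, 59, 84, 98, 110, 117] :=
  C.closeT (p := (v3 C)) (pu := [5, 30, 61, 75, 98, 109, 121])
    (C.pT (f10393 C)
    (C.pH [8, 30, 65, 84, 94, 117] [6, 45, 60, 87, 104, 109, 125] (by decide +kernel)
    (C.pT (f10395 C)
    (C.pH [26, 38, 54, 89, 90, 113] [9, 41, 65, 84, 108, 110, 122] (by decide +kernel) (C.pNil _ _)))))
    (C.pH [8, 30, 65, 84, 94, 117] [13, 29, 84, 100, 110, 123] (by decide +kernel)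
    (C.pT (f10397 C)
    (C.pH [26, 38, 54, 89, 90, 113] [5, 30, 61, 75, 98, 109, 121] (by decide +kernel) (C.pNil _ _))))
    (C.loop_of_one (relLoop1 C) _ _)

theorem f10399 : C.T (v18 C) [6, 44, 59, 84, 98, 110, 117] (v15 C) [9, 41, 65, 84, 108, 110, 122] :=
  C.flip (f10398 C)

theorem f10400 : C.T (v3 C) [16, 38, 56, 76, 101, 110, 125] (v15 C) [7, 29, 56, 105, 109, 124] :=
  C.conv (f2902 C) (f2981 C) (f2981 C) _ [161, 170, 175] _ (by decide +kernel) (by decide +kernel) (by decide +kernel)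

theorem f10401 : C.S (v15 C) [25, 47, 66, 86, 107, 124] :=
  C.stMul (f2569 C) (f2565 C) _ (by decide +kernel)

theorem f10402 : C.S (v15 C) [24, 44, 51, 82, 106, 110, 112] :=
  C.stMul (f2565 C) (f10401 C) _ (by decide +kernel)

theorem f10403 : C.S (v15 C) [24, 34, 69, 71, 96, 109] :=
  C.stMul (f2581 C) (f10402 C) _ (by decide +kernel)

theorem f10404 : C.S (v15 C) [25, 46, 61, 102, 110, 119] :=
  C.stMul (f2565 C) (f2569 C) _ (by decide +kernel)

theorem f10405 : C.T (v15 C) [17, 42, 68, 70, 91, 109, 115] (v18 C) [16, 30, 54, 78, 99, 109, 114] :=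
  C.conv (f8787 C) (f10403 C) (f10404 C) _ [131, 153, 166, 171, 177] _ (by decide +kernel) (by decide +kernel) (by decide +kernel)

theorem f10406 : C.T (v3 C) [26, 35, 65, 71, 110, 125] (v18 C) [9, 35, 57, 85, 97, 109] :=
  C.conv (f6902 C) (f7285 C) (f9630 C) _ [144, 159, 168, 172, 178] _ (by decide +kernel) (by decide +kernel) (by decide +kernel)

theorem f10407 : C.T (v18 C) [9, 35, 57, 85, 97, 109] (v3 C) [26, 35, 65, 71, 110, 125] :=
  C.flip (f10406 C)

theorem f10408 : C.T (v18 C) [13, 41, 54, 79, 92, 110, 121] (v18 C) [25, 39, 63, 79, 95, 109, 111] :=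
  C.closeT (p := (v3 C)) (pu := [16, 38, 56, 76, 101, 110, 125])
    (C.pT (f10400 C)
    (C.pH [8, 30, 65, 84, 94, 117] [17, 42, 68, 70, 91, 109, 115] (by decide +kernel)
    (C.pT (f10405 C)
    (C.pH [26, 38, 54, 89, 90, 113] [13, 41, 54, 79, 92, 110, 121] (by decide +kernel) (C.pNil _ _)))))
    (C.pH [8, 30, 65, 84, 94, 117] [9, 35, 57, 85, 97, 109] (by decide +kernel)
    (C.pT (f10407 C)
    (C.pH [26, 38, 54, 89, 90, 113] [16, 38, 56, 76, 101, 110, 125] (by decide +kernel) (C.pNil _ _))))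
    (C.loop_of_one (relLoop1 C) _ _)

theorem f10412 : C.T (v3 C) [4, 46, 66, 85, 95, 110, 125] (v15 C) [12, 44, 68, 70, 101, 109, 111] :=
  C.conv (f2902 C) (f2981 C) (f2981 C) _ [145, 149, 164, 171] _ (by decide +kernel) (by decide +kernel) (by decide +kernel)

theorem f10413 : C.S (v15 C) [31, 53, 71, 96, 116] :=
  C.stMul (f2569 C) (f2569 C) _ (by decide +kernel)

theorem f10414 : C.T (v15 C) [21, 32, 64, 77, 98, 110, 115] (v10 C) [38, 52, 89, 104, 114] :=
  C.conv (f2782 C) (f10413 C) (f2569 C) _ [130, 154, 164, 171, 177] _ (by decide +kernel) (by decide +kernel) (by decide +kernel)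

theorem f10415 : C.S (v3 C) [15, 34, 56, 71, 106, 109, 117] :=
  C.stMul (f331 C) (f353 C) _ (by decide +kernel)

theorem f10416 : C.T (v3 C) [6, 34, 49, 75, 101, 109, 113] (v18 C) [23, 47, 55, 70, 119] :=
  C.conv (f6916 C) (f7402 C) (f10415 C) _ [136, 155, 170, 175] _ (by decide +kernel) (by decide +kernel) (by decide +kernel)

theorem f10417 : C.T (v18 C) [23, 47, 55, 70, 119] (v3 C) [6, 34, 49, 75, 101, 109, 113] :=
  C.flip (f10416 C)

theorem f10418 : C.T (v10 C) [26, 35, 57, 75, 108, 109, 115] (v18 C) [20, 44, 68, 98, 110, 114] :=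
  C.closeT (p := (v3 C)) (pu := [4, 46, 66, 85, 95, 110, 125])
    (C.pT (f10412 C)
    (C.pH [8, 30, 65, 84, 94, 117] [21, 32, 64, 77, 98, 110, 115] (by decide +kernel)
    (C.pT (f10414 C)
    (C.pH [26, 38, 54, 89, 90, 113] [26, 35, 57, 75, 108, 109, 115] (by decide +kernel) (C.pNil _ _)))))
    (C.pH [8, 30, 65, 84, 94, 117] [23, 47, 55, 70, 119] (by decide +kernel)
    (C.pT (f10417 C)
    (C.pH [26, 38, 54, 89, 90, 113] [4, 46, 66, 85, 95, 110, 125] (by decide +kernel) (C.pNil _ _))))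
    (C.loop_of_one (relLoop1 C) _ _)

theorem f10419 : C.T (v18 C) [20, 44, 68, 98, 110, 114] (v10 C) [26, 35, 57, 75, 108, 109, 115] :=
  C.flip (f10418 C)

theorem f10420 : C.T (v3 C) [19, 41, 50, 85, 93, 114] (v15 C) [24, 28, 82, 96, 116] :=
  C.conv (f2902 C) (f2981 C) (f2981 C) _ [135, 160, 169, 172, 177] _ (by decide +kernel) (by decide +kernel) (by decide +kernel)

theorem f10421 : C.T (v15 C) [16, 36, 51, 85, 91, 109, 122] (v17 C) [13, 36, 61, 88, 101, 110, 114] :=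
  C.conv (f4922 C) (f2565 C) (f2581 C) _ [145, 149, 167, 173, 177] _ (by decide +kernel) (by decide +kernel) (by decide +kernel)

theorem f10422 : C.T (v3 C) [22, 40, 49, 73, 90, 110, 124] (v18 C) [12, 27, 50, 80, 90, 119] :=
  C.conv (f6916 C) (f7402 C) (f7404 C) _ [147, 153, 168, 175, 177] _ (by decide +kernel) (by decide +kernel) (by decide +kernel)

theorem f10423 : C.T (v18 C) [12, 27, 50, 80, 90, 119] (v3 C) [22, 40, 49, 73, 90, 110, 124] :=
  C.flip (f10422 C)

theorem f10424 : C.T (v17 C) [23, 39, 49, 75, 105, 110, 111] (v18 C) [5, 45, 56, 87, 105, 111] :=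
  C.closeT (p := (v3 C)) (pu := [19, 41, 50, 85, 93, 114])
    (C.pT (f10420 C)
    (C.pH [8, 30, 65, 84, 94, 117] [16, 36, 51, 85, 91, 109, 122] (by decide +kernel)
    (C.pT (f10421 C)
    (C.pH [26, 38, 54, 89, 90, 113] [23, 39, 49, 75, 105, 110, 111] (by decide +kernel) (C.pNil _ _)))))
    (C.pH [8, 30, 65, 84, 94, 117] [12, 27, 50, 80, 90, 119] (by decide +kernel)
    (C.pT (f10423 C)
    (C.pH [26, 38, 54, 89, 90, 113] [19, 41, 50, 85, 93, 114] (by decide +kernel) (C.pNil _ _))))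
    (C.loop_of_one (relLoop1 C) _ _)

theorem f10425 : C.T (v18 C) [5, 45, 56, 87, 105, 111] (v17 C) [23, 39, 49, 75, 105, 110, 111] :=
  C.flip (f10424 C)

theorem f10426 : C.T (v3 C) [19, 44, 56, 92, 109, 122] (v15 C) [24, 44, 57, 70, 96, 110, 120] :=
  C.conv (f2902 C) (f2981 C) (f2981 C) _ [135, 162, 176, 177] _ (by decide +kernel) (by decide +kernel) (by decide +kernel)

theorem f10427 : C.S (v15 C) [20, 45, 65, 78, 96, 109, 125] :=
  C.stMul (f2565 C) (f2581 C) _ (by decide +kernel)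

theorem f10428 : C.S (v15 C) [25, 47, 66, 86, 107, 124] :=
  C.stMul (f2569 C) (f2565 C) _ (by decide +kernel)

theorem f10429 : C.S (v15 C) [24, 44, 51, 82, 106, 110, 112] :=
  C.stMul (f2565 C) (f10428 C) _ (by decide +kernel)

theorem f10430 : C.T (v15 C) [16, 28, 52, 84, 107, 114] (v18 C) [9, 36, 64, 92, 109, 123] :=
  C.conv (f10360 C) (f10427 C) (f10429 C) _ [144, 160, 169, 172, 178] _ (by decide +kernel) (by decide +kernel) (by decide +kernel)

theorem f10431 : C.S (v3 C) [23, 29, 57, 87, 91, 110, 120] :=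
  C.stMul (f331 C) (f328 C) _ (by decide +kernel)

theorem f10432 : C.S (v3 C) [23, 35, 58, 78, 94, 110, 123] :=
  C.stMul (f328 C) (f10431 C) _ (by decide +kernel)

theorem f10433 : C.T (v3 C) [22, 38, 51, 88, 94, 114] (v18 C) [7, 46, 69, 80, 100, 110, 125] :=
  C.conv (f9432 C) (f9640 C) (f10432 C) _ [132, 168, 173, 178] _ (by decide +kernel) (by decide +kernel) (by decide +kernel)

theorem f10434 : C.T (v18 C) [7, 46, 69, 80, 100, 110, 125] (v3 C) [22, 38, 51, 88, 94, 114] :=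
  C.flip (f10433 C)

theorem f10435 : C.T (v18 C) [22, 38, 50, 84, 103, 109, 114] (v18 C) [11, 30, 51, 84, 104, 110, 118] :=
  C.closeT (p := (v3 C)) (pu := [19, 44, 56, 92, 109, 122])
    (C.pT (f10426 C)
    (C.pH [8, 30, 65, 84, 94, 117] [16, 28, 52, 84, 107, 114] (by decide +kernel)
    (C.pT (f10430 C)
    (C.pH [26, 38, 54, 89, 90, 113] [22, 38, 50, 84, 103, 109, 114] (by decide +kernel) (C.pNil _ _)))))
    (C.pH [8, 30, 65, 84, 94, 117] [7, 46, 69, 80, 100, 110, 125] (by decide +kernel)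
    (C.pT (f10434 C)
    (C.pH [26, 38, 54, 89, 90, 113] [19, 44, 56, 92, 109, 122] (by decide +kernel) (C.pNil _ _))))
    (C.loop_of_one (relLoop1 C) _ _)

theorem f10436 : C.T (v18 C) [11, 30, 51, 84, 104, 110, 118] (v18 C) [22, 38, 50, 84, 103, 109, 114] :=
  C.flip (f10435 C)

theorem f10437 : C.T (v3 C) [13, 34, 57, 83, 104, 118] (v15 C) [22, 43, 61, 83, 98, 110, 112] :=
  C.conv (f2902 C) (f2981 C) (f2981 C) _ [142, 160, 167, 178] _ (by decide +kernel) (by decide +kernel) (by decide +kernel)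

theorem f10438 : C.S (v15 C) [24, 47, 64, 83, 99, 109, 111] :=
  C.stMul (f2581 C) (f2569 C) _ (by decide +kernel)

theorem f10439 : C.S (v15 C) [25, 46, 61, 102, 110, 119] :=
  C.stMul (f2565 C) (f2569 C) _ (by decide +kernel)

theorem f10440 : C.T (v15 C) [6, 59, 74, 90, 113] (v17 C) [15, 29, 63, 73, 99] :=
  C.conv (f5627 C) (f10438 C) (f10439 C) _ [142, 157, 176] _ (by decide +kernel) (by decide +kernel) (by decide +kernel)

theorem f10441 : C.S (v3 C) [12, 28, 65, 85, 98, 110, 116] :=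
  C.stMul (f353 C) (f9389 C) _ (by decide +kernel)

theorem f10442 : C.S (v3 C) [11, 43, 53, 80, 104, 110] :=
  C.stMul (f331 C) (f10441 C) _ (by decide +kernel)

theorem f10443 : C.T (v3 C) [16, 38, 50, 79, 99, 111] (v18 C) [14, 33, 71, 92, 121] :=
  C.conv (f9184 C) (f9232 C) (f10442 C) _ [137, 150, 164, 176] _ (by decide +kernel) (by decide +kernel) (by decide +kernel)

theorem f10444 : C.T (v18 C) [14, 33, 71, 92, 121] (v3 C) [16, 38, 50, 79, 99, 111] :=
  C.flip (f10443 C)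

theorem f10445 : C.T (v17 C) [9, 37, 52, 78, 108, 109, 122] (v18 C) [26, 42, 65, 89, 95, 109, 124] :=
  C.closeT (p := (v3 C)) (pu := [13, 34, 57, 83, 104, 118])
    (C.pT (f10437 C)
    (C.pH [8, 30, 65, 84, 94, 117] [6, 59, 74, 90, 113] (by decide +kernel)
    (C.pT (f10440 C)
    (C.pH [26, 38, 54, 89, 90, 113] [9, 37, 52, 78, 108, 109, 122] (by decide +kernel) (C.pNil _ _)))))
    (C.pH [8, 30, 65, 84, 94, 117] [14, 33, 71, 92, 121] (by decide +kernel)
    (C.pT (f10444 C)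
    (C.pH [26, 38, 54, 89, 90, 113] [13, 34, 57, 83, 104, 118] (by decide +kernel) (C.pNil _ _))))
    (C.loop_of_one (relLoop1 C) _ _)

theorem f10446 : C.T (v18 C) [26, 42, 65, 89, 95, 109, 124] (v17 C) [9, 37, 52, 78, 108, 109, 122] :=
  C.flip (f10445 C)

theorem f10447 : C.T (v3 C) [14, 48, 65, 85, 107, 109, 112] (v15 C) [9, 40, 61, 77, 91, 109, 118] :=
  C.conv (f2902 C) (f2981 C) (f2981 C) _ [146, 153, 164, 175, 177] _ (by decide +kernel) (by decide +kernel) (by decide +kernel)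

theorem f10448 : C.S (v15 C) [20, 39, 55, 88, 95, 110, 125] :=
  C.stMul (f2581 C) (f2565 C) _ (by decide +kernel)

theorem f10449 : C.S (v15 C) [25, 46, 61, 102, 110, 119] :=
  C.stMul (f2565 C) (f2569 C) _ (by decide +kernel)

theorem f10450 : C.T (v15 C) [18, 42, 50, 72, 105, 110] (v18 C) [22, 44, 55, 72, 104, 116] :=
  C.conv (f8610 C) (f10448 C) (f10449 C) _ [142, 154, 175] _ (by decide +kernel) (by decide +kernel) (by decide +kernel)

theorem f10451 : C.T (v3 C) [12, 32, 54, 74, 103] (v17 C) [20, 34, 70, 99, 109, 121] :=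
  C.conv (f6269 C) (f7309 C) (f331 C) _ [132, 150, 166, 175, 177] _ (by decide +kernel) (by decide +kernel) (by decide +kernel)

theorem f10452 : C.T (v17 C) [20, 34, 70, 99, 109, 121] (v3 C) [12, 32, 54, 74, 103] :=
  C.flip (f10451 C)

theorem f10453 : C.T (v18 C) [19, 34, 53, 75, 97, 110, 113] (v17 C) [16, 38, 49, 85, 92, 112] :=
  C.closeT (p := (v3 C)) (pu := [14, 48, 65, 85, 107, 109, 112])
    (C.pT (f10447 C)
    (C.pH [8, 30, 65, 84, 94, 117] [18, 42, 50, 72, 105, 110] (by decide +kernel)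
    (C.pT (f10450 C)
    (C.pH [26, 38, 54, 89, 90, 113] [19, 34, 53, 75, 97, 110, 113] (by decide +kernel) (C.pNil _ _)))))
    (C.pH [8, 30, 65, 84, 94, 117] [20, 34, 70, 99, 109, 121] (by decide +kernel)
    (C.pT (f10452 C)
    (C.pH [26, 38, 54, 89, 90, 113] [14, 48, 65, 85, 107, 109, 112] (by decide +kernel) (C.pNil _ _))))
    (C.loop_of_one (relLoop1 C) _ _)

theorem f10454 : C.T (v17 C) [16, 38, 49, 85, 92, 112] (v18 C) [19, 34, 53, 75, 97, 110, 113] :=
  C.flip (f10453 C)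

theorem f10455 : C.T (v3 C) [25, 33, 55, 84, 107, 110, 124] (v15 C) [7, 48, 49, 70, 101, 109, 115] :=
  C.conv (f2902 C) (f2981 C) (f2981 C) _ [157, 168, 174] _ (by decide +kernel) (by decide +kernel) (by decide +kernel)

theorem f10456 : C.S (v15 C) [20, 39, 55, 88, 95, 110, 125] :=
  C.stMul (f2581 C) (f2565 C) _ (by decide +kernel)

theorem f10457 : C.S (v15 C) [34, 69, 79, 92, 114] :=
  C.stMul (f2565 C) (f10456 C) _ (by decide +kernel)

theorem f10458 : C.T (v15 C) [17, 45, 51, 74, 98, 112] (v18 C) [12, 35, 57, 70, 97, 109, 112] :=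
  C.conv (f8826 C) (f10457 C) (f2565 C) _ [126, 158, 165, 172] _ (by decide +kernel) (by decide +kernel) (by decide +kernel)

theorem f10459 : C.S (v3 C) [4, 35, 66, 84, 105, 109, 115] :=
  C.stMul (f335 C) (f331 C) _ (by decide +kernel)

theorem f10460 : C.S (v3 C) [12, 47, 57, 74, 97, 110] :=
  C.stMul (f335 C) (f10459 C) _ (by decide +kernel)

theorem f10461 : C.S (v3 C) [25, 41, 58, 92, 119] :=
  C.stMul (f335 C) (f10460 C) _ (by decide +kernel)

theorem f10462 : C.T (v3 C) [4, 40, 72, 102, 109, 112] (v17 C) [10, 39, 68, 79, 94, 110, 113] :=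
  C.conv (f6808 C) (f9290 C) (f10461 C) _ [130, 159, 165, 176] _ (by decide +kernel) (by decide +kernel) (by decide +kernel)

theorem f10463 : C.T (v17 C) [10, 39, 68, 79, 94, 110, 113] (v3 C) [4, 40, 72, 102, 109, 112] :=
  C.flip (f10462 C)

theorem f10464 : C.T (v18 C) [14, 33, 57, 77, 90, 109, 114] (v17 C) [23, 46, 51, 79, 102, 109, 121] :=
  C.closeT (p := (v3 C)) (pu := [25, 33, 55, 84, 107, 110, 124])
    (C.pT (f10455 C)
    (C.pH [8, 30, 65, 84, 94, 117] [17, 45, 51, 74, 98, 112] (by decide +kernel)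
    (C.pT (f10458 C)
    (C.pH [26, 38, 54, 89, 90, 113] [14, 33, 57, 77, 90, 109, 114] (by decide +kernel) (C.pNil _ _)))))
    (C.pH [8, 30, 65, 84, 94, 117] [10, 39, 68, 79, 94, 110, 113] (by decide +kernel)
    (C.pT (f10463 C)
    (C.pH [26, 38, 54, 89, 90, 113] [25, 33, 55, 84, 107, 110, 124] (by decide +kernel) (C.pNil _ _))))
    (C.loop_of_one (relLoop1 C) _ _)

theorem f10465 : C.T (v17 C) [23, 46, 51, 79, 102, 109, 121] (v18 C) [14, 33, 57, 77, 90, 109, 114] :=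
  C.flip (f10464 C)

theorem f10466 : C.T (v3 C) [5, 35, 51, 72, 109, 117] (v15 C) [18, 47, 52, 76, 106, 109, 122] :=
  C.conv (f2902 C) (f2981 C) (f2981 C) _ [134, 160, 169, 174] _ (by decide +kernel) (by decide +kernel) (by decide +kernel)

theorem f10467 : C.S (v3 C) [4, 35, 66, 84, 105, 109, 115] :=
  C.stMul (f335 C) (f331 C) _ (by decide +kernel)

theorem f10468 : C.S (v3 C) [12, 47, 57, 74, 97, 110] :=
  C.stMul (f335 C) (f10467 C) _ (by decide +kernel)

theorem f10469 : C.S (v3 C) [23, 32, 60, 77, 103, 109, 115] :=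
  C.stMul (f353 C) (f10468 C) _ (by decide +kernel)

theorem f10470 : C.T (v3 C) [14, 30, 49, 88, 96, 109, 125] (v18 C) [19, 45, 60, 73, 104, 111] :=
  C.conv (f6911 C) (f8231 C) (f10469 C) _ [149, 170, 171, 177] _ (by decide +kernel) (by decide +kernel) (by decide +kernel)

theorem f10471 : C.T (v18 C) [19, 45, 60, 73, 104, 111] (v3 C) [14, 30, 49, 88, 96, 109, 125] :=
  C.flip (f10470 C)

theorem f10472 : C.T (v18 C) [15, 41, 68, 86, 95, 118] (v18 C) [26, 46, 64, 78, 108, 109, 114] :=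
  C.conv (f7025 C) (f7121 C) (f7121 C) _ [144, 149, 173] _ (by decide +kernel) (by decide +kernel) (by decide +kernel)

theorem f10473 : C.T (v18 C) [26, 46, 64, 78, 108, 109, 114] (v18 C) [15, 41, 68, 86, 95, 118] :=
  C.flip (f10472 C)

theorem f10474 : C.T (v15 C) [4, 29, 62, 72, 92, 115] (v18 C) [47, 53, 82, 95, 109, 125] :=
  C.closeT (p := (v3 C)) (pu := [5, 35, 51, 72, 109, 117])
    (C.pT (f10466 C)
    (C.pH [8, 30, 65, 84, 94, 117] [4, 29, 62, 72, 92, 115] (by decide +kernel) (C.pNil _ _)))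
    (C.pH [26, 38, 54, 89, 90, 113] [26, 46, 64, 78, 108, 109, 114] (by decide +kernel)
    (C.pT (f10473 C)
    (C.pH [8, 30, 65, 84, 94, 117] [19, 45, 60, 73, 104, 111] (by decide +kernel)
    (C.pT (f10471 C)
    (C.pH [26, 38, 54, 89, 90, 113] [5, 35, 51, 72, 109, 117] (by decide +kernel) (C.pNil _ _))))))
    (C.loop_of_one (relLoop1 C) _ _)

theorem f10475 : C.T (v18 C) [47, 53, 82, 95, 109, 125] (v15 C) [4, 29, 62, 72, 92, 115] :=
  C.flip (f10474 C)

theorem f10476 : C.T (v3 C) [14, 28, 49, 82, 107, 109, 116] (v15 C) [16, 46, 69, 88, 94, 124] :=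
  C.conv (f3166 C) (f3236 C) (f3236 C) _ [128, 153, 168, 171, 178] _ (by decide +kernel) (by decide +kernel) (by decide +kernel)

theorem f10477 : C.T (v15 C) [20, 39, 54, 109, 124] (v15 C) [8, 42, 63, 73, 106, 110, 123] :=
  C.conv (f3096 C) (f3099 C) (f2652 C) _ [135, 149, 165, 177] _ (by decide +kernel) (by decide +kernel) (by decide +kernel)

theorem f10478 : C.S (v3 C) [6, 46, 54, 70, 103, 125] :=
  C.stMul (f335 C) (f8361 C) _ (by decide +kernel)

theorem f10479 : C.T (v3 C) [12, 48, 63, 101, 109, 124] (v18 C) [13, 33, 55, 74, 95, 109, 118] :=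
  C.conv (f8223 C) (f8361 C) (f10478 C) _ [138, 155, 166, 173, 178] _ (by decide +kernel) (by decide +kernel) (by decide +kernel)

theorem f10480 : C.T (v18 C) [13, 33, 55, 74, 95, 109, 118] (v3 C) [12, 48, 63, 101, 109, 124] :=
  C.flip (f10479 C)

theorem f10481 : C.T (v15 C) [11, 36, 54, 83, 110, 113] (v18 C) [6, 46, 65, 80, 96, 123] :=
  C.closeT (p := (v3 C)) (pu := [14, 28, 49, 82, 107, 109, 116])
    (C.pT (f10476 C)
    (C.pH [8, 30, 65, 84, 94, 117] [20, 39, 54, 109, 124] (by decide +kernel)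
    (C.pT (f10477 C)
    (C.pH [26, 38, 54, 89, 90, 113] [11, 36, 54, 83, 110, 113] (by decide +kernel) (C.pNil _ _)))))
    (C.pH [8, 30, 65, 84, 94, 117] [13, 33, 55, 74, 95, 109, 118] (by decide +kernel)
    (C.pT (f10480 C)
    (C.pH [26, 38, 54, 89, 90, 113] [14, 28, 49, 82, 107, 109, 116] (by decide +kernel) (C.pNil _ _))))
    (C.loop_of_one (relLoop1 C) _ _)

theorem f10482 : C.T (v18 C) [6, 46, 65, 80, 96, 123] (v15 C) [11, 36, 54, 83, 110, 113] :=
  C.flip (f10481 C)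

theorem f10483 : C.T (v3 C) [6, 41, 56, 84, 104, 109, 123] (v15 C) [21, 44, 50, 78, 110, 116] :=
  C.conv (f3166 C) (f3236 C) (f3236 C) _ [170, 171, 177] _ (by decide +kernel) (by decide +kernel) (by decide +kernel)

theorem f10484 : C.S (v15 C) [31, 53, 71, 96, 116] :=
  C.stMul (f2569 C) (f2569 C) _ (by decide +kernel)

theorem f10485 : C.T (v15 C) [24, 29, 52, 77, 108, 110, 113] (v18 C) [12, 43, 58, 86, 103, 112] :=
  C.conv (f8835 C) (f10484 C) (f2581 C) _ [139, 150, 167, 174] _ (by decide +kernel) (by decide +kernel) (by decide +kernel)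

theorem f10486 : C.T (v3 C) [21, 48, 64, 76, 106, 109] (v18 C) [18, 40, 52, 81, 106, 110, 125] :=
  C.conv (f6888 C) (f7333 C) (f9868 C) _ [133, 152, 167, 175] _ (by decide +kernel) (by decide +kernel) (by decide +kernel)

theorem f10487 : C.T (v18 C) [18, 40, 52, 81, 106, 110, 125] (v3 C) [21, 48, 64, 76, 106, 109] :=
  C.flip (f10486 C)

theorem f10488 : C.T (v18 C) [14, 37, 56, 74, 106, 110, 115] (v18 C) [9, 28, 52, 89, 100] :=
  C.closeT (p := (v3 C)) (pu := [6, 41, 56, 84, 104, 109, 123])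
    (C.pT (f10483 C)
    (C.pH [8, 30, 65, 84, 94, 117] [24, 29, 52, 77, 108, 110, 113] (by decide +kernel)
    (C.pT (f10485 C)
    (C.pH [26, 38, 54, 89, 90, 113] [14, 37, 56, 74, 106, 110, 115] (by decide +kernel) (C.pNil _ _)))))
    (C.pH [8, 30, 65, 84, 94, 117] [18, 40, 52, 81, 106, 110, 125] (by decide +kernel)
    (C.pT (f10487 C)
    (C.pH [26, 38, 54, 89, 90, 113] [6, 41, 56, 84, 104, 109, 123] (by decide +kernel) (C.pNil _ _))))
    (C.loop_of_one (relLoop1 C) _ _)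

theorem f10489 : C.T (v18 C) [9, 28, 52, 89, 100] (v18 C) [14, 37, 56, 74, 106, 110, 115] :=
  C.flip (f10488 C)

theorem f10490 : C.T (v3 C) [18, 36, 60, 80, 96, 109, 116] (v15 C) [11, 32, 56, 77, 98, 124] :=
  C.conv (f3166 C) (f3236 C) (f3236 C) _ [136, 154, 164, 172, 178] _ (by decide +kernel) (by decide +kernel) (by decide +kernel)

theorem f10491 : C.S (v15 C) [31, 53, 71, 96, 116] :=
  C.stMul (f2569 C) (f2569 C) _ (by decide +kernel)

theorem f10492 : C.T (v15 C) [7, 30, 66, 72, 101, 111] (v15 C) [4, 27, 69, 75, 96, 121] :=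
  C.conv (f3279 C) (f2569 C) (f10491 C) _ [128, 156, 174, 178] _ (by decide +kernel) (by decide +kernel) (by decide +kernel)

theorem f10493 : C.T (v3 C) [25, 37, 57, 89, 122] (v18 C) [16, 43, 64, 92, 114] :=
  C.conv (f6911 C) (f8231 C) (f8230 C) _ [147, 154, 170, 173, 178] _ (by decide +kernel) (by decide +kernel) (by decide +kernel)

theorem f10494 : C.T (v18 C) [16, 43, 64, 92, 114] (v3 C) [25, 37, 57, 89, 122] :=
  C.flip (f10493 C)

theorem f10495 : C.T (v15 C) [25, 49, 72, 94, 115] (v18 C) [24, 37, 64, 92, 114] :=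
  C.closeT (p := (v3 C)) (pu := [18, 36, 60, 80, 96, 109, 116])
    (C.pT (f10490 C)
    (C.pH [8, 30, 65, 84, 94, 117] [7, 30, 66, 72, 101, 111] (by decide +kernel)
    (C.pT (f10492 C)
    (C.pH [26, 38, 54, 89, 90, 113] [25, 49, 72, 94, 115] (by decide +kernel) (C.pNil _ _)))))
    (C.pH [8, 30, 65, 84, 94, 117] [16, 43, 64, 92, 114] (by decide +kernel)
    (C.pT (f10494 C)
    (C.pH [26, 38, 54, 89, 90, 113] [18, 36, 60, 80, 96, 109, 116] (by decide +kernel) (C.pNil _ _))))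
    (C.loop_of_one (relLoop1 C) _ _)

theorem f10496 : C.T (v18 C) [24, 37, 64, 92, 114] (v15 C) [25, 49, 72, 94, 115] :=
  C.flip (f10495 C)

theorem f10497 : C.T (v3 C) [6, 42, 56, 86, 94, 122] (v15 C) [10, 45, 62, 78, 90, 121] :=
  C.conv (f3166 C) (f3236 C) (f3236 C) _ [142, 157, 178] _ (by decide +kernel) (by decide +kernel) (by decide +kernel)

theorem f10498 : C.S (v3 C) [10, 48, 60, 84, 100, 110, 123] :=
  C.stMul (f353 C) (f9412 C) _ (by decide +kernel)

theorem f10499 : C.S (v3 C) [5, 60, 81, 94, 109, 125] :=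
  C.stMul (f331 C) (f10498 C) _ (by decide +kernel)

theorem f10500 : C.S (v3 C) [17, 28, 66, 83, 91, 110, 125] :=
  C.stMul (f335 C) (f10499 C) _ (by decide +kernel)

theorem f10501 : C.T (v3 C) [21, 33, 65, 84, 110, 122] (v18 C) [5, 43, 68, 83, 104, 109, 122] :=
  C.conv (f8216 C) (f8435 C) (f10500 C) _ [138, 160, 165, 171, 177] _ (by decide +kernel) (by decide +kernel) (by decide +kernel)

theorem f10502 : C.T (v18 C) [5, 43, 68, 83, 104, 109, 122] (v3 C) [21, 33, 65, 84, 110, 122] :=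
  C.flip (f10501 C)

theorem f10503 : C.S (v18 C) [26, 43, 49, 77, 91, 110, 115] :=
  C.stMul (f6836 C) (f6836 C) _ (by decide +kernel)

theorem f10504 : C.T (v18 C) [14, 44, 55, 85, 91, 116] (v18 C) [25, 29, 74, 108, 109, 112] :=
  C.conv (f7659 C) (f6836 C) (f10503 C) _ [134, 160, 167, 171, 178] _ (by decide +kernel) (by decide +kernel) (by decide +kernel)

theorem f10505 : C.T (v18 C) [25, 29, 74, 108, 109, 112] (v18 C) [14, 44, 55, 85, 91, 116] :=
  C.flip (f10504 C)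

theorem f10506 : C.T (v15 C) [15, 44, 56, 77, 91, 116] (v18 C) [4, 31, 53, 86, 100, 110, 125] :=
  C.closeT (p := (v3 C)) (pu := [6, 42, 56, 86, 94, 122])
    (C.pT (f10497 C)
    (C.pH [8, 30, 65, 84, 94, 117] [15, 44, 56, 77, 91, 116] (by decide +kernel) (C.pNil _ _)))
    (C.pH [26, 38, 54, 89, 90, 113] [25, 29, 74, 108, 109, 112] (by decide +kernel)
    (C.pT (f10505 C)
    (C.pH [8, 30, 65, 84, 94, 117] [5, 43, 68, 83, 104, 109, 122] (by decide +kernel)
    (C.pT (f10502 C)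
    (C.pH [26, 38, 54, 89, 90, 113] [6, 42, 56, 86, 94, 122] (by decide +kernel) (C.pNil _ _))))))
    (C.loop_of_one (relLoop1 C) _ _)

theorem f10507 : C.T (v18 C) [4, 31, 53, 86, 100, 110, 125] (v15 C) [15, 44, 56, 77, 91, 116] :=
  C.flip (f10506 C)

theorem f10508 : C.T (v3 C) [9, 30, 56, 77, 104, 109, 115] (v15 C) [25, 32, 63, 78, 99, 110, 122] :=
  C.conv (f3166 C) (f3236 C) (f3236 C) _ [145, 160, 167, 175, 178] _ (by decide +kernel) (by decide +kernel) (by decide +kernel)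

theorem f10509 : C.S (v15 C) [25, 46, 61, 102, 110, 119] :=
  C.stMul (f2565 C) (f2569 C) _ (by decide +kernel)

theorem f10510 : C.S (v15 C) [25, 39, 65, 80, 99, 110, 113] :=
  C.stMul (f2581 C) (f10509 C) _ (by decide +kernel)

theorem f10511 : C.S (v15 C) [25, 47, 66, 86, 107, 124] :=
  C.stMul (f2569 C) (f2565 C) _ (by decide +kernel)

theorem f10512 : C.T (v15 C) [9, 45, 75, 97, 117] (v16 C) [14, 41, 49, 82, 93, 109, 113] :=
  C.conv (f4064 C) (f10510 C) (f10511 C) _ [135, 157, 166, 175, 177] _ (by decide +kernel) (by decide +kernel) (by decide +kernel)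

theorem f10513 : C.S (v3 C) [20, 29, 56, 72, 109, 121] :=
  C.stMul (f335 C) (f8148 C) _ (by decide +kernel)

theorem f10514 : C.S (v3 C) [10, 47, 54, 88, 107, 109, 117] :=
  C.stMul (f335 C) (f10513 C) _ (by decide +kernel)

theorem f10515 : C.S (v3 C) [20, 31, 50, 86, 94, 110, 111] :=
  C.stMul (f353 C) (f10514 C) _ (by decide +kernel)

theorem f10516 : C.T (v3 C) [15, 28, 66, 73, 104, 109, 115] (v18 C) [26, 46, 68, 73, 99, 115] :=
  C.conv (f7327 C) (f7806 C) (f10515 C) _ [129, 177] _ (by decide +kernel) (by decide +kernel) (by decide +kernel)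

theorem f10517 : C.T (v18 C) [26, 46, 68, 73, 99, 115] (v3 C) [15, 28, 66, 73, 104, 109, 115] :=
  C.flip (f10516 C)

theorem f10518 : C.T (v16 C) [5, 40, 67, 76, 104, 113] (v18 C) [19, 41, 57, 88, 106, 110] :=
  C.closeT (p := (v3 C)) (pu := [9, 30, 56, 77, 104, 109, 115])
    (C.pT (f10508 C)
    (C.pH [8, 30, 65, 84, 94, 117] [9, 45, 75, 97, 117] (by decide +kernel)
    (C.pT (f10512 C)
    (C.pH [26, 38, 54, 89, 90, 113] [5, 40, 67, 76, 104, 113] (by decide +kernel) (C.pNil _ _)))))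
    (C.pH [8, 30, 65, 84, 94, 117] [26, 46, 68, 73, 99, 115] (by decide +kernel)
    (C.pT (f10517 C)
    (C.pH [26, 38, 54, 89, 90, 113] [9, 30, 56, 77, 104, 109, 115] (by decide +kernel) (C.pNil _ _))))
    (C.loop_of_one (relLoop1 C) _ _)

theorem f10519 : C.T (v18 C) [19, 41, 57, 88, 106, 110] (v16 C) [5, 40, 67, 76, 104, 113] :=
  C.flip (f10518 C)

theorem f10520 : C.T (v3 C) [4, 33, 68, 78, 90, 114] (v15 C) [24, 34, 60, 89, 91, 118] :=
  C.conv (f3166 C) (f3236 C) (f3236 C) _ [138, 154, 164, 173, 178] _ (by decide +kernel) (by decide +kernel) (by decide +kernel)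

theorem f10521 : C.S (v15 C) [25, 47, 66, 86, 107, 124] :=
  C.stMul (f2569 C) (f2565 C) _ (by decide +kernel)

theorem f10522 : C.S (v15 C) [24, 44, 51, 82, 106, 110, 112] :=
  C.stMul (f2565 C) (f10521 C) _ (by decide +kernel)

theorem f10523 : C.S (v15 C) [24, 34, 69, 71, 96, 109] :=
  C.stMul (f2581 C) (f10522 C) _ (by decide +kernel)

theorem f10524 : C.T (v15 C) [16, 37, 52, 83, 90, 123] (v18 C) [7, 43, 61, 89, 97, 112] :=
  C.conv (f8748 C) (f10523 C) (f2581 C) _ [135, 168, 174] _ (by decide +kernel) (by decide +kernel) (by decide +kernel)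

theorem f10525 : C.S (v3 C) [5, 60, 81, 94, 109, 125] :=
  C.stMul (f331 C) (f8375 C) _ (by decide +kernel)

theorem f10526 : C.S (v3 C) [17, 28, 66, 83, 91, 110, 125] :=
  C.stMul (f335 C) (f10525 C) _ (by decide +kernel)

theorem f10527 : C.T (v3 C) [6, 48, 63, 80, 93, 110, 123] (v18 C) [37, 60, 71, 100, 117] :=
  C.conv (f7327 C) (f7806 C) (f10526 C) _ [136, 163, 169, 176, 178] _ (by decide +kernel) (by decide +kernel) (by decide +kernel)

theorem f10528 : C.T (v18 C) [37, 60, 71, 100, 117] (v3 C) [6, 48, 63, 80, 93, 110, 123] :=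
  C.flip (f10527 C)

theorem f10529 : C.T (v18 C) [27, 69, 71, 99, 109, 112] (v18 C) [8, 27, 58, 73, 101, 110, 114] :=
  C.closeT (p := (v3 C)) (pu := [4, 33, 68, 78, 90, 114])
    (C.pT (f10520 C)
    (C.pH [8, 30, 65, 84, 94, 117] [16, 37, 52, 83, 90, 123] (by decide +kernel)
    (C.pT (f10524 C)
    (C.pH [26, 38, 54, 89, 90, 113] [27, 69, 71, 99, 109, 112] (by decide +kernel) (C.pNil _ _)))))
    (C.pH [8, 30, 65, 84, 94, 117] [37, 60, 71, 100, 117] (by decide +kernel)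
    (C.pT (f10528 C)
    (C.pH [26, 38, 54, 89, 90, 113] [4, 33, 68, 78, 90, 114] (by decide +kernel) (C.pNil _ _))))
    (C.loop_of_one (relLoop1 C) _ _)

theorem f10530 : C.T (v18 C) [8, 27, 58, 73, 101, 110, 114] (v18 C) [27, 69, 71, 99, 109, 112] :=
  C.flip (f10529 C)

theorem f10531 : C.T (v3 C) [23, 41, 57, 86, 106, 109, 119] (v15 C) [12, 42, 65, 72, 102, 109, 124] :=
  C.conv (f3166 C) (f3236 C) (f3236 C) _ [143, 152, 169, 171, 178] _ (by decide +kernel) (by decide +kernel) (by decide +kernel)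

theorem f10532 : C.S (v15 C) [25, 47, 66, 86, 107, 124] :=
  C.stMul (f2569 C) (f2565 C) _ (by decide +kernel)

theorem f10533 : C.S (v15 C) [20, 63, 89, 93, 110, 115] :=
  C.stMul (f2569 C) (f10532 C) _ (by decide +kernel)

theorem f10534 : C.T (v15 C) [21, 30, 58, 84, 109, 111] (v18 C) [21, 40, 57, 71, 94, 111] :=
  C.conv (f9213 C) (f2565 C) (f10533 C) _ [138, 153, 169, 172, 178] _ (by decide +kernel) (by decide +kernel) (by decide +kernel)

theorem f10535 : C.S (v3 C) [18, 35, 57, 82, 93, 110, 115] :=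
  C.stMul (f353 C) (f331 C) _ (by decide +kernel)

theorem f10536 : C.S (v3 C) [6, 45, 53, 79, 94, 110, 115] :=
  C.stMul (f335 C) (f10535 C) _ (by decide +kernel)

theorem f10537 : C.T (v3 C) [13, 47, 66, 75, 109, 116] (v15 C) [25, 31, 65, 81, 95, 109, 125] :=
  C.conv (f3166 C) (f3236 C) (f10536 C) _ [153, 167, 172] _ (by decide +kernel) (by decide +kernel) (by decide +kernel)

theorem f10538 : C.T (v15 C) [25, 31, 65, 81, 95, 109, 125] (v3 C) [13, 47, 66, 75, 109, 116] :=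
  C.flip (f10537 C)

theorem f10539 : C.T (v18 C) [6, 30, 56, 97, 109, 115] (v15 C) [4, 37, 56, 72, 91, 112] :=
  C.closeT (p := (v3 C)) (pu := [23, 41, 57, 86, 106, 109, 119])
    (C.pT (f10531 C)
    (C.pH [8, 30, 65, 84, 94, 117] [21, 30, 58, 84, 109, 111] (by decide +kernel)
    (C.pT (f10534 C)
    (C.pH [26, 38, 54, 89, 90, 113] [6, 30, 56, 97, 109, 115] (by decide +kernel) (C.pNil _ _)))))
    (C.pH [8, 30, 65, 84, 94, 117] [25, 31, 65, 81, 95, 109, 125] (by decide +kernel)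
    (C.pT (f10538 C)
    (C.pH [26, 38, 54, 89, 90, 113] [23, 41, 57, 86, 106, 109, 119] (by decide +kernel) (C.pNil _ _))))
    (C.loop_of_one (relLoop1 C) _ _)

theorem f10540 : C.T (v15 C) [4, 37, 56, 72, 91, 112] (v18 C) [6, 30, 56, 97, 109, 115] :=
  C.flip (f10539 C)

theorem f10541 : C.T (v3 C) [20, 39, 51, 81, 99, 110, 123] (v15 C) [7, 37, 56, 81, 97, 120] :=
  C.conv (f3166 C) (f3236 C) (f3236 C) _ [147, 159, 168, 174, 177] _ (by decide +kernel) (by decide +kernel) (by decide +kernel)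

theorem f10542 : C.S (v3 C) [26, 29, 49, 97, 123] :=
  C.stMul (f335 C) (f9448 C) _ (by decide +kernel)

theorem f10543 : C.S (v3 C) [4, 30, 49, 89, 105, 125] :=
  C.stMul (f353 C) (f10542 C) _ (by decide +kernel)

theorem f10544 : C.T (v3 C) [17, 58, 75, 100, 116] (v18 C) [22, 30, 49, 106, 110, 114] :=
  C.conv (f8216 C) (f8435 C) (f10543 C) _ [158, 170, 175, 177] _ (by decide +kernel) (by decide +kernel) (by decide +kernel)

theorem f10545 : C.T (v18 C) [22, 30, 49, 106, 110, 114] (v3 C) [17, 58, 75, 100, 116] :=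
  C.flip (f10544 C)

theorem f10546 : C.T (v18 C) [17, 48, 56, 83, 95, 124] (v18 C) [14, 43, 57, 87, 97, 125] :=
  C.conv (f7950 C) (f7952 C) (f6836 C) _ [131, 155, 167, 177] _ (by decide +kernel) (by decide +kernel) (by decide +kernel)

theorem f10547 : C.T (v18 C) [14, 43, 57, 87, 97, 125] (v18 C) [17, 48, 56, 83, 95, 124] :=
  C.flip (f10546 C)

theorem f10548 : C.T (v15 C) [17, 34, 65, 85, 102, 110, 124] (v18 C) [12, 38, 53, 96, 122] :=
  C.closeT (p := (v3 C)) (pu := [20, 39, 51, 81, 99, 110, 123])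
    (C.pT (f10541 C)
    (C.pH [8, 30, 65, 84, 94, 117] [17, 34, 65, 85, 102, 110, 124] (by decide +kernel) (C.pNil _ _)))
    (C.pH [26, 38, 54, 89, 90, 113] [14, 43, 57, 87, 97, 125] (by decide +kernel)
    (C.pT (f10547 C)
    (C.pH [8, 30, 65, 84, 94, 117] [22, 30, 49, 106, 110, 114] (by decide +kernel)
    (C.pT (f10545 C)
    (C.pH [26, 38, 54, 89, 90, 113] [20, 39, 51, 81, 99, 110, 123] (by decide +kernel) (C.pNil _ _))))))
    (C.loop_of_one (relLoop1 C) _ _)

theorem f10549 : C.T (v18 C) [12, 38, 53, 96, 122] (v15 C) [17, 34, 65, 85, 102, 110, 124] :=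
  C.flip (f10548 C)

theorem f10550 : C.T (v3 C) [25, 31, 58, 74, 107, 110, 115] (v15 C) [21, 41, 60, 83, 94, 110, 120] :=
  C.conv (f3166 C) (f3236 C) (f3236 C) _ [140, 151, 167, 171] _ (by decide +kernel) (by decide +kernel) (by decide +kernel)

theorem f10551 : C.S (v15 C) [25, 46, 61, 102, 110, 119] :=
  C.stMul (f2565 C) (f2569 C) _ (by decide +kernel)

theorem f10552 : C.S (v15 C) [25, 39, 65, 80, 99, 110, 113] :=
  C.stMul (f2581 C) (f10551 C) _ (by decide +kernel)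

theorem f10553 : C.T (v15 C) [24, 36, 63, 76, 102, 109, 123] (v18 C) [22, 39, 64, 86, 110, 112] :=
  C.conv (f10540 C) (f10552 C) (f2569 C) _ [126, 163, 168, 173, 177] _ (by decide +kernel) (by decide +kernel) (by decide +kernel)

theorem f10554 : C.S (v3 C) [8, 44, 66, 72, 107, 109, 116] :=
  C.stMul (f331 C) (f8931 C) _ (by decide +kernel)

theorem f10555 : C.S (v3 C) [15, 28, 70, 106, 118] :=
  C.stMul (f353 C) (f10554 C) _ (by decide +kernel)

theorem f10556 : C.T (v3 C) [4, 35, 63, 81, 90, 109, 122] (v17 C) [8, 28, 58, 71, 101] :=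
  C.conv (f6269 C) (f7309 C) (f10555 C) _ [158, 169, 173, 178] _ (by decide +kernel) (by decide +kernel) (by decide +kernel)

theorem f10557 : C.T (v17 C) [8, 28, 58, 71, 101] (v3 C) [4, 35, 63, 81, 90, 109, 122] :=
  C.flip (f10556 C)

theorem f10558 : C.T (v18 C) [19, 28, 51, 76, 108, 116] (v17 C) [30, 55, 78, 107, 110, 113] :=
  C.closeT (p := (v3 C)) (pu := [25, 31, 58, 74, 107, 110, 115])
    (C.pT (f10550 C)
    (C.pH [8, 30, 65, 84, 94, 117] [24, 36, 63, 76, 102, 109, 123] (by decide +kernel)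
    (C.pT (f10553 C)
    (C.pH [26, 38, 54, 89, 90, 113] [19, 28, 51, 76, 108, 116] (by decide +kernel) (C.pNil _ _)))))
    (C.pH [8, 30, 65, 84, 94, 117] [8, 28, 58, 71, 101] (by decide +kernel)
    (C.pT (f10557 C)
    (C.pH [26, 38, 54, 89, 90, 113] [25, 31, 58, 74, 107, 110, 115] (by decide +kernel) (C.pNil _ _))))
    (C.loop_of_one (relLoop1 C) _ _)

theorem f10559 : C.T (v17 C) [30, 55, 78, 107, 110, 113] (v18 C) [19, 28, 51, 76, 108, 116] :=
  C.flip (f10558 C)

theorem f10560 : C.T (v3 C) [20, 43, 64, 84, 92, 121] (v17 C) [25, 54, 73, 102, 112] :=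
  C.conv (f6269 C) (f7309 C) (f7309 C) _ [141, 169, 174, 178] _ (by decide +kernel) (by decide +kernel) (by decide +kernel)

theorem f10561 : C.S (v3 C) [26, 34, 52, 84, 93, 110, 125] :=
  C.stMul (f331 C) (f10536 C) _ (by decide +kernel)

theorem f10562 : C.S (v3 C) [4, 41, 69, 89, 93, 110, 125] :=
  C.stMul (f353 C) (f10561 C) _ (by decide +kernel)

theorem f10563 : C.T (v3 C) [17, 39, 67, 76, 91, 109, 112] (v15 C) [21, 44, 51, 82, 99, 109, 124] :=
  C.conv (f3166 C) (f3236 C) (f10562 C) _ [148, 160, 166, 176, 177] _ (by decide +kernel) (by decide +kernel) (by decide +kernel)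

theorem f10564 : C.T (v15 C) [21, 44, 51, 82, 99, 109, 124] (v3 C) [17, 39, 67, 76, 91, 109, 112] :=
  C.flip (f10563 C)

theorem f10565 : C.S (v15 C) [25, 47, 66, 86, 107, 124] :=
  C.stMul (f2569 C) (f2565 C) _ (by decide +kernel)

theorem f10566 : C.S (v15 C) [20, 63, 89, 93, 110, 115] :=
  C.stMul (f2569 C) (f10565 C) _ (by decide +kernel)

theorem f10567 : C.T (v15 C) [12, 45, 49, 74, 102, 109, 119] (v18 C) [18, 27, 49, 74, 105, 110, 117] :=
  C.conv (f7077 C) (f2569 C) (f10566 C) _ [128, 159, 166, 176, 177] _ (by decide +kernel) (by decide +kernel) (by decide +kernel)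

theorem f10568 : C.T (v18 C) [18, 27, 49, 74, 105, 110, 117] (v15 C) [12, 45, 49, 74, 102, 109, 119] :=
  C.flip (f10567 C)

theorem f10569 : C.T (v17 C) [9, 47, 62, 88, 107, 109, 119] (v18 C) [25, 31, 67, 77, 103, 120] :=
  C.closeT (p := (v3 C)) (pu := [20, 43, 64, 84, 92, 121])
    (C.pT (f10560 C)
    (C.pH [8, 30, 65, 84, 94, 117] [9, 47, 62, 88, 107, 109, 119] (by decide +kernel) (C.pNil _ _)))
    (C.pH [26, 38, 54, 89, 90, 113] [18, 27, 49, 74, 105, 110, 117] (by decide +kernel)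
    (C.pT (f10568 C)
    (C.pH [8, 30, 65, 84, 94, 117] [21, 44, 51, 82, 99, 109, 124] (by decide +kernel)
    (C.pT (f10564 C)
    (C.pH [26, 38, 54, 89, 90, 113] [20, 43, 64, 84, 92, 121] (by decide +kernel) (C.pNil _ _))))))
    (C.loop_of_one (relLoop1 C) _ _)

theorem f10570 : C.T (v18 C) [25, 31, 67, 77, 103, 120] (v17 C) [9, 47, 62, 88, 107, 109, 119] :=
  C.flip (f10569 C)

theorem f10571 : C.T (v3 C) [20, 47, 62, 76, 94, 109, 114] (v17 C) [24, 43, 50, 80, 106, 120] :=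
  C.conv (f6269 C) (f7309 C) (f7309 C) _ [138, 161, 171] _ (by decide +kernel) (by decide +kernel) (by decide +kernel)

theorem f10572 : C.T (v17 C) [16, 44, 67, 81, 96] (v17 C) [16, 29, 61, 86, 104, 109, 115] :=
  C.conv (f6077 C) (f7791 C) (f4132 C) _ [143, 149, 170, 172] _ (by decide +kernel) (by decide +kernel) (by decide +kernel)

theorem f10573 : C.T (v3 C) [17, 41, 59, 82, 108, 109] (v18 C) [14, 38, 68, 87, 91, 117] :=
  C.conv (f9221 C) (f9279 C) (f10213 C) _ [135, 156, 168, 176, 178] _ (by decide +kernel) (by decide +kernel) (by decide +kernel)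

theorem f10574 : C.T (v18 C) [14, 38, 68, 87, 91, 117] (v3 C) [17, 41, 59, 82, 108, 109] :=
  C.flip (f10573 C)

theorem f10575 : C.T (v17 C) [13, 30, 58, 89, 90, 118] (v18 C) [26, 48, 67, 76, 105, 110, 117] :=
  C.closeT (p := (v3 C)) (pu := [20, 47, 62, 76, 94, 109, 114])
    (C.pT (f10571 C)
    (C.pH [8, 30, 65, 84, 94, 117] [16, 44, 67, 81, 96] (by decide +kernel)
    (C.pT (f10572 C)
    (C.pH [26, 38, 54, 89, 90, 113] [13, 30, 58, 89, 90, 118] (by decide +kernel) (C.pNil _ _)))))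
    (C.pH [8, 30, 65, 84, 94, 117] [14, 38, 68, 87, 91, 117] (by decide +kernel)
    (C.pT (f10574 C)
    (C.pH [26, 38, 54, 89, 90, 113] [20, 47, 62, 76, 94, 109, 114] (by decide +kernel) (C.pNil _ _))))
    (C.loop_of_one (relLoop1 C) _ _)

theorem f10576 : C.T (v18 C) [26, 48, 67, 76, 105, 110, 117] (v17 C) [13, 30, 58, 89, 90, 118] :=
  C.flip (f10575 C)

theorem f10577 : C.T (v3 C) [26, 31, 68, 73, 97, 110, 122] (v17 C) [18, 35, 65, 76, 99, 109, 122] :=
  C.conv (f6269 C) (f7309 C) (f7309 C) _ [143, 152, 176, 177] _ (by decide +kernel) (by decide +kernel) (by decide +kernel)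

theorem f10578 : C.S (v17 C) [23, 31, 75, 92, 109, 116] :=
  C.stMul (f4137 C) (f4132 C) _ (by decide +kernel)

theorem f10579 : C.T (v17 C) [4, 36, 64, 74, 90, 109, 122] (v18 C) [26, 36, 59, 76, 105, 118] :=
  C.conv (f10454 C) (f10578 C) (f4132 C) _ [131, 157, 164, 176, 177] _ (by decide +kernel) (by decide +kernel) (by decide +kernel)

theorem f10580 : C.S (v3 C) [7, 37, 53, 78, 98, 118] :=
  C.stMul (f353 C) (f335 C) _ (by decide +kernel)

theorem f10581 : C.T (v3 C) [28, 68, 74, 106, 120] (v17 C) [10, 35, 53, 78, 103, 115] :=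
  C.conv (f6814 C) (f7361 C) (f10580 C) _ [146, 161, 165, 175] _ (by decide +kernel) (by decide +kernel) (by decide +kernel)

theorem f10582 : C.T (v17 C) [10, 35, 53, 78, 103, 115] (v3 C) [28, 68, 74, 106, 120] :=
  C.flip (f10581 C)

theorem f10583 : C.T (v18 C) [16, 46, 60, 78, 108, 110, 111] (v17 C) [23, 37, 53, 82, 125] :=
  C.closeT (p := (v3 C)) (pu := [26, 31, 68, 73, 97, 110, 122])
    (C.pT (f10577 C)
    (C.pH [8, 30, 65, 84, 94, 117] [4, 36, 64, 74, 90, 109, 122] (by decide +kernel)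
    (C.pT (f10579 C)
    (C.pH [26, 38, 54, 89, 90, 113] [16, 46, 60, 78, 108, 110, 111] (by decide +kernel) (C.pNil _ _)))))
    (C.pH [8, 30, 65, 84, 94, 117] [10, 35, 53, 78, 103, 115] (by decide +kernel)
    (C.pT (f10582 C)
    (C.pH [26, 38, 54, 89, 90, 113] [26, 31, 68, 73, 97, 110, 122] (by decide +kernel) (C.pNil _ _))))
    (C.loop_of_one (relLoop1 C) _ _)

theorem f10584 : C.T (v17 C) [23, 37, 53, 82, 125] (v18 C) [16, 46, 60, 78, 108, 110, 111] :=
  C.flip (f10583 C)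

theorem f10585 : C.T (v3 C) [19, 42, 65, 72, 103, 113] (v17 C) [12, 55, 89, 96, 122] :=
  C.conv (f6269 C) (f7309 C) (f7309 C) _ [131, 155, 164, 177] _ (by decide +kernel) (by decide +kernel) (by decide +kernel)

theorem f10586 : C.S (v3 C) [23, 29, 57, 87, 91, 110, 120] :=
  C.stMul (f331 C) (f328 C) _ (by decide +kernel)

theorem f10587 : C.S (v3 C) [12, 29, 49, 79, 92, 110, 117] :=
  C.stMul (f353 C) (f10586 C) _ (by decide +kernel)

theorem f10588 : C.S (v3 C) [11, 29, 71, 90, 109, 112] :=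
  C.stMul (f331 C) (f10587 C) _ (by decide +kernel)

theorem f10589 : C.T (v3 C) [22, 47, 67, 72, 103, 113] (v17 C) [5, 36, 58, 87, 108, 110, 117] :=
  C.conv (f6808 C) (f9290 C) (f10588 C) _ [129, 151, 168, 173, 177] _ (by decide +kernel) (by decide +kernel) (by decide +kernel)

theorem f10590 : C.T (v17 C) [5, 36, 58, 87, 108, 110, 117] (v3 C) [22, 47, 67, 72, 103, 113] :=
  C.flip (f10589 C)

theorem f10591 : C.S (v17 C) [51, 81, 96, 109, 125] :=
  C.stMul (f4132 C) (f4137 C) _ (by decide +kernel)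

theorem f10592 : C.T (v17 C) [14, 40, 58, 89, 97, 110, 112] (v18 C) [26, 28, 52, 71, 108, 109, 113] :=
  C.conv (f9556 C) (f10591 C) (f4132 C) _ [131, 152, 169, 174] _ (by decide +kernel) (by decide +kernel) (by decide +kernel)

theorem f10593 : C.T (v18 C) [26, 28, 52, 71, 108, 109, 113] (v17 C) [14, 40, 58, 89, 97, 110, 112] :=
  C.flip (f10592 C)

theorem f10594 : C.T (v17 C) [21, 38, 68, 83, 106, 110, 116] (v18 C) [43, 69, 75, 103, 113] :=
  C.closeT (p := (v3 C)) (pu := [19, 42, 65, 72, 103, 113])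
    (C.pT (f10585 C)
    (C.pH [8, 30, 65, 84, 94, 117] [21, 38, 68, 83, 106, 110, 116] (by decide +kernel) (C.pNil _ _)))
    (C.pH [26, 38, 54, 89, 90, 113] [26, 28, 52, 71, 108, 109, 113] (by decide +kernel)
    (C.pT (f10593 C)
    (C.pH [8, 30, 65, 84, 94, 117] [5, 36, 58, 87, 108, 110, 117] (by decide +kernel)
    (C.pT (f10590 C)
    (C.pH [26, 38, 54, 89, 90, 113] [19, 42, 65, 72, 103, 113] (by decide +kernel) (C.pNil _ _))))))
    (C.loop_of_one (relLoop1 C) _ _)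

theorem f10595 : C.T (v18 C) [43, 69, 75, 103, 113] (v17 C) [21, 38, 68, 83, 106, 110, 116] :=
  C.flip (f10594 C)

theorem f10596 : C.T (v3 C) [7, 45, 65, 88, 94, 109, 119] (v17 C) [15, 47, 62, 85, 95, 110, 119] :=
  C.conv (f6269 C) (f7309 C) (f7309 C) _ [131, 161, 174, 178] _ (by decide +kernel) (by decide +kernel) (by decide +kernel)

theorem f10597 : C.S (v3 C) [17, 42, 51, 85, 96, 109, 120] :=
  C.stMul (f331 C) (f7404 C) _ (by decide +kernel)

theorem f10598 : C.S (v3 C) [21, 37, 66, 85, 97, 109, 112] :=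
  C.stMul (f353 C) (f10597 C) _ (by decide +kernel)

theorem f10599 : C.T (v3 C) [23, 35, 50, 73, 103, 110, 123] (v18 C) [15, 28, 55, 108, 109, 123] :=
  C.conv (f6916 C) (f7402 C) (f10598 C) _ [140, 159, 171] _ (by decide +kernel) (by decide +kernel) (by decide +kernel)

theorem f10600 : C.T (v18 C) [15, 28, 55, 108, 109, 123] (v3 C) [23, 35, 50, 73, 103, 110, 123] :=
  C.flip (f10599 C)

theorem f10601 : C.T (v18 C) [10, 43, 57, 80, 98, 109, 122] (v18 C) [13, 85, 92, 110, 123] :=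
  C.conv (f8558 C) (f7121 C) (f6836 C) _ [126, 161, 168, 171, 178] _ (by decide +kernel) (by decide +kernel) (by decide +kernel)

theorem f10602 : C.T (v18 C) [13, 85, 92, 110, 123] (v18 C) [10, 43, 57, 80, 98, 109, 122] :=
  C.flip (f10601 C)

theorem f10603 : C.T (v17 C) [19, 33, 62, 72, 102, 110, 121] (v18 C) [16, 68, 82, 94, 110, 117] :=
  C.closeT (p := (v3 C)) (pu := [7, 45, 65, 88, 94, 109, 119])
    (C.pT (f10596 C)
    (C.pH [8, 30, 65, 84, 94, 117] [19, 33, 62, 72, 102, 110, 121] (by decide +kernel) (C.pNil _ _)))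
    (C.pH [26, 38, 54, 89, 90, 113] [13, 85, 92, 110, 123] (by decide +kernel)
    (C.pT (f10602 C)
    (C.pH [8, 30, 65, 84, 94, 117] [15, 28, 55, 108, 109, 123] (by decide +kernel)
    (C.pT (f10600 C)
    (C.pH [26, 38, 54, 89, 90, 113] [7, 45, 65, 88, 94, 109, 119] (by decide +kernel) (C.pNil _ _))))))
    (C.loop_of_one (relLoop1 C) _ _)

theorem f10604 : C.T (v18 C) [16, 68, 82, 94, 110, 117] (v17 C) [19, 33, 62, 72, 102, 110, 121] :=
  C.flip (f10603 C)

theorem f10605 : C.T (v3 C) [24, 45, 66, 79, 107, 109, 118] (v17 C) [16, 29, 64, 86, 104, 110, 111] :=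
  C.conv (f6269 C) (f7309 C) (f7309 C) _ [134, 151, 167, 175, 177] _ (by decide +kernel) (by decide +kernel) (by decide +kernel)

theorem f10606 : C.S (v17 C) [23, 31, 49, 84, 96, 117] :=
  C.stMul (f4137 C) (f4137 C) _ (by decide +kernel)

theorem f10607 : C.T (v17 C) [20, 29, 59, 72, 110, 123] (v17 C) [4, 33, 57, 80, 98, 109, 113] :=
  C.conv (f5584 C) (f10606 C) (f4132 C) _ [135, 160, 170, 174, 178] _ (by decide +kernel) (by decide +kernel) (by decide +kernel)

theorem f10608 : C.S (v3 C) [11, 28, 50, 85, 94, 124] :=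
  C.stMul (f353 C) (f9372 C) _ (by decide +kernel)

theorem f10609 : C.S (v3 C) [9, 38, 62, 72, 93, 110, 122] :=
  C.stMul (f335 C) (f10608 C) _ (by decide +kernel)

theorem f10610 : C.S (v3 C) [15, 35, 62, 79, 104, 110, 120] :=
  C.stMul (f331 C) (f10609 C) _ (by decide +kernel)

theorem f10611 : C.T (v3 C) [11, 37, 64, 74, 107, 110, 125] (v18 C) [6, 43, 66, 80, 100, 110, 119] :=
  C.conv (f6902 C) (f7285 C) (f10610 C) _ [140, 159, 169, 177] _ (by decide +kernel) (by decide +kernel) (by decide +kernel)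

theorem f10612 : C.T (v18 C) [6, 43, 66, 80, 100, 110, 119] (v3 C) [11, 37, 64, 74, 107, 110, 125] :=
  C.flip (f10611 C)

theorem f10613 : C.T (v17 C) [25, 32, 69, 75, 106, 110] (v18 C) [22, 48, 76, 104, 109, 121] :=
  C.closeT (p := (v3 C)) (pu := [24, 45, 66, 79, 107, 109, 118])
    (C.pT (f10605 C)
    (C.pH [8, 30, 65, 84, 94, 117] [20, 29, 59, 72, 110, 123] (by decide +kernel)
    (C.pT (f10607 C)
    (C.pH [26, 38, 54, 89, 90, 113] [25, 32, 69, 75, 106, 110] (by decide +kernel) (C.pNil _ _)))))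
    (C.pH [8, 30, 65, 84, 94, 117] [6, 43, 66, 80, 100, 110, 119] (by decide +kernel)
    (C.pT (f10612 C)
    (C.pH [26, 38, 54, 89, 90, 113] [24, 45, 66, 79, 107, 109, 118] (by decide +kernel) (C.pNil _ _))))
    (C.loop_of_one (relLoop1 C) _ _)

theorem f10614 : C.T (v18 C) [22, 48, 76, 104, 109, 121] (v17 C) [25, 32, 69, 75, 106, 110] :=
  C.flip (f10613 C)

theorem f10615 : C.T (v3 C) [11, 40, 66, 76, 106, 110, 115] (v17 C) [8, 37, 55, 74, 107, 109, 115] :=
  C.conv (f6269 C) (f7309 C) (f7309 C) _ [143, 157, 164, 172, 178] _ (by decide +kernel) (by decide +kernel) (by decide +kernel)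

theorem f10616 : C.T (v3 C) [8, 39, 62, 75, 106, 110, 116] (v18 C) [15, 41, 59, 80, 92, 109, 116] :=
  C.conv (f6902 C) (f7285 C) (f7378 C) _ [132, 151, 170, 171] _ (by decide +kernel) (by decide +kernel) (by decide +kernel)

theorem f10617 : C.T (v18 C) [15, 41, 59, 80, 92, 109, 116] (v3 C) [8, 39, 62, 75, 106, 110, 116] :=
  C.flip (f10616 C)

theorem f10618 : C.S (v18 C) [26, 43, 49, 77, 91, 110, 115] :=
  C.stMul (f6836 C) (f6836 C) _ (by decide +kernel)

theorem f10619 : C.T (v18 C) [10, 36, 54, 79, 91, 113] (v18 C) [26, 27, 55, 87, 90, 109, 123] :=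
  C.conv (f8533 C) (f6836 C) (f10618 C) _ [147, 152, 168, 172, 178] _ (by decide +kernel) (by decide +kernel) (by decide +kernel)

theorem f10620 : C.T (v18 C) [26, 27, 55, 87, 90, 109, 123] (v18 C) [10, 36, 54, 79, 91, 113] :=
  C.flip (f10619 C)

theorem f10621 : C.T (v17 C) [46, 67, 75, 96, 125] (v18 C) [31, 56, 82, 105, 109, 125] :=
  C.closeT (p := (v3 C)) (pu := [11, 40, 66, 76, 106, 110, 115])
    (C.pT (f10615 C)
    (C.pH [8, 30, 65, 84, 94, 117] [46, 67, 75, 96, 125] (by decide +kernel) (C.pNil _ _)))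
    (C.pH [26, 38, 54, 89, 90, 113] [26, 27, 55, 87, 90, 109, 123] (by decide +kernel)
    (C.pT (f10620 C)
    (C.pH [8, 30, 65, 84, 94, 117] [15, 41, 59, 80, 92, 109, 116] (by decide +kernel)
    (C.pT (f10617 C)
    (C.pH [26, 38, 54, 89, 90, 113] [11, 40, 66, 76, 106, 110, 115] (by decide +kernel) (C.pNil _ _))))))
    (C.loop_of_one (relLoop1 C) _ _)

theorem f10622 : C.T (v18 C) [31, 56, 82, 105, 109, 125] (v17 C) [46, 67, 75, 96, 125] :=
  C.flip (f10621 C)

theorem f10623 : C.T (v3 C) [11, 45, 81, 103, 109, 118] (v17 C) [5, 27, 67, 86, 91, 110, 111] :=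
  C.conv (f6269 C) (f7309 C) (f7309 C) _ [146, 158, 169, 178] _ (by decide +kernel) (by decide +kernel) (by decide +kernel)

theorem f10624 : C.T (v17 C) [12, 47, 68, 88, 102, 121] (v17 C) [25, 53, 70, 110, 122] :=
  C.conv (f5326 C) (f5328 C) (f5328 C) _ [126, 155, 173, 178] _ (by decide +kernel) (by decide +kernel) (by decide +kernel)

theorem f10625 : C.T (v3 C) [8, 27, 61, 73, 106, 109, 125] (v18 C) [9, 27, 53, 84, 100, 109, 122] :=
  C.conv (f6911 C) (f8231 C) (f8401 C) _ [130, 156, 168, 177] _ (by decide +kernel) (by decide +kernel) (by decide +kernel)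

theorem f10626 : C.T (v18 C) [9, 27, 53, 84, 100, 109, 122] (v3 C) [8, 27, 61, 73, 106, 109, 125] :=
  C.flip (f10625 C)

theorem f10627 : C.T (v17 C) [18, 48, 52, 72, 101, 110, 112] (v18 C) [25, 40, 49, 85, 98, 110, 113] :=
  C.closeT (p := (v3 C)) (pu := [11, 45, 81, 103, 109, 118])
    (C.pT (f10623 C)
    (C.pH [8, 30, 65, 84, 94, 117] [12, 47, 68, 88, 102, 121] (by decide +kernel)
    (C.pT (f10624 C)
    (C.pH [26, 38, 54, 89, 90, 113] [18, 48, 52, 72, 101, 110, 112] (by decide +kernel) (C.pNil _ _)))))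
    (C.pH [8, 30, 65, 84, 94, 117] [9, 27, 53, 84, 100, 109, 122] (by decide +kernel)
    (C.pT (f10626 C)
    (C.pH [26, 38, 54, 89, 90, 113] [11, 45, 81, 103, 109, 118] (by decide +kernel) (C.pNil _ _))))
    (C.loop_of_one (relLoop1 C) _ _)

theorem f10628 : C.T (v18 C) [25, 40, 49, 85, 98, 110, 113] (v17 C) [18, 48, 52, 72, 101, 110, 112] :=
  C.flip (f10627 C)

theorem f10629 : C.T (v3 C) [25, 43, 51, 72, 104, 110, 121] (v17 C) [8, 43, 57, 70, 94, 110, 119] :=
  C.conv (f6269 C) (f7309 C) (f7309 C) _ [134, 156, 170, 175] _ (by decide +kernel) (by decide +kernel) (by decide +kernel)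

theorem f10630 : C.T (v17 C) [43, 60, 74, 92, 109, 121] (v16 C) [13, 47, 51, 76, 104, 110, 112] :=
  C.conv (f4901 C) (f4137 C) (f4300 C) _ [142, 157, 169, 175] _ (by decide +kernel) (by decide +kernel) (by decide +kernel)

theorem f10631 : C.S (v3 C) [12, 31, 63, 83, 106, 121] :=
  C.stMul (f331 C) (f9529 C) _ (by decide +kernel)

theorem f10632 : C.S (v3 C) [23, 43, 66, 72, 98, 125] :=
  C.stMul (f353 C) (f10631 C) _ (by decide +kernel)

theorem f10633 : C.T (v3 C) [4, 37, 52, 89, 98, 109, 117] (v18 C) [16, 29, 57, 84, 96, 112] :=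
  C.conv (f9184 C) (f9232 C) (f10632 C) _ [148, 153, 164] _ (by decide +kernel) (by decide +kernel) (by decide +kernel)

theorem f10634 : C.T (v18 C) [16, 29, 57, 84, 96, 112] (v3 C) [4, 37, 52, 89, 98, 109, 117] :=
  C.flip (f10633 C)

theorem f10635 : C.T (v16 C) [23, 41, 64, 73, 103, 115] (v18 C) [24, 27, 53, 85, 99, 110, 124] :=
  C.closeT (p := (v3 C)) (pu := [25, 43, 51, 72, 104, 110, 121])
    (C.pT (f10629 C)
    (C.pH [8, 30, 65, 84, 94, 117] [43, 60, 74, 92, 109, 121] (by decide +kernel)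
    (C.pT (f10630 C)
    (C.pH [26, 38, 54, 89, 90, 113] [23, 41, 64, 73, 103, 115] (by decide +kernel) (C.pNil _ _)))))
    (C.pH [8, 30, 65, 84, 94, 117] [16, 29, 57, 84, 96, 112] (by decide +kernel)
    (C.pT (f10634 C)
    (C.pH [26, 38, 54, 89, 90, 113] [25, 43, 51, 72, 104, 110, 121] (by decide +kernel) (C.pNil _ _))))
    (C.loop_of_one (relLoop1 C) _ _)

theorem f10636 : C.T (v18 C) [24, 27, 53, 85, 99, 110, 124] (v16 C) [23, 41, 64, 73, 103, 115] :=
  C.flip (f10635 C)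

theorem f10637 : C.T (v3 C) [20, 38, 68, 92, 125] (v17 C) [18, 48, 51, 76, 100, 110] :=
  C.conv (f6808 C) (f9290 C) (f9290 C) _ [137, 158, 168, 177] _ (by decide +kernel) (by decide +kernel) (by decide +kernel)

theorem f10638 : C.S (v3 C) [15, 34, 56, 71, 106, 109, 117] :=
  C.stMul (f331 C) (f353 C) _ (by decide +kernel)

theorem f10639 : C.S (v3 C) [15, 40, 50, 78, 92, 118] :=
  C.stMul (f328 C) (f10638 C) _ (by decide +kernel)

theorem f10640 : C.T (v3 C) [17, 46, 51, 79, 97, 109, 124] (v15 C) [17, 28, 53, 80, 105, 109, 112] :=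
  C.conv (f2902 C) (f2981 C) (f10639 C) _ [141, 151, 166, 177] _ (by decide +kernel) (by decide +kernel) (by decide +kernel)

theorem f10641 : C.T (v15 C) [17, 28, 53, 80, 105, 109, 112] (v3 C) [17, 46, 51, 79, 97, 109, 124] :=
  C.flip (f10640 C)

theorem f10642 : C.T (v15 C) [7, 80, 105, 109, 112] (v18 C) [15, 36, 60, 85, 109, 113] :=
  C.conv (f8899 C) (f9135 C) (f2569 C) _ [137, 150, 165] _ (by decide +kernel) (by decide +kernel) (by decide +kernel)

theorem f10643 : C.T (v18 C) [15, 36, 60, 85, 109, 113] (v15 C) [7, 80, 105, 109, 112] :=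
  C.flip (f10642 C)

theorem f10644 : C.T (v17 C) [4, 27, 60, 88, 92, 109] (v18 C) [20, 35, 69, 79, 97, 110, 122] :=
  C.closeT (p := (v3 C)) (pu := [20, 38, 68, 92, 125])
    (C.pT (f10637 C)
    (C.pH [8, 30, 65, 84, 94, 117] [4, 27, 60, 88, 92, 109] (by decide +kernel) (C.pNil _ _)))
    (C.pH [26, 38, 54, 89, 90, 113] [15, 36, 60, 85, 109, 113] (by decide +kernel)
    (C.pT (f10643 C)
    (C.pH [8, 30, 65, 84, 94, 117] [17, 28, 53, 80, 105, 109, 112] (by decide +kernel)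
    (C.pT (f10641 C)
    (C.pH [26, 38, 54, 89, 90, 113] [20, 38, 68, 92, 125] (by decide +kernel) (C.pNil _ _))))))
    (C.loop_of_one (relLoop1 C) _ _)

theorem f10645 : C.T (v18 C) [20, 35, 69, 79, 97, 110, 122] (v17 C) [4, 27, 60, 88, 92, 109] :=
  C.flip (f10644 C)

theorem f10646 : C.T (v3 C) [5, 29, 49, 76, 107, 109, 124] (v17 C) [16, 30, 54, 82, 101, 109, 116] :=
  C.conv (f6808 C) (f9290 C) (f9290 C) _ [159, 167, 176, 178] _ (by decide +kernel) (by decide +kernel) (by decide +kernel)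

theorem f10647 : C.T (v3 C) [14, 28, 54, 79, 90, 109] (v18 C) [22, 42, 67, 80, 91, 120] :=
  C.conv (f9221 C) (f9279 C) (f9748 C) _ [136, 153, 169, 175, 178] _ (by decide +kernel) (by decide +kernel) (by decide +kernel)

theorem f10648 : C.T (v18 C) [22, 42, 67, 80, 91, 120] (v3 C) [14, 28, 54, 79, 90, 109] :=
  C.flip (f10647 C)

theorem f10649 : C.S (v18 C) [26, 43, 49, 77, 91, 110, 115] :=
  C.stMul (f6836 C) (f6836 C) _ (by decide +kernel)

theorem f10650 : C.T (v18 C) [17, 33, 51, 107, 116] (v18 C) [23, 48, 67, 76, 96, 109, 121] :=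
  C.conv (f9550 C) (f7121 C) (f10649 C) _ [146, 153, 166, 175] _ (by decide +kernel) (by decide +kernel) (by decide +kernel)

theorem f10651 : C.T (v18 C) [23, 48, 67, 76, 96, 109, 121] (v18 C) [17, 33, 51, 107, 116] :=
  C.flip (f10650 C)

theorem f10652 : C.T (v17 C) [20, 28, 55, 87, 102, 109, 122] (v18 C) [13, 41, 66, 74, 109, 117] :=
  C.closeT (p := (v3 C)) (pu := [5, 29, 49, 76, 107, 109, 124])
    (C.pT (f10646 C)
    (C.pH [8, 30, 65, 84, 94, 117] [20, 28, 55, 87, 102, 109, 122] (by decide +kernel) (C.pNil _ _)))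
    (C.pH [26, 38, 54, 89, 90, 113] [23, 48, 67, 76, 96, 109, 121] (by decide +kernel)
    (C.pT (f10651 C)
    (C.pH [8, 30, 65, 84, 94, 117] [22, 42, 67, 80, 91, 120] (by decide +kernel)
    (C.pT (f10648 C)
    (C.pH [26, 38, 54, 89, 90, 113] [5, 29, 49, 76, 107, 109, 124] (by decide +kernel) (C.pNil _ _))))))
    (C.loop_of_one (relLoop1 C) _ _)

theorem f10653 : C.T (v18 C) [13, 41, 66, 74, 109, 117] (v17 C) [20, 28, 55, 87, 102, 109, 122] :=
  C.flip (f10652 C)

theorem f10654 : C.T (v3 C) [44, 51, 83, 98, 122] (v17 C) [22, 49, 74, 107, 110, 125] :=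
  C.conv (f6808 C) (f9290 C) (f9290 C) _ [139, 162, 165, 172, 177] _ (by decide +kernel) (by decide +kernel) (by decide +kernel)

theorem f10655 : C.S (v17 C) [23, 31, 75, 92, 109, 116] :=
  C.stMul (f4137 C) (f4132 C) _ (by decide +kernel)

theorem f10656 : C.T (v17 C) [6, 28, 74, 103, 110, 118] (v17 C) [19, 36, 61, 80, 99, 110, 111] :=
  C.conv (f6598 C) (f10655 C) (f4300 C) _ [143, 155, 165, 171] _ (by decide +kernel) (by decide +kernel) (by decide +kernel)

theorem f10657 : C.T (v3 C) [7, 31, 65, 73, 103, 110, 111] (v18 C) [25, 46, 62, 81, 94, 109, 113] :=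
  C.conv (f8216 C) (f8435 C) (f10227 C) _ [135, 157, 165, 175, 177] _ (by decide +kernel) (by decide +kernel) (by decide +kernel)

theorem f10658 : C.T (v18 C) [25, 46, 62, 81, 94, 109, 113] (v3 C) [7, 31, 65, 73, 103, 110, 111] :=
  C.flip (f10657 C)

theorem f10659 : C.T (v17 C) [17, 41, 69, 86, 99, 110, 120] (v18 C) [4, 32, 62, 81, 94, 109, 113] :=
  C.closeT (p := (v3 C)) (pu := [44, 51, 83, 98, 122])
    (C.pT (f10654 C)
    (C.pH [8, 30, 65, 84, 94, 117] [6, 28, 74, 103, 110, 118] (by decide +kernel)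
    (C.pT (f10656 C)
    (C.pH [26, 38, 54, 89, 90, 113] [17, 41, 69, 86, 99, 110, 120] (by decide +kernel) (C.pNil _ _)))))
    (C.pH [8, 30, 65, 84, 94, 117] [25, 46, 62, 81, 94, 109, 113] (by decide +kernel)
    (C.pT (f10658 C)
    (C.pH [26, 38, 54, 89, 90, 113] [44, 51, 83, 98, 122] (by decide +kernel) (C.pNil _ _))))
    (C.loop_of_one (relLoop1 C) _ _)

theorem f10660 : C.T (v18 C) [4, 32, 62, 81, 94, 109, 113] (v17 C) [17, 41, 69, 86, 99, 110, 120] :=
  C.flip (f10659 C)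

theorem f10661 : C.T (v3 C) [23, 34, 49, 85, 92, 113] (v17 C) [32, 65, 86, 93, 110, 121] :=
  C.conv (f6808 C) (f9290 C) (f9290 C) _ [131, 156, 166, 173, 177] _ (by decide +kernel) (by decide +kernel) (by decide +kernel)

theorem f10662 : C.S (v17 C) [51, 81, 96, 109, 125] :=
  C.stMul (f4132 C) (f4137 C) _ (by decide +kernel)

theorem f10663 : C.T (v17 C) [8, 33, 64, 103, 110, 123] (v17 C) [19, 40, 60, 89, 92, 118] :=
  C.conv (f5968 C) (f5970 C) (f10662 C) _ [135, 162, 167, 171, 178] _ (by decide +kernel) (by decide +kernel) (by decide +kernel)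

theorem f10664 : C.T (v3 C) [13, 34, 67, 78, 110, 118] (v18 C) [14, 43, 53, 71, 96, 112] :=
  C.conv (f7327 C) (f7806 C) (f9594 C) _ [144, 149, 164, 173, 177] _ (by decide +kernel) (by decide +kernel) (by decide +kernel)

theorem f10665 : C.T (v18 C) [14, 43, 53, 71, 96, 112] (v3 C) [13, 34, 67, 78, 110, 118] :=
  C.flip (f10664 C)

theorem f10666 : C.T (v17 C) [17, 35, 61, 84, 94, 110, 118] (v18 C) [26, 43, 60, 82, 105, 119] :=
  C.closeT (p := (v3 C)) (pu := [23, 34, 49, 85, 92, 113])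
    (C.pT (f10661 C)
    (C.pH [8, 30, 65, 84, 94, 117] [8, 33, 64, 103, 110, 123] (by decide +kernel)
    (C.pT (f10663 C)
    (C.pH [26, 38, 54, 89, 90, 113] [17, 35, 61, 84, 94, 110, 118] (by decide +kernel) (C.pNil _ _)))))
    (C.pH [8, 30, 65, 84, 94, 117] [14, 43, 53, 71, 96, 112] (by decide +kernel)
    (C.pT (f10665 C)
    (C.pH [26, 38, 54, 89, 90, 113] [23, 34, 49, 85, 92, 113] (by decide +kernel) (C.pNil _ _))))
    (C.loop_of_one (relLoop1 C) _ _)

theorem f10667 : C.T (v18 C) [26, 43, 60, 82, 105, 119] (v17 C) [17, 35, 61, 84, 94, 110, 118] :=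
  C.flip (f10666 C)

theorem f10668 : C.T (v3 C) [10, 44, 51, 80, 104, 109, 112] (v17 C) [4, 42, 56, 75, 91, 110, 120] :=
  C.conv (f6808 C) (f9290 C) (f9290 C) _ [130, 159, 169, 175, 177] _ (by decide +kernel) (by decide +kernel) (by decide +kernel)

theorem f10669 : C.T (v17 C) [25, 34, 56, 81, 104, 109, 117] (v17 C) [40, 64, 82, 92, 110, 123] :=
  C.conv (f4943 C) (f6110 C) (f4300 C) _ [143, 149, 165, 178] _ (by decide +kernel) (by decide +kernel) (by decide +kernel)

theorem f10670 : C.S (v3 C) [20, 42, 68, 89, 99] :=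
  C.stMul (f335 C) (f353 C) _ (by decide +kernel)

theorem f10671 : C.S (v3 C) [24, 63, 83, 91, 110, 113] :=
  C.stMul (f353 C) (f10670 C) _ (by decide +kernel)

theorem f10672 : C.S (v3 C) [7, 48, 57, 84, 104, 109, 123] :=
  C.stMul (f335 C) (f10671 C) _ (by decide +kernel)

theorem f10673 : C.T (v3 C) [18, 34, 62, 87, 95, 109, 120] (v18 C) [12, 30, 58, 83, 90, 109, 121] :=
  C.conv (f9432 C) (f9640 C) (f10672 C) _ [126, 151, 166, 172, 178] _ (by decide +kernel) (by decide +kernel) (by decide +kernel)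

theorem f10674 : C.T (v18 C) [12, 30, 58, 83, 90, 109, 121] (v3 C) [18, 34, 62, 87, 95, 109, 120] :=
  C.flip (f10673 C)

theorem f10675 : C.T (v17 C) [26, 40, 85, 116] (v18 C) [5, 38, 63, 75, 100, 125] :=
  C.closeT (p := (v3 C)) (pu := [10, 44, 51, 80, 104, 109, 112])
    (C.pT (f10668 C)
    (C.pH [8, 30, 65, 84, 94, 117] [25, 34, 56, 81, 104, 109, 117] (by decide +kernel)
    (C.pT (f10669 C)
    (C.pH [26, 38, 54, 89, 90, 113] [26, 40, 85, 116] (by decide +kernel) (C.pNil _ _)))))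
    (C.pH [8, 30, 65, 84, 94, 117] [12, 30, 58, 83, 90, 109, 121] (by decide +kernel)
    (C.pT (f10674 C)
    (C.pH [26, 38, 54, 89, 90, 113] [10, 44, 51, 80, 104, 109, 112] (by decide +kernel) (C.pNil _ _))))
    (C.loop_of_one (relLoop1 C) _ _)

theorem f10676 : C.T (v18 C) [5, 38, 63, 75, 100, 125] (v17 C) [26, 40, 85, 116] :=
  C.flip (f10675 C)

theorem f10677 : C.T (v3 C) [11, 27, 60, 87, 91, 110, 119] (v17 C) [18, 41, 68, 86, 109, 123] :=
  C.conv (f6808 C) (f9290 C) (f9290 C) _ [138, 151, 170, 171, 178] _ (by decide +kernel) (by decide +kernel) (by decide +kernel)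

theorem f10678 : C.T (v17 C) [4, 34, 66, 84, 92, 110, 120] (v18 C) [5, 40, 51, 85, 101, 118] :=
  C.conv (f7845 C) (f4132 C) (f4300 C) _ [131, 162, 165, 175] _ (by decide +kernel) (by decide +kernel) (by decide +kernel)

theorem f10679 : C.S (v3 C) [5, 38, 50, 82, 105, 109, 122] :=
  C.stMul (f353 C) (f9359 C) _ (by decide +kernel)

theorem f10680 : C.T (v3 C) [8, 30, 53, 77, 103, 109, 121] (v18 C) [5, 38, 63, 83, 96, 117] :=
  C.conv (f7327 C) (f7806 C) (f10679 C) _ [143, 153, 166, 178] _ (by decide +kernel) (by decide +kernel) (by decide +kernel)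

theorem f10681 : C.T (v18 C) [5, 38, 63, 83, 96, 117] (v3 C) [8, 30, 53, 77, 103, 109, 121] :=
  C.flip (f10680 C)

theorem f10682 : C.T (v18 C) [8, 45, 55, 89, 105, 109, 120] (v18 C) [14, 29, 65, 81, 93, 109, 114] :=
  C.closeT (p := (v3 C)) (pu := [11, 27, 60, 87, 91, 110, 119])
    (C.pT (f10677 C)
    (C.pH [8, 30, 65, 84, 94, 117] [4, 34, 66, 84, 92, 110, 120] (by decide +kernel)
    (C.pT (f10678 C)
    (C.pH [26, 38, 54, 89, 90, 113] [8, 45, 55, 89, 105, 109, 120] (by decide +kernel) (C.pNil _ _)))))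
    (C.pH [8, 30, 65, 84, 94, 117] [5, 38, 63, 83, 96, 117] (by decide +kernel)
    (C.pT (f10681 C)
    (C.pH [26, 38, 54, 89, 90, 113] [11, 27, 60, 87, 91, 110, 119] (by decide +kernel) (C.pNil _ _))))
    (C.loop_of_one (relLoop1 C) _ _)

theorem f10683 : C.T (v18 C) [14, 29, 65, 81, 93, 109, 114] (v18 C) [8, 45, 55, 89, 105, 109, 120] :=
  C.flip (f10682 C)

theorem f10684 : C.T (v3 C) [4, 33, 56, 76, 90, 110, 118] (v17 C) [21, 32, 54, 81, 91, 110, 118] :=
  C.conv (f6808 C) (f9290 C) (f9290 C) _ [144, 158, 165, 174] _ (by decide +kernel) (by decide +kernel) (by decide +kernel)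

theorem f10685 : C.T (v17 C) [24, 37, 57, 84, 107, 110, 120] (v18 C) [25, 52, 73, 95, 121] :=
  C.conv (f8621 C) (f4137 C) (f4132 C) _ [127, 163, 169, 175, 178] _ (by decide +kernel) (by decide +kernel) (by decide +kernel)

theorem f10686 : C.S (v3 C) [15, 38, 55, 77, 98, 114] :=
  C.stMul (f331 C) (f7925 C) _ (by decide +kernel)

theorem f10687 : C.S (v3 C) [8, 27, 64, 80, 97, 109, 113] :=
  C.stMul (f353 C) (f10686 C) _ (by decide +kernel)

theorem f10688 : C.T (v3 C) [6, 48, 66, 89, 106, 110, 119] (v18 C) [21, 69, 81, 101, 110, 125] :=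
  C.conv (f6888 C) (f7333 C) (f10687 C) _ [131, 156, 167, 174, 177] _ (by decide +kernel) (by decide +kernel) (by decide +kernel)

theorem f10689 : C.T (v18 C) [21, 69, 81, 101, 110, 125] (v3 C) [6, 48, 66, 89, 106, 110, 119] :=
  C.flip (f10688 C)

theorem f10690 : C.T (v18 C) [18, 48, 58, 83, 95, 121] (v18 C) [12, 37, 49, 76, 107, 110, 124] :=
  C.closeT (p := (v3 C)) (pu := [4, 33, 56, 76, 90, 110, 118])
    (C.pT (f10684 C)
    (C.pH [8, 30, 65, 84, 94, 117] [24, 37, 57, 84, 107, 110, 120] (by decide +kernel)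
    (C.pT (f10685 C)
    (C.pH [26, 38, 54, 89, 90, 113] [18, 48, 58, 83, 95, 121] (by decide +kernel) (C.pNil _ _)))))
    (C.pH [8, 30, 65, 84, 94, 117] [21, 69, 81, 101, 110, 125] (by decide +kernel)
    (C.pT (f10689 C)
    (C.pH [26, 38, 54, 89, 90, 113] [4, 33, 56, 76, 90, 110, 118] (by decide +kernel) (C.pNil _ _))))
    (C.loop_of_one (relLoop1 C) _ _)

theorem f10693 : C.T (v3 C) [11, 41, 55, 80, 91, 109, 118] (v17 C) [19, 37, 61, 75, 99, 111] :=
  C.conv (f6814 C) (f7361 C) (f7361 C) _ [139, 167, 176, 177] _ (by decide +kernel) (by decide +kernel) (by decide +kernel)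

theorem f10694 : C.T (v17 C) [26, 39, 51, 76, 98, 110, 112] (v15 C) [17, 48, 65, 81, 90, 109, 111] :=
  C.conv (f5571 C) (f4300 C) (f4300 C) _ [171, 178] _ (by decide +kernel) (by decide +kernel) (by decide +kernel)

theorem f10695 : C.S (v3 C) [18, 38, 58, 74, 97, 109, 113] :=
  C.stMul (f335 C) (f9299 C) _ (by decide +kernel)

theorem f10696 : C.S (v3 C) [22, 28, 60, 75, 92, 110, 115] :=
  C.stMul (f353 C) (f10695 C) _ (by decide +kernel)

theorem f10697 : C.T (v3 C) [8, 40, 59, 75, 102, 110, 117] (v18 C) [13, 44, 65, 82, 95, 110, 112] :=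
  C.conv (f9221 C) (f9279 C) (f10696 C) _ [129, 150, 170, 172, 177] _ (by decide +kernel) (by decide +kernel) (by decide +kernel)

theorem f10698 : C.T (v18 C) [13, 44, 65, 82, 95, 110, 112] (v3 C) [8, 40, 59, 75, 102, 110, 117] :=
  C.flip (f10697 C)

theorem f10699 : C.T (v15 C) [20, 62, 74, 105, 110, 117] (v18 C) [6, 34, 60, 87, 97, 110, 116] :=
  C.closeT (p := (v3 C)) (pu := [11, 41, 55, 80, 91, 109, 118])
    (C.pT (f10693 C)
    (C.pH [8, 30, 65, 84, 94, 117] [26, 39, 51, 76, 98, 110, 112] (by decide +kernel)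
    (C.pT (f10694 C)
    (C.pH [26, 38, 54, 89, 90, 113] [20, 62, 74, 105, 110, 117] (by decide +kernel) (C.pNil _ _)))))
    (C.pH [8, 30, 65, 84, 94, 117] [13, 44, 65, 82, 95, 110, 112] (by decide +kernel)
    (C.pT (f10698 C)
    (C.pH [26, 38, 54, 89, 90, 113] [11, 41, 55, 80, 91, 109, 118] (by decide +kernel) (C.pNil _ _))))
    (C.loop_of_one (relLoop1 C) _ _)

theorem f10700 : C.T (v18 C) [6, 34, 60, 87, 97, 110, 116] (v15 C) [20, 62, 74, 105, 110, 117] :=
  C.flip (f10699 C)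

theorem f10701 : C.T (v3 C) [21, 42, 61, 76, 100, 110, 118] (v17 C) [8, 30, 59, 88, 103, 109, 119] :=
  C.conv (f6814 C) (f7361 C) (f7361 C) _ [138, 152, 169, 171] _ (by decide +kernel) (by decide +kernel) (by decide +kernel)

theorem f10702 : C.T (v17 C) [31, 60, 76, 122] (v18 C) [5, 31, 55, 88, 100, 110, 121] :=
  C.conv (f9409 C) (f4300 C) (f4132 C) _ [137, 151, 164, 173] _ (by decide +kernel) (by decide +kernel) (by decide +kernel)

theorem f10703 : C.S (v3 C) [6, 43, 52, 78, 106, 118] :=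
  C.stMul (f328 C) (f9705 C) _ (by decide +kernel)

theorem f10704 : C.S (v3 C) [26, 33, 69, 81, 108, 110, 118] :=
  C.stMul (f353 C) (f10703 C) _ (by decide +kernel)

theorem f10705 : C.T (v3 C) [10, 44, 68, 79, 102, 109, 116] (v18 C) [22, 27, 69, 87, 100, 114] :=
  C.conv (f9221 C) (f9279 C) (f10704 C) _ [143, 152, 164, 176, 178] _ (by decide +kernel) (by decide +kernel) (by decide +kernel)

theorem f10706 : C.T (v18 C) [22, 27, 69, 87, 100, 114] (v3 C) [10, 44, 68, 79, 102, 109, 116] :=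
  C.flip (f10705 C)

theorem f10707 : C.T (v18 C) [8, 34, 58, 76, 106, 111] (v18 C) [17, 38, 66, 75, 90, 109, 111] :=
  C.closeT (p := (v3 C)) (pu := [21, 42, 61, 76, 100, 110, 118])
    (C.pT (f10701 C)
    (C.pH [8, 30, 65, 84, 94, 117] [31, 60, 76, 122] (by decide +kernel)
    (C.pT (f10702 C)
    (C.pH [26, 38, 54, 89, 90, 113] [8, 34, 58, 76, 106, 111] (by decide +kernel) (C.pNil _ _)))))
    (C.pH [8, 30, 65, 84, 94, 117] [22, 27, 69, 87, 100, 114] (by decide +kernel)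
    (C.pT (f10706 C)
    (C.pH [26, 38, 54, 89, 90, 113] [21, 42, 61, 76, 100, 110, 118] (by decide +kernel) (C.pNil _ _))))
    (C.loop_of_one (relLoop1 C) _ _)

theorem f10710 : C.T (v3 C) [19, 69, 74, 106, 110, 124] (v17 C) [25, 41, 59, 79, 100, 109, 113] :=
  C.conv (f6814 C) (f7361 C) (f7361 C) _ [128, 161, 166, 171, 177] _ (by decide +kernel) (by decide +kernel) (by decide +kernel)

theorem f10711 : C.T (v17 C) [9, 48, 59, 78, 108, 109, 113] (v17 C) [11, 27, 51, 78, 98, 109] :=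
  C.conv (f6709 C) (f4300 C) (f4132 C) _ [146, 151, 166, 178] _ (by decide +kernel) (by decide +kernel) (by decide +kernel)

theorem f10712 : C.S (v3 C) [13, 42, 59, 86, 99, 123] :=
  C.stMul (f335 C) (f8383 C) _ (by decide +kernel)

theorem f10713 : C.S (v3 C) [8, 35, 61, 80, 93, 109, 122] :=
  C.stMul (f331 C) (f10712 C) _ (by decide +kernel)

theorem f10714 : C.T (v3 C) [22, 29, 58, 72, 96, 110, 115] (v18 C) [24, 45, 62, 72, 95, 109, 123] :=
  C.conv (f6916 C) (f7402 C) (f10713 C) _ [130, 154, 169, 174, 177] _ (by decide +kernel) (by decide +kernel) (by decide +kernel)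

theorem f10715 : C.T (v18 C) [24, 45, 62, 72, 95, 109, 123] (v3 C) [22, 29, 58, 72, 96, 110, 115] :=
  C.flip (f10714 C)

theorem f10716 : C.T (v17 C) [24, 47, 63, 85, 99, 109, 114] (v18 C) [21, 36, 65, 73, 105, 125] :=
  C.closeT (p := (v3 C)) (pu := [19, 69, 74, 106, 110, 124])
    (C.pT (f10710 C)
    (C.pH [8, 30, 65, 84, 94, 117] [9, 48, 59, 78, 108, 109, 113] (by decide +kernel)
    (C.pT (f10711 C)
    (C.pH [26, 38, 54, 89, 90, 113] [24, 47, 63, 85, 99, 109, 114] (by decide +kernel) (C.pNil _ _)))))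
    (C.pH [8, 30, 65, 84, 94, 117] [24, 45, 62, 72, 95, 109, 123] (by decide +kernel)
    (C.pT (f10715 C)
    (C.pH [26, 38, 54, 89, 90, 113] [19, 69, 74, 106, 110, 124] (by decide +kernel) (C.pNil _ _))))
    (C.loop_of_one (relLoop1 C) _ _)

theorem f10717 : C.T (v18 C) [21, 36, 65, 73, 105, 125] (v17 C) [24, 47, 63, 85, 99, 109, 114] :=
  C.flip (f10716 C)

theorem f10718 : C.T (v3 C) [13, 28, 69, 70, 97, 110, 120] (v17 C) [12, 28, 64, 78, 102, 120] :=
  C.conv (f6814 C) (f7361 C) (f7361 C) _ [145, 162, 164, 171] _ (by decide +kernel) (by decide +kernel) (by decide +kernel)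

theorem f10719 : C.S (v17 C) [23, 31, 49, 84, 96, 117] :=
  C.stMul (f4137 C) (f4137 C) _ (by decide +kernel)

theorem f10720 : C.T (v17 C) [21, 36, 58, 88, 108, 112] (v17 C) [45, 82, 92, 124] :=
  C.conv (f6416 C) (f10719 C) (f10719 C) _ [126, 162, 166, 175] _ (by decide +kernel) (by decide +kernel) (by decide +kernel)

theorem f10721 : C.T (v3 C) [16, 33, 49, 77, 97, 110, 123] (v18 C) [4, 27, 66, 82, 94, 110] :=
  C.conv (f8223 C) (f8361 C) (f331 C) _ [142, 167, 171, 177] _ (by decide +kernel) (by decide +kernel) (by decide +kernel)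

theorem f10722 : C.T (v18 C) [4, 27, 66, 82, 94, 110] (v3 C) [16, 33, 49, 77, 97, 110, 123] :=
  C.flip (f10721 C)

theorem f10723 : C.T (v17 C) [26, 59, 85, 105, 109, 120] (v18 C) [18, 48, 66, 75, 93] :=
  C.closeT (p := (v3 C)) (pu := [13, 28, 69, 70, 97, 110, 120])
    (C.pT (f10718 C)
    (C.pH [8, 30, 65, 84, 94, 117] [21, 36, 58, 88, 108, 112] (by decide +kernel)
    (C.pT (f10720 C)
    (C.pH [26, 38, 54, 89, 90, 113] [26, 59, 85, 105, 109, 120] (by decide +kernel) (C.pNil _ _)))))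
    (C.pH [8, 30, 65, 84, 94, 117] [4, 27, 66, 82, 94, 110] (by decide +kernel)
    (C.pT (f10722 C)
    (C.pH [26, 38, 54, 89, 90, 113] [13, 28, 69, 70, 97, 110, 120] (by decide +kernel) (C.pNil _ _))))
    (C.loop_of_one (relLoop1 C) _ _)

theorem f10724 : C.T (v18 C) [18, 48, 66, 75, 93] (v17 C) [26, 59, 85, 105, 109, 120] :=
  C.flip (f10723 C)

theorem f10725 : C.T (v3 C) [4, 37, 57, 107, 109, 123] (v17 C) [18, 43, 51, 85, 103, 125] :=
  C.conv (f6814 C) (f7361 C) (f7361 C) _ [145, 150, 169, 172, 178] _ (by decide +kernel) (by decide +kernel) (by decide +kernel)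

theorem f10726 : C.S (v17 C) [51, 81, 96, 109, 125] :=
  C.stMul (f4132 C) (f4137 C) _ (by decide +kernel)

theorem f10727 : C.T (v17 C) [4, 41, 67, 82, 102, 121] (v17 C) [20, 34, 53, 75, 98, 111] :=
  C.conv (f5653 C) (f10726 C) (f4300 C) _ [135, 160, 170, 172, 178] _ (by decide +kernel) (by decide +kernel) (by decide +kernel)

theorem f10728 : C.T (v3 C) [6, 41, 77, 99, 109, 112] (v18 C) [5, 47, 59, 76, 106, 114] :=
  C.conv (f9221 C) (f9279 C) (f10318 C) _ [129, 156, 168, 175] _ (by decide +kernel) (by decide +kernel) (by decide +kernel)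

theorem f10729 : C.T (v18 C) [5, 47, 59, 76, 106, 114] (v3 C) [6, 41, 77, 99, 109, 112] :=
  C.flip (f10728 C)

theorem f10730 : C.T (v17 C) [15, 40, 52, 70, 94, 122] (v18 C) [14, 41, 59, 76, 105, 110, 120] :=
  C.closeT (p := (v3 C)) (pu := [4, 37, 57, 107, 109, 123])
    (C.pT (f10725 C)
    (C.pH [8, 30, 65, 84, 94, 117] [4, 41, 67, 82, 102, 121] (by decide +kernel)
    (C.pT (f10727 C)
    (C.pH [26, 38, 54, 89, 90, 113] [15, 40, 52, 70, 94, 122] (by decide +kernel) (C.pNil _ _)))))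
    (C.pH [8, 30, 65, 84, 94, 117] [5, 47, 59, 76, 106, 114] (by decide +kernel)
    (C.pT (f10729 C)
    (C.pH [26, 38, 54, 89, 90, 113] [4, 37, 57, 107, 109, 123] (by decide +kernel) (C.pNil _ _))))
    (C.loop_of_one (relLoop1 C) _ _)

theorem f10731 : C.T (v18 C) [14, 41, 59, 76, 105, 110, 120] (v17 C) [15, 40, 52, 70, 94, 122] :=
  C.flip (f10730 C)

theorem f10732 : C.T (v3 C) [18, 37, 65, 82, 108, 110, 117] (v17 C) [17, 35, 64, 72, 91, 109, 120] :=
  C.conv (f6814 C) (f7361 C) (f7361 C) _ [148, 157, 167, 175] _ (by decide +kernel) (by decide +kernel) (by decide +kernel)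

theorem f10733 : C.S (v17 C) [23, 31, 75, 92, 109, 116] :=
  C.stMul (f4137 C) (f4132 C) _ (by decide +kernel)

theorem f10734 : C.T (v17 C) [22, 36, 49, 81, 93, 125] (v18 C) [4, 38, 63, 81, 107, 109] :=
  C.conv (f9244 C) (f10733 C) (f4300 C) _ [133, 159, 166] _ (by decide +kernel) (by decide +kernel) (by decide +kernel)

theorem f10735 : C.S (v3 C) [11, 28, 50, 85, 94, 124] :=
  C.stMul (f353 C) (f10101 C) _ (by decide +kernel)

theorem f10736 : C.T (v3 C) [25, 30, 62, 74, 99, 110, 119] (v15 C) [4, 37, 67, 74, 93, 109, 116] :=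
  C.conv (f3166 C) (f3236 C) (f10735 C) _ [127, 151, 177] _ (by decide +kernel) (by decide +kernel) (by decide +kernel)

theorem f10737 : C.T (v15 C) [4, 37, 67, 74, 93, 109, 116] (v3 C) [25, 30, 62, 74, 99, 110, 119] :=
  C.flip (f10736 C)

theorem f10738 : C.T (v18 C) [25, 47, 59, 71, 103, 119] (v15 C) [18, 46, 54, 72, 93, 109, 121] :=
  C.closeT (p := (v3 C)) (pu := [18, 37, 65, 82, 108, 110, 117])
    (C.pT (f10732 C)
    (C.pH [8, 30, 65, 84, 94, 117] [22, 36, 49, 81, 93, 125] (by decide +kernel)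
    (C.pT (f10734 C)
    (C.pH [26, 38, 54, 89, 90, 113] [25, 47, 59, 71, 103, 119] (by decide +kernel) (C.pNil _ _)))))
    (C.pH [8, 30, 65, 84, 94, 117] [4, 37, 67, 74, 93, 109, 116] (by decide +kernel)
    (C.pT (f10737 C)
    (C.pH [26, 38, 54, 89, 90, 113] [18, 37, 65, 82, 108, 110, 117] (by decide +kernel) (C.pNil _ _))))
    (C.loop_of_one (relLoop1 C) _ _)

theorem f10739 : C.T (v15 C) [18, 46, 54, 72, 93, 109, 121] (v18 C) [25, 47, 59, 71, 103, 119] :=
  C.flip (f10738 C)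

theorem f10740 : C.T (v3 C) [20, 30, 69, 81, 95, 110, 119] (v17 C) [6, 33, 63, 88, 92, 109, 122] :=
  C.conv (f6814 C) (f7361 C) (f7361 C) _ [135, 161, 169, 173, 178] _ (by decide +kernel) (by decide +kernel) (by decide +kernel)

theorem f10741 : C.S (v17 C) [23, 31, 75, 92, 109, 116] :=
  C.stMul (f4137 C) (f4132 C) _ (by decide +kernel)

theorem f10742 : C.T (v17 C) [13, 32, 56, 94, 109, 120] (v17 C) [40, 56, 82, 110, 116] :=
  C.conv (f4419 C) (f10741 C) (f4300 C) _ [140, 151, 176, 177] _ (by decide +kernel) (by decide +kernel) (by decide +kernel)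

theorem f10743 : C.S (v3 C) [20, 42, 68, 89, 99] :=
  C.stMul (f335 C) (f353 C) _ (by decide +kernel)

theorem f10744 : C.S (v3 C) [7, 59, 76, 107, 120] :=
  C.stMul (f328 C) (f10743 C) _ (by decide +kernel)

theorem f10745 : C.S (v3 C) [10, 27, 53, 86, 103, 122] :=
  C.stMul (f353 C) (f10744 C) _ (by decide +kernel)

theorem f10746 : C.T (v3 C) [17, 43, 62, 87, 94, 110, 121] (v18 C) [20, 32, 49, 88, 94] :=
  C.conv (f8216 C) (f8435 C) (f10745 C) _ [161, 167, 172] _ (by decide +kernel) (by decide +kernel) (by decide +kernel)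

theorem f10747 : C.T (v18 C) [20, 32, 49, 88, 94] (v3 C) [17, 43, 62, 87, 94, 110, 121] :=
  C.flip (f10746 C)

theorem f10748 : C.T (v17 C) [26, 40, 62, 74, 104, 109, 118] (v18 C) [16, 41, 56, 83, 104, 115] :=
  C.closeT (p := (v3 C)) (pu := [20, 30, 69, 81, 95, 110, 119])
    (C.pT (f10740 C)
    (C.pH [8, 30, 65, 84, 94, 117] [13, 32, 56, 94, 109, 120] (by decide +kernel)
    (C.pT (f10742 C)
    (C.pH [26, 38, 54, 89, 90, 113] [26, 40, 62, 74, 104, 109, 118] (by decide +kernel) (C.pNil _ _)))))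
    (C.pH [8, 30, 65, 84, 94, 117] [20, 32, 49, 88, 94] (by decide +kernel)
    (C.pT (f10747 C)
    (C.pH [26, 38, 54, 89, 90, 113] [20, 30, 69, 81, 95, 110, 119] (by decide +kernel) (C.pNil _ _))))
    (C.loop_of_one (relLoop1 C) _ _)

theorem f10749 : C.T (v18 C) [16, 41, 56, 83, 104, 115] (v17 C) [26, 40, 62, 74, 104, 109, 118] :=
  C.flip (f10748 C)

theorem f10750 : C.T (v3 C) [19, 34, 69, 74, 108, 109, 118] (v17 C) [25, 48, 67, 79, 98, 109] :=
  C.conv (f6814 C) (f7361 C) (f7361 C) _ [128, 154, 170, 171, 178] _ (by decide +kernel) (by decide +kernel) (by decide +kernel)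

theorem f10751 : C.S (v17 C) [51, 81, 96, 109, 125] :=
  C.stMul (f4132 C) (f4137 C) _ (by decide +kernel)

theorem f10752 : C.T (v17 C) [9, 43, 60, 89, 100, 110, 125] (v9 C) [23, 39, 63, 89, 106, 110, 115] :=
  C.conv (f4408 C) (f4300 C) (f10751 C) _ [137, 151, 168, 175] _ (by decide +kernel) (by decide +kernel) (by decide +kernel)

theorem f10753 : C.T (v3 C) [22, 44, 89, 95, 109, 112] (v18 C) [23, 48, 69, 75, 103, 109, 113] :=
  C.conv (f9432 C) (f9640 C) (f9697 C) _ [139, 160, 164, 173, 177] _ (by decide +kernel) (by decide +kernel) (by decide +kernel)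

theorem f10754 : C.T (v18 C) [23, 48, 69, 75, 103, 109, 113] (v3 C) [22, 44, 89, 95, 109, 112] :=
  C.flip (f10753 C)

theorem f10755 : C.T (v9 C) [7, 34, 63, 83, 105, 109, 115] (v18 C) [20, 42, 56, 88, 97, 109, 115] :=
  C.closeT (p := (v3 C)) (pu := [19, 34, 69, 74, 108, 109, 118])
    (C.pT (f10750 C)
    (C.pH [8, 30, 65, 84, 94, 117] [9, 43, 60, 89, 100, 110, 125] (by decide +kernel)
    (C.pT (f10752 C)
    (C.pH [26, 38, 54, 89, 90, 113] [7, 34, 63, 83, 105, 109, 115] (by decide +kernel) (C.pNil _ _)))))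
    (C.pH [8, 30, 65, 84, 94, 117] [23, 48, 69, 75, 103, 109, 113] (by decide +kernel)
    (C.pT (f10754 C)
    (C.pH [26, 38, 54, 89, 90, 113] [19, 34, 69, 74, 108, 109, 118] (by decide +kernel) (C.pNil _ _))))
    (C.loop_of_one (relLoop1 C) _ _)

theorem f10756 : C.T (v18 C) [20, 42, 56, 88, 97, 109, 115] (v9 C) [7, 34, 63, 83, 105, 109, 115] :=
  C.flip (f10755 C)

theorem f10757 : C.T (v3 C) [15, 31, 76, 91, 109, 112] (v17 C) [13, 61, 81, 93, 110, 119] :=
  C.conv (f6814 C) (f7361 C) (f7361 C) _ [147, 152, 172] _ (by decide +kernel) (by decide +kernel) (by decide +kernel)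

theorem f10758 : C.S (v17 C) [23, 31, 49, 84, 96, 117] :=
  C.stMul (f4137 C) (f4137 C) _ (by decide +kernel)

theorem f10759 : C.T (v17 C) [11, 43, 64, 81, 104, 110, 113] (v18 C) [24, 35, 56, 71, 97, 113] :=
  C.conv (f10627 C) (f10758 C) (f10758 C) _ [134, 150, 169, 171, 178] _ (by decide +kernel) (by decide +kernel) (by decide +kernel)

theorem f10760 : C.S (v3 C) [10, 39, 56, 78, 94, 110, 113] :=
  C.stMul (f353 C) (f9768 C) _ (by decide +kernel)

theorem f10761 : C.S (v3 C) [5, 32, 60, 83, 90, 109, 118] :=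
  C.stMul (f331 C) (f10760 C) _ (by decide +kernel)

theorem f10762 : C.T (v3 C) [20, 31, 64, 74, 103, 109, 124] (v18 C) [19, 36, 87, 125] :=
  C.conv (f7327 C) (f7806 C) (f10761 C) _ [145, 153, 170, 173] _ (by decide +kernel) (by decide +kernel) (by decide +kernel)

theorem f10763 : C.T (v18 C) [19, 36, 87, 125] (v3 C) [20, 31, 64, 74, 103, 109, 124] :=
  C.flip (f10762 C)

theorem f10764 : C.T (v18 C) [12, 30, 59, 88, 105, 110, 112] (v18 C) [15, 32, 55, 75, 108, 109, 118] :=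
  C.closeT (p := (v3 C)) (pu := [15, 31, 76, 91, 109, 112])
    (C.pT (f10757 C)
    (C.pH [8, 30, 65, 84, 94, 117] [11, 43, 64, 81, 104, 110, 113] (by decide +kernel)
    (C.pT (f10759 C)
    (C.pH [26, 38, 54, 89, 90, 113] [12, 30, 59, 88, 105, 110, 112] (by decide +kernel) (C.pNil _ _)))))
    (C.pH [8, 30, 65, 84, 94, 117] [19, 36, 87, 125] (by decide +kernel)
    (C.pT (f10763 C)
    (C.pH [26, 38, 54, 89, 90, 113] [15, 31, 76, 91, 109, 112] (by decide +kernel) (C.pNil _ _))))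
    (C.loop_of_one (relLoop1 C) _ _)

theorem f10765 : C.T (v18 C) [15, 32, 55, 75, 108, 109, 118] (v18 C) [12, 30, 59, 88, 105, 110, 112] :=
  C.flip (f10764 C)

theorem f10766 : C.T (v3 C) [26, 34, 55, 70, 107, 110, 117] (v17 C) [5, 48, 57, 73, 104, 124] :=
  C.conv (f6822 C) (f7297 C) (f7297 C) _ [148, 152, 164, 172] _ (by decide +kernel) (by decide +kernel) (by decide +kernel)

theorem f10767 : C.T (v17 C) [12, 39, 58] (v17 C) [6, 43, 60, 77, 93, 110, 119] :=
  C.conv (f4687 C) (f4137 C) (f4137 C) _ [159, 164, 171] _ (by decide +kernel) (by decide +kernel) (by decide +kernel)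

theorem f10768 : C.S (v3 C) [26, 41, 49, 77, 105, 123] :=
  C.stMul (f353 C) (f9631 C) _ (by decide +kernel)

theorem f10769 : C.T (v3 C) [29, 60, 77, 108, 109, 125] (v18 C) [14, 32, 55, 92, 110, 123] :=
  C.conv (f6902 C) (f7285 C) (f10768 C) _ [126, 152, 164, 173, 178] _ (by decide +kernel) (by decide +kernel) (by decide +kernel)

theorem f10770 : C.T (v18 C) [14, 32, 55, 92, 110, 123] (v3 C) [29, 60, 77, 108, 109, 125] :=
  C.flip (f10769 C)

theorem f10771 : C.T (v17 C) [4, 41, 55, 70, 104, 109, 116] (v18 C) [26, 41, 49, 77, 100, 109, 123] :=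
  C.closeT (p := (v3 C)) (pu := [26, 34, 55, 70, 107, 110, 117])
    (C.pT (f10766 C)
    (C.pH [8, 30, 65, 84, 94, 117] [12, 39, 58] (by decide +kernel)
    (C.pT (f10767 C)
    (C.pH [26, 38, 54, 89, 90, 113] [4, 41, 55, 70, 104, 109, 116] (by decide +kernel) (C.pNil _ _)))))
    (C.pH [8, 30, 65, 84, 94, 117] [14, 32, 55, 92, 110, 123] (by decide +kernel)
    (C.pT (f10770 C)
    (C.pH [26, 38, 54, 89, 90, 113] [26, 34, 55, 70, 107, 110, 117] (by decide +kernel) (C.pNil _ _))))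
    (C.loop_of_one (relLoop1 C) _ _)

theorem f10772 : C.T (v18 C) [26, 41, 49, 77, 100, 109, 123] (v17 C) [4, 41, 55, 70, 104, 109, 116] :=
  C.flip (f10771 C)

theorem f10773 : C.T (v3 C) [15, 48, 55, 88, 101, 109, 123] (v17 C) [26, 58, 87, 108, 110, 119] :=
  C.conv (f6822 C) (f7297 C) (f7297 C) _ [137, 152, 170, 176, 177] _ (by decide +kernel) (by decide +kernel) (by decide +kernel)

theorem f10774 : C.T (v17 C) [14, 34, 51, 87, 100, 116] (v18 C) [17, 37, 64, 84, 107, 109, 112] :=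
  C.conv (f9237 C) (f4137 C) (f4300 C) _ [143, 155, 175, 177] _ (by decide +kernel) (by decide +kernel) (by decide +kernel)

theorem f10775 : C.S (v3 C) [5, 38, 50, 82, 105, 109, 122] :=
  C.stMul (f353 C) (f9668 C) _ (by decide +kernel)

theorem f10776 : C.T (v3 C) [20, 41, 68, 81, 100, 114] (v18 C) [4, 34, 55, 72, 90, 110, 122] :=
  C.conv (f9184 C) (f9232 C) (f10775 C) _ [143, 154, 167, 173] _ (by decide +kernel) (by decide +kernel) (by decide +kernel)

theorem f10777 : C.T (v18 C) [4, 34, 55, 72, 90, 110, 122] (v3 C) [20, 41, 68, 81, 100, 114] :=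
  C.flip (f10776 C)

theorem f10778 : C.T (v18 C) [20, 45, 62, 86, 91, 110, 116] (v18 C) [18, 41, 55, 84, 101, 109, 114] :=
  C.closeT (p := (v3 C)) (pu := [15, 48, 55, 88, 101, 109, 123])
    (C.pT (f10773 C)
    (C.pH [8, 30, 65, 84, 94, 117] [14, 34, 51, 87, 100, 116] (by decide +kernel)
    (C.pT (f10774 C)
    (C.pH [26, 38, 54, 89, 90, 113] [20, 45, 62, 86, 91, 110, 116] (by decide +kernel) (C.pNil _ _)))))
    (C.pH [8, 30, 65, 84, 94, 117] [4, 34, 55, 72, 90, 110, 122] (by decide +kernel)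
    (C.pT (f10777 C)
    (C.pH [26, 38, 54, 89, 90, 113] [15, 48, 55, 88, 101, 109, 123] (by decide +kernel) (C.pNil _ _))))
    (C.loop_of_one (relLoop1 C) _ _)

theorem f10779 : C.T (v18 C) [18, 41, 55, 84, 101, 109, 114] (v18 C) [20, 45, 62, 86, 91, 110, 116] :=
  C.flip (f10778 C)

theorem f10780 : C.T (v3 C) [5, 39, 53, 104, 115] (v17 C) [15, 34, 51, 88, 106, 123] :=
  C.conv (f6822 C) (f7297 C) (f7297 C) _ [127, 152, 176, 178] _ (by decide +kernel) (by decide +kernel) (by decide +kernel)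

theorem f10781 : C.T (v17 C) [19, 41, 58, 73, 104, 109, 112] (v17 C) [5, 48, 68, 83, 103, 110, 117] :=
  C.conv (f4947 C) (f4132 C) (f4949 C) _ [146, 161, 170, 177] _ (by decide +kernel) (by decide +kernel) (by decide +kernel)

theorem f10782 : C.S (v3 C) [26, 29, 49, 97, 123] :=
  C.stMul (f335 C) (f9668 C) _ (by decide +kernel)

theorem f10783 : C.S (v3 C) [8, 47, 49, 72, 107, 110, 116] :=
  C.stMul (f335 C) (f10782 C) _ (by decide +kernel)

theorem f10784 : C.T (v3 C) [14, 35, 69, 87, 98, 109, 123] (v18 C) [4, 34, 55, 82, 92, 110, 122] :=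
  C.conv (f9184 C) (f9232 C) (f10783 C) _ [132, 152, 165, 173, 178] _ (by decide +kernel) (by decide +kernel) (by decide +kernel)

theorem f10785 : C.T (v18 C) [4, 34, 55, 82, 92, 110, 122] (v3 C) [14, 35, 69, 87, 98, 109, 123] :=
  C.flip (f10784 C)

theorem f10786 : C.T (v17 C) [8, 28, 53, 83, 92, 119] (v18 C) [18, 41, 55, 74, 97, 110, 122] :=
  C.closeT (p := (v3 C)) (pu := [5, 39, 53, 104, 115])
    (C.pT (f10780 C)
    (C.pH [8, 30, 65, 84, 94, 117] [19, 41, 58, 73, 104, 109, 112] (by decide +kernel)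
    (C.pT (f10781 C)
    (C.pH [26, 38, 54, 89, 90, 113] [8, 28, 53, 83, 92, 119] (by decide +kernel) (C.pNil _ _)))))
    (C.pH [8, 30, 65, 84, 94, 117] [4, 34, 55, 82, 92, 110, 122] (by decide +kernel)
    (C.pT (f10785 C)
    (C.pH [26, 38, 54, 89, 90, 113] [5, 39, 53, 104, 115] (by decide +kernel) (C.pNil _ _))))
    (C.loop_of_one (relLoop1 C) _ _)

theorem f10787 : C.T (v18 C) [18, 41, 55, 74, 97, 110, 122] (v17 C) [8, 28, 53, 83, 92, 119] :=
  C.flip (f10786 C)

theorem f10788 : C.T (v3 C) [7, 43, 64, 88, 99, 110] (v17 C) [18, 40, 57, 89, 93, 114] :=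
  C.conv (f6822 C) (f7297 C) (f7297 C) _ [129, 154, 165, 171, 178] _ (by decide +kernel) (by decide +kernel) (by decide +kernel)

theorem f10789 : C.S (v3 C) [13, 29, 60, 92, 109, 121] :=
  C.stMul (f353 C) (f328 C) _ (by decide +kernel)

theorem f10790 : C.S (v3 C) [8, 48, 63, 86, 90, 110, 123] :=
  C.stMul (f331 C) (f10789 C) _ (by decide +kernel)

theorem f10791 : C.S (v3 C) [14, 33, 57, 79, 93] :=
  C.stMul (f335 C) (f10790 C) _ (by decide +kernel)

theorem f10792 : C.T (v3 C) [23, 48, 59, 82, 106, 109, 122] (v18 C) [13, 34, 83, 102, 117] :=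
  C.conv (f6902 C) (f7285 C) (f10791 C) _ [136, 163, 167, 175] _ (by decide +kernel) (by decide +kernel) (by decide +kernel)

theorem f10793 : C.T (v18 C) [13, 34, 83, 102, 117] (v3 C) [23, 48, 59, 82, 106, 109, 122] :=
  C.flip (f10792 C)

theorem f10794 : C.T (v18 C) [6, 35, 61, 83, 102, 117] (v18 C) [18, 31, 58, 85, 91, 110, 119] :=
  C.conv (f9894 C) (f7121 C) (f6836 C) _ [145, 161, 166, 171, 177] _ (by decide +kernel) (by decide +kernel) (by decide +kernel)

theorem f10795 : C.T (v18 C) [18, 31, 58, 85, 91, 110, 119] (v18 C) [6, 35, 61, 83, 102, 117] :=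
  C.flip (f10794 C)

theorem f10796 : C.T (v17 C) [4, 46, 60, 77, 108, 109, 122] (v18 C) [25, 28, 65, 76, 99, 110, 119] :=
  C.closeT (p := (v3 C)) (pu := [7, 43, 64, 88, 99, 110])
    (C.pT (f10788 C)
    (C.pH [8, 30, 65, 84, 94, 117] [4, 46, 60, 77, 108, 109, 122] (by decide +kernel) (C.pNil _ _)))
    (C.pH [26, 38, 54, 89, 90, 113] [18, 31, 58, 85, 91, 110, 119] (by decide +kernel)
    (C.pT (f10795 C)
    (C.pH [8, 30, 65, 84, 94, 117] [13, 34, 83, 102, 117] (by decide +kernel)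
    (C.pT (f10793 C)
    (C.pH [26, 38, 54, 89, 90, 113] [7, 43, 64, 88, 99, 110] (by decide +kernel) (C.pNil _ _))))))
    (C.loop_of_one (relLoop1 C) _ _)

theorem f10797 : C.T (v18 C) [25, 28, 65, 76, 99, 110, 119] (v17 C) [4, 46, 60, 77, 108, 109, 122] :=
  C.flip (f10796 C)

theorem f10798 : C.T (v3 C) [9, 33, 65, 79, 96, 125] (v17 C) [10, 36, 67, 83, 90, 111] :=
  C.conv (f6822 C) (f7297 C) (f7297 C) _ [131, 163, 167, 177] _ (by decide +kernel) (by decide +kernel) (by decide +kernel)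

theorem f10799 : C.S (v17 C) [23, 31, 75, 92, 109, 116] :=
  C.stMul (f4137 C) (f4132 C) _ (by decide +kernel)

theorem f10800 : C.T (v17 C) [15, 41, 61, 73, 92, 110, 115] (v17 C) [24, 31, 64, 70, 106, 110, 121] :=
  C.conv (f4936 C) (f6411 C) (f10799 C) _ [148, 159, 168, 172, 177] _ (by decide +kernel) (by decide +kernel) (by decide +kernel)

theorem f10801 : C.S (v3 C) [7, 59, 76, 107, 120] :=
  C.stMul (f328 C) (f9513 C) _ (by decide +kernel)

theorem f10802 : C.T (v3 C) [15, 46, 54, 79, 110] (v18 C) [8, 27, 54, 72, 95, 110, 117] :=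
  C.conv (f9221 C) (f9279 C) (f10801 C) _ [135, 158, 164, 171] _ (by decide +kernel) (by decide +kernel) (by decide +kernel)

theorem f10803 : C.T (v18 C) [8, 27, 54, 72, 95, 110, 117] (v3 C) [15, 46, 54, 79, 110] :=
  C.flip (f10802 C)

theorem f10804 : C.T (v17 C) [12, 37, 56, 87, 104, 118] (v18 C) [45, 65, 71, 105, 109] :=
  C.closeT (p := (v3 C)) (pu := [9, 33, 65, 79, 96, 125])
    (C.pT (f10798 C)
    (C.pH [8, 30, 65, 84, 94, 117] [15, 41, 61, 73, 92, 110, 115] (by decide +kernel)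
    (C.pT (f10800 C)
    (C.pH [26, 38, 54, 89, 90, 113] [12, 37, 56, 87, 104, 118] (by decide +kernel) (C.pNil _ _)))))
    (C.pH [8, 30, 65, 84, 94, 117] [8, 27, 54, 72, 95, 110, 117] (by decide +kernel)
    (C.pT (f10803 C)
    (C.pH [26, 38, 54, 89, 90, 113] [9, 33, 65, 79, 96, 125] (by decide +kernel) (C.pNil _ _))))
    (C.loop_of_one (relLoop1 C) _ _)

theorem f10805 : C.T (v18 C) [45, 65, 71, 105, 109] (v17 C) [12, 37, 56, 87, 104, 118] :=
  C.flip (f10804 C)

theorem f10806 : C.T (v3 C) [21, 46, 64, 75, 95, 109, 124] (v17 C) [24, 35, 68, 79, 96, 109, 125] :=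
  C.conv (f6822 C) (f7297 C) (f7297 C) _ [143, 150, 166] _ (by decide +kernel) (by decide +kernel) (by decide +kernel)

theorem f10807 : C.T (v3 C) [10, 38, 54, 86, 100, 110, 118] (v18 C) [6, 43, 64, 89, 106, 109, 123] :=
  C.conv (f7327 C) (f7806 C) (f10290 C) _ [130, 154, 164, 173] _ (by decide +kernel) (by decide +kernel) (by decide +kernel)

theorem f10808 : C.T (v18 C) [6, 43, 64, 89, 106, 109, 123] (v3 C) [10, 38, 54, 86, 100, 110, 118] :=
  C.flip (f10807 C)

theorem f10809 : C.S (v18 C) [26, 43, 49, 77, 91, 110, 115] :=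
  C.stMul (f6836 C) (f6836 C) _ (by decide +kernel)

theorem f10810 : C.T (v18 C) [22, 48, 55, 78, 93, 122] (v18 C) [22, 51, 85, 93, 110, 123] :=
  C.conv (f9578 C) (f10809 C) (f6836 C) _ [127, 151, 166] _ (by decide +kernel) (by decide +kernel) (by decide +kernel)

theorem f10811 : C.T (v18 C) [22, 51, 85, 93, 110, 123] (v18 C) [22, 48, 55, 78, 93, 122] :=
  C.flip (f10810 C)

theorem f10812 : C.T (v17 C) [16, 48, 69, 86, 94, 114] (v18 C) [9, 43, 59, 85, 103, 109, 124] :=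
  C.closeT (p := (v3 C)) (pu := [21, 46, 64, 75, 95, 109, 124])
    (C.pT (f10806 C)
    (C.pH [8, 30, 65, 84, 94, 117] [16, 48, 69, 86, 94, 114] (by decide +kernel) (C.pNil _ _)))
    (C.pH [26, 38, 54, 89, 90, 113] [22, 51, 85, 93, 110, 123] (by decide +kernel)
    (C.pT (f10811 C)
    (C.pH [8, 30, 65, 84, 94, 117] [6, 43, 64, 89, 106, 109, 123] (by decide +kernel)
    (C.pT (f10808 C)
    (C.pH [26, 38, 54, 89, 90, 113] [21, 46, 64, 75, 95, 109, 124] (by decide +kernel) (C.pNil _ _))))))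
    (C.loop_of_one (relLoop1 C) _ _)

theorem f10813 : C.T (v18 C) [9, 43, 59, 85, 103, 109, 124] (v17 C) [16, 48, 69, 86, 94, 114] :=
  C.flip (f10812 C)

theorem f10814 : C.T (v3 C) [4, 48, 49, 77, 106, 109, 119] (v17 C) [6, 28, 55, 83, 103, 109, 111] :=
  C.conv (f6822 C) (f7297 C) (f7297 C) _ [126, 161, 167, 174] _ (by decide +kernel) (by decide +kernel) (by decide +kernel)

theorem f10815 : C.S (v17 C) [51, 81, 96, 109, 125] :=
  C.stMul (f4132 C) (f4137 C) _ (by decide +kernel)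

theorem f10816 : C.T (v17 C) [13, 42, 58, 75, 92, 109, 120] (v4 C) [7, 47, 50, 70, 105, 110, 125] :=
  C.conv (f5351 C) (f10815 C) (f4137 C) _ [133, 153, 171, 178] _ (by decide +kernel) (by decide +kernel) (by decide +kernel)

theorem f10817 : C.S (v3 C) [18, 35, 57, 82, 93, 110, 115] :=
  C.stMul (f353 C) (f331 C) _ (by decide +kernel)

theorem f10818 : C.S (v3 C) [6, 45, 53, 79, 94, 110, 115] :=
  C.stMul (f335 C) (f10817 C) _ (by decide +kernel)

theorem f10819 : C.S (v3 C) [26, 27, 69, 86, 106, 110, 119] :=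
  C.stMul (f353 C) (f10818 C) _ (by decide +kernel)

theorem f10820 : C.T (v3 C) [6, 40, 58, 70, 94, 110, 125] (v18 C) [24, 28, 61, 77, 106, 110, 123] :=
  C.conv (f7327 C) (f7806 C) (f10819 C) _ [129, 151, 167, 171] _ (by decide +kernel) (by decide +kernel) (by decide +kernel)

theorem f10821 : C.T (v18 C) [24, 28, 61, 77, 106, 110, 123] (v3 C) [6, 40, 58, 70, 94, 110, 125] :=
  C.flip (f10820 C)

theorem f10822 : C.T (v4 C) [48, 89, 90, 110, 115] (v18 C) [21, 45, 57, 89, 95, 110, 120] :=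
  C.closeT (p := (v3 C)) (pu := [4, 48, 49, 77, 106, 109, 119])
    (C.pT (f10814 C)
    (C.pH [8, 30, 65, 84, 94, 117] [13, 42, 58, 75, 92, 109, 120] (by decide +kernel)
    (C.pT (f10816 C)
    (C.pH [26, 38, 54, 89, 90, 113] [48, 89, 90, 110, 115] (by decide +kernel) (C.pNil _ _)))))
    (C.pH [8, 30, 65, 84, 94, 117] [24, 28, 61, 77, 106, 110, 123] (by decide +kernel)
    (C.pT (f10821 C)
    (C.pH [26, 38, 54, 89, 90, 113] [4, 48, 49, 77, 106, 109, 119] (by decide +kernel) (C.pNil _ _))))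
    (C.loop_of_one (relLoop1 C) _ _)

theorem f10823 : C.T (v18 C) [21, 45, 57, 89, 95, 110, 120] (v4 C) [48, 89, 90, 110, 115] :=
  C.flip (f10822 C)

theorem f10824 : C.T (v3 C) [19, 31, 53, 71, 101, 109, 117] (v17 C) [5, 46, 52, 86, 101, 123] :=
  C.conv (f6822 C) (f7297 C) (f7297 C) _ [141, 162, 166] _ (by decide +kernel) (by decide +kernel) (by decide +kernel)

theorem f10825 : C.T (v17 C) [12, 28, 59, 80, 91, 109, 120] (v18 C) [26, 48, 62, 86, 95, 109, 111] :=
  C.conv (f9982 C) (f4300 C) (f4132 C) _ [136, 155, 169, 173, 177] _ (by decide +kernel) (by decide +kernel) (by decide +kernel)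

theorem f10826 : C.S (v3 C) [9, 35, 69, 77, 96, 110, 118] :=
  C.stMul (f353 C) (f9426 C) _ (by decide +kernel)

theorem f10827 : C.S (v3 C) [15, 44, 63, 84, 96, 110, 125] :=
  C.stMul (f331 C) (f10826 C) _ (by decide +kernel)

theorem f10828 : C.T (v3 C) [22, 36, 66, 89, 101, 110, 121] (v17 C) [14, 41, 79, 108, 109, 118] :=
  C.conv (f6828 C) (f9427 C) (f10827 C) _ [138, 149, 169, 171, 177] _ (by decide +kernel) (by decide +kernel) (by decide +kernel)

theorem f10829 : C.T (v17 C) [14, 41, 79, 108, 109, 118] (v3 C) [22, 36, 66, 89, 101, 110, 121] :=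
  C.flip (f10828 C)

theorem f10830 : C.T (v18 C) [16, 40, 53, 83, 92, 110, 120] (v17 C) [26, 36, 57, 74, 93, 109, 112] :=
  C.closeT (p := (v3 C)) (pu := [19, 31, 53, 71, 101, 109, 117])
    (C.pT (f10824 C)
    (C.pH [8, 30, 65, 84, 94, 117] [12, 28, 59, 80, 91, 109, 120] (by decide +kernel)
    (C.pT (f10825 C)
    (C.pH [26, 38, 54, 89, 90, 113] [16, 40, 53, 83, 92, 110, 120] (by decide +kernel) (C.pNil _ _)))))
    (C.pH [8, 30, 65, 84, 94, 117] [14, 41, 79, 108, 109, 118] (by decide +kernel)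
    (C.pT (f10829 C)
    (C.pH [26, 38, 54, 89, 90, 113] [19, 31, 53, 71, 101, 109, 117] (by decide +kernel) (C.pNil _ _))))
    (C.loop_of_one (relLoop1 C) _ _)

theorem f10831 : C.T (v17 C) [26, 36, 57, 74, 93, 109, 112] (v18 C) [16, 40, 53, 83, 92, 110, 120] :=
  C.flip (f10830 C)

theorem f10832 : C.T (v3 C) [11, 37, 66, 89, 104, 109, 117] (v17 C) [21, 27, 69, 80, 99, 109, 118] :=
  C.conv (f6828 C) (f9427 C) (f9427 C) _ [135, 157, 168, 174] _ (by decide +kernel) (by decide +kernel) (by decide +kernel)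

theorem f10833 : C.T (v3 C) [8, 31, 65, 77, 94, 110, 114] (v17 C) [19, 43, 88, 109, 119] :=
  C.conv (f6269 C) (f7309 C) (f7310 C) _ [143, 155, 169, 174] _ (by decide +kernel) (by decide +kernel) (by decide +kernel)

theorem f10834 : C.T (v17 C) [19, 43, 88, 109, 119] (v3 C) [8, 31, 65, 77, 94, 110, 114] :=
  C.flip (f10833 C)

theorem f10835 : C.T (v17 C) [15, 48, 65, 75, 97, 109, 122] (v18 C) [8, 45, 57, 75, 108, 109, 118] :=
  C.conv (f10627 C) (f10758 C) (f4300 C) _ [126, 162, 171] _ (by decide +kernel) (by decide +kernel) (by decide +kernel)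

theorem f10836 : C.T (v18 C) [8, 45, 57, 75, 108, 109, 118] (v17 C) [15, 48, 65, 75, 97, 109, 122] :=
  C.flip (f10835 C)

theorem f10837 : C.T (v17 C) [24, 43, 49, 71, 100, 109, 116] (v18 C) [5, 40, 55, 75, 109, 120] :=
  C.closeT (p := (v3 C)) (pu := [11, 37, 66, 89, 104, 109, 117])
    (C.pT (f10832 C)
    (C.pH [8, 30, 65, 84, 94, 117] [24, 43, 49, 71, 100, 109, 116] (by decide +kernel) (C.pNil _ _)))
    (C.pH [26, 38, 54, 89, 90, 113] [8, 45, 57, 75, 108, 109, 118] (by decide +kernel)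
    (C.pT (f10836 C)
    (C.pH [8, 30, 65, 84, 94, 117] [19, 43, 88, 109, 119] (by decide +kernel)
    (C.pT (f10834 C)
    (C.pH [26, 38, 54, 89, 90, 113] [11, 37, 66, 89, 104, 109, 117] (by decide +kernel) (C.pNil _ _))))))
    (C.loop_of_one (relLoop1 C) _ _)

theorem f10838 : C.T (v18 C) [5, 40, 55, 75, 109, 120] (v17 C) [24, 43, 49, 71, 100, 109, 116] :=
  C.flip (f10837 C)

theorem f10839 : C.T (v3 C) [18, 33, 67, 71, 104, 117] (v17 C) [15, 29, 60, 71, 107, 110, 118] :=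
  C.conv (f6828 C) (f9427 C) (f9427 C) _ [130, 163, 169, 177] _ (by decide +kernel) (by decide +kernel) (by decide +kernel)

theorem f10840 : C.S (v17 C) [23, 31, 49, 84, 96, 117] :=
  C.stMul (f4137 C) (f4137 C) _ (by decide +kernel)

theorem f10841 : C.S (v17 C) [51, 81, 96, 109, 125] :=
  C.stMul (f4132 C) (f4137 C) _ (by decide +kernel)

theorem f10842 : C.T (v17 C) [19, 28, 69, 84, 107, 122] (v17 C) [18, 39, 52, 74, 95, 123] :=
  C.conv (f5037 C) (f10840 C) (f10841 C) _ [135, 157, 166, 176, 178] _ (by decide +kernel) (by decide +kernel) (by decide +kernel)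

theorem f10843 : C.S (v3 C) [25, 30, 54, 78, 106, 110, 122] :=
  C.stMul (f328 C) (f9477 C) _ (by decide +kernel)

theorem f10844 : C.S (v3 C) [17, 33, 49, 75, 102, 110, 114] :=
  C.stMul (f353 C) (f10843 C) _ (by decide +kernel)

theorem f10845 : C.T (v3 C) [25, 38, 72, 99, 110, 122] (v18 C) [21, 43, 76, 90, 109, 125] :=
  C.conv (f6902 C) (f7285 C) (f10844 C) _ [141, 170, 176, 178] _ (by decide +kernel) (by decide +kernel) (by decide +kernel)

theorem f10846 : C.T (v18 C) [21, 43, 76, 90, 109, 125] (v3 C) [25, 38, 72, 99, 110, 122] :=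
  C.flip (f10845 C)

theorem f10847 : C.T (v17 C) [10, 39, 68, 96, 120] (v18 C) [12, 43, 60, 83, 94, 117] :=
  C.closeT (p := (v3 C)) (pu := [18, 33, 67, 71, 104, 117])
    (C.pT (f10839 C)
    (C.pH [8, 30, 65, 84, 94, 117] [19, 28, 69, 84, 107, 122] (by decide +kernel)
    (C.pT (f10842 C)
    (C.pH [26, 38, 54, 89, 90, 113] [10, 39, 68, 96, 120] (by decide +kernel) (C.pNil _ _)))))
    (C.pH [8, 30, 65, 84, 94, 117] [21, 43, 76, 90, 109, 125] (by decide +kernel)
    (C.pT (f10846 C)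
    (C.pH [26, 38, 54, 89, 90, 113] [18, 33, 67, 71, 104, 117] (by decide +kernel) (C.pNil _ _))))
    (C.loop_of_one (relLoop1 C) _ _)

theorem f10848 : C.T (v18 C) [12, 43, 60, 83, 94, 117] (v17 C) [10, 39, 68, 96, 120] :=
  C.flip (f10847 C)

theorem f10849 : C.T (v3 C) [13, 35, 64, 86, 103, 110, 119] (v17 C) [34, 49, 78, 107, 109, 112] :=
  C.conv (f6828 C) (f9427 C) (f9427 C) _ [129, 157, 164, 174, 177] _ (by decide +kernel) (by decide +kernel) (by decide +kernel)

theorem f10850 : C.T (v17 C) [8, 37, 55, 76, 109, 115] (v17 C) [20, 34, 60, 84, 92, 109, 122] :=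
  C.conv (f4929 C) (f4137 C) (f4137 C) _ [145, 154, 168, 176, 177] _ (by decide +kernel) (by decide +kernel) (by decide +kernel)

theorem f10851 : C.S (v3 C) [4, 28, 64, 75, 93, 109, 113] :=
  C.stMul (f328 C) (f9642 C) _ (by decide +kernel)

theorem f10852 : C.T (v3 C) [16, 34, 65, 75, 94, 109, 124] (v18 C) [6, 42, 63, 92, 110, 111] :=
  C.conv (f9432 C) (f9640 C) (f10851 C) _ [148, 152, 169, 174, 178] _ (by decide +kernel) (by decide +kernel) (by decide +kernel)

theorem f10853 : C.T (v18 C) [6, 42, 63, 92, 110, 111] (v3 C) [16, 34, 65, 75, 94, 109, 124] :=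
  C.flip (f10852 C)

theorem f10854 : C.T (v17 C) [15, 40, 66, 78, 93, 123] (v18 C) [22, 28, 66, 86, 98, 119] :=
  C.closeT (p := (v3 C)) (pu := [13, 35, 64, 86, 103, 110, 119])
    (C.pT (f10849 C)
    (C.pH [8, 30, 65, 84, 94, 117] [8, 37, 55, 76, 109, 115] (by decide +kernel)
    (C.pT (f10850 C)
    (C.pH [26, 38, 54, 89, 90, 113] [15, 40, 66, 78, 93, 123] (by decide +kernel) (C.pNil _ _)))))
    (C.pH [8, 30, 65, 84, 94, 117] [6, 42, 63, 92, 110, 111] (by decide +kernel)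
    (C.pT (f10853 C)
    (C.pH [26, 38, 54, 89, 90, 113] [13, 35, 64, 86, 103, 110, 119] (by decide +kernel) (C.pNil _ _))))
    (C.loop_of_one (relLoop1 C) _ _)

theorem f10855 : C.T (v18 C) [22, 28, 66, 86, 98, 119] (v17 C) [15, 40, 66, 78, 93, 123] :=
  C.flip (f10854 C)

theorem f10856 : C.T (v3 C) [14, 37, 52, 76, 103, 109, 116] (v17 C) [24, 34, 61, 88, 103, 117] :=
  C.conv (f6828 C) (f9427 C) (f9427 C) _ [143, 162, 168, 175, 178] _ (by decide +kernel) (by decide +kernel) (by decide +kernel)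

theorem f10857 : C.S (v3 C) [7, 39, 56, 89, 103, 119] :=
  C.stMul (f331 C) (f7399 C) _ (by decide +kernel)

theorem f10858 : C.S (v3 C) [12, 34, 51, 89, 101, 111] :=
  C.stMul (f331 C) (f10857 C) _ (by decide +kernel)

theorem f10859 : C.S (v3 C) [23, 31, 52, 82, 100, 112] :=
  C.stMul (f353 C) (f10858 C) _ (by decide +kernel)

theorem f10860 : C.S (v3 C) [7, 32, 55, 86, 103, 110, 119] :=
  C.stMul (f331 C) (f10859 C) _ (by decide +kernel)

theorem f10861 : C.T (v3 C) [12, 43, 69, 81, 91, 115] (v18 C) [25, 28, 68, 87, 95, 115] :=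
  C.conv (f6916 C) (f7402 C) (f10860 C) _ [144, 161, 165, 172, 177] _ (by decide +kernel) (by decide +kernel) (by decide +kernel)

theorem f10862 : C.T (v18 C) [25, 28, 68, 87, 95, 115] (v3 C) [12, 43, 69, 81, 91, 115] :=
  C.flip (f10861 C)

theorem f10863 : C.S (v18 C) [26, 43, 49, 77, 91, 110, 115] :=
  C.stMul (f6836 C) (f6836 C) _ (by decide +kernel)

theorem f10864 : C.T (v18 C) [4, 31, 51, 89, 92, 115] (v18 C) [10, 31, 49, 79, 108, 112] :=
  C.conv (f9723 C) (f7121 C) (f10863 C) _ [142, 149, 174, 178] _ (by decide +kernel) (by decide +kernel) (by decide +kernel)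

theorem f10865 : C.T (v18 C) [10, 31, 49, 79, 108, 112] (v18 C) [4, 31, 51, 89, 92, 115] :=
  C.flip (f10864 C)

theorem f10866 : C.T (v17 C) [16, 37, 86, 107, 109, 112] (v18 C) [18, 48, 51, 88, 118] :=
  C.closeT (p := (v3 C)) (pu := [14, 37, 52, 76, 103, 109, 116])
    (C.pT (f10856 C)
    (C.pH [8, 30, 65, 84, 94, 117] [16, 37, 86, 107, 109, 112] (by decide +kernel) (C.pNil _ _)))
    (C.pH [26, 38, 54, 89, 90, 113] [10, 31, 49, 79, 108, 112] (by decide +kernel)
    (C.pT (f10865 C)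
    (C.pH [8, 30, 65, 84, 94, 117] [25, 28, 68, 87, 95, 115] (by decide +kernel)
    (C.pT (f10862 C)
    (C.pH [26, 38, 54, 89, 90, 113] [14, 37, 52, 76, 103, 109, 116] (by decide +kernel) (C.pNil _ _))))))
    (C.loop_of_one (relLoop1 C) _ _)

theorem f10867 : C.T (v18 C) [18, 48, 51, 88, 118] (v17 C) [16, 37, 86, 107, 109, 112] :=
  C.flip (f10866 C)

theorem f10868 : C.T (v3 C) [9, 29, 62, 74, 105, 110, 123] (v17 C) [19, 39, 56, 83, 90, 125] :=
  C.conv (f6828 C) (f9427 C) (f9427 C) _ [130, 154, 165, 173, 178] _ (by decide +kernel) (by decide +kernel) (by decide +kernel)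

theorem f10869 : C.T (v17 C) [26, 27, 69, 89, 101, 110, 118] (v17 C) [9, 41, 57, 82, 93, 109, 113] :=
  C.conv (f6657 C) (f4137 C) (f4137 C) _ [137, 155, 169, 173, 178] _ (by decide +kernel) (by decide +kernel) (by decide +kernel)

theorem f10870 : C.S (v3 C) [11, 40, 64, 79, 95, 109, 116] :=
  C.stMul (f335 C) (f9455 C) _ (by decide +kernel)

theorem f10871 : C.S (v3 C) [9, 68, 77, 104, 110, 122] :=
  C.stMul (f335 C) (f10870 C) _ (by decide +kernel)

theorem f10872 : C.T (v3 C) [15, 45, 63, 89, 94, 109, 121] (v18 C) [24, 30, 59, 82, 100, 123] :=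
  C.conv (f9221 C) (f9279 C) (f10871 C) _ [136, 159, 168, 172, 177] _ (by decide +kernel) (by decide +kernel) (by decide +kernel)

theorem f10873 : C.T (v18 C) [24, 30, 59, 82, 100, 123] (v3 C) [15, 45, 63, 89, 94, 109, 121] :=
  C.flip (f10872 C)

theorem f10874 : C.T (v17 C) [22, 44, 69, 76, 99, 110, 124] (v18 C) [21, 34, 68, 86, 104, 110, 115] :=
  C.closeT (p := (v3 C)) (pu := [9, 29, 62, 74, 105, 110, 123])
    (C.pT (f10868 C)
    (C.pH [8, 30, 65, 84, 94, 117] [26, 27, 69, 89, 101, 110, 118] (by decide +kernel)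
    (C.pT (f10869 C)
    (C.pH [26, 38, 54, 89, 90, 113] [22, 44, 69, 76, 99, 110, 124] (by decide +kernel) (C.pNil _ _)))))
    (C.pH [8, 30, 65, 84, 94, 117] [24, 30, 59, 82, 100, 123] (by decide +kernel)
    (C.pT (f10873 C)
    (C.pH [26, 38, 54, 89, 90, 113] [9, 29, 62, 74, 105, 110, 123] (by decide +kernel) (C.pNil _ _))))
    (C.loop_of_one (relLoop1 C) _ _)

theorem f10875 : C.T (v18 C) [21, 34, 68, 86, 104, 110, 115] (v17 C) [22, 44, 69, 76, 99, 110, 124] :=
  C.flip (f10874 C)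

theorem f10876 : C.T (v3 C) [12, 36, 53, 83, 101, 110, 115] (v17 C) [25, 31, 69, 75, 104, 113] :=
  C.conv (f6828 C) (f9427 C) (f9427 C) _ [132, 151, 166] _ (by decide +kernel) (by decide +kernel) (by decide +kernel)

theorem f10877 : C.S (v17 C) [51, 81, 96, 109, 125] :=
  C.stMul (f4132 C) (f4137 C) _ (by decide +kernel)

theorem f10878 : C.T (v17 C) [9, 44, 62, 88, 106, 110, 122] (v17 C) [25, 38, 68, 74, 105, 110, 117] :=
  C.conv (f6450 C) (f10877 C) (f4132 C) _ [146, 161, 167, 172, 177] _ (by decide +kernel) (by decide +kernel) (by decide +kernel)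

theorem f10879 : C.S (v3 C) [7, 39, 56, 89, 103, 119] :=
  C.stMul (f331 C) (f7374 C) _ (by decide +kernel)

theorem f10880 : C.S (v3 C) [10, 39, 56, 78, 94, 110, 113] :=
  C.stMul (f353 C) (f10879 C) _ (by decide +kernel)

theorem f10881 : C.S (v3 C) [5, 32, 60, 83, 90, 109, 118] :=
  C.stMul (f331 C) (f10880 C) _ (by decide +kernel)

theorem f10882 : C.T (v3 C) [24, 39, 55, 80, 96, 109, 113] (v18 C) [5, 28, 54, 87, 92, 109, 124] :=
  C.conv (f6902 C) (f7285 C) (f10881 C) _ [140, 154, 167, 174, 178] _ (by decide +kernel) (by decide +kernel) (by decide +kernel)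

theorem f10883 : C.T (v18 C) [5, 28, 54, 87, 92, 109, 124] (v3 C) [24, 39, 55, 80, 96, 109, 113] :=
  C.flip (f10882 C)

theorem f10884 : C.T (v17 C) [18, 33, 60, 96, 110] (v18 C) [14, 32, 63, 81, 105, 110, 125] :=
  C.closeT (p := (v3 C)) (pu := [12, 36, 53, 83, 101, 110, 115])
    (C.pT (f10876 C)
    (C.pH [8, 30, 65, 84, 94, 117] [9, 44, 62, 88, 106, 110, 122] (by decide +kernel)
    (C.pT (f10878 C)
    (C.pH [26, 38, 54, 89, 90, 113] [18, 33, 60, 96, 110] (by decide +kernel) (C.pNil _ _)))))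
    (C.pH [8, 30, 65, 84, 94, 117] [5, 28, 54, 87, 92, 109, 124] (by decide +kernel)
    (C.pT (f10883 C)
    (C.pH [26, 38, 54, 89, 90, 113] [12, 36, 53, 83, 101, 110, 115] (by decide +kernel) (C.pNil _ _))))
    (C.loop_of_one (relLoop1 C) _ _)

theorem f10885 : C.T (v18 C) [14, 32, 63, 81, 105, 110, 125] (v17 C) [18, 33, 60, 96, 110] :=
  C.flip (f10884 C)

theorem f10886 : C.T (v3 C) [17, 27, 64, 84, 96, 109, 120] (v17 C) [7, 47, 67, 71, 105, 110, 124] :=
  C.conv (f6828 C) (f9427 C) (f9427 C) _ [134, 167, 173, 177] _ (by decide +kernel) (by decide +kernel) (by decide +kernel)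

theorem f10887 : C.T (v17 C) [17, 37, 68, 70, 95, 119] (v18 C) [18, 43, 61, 74, 108, 112] :=
  C.conv (f7112 C) (f4132 C) (f4132 C) _ [145, 154, 169, 172, 177] _ (by decide +kernel) (by decide +kernel) (by decide +kernel)

theorem f10888 : C.S (v3 C) [12, 47, 57, 74, 97, 110] :=
  C.stMul (f335 C) (f9398 C) _ (by decide +kernel)

theorem f10889 : C.T (v3 C) [19, 44, 58, 75, 90, 109, 116] (v18 C) [16, 29, 58, 85, 102, 110, 116] :=
  C.conv (f9184 C) (f9232 C) (f10888 C) _ [141, 152, 167] _ (by decide +kernel) (by decide +kernel) (by decide +kernel)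

theorem f10890 : C.T (v18 C) [16, 29, 58, 85, 102, 110, 116] (v3 C) [19, 44, 58, 75, 90, 109, 116] :=
  C.flip (f10889 C)

theorem f10891 : C.T (v18 C) [10, 47, 52, 84, 91, 109, 124] (v18 C) [24, 27, 67, 70, 90, 116] :=
  C.closeT (p := (v3 C)) (pu := [17, 27, 64, 84, 96, 109, 120])
    (C.pT (f10886 C)
    (C.pH [8, 30, 65, 84, 94, 117] [17, 37, 68, 70, 95, 119] (by decide +kernel)
    (C.pT (f10887 C)
    (C.pH [26, 38, 54, 89, 90, 113] [10, 47, 52, 84, 91, 109, 124] (by decide +kernel) (C.pNil _ _)))))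
    (C.pH [8, 30, 65, 84, 94, 117] [16, 29, 58, 85, 102, 110, 116] (by decide +kernel)
    (C.pT (f10890 C)
    (C.pH [26, 38, 54, 89, 90, 113] [17, 27, 64, 84, 96, 109, 120] (by decide +kernel) (C.pNil _ _))))
    (C.loop_of_one (relLoop1 C) _ _)

theorem f10894 : C.T (v3 C) [11, 30, 62, 80, 101, 110, 115] (v17 C) [24, 33, 57, 81, 92, 110, 120] :=
  C.conv (f6828 C) (f9427 C) (f9427 C) _ [126, 152, 169, 175, 177] _ (by decide +kernel) (by decide +kernel) (by decide +kernel)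

theorem f10895 : C.T (v17 C) [16, 30, 66, 72, 98, 116] (v17 C) [26, 43, 60, 82, 93, 120] :=
  C.conv (f4350 C) (f4300 C) (f4300 C) _ [145, 162, 169, 174, 177] _ (by decide +kernel) (by decide +kernel) (by decide +kernel)

theorem f10896 : C.S (v3 C) [21, 45, 66, 81, 102, 110] :=
  C.stMul (f335 C) (f9388 C) _ (by decide +kernel)

theorem f10897 : C.S (v3 C) [14, 36, 68, 75, 101, 109, 114] :=
  C.stMul (f353 C) (f10896 C) _ (by decide +kernel)

theorem f10898 : C.S (v3 C) [21, 27, 55, 84, 96, 110] :=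
  C.stMul (f331 C) (f10897 C) _ (by decide +kernel)

theorem f10899 : C.T (v3 C) [8, 32, 49, 84, 97, 112] (v18 C) [12, 33, 53, 75, 102, 109, 111] :=
  C.conv (f9184 C) (f9232 C) (f10898 C) _ [142, 150, 168, 176, 177] _ (by decide +kernel) (by decide +kernel) (by decide +kernel)

theorem f10900 : C.T (v18 C) [12, 33, 53, 75, 102, 109, 111] (v3 C) [8, 32, 49, 84, 97, 112] :=
  C.flip (f10899 C)

theorem f10901 : C.T (v17 C) [16, 43, 51, 71, 106, 109, 116] (v18 C) [5, 47, 61, 84, 98] :=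
  C.closeT (p := (v3 C)) (pu := [11, 30, 62, 80, 101, 110, 115])
    (C.pT (f10894 C)
    (C.pH [8, 30, 65, 84, 94, 117] [16, 30, 66, 72, 98, 116] (by decide +kernel)
    (C.pT (f10895 C)
    (C.pH [26, 38, 54, 89, 90, 113] [16, 43, 51, 71, 106, 109, 116] (by decide +kernel) (C.pNil _ _)))))
    (C.pH [8, 30, 65, 84, 94, 117] [12, 33, 53, 75, 102, 109, 111] (by decide +kernel)
    (C.pT (f10900 C)
    (C.pH [26, 38, 54, 89, 90, 113] [11, 30, 62, 80, 101, 110, 115] (by decide +kernel) (C.pNil _ _))))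
    (C.loop_of_one (relLoop1 C) _ _)

theorem f10902 : C.T (v18 C) [5, 47, 61, 84, 98] (v17 C) [16, 43, 51, 71, 106, 109, 116] :=
  C.flip (f10901 C)

theorem f10903 : C.T (v3 C) [25, 39, 61, 82, 105, 109, 115] (v18 C) [20, 29, 61, 75, 93, 112] :=
  C.conv (f6888 C) (f7333 C) (f7333 C) _ [129, 163, 164, 175, 177] _ (by decide +kernel) (by decide +kernel) (by decide +kernel)

theorem f10904 : C.S (v3 C) [7, 39, 56, 89, 103, 119] :=
  C.stMul (f331 C) (f10431 C) _ (by decide +kernel)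

theorem f10905 : C.S (v3 C) [10, 39, 56, 78, 94, 110, 113] :=
  C.stMul (f353 C) (f10904 C) _ (by decide +kernel)

theorem f10906 : C.T (v3 C) [4, 28, 51, 84, 96, 109] (v18 C) [4, 36, 58, 73, 100, 110, 118] :=
  C.conv (f9432 C) (f9640 C) (f10905 C) _ [142, 149, 167, 172, 177] _ (by decide +kernel) (by decide +kernel) (by decide +kernel)

theorem f10907 : C.T (v18 C) [4, 36, 58, 73, 100, 110, 118] (v3 C) [4, 28, 51, 84, 96, 109] :=
  C.flip (f10906 C)

theorem f10908 : C.T (v18 C) [18, 35, 49, 84, 94, 122] (v18 C) [4, 34, 65, 73, 109, 117] :=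
  C.conv (f7088 C) (f6836 C) (f7121 C) _ [135, 162, 166, 172, 178] _ (by decide +kernel) (by decide +kernel) (by decide +kernel)

theorem f10909 : C.T (v18 C) [4, 34, 65, 73, 109, 117] (v18 C) [18, 35, 49, 84, 94, 122] :=
  C.flip (f10908 C)

theorem f10910 : C.T (v18 C) [23, 39, 67, 82, 95, 110, 114] (v18 C) [6, 46, 65, 79, 93, 113] :=
  C.closeT (p := (v3 C)) (pu := [25, 39, 61, 82, 105, 109, 115])
    (C.pT (f10903 C)
    (C.pH [8, 30, 65, 84, 94, 117] [23, 39, 67, 82, 95, 110, 114] (by decide +kernel) (C.pNil _ _)))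
    (C.pH [26, 38, 54, 89, 90, 113] [4, 34, 65, 73, 109, 117] (by decide +kernel)
    (C.pT (f10909 C)
    (C.pH [8, 30, 65, 84, 94, 117] [4, 36, 58, 73, 100, 110, 118] (by decide +kernel)
    (C.pT (f10907 C)
    (C.pH [26, 38, 54, 89, 90, 113] [25, 39, 61, 82, 105, 109, 115] (by decide +kernel) (C.pNil _ _))))))
    (C.loop_of_one (relLoop1 C) _ _)

theorem f10911 : C.T (v18 C) [6, 46, 65, 79, 93, 113] (v18 C) [23, 39, 67, 82, 95, 110, 114] :=
  C.flip (f10910 C)

theorem f10912 : C.T (v3 C) [21, 27, 60, 74, 98, 120] (v18 C) [23, 31, 63, 79, 95, 110, 121] :=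
  C.conv (f6888 C) (f7333 C) (f7333 C) _ [159, 169, 178] _ (by decide +kernel) (by decide +kernel) (by decide +kernel)

theorem f10913 : C.T (v3 C) [10, 35, 62, 80, 108, 117] (v18 C) [19, 34, 79, 98, 110, 111] :=
  C.conv (f9432 C) (f9640 C) (f9641 C) _ [140, 162, 165, 172, 177] _ (by decide +kernel) (by decide +kernel) (by decide +kernel)

theorem f10914 : C.T (v18 C) [19, 34, 79, 98, 110, 111] (v3 C) [10, 35, 62, 80, 108, 117] :=
  C.flip (f10913 C)

theorem f10915 : C.T (v18 C) [15, 31, 51, 82, 100, 110, 121] (v18 C) [21, 32, 59, 82, 92, 113] :=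
  C.conv (f8680 C) (f6836 C) (f6836 C) _ [136, 153, 170, 177] _ (by decide +kernel) (by decide +kernel) (by decide +kernel)

theorem f10916 : C.T (v18 C) [21, 32, 59, 82, 92, 113] (v18 C) [15, 31, 51, 82, 100, 110, 121] :=
  C.flip (f10915 C)

theorem f10917 : C.T (v18 C) [10, 40, 60, 73, 99, 109, 112] (v18 C) [10, 29, 85, 92, 121] :=
  C.closeT (p := (v3 C)) (pu := [21, 27, 60, 74, 98, 120])
    (C.pT (f10912 C)
    (C.pH [8, 30, 65, 84, 94, 117] [10, 40, 60, 73, 99, 109, 112] (by decide +kernel) (C.pNil _ _)))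
    (C.pH [26, 38, 54, 89, 90, 113] [21, 32, 59, 82, 92, 113] (by decide +kernel)
    (C.pT (f10916 C)
    (C.pH [8, 30, 65, 84, 94, 117] [19, 34, 79, 98, 110, 111] (by decide +kernel)
    (C.pT (f10914 C)
    (C.pH [26, 38, 54, 89, 90, 113] [21, 27, 60, 74, 98, 120] (by decide +kernel) (C.pNil _ _))))))
    (C.loop_of_one (relLoop1 C) _ _)

theorem f10918 : C.T (v18 C) [10, 29, 85, 92, 121] (v18 C) [10, 40, 60, 73, 99, 109, 112] :=
  C.flip (f10917 C)

theorem f10919 : C.T (v3 C) [26, 44, 58, 76, 104, 110, 122] (v18 C) [22, 40, 50, 76, 106, 110, 113] :=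
  C.conv (f6888 C) (f7333 C) (f7333 C) _ [134, 153, 165, 175, 177] _ (by decide +kernel) (by decide +kernel) (by decide +kernel)

theorem f10920 : C.T (v18 C) [6, 44, 60, 111] (v18 C) [14, 36, 51, 80, 100, 110, 111] :=
  C.conv (f10918 C) (f7121 C) (f6836 C) _ [163, 166, 175, 177] _ (by decide +kernel) (by decide +kernel) (by decide +kernel)

theorem f10921 : C.T (v3 C) [44, 64, 74, 109, 121] (v18 C) [26, 46, 58, 79, 95, 109, 119] :=
  C.conv (f6902 C) (f7285 C) (f9372 C) _ [143, 149, 164, 171, 177] _ (by decide +kernel) (by decide +kernel) (by decide +kernel)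

theorem f10922 : C.T (v18 C) [26, 46, 58, 79, 95, 109, 119] (v3 C) [44, 64, 74, 109, 121] :=
  C.flip (f10921 C)

theorem f10923 : C.T (v18 C) [5, 41, 65, 88, 105, 122] (v18 C) [19, 41, 74, 106, 125] :=
  C.closeT (p := (v3 C)) (pu := [26, 44, 58, 76, 104, 110, 122])
    (C.pT (f10919 C)
    (C.pH [8, 30, 65, 84, 94, 117] [6, 44, 60, 111] (by decide +kernel)
    (C.pT (f10920 C)
    (C.pH [26, 38, 54, 89, 90, 113] [5, 41, 65, 88, 105, 122] (by decide +kernel) (C.pNil _ _)))))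
    (C.pH [8, 30, 65, 84, 94, 117] [26, 46, 58, 79, 95, 109, 119] (by decide +kernel)
    (C.pT (f10922 C)
    (C.pH [26, 38, 54, 89, 90, 113] [26, 44, 58, 76, 104, 110, 122] (by decide +kernel) (C.pNil _ _))))
    (C.loop_of_one (relLoop1 C) _ _)

theorem f10926 : C.T (v3 C) [8, 31, 64, 73, 105, 110, 114] (v18 C) [10, 36, 67, 73, 96, 109, 113] :=
  C.conv (f6888 C) (f7333 C) (f7333 C) _ [147, 149, 167, 177] _ (by decide +kernel) (by decide +kernel) (by decide +kernel)

theorem f10927 : C.S (v3 C) [13, 45, 62, 78, 97, 110, 120] :=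
  C.stMul (f328 C) (f9580 C) _ (by decide +kernel)

theorem f10928 : C.S (v3 C) [8, 44, 66, 72, 107, 109, 116] :=
  C.stMul (f331 C) (f10927 C) _ (by decide +kernel)

theorem f10929 : C.T (v3 C) [5, 33, 57, 72, 100, 111] (v17 C) [25, 32, 68, 85, 104, 109, 118] :=
  C.conv (f6828 C) (f9427 C) (f10928 C) _ [135, 156, 167, 173] _ (by decide +kernel) (by decide +kernel) (by decide +kernel)

theorem f10930 : C.T (v17 C) [25, 32, 68, 85, 104, 109, 118] (v3 C) [5, 33, 57, 72, 100, 111] :=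
  C.flip (f10929 C)

theorem f10931 : C.S (v17 C) [23, 31, 49, 84, 96, 117] :=
  C.stMul (f4137 C) (f4137 C) _ (by decide +kernel)

theorem f10932 : C.T (v17 C) [4, 27, 51, 74, 101, 109, 115] (v18 C) [26, 48, 61, 71, 104, 110, 111] :=
  C.conv (f9356 C) (f10931 C) (f4137 C) _ [144, 157, 165, 176] _ (by decide +kernel) (by decide +kernel) (by decide +kernel)

theorem f10933 : C.T (v18 C) [26, 48, 61, 71, 104, 110, 111] (v17 C) [4, 27, 51, 74, 101, 109, 115] :=
  C.flip (f10932 C)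

theorem f10934 : C.T (v18 C) [15, 41, 61, 83, 94, 109, 114] (v18 C) [46, 69, 88, 102, 109, 114] :=
  C.closeT (p := (v3 C)) (pu := [8, 31, 64, 73, 105, 110, 114])
    (C.pT (f10926 C)
    (C.pH [8, 30, 65, 84, 94, 117] [15, 41, 61, 83, 94, 109, 114] (by decide +kernel) (C.pNil _ _)))
    (C.pH [26, 38, 54, 89, 90, 113] [26, 48, 61, 71, 104, 110, 111] (by decide +kernel)
    (C.pT (f10933 C)
    (C.pH [8, 30, 65, 84, 94, 117] [25, 32, 68, 85, 104, 109, 118] (by decide +kernel)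
    (C.pT (f10930 C)
    (C.pH [26, 38, 54, 89, 90, 113] [8, 31, 64, 73, 105, 110, 114] (by decide +kernel) (C.pNil _ _))))))
    (C.loop_of_one (relLoop1 C) _ _)

theorem f10935 : C.T (v18 C) [46, 69, 88, 102, 109, 114] (v18 C) [15, 41, 61, 83, 94, 109, 114] :=
  C.flip (f10934 C)

theorem f10936 : C.T (v3 C) [19, 29, 73, 94, 110, 118] (v18 C) [22, 32, 56, 76, 110, 119] :=
  C.conv (f6888 C) (f7333 C) (f7333 C) _ [134, 161, 166, 174, 177] _ (by decide +kernel) (by decide +kernel) (by decide +kernel)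

theorem f10937 : C.S (v3 C) [9, 35, 69, 77, 96, 110, 118] :=
  C.stMul (f353 C) (f10158 C) _ (by decide +kernel)

theorem f10938 : C.S (v3 C) [15, 44, 63, 84, 96, 110, 125] :=
  C.stMul (f331 C) (f10937 C) _ (by decide +kernel)

theorem f10939 : C.T (v3 C) [22, 32, 54, 78, 108, 110, 113] (v18 C) [15, 39, 57, 79, 106, 125] :=
  C.conv (f9184 C) (f9232 C) (f10938 C) _ [148, 170, 171, 178] _ (by decide +kernel) (by decide +kernel) (by decide +kernel)

theorem f10940 : C.T (v18 C) [15, 39, 57, 79, 106, 125] (v3 C) [22, 32, 54, 78, 108, 110, 113] :=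
  C.flip (f10939 C)

theorem f10941 : C.T (v18 C) [10, 48, 62, 70, 98, 123] (v16 C) [24, 46, 68, 89, 96, 115] :=
  C.conv (f8308 C) (f7121 C) (f7121 C) _ [126, 158, 164, 171, 178] _ (by decide +kernel) (by decide +kernel) (by decide +kernel)

theorem f10942 : C.T (v16 C) [24, 46, 68, 89, 96, 115] (v18 C) [10, 48, 62, 70, 98, 123] :=
  C.flip (f10941 C)

theorem f10943 : C.T (v18 C) [6, 47, 56, 82, 97, 109, 121] (v16 C) [11, 33, 57, 79, 104, 109] :=
  C.closeT (p := (v3 C)) (pu := [19, 29, 73, 94, 110, 118])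
    (C.pT (f10936 C)
    (C.pH [8, 30, 65, 84, 94, 117] [6, 47, 56, 82, 97, 109, 121] (by decide +kernel) (C.pNil _ _)))
    (C.pH [26, 38, 54, 89, 90, 113] [24, 46, 68, 89, 96, 115] (by decide +kernel)
    (C.pT (f10942 C)
    (C.pH [8, 30, 65, 84, 94, 117] [15, 39, 57, 79, 106, 125] (by decide +kernel)
    (C.pT (f10940 C)
    (C.pH [26, 38, 54, 89, 90, 113] [19, 29, 73, 94, 110, 118] (by decide +kernel) (C.pNil _ _))))))
    (C.loop_of_one (relLoop1 C) _ _)

theorem f10944 : C.T (v16 C) [11, 33, 57, 79, 104, 109] (v18 C) [6, 47, 56, 82, 97, 109, 121] :=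
  C.flip (f10943 C)

theorem f10945 : C.T (v3 C) [10, 44, 64, 79, 93, 109, 122] (v18 C) [26, 32, 65, 81, 102, 113] :=
  C.conv (f6888 C) (f7333 C) (f7333 C) _ [137, 159, 170, 177] _ (by decide +kernel) (by decide +kernel) (by decide +kernel)

theorem f10946 : C.T (v3 C) [18, 34, 52, 76, 91, 109, 113] (v18 C) [10, 28, 58, 70, 101, 110, 111] :=
  C.conv (f6916 C) (f7402 C) (f10008 C) _ [138, 157, 165, 173, 178] _ (by decide +kernel) (by decide +kernel) (by decide +kernel)

theorem f10947 : C.T (v18 C) [10, 28, 58, 70, 101, 110, 111] (v3 C) [18, 34, 52, 76, 91, 109, 113] :=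
  C.flip (f10946 C)

theorem f10948 : C.S (v18 C) [26, 43, 49, 77, 91, 110, 115] :=
  C.stMul (f6836 C) (f6836 C) _ (by decide +kernel)

theorem f10949 : C.T (v18 C) [23, 55, 77, 104, 115] (v17 C) [5, 48, 56, 70, 109, 117] :=
  C.conv (f10628 C) (f7121 C) (f10948 C) _ [138, 154, 165] _ (by decide +kernel) (by decide +kernel) (by decide +kernel)

theorem f10950 : C.T (v17 C) [5, 48, 56, 70, 109, 117] (v18 C) [23, 55, 77, 104, 115] :=
  C.flip (f10949 C)

theorem f10951 : C.T (v18 C) [14, 40, 52, 81, 107, 109, 122] (v17 C) [14, 33, 89, 92, 120] :=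
  C.closeT (p := (v3 C)) (pu := [10, 44, 64, 79, 93, 109, 122])
    (C.pT (f10945 C)
    (C.pH [8, 30, 65, 84, 94, 117] [14, 40, 52, 81, 107, 109, 122] (by decide +kernel) (C.pNil _ _)))
    (C.pH [26, 38, 54, 89, 90, 113] [5, 48, 56, 70, 109, 117] (by decide +kernel)
    (C.pT (f10950 C)
    (C.pH [8, 30, 65, 84, 94, 117] [10, 28, 58, 70, 101, 110, 111] (by decide +kernel)
    (C.pT (f10947 C)
    (C.pH [26, 38, 54, 89, 90, 113] [10, 44, 64, 79, 93, 109, 122] (by decide +kernel) (C.pNil _ _))))))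
    (C.loop_of_one (relLoop1 C) _ _)

theorem f10952 : C.T (v17 C) [14, 33, 89, 92, 120] (v18 C) [14, 40, 52, 81, 107, 109, 122] :=
  C.flip (f10951 C)

theorem f10953 : C.T (v3 C) [13, 47, 67, 86, 97, 120] (v18 C) [12, 33, 64, 84, 97, 125] :=
  C.conv (f6888 C) (f7333 C) (f7333 C) _ [142, 160, 166, 176] _ (by decide +kernel) (by decide +kernel) (by decide +kernel)

theorem f10954 : C.T (v3 C) [16, 45, 50, 80, 104, 125] (v18 C) [20, 40, 65, 88, 96, 110, 118] :=
  C.conv (f6888 C) (f7333 C) (f9958 C) _ [133, 156, 166, 172, 178] _ (by decide +kernel) (by decide +kernel) (by decide +kernel)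

theorem f10955 : C.T (v18 C) [20, 40, 65, 88, 96, 110, 118] (v3 C) [16, 45, 50, 80, 104, 125] :=
  C.flip (f10954 C)

theorem f10956 : C.S (v18 C) [26, 43, 49, 77, 91, 110, 115] :=
  C.stMul (f6836 C) (f6836 C) _ (by decide +kernel)

theorem f10957 : C.T (v18 C) [16, 32, 55, 81, 107, 109, 123] (v18 C) [12, 34, 65, 78, 90, 110, 120] :=
  C.conv (f9534 C) (f10956 C) (f7121 C) _ [145, 163, 164, 173] _ (by decide +kernel) (by decide +kernel) (by decide +kernel)

theorem f10958 : C.T (v18 C) [12, 34, 65, 78, 90, 110, 120] (v18 C) [16, 32, 55, 81, 107, 109, 123] :=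
  C.flip (f10957 C)

theorem f10959 : C.T (v18 C) [21, 27, 63, 88, 96, 109, 112] (v18 C) [24, 28, 49, 87, 91, 111] :=
  C.closeT (p := (v3 C)) (pu := [13, 47, 67, 86, 97, 120])
    (C.pT (f10953 C)
    (C.pH [8, 30, 65, 84, 94, 117] [21, 27, 63, 88, 96, 109, 112] (by decide +kernel) (C.pNil _ _)))
    (C.pH [26, 38, 54, 89, 90, 113] [12, 34, 65, 78, 90, 110, 120] (by decide +kernel)
    (C.pT (f10958 C)
    (C.pH [8, 30, 65, 84, 94, 117] [20, 40, 65, 88, 96, 110, 118] (by decide +kernel)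
    (C.pT (f10955 C)
    (C.pH [26, 38, 54, 89, 90, 113] [13, 47, 67, 86, 97, 120] (by decide +kernel) (C.pNil _ _))))))
    (C.loop_of_one (relLoop1 C) _ _)

theorem f10960 : C.T (v18 C) [24, 28, 49, 87, 91, 111] (v18 C) [21, 27, 63, 88, 96, 109, 112] :=
  C.flip (f10959 C)

theorem f10961 : C.T (v3 C) [16, 45, 62, 81, 108, 110, 123] (v18 C) [10, 38, 54, 76, 106, 110, 122] :=
  C.conv (f6888 C) (f7333 C) (f7333 C) _ [131, 158, 168, 173, 178] _ (by decide +kernel) (by decide +kernel) (by decide +kernel)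

theorem f10962 : C.T (v18 C) [15, 46, 53, 87, 96, 109, 114] (v17 C) [11, 43, 51, 89, 106, 110, 112] :=
  C.conv (f9325 C) (f7121 C) (f6836 C) _ [145, 160, 166, 175, 178] _ (by decide +kernel) (by decide +kernel) (by decide +kernel)

end CfsgLib.J4Index
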