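import Cfsg.Agent.Lib.J4Index.Facts10

/-!
# Derived equations (generated)
-/

set_option autoImplicit false
set_option maxRecDepth 100000
set_option linter.style.longLine false

namespace CfsgLib.J4Index

variable {G X : Type} [Group G] [MulAction G X] (C : Ctx G X)

theorem f10963 : C.T (v3 C) [26, 42, 50, 100, 111] (v18 C) [25, 51, 70, 93, 110, 121] :=
  C.conv (f8216 C) (f8435 C) (f10148 C) _ [146, 152, 165, 175, 177] _ (by decide +kernel) (by decide +kernel) (by decide +kernel)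

theorem f10964 : C.T (v18 C) [25, 51, 70, 93, 110, 121] (v3 C) [26, 42, 50, 100, 111] :=
  C.flip (f10963 C)

theorem f10965 : C.T (v17 C) [24, 43, 60, 81, 91, 109, 123] (v18 C) [4, 35, 66, 78, 103, 113] :=
  C.closeT (p := (v3 C)) (pu := [16, 45, 62, 81, 108, 110, 123])
    (C.pT (f10961 C)
    (C.pH [8, 30, 65, 84, 94, 117] [15, 46, 53, 87, 96, 109, 114] (by decide +kernel)
    (C.pT (f10962 C)
    (C.pH [26, 38, 54, 89, 90, 113] [24, 43, 60, 81, 91, 109, 123] (by decide +kernel) (C.pNil _ _)))))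
    (C.pH [8, 30, 65, 84, 94, 117] [25, 51, 70, 93, 110, 121] (by decide +kernel)
    (C.pT (f10964 C)
    (C.pH [26, 38, 54, 89, 90, 113] [16, 45, 62, 81, 108, 110, 123] (by decide +kernel) (C.pNil _ _))))
    (C.loop_of_one (relLoop1 C) _ _)

theorem f10966 : C.T (v18 C) [4, 35, 66, 78, 103, 113] (v17 C) [24, 43, 60, 81, 91, 109, 123] :=
  C.flip (f10965 C)

theorem f10967 : C.T (v3 C) [21, 48, 65, 79, 103, 110, 118] (v18 C) [18, 47, 56, 85, 106, 110, 124] :=
  C.conv (f6888 C) (f7333 C) (f7333 C) _ [134, 158, 178] _ (by decide +kernel) (by decide +kernel) (by decide +kernel)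

theorem f10968 : C.S (v3 C) [10, 27, 53, 86, 103, 122] :=
  C.stMul (f353 C) (f10356 C) _ (by decide +kernel)

theorem f10969 : C.T (v3 C) [10, 45, 56, 86, 108, 109, 116] (v15 C) [23, 42, 54, 75, 108, 118] :=
  C.conv (f3166 C) (f3236 C) (f10968 C) _ [136, 160, 170, 174, 177] _ (by decide +kernel) (by decide +kernel) (by decide +kernel)

theorem f10970 : C.T (v15 C) [23, 42, 54, 75, 108, 118] (v3 C) [10, 45, 56, 86, 108, 109, 116] :=
  C.flip (f10969 C)

theorem f10971 : C.S (v15 C) [24, 47, 64, 83, 99, 109, 111] :=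
  C.stMul (f2581 C) (f2569 C) _ (by decide +kernel)

theorem f10972 : C.S (v15 C) [20, 45, 65, 78, 96, 109, 125] :=
  C.stMul (f2565 C) (f2581 C) _ (by decide +kernel)

theorem f10973 : C.T (v15 C) [20, 46, 55, 87, 92, 117] (v15 C) [7, 29, 53, 76, 95, 125] :=
  C.conv (f2989 C) (f10971 C) (f10972 C) _ [136, 162, 167, 172, 177] _ (by decide +kernel) (by decide +kernel) (by decide +kernel)

theorem f10974 : C.T (v15 C) [7, 29, 53, 76, 95, 125] (v15 C) [20, 46, 55, 87, 92, 117] :=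
  C.flip (f10973 C)

theorem f10975 : C.T (v18 C) [4, 29, 54, 74, 90, 109, 111] (v15 C) [23, 31, 60, 82, 91] :=
  C.closeT (p := (v3 C)) (pu := [21, 48, 65, 79, 103, 110, 118])
    (C.pT (f10967 C)
    (C.pH [8, 30, 65, 84, 94, 117] [4, 29, 54, 74, 90, 109, 111] (by decide +kernel) (C.pNil _ _)))
    (C.pH [26, 38, 54, 89, 90, 113] [7, 29, 53, 76, 95, 125] (by decide +kernel)
    (C.pT (f10974 C)
    (C.pH [8, 30, 65, 84, 94, 117] [23, 42, 54, 75, 108, 118] (by decide +kernel)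
    (C.pT (f10970 C)
    (C.pH [26, 38, 54, 89, 90, 113] [21, 48, 65, 79, 103, 110, 118] (by decide +kernel) (C.pNil _ _))))))
    (C.loop_of_one (relLoop1 C) _ _)

theorem f10976 : C.T (v15 C) [23, 31, 60, 82, 91] (v18 C) [4, 29, 54, 74, 90, 109, 111] :=
  C.flip (f10975 C)

theorem f10977 : C.T (v3 C) [13, 47, 49, 77, 98, 110, 113] (v18 C) [20, 34, 57, 72, 92, 115] :=
  C.conv (f6888 C) (f7333 C) (f7333 C) _ [144, 153, 164, 172, 178] _ (by decide +kernel) (by decide +kernel) (by decide +kernel)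

theorem f10978 : C.S (v3 C) [15, 40, 50, 78, 92, 118] :=
  C.stMul (f328 C) (f8121 C) _ (by decide +kernel)

theorem f10979 : C.T (v3 C) [16, 45, 54, 88, 93, 110, 124] (v18 C) [15, 63, 77, 104, 124] :=
  C.conv (f6888 C) (f7333 C) (f10978 C) _ [148, 163, 167, 173, 177] _ (by decide +kernel) (by decide +kernel) (by decide +kernel)

theorem f10980 : C.T (v18 C) [15, 63, 77, 104, 124] (v3 C) [16, 45, 54, 88, 93, 110, 124] :=
  C.flip (f10979 C)

theorem f10981 : C.S (v18 C) [26, 43, 49, 77, 91, 110, 115] :=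
  C.stMul (f6836 C) (f6836 C) _ (by decide +kernel)

theorem f10982 : C.T (v18 C) [10, 47, 52, 81, 91, 110] (v18 C) [20, 41, 67, 72, 90, 114] :=
  C.conv (f9511 C) (f10981 C) (f7121 C) _ [137, 152, 167, 174] _ (by decide +kernel) (by decide +kernel) (by decide +kernel)

theorem f10983 : C.T (v18 C) [20, 41, 67, 72, 90, 114] (v18 C) [10, 47, 52, 81, 91, 110] :=
  C.flip (f10982 C)

theorem f10984 : C.T (v18 C) [23, 45, 66, 78, 100, 110, 119] (v18 C) [17, 35, 66, 84, 108, 109, 120] :=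
  C.closeT (p := (v3 C)) (pu := [13, 47, 49, 77, 98, 110, 113])
    (C.pT (f10977 C)
    (C.pH [8, 30, 65, 84, 94, 117] [23, 45, 66, 78, 100, 110, 119] (by decide +kernel) (C.pNil _ _)))
    (C.pH [26, 38, 54, 89, 90, 113] [20, 41, 67, 72, 90, 114] (by decide +kernel)
    (C.pT (f10983 C)
    (C.pH [8, 30, 65, 84, 94, 117] [15, 63, 77, 104, 124] (by decide +kernel)
    (C.pT (f10980 C)
    (C.pH [26, 38, 54, 89, 90, 113] [13, 47, 49, 77, 98, 110, 113] (by decide +kernel) (C.pNil _ _))))))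
    (C.loop_of_one (relLoop1 C) _ _)

theorem f10987 : C.T (v3 C) [10, 30, 55, 86, 110, 118] (v18 C) [17, 43, 67, 81, 93, 124] :=
  C.conv (f6902 C) (f7285 C) (f7285 C) _ [145, 149, 167, 178] _ (by decide +kernel) (by decide +kernel) (by decide +kernel)

theorem f10988 : C.S (v3 C) [7, 29, 51, 83, 103, 109, 117] :=
  C.stMul (f335 C) (f335 C) _ (by decide +kernel)

theorem f10989 : C.S (v3 C) [10, 48, 60, 84, 100, 110, 123] :=
  C.stMul (f353 C) (f10988 C) _ (by decide +kernel)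

theorem f10990 : C.T (v3 C) [18, 31, 66, 87, 104, 110, 124] (v17 C) [14, 39, 58, 81, 93, 121] :=
  C.conv (f6822 C) (f7297 C) (f10989 C) _ [137, 157, 176, 177] _ (by decide +kernel) (by decide +kernel) (by decide +kernel)

theorem f10991 : C.T (v17 C) [14, 39, 58, 81, 93, 121] (v3 C) [18, 31, 66, 87, 104, 110, 124] :=
  C.flip (f10990 C)

theorem f10992 : C.S (v17 C) [23, 31, 49, 84, 96, 117] :=
  C.stMul (f4137 C) (f4137 C) _ (by decide +kernel)

theorem f10993 : C.T (v17 C) [26, 31, 62, 76, 107, 114] (v15 C) [21, 48, 53, 83, 103] :=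
  C.conv (f5541 C) (f4132 C) (f10992 C) _ [136, 152, 167, 174, 177] _ (by decide +kernel) (by decide +kernel) (by decide +kernel)

theorem f10994 : C.T (v15 C) [21, 48, 53, 83, 103] (v17 C) [26, 31, 62, 76, 107, 114] :=
  C.flip (f10993 C)

theorem f10995 : C.T (v18 C) [22, 45, 58, 74, 97, 109, 123] (v15 C) [10, 45, 89, 99, 109, 114] :=
  C.closeT (p := (v3 C)) (pu := [10, 30, 55, 86, 110, 118])
    (C.pT (f10987 C)
    (C.pH [8, 30, 65, 84, 94, 117] [22, 45, 58, 74, 97, 109, 123] (by decide +kernel) (C.pNil _ _)))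
    (C.pH [26, 38, 54, 89, 90, 113] [21, 48, 53, 83, 103] (by decide +kernel)
    (C.pT (f10994 C)
    (C.pH [8, 30, 65, 84, 94, 117] [14, 39, 58, 81, 93, 121] (by decide +kernel)
    (C.pT (f10991 C)
    (C.pH [26, 38, 54, 89, 90, 113] [10, 30, 55, 86, 110, 118] (by decide +kernel) (C.pNil _ _))))))
    (C.loop_of_one (relLoop1 C) _ _)

theorem f10996 : C.T (v15 C) [10, 45, 89, 99, 109, 114] (v18 C) [22, 45, 58, 74, 97, 109, 123] :=
  C.flip (f10995 C)

theorem f10997 : C.T (v3 C) [20, 37, 67, 75, 105, 110, 117] (v18 C) [5, 30, 66, 77, 102, 110, 114] :=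
  C.conv (f6902 C) (f7285 C) (f7285 C) _ [128, 152, 168, 173] _ (by decide +kernel) (by decide +kernel) (by decide +kernel)

theorem f10998 : C.T (v18 C) [12, 31, 54, 83, 102, 110, 115] (v17 C) [4, 30, 52, 102, 109, 117] :=
  C.conv (f10838 C) (f7121 C) (f7121 C) _ [139, 156, 169] _ (by decide +kernel) (by decide +kernel) (by decide +kernel)

theorem f10999 : C.S (v3 C) [5, 38, 50, 82, 105, 109, 122] :=
  C.stMul (f353 C) (f9955 C) _ (by decide +kernel)

theorem f11000 : C.S (v3 C) [17, 40, 55, 75, 96, 110, 124] :=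
  C.stMul (f335 C) (f10999 C) _ (by decide +kernel)

theorem f11001 : C.T (v3 C) [17, 28, 51, 89, 97, 109, 115] (v18 C) [8, 37, 66, 70, 95, 109, 125] :=
  C.conv (f6888 C) (f7333 C) (f11000 C) _ [139, 160, 166, 175, 178] _ (by decide +kernel) (by decide +kernel) (by decide +kernel)

theorem f11002 : C.T (v18 C) [8, 37, 66, 70, 95, 109, 125] (v3 C) [17, 28, 51, 89, 97, 109, 115] :=
  C.flip (f11001 C)

theorem f11003 : C.T (v17 C) [25, 42, 57, 76, 105, 111] (v18 C) [34, 67, 79, 101, 109, 116] :=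
  C.closeT (p := (v3 C)) (pu := [20, 37, 67, 75, 105, 110, 117])
    (C.pT (f10997 C)
    (C.pH [8, 30, 65, 84, 94, 117] [12, 31, 54, 83, 102, 110, 115] (by decide +kernel)
    (C.pT (f10998 C)
    (C.pH [26, 38, 54, 89, 90, 113] [25, 42, 57, 76, 105, 111] (by decide +kernel) (C.pNil _ _)))))
    (C.pH [8, 30, 65, 84, 94, 117] [8, 37, 66, 70, 95, 109, 125] (by decide +kernel)
    (C.pT (f11002 C)
    (C.pH [26, 38, 54, 89, 90, 113] [20, 37, 67, 75, 105, 110, 117] (by decide +kernel) (C.pNil _ _))))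
    (C.loop_of_one (relLoop1 C) _ _)

theorem f11004 : C.T (v18 C) [34, 67, 79, 101, 109, 116] (v17 C) [25, 42, 57, 76, 105, 111] :=
  C.flip (f11003 C)

theorem f11005 : C.T (v3 C) [7, 44, 55, 71, 108, 118] (v18 C) [13, 39, 53, 71, 104, 109, 123] :=
  C.conv (f6902 C) (f7285 C) (f7285 C) _ [136, 163, 164, 176] _ (by decide +kernel) (by decide +kernel) (by decide +kernel)

theorem f11006 : C.S (v3 C) [10, 28, 62, 78, 98, 110, 120] :=
  C.stMul (f328 C) (f335 C) _ (by decide +kernel)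

theorem f11007 : C.S (v3 C) [20, 30, 59, 75, 96, 110, 111] :=
  C.stMul (f353 C) (f11006 C) _ (by decide +kernel)

theorem f11008 : C.S (v3 C) [18, 42, 59, 74, 99, 110, 112] :=
  C.stMul (f331 C) (f11007 C) _ (by decide +kernel)

theorem f11009 : C.S (v3 C) [6, 30, 52, 70, 107, 110, 116] :=
  C.stMul (f335 C) (f11008 C) _ (by decide +kernel)

theorem f11010 : C.T (v3 C) [23, 36, 55, 88, 96, 109, 114] (v18 C) [11, 33, 59, 85, 90, 109, 115] :=
  C.conv (f6902 C) (f7285 C) (f11009 C) _ [135, 150, 166, 173, 178] _ (by decide +kernel) (by decide +kernel) (by decide +kernel)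

theorem f11011 : C.T (v18 C) [11, 33, 59, 85, 90, 109, 115] (v3 C) [23, 36, 55, 88, 96, 109, 114] :=
  C.flip (f11010 C)

theorem f11012 : C.T (v18 C) [13, 32, 49, 82, 108, 109, 121] (v18 C) [25, 27, 49, 70, 108, 110, 116] :=
  C.conv (f7821 C) (f7823 C) (f7823 C) _ [142, 158] _ (by decide +kernel) (by decide +kernel) (by decide +kernel)

theorem f11013 : C.T (v18 C) [25, 27, 49, 70, 108, 110, 116] (v18 C) [13, 32, 49, 82, 108, 109, 121] :=
  C.flip (f11012 C)

theorem f11014 : C.T (v18 C) [11, 42, 58, 70, 105] (v18 C) [4, 39, 57, 72, 105, 109, 113] :=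
  C.closeT (p := (v3 C)) (pu := [7, 44, 55, 71, 108, 118])
    (C.pT (f11005 C)
    (C.pH [8, 30, 65, 84, 94, 117] [11, 42, 58, 70, 105] (by decide +kernel) (C.pNil _ _)))
    (C.pH [26, 38, 54, 89, 90, 113] [25, 27, 49, 70, 108, 110, 116] (by decide +kernel)
    (C.pT (f11013 C)
    (C.pH [8, 30, 65, 84, 94, 117] [11, 33, 59, 85, 90, 109, 115] (by decide +kernel)
    (C.pT (f11011 C)
    (C.pH [26, 38, 54, 89, 90, 113] [7, 44, 55, 71, 108, 118] (by decide +kernel) (C.pNil _ _))))))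
    (C.loop_of_one (relLoop1 C) _ _)

theorem f11015 : C.T (v18 C) [4, 39, 57, 72, 105, 109, 113] (v18 C) [11, 42, 58, 70, 105] :=
  C.flip (f11014 C)

theorem f11016 : C.T (v3 C) [22, 40, 54, 71, 106, 110, 114] (v18 C) [14, 35, 53, 93, 125] :=
  C.conv (f6902 C) (f7285 C) (f7285 C) _ [147, 152] _ (by decide +kernel) (by decide +kernel) (by decide +kernel)

theorem f11017 : C.S (v18 C) [26, 43, 49, 77, 91, 110, 115] :=
  C.stMul (f6836 C) (f6836 C) _ (by decide +kernel)

theorem f11018 : C.T (v18 C) [5, 68, 86, 92, 109, 117] (v17 C) [13, 36, 52, 82, 101] :=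
  C.conv (f8196 C) (f6836 C) (f11017 C) _ [137, 155] _ (by decide +kernel) (by decide +kernel) (by decide +kernel)

theorem f11019 : C.S (v3 C) [10, 28, 62, 78, 98, 110, 120] :=
  C.stMul (f328 C) (f335 C) _ (by decide +kernel)

theorem f11020 : C.S (v3 C) [5, 30, 57, 77, 122] :=
  C.stMul (f331 C) (f11019 C) _ (by decide +kernel)

theorem f11021 : C.S (v3 C) [19, 35, 61, 76, 100] :=
  C.stMul (f353 C) (f11020 C) _ (by decide +kernel)

theorem f11022 : C.T (v3 C) [9, 46, 56, 74, 93, 109, 112] (v18 C) [14, 42, 67, 89, 95, 109, 114] :=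
  C.conv (f9184 C) (f9232 C) (f11021 C) _ [139, 149, 165, 174] _ (by decide +kernel) (by decide +kernel) (by decide +kernel)

theorem f11023 : C.T (v18 C) [14, 42, 67, 89, 95, 109, 114] (v3 C) [9, 46, 56, 74, 93, 109, 112] :=
  C.flip (f11022 C)

theorem f11024 : C.T (v17 C) [23, 39, 58, 72, 97, 109, 125] (v18 C) [26, 33, 59, 83, 98, 109, 112] :=
  C.closeT (p := (v3 C)) (pu := [22, 40, 54, 71, 106, 110, 114])
    (C.pT (f11016 C)
    (C.pH [8, 30, 65, 84, 94, 117] [5, 68, 86, 92, 109, 117] (by decide +kernel)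
    (C.pT (f11018 C)
    (C.pH [26, 38, 54, 89, 90, 113] [23, 39, 58, 72, 97, 109, 125] (by decide +kernel) (C.pNil _ _)))))
    (C.pH [8, 30, 65, 84, 94, 117] [14, 42, 67, 89, 95, 109, 114] (by decide +kernel)
    (C.pT (f11023 C)
    (C.pH [26, 38, 54, 89, 90, 113] [22, 40, 54, 71, 106, 110, 114] (by decide +kernel) (C.pNil _ _))))
    (C.loop_of_one (relLoop1 C) _ _)

theorem f11025 : C.T (v18 C) [26, 33, 59, 83, 98, 109, 112] (v17 C) [23, 39, 58, 72, 97, 109, 125] :=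
  C.flip (f11024 C)

theorem f11026 : C.T (v3 C) [26, 29, 52, 78, 105, 109, 118] (v18 C) [4, 29, 55, 78, 92, 110, 118] :=
  C.conv (f6902 C) (f7285 C) (f7285 C) _ [142, 163, 169, 174] _ (by decide +kernel) (by decide +kernel) (by decide +kernel)

theorem f11027 : C.S (v18 C) [26, 43, 49, 77, 91, 110, 115] :=
  C.stMul (f6836 C) (f6836 C) _ (by decide +kernel)

theorem f11028 : C.T (v18 C) [25, 44, 58, 84, 98, 109] (v18 C) [24, 44, 54, 76, 106, 110, 117] :=
  C.conv (f8131 C) (f11027 C) (f7121 C) _ [159, 165, 173] _ (by decide +kernel) (by decide +kernel) (by decide +kernel)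

theorem f11029 : C.S (v3 C) [23, 39, 56, 73, 96, 113] :=
  C.stMul (f331 C) (f9714 C) _ (by decide +kernel)

theorem f11030 : C.T (v3 C) [37, 83, 96, 120] (v18 C) [12, 29, 51, 73, 98, 125] :=
  C.conv (f7327 C) (f7806 C) (f11029 C) _ [132, 158, 166, 175] _ (by decide +kernel) (by decide +kernel) (by decide +kernel)

theorem f11031 : C.T (v18 C) [12, 29, 51, 73, 98, 125] (v3 C) [37, 83, 96, 120] :=
  C.flip (f11030 C)

theorem f11032 : C.T (v18 C) [12, 48, 59, 73, 93, 110, 111] (v18 C) [5, 43, 49, 79, 101, 109, 117] :=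
  C.closeT (p := (v3 C)) (pu := [26, 29, 52, 78, 105, 109, 118])
    (C.pT (f11026 C)
    (C.pH [8, 30, 65, 84, 94, 117] [25, 44, 58, 84, 98, 109] (by decide +kernel)
    (C.pT (f11028 C)
    (C.pH [26, 38, 54, 89, 90, 113] [12, 48, 59, 73, 93, 110, 111] (by decide +kernel) (C.pNil _ _)))))
    (C.pH [8, 30, 65, 84, 94, 117] [12, 29, 51, 73, 98, 125] (by decide +kernel)
    (C.pT (f11031 C)
    (C.pH [26, 38, 54, 89, 90, 113] [26, 29, 52, 78, 105, 109, 118] (by decide +kernel) (C.pNil _ _))))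
    (C.loop_of_one (relLoop1 C) _ _)

theorem f11033 : C.T (v18 C) [5, 43, 49, 79, 101, 109, 117] (v18 C) [12, 48, 59, 73, 93, 110, 111] :=
  C.flip (f11032 C)

theorem f11034 : C.T (v3 C) [24, 27, 64, 76, 91, 124] (v18 C) [15, 45, 53, 83, 105, 109, 114] :=
  C.conv (f6902 C) (f7285 C) (f7285 C) _ [140, 150, 168, 175] _ (by decide +kernel) (by decide +kernel) (by decide +kernel)

theorem f11035 : C.S (v3 C) [10, 28, 62, 78, 98, 110, 120] :=
  C.stMul (f328 C) (f335 C) _ (by decide +kernel)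

theorem f11036 : C.S (v3 C) [5, 30, 57, 77, 122] :=
  C.stMul (f331 C) (f11035 C) _ (by decide +kernel)

theorem f11037 : C.S (v3 C) [19, 35, 61, 76, 100] :=
  C.stMul (f353 C) (f11036 C) _ (by decide +kernel)

theorem f11038 : C.T (v3 C) [11, 35, 66, 89, 99, 110, 123] (v15 C) [9, 39, 64, 88, 94, 109, 111] :=
  C.conv (f3166 C) (f3236 C) (f11037 C) _ [148, 160, 166, 172, 178] _ (by decide +kernel) (by decide +kernel) (by decide +kernel)

theorem f11039 : C.T (v15 C) [9, 39, 64, 88, 94, 109, 111] (v3 C) [11, 35, 66, 89, 99, 110, 123] :=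
  C.flip (f11038 C)

theorem f11040 : C.S (v15 C) [25, 47, 66, 86, 107, 124] :=
  C.stMul (f2569 C) (f2565 C) _ (by decide +kernel)

theorem f11041 : C.S (v15 C) [20, 39, 55, 88, 95, 110, 125] :=
  C.stMul (f2581 C) (f2565 C) _ (by decide +kernel)

theorem f11042 : C.T (v15 C) [25, 46, 59, 77, 91, 124] (v18 C) [19, 47, 62, 76, 108, 109] :=
  C.conv (f9833 C) (f11040 C) (f11041 C) _ [137, 149, 170, 174, 178] _ (by decide +kernel) (by decide +kernel) (by decide +kernel)

theorem f11043 : C.T (v18 C) [19, 47, 62, 76, 108, 109] (v15 C) [25, 46, 59, 77, 91, 124] :=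
  C.flip (f11042 C)

theorem f11044 : C.T (v18 C) [19, 30, 55, 76, 96, 109, 111] (v18 C) [22, 31, 62, 102, 109, 125] :=
  C.closeT (p := (v3 C)) (pu := [24, 27, 64, 76, 91, 124])
    (C.pT (f11034 C)
    (C.pH [8, 30, 65, 84, 94, 117] [19, 30, 55, 76, 96, 109, 111] (by decide +kernel) (C.pNil _ _)))
    (C.pH [26, 38, 54, 89, 90, 113] [19, 47, 62, 76, 108, 109] (by decide +kernel)
    (C.pT (f11043 C)
    (C.pH [8, 30, 65, 84, 94, 117] [9, 39, 64, 88, 94, 109, 111] (by decide +kernel)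
    (C.pT (f11039 C)
    (C.pH [26, 38, 54, 89, 90, 113] [24, 27, 64, 76, 91, 124] (by decide +kernel) (C.pNil _ _))))))
    (C.loop_of_one (relLoop1 C) _ _)

theorem f11045 : C.T (v18 C) [22, 31, 62, 102, 109, 125] (v18 C) [19, 30, 55, 76, 96, 109, 111] :=
  C.flip (f11044 C)

theorem f11046 : C.T (v3 C) [26, 48, 61, 83, 106, 110, 113] (v18 C) [20, 33, 62, 82, 103, 110] :=
  C.conv (f6902 C) (f7285 C) (f7285 C) _ [132, 152, 170] _ (by decide +kernel) (by decide +kernel) (by decide +kernel)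

theorem f11047 : C.S (v18 C) [26, 43, 49, 77, 91, 110, 115] :=
  C.stMul (f6836 C) (f6836 C) _ (by decide +kernel)

theorem f11048 : C.T (v18 C) [23, 46, 63, 72, 90, 110, 122] (v15 C) [22, 28, 69, 81, 92, 116] :=
  C.conv (f10975 C) (f6836 C) (f11047 C) _ [129, 152, 164, 175, 177] _ (by decide +kernel) (by decide +kernel) (by decide +kernel)

theorem f11049 : C.T (v3 C) [46, 69, 76, 95, 109, 114] (v18 C) [8, 43, 61, 76, 104, 110, 117] :=
  C.conv (f9184 C) (f9232 C) (f10783 C) _ [138, 162, 170, 174, 178] _ (by decide +kernel) (by decide +kernel) (by decide +kernel)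

theorem f11050 : C.T (v18 C) [8, 43, 61, 76, 104, 110, 117] (v3 C) [46, 69, 76, 95, 109, 114] :=
  C.flip (f11049 C)

theorem f11051 : C.T (v15 C) [19, 33, 49, 83, 98, 110, 121] (v18 C) [27, 50, 86, 100, 109, 116] :=
  C.closeT (p := (v3 C)) (pu := [26, 48, 61, 83, 106, 110, 113])
    (C.pT (f11046 C)
    (C.pH [8, 30, 65, 84, 94, 117] [23, 46, 63, 72, 90, 110, 122] (by decide +kernel)
    (C.pT (f11048 C)
    (C.pH [26, 38, 54, 89, 90, 113] [19, 33, 49, 83, 98, 110, 121] (by decide +kernel) (C.pNil _ _)))))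
    (C.pH [8, 30, 65, 84, 94, 117] [8, 43, 61, 76, 104, 110, 117] (by decide +kernel)
    (C.pT (f11050 C)
    (C.pH [26, 38, 54, 89, 90, 113] [26, 48, 61, 83, 106, 110, 113] (by decide +kernel) (C.pNil _ _))))
    (C.loop_of_one (relLoop1 C) _ _)

theorem f11052 : C.T (v18 C) [27, 50, 86, 100, 109, 116] (v15 C) [19, 33, 49, 83, 98, 110, 121] :=
  C.flip (f11051 C)

theorem f11053 : C.T (v3 C) [17, 28, 50, 84, 97, 109, 117] (v18 C) [22, 42, 62, 71, 96, 110, 119] :=
  C.conv (f6902 C) (f7285 C) (f7285 C) _ [126, 157, 164, 172, 178] _ (by decide +kernel) (by decide +kernel) (by decide +kernel)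

theorem f11054 : C.S (v3 C) [24, 43, 51, 89, 106, 110, 114] :=
  C.stMul (f353 C) (f7388 C) _ (by decide +kernel)

theorem f11055 : C.T (v3 C) [19, 46, 68, 84, 103, 110, 115] (v17 C) [21, 40, 66, 82, 91, 115] :=
  C.conv (f6814 C) (f7361 C) (f11054 C) _ [132, 159, 168, 173] _ (by decide +kernel) (by decide +kernel) (by decide +kernel)

theorem f11056 : C.T (v17 C) [21, 40, 66, 82, 91, 115] (v3 C) [19, 46, 68, 84, 103, 110, 115] :=
  C.flip (f11055 C)

theorem f11057 : C.S (v17 C) [23, 31, 49, 84, 96, 117] :=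
  C.stMul (f4137 C) (f4137 C) _ (by decide +kernel)

theorem f11058 : C.T (v17 C) [12, 40, 68, 81, 100, 111] (v17 C) [19, 32, 50, 84, 92, 109, 121] :=
  C.conv (f5399 C) (f4137 C) (f11057 C) _ [133, 163, 167, 171, 178] _ (by decide +kernel) (by decide +kernel) (by decide +kernel)

theorem f11059 : C.T (v17 C) [19, 32, 50, 84, 92, 109, 121] (v17 C) [12, 40, 68, 81, 100, 111] :=
  C.flip (f11058 C)

theorem f11060 : C.T (v18 C) [6, 39, 57, 70, 103, 109, 122] (v17 C) [22, 37, 69, 89, 90, 110, 120] :=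
  C.closeT (p := (v3 C)) (pu := [17, 28, 50, 84, 97, 109, 117])
    (C.pT (f11053 C)
    (C.pH [8, 30, 65, 84, 94, 117] [6, 39, 57, 70, 103, 109, 122] (by decide +kernel) (C.pNil _ _)))
    (C.pH [26, 38, 54, 89, 90, 113] [19, 32, 50, 84, 92, 109, 121] (by decide +kernel)
    (C.pT (f11059 C)
    (C.pH [8, 30, 65, 84, 94, 117] [21, 40, 66, 82, 91, 115] (by decide +kernel)
    (C.pT (f11056 C)
    (C.pH [26, 38, 54, 89, 90, 113] [17, 28, 50, 84, 97, 109, 117] (by decide +kernel) (C.pNil _ _))))))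
    (C.loop_of_one (relLoop1 C) _ _)

theorem f11061 : C.T (v17 C) [22, 37, 69, 89, 90, 110, 120] (v18 C) [6, 39, 57, 70, 103, 109, 122] :=
  C.flip (f11060 C)

theorem f11062 : C.T (v3 C) [6, 44, 67, 77, 97, 109, 114] (v18 C) [21, 47, 65, 78, 108, 109, 113] :=
  C.conv (f6911 C) (f8231 C) (f8231 C) _ [140, 149, 172, 178] _ (by decide +kernel) (by decide +kernel) (by decide +kernel)

theorem f11063 : C.T (v18 C) [24, 40, 67, 78, 91, 119] (v18 C) [19, 29, 49, 71, 120] :=
  C.conv (f7032 C) (f7034 C) (f7121 C) _ [145, 160, 164, 178] _ (by decide +kernel) (by decide +kernel) (by decide +kernel)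

theorem f11064 : C.S (v3 C) [18, 31, 49, 83, 100, 110, 111] :=
  C.stMul (f353 C) (f9320 C) _ (by decide +kernel)

theorem f11065 : C.T (v3 C) [21, 31, 61, 79, 97, 115] (v18 C) [10, 38, 61, 82, 94, 123] :=
  C.conv (f7327 C) (f7806 C) (f11064 C) _ [138, 159, 169, 173, 177] _ (by decide +kernel) (by decide +kernel) (by decide +kernel)

theorem f11066 : C.T (v18 C) [10, 38, 61, 82, 94, 123] (v3 C) [21, 31, 61, 79, 97, 115] :=
  C.flip (f11065 C)

theorem f11067 : C.T (v18 C) [17, 43, 66, 78, 91, 112] (v18 C) [23, 29, 84, 107, 109, 120] :=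
  C.closeT (p := (v3 C)) (pu := [6, 44, 67, 77, 97, 109, 114])
    (C.pT (f11062 C)
    (C.pH [8, 30, 65, 84, 94, 117] [24, 40, 67, 78, 91, 119] (by decide +kernel)
    (C.pT (f11063 C)
    (C.pH [26, 38, 54, 89, 90, 113] [17, 43, 66, 78, 91, 112] (by decide +kernel) (C.pNil _ _)))))
    (C.pH [8, 30, 65, 84, 94, 117] [10, 38, 61, 82, 94, 123] (by decide +kernel)
    (C.pT (f11066 C)
    (C.pH [26, 38, 54, 89, 90, 113] [6, 44, 67, 77, 97, 109, 114] (by decide +kernel) (C.pNil _ _))))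
    (C.loop_of_one (relLoop1 C) _ _)

theorem f11068 : C.T (v18 C) [23, 29, 84, 107, 109, 120] (v18 C) [17, 43, 66, 78, 91, 112] :=
  C.flip (f11067 C)

theorem f11069 : C.T (v3 C) [16, 48, 64, 79, 105, 109, 111] (v18 C) [17, 34, 58, 72, 108, 110, 122] :=
  C.conv (f6911 C) (f8231 C) (f8231 C) _ [146, 149, 170, 175, 178] _ (by decide +kernel) (by decide +kernel) (by decide +kernel)

theorem f11070 : C.T (v3 C) [26, 56, 77, 91, 122] (v5 C) [5, 38, 66, 82, 105, 109, 114] :=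
  C.conv (f1048 C) (f1093 C) (f376 C) _ [135, 159, 165, 175, 178] _ (by decide +kernel) (by decide +kernel) (by decide +kernel)

theorem f11071 : C.T (v5 C) [5, 38, 66, 82, 105, 109, 114] (v3 C) [26, 56, 77, 91, 122] :=
  C.flip (f11070 C)

theorem f11072 : C.S (v5 C) [43, 67, 71, 98, 119] :=
  C.stMul (f986 C) (f986 C) _ (by decide +kernel)

theorem f11073 : C.S (v5 C) [43, 67, 79, 93, 109, 124] :=
  C.stMul (f1141 C) (f11072 C) _ (by decide +kernel)

theorem f11074 : C.S (v5 C) [27, 69, 71, 90, 109, 112] :=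
  C.stMul (f1008 C) (f11073 C) _ (by decide +kernel)

theorem f11075 : C.S (v5 C) [34, 55, 78, 108, 110, 124] :=
  C.stMul (f1141 C) (f11074 C) _ (by decide +kernel)

theorem f11076 : C.T (v5 C) [14, 29, 49, 99, 109, 117] (v18 C) [9, 47, 69, 72, 103, 110] :=
  C.conv (f6939 C) (f7842 C) (f11075 C) _ [137, 164, 173] _ (by decide +kernel) (by decide +kernel) (by decide +kernel)

theorem f11077 : C.T (v18 C) [9, 47, 69, 72, 103, 110] (v5 C) [14, 29, 49, 99, 109, 117] :=
  C.flip (f11076 C)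

theorem f11078 : C.T (v18 C) [22, 40, 65, 89, 102, 109, 122] (v18 C) [15, 27, 54, 80, 95, 109, 124] :=
  C.closeT (p := (v3 C)) (pu := [16, 48, 64, 79, 105, 109, 111])
    (C.pT (f11069 C)
    (C.pH [8, 30, 65, 84, 94, 117] [22, 40, 65, 89, 102, 109, 122] (by decide +kernel) (C.pNil _ _)))
    (C.pH [26, 38, 54, 89, 90, 113] [9, 47, 69, 72, 103, 110] (by decide +kernel)
    (C.pT (f11077 C)
    (C.pH [8, 30, 65, 84, 94, 117] [5, 38, 66, 82, 105, 109, 114] (by decide +kernel)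
    (C.pT (f11071 C)
    (C.pH [26, 38, 54, 89, 90, 113] [16, 48, 64, 79, 105, 109, 111] (by decide +kernel) (C.pNil _ _))))))
    (C.loop_of_one (relLoop1 C) _ _)

theorem f11081 : C.T (v3 C) [15, 30, 49, 84, 98, 110, 120] (v18 C) [14, 30, 50, 80, 102, 125] :=
  C.conv (f6911 C) (f8231 C) (f8231 C) _ [131, 153, 169, 175, 177] _ (by decide +kernel) (by decide +kernel) (by decide +kernel)

theorem f11082 : C.S (v18 C) [26, 43, 49, 77, 91, 110, 115] :=
  C.stMul (f6836 C) (f6836 C) _ (by decide +kernel)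

theorem f11083 : C.T (v18 C) [5, 30, 69, 79, 93, 120] (v18 C) [24, 32, 63, 80, 94, 109, 111] :=
  C.conv (f7025 C) (f7121 C) (f11082 C) _ [141, 159, 171, 178] _ (by decide +kernel) (by decide +kernel) (by decide +kernel)

theorem f11084 : C.S (v3 C) [20, 56, 88, 105, 110, 120] :=
  C.stMul (f331 C) (f331 C) _ (by decide +kernel)

theorem f11085 : C.S (v3 C) [18, 48, 67, 88, 96, 109, 120] :=
  C.stMul (f331 C) (f11084 C) _ (by decide +kernel)

theorem f11086 : C.S (v3 C) [22, 38, 52, 99, 110, 111] :=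
  C.stMul (f353 C) (f11085 C) _ (by decide +kernel)

theorem f11087 : C.S (v3 C) [20, 37, 68, 71, 99, 120] :=
  C.stMul (f331 C) (f11086 C) _ (by decide +kernel)

theorem f11088 : C.T (v3 C) [20, 44, 51, 85, 93, 122] (v18 C) [6, 29, 73, 102, 118] :=
  C.conv (f7327 C) (f7806 C) (f11087 C) _ [140, 152, 166, 174] _ (by decide +kernel) (by decide +kernel) (by decide +kernel)

theorem f11089 : C.T (v18 C) [6, 29, 73, 102, 118] (v3 C) [20, 44, 51, 85, 93, 122] :=
  C.flip (f11088 C)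

theorem f11090 : C.T (v18 C) [12, 47, 58, 74, 100, 109, 124] (v18 C) [22, 34, 58, 95, 109, 115] :=
  C.closeT (p := (v3 C)) (pu := [15, 30, 49, 84, 98, 110, 120])
    (C.pT (f11081 C)
    (C.pH [8, 30, 65, 84, 94, 117] [5, 30, 69, 79, 93, 120] (by decide +kernel)
    (C.pT (f11083 C)
    (C.pH [26, 38, 54, 89, 90, 113] [12, 47, 58, 74, 100, 109, 124] (by decide +kernel) (C.pNil _ _)))))
    (C.pH [8, 30, 65, 84, 94, 117] [6, 29, 73, 102, 118] (by decide +kernel)
    (C.pT (f11089 C)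
    (C.pH [26, 38, 54, 89, 90, 113] [15, 30, 49, 84, 98, 110, 120] (by decide +kernel) (C.pNil _ _))))
    (C.loop_of_one (relLoop1 C) _ _)

theorem f11094 : C.T (v3 C) [46, 104, 110, 113] (v18 C) [7, 32, 65, 84, 91, 125] :=
  C.conv (f6911 C) (f8231 C) (f8231 C) _ [141, 149, 173, 178] _ (by decide +kernel) (by decide +kernel) (by decide +kernel)

theorem f11095 : C.T (v18 C) [17, 31, 68, 82, 108, 110, 124] (v18 C) [15, 45, 68, 72, 108, 109, 111] :=
  C.conv (f10435 C) (f6836 C) (f7121 C) _ [138, 163, 172] _ (by decide +kernel) (by decide +kernel) (by decide +kernel)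

theorem f11096 : C.T (v3 C) [7, 33, 69, 80, 105, 109, 113] (v17 C) [22, 35, 50, 74, 104, 110, 124] :=
  C.conv (f6822 C) (f7297 C) (f10126 C) _ [150, 168, 177] _ (by decide +kernel) (by decide +kernel) (by decide +kernel)

theorem f11097 : C.T (v17 C) [22, 35, 50, 74, 104, 110, 124] (v3 C) [7, 33, 69, 80, 105, 109, 113] :=
  C.flip (f11096 C)

theorem f11098 : C.T (v18 C) [9, 29, 49, 89, 104, 109, 122] (v17 C) [17, 40, 66, 82, 92, 120] :=
  C.closeT (p := (v3 C)) (pu := [46, 104, 110, 113])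
    (C.pT (f11094 C)
    (C.pH [8, 30, 65, 84, 94, 117] [17, 31, 68, 82, 108, 110, 124] (by decide +kernel)
    (C.pT (f11095 C)
    (C.pH [26, 38, 54, 89, 90, 113] [9, 29, 49, 89, 104, 109, 122] (by decide +kernel) (C.pNil _ _)))))
    (C.pH [8, 30, 65, 84, 94, 117] [22, 35, 50, 74, 104, 110, 124] (by decide +kernel)
    (C.pT (f11097 C)
    (C.pH [26, 38, 54, 89, 90, 113] [46, 104, 110, 113] (by decide +kernel) (C.pNil _ _))))
    (C.loop_of_one (relLoop1 C) _ _)

theorem f11099 : C.T (v17 C) [17, 40, 66, 82, 92, 120] (v18 C) [9, 29, 49, 89, 104, 109, 122] :=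
  C.flip (f11098 C)

theorem f11100 : C.T (v3 C) [11, 34, 69, 87, 108, 124] (v18 C) [12, 34, 58, 82, 90, 109, 116] :=
  C.conv (f6911 C) (f8231 C) (f8231 C) _ [130, 154, 166, 173, 177] _ (by decide +kernel) (by decide +kernel) (by decide +kernel)

theorem f11101 : C.S (v18 C) [26, 43, 49, 77, 91, 110, 115] :=
  C.stMul (f6836 C) (f6836 C) _ (by decide +kernel)

theorem f11102 : C.T (v18 C) [21, 35, 68, 80, 94, 109, 111] (v18 C) [12, 35, 53, 80, 102, 109, 118] :=
  C.conv (f9654 C) (f11101 C) (f6836 C) _ [144, 157, 175, 177] _ (by decide +kernel) (by decide +kernel) (by decide +kernel)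

theorem f11103 : C.S (v3 C) [22, 29, 89, 96, 109, 125] :=
  C.stMul (f328 C) (f331 C) _ (by decide +kernel)

theorem f11104 : C.S (v3 C) [4, 67, 86, 105, 116] :=
  C.stMul (f335 C) (f11103 C) _ (by decide +kernel)

theorem f11105 : C.T (v3 C) [8, 45, 52, 71, 107, 111] (v17 C) [18, 37, 56, 71, 93, 109, 111] :=
  C.conv (f6828 C) (f9427 C) (f11104 C) _ [144, 149, 164, 172, 178] _ (by decide +kernel) (by decide +kernel) (by decide +kernel)

theorem f11106 : C.T (v17 C) [18, 37, 56, 71, 93, 109, 111] (v3 C) [8, 45, 52, 71, 107, 111] :=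
  C.flip (f11105 C)

theorem f11107 : C.T (v18 C) [14, 33, 67, 72, 102, 109, 111] (v17 C) [9, 45, 51, 81, 97, 109, 115] :=
  C.closeT (p := (v3 C)) (pu := [11, 34, 69, 87, 108, 124])
    (C.pT (f11100 C)
    (C.pH [8, 30, 65, 84, 94, 117] [21, 35, 68, 80, 94, 109, 111] (by decide +kernel)
    (C.pT (f11102 C)
    (C.pH [26, 38, 54, 89, 90, 113] [14, 33, 67, 72, 102, 109, 111] (by decide +kernel) (C.pNil _ _)))))
    (C.pH [8, 30, 65, 84, 94, 117] [18, 37, 56, 71, 93, 109, 111] (by decide +kernel)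
    (C.pT (f11106 C)
    (C.pH [26, 38, 54, 89, 90, 113] [11, 34, 69, 87, 108, 124] (by decide +kernel) (C.pNil _ _))))
    (C.loop_of_one (relLoop1 C) _ _)

theorem f11108 : C.T (v17 C) [9, 45, 51, 81, 97, 109, 115] (v18 C) [14, 33, 67, 72, 102, 109, 111] :=
  C.flip (f11107 C)

theorem f11109 : C.T (v3 C) [16, 27, 55, 86, 106, 114] (v18 C) [14, 35, 69, 70, 110, 113] :=
  C.conv (f6911 C) (f8231 C) (f8231 C) _ [145, 158, 168, 176] _ (by decide +kernel) (by decide +kernel) (by decide +kernel)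

theorem f11110 : C.S (v3 C) [16, 36, 62, 79, 96, 109, 125] :=
  C.stMul (f353 C) (f7347 C) _ (by decide +kernel)

theorem f11111 : C.S (v3 C) [25, 39, 51, 72, 98, 110, 117] :=
  C.stMul (f331 C) (f11110 C) _ (by decide +kernel)

theorem f11112 : C.T (v3 C) [26, 37, 53, 84, 91, 112] (v15 C) [7, 33, 64, 70, 101, 109] :=
  C.conv (f3166 C) (f3236 C) (f11111 C) _ [131, 159, 165, 174, 178] _ (by decide +kernel) (by decide +kernel) (by decide +kernel)

theorem f11113 : C.T (v15 C) [7, 33, 64, 70, 101, 109] (v3 C) [26, 37, 53, 84, 91, 112] :=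
  C.flip (f11112 C)

theorem f11114 : C.T (v15 C) [11, 36, 57, 70, 90, 110, 122] (v18 C) [16, 48, 60, 71, 106, 110, 124] :=
  C.conv (f7702 C) (f9217 C) (f2565 C) _ [141, 159, 165, 175, 178] _ (by decide +kernel) (by decide +kernel) (by decide +kernel)

theorem f11115 : C.T (v18 C) [16, 48, 60, 71, 106, 110, 124] (v15 C) [11, 36, 57, 70, 90, 110, 122] :=
  C.flip (f11114 C)

theorem f11116 : C.T (v18 C) [5, 50, 77, 93, 110, 123] (v18 C) [26, 66, 81, 98, 125] :=
  C.closeT (p := (v3 C)) (pu := [16, 27, 55, 86, 106, 114])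
    (C.pT (f11109 C)
    (C.pH [8, 30, 65, 84, 94, 117] [5, 50, 77, 93, 110, 123] (by decide +kernel) (C.pNil _ _)))
    (C.pH [26, 38, 54, 89, 90, 113] [16, 48, 60, 71, 106, 110, 124] (by decide +kernel)
    (C.pT (f11115 C)
    (C.pH [8, 30, 65, 84, 94, 117] [7, 33, 64, 70, 101, 109] (by decide +kernel)
    (C.pT (f11113 C)
    (C.pH [26, 38, 54, 89, 90, 113] [16, 27, 55, 86, 106, 114] (by decide +kernel) (C.pNil _ _))))))
    (C.loop_of_one (relLoop1 C) _ _)

theorem f11119 : C.T (v3 C) [20, 29, 79, 93, 112] (v18 C) [11, 33, 65, 75, 100, 110, 112] :=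
  C.conv (f6911 C) (f8231 C) (f8231 C) _ [141, 158, 170, 172, 177] _ (by decide +kernel) (by decide +kernel) (by decide +kernel)

theorem f11120 : C.S (v3 C) [23, 29, 57, 87, 91, 110, 120] :=
  C.stMul (f331 C) (f328 C) _ (by decide +kernel)

theorem f11121 : C.S (v3 C) [23, 35, 58, 78, 94, 110, 123] :=
  C.stMul (f328 C) (f11120 C) _ (by decide +kernel)

theorem f11122 : C.S (v3 C) [21, 46, 68, 75, 95] :=
  C.stMul (f335 C) (f11121 C) _ (by decide +kernel)

theorem f11123 : C.S (v3 C) [14, 46, 79, 106, 123] :=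
  C.stMul (f353 C) (f11122 C) _ (by decide +kernel)

theorem f11124 : C.T (v3 C) [17, 34, 54, 74, 117] (v17 C) [19, 43, 62, 87, 90, 110, 112] :=
  C.conv (f6269 C) (f7309 C) (f11123 C) _ [143, 156, 168, 176] _ (by decide +kernel) (by decide +kernel) (by decide +kernel)

theorem f11125 : C.T (v17 C) [19, 43, 62, 87, 90, 110, 112] (v3 C) [17, 34, 54, 74, 117] :=
  C.flip (f11124 C)

theorem f11126 : C.S (v17 C) [23, 31, 75, 92, 109, 116] :=
  C.stMul (f4137 C) (f4132 C) _ (by decide +kernel)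

theorem f11127 : C.T (v17 C) [15, 48, 52, 87, 103, 120] (v18 C) [18, 46, 51, 83, 108, 109, 124] :=
  C.conv (f10594 C) (f4132 C) (f11126 C) _ [140, 155, 165, 173, 177] _ (by decide +kernel) (by decide +kernel) (by decide +kernel)

theorem f11128 : C.T (v18 C) [18, 46, 51, 83, 108, 109, 124] (v17 C) [15, 48, 52, 87, 103, 120] :=
  C.flip (f11127 C)

theorem f11129 : C.T (v18 C) [7, 27, 65, 74, 102, 110, 122] (v18 C) [25, 32, 54, 76, 94, 109, 114] :=
  C.closeT (p := (v3 C)) (pu := [20, 29, 79, 93, 112])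
    (C.pT (f11119 C)
    (C.pH [8, 30, 65, 84, 94, 117] [7, 27, 65, 74, 102, 110, 122] (by decide +kernel) (C.pNil _ _)))
    (C.pH [26, 38, 54, 89, 90, 113] [18, 46, 51, 83, 108, 109, 124] (by decide +kernel)
    (C.pT (f11128 C)
    (C.pH [8, 30, 65, 84, 94, 117] [19, 43, 62, 87, 90, 110, 112] (by decide +kernel)
    (C.pT (f11125 C)
    (C.pH [26, 38, 54, 89, 90, 113] [20, 29, 79, 93, 112] (by decide +kernel) (C.pNil _ _))))))
    (C.loop_of_one (relLoop1 C) _ _)

theorem f11133 : C.T (v3 C) [26, 38, 67, 83, 93, 110, 114] (v18 C) [8, 86, 101, 110, 123] :=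
  C.conv (f6911 C) (f8231 C) (f8231 C) _ [140, 150, 168, 178] _ (by decide +kernel) (by decide +kernel) (by decide +kernel)

theorem f11134 : C.S (v3 C) [7, 29, 51, 83, 103, 109, 117] :=
  C.stMul (f335 C) (f335 C) _ (by decide +kernel)

theorem f11135 : C.S (v3 C) [10, 48, 60, 84, 100, 110, 123] :=
  C.stMul (f353 C) (f11134 C) _ (by decide +kernel)

theorem f11136 : C.S (v3 C) [11, 33, 69, 85, 97, 109, 117] :=
  C.stMul (f335 C) (f11135 C) _ (by decide +kernel)

theorem f11137 : C.T (v3 C) [53, 71, 97, 110, 117] (v17 C) [26, 41, 61, 84, 92, 110, 124] :=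
  C.conv (f6828 C) (f9427 C) (f11136 C) _ [130, 151, 164, 171] _ (by decide +kernel) (by decide +kernel) (by decide +kernel)

theorem f11138 : C.T (v17 C) [26, 41, 61, 84, 92, 110, 124] (v3 C) [53, 71, 97, 110, 117] :=
  C.flip (f11137 C)

theorem f11139 : C.S (v17 C) [23, 31, 75, 92, 109, 116] :=
  C.stMul (f4137 C) (f4132 C) _ (by decide +kernel)

theorem f11140 : C.T (v17 C) [19, 28, 68, 85, 100, 109, 120] (v17 C) [7, 46, 49, 72, 90, 109, 113] :=
  C.conv (f5306 C) (f5308 C) (f11139 C) _ [133, 155, 166, 173, 177] _ (by decide +kernel) (by decide +kernel) (by decide +kernel)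

theorem f11141 : C.T (v17 C) [7, 46, 49, 72, 90, 109, 113] (v17 C) [19, 28, 68, 85, 100, 109, 120] :=
  C.flip (f11140 C)

theorem f11142 : C.T (v18 C) [28, 58, 70, 104, 124] (v17 C) [23, 28, 61, 78, 91, 109, 122] :=
  C.closeT (p := (v3 C)) (pu := [26, 38, 67, 83, 93, 110, 114])
    (C.pT (f11133 C)
    (C.pH [8, 30, 65, 84, 94, 117] [28, 58, 70, 104, 124] (by decide +kernel) (C.pNil _ _)))
    (C.pH [26, 38, 54, 89, 90, 113] [7, 46, 49, 72, 90, 109, 113] (by decide +kernel)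
    (C.pT (f11141 C)
    (C.pH [8, 30, 65, 84, 94, 117] [26, 41, 61, 84, 92, 110, 124] (by decide +kernel)
    (C.pT (f11138 C)
    (C.pH [26, 38, 54, 89, 90, 113] [26, 38, 67, 83, 93, 110, 114] (by decide +kernel) (C.pNil _ _))))))
    (C.loop_of_one (relLoop1 C) _ _)

theorem f11143 : C.T (v17 C) [23, 28, 61, 78, 91, 109, 122] (v18 C) [28, 58, 70, 104, 124] :=
  C.flip (f11142 C)

theorem f11144 : C.T (v3 C) [14, 46, 50, 79, 104, 109] (v18 C) [10, 28, 69, 83, 124] :=
  C.conv (f6916 C) (f7402 C) (f7402 C) _ [127, 153, 166, 176, 178] _ (by decide +kernel) (by decide +kernel) (by decide +kernel)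

theorem f11145 : C.T (v18 C) [15, 40, 61, 82, 91, 110, 117] (v18 C) [25, 48, 55, 71, 105, 117] :=
  C.conv (f9731 C) (f6836 C) (f7121 C) _ [132, 163, 169, 172, 178] _ (by decide +kernel) (by decide +kernel) (by decide +kernel)

theorem f11146 : C.S (v3 C) [8, 29, 61, 75, 96, 110, 111] :=
  C.stMul (f353 C) (f7285 C) _ (by decide +kernel)

theorem f11147 : C.S (v3 C) [10, 44, 65, 75, 90, 110, 114] :=
  C.stMul (f331 C) (f11146 C) _ (by decide +kernel)

theorem f11148 : C.T (v3 C) [12, 41, 50, 77, 100, 109] (v18 C) [9, 37, 80, 91, 109, 121] :=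
  C.conv (f6902 C) (f7285 C) (f11147 C) _ [144, 159, 167, 175] _ (by decide +kernel) (by decide +kernel) (by decide +kernel)

theorem f11149 : C.T (v18 C) [9, 37, 80, 91, 109, 121] (v3 C) [12, 41, 50, 77, 100, 109] :=
  C.flip (f11148 C)

theorem f11150 : C.T (v18 C) [18, 40, 59, 74, 93, 109, 114] (v18 C) [25, 42, 64, 83, 99, 110, 118] :=
  C.closeT (p := (v3 C)) (pu := [14, 46, 50, 79, 104, 109])
    (C.pT (f11144 C)
    (C.pH [8, 30, 65, 84, 94, 117] [15, 40, 61, 82, 91, 110, 117] (by decide +kernel)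
    (C.pT (f11145 C)
    (C.pH [26, 38, 54, 89, 90, 113] [18, 40, 59, 74, 93, 109, 114] (by decide +kernel) (C.pNil _ _)))))
    (C.pH [8, 30, 65, 84, 94, 117] [9, 37, 80, 91, 109, 121] (by decide +kernel)
    (C.pT (f11149 C)
    (C.pH [26, 38, 54, 89, 90, 113] [14, 46, 50, 79, 104, 109] (by decide +kernel) (C.pNil _ _))))
    (C.loop_of_one (relLoop1 C) _ _)

theorem f11151 : C.T (v18 C) [25, 42, 64, 83, 99, 110, 118] (v18 C) [18, 40, 59, 74, 93, 109, 114] :=
  C.flip (f11150 C)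

theorem f11152 : C.T (v3 C) [5, 33, 64, 78, 105, 109, 119] (v18 C) [46, 69, 85, 107, 110, 122] :=
  C.conv (f6916 C) (f7402 C) (f7402 C) _ [138, 170, 172, 178] _ (by decide +kernel) (by decide +kernel) (by decide +kernel)

theorem f11153 : C.S (v3 C) [18, 43, 59, 78, 90, 110, 111] :=
  C.stMul (f353 C) (f11103 C) _ (by decide +kernel)

theorem f11154 : C.S (v3 C) [6, 29, 67, 88, 100, 110] :=
  C.stMul (f335 C) (f11153 C) _ (by decide +kernel)

theorem f11155 : C.T (v3 C) [14, 32, 57, 70, 94, 110, 113] (v17 C) [15, 46, 49, 72, 100, 117] :=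
  C.conv (f6828 C) (f9427 C) (f11154 C) _ [136, 157, 172, 177] _ (by decide +kernel) (by decide +kernel) (by decide +kernel)

theorem f11156 : C.T (v17 C) [15, 46, 49, 72, 100, 117] (v3 C) [14, 32, 57, 70, 94, 110, 113] :=
  C.flip (f11155 C)

theorem f11157 : C.T (v17 C) [10, 38, 58, 88, 98, 109, 116] (v4 C) [23, 35, 54, 86, 106, 110, 112] :=
  C.conv (f4649 C) (f4137 C) (f4300 C) _ [137, 161, 167, 175] _ (by decide +kernel) (by decide +kernel) (by decide +kernel)

theorem f11158 : C.T (v4 C) [23, 35, 54, 86, 106, 110, 112] (v17 C) [10, 38, 58, 88, 98, 109, 116] :=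
  C.flip (f11157 C)

theorem f11159 : C.T (v18 C) [8, 42, 64, 89, 97, 109, 125] (v4 C) [13, 29, 56, 76, 102, 117] :=
  C.closeT (p := (v3 C)) (pu := [5, 33, 64, 78, 105, 109, 119])
    (C.pT (f11152 C)
    (C.pH [8, 30, 65, 84, 94, 117] [8, 42, 64, 89, 97, 109, 125] (by decide +kernel) (C.pNil _ _)))
    (C.pH [26, 38, 54, 89, 90, 113] [23, 35, 54, 86, 106, 110, 112] (by decide +kernel)
    (C.pT (f11158 C)
    (C.pH [8, 30, 65, 84, 94, 117] [15, 46, 49, 72, 100, 117] (by decide +kernel)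
    (C.pT (f11156 C)
    (C.pH [26, 38, 54, 89, 90, 113] [5, 33, 64, 78, 105, 109, 119] (by decide +kernel) (C.pNil _ _))))))
    (C.loop_of_one (relLoop1 C) _ _)

theorem f11160 : C.T (v4 C) [13, 29, 56, 76, 102, 117] (v18 C) [8, 42, 64, 89, 97, 109, 125] :=
  C.flip (f11159 C)

theorem f11161 : C.T (v3 C) [11, 42, 51, 75, 109, 120] (v18 C) [19, 44, 67, 78, 96, 110, 119] :=
  C.conv (f6916 C) (f7402 C) (f7402 C) _ [140, 156, 164, 175, 178] _ (by decide +kernel) (by decide +kernel) (by decide +kernel)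

theorem f11162 : C.S (v18 C) [26, 43, 49, 77, 91, 110, 115] :=
  C.stMul (f6836 C) (f6836 C) _ (by decide +kernel)

theorem f11163 : C.T (v18 C) [26, 35, 67, 77, 98, 109, 112] (v5 C) [24, 31, 68, 85, 101, 110, 122] :=
  C.conv (f8380 C) (f11162 C) (f11162 C) _ [133, 155, 167, 175, 178] _ (by decide +kernel) (by decide +kernel) (by decide +kernel)

theorem f11164 : C.T (v3 C) [8, 36, 65, 88, 93, 109, 111] (v18 C) [22, 34, 56, 86, 93, 109, 115] :=
  C.conv (f6916 C) (f7402 C) (f10713 C) _ [126, 153, 170, 173, 177] _ (by decide +kernel) (by decide +kernel) (by decide +kernel)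

theorem f11165 : C.T (v18 C) [22, 34, 56, 86, 93, 109, 115] (v3 C) [8, 36, 65, 88, 93, 109, 111] :=
  C.flip (f11164 C)

theorem f11166 : C.T (v5 C) [12, 37, 49, 71, 93, 110, 124] (v18 C) [17, 32, 67, 78, 102, 124] :=
  C.closeT (p := (v3 C)) (pu := [11, 42, 51, 75, 109, 120])
    (C.pT (f11161 C)
    (C.pH [8, 30, 65, 84, 94, 117] [26, 35, 67, 77, 98, 109, 112] (by decide +kernel)
    (C.pT (f11163 C)
    (C.pH [26, 38, 54, 89, 90, 113] [12, 37, 49, 71, 93, 110, 124] (by decide +kernel) (C.pNil _ _)))))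
    (C.pH [8, 30, 65, 84, 94, 117] [22, 34, 56, 86, 93, 109, 115] (by decide +kernel)
    (C.pT (f11165 C)
    (C.pH [26, 38, 54, 89, 90, 113] [11, 42, 51, 75, 109, 120] (by decide +kernel) (C.pNil _ _))))
    (C.loop_of_one (relLoop1 C) _ _)

theorem f11167 : C.T (v18 C) [17, 32, 67, 78, 102, 124] (v5 C) [12, 37, 49, 71, 93, 110, 124] :=
  C.flip (f11166 C)

theorem f11168 : C.T (v3 C) [20, 45, 54, 73, 107, 124] (v18 C) [16, 27, 69, 98] :=
  C.conv (f6916 C) (f7402 C) (f7402 C) _ [129, 153, 165, 173, 177] _ (by decide +kernel) (by decide +kernel) (by decide +kernel)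

theorem f11169 : C.S (v3 C) [17, 52, 88, 94, 110, 125] :=
  C.stMul (f331 C) (f10459 C) _ (by decide +kernel)

theorem f11170 : C.T (v3 C) [17, 37, 59, 85, 102, 109, 116] (v17 C) [19, 35, 58, 79, 94, 114] :=
  C.conv (f6808 C) (f9290 C) (f11169 C) _ [146, 155, 167, 174] _ (by decide +kernel) (by decide +kernel) (by decide +kernel)

theorem f11171 : C.T (v17 C) [19, 35, 58, 79, 94, 114] (v3 C) [17, 37, 59, 85, 102, 109, 116] :=
  C.flip (f11170 C)

theorem f11172 : C.S (v17 C) [51, 81, 96, 109, 125] :=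
  C.stMul (f4132 C) (f4137 C) _ (by decide +kernel)

theorem f11173 : C.T (v17 C) [15, 43, 68, 85, 102, 113] (v15 C) [22, 36, 64, 73, 102, 110] :=
  C.conv (f5554 C) (f4137 C) (f11172 C) _ [147, 160, 170, 176] _ (by decide +kernel) (by decide +kernel) (by decide +kernel)

theorem f11174 : C.T (v15 C) [22, 36, 64, 73, 102, 110] (v17 C) [15, 43, 68, 85, 102, 113] :=
  C.flip (f11173 C)

theorem f11175 : C.T (v18 C) [20, 38, 69, 85, 103, 109, 120] (v15 C) [9, 29, 59, 87, 90, 110, 124] :=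
  C.closeT (p := (v3 C)) (pu := [20, 45, 54, 73, 107, 124])
    (C.pT (f11168 C)
    (C.pH [8, 30, 65, 84, 94, 117] [20, 38, 69, 85, 103, 109, 120] (by decide +kernel) (C.pNil _ _)))
    (C.pH [26, 38, 54, 89, 90, 113] [22, 36, 64, 73, 102, 110] (by decide +kernel)
    (C.pT (f11174 C)
    (C.pH [8, 30, 65, 84, 94, 117] [19, 35, 58, 79, 94, 114] (by decide +kernel)
    (C.pT (f11171 C)
    (C.pH [26, 38, 54, 89, 90, 113] [20, 45, 54, 73, 107, 124] (by decide +kernel) (C.pNil _ _))))))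
    (C.loop_of_one (relLoop1 C) _ _)

theorem f11176 : C.T (v15 C) [9, 29, 59, 87, 90, 110, 124] (v18 C) [20, 38, 69, 85, 103, 109, 120] :=
  C.flip (f11175 C)

theorem f11177 : C.T (v3 C) [18, 27, 61, 71, 102, 123] (v18 C) [14, 31, 54, 85, 108, 109, 123] :=
  C.conv (f6916 C) (f7402 C) (f7402 C) _ [145, 166, 175, 177] _ (by decide +kernel) (by decide +kernel) (by decide +kernel)

theorem f11178 : C.S (v3 C) [20, 29, 56, 72, 109, 121] :=
  C.stMul (f335 C) (f7310 C) _ (by decide +kernel)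

theorem f11179 : C.S (v3 C) [10, 47, 54, 88, 107, 109, 117] :=
  C.stMul (f335 C) (f11178 C) _ (by decide +kernel)

theorem f11180 : C.S (v3 C) [20, 31, 50, 86, 94, 110, 111] :=
  C.stMul (f353 C) (f11179 C) _ (by decide +kernel)

theorem f11181 : C.T (v3 C) [25, 31, 60, 81, 99, 118] (v17 C) [22, 30, 55, 73, 106, 110, 112] :=
  C.conv (f6269 C) (f7309 C) (f11180 C) _ [135, 162, 169, 176, 178] _ (by decide +kernel) (by decide +kernel) (by decide +kernel)

theorem f11182 : C.T (v17 C) [22, 30, 55, 73, 106, 110, 112] (v3 C) [25, 31, 60, 81, 99, 118] :=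
  C.flip (f11181 C)

theorem f11183 : C.S (v17 C) [23, 31, 75, 92, 109, 116] :=
  C.stMul (f4137 C) (f4132 C) _ (by decide +kernel)

theorem f11184 : C.T (v17 C) [17, 48, 68, 81, 96, 110, 125] (v16 C) [24, 29, 56, 77, 103, 114] :=
  C.conv (f4674 C) (f11183 C) (f11183 C) _ [147, 160, 167, 174, 178] _ (by decide +kernel) (by decide +kernel) (by decide +kernel)

theorem f11185 : C.T (v16 C) [24, 29, 56, 77, 103, 114] (v17 C) [17, 48, 68, 81, 96, 110, 125] :=
  C.flip (f11184 C)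

theorem f11186 : C.T (v18 C) [5, 29, 62, 74, 95, 109, 115] (v16 C) [11, 40, 49, 79, 102, 110, 120] :=
  C.closeT (p := (v3 C)) (pu := [18, 27, 61, 71, 102, 123])
    (C.pT (f11177 C)
    (C.pH [8, 30, 65, 84, 94, 117] [5, 29, 62, 74, 95, 109, 115] (by decide +kernel) (C.pNil _ _)))
    (C.pH [26, 38, 54, 89, 90, 113] [24, 29, 56, 77, 103, 114] (by decide +kernel)
    (C.pT (f11185 C)
    (C.pH [8, 30, 65, 84, 94, 117] [22, 30, 55, 73, 106, 110, 112] (by decide +kernel)
    (C.pT (f11182 C)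
    (C.pH [26, 38, 54, 89, 90, 113] [18, 27, 61, 71, 102, 123] (by decide +kernel) (C.pNil _ _))))))
    (C.loop_of_one (relLoop1 C) _ _)

theorem f11187 : C.T (v16 C) [11, 40, 49, 79, 102, 110, 120] (v18 C) [5, 29, 62, 74, 95, 109, 115] :=
  C.flip (f11186 C)

theorem f11188 : C.T (v3 C) [24, 34, 50, 88, 99, 109, 125] (v18 C) [19, 27, 51, 85, 90, 125] :=
  C.conv (f6916 C) (f7402 C) (f7402 C) _ [135, 153, 168, 172, 178] _ (by decide +kernel) (by decide +kernel) (by decide +kernel)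

theorem f11189 : C.S (v18 C) [26, 43, 49, 77, 91, 110, 115] :=
  C.stMul (f6836 C) (f6836 C) _ (by decide +kernel)

theorem f11190 : C.T (v18 C) [26, 47, 69, 86, 95, 123] (v15 C) [11, 38, 66, 88, 108, 112] :=
  C.conv (f11175 C) (f7121 C) (f11189 C) _ [126, 158, 170, 174, 178] _ (by decide +kernel) (by decide +kernel) (by decide +kernel)

theorem f11191 : C.S (v3 C) [18, 43, 59, 78, 90, 110, 111] :=
  C.stMul (f353 C) (f9292 C) _ (by decide +kernel)

theorem f11192 : C.S (v3 C) [6, 29, 67, 88, 100, 110] :=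
  C.stMul (f335 C) (f11191 C) _ (by decide +kernel)

theorem f11193 : C.T (v3 C) [11, 45, 50, 82, 95, 116] (v18 C) [15, 47, 66, 87, 97, 110, 113] :=
  C.conv (f8223 C) (f8361 C) (f11192 C) _ [147, 163, 167, 173, 178] _ (by decide +kernel) (by decide +kernel) (by decide +kernel)

theorem f11194 : C.T (v18 C) [15, 47, 66, 87, 97, 110, 113] (v3 C) [11, 45, 50, 82, 95, 116] :=
  C.flip (f11193 C)

theorem f11195 : C.T (v15 C) [24, 37, 59, 87, 95, 110, 120] (v18 C) [10, 40, 62, 79, 93, 109, 125] :=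
  C.closeT (p := (v3 C)) (pu := [24, 34, 50, 88, 99, 109, 125])
    (C.pT (f11188 C)
    (C.pH [8, 30, 65, 84, 94, 117] [26, 47, 69, 86, 95, 123] (by decide +kernel)
    (C.pT (f11190 C)
    (C.pH [26, 38, 54, 89, 90, 113] [24, 37, 59, 87, 95, 110, 120] (by decide +kernel) (C.pNil _ _)))))
    (C.pH [8, 30, 65, 84, 94, 117] [15, 47, 66, 87, 97, 110, 113] (by decide +kernel)
    (C.pT (f11194 C)
    (C.pH [26, 38, 54, 89, 90, 113] [24, 34, 50, 88, 99, 109, 125] (by decide +kernel) (C.pNil _ _))))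
    (C.loop_of_one (relLoop1 C) _ _)

theorem f11196 : C.T (v18 C) [10, 40, 62, 79, 93, 109, 125] (v15 C) [24, 37, 59, 87, 95, 110, 120] :=
  C.flip (f11195 C)

theorem f11197 : C.T (v3 C) [16, 34, 49, 86, 90, 109, 119] (v18 C) [10, 46, 58, 81, 91, 110, 115] :=
  C.conv (f6916 C) (f7402 C) (f7402 C) _ [137, 158, 166, 172, 177] _ (by decide +kernel) (by decide +kernel) (by decide +kernel)

theorem f11198 : C.T (v3 C) [26, 34, 55, 78, 103, 110, 125] (v18 C) [5, 36, 57, 86, 121] :=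
  C.conv (f6916 C) (f7402 C) (f7404 C) _ [126, 149, 164, 176] _ (by decide +kernel) (by decide +kernel) (by decide +kernel)

theorem f11199 : C.T (v18 C) [5, 36, 57, 86, 121] (v3 C) [26, 34, 55, 78, 103, 110, 125] :=
  C.flip (f11198 C)

theorem f11200 : C.S (v18 C) [26, 43, 49, 77, 91, 110, 115] :=
  C.stMul (f6836 C) (f6836 C) _ (by decide +kernel)

theorem f11201 : C.T (v18 C) [14, 40, 61, 73, 96, 110, 123] (v18 C) [34, 64, 79, 100, 113] :=
  C.conv (f9107 C) (f11200 C) (f7121 C) _ [144, 153, 168, 171, 178] _ (by decide +kernel) (by decide +kernel) (by decide +kernel)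

theorem f11202 : C.T (v18 C) [34, 64, 79, 100, 113] (v18 C) [14, 40, 61, 73, 96, 110, 123] :=
  C.flip (f11201 C)

theorem f11203 : C.T (v18 C) [15, 32, 60, 70, 100, 109, 121] (v18 C) [7, 44, 53, 86, 92, 122] :=
  C.closeT (p := (v3 C)) (pu := [16, 34, 49, 86, 90, 109, 119])
    (C.pT (f11197 C)
    (C.pH [8, 30, 65, 84, 94, 117] [15, 32, 60, 70, 100, 109, 121] (by decide +kernel) (C.pNil _ _)))
    (C.pH [26, 38, 54, 89, 90, 113] [34, 64, 79, 100, 113] (by decide +kernel)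
    (C.pT (f11202 C)
    (C.pH [8, 30, 65, 84, 94, 117] [5, 36, 57, 86, 121] (by decide +kernel)
    (C.pT (f11199 C)
    (C.pH [26, 38, 54, 89, 90, 113] [16, 34, 49, 86, 90, 109, 119] (by decide +kernel) (C.pNil _ _))))))
    (C.loop_of_one (relLoop1 C) _ _)

theorem f11204 : C.T (v18 C) [7, 44, 53, 86, 92, 122] (v18 C) [15, 32, 60, 70, 100, 109, 121] :=
  C.flip (f11203 C)

theorem f11205 : C.T (v3 C) [22, 45, 69, 87, 94, 109, 111] (v18 C) [19, 43, 86, 96, 109, 117] :=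
  C.conv (f6916 C) (f7402 C) (f7402 C) _ [145, 150, 167, 173, 178] _ (by decide +kernel) (by decide +kernel) (by decide +kernel)

theorem f11206 : C.T (v3 C) [9, 33, 69, 89, 103, 110, 123] (v17 C) [19, 32, 67, 82, 98, 109, 120] :=
  C.conv (f6814 C) (f7361 C) (f10580 C) _ [136, 156, 165, 171, 178] _ (by decide +kernel) (by decide +kernel) (by decide +kernel)

theorem f11207 : C.T (v17 C) [19, 32, 67, 82, 98, 109, 120] (v3 C) [9, 33, 69, 89, 103, 110, 123] :=
  C.flip (f11206 C)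

theorem f11208 : C.S (v17 C) [23, 31, 49, 84, 96, 117] :=
  C.stMul (f4137 C) (f4137 C) _ (by decide +kernel)

theorem f11209 : C.T (v17 C) [15, 37, 51, 98, 113] (v18 C) [12, 37, 60, 85, 100, 122] :=
  C.conv (f10594 C) (f4132 C) (f11208 C) _ [134, 159, 167, 173, 177] _ (by decide +kernel) (by decide +kernel) (by decide +kernel)

theorem f11210 : C.T (v18 C) [12, 37, 60, 85, 100, 122] (v17 C) [15, 37, 51, 98, 113] :=
  C.flip (f11209 C)

theorem f11211 : C.T (v18 C) [26, 32, 53, 79, 106, 110, 113] (v18 C) [24, 31, 65, 100] :=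
  C.closeT (p := (v3 C)) (pu := [22, 45, 69, 87, 94, 109, 111])
    (C.pT (f11205 C)
    (C.pH [8, 30, 65, 84, 94, 117] [26, 32, 53, 79, 106, 110, 113] (by decide +kernel) (C.pNil _ _)))
    (C.pH [26, 38, 54, 89, 90, 113] [12, 37, 60, 85, 100, 122] (by decide +kernel)
    (C.pT (f11210 C)
    (C.pH [8, 30, 65, 84, 94, 117] [19, 32, 67, 82, 98, 109, 120] (by decide +kernel)
    (C.pT (f11207 C)
    (C.pH [26, 38, 54, 89, 90, 113] [22, 45, 69, 87, 94, 109, 111] (by decide +kernel) (C.pNil _ _))))))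
    (C.loop_of_one (relLoop1 C) _ _)

theorem f11212 : C.T (v18 C) [24, 31, 65, 100] (v18 C) [26, 32, 53, 79, 106, 110, 113] :=
  C.flip (f11211 C)

theorem f11213 : C.T (v3 C) [14, 46, 55, 84, 91, 110, 114] (v18 C) [20, 41, 59, 84, 107, 110, 120] :=
  C.conv (f6916 C) (f7402 C) (f7402 C) _ [148, 160, 166, 171, 177] _ (by decide +kernel) (by decide +kernel) (by decide +kernel)

theorem f11214 : C.S (v18 C) [26, 43, 49, 77, 91, 110, 115] :=
  C.stMul (f6836 C) (f6836 C) _ (by decide +kernel)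

theorem f11215 : C.T (v18 C) [23, 35, 59, 89, 100] (v18 C) [21, 31, 77, 92, 109, 119] :=
  C.conv (f9672 C) (f11214 C) (f7121 C) _ [138, 154, 166, 171, 178] _ (by decide +kernel) (by decide +kernel) (by decide +kernel)

theorem f11216 : C.S (v3 C) [18, 35, 57, 82, 93, 110, 115] :=
  C.stMul (f353 C) (f331 C) _ (by decide +kernel)

theorem f11217 : C.S (v3 C) [6, 45, 53, 79, 94, 110, 115] :=
  C.stMul (f335 C) (f11216 C) _ (by decide +kernel)

theorem f11218 : C.S (v3 C) [26, 27, 69, 86, 106, 110, 119] :=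
  C.stMul (f353 C) (f11217 C) _ (by decide +kernel)

theorem f11219 : C.S (v3 C) [6, 49, 86, 91, 110, 112] :=
  C.stMul (f331 C) (f11218 C) _ (by decide +kernel)

theorem f11220 : C.T (v3 C) [12, 41, 64, 85, 99, 110, 116] (v17 C) [23, 44, 54, 89, 108, 109, 115] :=
  C.conv (f6828 C) (f9427 C) (f11219 C) _ [162, 164, 172] _ (by decide +kernel) (by decide +kernel) (by decide +kernel)

theorem f11221 : C.T (v17 C) [23, 44, 54, 89, 108, 109, 115] (v3 C) [12, 41, 64, 85, 99, 110, 116] :=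
  C.flip (f11220 C)

theorem f11222 : C.T (v18 C) [6, 44, 69, 77, 93, 110, 119] (v17 C) [20, 43, 50, 71, 102, 109, 117] :=
  C.closeT (p := (v3 C)) (pu := [14, 46, 55, 84, 91, 110, 114])
    (C.pT (f11213 C)
    (C.pH [8, 30, 65, 84, 94, 117] [23, 35, 59, 89, 100] (by decide +kernel)
    (C.pT (f11215 C)
    (C.pH [26, 38, 54, 89, 90, 113] [6, 44, 69, 77, 93, 110, 119] (by decide +kernel) (C.pNil _ _)))))
    (C.pH [8, 30, 65, 84, 94, 117] [23, 44, 54, 89, 108, 109, 115] (by decide +kernel)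
    (C.pT (f11221 C)
    (C.pH [26, 38, 54, 89, 90, 113] [14, 46, 55, 84, 91, 110, 114] (by decide +kernel) (C.pNil _ _))))
    (C.loop_of_one (relLoop1 C) _ _)

theorem f11223 : C.T (v17 C) [20, 43, 50, 71, 102, 109, 117] (v18 C) [6, 44, 69, 77, 93, 110, 119] :=
  C.flip (f11222 C)

theorem f11224 : C.T (v3 C) [25, 32, 52, 70, 101, 114] (v18 C) [19, 47, 55, 83, 95, 119] :=
  C.conv (f6916 C) (f7402 C) (f7402 C) _ [131, 158, 167, 171, 178] _ (by decide +kernel) (by decide +kernel) (by decide +kernel)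

theorem f11225 : C.T (v3 C) [4, 33, 65, 77, 96, 110, 113] (v3 C) [23, 40, 52, 78, 106, 109, 122] :=
  C.conv (f383 C) (f386 C) (f385 C) _ [138, 159, 164, 172, 178] _ (by decide +kernel) (by decide +kernel) (by decide +kernel)

theorem f11226 : C.T (v3 C) [23, 40, 52, 78, 106, 109, 122] (v3 C) [4, 33, 65, 77, 96, 110, 113] :=
  C.flip (f11225 C)

theorem f11227 : C.S (v3 C) [7, 39, 56, 89, 103, 119] :=
  C.stMul (f331 C) (f9827 C) _ (by decide +kernel)

theorem f11228 : C.S (v3 C) [12, 34, 51, 89, 101, 111] :=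
  C.stMul (f331 C) (f11227 C) _ (by decide +kernel)

theorem f11229 : C.S (v3 C) [23, 31, 52, 82, 100, 112] :=
  C.stMul (f353 C) (f11228 C) _ (by decide +kernel)

theorem f11230 : C.T (v3 C) [20, 32, 67, 72, 91, 117] (v15 C) [15, 32, 57, 75, 110, 124] :=
  C.conv (f3166 C) (f3236 C) (f11229 C) _ [131, 150, 165, 174, 177] _ (by decide +kernel) (by decide +kernel) (by decide +kernel)

theorem f11231 : C.T (v15 C) [15, 32, 57, 75, 110, 124] (v3 C) [20, 32, 67, 72, 91, 117] :=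
  C.flip (f11230 C)

theorem f11232 : C.T (v18 C) [26, 30, 65, 70, 102, 110, 120] (v15 C) [20, 27, 66, 86, 102, 122] :=
  C.closeT (p := (v3 C)) (pu := [25, 32, 52, 70, 101, 114])
    (C.pT (f11224 C)
    (C.pH [8, 30, 65, 84, 94, 117] [26, 30, 65, 70, 102, 110, 120] (by decide +kernel) (C.pNil _ _)))
    (C.pH [26, 38, 54, 89, 90, 113] [15, 32, 57, 75, 110, 124] (by decide +kernel)
    (C.pT (f11231 C)
    (C.pH [8, 30, 65, 84, 94, 117] [23, 40, 52, 78, 106, 109, 122] (by decide +kernel)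
    (C.pT (f11226 C)
    (C.pH [26, 38, 54, 89, 90, 113] [25, 32, 52, 70, 101, 114] (by decide +kernel) (C.pNil _ _))))))
    (C.loop_of_one (relLoop1 C) _ _)

theorem f11233 : C.T (v15 C) [20, 27, 66, 86, 102, 122] (v18 C) [26, 30, 65, 70, 102, 110, 120] :=
  C.flip (f11232 C)

theorem f11234 : C.T (v3 C) [30, 68, 76, 106, 109, 117] (v18 C) [24, 41, 55, 71, 102, 121] :=
  C.conv (f7327 C) (f7806 C) (f7806 C) _ [140, 154, 164, 174, 177] _ (by decide +kernel) (by decide +kernel) (by decide +kernel)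

theorem f11235 : C.S (v3 C) [19, 30, 60, 72, 107, 110, 116] :=
  C.stMul (f331 C) (f335 C) _ (by decide +kernel)

theorem f11236 : C.S (v3 C) [26, 29, 49, 97, 123] :=
  C.stMul (f335 C) (f11235 C) _ (by decide +kernel)

theorem f11237 : C.S (v3 C) [8, 47, 49, 72, 107, 110, 116] :=
  C.stMul (f335 C) (f11236 C) _ (by decide +kernel)

theorem f11238 : C.T (v3 C) [7, 59, 76, 97, 109, 120] (v17 C) [20, 27, 50, 83, 94, 116] :=
  C.conv (f6269 C) (f7309 C) (f11237 C) _ [141, 155, 166, 172, 177] _ (by decide +kernel) (by decide +kernel) (by decide +kernel)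

theorem f11239 : C.T (v17 C) [20, 27, 50, 83, 94, 116] (v3 C) [7, 59, 76, 97, 109, 120] :=
  C.flip (f11238 C)

theorem f11240 : C.S (v17 C) [51, 81, 96, 109, 125] :=
  C.stMul (f4132 C) (f4137 C) _ (by decide +kernel)

theorem f11241 : C.S (v17 C) [23, 31, 75, 92, 109, 116] :=
  C.stMul (f4137 C) (f4132 C) _ (by decide +kernel)

theorem f11242 : C.T (v17 C) [16, 45, 58, 77, 100, 110, 120] (v16 C) [6, 31, 64, 72, 107, 116] :=
  C.conv (f6364 C) (f11240 C) (f11241 C) _ [147, 157, 172, 178] _ (by decide +kernel) (by decide +kernel) (by decide +kernel)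

theorem f11243 : C.T (v16 C) [6, 31, 64, 72, 107, 116] (v17 C) [16, 45, 58, 77, 100, 110, 120] :=
  C.flip (f11242 C)

theorem f11244 : C.T (v18 C) [16, 32, 57, 73, 110, 119] (v16 C) [21, 37, 58, 78, 99, 109, 119] :=
  C.closeT (p := (v3 C)) (pu := [30, 68, 76, 106, 109, 117])
    (C.pT (f11234 C)
    (C.pH [8, 30, 65, 84, 94, 117] [16, 32, 57, 73, 110, 119] (by decide +kernel) (C.pNil _ _)))
    (C.pH [26, 38, 54, 89, 90, 113] [6, 31, 64, 72, 107, 116] (by decide +kernel)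
    (C.pT (f11243 C)
    (C.pH [8, 30, 65, 84, 94, 117] [20, 27, 50, 83, 94, 116] (by decide +kernel)
    (C.pT (f11239 C)
    (C.pH [26, 38, 54, 89, 90, 113] [30, 68, 76, 106, 109, 117] (by decide +kernel) (C.pNil _ _))))))
    (C.loop_of_one (relLoop1 C) _ _)

theorem f11245 : C.T (v16 C) [21, 37, 58, 78, 99, 109, 119] (v18 C) [16, 32, 57, 73, 110, 119] :=
  C.flip (f11244 C)

theorem f11246 : C.T (v3 C) [19, 31, 53, 82, 104, 110, 121] (v18 C) [10, 48, 63, 88, 90, 109, 122] :=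
  C.conv (f7327 C) (f7806 C) (f7806 C) _ [130, 160, 166, 172] _ (by decide +kernel) (by decide +kernel) (by decide +kernel)

theorem f11247 : C.S (v3 C) [12, 29, 49, 79, 92, 110, 117] :=
  C.stMul (f353 C) (f9827 C) _ (by decide +kernel)

theorem f11248 : C.T (v3 C) [22, 36, 66, 82, 91, 109, 123] (v15 C) [20, 30, 58, 77, 99, 109, 120] :=
  C.conv (f3166 C) (f3236 C) (f11247 C) _ [132, 174, 178] _ (by decide +kernel) (by decide +kernel) (by decide +kernel)

theorem f11249 : C.T (v15 C) [20, 30, 58, 77, 99, 109, 120] (v3 C) [22, 36, 66, 82, 91, 109, 123] :=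
  C.flip (f11248 C)

theorem f11250 : C.T (v15 C) [16, 44, 56, 74, 100, 112] (v15 C) [5, 28, 69, 71, 98, 110, 119] :=
  C.conv (f2677 C) (f2680 C) (f2565 C) _ [131, 161, 170, 176, 177] _ (by decide +kernel) (by decide +kernel) (by decide +kernel)

theorem f11251 : C.T (v15 C) [5, 28, 69, 71, 98, 110, 119] (v15 C) [16, 44, 56, 74, 100, 112] :=
  C.flip (f11250 C)

theorem f11252 : C.T (v18 C) [15, 39, 64, 70, 93, 110, 123] (v15 C) [14, 48, 66, 89, 93, 109] :=
  C.closeT (p := (v3 C)) (pu := [19, 31, 53, 82, 104, 110, 121])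
    (C.pT (f11246 C)
    (C.pH [8, 30, 65, 84, 94, 117] [15, 39, 64, 70, 93, 110, 123] (by decide +kernel) (C.pNil _ _)))
    (C.pH [26, 38, 54, 89, 90, 113] [5, 28, 69, 71, 98, 110, 119] (by decide +kernel)
    (C.pT (f11251 C)
    (C.pH [8, 30, 65, 84, 94, 117] [20, 30, 58, 77, 99, 109, 120] (by decide +kernel)
    (C.pT (f11249 C)
    (C.pH [26, 38, 54, 89, 90, 113] [19, 31, 53, 82, 104, 110, 121] (by decide +kernel) (C.pNil _ _))))))
    (C.loop_of_one (relLoop1 C) _ _)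

theorem f11253 : C.T (v15 C) [14, 48, 66, 89, 93, 109] (v18 C) [15, 39, 64, 70, 93, 110, 123] :=
  C.flip (f11252 C)

theorem f11254 : C.T (v3 C) [9, 41, 62, 89, 93, 119] (v18 C) [19, 35, 49, 81, 101, 118] :=
  C.conv (f7327 C) (f7806 C) (f7806 C) _ [146, 154, 165, 177] _ (by decide +kernel) (by decide +kernel) (by decide +kernel)

theorem f11255 : C.S (v18 C) [26, 43, 49, 77, 91, 110, 115] :=
  C.stMul (f6836 C) (f6836 C) _ (by decide +kernel)

theorem f11256 : C.T (v18 C) [26, 43, 66, 76, 100, 110, 114] (v17 C) [5, 39, 49, 82, 98, 110, 116] :=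
  C.conv (f10141 C) (f11255 C) (f6836 C) _ [142, 163, 169, 175] _ (by decide +kernel) (by decide +kernel) (by decide +kernel)

theorem f11257 : C.T (v3 C) [15, 37, 62, 86, 109, 111] (v18 C) [23, 33, 55, 71, 97, 114] :=
  C.conv (f8216 C) (f8435 C) (f9434 C) _ [142, 157] _ (by decide +kernel) (by decide +kernel) (by decide +kernel)

theorem f11258 : C.T (v18 C) [23, 33, 55, 71, 97, 114] (v3 C) [15, 37, 62, 86, 109, 111] :=
  C.flip (f11257 C)

theorem f11259 : C.T (v17 C) [8, 37, 86, 100, 110, 118] (v18 C) [20, 36, 72, 95, 114] :=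
  C.closeT (p := (v3 C)) (pu := [9, 41, 62, 89, 93, 119])
    (C.pT (f11254 C)
    (C.pH [8, 30, 65, 84, 94, 117] [26, 43, 66, 76, 100, 110, 114] (by decide +kernel)
    (C.pT (f11256 C)
    (C.pH [26, 38, 54, 89, 90, 113] [8, 37, 86, 100, 110, 118] (by decide +kernel) (C.pNil _ _)))))
    (C.pH [8, 30, 65, 84, 94, 117] [23, 33, 55, 71, 97, 114] (by decide +kernel)
    (C.pT (f11258 C)
    (C.pH [26, 38, 54, 89, 90, 113] [9, 41, 62, 89, 93, 119] (by decide +kernel) (C.pNil _ _))))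
    (C.loop_of_one (relLoop1 C) _ _)

theorem f11260 : C.T (v18 C) [20, 36, 72, 95, 114] (v17 C) [8, 37, 86, 100, 110, 118] :=
  C.flip (f11259 C)

theorem f11261 : C.T (v3 C) [6, 45, 66, 71, 103, 115] (v18 C) [19, 46, 69, 72, 97, 109, 112] :=
  C.conv (f7327 C) (f7806 C) (f7806 C) _ [126, 158, 170, 175, 177] _ (by decide +kernel) (by decide +kernel) (by decide +kernel)

theorem f11262 : C.S (v3 C) [20, 42, 68, 89, 99] :=
  C.stMul (f335 C) (f353 C) _ (by decide +kernel)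

theorem f11263 : C.S (v3 C) [24, 63, 83, 91, 110, 113] :=
  C.stMul (f353 C) (f11262 C) _ (by decide +kernel)

theorem f11264 : C.S (v3 C) [7, 48, 57, 84, 104, 109, 123] :=
  C.stMul (f335 C) (f11263 C) _ (by decide +kernel)

theorem f11265 : C.T (v3 C) [21, 42, 65, 71, 97, 109, 124] (v17 C) [5, 39, 60, 81, 91, 109, 124] :=
  C.conv (f6822 C) (f7297 C) (f11264 C) _ [141, 159, 177] _ (by decide +kernel) (by decide +kernel) (by decide +kernel)

theorem f11266 : C.T (v17 C) [5, 39, 60, 81, 91, 109, 124] (v3 C) [21, 42, 65, 71, 97, 109, 124] :=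
  C.flip (f11265 C)

theorem f11267 : C.S (v17 C) [51, 81, 96, 109, 125] :=
  C.stMul (f4132 C) (f4137 C) _ (by decide +kernel)

theorem f11268 : C.T (v17 C) [14, 33, 52, 79, 95, 111] (v16 C) [22, 45, 65, 87, 108, 121] :=
  C.conv (f5692 C) (f11267 C) (f4132 C) _ [145, 159, 169, 175, 177] _ (by decide +kernel) (by decide +kernel) (by decide +kernel)

theorem f11269 : C.T (v16 C) [22, 45, 65, 87, 108, 121] (v17 C) [14, 33, 52, 79, 95, 111] :=
  C.flip (f11268 C)

theorem f11270 : C.T (v18 C) [26, 45, 54, 87, 103, 109, 111] (v16 C) [9, 33, 57, 76, 104, 110, 119] :=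
  C.closeT (p := (v3 C)) (pu := [6, 45, 66, 71, 103, 115])
    (C.pT (f11261 C)
    (C.pH [8, 30, 65, 84, 94, 117] [26, 45, 54, 87, 103, 109, 111] (by decide +kernel) (C.pNil _ _)))
    (C.pH [26, 38, 54, 89, 90, 113] [22, 45, 65, 87, 108, 121] (by decide +kernel)
    (C.pT (f11269 C)
    (C.pH [8, 30, 65, 84, 94, 117] [5, 39, 60, 81, 91, 109, 124] (by decide +kernel)
    (C.pT (f11266 C)
    (C.pH [26, 38, 54, 89, 90, 113] [6, 45, 66, 71, 103, 115] (by decide +kernel) (C.pNil _ _))))))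
    (C.loop_of_one (relLoop1 C) _ _)

theorem f11271 : C.T (v16 C) [9, 33, 57, 76, 104, 110, 119] (v18 C) [26, 45, 54, 87, 103, 109, 111] :=
  C.flip (f11270 C)

theorem f11272 : C.T (v3 C) [14, 33, 51, 80, 90, 118] (v18 C) [24, 48, 68, 74, 95, 110, 112] :=
  C.conv (f7327 C) (f7806 C) (f7806 C) _ [130, 162, 169, 173, 178] _ (by decide +kernel) (by decide +kernel) (by decide +kernel)

theorem f11273 : C.S (v3 C) [7, 37, 53, 78, 98, 118] :=
  C.stMul (f353 C) (f335 C) _ (by decide +kernel)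

theorem f11274 : C.S (v3 C) [12, 31, 63, 83, 106, 121] :=
  C.stMul (f331 C) (f11273 C) _ (by decide +kernel)

theorem f11275 : C.S (v3 C) [25, 37, 55, 85, 105, 109] :=
  C.stMul (f335 C) (f11274 C) _ (by decide +kernel)

theorem f11276 : C.T (v3 C) [12, 35, 58, 80, 107, 109, 120] (v17 C) [11, 38, 54, 79, 93, 109, 119] :=
  C.conv (f6808 C) (f9290 C) (f11275 C) _ [135, 171, 178] _ (by decide +kernel) (by decide +kernel) (by decide +kernel)

theorem f11277 : C.T (v17 C) [11, 38, 54, 79, 93, 109, 119] (v3 C) [12, 35, 58, 80, 107, 109, 120] :=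
  C.flip (f11276 C)

theorem f11278 : C.S (v17 C) [23, 31, 75, 92, 109, 116] :=
  C.stMul (f4137 C) (f4132 C) _ (by decide +kernel)

theorem f11279 : C.T (v17 C) [13, 45, 58, 84, 108, 110, 116] (v16 C) [24, 39, 54, 89, 99, 109, 119] :=
  C.conv (f4501 C) (f4132 C) (f11278 C) _ [140, 152, 168, 175, 177] _ (by decide +kernel) (by decide +kernel) (by decide +kernel)

theorem f11280 : C.T (v16 C) [24, 39, 54, 89, 99, 109, 119] (v17 C) [13, 45, 58, 84, 108, 110, 116] :=
  C.flip (f11279 C)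

theorem f11281 : C.T (v18 C) [16, 61, 80, 100, 109, 125] (v16 C) [11, 34, 59, 75, 100, 110, 113] :=
  C.closeT (p := (v3 C)) (pu := [14, 33, 51, 80, 90, 118])
    (C.pT (f11272 C)
    (C.pH [8, 30, 65, 84, 94, 117] [16, 61, 80, 100, 109, 125] (by decide +kernel) (C.pNil _ _)))
    (C.pH [26, 38, 54, 89, 90, 113] [24, 39, 54, 89, 99, 109, 119] (by decide +kernel)
    (C.pT (f11280 C)
    (C.pH [8, 30, 65, 84, 94, 117] [11, 38, 54, 79, 93, 109, 119] (by decide +kernel)
    (C.pT (f11277 C)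
    (C.pH [26, 38, 54, 89, 90, 113] [14, 33, 51, 80, 90, 118] (by decide +kernel) (C.pNil _ _))))))
    (C.loop_of_one (relLoop1 C) _ _)

theorem f11282 : C.T (v16 C) [11, 34, 59, 75, 100, 110, 113] (v18 C) [16, 61, 80, 100, 109, 125] :=
  C.flip (f11281 C)

theorem f11283 : C.T (v3 C) [7, 62, 100, 119] (v18 C) [9, 44, 64, 74, 103, 113] :=
  C.conv (f7327 C) (f7806 C) (f7806 C) _ [145, 159, 170, 177] _ (by decide +kernel) (by decide +kernel) (by decide +kernel)

theorem f11284 : C.S (v3 C) [15, 38, 55, 77, 98, 114] :=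
  C.stMul (f331 C) (f9372 C) _ (by decide +kernel)

theorem f11285 : C.S (v3 C) [8, 27, 64, 80, 97, 109, 113] :=
  C.stMul (f353 C) (f11284 C) _ (by decide +kernel)

theorem f11286 : C.T (v3 C) [23, 40, 52, 80, 102, 110, 113] (v18 C) [6, 34, 55, 82, 99, 120] :=
  C.conv (f6902 C) (f7285 C) (f11285 C) _ [142, 156, 171, 178] _ (by decide +kernel) (by decide +kernel) (by decide +kernel)

theorem f11287 : C.T (v18 C) [6, 34, 55, 82, 99, 120] (v3 C) [23, 40, 52, 80, 102, 110, 113] :=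
  C.flip (f11286 C)

theorem f11288 : C.T (v18 C) [22, 36, 55, 84, 94, 110, 116] (v15 C) [23, 42, 67, 74, 93, 112] :=
  C.conv (f11196 C) (f6836 C) (f6836 C) _ [127, 161, 168, 171, 177] _ (by decide +kernel) (by decide +kernel) (by decide +kernel)

theorem f11289 : C.T (v15 C) [23, 42, 67, 74, 93, 112] (v18 C) [22, 36, 55, 84, 94, 110, 116] :=
  C.flip (f11288 C)

theorem f11290 : C.T (v18 C) [18, 46, 62, 72, 100, 109] (v15 C) [13, 27, 63, 70, 110, 117] :=
  C.closeT (p := (v3 C)) (pu := [7, 62, 100, 119])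
    (C.pT (f11283 C)
    (C.pH [8, 30, 65, 84, 94, 117] [18, 46, 62, 72, 100, 109] (by decide +kernel) (C.pNil _ _)))
    (C.pH [26, 38, 54, 89, 90, 113] [23, 42, 67, 74, 93, 112] (by decide +kernel)
    (C.pT (f11289 C)
    (C.pH [8, 30, 65, 84, 94, 117] [6, 34, 55, 82, 99, 120] (by decide +kernel)
    (C.pT (f11287 C)
    (C.pH [26, 38, 54, 89, 90, 113] [7, 62, 100, 119] (by decide +kernel) (C.pNil _ _))))))
    (C.loop_of_one (relLoop1 C) _ _)

theorem f11291 : C.T (v15 C) [13, 27, 63, 70, 110, 117] (v18 C) [18, 46, 62, 72, 100, 109] :=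
  C.flip (f11290 C)

theorem f11292 : C.T (v3 C) [22, 69, 74, 107, 109, 111] (v18 C) [21, 30, 65, 77, 90, 110] :=
  C.conv (f7327 C) (f7806 C) (f7806 C) _ [134, 158, 165, 178] _ (by decide +kernel) (by decide +kernel) (by decide +kernel)

theorem f11293 : C.T (v3 C) [9, 43, 64, 79, 97, 122] (v17 C) [4, 29, 50, 75, 104, 110, 122] :=
  C.conv (f6808 C) (f9290 C) (f10136 C) _ [148, 167, 172, 178] _ (by decide +kernel) (by decide +kernel) (by decide +kernel)

theorem f11294 : C.T (v17 C) [4, 29, 50, 75, 104, 110, 122] (v3 C) [9, 43, 64, 79, 97, 122] :=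
  C.flip (f11293 C)

theorem f11295 : C.S (v17 C) [51, 81, 96, 109, 125] :=
  C.stMul (f4132 C) (f4137 C) _ (by decide +kernel)

theorem f11296 : C.T (v17 C) [18, 47, 51, 79, 98, 110, 118] (v17 C) [24, 30, 65, 78, 104, 123] :=
  C.conv (f6516 C) (f4132 C) (f11295 C) _ [139, 159, 167, 178] _ (by decide +kernel) (by decide +kernel) (by decide +kernel)

theorem f11297 : C.T (v17 C) [24, 30, 65, 78, 104, 123] (v17 C) [18, 47, 51, 79, 98, 110, 118] :=
  C.flip (f11296 C)

theorem f11298 : C.T (v18 C) [24, 47, 55, 86, 106, 109, 117] (v17 C) [11, 47, 64, 76, 102, 109, 112] :=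
  C.closeT (p := (v3 C)) (pu := [22, 69, 74, 107, 109, 111])
    (C.pT (f11292 C)
    (C.pH [8, 30, 65, 84, 94, 117] [24, 47, 55, 86, 106, 109, 117] (by decide +kernel) (C.pNil _ _)))
    (C.pH [26, 38, 54, 89, 90, 113] [24, 30, 65, 78, 104, 123] (by decide +kernel)
    (C.pT (f11297 C)
    (C.pH [8, 30, 65, 84, 94, 117] [4, 29, 50, 75, 104, 110, 122] (by decide +kernel)
    (C.pT (f11294 C)
    (C.pH [26, 38, 54, 89, 90, 113] [22, 69, 74, 107, 109, 111] (by decide +kernel) (C.pNil _ _))))))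
    (C.loop_of_one (relLoop1 C) _ _)

theorem f11299 : C.T (v17 C) [11, 47, 64, 76, 102, 109, 112] (v18 C) [24, 47, 55, 86, 106, 109, 117] :=
  C.flip (f11298 C)

theorem f11300 : C.T (v3 C) [16, 43, 64, 81, 95, 117] (v18 C) [11, 37, 56, 70, 107, 109, 112] :=
  C.conv (f7327 C) (f7806 C) (f7806 C) _ [137, 154, 168, 173, 178] _ (by decide +kernel) (by decide +kernel) (by decide +kernel)

theorem f11301 : C.S (v3 C) [21, 45, 66, 81, 102, 110] :=
  C.stMul (f335 C) (f9827 C) _ (by decide +kernel)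

theorem f11302 : C.S (v3 C) [25, 30, 54, 78, 106, 110, 122] :=
  C.stMul (f328 C) (f11301 C) _ (by decide +kernel)

theorem f11303 : C.S (v3 C) [17, 33, 49, 75, 102, 110, 114] :=
  C.stMul (f353 C) (f11302 C) _ (by decide +kernel)

theorem f11304 : C.T (v3 C) [26, 43, 61, 86, 103, 110, 125] (v15 C) [17, 36, 50, 87, 94, 110, 117] :=
  C.conv (f3166 C) (f3236 C) (f11303 C) _ [147, 154, 166, 171, 178] _ (by decide +kernel) (by decide +kernel) (by decide +kernel)

theorem f11305 : C.T (v15 C) [17, 36, 50, 87, 94, 110, 117] (v3 C) [26, 43, 61, 86, 103, 110, 125] :=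
  C.flip (f11304 C)

theorem f11306 : C.T (v15 C) [7, 44, 64, 83, 100, 119] (v15 C) [26, 48, 56, 79, 98, 111] :=
  C.conv (f3279 C) (f2569 C) (f10491 C) _ [136, 160, 164, 173] _ (by decide +kernel) (by decide +kernel) (by decide +kernel)

theorem f11307 : C.T (v15 C) [26, 48, 56, 79, 98, 111] (v15 C) [7, 44, 64, 83, 100, 119] :=
  C.flip (f11306 C)

theorem f11308 : C.T (v18 C) [7, 47, 59, 75, 95, 125] (v15 C) [46, 65, 83, 107, 109, 125] :=
  C.closeT (p := (v3 C)) (pu := [16, 43, 64, 81, 95, 117])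
    (C.pT (f11300 C)
    (C.pH [8, 30, 65, 84, 94, 117] [7, 47, 59, 75, 95, 125] (by decide +kernel) (C.pNil _ _)))
    (C.pH [26, 38, 54, 89, 90, 113] [26, 48, 56, 79, 98, 111] (by decide +kernel)
    (C.pT (f11307 C)
    (C.pH [8, 30, 65, 84, 94, 117] [17, 36, 50, 87, 94, 110, 117] (by decide +kernel)
    (C.pT (f11305 C)
    (C.pH [26, 38, 54, 89, 90, 113] [16, 43, 64, 81, 95, 117] (by decide +kernel) (C.pNil _ _))))))
    (C.loop_of_one (relLoop1 C) _ _)

theorem f11309 : C.T (v15 C) [46, 65, 83, 107, 109, 125] (v18 C) [7, 47, 59, 75, 95, 125] :=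
  C.flip (f11308 C)

theorem f11310 : C.T (v3 C) [13, 36, 63, 89, 97, 121] (v18 C) [15, 34, 61, 80, 104, 110, 125] :=
  C.conv (f7327 C) (f7806 C) (f7806 C) _ [146, 162, 167, 173, 177] _ (by decide +kernel) (by decide +kernel) (by decide +kernel)

theorem f11311 : C.S (v3 C) [22, 29, 89, 96, 109, 125] :=
  C.stMul (f328 C) (f331 C) _ (by decide +kernel)

theorem f11312 : C.S (v3 C) [18, 43, 59, 78, 90, 110, 111] :=
  C.stMul (f353 C) (f11311 C) _ (by decide +kernel)

theorem f11313 : C.S (v3 C) [38, 66, 70, 98, 110, 116] :=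
  C.stMul (f331 C) (f11312 C) _ (by decide +kernel)

theorem f11314 : C.T (v3 C) [16, 36, 63, 76, 104, 110, 124] (v17 C) [16, 39, 55, 85, 91, 110, 116] :=
  C.conv (f6814 C) (f7361 C) (f11313 C) _ [139, 170, 174, 177] _ (by decide +kernel) (by decide +kernel) (by decide +kernel)

theorem f11315 : C.T (v17 C) [16, 39, 55, 85, 91, 110, 116] (v3 C) [16, 36, 63, 76, 104, 110, 124] :=
  C.flip (f11314 C)

theorem f11316 : C.T (v17 C) [24, 46, 59, 80, 103, 109, 125] (v16 C) [11, 34, 55, 86, 102, 110] :=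
  C.conv (f5942 C) (f4132 C) (f4300 C) _ [144, 167, 173, 177] _ (by decide +kernel) (by decide +kernel) (by decide +kernel)

theorem f11317 : C.T (v16 C) [11, 34, 55, 86, 102, 110] (v17 C) [24, 46, 59, 80, 103, 109, 125] :=
  C.flip (f11316 C)

theorem f11318 : C.T (v18 C) [19, 41, 66, 80, 109, 115] (v16 C) [8, 45, 64, 78, 102, 110, 123] :=
  C.closeT (p := (v3 C)) (pu := [13, 36, 63, 89, 97, 121])
    (C.pT (f11310 C)
    (C.pH [8, 30, 65, 84, 94, 117] [19, 41, 66, 80, 109, 115] (by decide +kernel) (C.pNil _ _)))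
    (C.pH [26, 38, 54, 89, 90, 113] [11, 34, 55, 86, 102, 110] (by decide +kernel)
    (C.pT (f11317 C)
    (C.pH [8, 30, 65, 84, 94, 117] [16, 39, 55, 85, 91, 110, 116] (by decide +kernel)
    (C.pT (f11315 C)
    (C.pH [26, 38, 54, 89, 90, 113] [13, 36, 63, 89, 97, 121] (by decide +kernel) (C.pNil _ _))))))
    (C.loop_of_one (relLoop1 C) _ _)

theorem f11319 : C.T (v16 C) [8, 45, 64, 78, 102, 110, 123] (v18 C) [19, 41, 66, 80, 109, 115] :=
  C.flip (f11318 C)

theorem f11320 : C.T (v3 C) [18, 48, 69, 76, 97, 109, 111] (v18 C) [24, 39, 62, 72, 107, 112] :=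
  C.conv (f7327 C) (f7806 C) (f7806 C) _ [133, 156, 167, 178] _ (by decide +kernel) (by decide +kernel) (by decide +kernel)

theorem f11321 : C.S (v3 C) [15, 34, 56, 71, 106, 109, 117] :=
  C.stMul (f331 C) (f353 C) _ (by decide +kernel)

theorem f11322 : C.T (v3 C) [25, 78, 105, 109, 122] (v18 C) [9, 27, 69, 87, 103, 120] :=
  C.conv (f9221 C) (f9279 C) (f11321 C) _ [148, 154, 166, 173] _ (by decide +kernel) (by decide +kernel) (by decide +kernel)

theorem f11323 : C.T (v18 C) [9, 27, 69, 87, 103, 120] (v3 C) [25, 78, 105, 109, 122] :=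
  C.flip (f11322 C)

theorem f11324 : C.S (v18 C) [26, 43, 49, 77, 91, 110, 115] :=
  C.stMul (f6836 C) (f6836 C) _ (by decide +kernel)

theorem f11325 : C.T (v18 C) [25, 40, 53, 75, 97, 110, 112] (v17 C) [10, 41, 65, 84, 97, 110, 117] :=
  C.conv (f8471 C) (f11324 C) (f11324 C) _ [145, 153, 169, 175, 177] _ (by decide +kernel) (by decide +kernel) (by decide +kernel)

theorem f11326 : C.T (v17 C) [10, 41, 65, 84, 97, 110, 117] (v18 C) [25, 40, 53, 75, 97, 110, 112] :=
  C.flip (f11325 C)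

theorem f11327 : C.T (v18 C) [16, 33, 66, 78, 94, 118] (v17 C) [18, 38, 61, 76, 96, 111] :=
  C.closeT (p := (v3 C)) (pu := [18, 48, 69, 76, 97, 109, 111])
    (C.pT (f11320 C)
    (C.pH [8, 30, 65, 84, 94, 117] [16, 33, 66, 78, 94, 118] (by decide +kernel) (C.pNil _ _)))
    (C.pH [26, 38, 54, 89, 90, 113] [10, 41, 65, 84, 97, 110, 117] (by decide +kernel)
    (C.pT (f11326 C)
    (C.pH [8, 30, 65, 84, 94, 117] [9, 27, 69, 87, 103, 120] (by decide +kernel)
    (C.pT (f11323 C)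
    (C.pH [26, 38, 54, 89, 90, 113] [18, 48, 69, 76, 97, 109, 111] (by decide +kernel) (C.pNil _ _))))))
    (C.loop_of_one (relLoop1 C) _ _)

theorem f11328 : C.T (v17 C) [18, 38, 61, 76, 96, 111] (v18 C) [16, 33, 66, 78, 94, 118] :=
  C.flip (f11327 C)

theorem f11329 : C.T (v3 C) [25, 48, 57, 75, 104, 118] (v18 C) [20, 34, 51, 88, 100, 110, 122] :=
  C.conv (f7327 C) (f7806 C) (f7806 C) _ [126, 161, 169, 173, 178] _ (by decide +kernel) (by decide +kernel) (by decide +kernel)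

theorem f11330 : C.T (v18 C) [23, 45, 49, 84, 97, 115] (v17 C) [16, 47, 57, 89, 97, 109, 118] :=
  C.conv (f10885 C) (f6836 C) (f6836 C) _ [141, 154, 174, 178] _ (by decide +kernel) (by decide +kernel) (by decide +kernel)

theorem f11331 : C.T (v3 C) [4, 48, 59, 72, 91, 121] (v18 C) [8, 27, 61, 70, 90, 116] :=
  C.conv (f6888 C) (f7333 C) (f7928 C) _ [127, 160, 168, 174, 178] _ (by decide +kernel) (by decide +kernel) (by decide +kernel)

theorem f11332 : C.T (v18 C) [8, 27, 61, 70, 90, 116] (v3 C) [4, 48, 59, 72, 91, 121] :=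
  C.flip (f11331 C)

theorem f11333 : C.T (v17 C) [13, 27, 65, 99, 110, 123] (v18 C) [45, 51, 89, 99, 110] :=
  C.closeT (p := (v3 C)) (pu := [25, 48, 57, 75, 104, 118])
    (C.pT (f11329 C)
    (C.pH [8, 30, 65, 84, 94, 117] [23, 45, 49, 84, 97, 115] (by decide +kernel)
    (C.pT (f11330 C)
    (C.pH [26, 38, 54, 89, 90, 113] [13, 27, 65, 99, 110, 123] (by decide +kernel) (C.pNil _ _)))))
    (C.pH [8, 30, 65, 84, 94, 117] [8, 27, 61, 70, 90, 116] (by decide +kernel)
    (C.pT (f11332 C)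
    (C.pH [26, 38, 54, 89, 90, 113] [25, 48, 57, 75, 104, 118] (by decide +kernel) (C.pNil _ _))))
    (C.loop_of_one (relLoop1 C) _ _)

theorem f11334 : C.T (v18 C) [45, 51, 89, 99, 110] (v17 C) [13, 27, 65, 99, 110, 123] :=
  C.flip (f11333 C)

theorem f11335 : C.T (v3 C) [8, 36, 63, 83, 106, 114] (v18 C) [12, 47, 56, 89, 95, 109, 113] :=
  C.conv (f7327 C) (f7806 C) (f7806 C) _ [127, 158, 173, 178] _ (by decide +kernel) (by decide +kernel) (by decide +kernel)

theorem f11336 : C.S (v3 C) [9, 35, 69, 77, 96, 110, 118] :=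
  C.stMul (f353 C) (f9208 C) _ (by decide +kernel)

theorem f11337 : C.T (v3 C) [5, 29, 52, 84, 107, 110, 112] (v18 C) [20, 32, 61, 81, 93, 109, 119] :=
  C.conv (f6916 C) (f7402 C) (f11336 C) _ [147, 166] _ (by decide +kernel) (by decide +kernel) (by decide +kernel)

theorem f11338 : C.T (v18 C) [20, 32, 61, 81, 93, 109, 119] (v3 C) [5, 29, 52, 84, 107, 110, 112] :=
  C.flip (f11337 C)

theorem f11339 : C.S (v18 C) [26, 43, 49, 77, 91, 110, 115] :=
  C.stMul (f6836 C) (f6836 C) _ (by decide +kernel)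

theorem f11340 : C.T (v18 C) [16, 41, 66, 88, 101, 110, 111] (v18 C) [13, 48, 59, 80, 90, 110, 114] :=
  C.conv (f7754 C) (f6836 C) (f11339 C) _ [142, 152, 166] _ (by decide +kernel) (by decide +kernel) (by decide +kernel)

theorem f11341 : C.T (v18 C) [13, 48, 59, 80, 90, 110, 114] (v18 C) [16, 41, 66, 88, 101, 110, 111] :=
  C.flip (f11340 C)

theorem f11342 : C.T (v18 C) [21, 47, 59, 82, 91, 109, 117] (v18 C) [16, 43, 57, 84, 100, 109, 117] :=
  C.closeT (p := (v3 C)) (pu := [8, 36, 63, 83, 106, 114])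
    (C.pT (f11335 C)
    (C.pH [8, 30, 65, 84, 94, 117] [21, 47, 59, 82, 91, 109, 117] (by decide +kernel) (C.pNil _ _)))
    (C.pH [26, 38, 54, 89, 90, 113] [13, 48, 59, 80, 90, 110, 114] (by decide +kernel)
    (C.pT (f11341 C)
    (C.pH [8, 30, 65, 84, 94, 117] [20, 32, 61, 81, 93, 109, 119] (by decide +kernel)
    (C.pT (f11338 C)
    (C.pH [26, 38, 54, 89, 90, 113] [8, 36, 63, 83, 106, 114] (by decide +kernel) (C.pNil _ _))))))
    (C.loop_of_one (relLoop1 C) _ _)

theorem f11346 : C.T (v3 C) [23, 37, 62, 79, 113] (v18 C) [14, 37, 56, 84, 107, 110, 111] :=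
  C.conv (f7327 C) (f7806 C) (f7806 C) _ [142, 159, 169, 175, 178] _ (by decide +kernel) (by decide +kernel) (by decide +kernel)

theorem f11347 : C.T (v3 C) [13, 35, 56, 78, 102, 123] (v18 C) [8, 30, 56, 82, 106, 109, 125] :=
  C.conv (f6916 C) (f7402 C) (f9208 C) _ [129, 172, 178] _ (by decide +kernel) (by decide +kernel) (by decide +kernel)

theorem f11348 : C.T (v18 C) [8, 30, 56, 82, 106, 109, 125] (v3 C) [13, 35, 56, 78, 102, 123] :=
  C.flip (f11347 C)

theorem f11349 : C.T (v18 C) [56, 76, 99, 110, 120] (v15 C) [21, 29, 61, 80, 97, 109, 122] :=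
  C.conv (f8816 C) (f7121 C) (f7121 C) _ [134, 158, 169, 174, 177] _ (by decide +kernel) (by decide +kernel) (by decide +kernel)

theorem f11350 : C.T (v15 C) [21, 29, 61, 80, 97, 109, 122] (v18 C) [56, 76, 99, 110, 120] :=
  C.flip (f11349 C)

theorem f11351 : C.T (v18 C) [5, 48, 53, 83, 107, 109, 116] (v15 C) [10, 27, 63, 74, 108, 110, 124] :=
  C.closeT (p := (v3 C)) (pu := [23, 37, 62, 79, 113])
    (C.pT (f11346 C)
    (C.pH [8, 30, 65, 84, 94, 117] [5, 48, 53, 83, 107, 109, 116] (by decide +kernel) (C.pNil _ _)))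
    (C.pH [26, 38, 54, 89, 90, 113] [21, 29, 61, 80, 97, 109, 122] (by decide +kernel)
    (C.pT (f11350 C)
    (C.pH [8, 30, 65, 84, 94, 117] [8, 30, 56, 82, 106, 109, 125] (by decide +kernel)
    (C.pT (f11348 C)
    (C.pH [26, 38, 54, 89, 90, 113] [23, 37, 62, 79, 113] (by decide +kernel) (C.pNil _ _))))))
    (C.loop_of_one (relLoop1 C) _ _)

theorem f11352 : C.T (v15 C) [10, 27, 63, 74, 108, 110, 124] (v18 C) [5, 48, 53, 83, 107, 109, 116] :=
  C.flip (f11351 C)

theorem f11353 : C.T (v3 C) [13, 36, 56, 76, 98, 109] (v18 C) [19, 32, 59, 80, 105, 109, 111] :=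
  C.conv (f7327 C) (f7806 C) (f7806 C) _ [146, 170, 176] _ (by decide +kernel) (by decide +kernel) (by decide +kernel)

theorem f11354 : C.S (v3 C) [15, 34, 56, 71, 106, 109, 117] :=
  C.stMul (f331 C) (f353 C) _ (by decide +kernel)

theorem f11355 : C.S (v3 C) [15, 40, 50, 78, 92, 118] :=
  C.stMul (f328 C) (f11354 C) _ (by decide +kernel)

theorem f11356 : C.S (v3 C) [16, 39, 64, 74, 93, 112] :=
  C.stMul (f335 C) (f11355 C) _ (by decide +kernel)

theorem f11357 : C.T (v3 C) [16, 36, 57, 86, 90, 110, 111] (v17 C) [16, 46, 69, 72, 93, 109, 111] :=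
  C.conv (f6828 C) (f9427 C) (f11356 C) _ [137, 163, 166, 174, 178] _ (by decide +kernel) (by decide +kernel) (by decide +kernel)

theorem f11358 : C.T (v17 C) [16, 46, 69, 72, 93, 109, 111] (v3 C) [16, 36, 57, 86, 90, 110, 111] :=
  C.flip (f11357 C)

theorem f11359 : C.S (v17 C) [23, 31, 75, 92, 109, 116] :=
  C.stMul (f4137 C) (f4132 C) _ (by decide +kernel)

theorem f11360 : C.T (v17 C) [24, 38, 68, 76, 95, 109, 121] (v18 C) [18, 43, 58, 72, 122] :=
  C.conv (f9459 C) (f4132 C) (f11359 C) _ [143, 157, 164, 175, 178] _ (by decide +kernel) (by decide +kernel) (by decide +kernel)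

theorem f11361 : C.T (v18 C) [18, 43, 58, 72, 122] (v17 C) [24, 38, 68, 76, 95, 109, 121] :=
  C.flip (f11360 C)

theorem f11362 : C.T (v18 C) [26, 37, 54, 79, 91, 110, 122] (v18 C) [25, 27, 63, 73, 96, 124] :=
  C.closeT (p := (v3 C)) (pu := [13, 36, 56, 76, 98, 109])
    (C.pT (f11353 C)
    (C.pH [8, 30, 65, 84, 94, 117] [26, 37, 54, 79, 91, 110, 122] (by decide +kernel) (C.pNil _ _)))
    (C.pH [26, 38, 54, 89, 90, 113] [18, 43, 58, 72, 122] (by decide +kernel)
    (C.pT (f11361 C)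
    (C.pH [8, 30, 65, 84, 94, 117] [16, 46, 69, 72, 93, 109, 111] (by decide +kernel)
    (C.pT (f11358 C)
    (C.pH [26, 38, 54, 89, 90, 113] [13, 36, 56, 76, 98, 109] (by decide +kernel) (C.pNil _ _))))))
    (C.loop_of_one (relLoop1 C) _ _)

theorem f11363 : C.T (v18 C) [25, 27, 63, 73, 96, 124] (v18 C) [26, 37, 54, 79, 91, 110, 122] :=
  C.flip (f11362 C)

theorem f11364 : C.T (v3 C) [26, 46, 67, 87, 90, 115] (v18 C) [9, 42, 50, 87, 102, 115] :=
  C.conv (f7327 C) (f7806 C) (f7806 C) _ [138, 149, 167, 176, 178] _ (by decide +kernel) (by decide +kernel) (by decide +kernel)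

theorem f11365 : C.T (v3 C) [47, 64, 89, 107, 109, 119] (v18 C) [6, 34, 53, 82, 98, 109, 122] :=
  C.conv (f8216 C) (f8435 C) (f353 C) _ [147, 163, 168, 177] _ (by decide +kernel) (by decide +kernel) (by decide +kernel)

theorem f11366 : C.T (v18 C) [6, 34, 53, 82, 98, 109, 122] (v3 C) [47, 64, 89, 107, 109, 119] :=
  C.flip (f11365 C)

theorem f11367 : C.S (v18 C) [26, 43, 49, 77, 91, 110, 115] :=
  C.stMul (f6836 C) (f6836 C) _ (by decide +kernel)

theorem f11368 : C.T (v18 C) [22, 36, 54, 82, 98, 109, 122] (v18 C) [24, 31, 49, 85, 95, 113] :=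
  C.conv (f9724 C) (f11367 C) (f7121 C) _ [146, 162, 167, 175] _ (by decide +kernel) (by decide +kernel) (by decide +kernel)

theorem f11369 : C.T (v18 C) [24, 31, 49, 85, 95, 113] (v18 C) [22, 36, 54, 82, 98, 109, 122] :=
  C.flip (f11368 C)

theorem f11370 : C.T (v18 C) [18, 28, 53, 89, 104, 124] (v18 C) [11, 29, 52, 81, 100, 110, 113] :=
  C.closeT (p := (v3 C)) (pu := [26, 46, 67, 87, 90, 115])
    (C.pT (f11364 C)
    (C.pH [8, 30, 65, 84, 94, 117] [18, 28, 53, 89, 104, 124] (by decide +kernel) (C.pNil _ _)))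
    (C.pH [26, 38, 54, 89, 90, 113] [24, 31, 49, 85, 95, 113] (by decide +kernel)
    (C.pT (f11369 C)
    (C.pH [8, 30, 65, 84, 94, 117] [6, 34, 53, 82, 98, 109, 122] (by decide +kernel)
    (C.pT (f11366 C)
    (C.pH [26, 38, 54, 89, 90, 113] [26, 46, 67, 87, 90, 115] (by decide +kernel) (C.pNil _ _))))))
    (C.loop_of_one (relLoop1 C) _ _)

theorem f11373 : C.T (v3 C) [23, 39, 50, 82, 105, 112] (v18 C) [16, 29, 49, 75, 96] :=
  C.conv (f7327 C) (f7806 C) (f7806 C) _ [142, 157, 166, 174, 177] _ (by decide +kernel) (by decide +kernel) (by decide +kernel)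

theorem f11374 : C.S (v3 C) [24, 38, 68, 85, 97, 110, 111] :=
  C.stMul (f353 C) (f11178 C) _ (by decide +kernel)

theorem f11375 : C.S (v3 C) [19, 43, 49, 77, 108, 109, 113] :=
  C.stMul (f331 C) (f11374 C) _ (by decide +kernel)

theorem f11376 : C.T (v3 C) [13, 36, 59, 74, 93, 110, 112] (v17 C) [18, 40, 62, 80, 92, 122] :=
  C.conv (f6269 C) (f7309 C) (f11375 C) _ [138, 156, 164, 175, 178] _ (by decide +kernel) (by decide +kernel) (by decide +kernel)

theorem f11377 : C.T (v17 C) [18, 40, 62, 80, 92, 122] (v3 C) [13, 36, 59, 74, 93, 110, 112] :=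
  C.flip (f11376 C)

theorem f11378 : C.S (v17 C) [23, 31, 49, 84, 96, 117] :=
  C.stMul (f4137 C) (f4137 C) _ (by decide +kernel)

theorem f11379 : C.T (v17 C) [9, 28, 67, 104, 110, 121] (v17 C) [9, 28, 52, 87, 91, 109, 112] :=
  C.conv (f4750 C) (f11378 C) (f11378 C) _ [139, 160, 169, 173, 177] _ (by decide +kernel) (by decide +kernel) (by decide +kernel)

theorem f11380 : C.T (v17 C) [9, 28, 52, 87, 91, 109, 112] (v17 C) [9, 28, 67, 104, 110, 121] :=
  C.flip (f11379 C)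

theorem f11381 : C.T (v18 C) [20, 29, 51, 83, 101, 109, 125] (v17 C) [15, 36, 67, 78, 95, 110, 120] :=
  C.closeT (p := (v3 C)) (pu := [23, 39, 50, 82, 105, 112])
    (C.pT (f11373 C)
    (C.pH [8, 30, 65, 84, 94, 117] [20, 29, 51, 83, 101, 109, 125] (by decide +kernel) (C.pNil _ _)))
    (C.pH [26, 38, 54, 89, 90, 113] [9, 28, 52, 87, 91, 109, 112] (by decide +kernel)
    (C.pT (f11380 C)
    (C.pH [8, 30, 65, 84, 94, 117] [18, 40, 62, 80, 92, 122] (by decide +kernel)
    (C.pT (f11377 C)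
    (C.pH [26, 38, 54, 89, 90, 113] [23, 39, 50, 82, 105, 112] (by decide +kernel) (C.pNil _ _))))))
    (C.loop_of_one (relLoop1 C) _ _)

theorem f11382 : C.T (v17 C) [15, 36, 67, 78, 95, 110, 120] (v18 C) [20, 29, 51, 83, 101, 109, 125] :=
  C.flip (f11381 C)

theorem f11383 : C.T (v3 C) [9, 47, 82, 90, 109, 113] (v18 C) [25, 41, 57, 85, 92, 111] :=
  C.conv (f8165 C) (f8200 C) (f8200 C) _ [144, 157, 170, 173] _ (by decide +kernel) (by decide +kernel) (by decide +kernel)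

theorem f11384 : C.T (v3 C) [15, 27, 58, 73, 104, 110, 119] (v18 C) [32, 66, 86, 107, 121] :=
  C.conv (f6888 C) (f7333 C) (f328 C) _ [145, 163, 168, 175, 178] _ (by decide +kernel) (by decide +kernel) (by decide +kernel)

theorem f11385 : C.T (v18 C) [32, 66, 86, 107, 121] (v3 C) [15, 27, 58, 73, 104, 110, 119] :=
  C.flip (f11384 C)

theorem f11386 : C.T (v18 C) [8, 40, 63, 81, 90, 110, 111] (v18 C) [8, 48, 51, 84, 90, 113] :=
  C.conv (f11032 C) (f7121 C) (f6836 C) _ [135, 150, 168, 175, 177] _ (by decide +kernel) (by decide +kernel) (by decide +kernel)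

theorem f11387 : C.T (v18 C) [8, 48, 51, 84, 90, 113] (v18 C) [8, 40, 63, 81, 90, 110, 111] :=
  C.flip (f11386 C)

theorem f11388 : C.T (v18 C) [9, 48, 64, 71, 96, 109, 121] (v18 C) [5, 28, 64, 78, 95, 109, 115] :=
  C.closeT (p := (v3 C)) (pu := [9, 47, 82, 90, 109, 113])
    (C.pT (f11383 C)
    (C.pH [8, 30, 65, 84, 94, 117] [9, 48, 64, 71, 96, 109, 121] (by decide +kernel) (C.pNil _ _)))
    (C.pH [26, 38, 54, 89, 90, 113] [8, 48, 51, 84, 90, 113] (by decide +kernel)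
    (C.pT (f11387 C)
    (C.pH [8, 30, 65, 84, 94, 117] [32, 66, 86, 107, 121] (by decide +kernel)
    (C.pT (f11385 C)
    (C.pH [26, 38, 54, 89, 90, 113] [9, 47, 82, 90, 109, 113] (by decide +kernel) (C.pNil _ _))))))
    (C.loop_of_one (relLoop1 C) _ _)

theorem f11389 : C.T (v18 C) [5, 28, 64, 78, 95, 109, 115] (v18 C) [9, 48, 64, 71, 96, 109, 121] :=
  C.flip (f11388 C)

theorem f11390 : C.T (v3 C) [19, 30, 60, 85, 102, 110, 118] (v18 C) [14, 33, 63, 89, 95, 109, 125] :=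
  C.conv (f8165 C) (f8200 C) (f8200 C) _ [128, 162, 168, 172] _ (by decide +kernel) (by decide +kernel) (by decide +kernel)

theorem f11391 : C.S (v18 C) [26, 43, 49, 77, 91, 110, 115] :=
  C.stMul (f6836 C) (f6836 C) _ (by decide +kernel)

theorem f11392 : C.T (v18 C) [5, 39, 63, 86, 98, 110, 117] (v18 C) [9, 33, 86, 108, 113] :=
  C.conv (f7292 C) (f11391 C) (f7121 C) _ [143, 160, 166, 172, 177] _ (by decide +kernel) (by decide +kernel) (by decide +kernel)

theorem f11393 : C.S (v3 C) [25, 34, 84, 93, 109, 116] :=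
  C.stMul (f335 C) (f10587 C) _ (by decide +kernel)

theorem f11394 : C.S (v3 C) [21, 32, 61, 77, 107, 110, 118] :=
  C.stMul (f328 C) (f11393 C) _ (by decide +kernel)

theorem f11395 : C.T (v3 C) [22, 35, 58, 78, 92, 110] (v17 C) [4, 43, 63, 79, 108, 110, 122] :=
  C.conv (f6808 C) (f9290 C) (f11394 C) _ [137, 154, 168, 172] _ (by decide +kernel) (by decide +kernel) (by decide +kernel)

theorem f11396 : C.T (v17 C) [4, 43, 63, 79, 108, 110, 122] (v3 C) [22, 35, 58, 78, 92, 110] :=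
  C.flip (f11395 C)

theorem f11397 : C.T (v18 C) [22, 45, 54, 83, 95, 110, 122] (v17 C) [18, 28, 64, 70, 108, 109, 111] :=
  C.closeT (p := (v3 C)) (pu := [19, 30, 60, 85, 102, 110, 118])
    (C.pT (f11390 C)
    (C.pH [8, 30, 65, 84, 94, 117] [5, 39, 63, 86, 98, 110, 117] (by decide +kernel)
    (C.pT (f11392 C)
    (C.pH [26, 38, 54, 89, 90, 113] [22, 45, 54, 83, 95, 110, 122] (by decide +kernel) (C.pNil _ _)))))
    (C.pH [8, 30, 65, 84, 94, 117] [4, 43, 63, 79, 108, 110, 122] (by decide +kernel)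
    (C.pT (f11396 C)
    (C.pH [26, 38, 54, 89, 90, 113] [19, 30, 60, 85, 102, 110, 118] (by decide +kernel) (C.pNil _ _))))
    (C.loop_of_one (relLoop1 C) _ _)

theorem f11398 : C.T (v17 C) [18, 28, 64, 70, 108, 109, 111] (v18 C) [22, 45, 54, 83, 95, 110, 122] :=
  C.flip (f11397 C)

theorem f11399 : C.T (v3 C) [4, 48, 53, 87, 92, 110, 113] (v18 C) [13, 44, 53, 85, 104, 113] :=
  C.conv (f8165 C) (f8200 C) (f8200 C) _ [130, 163, 166, 172] _ (by decide +kernel) (by decide +kernel) (by decide +kernel)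

theorem f11400 : C.S (v3 C) [13, 29, 60, 92, 109, 121] :=
  C.stMul (f353 C) (f328 C) _ (by decide +kernel)

theorem f11401 : C.S (v3 C) [30, 69, 79, 91] :=
  C.stMul (f335 C) (f11400 C) _ (by decide +kernel)

theorem f11402 : C.S (v3 C) [22, 48, 51, 106, 122] :=
  C.stMul (f331 C) (f11401 C) _ (by decide +kernel)

theorem f11403 : C.T (v3 C) [6, 40, 56, 72, 101, 109, 116] (v4 C) [29, 66, 80, 93, 110] :=
  C.conv (f841 C) (f926 C) (f11402 C) _ [147, 162, 165, 172] _ (by decide +kernel) (by decide +kernel) (by decide +kernel)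

theorem f11404 : C.T (v4 C) [29, 66, 80, 93, 110] (v3 C) [6, 40, 56, 72, 101, 109, 116] :=
  C.flip (f11403 C)

theorem f11405 : C.S (v4 C) [23, 45, 57, 77, 95, 110, 118] :=
  C.stMul (f407 C) (f8570 C) _ (by decide +kernel)

theorem f11406 : C.T (v4 C) [8, 45, 56, 73, 90, 110, 114] (v18 C) [47, 57, 79, 93, 110, 116] :=
  C.conv (f6895 C) (f8570 C) (f11405 C) _ [131, 156, 168, 173] _ (by decide +kernel) (by decide +kernel) (by decide +kernel)

theorem f11407 : C.T (v18 C) [47, 57, 79, 93, 110, 116] (v4 C) [8, 45, 56, 73, 90, 110, 114] :=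
  C.flip (f11406 C)

theorem f11408 : C.T (v18 C) [11, 48, 59, 79, 107, 109, 115] (v18 C) [7, 41, 52, 85, 109, 123] :=
  C.closeT (p := (v3 C)) (pu := [4, 48, 53, 87, 92, 110, 113])
    (C.pT (f11399 C)
    (C.pH [8, 30, 65, 84, 94, 117] [11, 48, 59, 79, 107, 109, 115] (by decide +kernel) (C.pNil _ _)))
    (C.pH [26, 38, 54, 89, 90, 113] [47, 57, 79, 93, 110, 116] (by decide +kernel)
    (C.pT (f11407 C)
    (C.pH [8, 30, 65, 84, 94, 117] [29, 66, 80, 93, 110] (by decide +kernel)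
    (C.pT (f11404 C)
    (C.pH [26, 38, 54, 89, 90, 113] [4, 48, 53, 87, 92, 110, 113] (by decide +kernel) (C.pNil _ _))))))
    (C.loop_of_one (relLoop1 C) _ _)

theorem f11411 : C.T (v3 C) [25, 38, 50, 73, 93, 121] (v18 C) [9, 33, 62, 87, 98, 118] :=
  C.conv (f8165 C) (f8200 C) (f8200 C) _ [134, 161, 170, 176, 178] _ (by decide +kernel) (by decide +kernel) (by decide +kernel)

theorem f11412 : C.T (v3 C) [4, 34, 62, 75, 91, 116] (v18 C) [24, 42, 68, 88, 97, 119] :=
  C.conv (f9432 C) (f9640 C) (f9836 C) _ [140, 159, 165, 177] _ (by decide +kernel) (by decide +kernel) (by decide +kernel)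

theorem f11413 : C.T (v18 C) [24, 42, 68, 88, 97, 119] (v3 C) [4, 34, 62, 75, 91, 116] :=
  C.flip (f11412 C)

theorem f11414 : C.S (v18 C) [26, 43, 49, 77, 91, 110, 115] :=
  C.stMul (f6836 C) (f6836 C) _ (by decide +kernel)

theorem f11415 : C.T (v18 C) [21, 38, 55, 87, 91, 109, 114] (v18 C) [19, 45, 51, 89, 102, 117] :=
  C.conv (f7872 C) (f11414 C) (f7121 C) _ [144, 149] _ (by decide +kernel) (by decide +kernel) (by decide +kernel)

theorem f11416 : C.T (v18 C) [19, 45, 51, 89, 102, 117] (v18 C) [21, 38, 55, 87, 91, 109, 114] :=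
  C.flip (f11415 C)

theorem f11417 : C.T (v18 C) [18, 39, 87, 102, 121] (v18 C) [22, 30, 52, 75, 103, 112] :=
  C.closeT (p := (v3 C)) (pu := [25, 38, 50, 73, 93, 121])
    (C.pT (f11411 C)
    (C.pH [8, 30, 65, 84, 94, 117] [18, 39, 87, 102, 121] (by decide +kernel) (C.pNil _ _)))
    (C.pH [26, 38, 54, 89, 90, 113] [19, 45, 51, 89, 102, 117] (by decide +kernel)
    (C.pT (f11416 C)
    (C.pH [8, 30, 65, 84, 94, 117] [24, 42, 68, 88, 97, 119] (by decide +kernel)
    (C.pT (f11413 C)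
    (C.pH [26, 38, 54, 89, 90, 113] [25, 38, 50, 73, 93, 121] (by decide +kernel) (C.pNil _ _))))))
    (C.loop_of_one (relLoop1 C) _ _)

theorem f11418 : C.T (v18 C) [22, 30, 52, 75, 103, 112] (v18 C) [18, 39, 87, 102, 121] :=
  C.flip (f11417 C)

theorem f11419 : C.T (v3 C) [23, 32, 52, 82, 103, 109, 111] (v18 C) [18, 46, 63, 74, 100, 125] :=
  C.conv (f8165 C) (f8200 C) (f8200 C) _ [138, 151, 164] _ (by decide +kernel) (by decide +kernel) (by decide +kernel)

theorem f11420 : C.T (v18 C) [4, 37, 60, 83, 107, 109, 117] (v18 C) [25, 36, 55, 82, 98, 119] :=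
  C.conv (f7474 C) (f7121 C) (f6836 C) _ [135, 154, 176, 178] _ (by decide +kernel) (by decide +kernel) (by decide +kernel)

theorem f11421 : C.T (v3 C) [13, 42, 54, 80, 91, 110, 114] (v18 C) [26, 32, 61, 74, 99, 109, 124] :=
  C.conv (f9184 C) (f9232 C) (f10328 C) _ [139, 154, 168, 171] _ (by decide +kernel) (by decide +kernel) (by decide +kernel)

theorem f11422 : C.T (v18 C) [26, 32, 61, 74, 99, 109, 124] (v3 C) [13, 42, 54, 80, 91, 110, 114] :=
  C.flip (f11421 C)

theorem f11423 : C.T (v18 C) [18, 34, 58, 76, 96, 111] (v18 C) [19, 43, 54, 72, 113] :=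
  C.closeT (p := (v3 C)) (pu := [23, 32, 52, 82, 103, 109, 111])
    (C.pT (f11419 C)
    (C.pH [8, 30, 65, 84, 94, 117] [4, 37, 60, 83, 107, 109, 117] (by decide +kernel)
    (C.pT (f11420 C)
    (C.pH [26, 38, 54, 89, 90, 113] [18, 34, 58, 76, 96, 111] (by decide +kernel) (C.pNil _ _)))))
    (C.pH [8, 30, 65, 84, 94, 117] [26, 32, 61, 74, 99, 109, 124] (by decide +kernel)
    (C.pT (f11422 C)
    (C.pH [26, 38, 54, 89, 90, 113] [23, 32, 52, 82, 103, 109, 111] (by decide +kernel) (C.pNil _ _))))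
    (C.loop_of_one (relLoop1 C) _ _)

theorem f11424 : C.T (v18 C) [19, 43, 54, 72, 113] (v18 C) [18, 34, 58, 76, 96, 111] :=
  C.flip (f11423 C)

theorem f11425 : C.T (v3 C) [9, 34, 53, 96, 109, 111] (v18 C) [25, 46, 58, 75, 105, 109, 124] :=
  C.conv (f8165 C) (f8200 C) (f8200 C) _ [141, 152, 168, 175, 178] _ (by decide +kernel) (by decide +kernel) (by decide +kernel)

theorem f11426 : C.T (v18 C) [9, 39, 66, 79, 94, 110, 120] (v18 C) [19, 42, 57, 75, 107, 120] :=
  C.conv (f8408 C) (f8410 C) (f7121 C) _ [133, 158, 166, 172, 178] _ (by decide +kernel) (by decide +kernel) (by decide +kernel)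

theorem f11427 : C.S (v3 C) [20, 29, 56, 72, 109, 121] :=
  C.stMul (f335 C) (f10136 C) _ (by decide +kernel)

theorem f11428 : C.S (v3 C) [24, 38, 68, 85, 97, 110, 111] :=
  C.stMul (f353 C) (f11427 C) _ (by decide +kernel)

theorem f11429 : C.S (v3 C) [7, 27, 59, 75, 93, 110, 124] :=
  C.stMul (f335 C) (f11428 C) _ (by decide +kernel)

theorem f11430 : C.T (v3 C) [15, 38, 53, 74, 106, 109, 125] (v17 C) [9, 42, 67, 99, 119] :=
  C.conv (f6808 C) (f9290 C) (f11429 C) _ [137, 160, 170, 177] _ (by decide +kernel) (by decide +kernel) (by decide +kernel)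

theorem f11431 : C.T (v17 C) [9, 42, 67, 99, 119] (v3 C) [15, 38, 53, 74, 106, 109, 125] :=
  C.flip (f11430 C)

theorem f11432 : C.T (v18 C) [17, 46, 58, 82, 102, 118] (v17 C) [25, 45, 60, 78, 92, 109, 113] :=
  C.closeT (p := (v3 C)) (pu := [9, 34, 53, 96, 109, 111])
    (C.pT (f11425 C)
    (C.pH [8, 30, 65, 84, 94, 117] [9, 39, 66, 79, 94, 110, 120] (by decide +kernel)
    (C.pT (f11426 C)
    (C.pH [26, 38, 54, 89, 90, 113] [17, 46, 58, 82, 102, 118] (by decide +kernel) (C.pNil _ _)))))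
    (C.pH [8, 30, 65, 84, 94, 117] [9, 42, 67, 99, 119] (by decide +kernel)
    (C.pT (f11431 C)
    (C.pH [26, 38, 54, 89, 90, 113] [9, 34, 53, 96, 109, 111] (by decide +kernel) (C.pNil _ _))))
    (C.loop_of_one (relLoop1 C) _ _)

theorem f11433 : C.T (v17 C) [25, 45, 60, 78, 92, 109, 113] (v18 C) [17, 46, 58, 82, 102, 118] :=
  C.flip (f11432 C)

theorem f11434 : C.T (v3 C) [13, 33, 66, 80, 99, 110, 119] (v18 C) [25, 40, 61, 70, 109, 125] :=
  C.conv (f8165 C) (f8200 C) (f8200 C) _ [145, 150, 170] _ (by decide +kernel) (by decide +kernel) (by decide +kernel)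

theorem f11435 : C.T (v18 C) [9, 27, 61, 79, 92, 110, 120] (v17 C) [12, 47, 62, 84, 107, 109, 114] :=
  C.conv (f9379 C) (f6836 C) (f7121 C) _ [136, 152, 170, 171, 177] _ (by decide +kernel) (by decide +kernel) (by decide +kernel)

theorem f11436 : C.S (v3 C) [13, 29, 60, 92, 109, 121] :=
  C.stMul (f353 C) (f328 C) _ (by decide +kernel)

theorem f11437 : C.S (v3 C) [8, 48, 63, 86, 90, 110, 123] :=
  C.stMul (f331 C) (f11436 C) _ (by decide +kernel)

theorem f11438 : C.T (v3 C) [16, 46, 83, 94, 109, 121] (v18 C) [21, 29, 55, 89, 100, 110, 123] :=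
  C.conv (f8165 C) (f8200 C) (f11437 C) _ [129, 150, 169, 172] _ (by decide +kernel) (by decide +kernel) (by decide +kernel)

theorem f11439 : C.T (v18 C) [21, 29, 55, 89, 100, 110, 123] (v3 C) [16, 46, 83, 94, 109, 121] :=
  C.flip (f11438 C)

theorem f11440 : C.T (v17 C) [14, 30, 53, 71, 104, 110, 118] (v18 C) [12, 31, 49, 75, 90, 110, 119] :=
  C.closeT (p := (v3 C)) (pu := [13, 33, 66, 80, 99, 110, 119])
    (C.pT (f11434 C)
    (C.pH [8, 30, 65, 84, 94, 117] [9, 27, 61, 79, 92, 110, 120] (by decide +kernel)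
    (C.pT (f11435 C)
    (C.pH [26, 38, 54, 89, 90, 113] [14, 30, 53, 71, 104, 110, 118] (by decide +kernel) (C.pNil _ _)))))
    (C.pH [8, 30, 65, 84, 94, 117] [21, 29, 55, 89, 100, 110, 123] (by decide +kernel)
    (C.pT (f11439 C)
    (C.pH [26, 38, 54, 89, 90, 113] [13, 33, 66, 80, 99, 110, 119] (by decide +kernel) (C.pNil _ _))))
    (C.loop_of_one (relLoop1 C) _ _)

theorem f11441 : C.T (v18 C) [12, 31, 49, 75, 90, 110, 119] (v17 C) [14, 30, 53, 71, 104, 110, 118] :=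
  C.flip (f11440 C)

theorem f11442 : C.T (v3 C) [11, 45, 65, 86, 108, 109, 112] (v18 C) [22, 30, 72, 91, 109] :=
  C.conv (f8165 C) (f8200 C) (f8200 C) _ [141, 149, 167, 176, 177] _ (by decide +kernel) (by decide +kernel) (by decide +kernel)

theorem f11443 : C.T (v3 C) [8, 27, 59, 71, 101, 110, 117] (v18 C) [26, 30, 62, 74, 104, 109, 116] :=
  C.conv (f6916 C) (f7402 C) (f7404 C) _ [154, 165, 176, 177] _ (by decide +kernel) (by decide +kernel) (by decide +kernel)

theorem f11444 : C.T (v18 C) [26, 30, 62, 74, 104, 109, 116] (v3 C) [8, 27, 59, 71, 101, 110, 117] :=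
  C.flip (f11443 C)

theorem f11445 : C.S (v18 C) [26, 43, 49, 77, 91, 110, 115] :=
  C.stMul (f6836 C) (f6836 C) _ (by decide +kernel)

theorem f11446 : C.T (v18 C) [19, 47, 49, 83, 108, 125] (v18 C) [12, 46, 49, 78, 96, 109, 111] :=
  C.conv (f9730 C) (f11445 C) (f11445 C) _ [139, 170, 173, 178] _ (by decide +kernel) (by decide +kernel) (by decide +kernel)

theorem f11447 : C.T (v18 C) [12, 46, 49, 78, 96, 109, 111] (v18 C) [19, 47, 49, 83, 108, 125] :=
  C.flip (f11446 C)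

theorem f11448 : C.T (v18 C) [6, 35, 71, 104, 112] (v18 C) [24, 29, 66, 79, 94, 110, 115] :=
  C.closeT (p := (v3 C)) (pu := [11, 45, 65, 86, 108, 109, 112])
    (C.pT (f11442 C)
    (C.pH [8, 30, 65, 84, 94, 117] [6, 35, 71, 104, 112] (by decide +kernel) (C.pNil _ _)))
    (C.pH [26, 38, 54, 89, 90, 113] [12, 46, 49, 78, 96, 109, 111] (by decide +kernel)
    (C.pT (f11447 C)
    (C.pH [8, 30, 65, 84, 94, 117] [26, 30, 62, 74, 104, 109, 116] (by decide +kernel)
    (C.pT (f11444 C)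
    (C.pH [26, 38, 54, 89, 90, 113] [11, 45, 65, 86, 108, 109, 112] (by decide +kernel) (C.pNil _ _))))))
    (C.loop_of_one (relLoop1 C) _ _)

theorem f11449 : C.T (v18 C) [24, 29, 66, 79, 94, 110, 115] (v18 C) [6, 35, 71, 104, 112] :=
  C.flip (f11448 C)

theorem f11450 : C.T (v3 C) [20, 56, 78, 102, 110, 125] (v18 C) [12, 35, 51, 71, 98, 110, 119] :=
  C.conv (f8165 C) (f8200 C) (f8200 C) _ [137, 149, 165, 174, 178] _ (by decide +kernel) (by decide +kernel) (by decide +kernel)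

theorem f11451 : C.S (v18 C) [26, 43, 49, 77, 91, 110, 115] :=
  C.stMul (f6836 C) (f6836 C) _ (by decide +kernel)

theorem f11452 : C.T (v18 C) [21, 37, 49, 77, 90, 109, 112] (v18 C) [9, 29, 60, 77, 90, 110, 112] :=
  C.conv (f10321 C) (f11451 C) (f11451 C) _ [135, 160, 170, 172] _ (by decide +kernel) (by decide +kernel) (by decide +kernel)

theorem f11453 : C.T (v3 C) [17, 48, 62, 74, 93, 110] (v15 C) [19, 28, 49, 84, 104, 109, 124] :=
  C.conv (f3166 C) (f3236 C) (f10102 C) _ [145, 159, 170, 173, 178] _ (by decide +kernel) (by decide +kernel) (by decide +kernel)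

theorem f11454 : C.T (v15 C) [19, 28, 49, 84, 104, 109, 124] (v3 C) [17, 48, 62, 74, 93, 110] :=
  C.flip (f11453 C)

theorem f11455 : C.T (v18 C) [22, 36, 67, 76, 90, 110, 113] (v15 C) [15, 29, 62, 76, 93, 124] :=
  C.closeT (p := (v3 C)) (pu := [20, 56, 78, 102, 110, 125])
    (C.pT (f11450 C)
    (C.pH [8, 30, 65, 84, 94, 117] [21, 37, 49, 77, 90, 109, 112] (by decide +kernel)
    (C.pT (f11452 C)
    (C.pH [26, 38, 54, 89, 90, 113] [22, 36, 67, 76, 90, 110, 113] (by decide +kernel) (C.pNil _ _)))))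
    (C.pH [8, 30, 65, 84, 94, 117] [19, 28, 49, 84, 104, 109, 124] (by decide +kernel)
    (C.pT (f11454 C)
    (C.pH [26, 38, 54, 89, 90, 113] [20, 56, 78, 102, 110, 125] (by decide +kernel) (C.pNil _ _))))
    (C.loop_of_one (relLoop1 C) _ _)

theorem f11456 : C.T (v15 C) [15, 29, 62, 76, 93, 124] (v18 C) [22, 36, 67, 76, 90, 110, 113] :=
  C.flip (f11455 C)

theorem f11457 : C.T (v3 C) [5, 39, 53, 88, 90, 110, 113] (v18 C) [16, 47, 66, 78, 91, 110, 111] :=
  C.conv (f8165 C) (f8200 C) (f8200 C) _ [133, 158, 165, 178] _ (by decide +kernel) (by decide +kernel) (by decide +kernel)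

theorem f11458 : C.S (v18 C) [26, 43, 49, 77, 91, 110, 115] :=
  C.stMul (f6836 C) (f6836 C) _ (by decide +kernel)

theorem f11459 : C.T (v18 C) [20, 44, 78, 91, 110, 111] (v18 C) [13, 45, 58, 84, 109, 118] :=
  C.conv (f9647 C) (f11458 C) (f7121 C) _ [145, 152, 170, 173, 178] _ (by decide +kernel) (by decide +kernel) (by decide +kernel)

theorem f11460 : C.S (v3 C) [4, 35, 66, 84, 105, 109, 115] :=
  C.stMul (f335 C) (f331 C) _ (by decide +kernel)

theorem f11461 : C.S (v3 C) [12, 47, 57, 74, 97, 110] :=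
  C.stMul (f335 C) (f11460 C) _ (by decide +kernel)

theorem f11462 : C.S (v3 C) [25, 41, 58, 92, 119] :=
  C.stMul (f335 C) (f11461 C) _ (by decide +kernel)

theorem f11463 : C.T (v3 C) [14, 35, 69, 76, 107, 110, 115] (v17 C) [20, 42, 57, 75, 102, 110, 122] :=
  C.conv (f6269 C) (f7309 C) (f11462 C) _ [127, 160, 167, 172] _ (by decide +kernel) (by decide +kernel) (by decide +kernel)

theorem f11464 : C.T (v17 C) [20, 42, 57, 75, 102, 110, 122] (v3 C) [14, 35, 69, 76, 107, 110, 115] :=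
  C.flip (f11463 C)

theorem f11465 : C.T (v18 C) [23, 27, 66, 106] (v17 C) [16, 40, 61, 81, 97, 115] :=
  C.closeT (p := (v3 C)) (pu := [5, 39, 53, 88, 90, 110, 113])
    (C.pT (f11457 C)
    (C.pH [8, 30, 65, 84, 94, 117] [20, 44, 78, 91, 110, 111] (by decide +kernel)
    (C.pT (f11459 C)
    (C.pH [26, 38, 54, 89, 90, 113] [23, 27, 66, 106] (by decide +kernel) (C.pNil _ _)))))
    (C.pH [8, 30, 65, 84, 94, 117] [20, 42, 57, 75, 102, 110, 122] (by decide +kernel)
    (C.pT (f11464 C)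
    (C.pH [26, 38, 54, 89, 90, 113] [5, 39, 53, 88, 90, 110, 113] (by decide +kernel) (C.pNil _ _))))
    (C.loop_of_one (relLoop1 C) _ _)

theorem f11466 : C.T (v17 C) [16, 40, 61, 81, 97, 115] (v18 C) [23, 27, 66, 106] :=
  C.flip (f11465 C)

theorem f11467 : C.T (v3 C) [19, 46, 64, 89, 105, 109, 119] (v18 C) [14, 29, 55, 83, 99] :=
  C.conv (f8165 C) (f8200 C) (f8200 C) _ [142, 170, 174, 178] _ (by decide +kernel) (by decide +kernel) (by decide +kernel)

theorem f11468 : C.S (v18 C) [26, 43, 49, 77, 91, 110, 115] :=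
  C.stMul (f6836 C) (f6836 C) _ (by decide +kernel)

theorem f11469 : C.T (v18 C) [5, 38, 53, 73, 106, 110, 122] (v15 C) [41, 52, 78, 99, 118] :=
  C.conv (f6967 C) (f7121 C) (f11468 C) _ [132, 155, 168, 176] _ (by decide +kernel) (by decide +kernel) (by decide +kernel)

theorem f11470 : C.T (v3 C) [22, 45, 65, 82, 107, 109, 116] (v18 C) [16, 30, 49, 75, 91, 110, 121] :=
  C.conv (f7327 C) (f7806 C) (f10761 C) _ [160, 167, 173, 177] _ (by decide +kernel) (by decide +kernel) (by decide +kernel)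

theorem f11471 : C.T (v18 C) [16, 30, 49, 75, 91, 110, 121] (v3 C) [22, 45, 65, 82, 107, 109, 116] :=
  C.flip (f11470 C)

theorem f11472 : C.T (v15 C) [26, 39, 57, 109, 119] (v18 C) [24, 33, 56, 74, 96, 110, 123] :=
  C.closeT (p := (v3 C)) (pu := [19, 46, 64, 89, 105, 109, 119])
    (C.pT (f11467 C)
    (C.pH [8, 30, 65, 84, 94, 117] [5, 38, 53, 73, 106, 110, 122] (by decide +kernel)
    (C.pT (f11469 C)
    (C.pH [26, 38, 54, 89, 90, 113] [26, 39, 57, 109, 119] (by decide +kernel) (C.pNil _ _)))))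
    (C.pH [8, 30, 65, 84, 94, 117] [16, 30, 49, 75, 91, 110, 121] (by decide +kernel)
    (C.pT (f11471 C)
    (C.pH [26, 38, 54, 89, 90, 113] [19, 46, 64, 89, 105, 109, 119] (by decide +kernel) (C.pNil _ _))))
    (C.loop_of_one (relLoop1 C) _ _)

theorem f11473 : C.T (v18 C) [24, 33, 56, 74, 96, 110, 123] (v15 C) [26, 39, 57, 109, 119] :=
  C.flip (f11472 C)

theorem f11474 : C.T (v3 C) [25, 37, 50, 70, 91, 111] (v18 C) [17, 27, 59, 83, 92, 109, 119] :=
  C.conv (f8216 C) (f8435 C) (f8435 C) _ [138, 156, 165, 171] _ (by decide +kernel) (by decide +kernel) (by decide +kernel)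

theorem f11475 : C.S (v3 C) [18, 35, 57, 82, 93, 110, 115] :=
  C.stMul (f353 C) (f331 C) _ (by decide +kernel)

theorem f11476 : C.S (v3 C) [6, 45, 53, 79, 94, 110, 115] :=
  C.stMul (f335 C) (f11475 C) _ (by decide +kernel)

theorem f11477 : C.S (v3 C) [26, 27, 69, 86, 106, 110, 119] :=
  C.stMul (f353 C) (f11476 C) _ (by decide +kernel)

theorem f11478 : C.T (v3 C) [4, 29, 63, 80, 97, 109, 113] (v4 C) [16, 44, 63, 80, 91, 109, 122] :=
  C.conv (f808 C) (f938 C) (f11477 C) _ [136, 163, 167, 172, 177] _ (by decide +kernel) (by decide +kernel) (by decide +kernel)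

theorem f11479 : C.T (v4 C) [16, 44, 63, 80, 91, 109, 122] (v3 C) [4, 29, 63, 80, 97, 109, 113] :=
  C.flip (f11478 C)

theorem f11480 : C.S (v4 C) [10, 27, 56, 84, 93, 109, 113] :=
  C.stMul (f407 C) (f421 C) _ (by decide +kernel)

theorem f11481 : C.S (v4 C) [16, 32, 68, 79, 93, 110, 124] :=
  C.stMul (f407 C) (f11480 C) _ (by decide +kernel)

theorem f11482 : C.S (v4 C) [18, 44, 51, 79, 106, 114] :=
  C.stMul (f421 C) (f11481 C) _ (by decide +kernel)

theorem f11483 : C.S (v4 C) [10, 44, 68, 74, 91, 110, 116] :=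
  C.stMul (f693 C) (f11482 C) _ (by decide +kernel)

theorem f11484 : C.S (v4 C) [13, 28, 60, 83, 108, 110, 119] :=
  C.stMul (f421 C) (f693 C) _ (by decide +kernel)

theorem f11485 : C.T (v4 C) [24, 43, 67, 77, 101, 109, 115] (v18 C) [8, 41, 69, 85, 101, 116] :=
  C.conv (f10153 C) (f11483 C) (f11484 C) _ [144, 154, 169, 173] _ (by decide +kernel) (by decide +kernel) (by decide +kernel)

theorem f11486 : C.T (v18 C) [8, 41, 69, 85, 101, 116] (v4 C) [24, 43, 67, 77, 101, 109, 115] :=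
  C.flip (f11485 C)

theorem f11487 : C.T (v18 C) [22, 28, 50, 80, 97, 117] (v18 C) [5, 45, 64, 76, 102, 121] :=
  C.closeT (p := (v3 C)) (pu := [25, 37, 50, 70, 91, 111])
    (C.pT (f11474 C)
    (C.pH [8, 30, 65, 84, 94, 117] [22, 28, 50, 80, 97, 117] (by decide +kernel) (C.pNil _ _)))
    (C.pH [26, 38, 54, 89, 90, 113] [8, 41, 69, 85, 101, 116] (by decide +kernel)
    (C.pT (f11486 C)
    (C.pH [8, 30, 65, 84, 94, 117] [16, 44, 63, 80, 91, 109, 122] (by decide +kernel)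
    (C.pT (f11479 C)
    (C.pH [26, 38, 54, 89, 90, 113] [25, 37, 50, 70, 91, 111] (by decide +kernel) (C.pNil _ _))))))
    (C.loop_of_one (relLoop1 C) _ _)

theorem f11488 : C.T (v18 C) [5, 45, 64, 76, 102, 121] (v18 C) [22, 28, 50, 80, 97, 117] :=
  C.flip (f11487 C)

theorem f11489 : C.T (v3 C) [20, 36, 49, 77, 102, 110] (v18 C) [26, 43, 55, 84, 110, 119] :=
  C.conv (f8216 C) (f8435 C) (f8435 C) _ [141, 150, 169, 176, 177] _ (by decide +kernel) (by decide +kernel) (by decide +kernel)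

theorem f11490 : C.S (v18 C) [26, 43, 49, 77, 91, 110, 115] :=
  C.stMul (f6836 C) (f6836 C) _ (by decide +kernel)

theorem f11491 : C.T (v18 C) [14, 43, 58, 77, 117] (v10 C) [19, 38, 57, 85, 106, 110] :=
  C.conv (f7457 C) (f11490 C) (f6836 C) _ [131, 160, 169, 175, 178] _ (by decide +kernel) (by decide +kernel) (by decide +kernel)

theorem f11492 : C.S (v3 C) [11, 28, 50, 85, 94, 124] :=
  C.stMul (f353 C) (f7925 C) _ (by decide +kernel)

theorem f11493 : C.T (v3 C) [17, 32, 85, 99, 110, 111] (v18 C) [18, 29, 58, 77, 97, 109, 113] :=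
  C.conv (f6888 C) (f7333 C) (f11492 C) _ [157, 165, 174, 178] _ (by decide +kernel) (by decide +kernel) (by decide +kernel)

theorem f11494 : C.T (v18 C) [18, 29, 58, 77, 97, 109, 113] (v3 C) [17, 32, 85, 99, 110, 111] :=
  C.flip (f11493 C)

theorem f11495 : C.T (v10 C) [17, 42, 66, 105, 125] (v18 C) [9, 29, 68, 85, 102, 110, 113] :=
  C.closeT (p := (v3 C)) (pu := [20, 36, 49, 77, 102, 110])
    (C.pT (f11489 C)
    (C.pH [8, 30, 65, 84, 94, 117] [14, 43, 58, 77, 117] (by decide +kernel)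
    (C.pT (f11491 C)
    (C.pH [26, 38, 54, 89, 90, 113] [17, 42, 66, 105, 125] (by decide +kernel) (C.pNil _ _)))))
    (C.pH [8, 30, 65, 84, 94, 117] [18, 29, 58, 77, 97, 109, 113] (by decide +kernel)
    (C.pT (f11494 C)
    (C.pH [26, 38, 54, 89, 90, 113] [20, 36, 49, 77, 102, 110] (by decide +kernel) (C.pNil _ _))))
    (C.loop_of_one (relLoop1 C) _ _)

theorem f11496 : C.T (v18 C) [9, 29, 68, 85, 102, 110, 113] (v10 C) [17, 42, 66, 105, 125] :=
  C.flip (f11495 C)

theorem f11497 : C.T (v3 C) [26, 45, 63, 83, 95] (v18 C) [7, 30, 49, 89, 97, 110, 125] :=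
  C.conv (f8216 C) (f8435 C) (f8435 C) _ [152, 168, 175, 178] _ (by decide +kernel) (by decide +kernel) (by decide +kernel)

theorem f11498 : C.S (v3 C) [14, 37, 49, 82, 96, 123] :=
  C.stMul (f335 C) (f10687 C) _ (by decide +kernel)

theorem f11499 : C.T (v3 C) [48, 58, 78, 105, 110, 115] (v18 C) [38, 53, 85, 104, 117] :=
  C.conv (f6888 C) (f7333 C) (f11498 C) _ [134, 162, 167, 171, 177] _ (by decide +kernel) (by decide +kernel) (by decide +kernel)

theorem f11500 : C.T (v18 C) [38, 53, 85, 104, 117] (v3 C) [48, 58, 78, 105, 110, 115] :=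
  C.flip (f11499 C)

theorem f11501 : C.S (v18 C) [26, 43, 49, 77, 91, 110, 115] :=
  C.stMul (f6836 C) (f6836 C) _ (by decide +kernel)

theorem f11502 : C.T (v18 C) [8, 38, 53, 76, 97, 110, 114] (v18 C) [21, 33, 53, 74, 107, 123] :=
  C.conv (f9080 C) (f6836 C) (f11501 C) _ [139, 161, 169] _ (by decide +kernel) (by decide +kernel) (by decide +kernel)

theorem f11503 : C.T (v18 C) [21, 33, 53, 74, 107, 123] (v18 C) [8, 38, 53, 76, 97, 110, 114] :=
  C.flip (f11502 C)

theorem f11504 : C.T (v18 C) [17, 40, 56, 76, 103, 118] (v18 C) [10, 31, 51, 70, 93, 110, 116] :=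
  C.closeT (p := (v3 C)) (pu := [26, 45, 63, 83, 95])
    (C.pT (f11497 C)
    (C.pH [8, 30, 65, 84, 94, 117] [17, 40, 56, 76, 103, 118] (by decide +kernel) (C.pNil _ _)))
    (C.pH [26, 38, 54, 89, 90, 113] [21, 33, 53, 74, 107, 123] (by decide +kernel)
    (C.pT (f11503 C)
    (C.pH [8, 30, 65, 84, 94, 117] [38, 53, 85, 104, 117] (by decide +kernel)
    (C.pT (f11500 C)
    (C.pH [26, 38, 54, 89, 90, 113] [26, 45, 63, 83, 95] (by decide +kernel) (C.pNil _ _))))))
    (C.loop_of_one (relLoop1 C) _ _)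

theorem f11507 : C.T (v3 C) [10, 29, 56, 81, 105, 110, 121] (v18 C) [11, 36, 65, 83, 107, 121] :=
  C.conv (f8216 C) (f8435 C) (f8435 C) _ [134, 157, 169, 171, 178] _ (by decide +kernel) (by decide +kernel) (by decide +kernel)

theorem f11508 : C.S (v18 C) [26, 43, 49, 77, 91, 110, 115] :=
  C.stMul (f6836 C) (f6836 C) _ (by decide +kernel)

theorem f11509 : C.T (v18 C) [7, 33, 66, 70, 96, 110, 122] (v18 C) [7, 41, 54, 72, 103, 110, 122] :=
  C.conv (f10293 C) (f7121 C) (f11508 C) _ [130, 158, 164, 175, 178] _ (by decide +kernel) (by decide +kernel) (by decide +kernel)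

theorem f11510 : C.T (v3 C) [18, 37, 53, 77, 96, 110, 114] (v18 C) [15, 34, 59, 75, 101, 116] :=
  C.conv (f8216 C) (f8435 C) (f9256 C) _ [139, 160, 174] _ (by decide +kernel) (by decide +kernel) (by decide +kernel)

theorem f11511 : C.T (v18 C) [15, 34, 59, 75, 101, 116] (v3 C) [18, 37, 53, 77, 96, 110, 114] :=
  C.flip (f11510 C)

theorem f11512 : C.T (v18 C) [47, 64, 88, 103, 109, 112] (v18 C) [10, 44, 67, 85, 97, 120] :=
  C.closeT (p := (v3 C)) (pu := [10, 29, 56, 81, 105, 110, 121])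
    (C.pT (f11507 C)
    (C.pH [8, 30, 65, 84, 94, 117] [7, 33, 66, 70, 96, 110, 122] (by decide +kernel)
    (C.pT (f11509 C)
    (C.pH [26, 38, 54, 89, 90, 113] [47, 64, 88, 103, 109, 112] (by decide +kernel) (C.pNil _ _)))))
    (C.pH [8, 30, 65, 84, 94, 117] [15, 34, 59, 75, 101, 116] (by decide +kernel)
    (C.pT (f11511 C)
    (C.pH [26, 38, 54, 89, 90, 113] [10, 29, 56, 81, 105, 110, 121] (by decide +kernel) (C.pNil _ _))))
    (C.loop_of_one (relLoop1 C) _ _)

theorem f11513 : C.T (v18 C) [10, 44, 67, 85, 97, 120] (v18 C) [47, 64, 88, 103, 109, 112] :=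
  C.flip (f11512 C)

theorem f11514 : C.T (v3 C) [23, 34, 52, 70, 97, 109, 122] (v18 C) [8, 47, 65, 73, 91, 111] :=
  C.conv (f8216 C) (f8435 C) (f8435 C) _ [139, 151, 167, 172, 177] _ (by decide +kernel) (by decide +kernel) (by decide +kernel)

theorem f11515 : C.S (v3 C) [10, 28, 62, 78, 98, 110, 120] :=
  C.stMul (f328 C) (f335 C) _ (by decide +kernel)

theorem f11516 : C.S (v3 C) [20, 30, 59, 75, 96, 110, 111] :=
  C.stMul (f353 C) (f11515 C) _ (by decide +kernel)

theorem f11517 : C.S (v3 C) [18, 42, 59, 74, 99, 110, 112] :=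
  C.stMul (f331 C) (f11516 C) _ (by decide +kernel)

theorem f11518 : C.T (v3 C) [13, 34, 64, 85, 103, 110, 112] (v5 C) [9, 43, 58, 78, 104, 120] :=
  C.conv (f1048 C) (f1093 C) (f11517 C) _ [136, 157, 175] _ (by decide +kernel) (by decide +kernel) (by decide +kernel)

theorem f11519 : C.T (v5 C) [9, 43, 58, 78, 104, 120] (v3 C) [13, 34, 64, 85, 103, 110, 112] :=
  C.flip (f11518 C)

theorem f11520 : C.T (v5 C) [25, 48, 68, 82, 96, 110, 125] (v16 C) [26, 41, 68, 75, 94, 114] :=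
  C.conv (f3529 C) (f3576 C) (f3575 C) _ [135, 162, 167] _ (by decide +kernel) (by decide +kernel) (by decide +kernel)

theorem f11521 : C.T (v16 C) [26, 41, 68, 75, 94, 114] (v5 C) [25, 48, 68, 82, 96, 110, 125] :=
  C.flip (f11520 C)

theorem f11522 : C.T (v18 C) [45, 62, 77, 110, 117] (v16 C) [36, 54, 77, 106, 110, 121] :=
  C.closeT (p := (v3 C)) (pu := [23, 34, 52, 70, 97, 109, 122])
    (C.pT (f11514 C)
    (C.pH [8, 30, 65, 84, 94, 117] [45, 62, 77, 110, 117] (by decide +kernel) (C.pNil _ _)))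
    (C.pH [26, 38, 54, 89, 90, 113] [26, 41, 68, 75, 94, 114] (by decide +kernel)
    (C.pT (f11521 C)
    (C.pH [8, 30, 65, 84, 94, 117] [9, 43, 58, 78, 104, 120] (by decide +kernel)
    (C.pT (f11519 C)
    (C.pH [26, 38, 54, 89, 90, 113] [23, 34, 52, 70, 97, 109, 122] (by decide +kernel) (C.pNil _ _))))))
    (C.loop_of_one (relLoop1 C) _ _)

theorem f11523 : C.T (v16 C) [36, 54, 77, 106, 110, 121] (v18 C) [45, 62, 77, 110, 117] :=
  C.flip (f11522 C)

theorem f11524 : C.T (v3 C) [10, 34, 54, 79, 93, 124] (v18 C) [35, 61, 76, 101, 110, 115] :=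
  C.conv (f8216 C) (f8435 C) (f8435 C) _ [145, 158, 175, 178] _ (by decide +kernel) (by decide +kernel) (by decide +kernel)

theorem f11525 : C.T (v18 C) [8, 45, 67, 86, 102, 110, 115] (v18 C) [7, 28, 69, 78, 109, 113] :=
  C.conv (f8963 C) (f6836 C) (f7121 C) _ [135, 160, 165] _ (by decide +kernel) (by decide +kernel) (by decide +kernel)

theorem f11526 : C.S (v3 C) [11, 28, 50, 85, 94, 124] :=
  C.stMul (f353 C) (f8148 C) _ (by decide +kernel)

theorem f11527 : C.T (v3 C) [18, 35, 52, 85, 96, 110, 116] (v18 C) [19, 27, 57, 79, 101, 110, 120] :=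
  C.conv (f7327 C) (f7806 C) (f11526 C) _ [144, 158, 165, 176] _ (by decide +kernel) (by decide +kernel) (by decide +kernel)

theorem f11528 : C.T (v18 C) [19, 27, 57, 79, 101, 110, 120] (v3 C) [18, 35, 52, 85, 96, 110, 116] :=
  C.flip (f11527 C)

theorem f11529 : C.T (v18 C) [43, 66, 70, 94, 110, 118] (v18 C) [15, 35, 54, 77, 93, 119] :=
  C.closeT (p := (v3 C)) (pu := [10, 34, 54, 79, 93, 124])
    (C.pT (f11524 C)
    (C.pH [8, 30, 65, 84, 94, 117] [8, 45, 67, 86, 102, 110, 115] (by decide +kernel)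
    (C.pT (f11525 C)
    (C.pH [26, 38, 54, 89, 90, 113] [43, 66, 70, 94, 110, 118] (by decide +kernel) (C.pNil _ _)))))
    (C.pH [8, 30, 65, 84, 94, 117] [19, 27, 57, 79, 101, 110, 120] (by decide +kernel)
    (C.pT (f11528 C)
    (C.pH [26, 38, 54, 89, 90, 113] [10, 34, 54, 79, 93, 124] (by decide +kernel) (C.pNil _ _))))
    (C.loop_of_one (relLoop1 C) _ _)

theorem f11530 : C.T (v18 C) [15, 35, 54, 77, 93, 119] (v18 C) [43, 66, 70, 94, 110, 118] :=
  C.flip (f11529 C)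

theorem f11531 : C.T (v3 C) [15, 46, 83, 95, 110, 111] (v18 C) [11, 31, 65, 73, 91, 109, 115] :=
  C.conv (f8216 C) (f8435 C) (f8435 C) _ [134, 152, 164, 175] _ (by decide +kernel) (by decide +kernel) (by decide +kernel)

theorem f11532 : C.S (v18 C) [26, 43, 49, 77, 91, 110, 115] :=
  C.stMul (f6836 C) (f6836 C) _ (by decide +kernel)

theorem f11533 : C.T (v18 C) [7, 48, 57, 78, 95, 118] (v17 C) [26, 48, 68, 89, 96, 112] :=
  C.conv (f9466 C) (f11532 C) (f7121 C) _ [134, 158, 172, 177] _ (by decide +kernel) (by decide +kernel) (by decide +kernel)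

theorem f11534 : C.S (v3 C) [7, 29, 51, 83, 103, 109, 117] :=
  C.stMul (f335 C) (f335 C) _ (by decide +kernel)

theorem f11535 : C.S (v3 C) [13, 44, 69, 73, 100, 119] :=
  C.stMul (f335 C) (f11534 C) _ (by decide +kernel)

theorem f11536 : C.S (v3 C) [40, 53, 76, 108, 110, 116] :=
  C.stMul (f353 C) (f11535 C) _ (by decide +kernel)

theorem f11537 : C.T (v3 C) [20, 37, 66, 99, 110, 125] (v18 C) [8, 45, 62, 76, 95, 118] :=
  C.conv (f6916 C) (f7402 C) (f11536 C) _ [131, 159, 166, 171, 178] _ (by decide +kernel) (by decide +kernel) (by decide +kernel)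

theorem f11538 : C.T (v18 C) [8, 45, 62, 76, 95, 118] (v3 C) [20, 37, 66, 99, 110, 125] :=
  C.flip (f11537 C)

theorem f11539 : C.T (v17 C) [16, 40, 56, 89, 92, 110, 119] (v18 C) [35, 55, 77, 107, 109, 125] :=
  C.closeT (p := (v3 C)) (pu := [15, 46, 83, 95, 110, 111])
    (C.pT (f11531 C)
    (C.pH [8, 30, 65, 84, 94, 117] [7, 48, 57, 78, 95, 118] (by decide +kernel)
    (C.pT (f11533 C)
    (C.pH [26, 38, 54, 89, 90, 113] [16, 40, 56, 89, 92, 110, 119] (by decide +kernel) (C.pNil _ _)))))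
    (C.pH [8, 30, 65, 84, 94, 117] [8, 45, 62, 76, 95, 118] (by decide +kernel)
    (C.pT (f11538 C)
    (C.pH [26, 38, 54, 89, 90, 113] [15, 46, 83, 95, 110, 111] (by decide +kernel) (C.pNil _ _))))
    (C.loop_of_one (relLoop1 C) _ _)

theorem f11540 : C.T (v18 C) [35, 55, 77, 107, 109, 125] (v17 C) [16, 40, 56, 89, 92, 110, 119] :=
  C.flip (f11539 C)

theorem f11541 : C.T (v3 C) [17, 39, 58, 87, 98, 120] (v18 C) [7, 38, 69, 86, 97, 109, 123] :=
  C.conv (f8216 C) (f8435 C) (f8435 C) _ [134, 153, 169, 176, 177] _ (by decide +kernel) (by decide +kernel) (by decide +kernel)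

theorem f11542 : C.T (v18 C) [17, 29, 61, 91, 122] (v17 C) [10, 31, 52, 80, 106, 109, 120] :=
  C.conv (f10202 C) (f7121 C) (f7121 C) _ [145, 158, 166, 171, 177] _ (by decide +kernel) (by decide +kernel) (by decide +kernel)

theorem f11543 : C.T (v3 C) [19, 31, 67, 71, 107, 115] (v18 C) [11, 40, 61, 90, 109, 124] :=
  C.conv (f7327 C) (f7806 C) (f9613 C) _ [126, 154, 167, 171, 177] _ (by decide +kernel) (by decide +kernel) (by decide +kernel)

theorem f11544 : C.T (v18 C) [11, 40, 61, 90, 109, 124] (v3 C) [19, 31, 67, 71, 107, 115] :=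
  C.flip (f11543 C)

theorem f11545 : C.T (v17 C) [21, 33, 60, 71, 91, 109, 125] (v18 C) [13, 46, 63, 71, 90, 109] :=
  C.closeT (p := (v3 C)) (pu := [17, 39, 58, 87, 98, 120])
    (C.pT (f11541 C)
    (C.pH [8, 30, 65, 84, 94, 117] [17, 29, 61, 91, 122] (by decide +kernel)
    (C.pT (f11542 C)
    (C.pH [26, 38, 54, 89, 90, 113] [21, 33, 60, 71, 91, 109, 125] (by decide +kernel) (C.pNil _ _)))))
    (C.pH [8, 30, 65, 84, 94, 117] [11, 40, 61, 90, 109, 124] (by decide +kernel)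
    (C.pT (f11544 C)
    (C.pH [26, 38, 54, 89, 90, 113] [17, 39, 58, 87, 98, 120] (by decide +kernel) (C.pNil _ _))))
    (C.loop_of_one (relLoop1 C) _ _)

theorem f11546 : C.T (v18 C) [13, 46, 63, 71, 90, 109] (v17 C) [21, 33, 60, 71, 91, 109, 125] :=
  C.flip (f11545 C)

theorem f11547 : C.T (v3 C) [37, 63, 94, 109, 113] (v18 C) [7, 35, 64, 89, 92, 109, 117] :=
  C.conv (f8223 C) (f8361 C) (f8361 C) _ [148, 168, 174, 178] _ (by decide +kernel) (by decide +kernel) (by decide +kernel)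

theorem f11548 : C.T (v18 C) [17, 41, 53, 72, 93, 109, 115] (v17 C) [17, 31, 63, 78, 106, 124] :=
  C.conv (f7372 C) (f6836 C) (f7121 C) _ [148, 172, 177] _ (by decide +kernel) (by decide +kernel) (by decide +kernel)

theorem f11549 : C.T (v3 C) [7, 46, 82, 91, 110, 117] (v18 C) [25, 44, 55, 76, 91, 110, 121] :=
  C.conv (f7327 C) (f7806 C) (f10761 C) _ [140, 153, 169, 171, 178] _ (by decide +kernel) (by decide +kernel) (by decide +kernel)

theorem f11550 : C.T (v18 C) [25, 44, 55, 76, 91, 110, 121] (v3 C) [7, 46, 82, 91, 110, 117] :=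
  C.flip (f11549 C)

theorem f11551 : C.T (v17 C) [20, 27, 50, 81, 94, 116] (v18 C) [4, 29, 67, 78, 110, 122] :=
  C.closeT (p := (v3 C)) (pu := [37, 63, 94, 109, 113])
    (C.pT (f11547 C)
    (C.pH [8, 30, 65, 84, 94, 117] [17, 41, 53, 72, 93, 109, 115] (by decide +kernel)
    (C.pT (f11548 C)
    (C.pH [26, 38, 54, 89, 90, 113] [20, 27, 50, 81, 94, 116] (by decide +kernel) (C.pNil _ _)))))
    (C.pH [8, 30, 65, 84, 94, 117] [25, 44, 55, 76, 91, 110, 121] (by decide +kernel)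
    (C.pT (f11550 C)
    (C.pH [26, 38, 54, 89, 90, 113] [37, 63, 94, 109, 113] (by decide +kernel) (C.pNil _ _))))
    (C.loop_of_one (relLoop1 C) _ _)

theorem f11552 : C.T (v18 C) [4, 29, 67, 78, 110, 122] (v17 C) [20, 27, 50, 81, 94, 116] :=
  C.flip (f11551 C)

theorem f11553 : C.T (v3 C) [14, 33, 61, 80, 103, 112] (v18 C) [8, 40, 55, 75, 90, 109, 111] :=
  C.conv (f8223 C) (f8361 C) (f8361 C) _ [160, 167, 173, 178] _ (by decide +kernel) (by decide +kernel) (by decide +kernel)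

theorem f11554 : C.S (v18 C) [26, 43, 49, 77, 91, 110, 115] :=
  C.stMul (f6836 C) (f6836 C) _ (by decide +kernel)

theorem f11555 : C.T (v18 C) [32, 58, 77, 97, 125] (v18 C) [19, 38, 59, 87, 96, 109, 123] :=
  C.conv (f11418 C) (f6836 C) (f11554 C) _ [137, 162, 164, 175, 177] _ (by decide +kernel) (by decide +kernel) (by decide +kernel)

theorem f11556 : C.S (v3 C) [11, 37, 67, 78, 101, 109, 120] :=
  C.stMul (f328 C) (f9790 C) _ (by decide +kernel)

theorem f11557 : C.S (v3 C) [13, 37, 57, 76, 92, 109, 116] :=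
  C.stMul (f353 C) (f11556 C) _ (by decide +kernel)

theorem f11558 : C.T (v3 C) [12, 35, 66, 79, 107, 109, 124] (v18 C) [26, 36, 64, 75, 93, 109, 121] :=
  C.conv (f9432 C) (f9640 C) (f11557 C) _ [126, 161, 175] _ (by decide +kernel) (by decide +kernel) (by decide +kernel)

theorem f11559 : C.T (v18 C) [26, 36, 64, 75, 93, 109, 121] (v3 C) [12, 35, 66, 79, 107, 109, 124] :=
  C.flip (f11558 C)

theorem f11560 : C.T (v18 C) [17, 42, 62, 87, 91, 115] (v18 C) [19, 34, 59, 78, 103, 116] :=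
  C.closeT (p := (v3 C)) (pu := [14, 33, 61, 80, 103, 112])
    (C.pT (f11553 C)
    (C.pH [8, 30, 65, 84, 94, 117] [32, 58, 77, 97, 125] (by decide +kernel)
    (C.pT (f11555 C)
    (C.pH [26, 38, 54, 89, 90, 113] [17, 42, 62, 87, 91, 115] (by decide +kernel) (C.pNil _ _)))))
    (C.pH [8, 30, 65, 84, 94, 117] [26, 36, 64, 75, 93, 109, 121] (by decide +kernel)
    (C.pT (f11559 C)
    (C.pH [26, 38, 54, 89, 90, 113] [14, 33, 61, 80, 103, 112] (by decide +kernel) (C.pNil _ _))))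
    (C.loop_of_one (relLoop1 C) _ _)

theorem f11561 : C.T (v18 C) [19, 34, 59, 78, 103, 116] (v18 C) [17, 42, 62, 87, 91, 115] :=
  C.flip (f11560 C)

theorem f11562 : C.T (v3 C) [4, 28, 64, 82, 95, 110, 117] (v18 C) [25, 43, 52, 87, 110, 113] :=
  C.conv (f8223 C) (f8361 C) (f8361 C) _ [133, 155, 167, 174, 178] _ (by decide +kernel) (by decide +kernel) (by decide +kernel)

theorem f11563 : C.T (v3 C) [6, 32, 54, 75, 100, 109, 116] (v17 C) [26, 38, 52, 81, 103, 110, 119] :=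
  C.conv (f6822 C) (f7297 C) (f7295 C) _ [127, 161, 167, 173, 177] _ (by decide +kernel) (by decide +kernel) (by decide +kernel)

theorem f11564 : C.T (v17 C) [26, 38, 52, 81, 103, 110, 119] (v3 C) [6, 32, 54, 75, 100, 109, 116] :=
  C.flip (f11563 C)

theorem f11565 : C.S (v17 C) [51, 81, 96, 109, 125] :=
  C.stMul (f4132 C) (f4137 C) _ (by decide +kernel)

theorem f11566 : C.T (v17 C) [19, 42, 66, 77, 94, 120] (v9 C) [9, 37, 65, 100, 109, 119] :=
  C.conv (f5294 C) (f11565 C) (f4132 C) _ [144, 162, 170, 175] _ (by decide +kernel) (by decide +kernel) (by decide +kernel)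

theorem f11567 : C.T (v9 C) [9, 37, 65, 100, 109, 119] (v17 C) [19, 42, 66, 77, 94, 120] :=
  C.flip (f11566 C)

theorem f11568 : C.T (v18 C) [9, 31, 63, 89, 110, 125] (v9 C) [15, 29, 59, 79, 104, 109, 124] :=
  C.closeT (p := (v3 C)) (pu := [4, 28, 64, 82, 95, 110, 117])
    (C.pT (f11562 C)
    (C.pH [8, 30, 65, 84, 94, 117] [9, 31, 63, 89, 110, 125] (by decide +kernel) (C.pNil _ _)))
    (C.pH [26, 38, 54, 89, 90, 113] [9, 37, 65, 100, 109, 119] (by decide +kernel)
    (C.pT (f11567 C)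
    (C.pH [8, 30, 65, 84, 94, 117] [26, 38, 52, 81, 103, 110, 119] (by decide +kernel)
    (C.pT (f11564 C)
    (C.pH [26, 38, 54, 89, 90, 113] [4, 28, 64, 82, 95, 110, 117] (by decide +kernel) (C.pNil _ _))))))
    (C.loop_of_one (relLoop1 C) _ _)

theorem f11569 : C.T (v9 C) [15, 29, 59, 79, 104, 109, 124] (v18 C) [9, 31, 63, 89, 110, 125] :=
  C.flip (f11568 C)

theorem f11570 : C.T (v3 C) [5, 46, 66, 75, 105, 119] (v18 C) [8, 64, 84, 97, 124] :=
  C.conv (f8223 C) (f8361 C) (f8361 C) _ [170, 175] _ (by decide +kernel) (by decide +kernel) (by decide +kernel)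

theorem f11571 : C.T (v3 C) [14, 44, 53, 79, 93, 124] (v17 C) [26, 42, 64, 82, 101, 110, 111] :=
  C.conv (f6808 C) (f9290 C) (f376 C) _ [134, 157, 164, 175, 177] _ (by decide +kernel) (by decide +kernel) (by decide +kernel)

theorem f11572 : C.T (v17 C) [26, 42, 64, 82, 101, 110, 111] (v3 C) [14, 44, 53, 79, 93, 124] :=
  C.flip (f11571 C)

theorem f11573 : C.S (v17 C) [23, 31, 75, 92, 109, 116] :=
  C.stMul (f4137 C) (f4132 C) _ (by decide +kernel)

theorem f11574 : C.T (v17 C) [19, 29, 59, 74, 110, 123] (v18 C) [18, 41, 66, 74, 94, 114] :=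
  C.conv (f11099 C) (f4300 C) (f11573 C) _ [138, 158, 176, 177] _ (by decide +kernel) (by decide +kernel) (by decide +kernel)

theorem f11575 : C.T (v18 C) [18, 41, 66, 74, 94, 114] (v17 C) [19, 29, 59, 74, 110, 123] :=
  C.flip (f11574 C)

theorem f11576 : C.T (v18 C) [28, 51, 76, 96, 116] (v18 C) [25, 46, 62, 104, 111] :=
  C.closeT (p := (v3 C)) (pu := [5, 46, 66, 75, 105, 119])
    (C.pT (f11570 C)
    (C.pH [8, 30, 65, 84, 94, 117] [28, 51, 76, 96, 116] (by decide +kernel) (C.pNil _ _)))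
    (C.pH [26, 38, 54, 89, 90, 113] [18, 41, 66, 74, 94, 114] (by decide +kernel)
    (C.pT (f11575 C)
    (C.pH [8, 30, 65, 84, 94, 117] [26, 42, 64, 82, 101, 110, 111] (by decide +kernel)
    (C.pT (f11572 C)
    (C.pH [26, 38, 54, 89, 90, 113] [5, 46, 66, 75, 105, 119] (by decide +kernel) (C.pNil _ _))))))
    (C.loop_of_one (relLoop1 C) _ _)

theorem f11577 : C.T (v18 C) [25, 46, 62, 104, 111] (v18 C) [28, 51, 76, 96, 116] :=
  C.flip (f11576 C)

theorem f11578 : C.T (v3 C) [19, 30, 57, 78, 99, 110, 116] (v18 C) [26, 43, 56, 71, 103, 109] :=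
  C.conv (f8223 C) (f8361 C) (f8361 C) _ [129, 153, 169, 176, 177] _ (by decide +kernel) (by decide +kernel) (by decide +kernel)

theorem f11579 : C.S (v3 C) [6, 43, 52, 78, 106, 118] :=
  C.stMul (f328 C) (f7334 C) _ (by decide +kernel)

theorem f11580 : C.S (v3 C) [26, 33, 69, 81, 108, 110, 118] :=
  C.stMul (f353 C) (f11579 C) _ (by decide +kernel)

theorem f11581 : C.S (v3 C) [6, 48, 60, 87, 90, 109, 119] :=
  C.stMul (f331 C) (f11580 C) _ (by decide +kernel)

theorem f11582 : C.T (v3 C) [22, 35, 57, 77, 102, 110, 116] (v18 C) [20, 29, 66, 85, 99, 115] :=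
  C.conv (f6888 C) (f7333 C) (f11581 C) _ [133, 155, 169, 175] _ (by decide +kernel) (by decide +kernel) (by decide +kernel)

theorem f11583 : C.T (v18 C) [20, 29, 66, 85, 99, 115] (v3 C) [22, 35, 57, 77, 102, 110, 116] :=
  C.flip (f11582 C)

theorem f11584 : C.T (v18 C) [16, 29, 59, 77, 100, 110, 124] (v17 C) [18, 44, 60, 82, 102, 110, 118] :=
  C.conv (f7304 C) (f7121 C) (f7121 C) _ [144, 165, 172] _ (by decide +kernel) (by decide +kernel) (by decide +kernel)

theorem f11585 : C.T (v17 C) [18, 44, 60, 82, 102, 110, 118] (v18 C) [16, 29, 59, 77, 100, 110, 124] :=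
  C.flip (f11584 C)

theorem f11586 : C.T (v18 C) [14, 43, 66, 81, 109, 123] (v17 C) [25, 45, 51, 76, 91, 122] :=
  C.closeT (p := (v3 C)) (pu := [19, 30, 57, 78, 99, 110, 116])
    (C.pT (f11578 C)
    (C.pH [8, 30, 65, 84, 94, 117] [14, 43, 66, 81, 109, 123] (by decide +kernel) (C.pNil _ _)))
    (C.pH [26, 38, 54, 89, 90, 113] [18, 44, 60, 82, 102, 110, 118] (by decide +kernel)
    (C.pT (f11585 C)
    (C.pH [8, 30, 65, 84, 94, 117] [20, 29, 66, 85, 99, 115] (by decide +kernel)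
    (C.pT (f11583 C)
    (C.pH [26, 38, 54, 89, 90, 113] [19, 30, 57, 78, 99, 110, 116] (by decide +kernel) (C.pNil _ _))))))
    (C.loop_of_one (relLoop1 C) _ _)

theorem f11587 : C.T (v17 C) [25, 45, 51, 76, 91, 122] (v18 C) [14, 43, 66, 81, 109, 123] :=
  C.flip (f11586 C)

theorem f11588 : C.T (v3 C) [25, 41, 69, 89, 90, 109, 124] (v18 C) [21, 46, 54, 83, 101, 109, 111] :=
  C.conv (f8223 C) (f8361 C) (f8361 C) _ [139, 153, 167, 171, 178] _ (by decide +kernel) (by decide +kernel) (by decide +kernel)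

theorem f11589 : C.S (v3 C) [13, 29, 60, 92, 109, 121] :=
  C.stMul (f353 C) (f328 C) _ (by decide +kernel)

theorem f11590 : C.S (v3 C) [30, 69, 79, 91] :=
  C.stMul (f335 C) (f11589 C) _ (by decide +kernel)

theorem f11591 : C.S (v3 C) [11, 37, 67, 78, 101, 109, 120] :=
  C.stMul (f328 C) (f11590 C) _ (by decide +kernel)

theorem f11592 : C.T (v3 C) [4, 43, 51, 75, 97, 110, 119] (v15 C) [25, 27, 55, 76, 95, 110, 120] :=
  C.conv (f3166 C) (f3236 C) (f11591 C) _ [141, 152, 176] _ (by decide +kernel) (by decide +kernel) (by decide +kernel)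

theorem f11593 : C.T (v15 C) [25, 27, 55, 76, 95, 110, 120] (v3 C) [4, 43, 51, 75, 97, 110, 119] :=
  C.flip (f11592 C)

theorem f11594 : C.S (v15 C) [24, 47, 64, 83, 99, 109, 111] :=
  C.stMul (f2581 C) (f2569 C) _ (by decide +kernel)

theorem f11595 : C.T (v15 C) [4, 28, 50, 79, 104, 123] (v17 C) [24, 36, 51, 83, 104, 120] :=
  C.conv (f6748 C) (f11594 C) (f2652 C) _ [143, 154, 166, 175, 177] _ (by decide +kernel) (by decide +kernel) (by decide +kernel)

theorem f11596 : C.T (v17 C) [24, 36, 51, 83, 104, 120] (v15 C) [4, 28, 50, 79, 104, 123] :=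
  C.flip (f11595 C)

theorem f11597 : C.T (v18 C) [24, 39, 50, 81, 106, 110] (v17 C) [11, 44, 64, 85, 98, 117] :=
  C.closeT (p := (v3 C)) (pu := [25, 41, 69, 89, 90, 109, 124])
    (C.pT (f11588 C)
    (C.pH [8, 30, 65, 84, 94, 117] [24, 39, 50, 81, 106, 110] (by decide +kernel) (C.pNil _ _)))
    (C.pH [26, 38, 54, 89, 90, 113] [24, 36, 51, 83, 104, 120] (by decide +kernel)
    (C.pT (f11596 C)
    (C.pH [8, 30, 65, 84, 94, 117] [25, 27, 55, 76, 95, 110, 120] (by decide +kernel)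
    (C.pT (f11593 C)
    (C.pH [26, 38, 54, 89, 90, 113] [25, 41, 69, 89, 90, 109, 124] (by decide +kernel) (C.pNil _ _))))))
    (C.loop_of_one (relLoop1 C) _ _)

theorem f11598 : C.T (v17 C) [11, 44, 64, 85, 98, 117] (v18 C) [24, 39, 50, 81, 106, 110] :=
  C.flip (f11597 C)

theorem f11599 : C.T (v3 C) [15, 30, 66, 89, 94, 114] (v18 C) [19, 33, 57, 83, 106, 110, 125] :=
  C.conv (f8223 C) (f8361 C) (f8361 C) _ [133, 161, 165, 176, 177] _ (by decide +kernel) (by decide +kernel) (by decide +kernel)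

theorem f11600 : C.S (v3 C) [15, 41, 51, 77, 100, 110, 113] :=
  C.stMul (f328 C) (f10686 C) _ (by decide +kernel)

theorem f11601 : C.S (v3 C) [8, 38, 72, 99, 119] :=
  C.stMul (f353 C) (f11600 C) _ (by decide +kernel)

theorem f11602 : C.T (v3 C) [20, 44, 57, 85, 96, 110, 124] (v18 C) [5, 28, 61, 75, 109, 125] :=
  C.conv (f6888 C) (f7333 C) (f11601 C) _ [141, 151, 169, 171, 178] _ (by decide +kernel) (by decide +kernel) (by decide +kernel)

theorem f11603 : C.T (v18 C) [5, 28, 61, 75, 109, 125] (v3 C) [20, 44, 57, 85, 96, 110, 124] :=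
  C.flip (f11602 C)

theorem f11604 : C.S (v18 C) [26, 43, 49, 77, 91, 110, 115] :=
  C.stMul (f6836 C) (f6836 C) _ (by decide +kernel)

theorem f11605 : C.T (v18 C) [14, 32, 62, 89, 105, 122] (v18 C) [17, 44, 53, 70, 104, 110, 120] :=
  C.conv (f9839 C) (f11604 C) (f11604 C) _ [140, 159, 170, 176, 178] _ (by decide +kernel) (by decide +kernel) (by decide +kernel)

theorem f11606 : C.T (v18 C) [17, 44, 53, 70, 104, 110, 120] (v18 C) [14, 32, 62, 89, 105, 122] :=
  C.flip (f11605 C)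

theorem f11607 : C.T (v18 C) [26, 31, 55, 78, 99, 109, 118] (v18 C) [19, 28, 49, 84, 90, 109, 111] :=
  C.closeT (p := (v3 C)) (pu := [15, 30, 66, 89, 94, 114])
    (C.pT (f11599 C)
    (C.pH [8, 30, 65, 84, 94, 117] [26, 31, 55, 78, 99, 109, 118] (by decide +kernel) (C.pNil _ _)))
    (C.pH [26, 38, 54, 89, 90, 113] [17, 44, 53, 70, 104, 110, 120] (by decide +kernel)
    (C.pT (f11606 C)
    (C.pH [8, 30, 65, 84, 94, 117] [5, 28, 61, 75, 109, 125] (by decide +kernel)
    (C.pT (f11603 C)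
    (C.pH [26, 38, 54, 89, 90, 113] [15, 30, 66, 89, 94, 114] (by decide +kernel) (C.pNil _ _))))))
    (C.loop_of_one (relLoop1 C) _ _)

theorem f11608 : C.T (v18 C) [19, 28, 49, 84, 90, 109, 111] (v18 C) [26, 31, 55, 78, 99, 109, 118] :=
  C.flip (f11607 C)

theorem f11609 : C.T (v3 C) [9, 46, 64, 70, 101] (v18 C) [6, 54, 71, 109, 120] :=
  C.conv (f8223 C) (f8361 C) (f8361 C) _ [133, 163, 165, 175, 177] _ (by decide +kernel) (by decide +kernel) (by decide +kernel)

theorem f11610 : C.S (v18 C) [26, 43, 49, 77, 91, 110, 115] :=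
  C.stMul (f6836 C) (f6836 C) _ (by decide +kernel)

theorem f11611 : C.T (v18 C) [13, 45, 58, 86, 104, 110, 124] (v17 C) [17, 32, 52, 83, 94, 110, 119] :=
  C.conv (f11546 C) (f11610 C) (f6836 C) _ [143, 155, 167, 171, 178] _ (by decide +kernel) (by decide +kernel) (by decide +kernel)

theorem f11612 : C.T (v3 C) [15, 32, 63, 74, 98, 109, 115] (v18 C) [13, 43, 52, 83, 105, 113] :=
  C.conv (f7327 C) (f7806 C) (f10513 C) _ [141, 159, 164, 173] _ (by decide +kernel) (by decide +kernel) (by decide +kernel)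

theorem f11613 : C.T (v18 C) [13, 43, 52, 83, 105, 113] (v3 C) [15, 32, 63, 74, 98, 109, 115] :=
  C.flip (f11612 C)

theorem f11614 : C.T (v17 C) [20, 36, 69, 70, 107, 110, 111] (v18 C) [6, 40, 64, 70, 95, 109, 124] :=
  C.closeT (p := (v3 C)) (pu := [9, 46, 64, 70, 101])
    (C.pT (f11609 C)
    (C.pH [8, 30, 65, 84, 94, 117] [13, 45, 58, 86, 104, 110, 124] (by decide +kernel)
    (C.pT (f11611 C)
    (C.pH [26, 38, 54, 89, 90, 113] [20, 36, 69, 70, 107, 110, 111] (by decide +kernel) (C.pNil _ _)))))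
    (C.pH [8, 30, 65, 84, 94, 117] [13, 43, 52, 83, 105, 113] (by decide +kernel)
    (C.pT (f11613 C)
    (C.pH [26, 38, 54, 89, 90, 113] [9, 46, 64, 70, 101] (by decide +kernel) (C.pNil _ _))))
    (C.loop_of_one (relLoop1 C) _ _)

theorem f11615 : C.T (v18 C) [6, 40, 64, 70, 95, 109, 124] (v17 C) [20, 36, 69, 70, 107, 110, 111] :=
  C.flip (f11614 C)

theorem f11616 : C.T (v3 C) [8, 44, 53, 74, 104, 109, 114] (v18 C) [25, 34, 66, 82, 104, 110, 122] :=
  C.conv (f9184 C) (f9232 C) (f9232 C) _ [135, 157, 168, 175, 178] _ (by decide +kernel) (by decide +kernel) (by decide +kernel)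

theorem f11617 : C.T (v18 C) [9, 30, 60, 70, 98, 109, 120] (v17 C) [25, 28, 54, 78, 97, 117] :=
  C.conv (f9864 C) (f7121 C) (f6836 C) _ [132, 172, 178] _ (by decide +kernel) (by decide +kernel) (by decide +kernel)

theorem f11618 : C.S (v3 C) [18, 43, 59, 78, 90, 110, 111] :=
  C.stMul (f353 C) (f9775 C) _ (by decide +kernel)

theorem f11619 : C.S (v3 C) [6, 29, 67, 88, 100, 110] :=
  C.stMul (f335 C) (f11618 C) _ (by decide +kernel)

theorem f11620 : C.S (v3 C) [26, 46, 65, 72, 105, 109, 117] :=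
  C.stMul (f353 C) (f11619 C) _ (by decide +kernel)

theorem f11621 : C.T (v3 C) [5, 35, 66, 81, 99, 110, 116] (v18 C) [16, 32, 57, 84, 105, 110, 121] :=
  C.conv (f9184 C) (f9232 C) (f11620 C) _ [139, 160, 164] _ (by decide +kernel) (by decide +kernel) (by decide +kernel)

theorem f11622 : C.T (v18 C) [16, 32, 57, 84, 105, 110, 121] (v3 C) [5, 35, 66, 81, 99, 110, 116] :=
  C.flip (f11621 C)

theorem f11623 : C.T (v17 C) [18, 31, 55, 80, 93, 110] (v18 C) [24, 41, 55, 86, 92, 109, 111] :=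
  C.closeT (p := (v3 C)) (pu := [8, 44, 53, 74, 104, 109, 114])
    (C.pT (f11616 C)
    (C.pH [8, 30, 65, 84, 94, 117] [9, 30, 60, 70, 98, 109, 120] (by decide +kernel)
    (C.pT (f11617 C)
    (C.pH [26, 38, 54, 89, 90, 113] [18, 31, 55, 80, 93, 110] (by decide +kernel) (C.pNil _ _)))))
    (C.pH [8, 30, 65, 84, 94, 117] [16, 32, 57, 84, 105, 110, 121] (by decide +kernel)
    (C.pT (f11622 C)
    (C.pH [26, 38, 54, 89, 90, 113] [8, 44, 53, 74, 104, 109, 114] (by decide +kernel) (C.pNil _ _))))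
    (C.loop_of_one (relLoop1 C) _ _)

theorem f11624 : C.T (v18 C) [24, 41, 55, 86, 92, 109, 111] (v17 C) [18, 31, 55, 80, 93, 110] :=
  C.flip (f11623 C)

theorem f11625 : C.T (v3 C) [17, 29, 68, 88, 91, 117] (v18 C) [21, 37, 61, 86, 99, 122] :=
  C.conv (f9184 C) (f9232 C) (f9232 C) _ [132, 155, 170, 175, 177] _ (by decide +kernel) (by decide +kernel) (by decide +kernel)

theorem f11626 : C.T (v18 C) [24, 44, 54, 71, 108, 110, 114] (v18 C) [7, 27, 59, 93, 125] :=
  C.conv (f9730 C) (f11445 C) (f11445 C) _ [131, 163, 170, 174] _ (by decide +kernel) (by decide +kernel) (by decide +kernel)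

theorem f11627 : C.S (v3 C) [15, 34, 56, 71, 106, 109, 117] :=
  C.stMul (f331 C) (f353 C) _ (by decide +kernel)

theorem f11628 : C.S (v3 C) [8, 29, 61, 75, 96, 110, 111] :=
  C.stMul (f353 C) (f11627 C) _ (by decide +kernel)

theorem f11629 : C.T (v3 C) [19, 39, 51, 71, 97, 114] (v18 C) [19, 32, 69, 72, 93, 109, 113] :=
  C.conv (f8165 C) (f8200 C) (f11628 C) _ [145, 158, 171] _ (by decide +kernel) (by decide +kernel) (by decide +kernel)

theorem f11630 : C.T (v18 C) [19, 32, 69, 72, 93, 109, 113] (v3 C) [19, 39, 51, 71, 97, 114] :=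
  C.flip (f11629 C)

theorem f11631 : C.T (v18 C) [39, 67, 83, 94, 118] (v18 C) [15, 37, 52, 88, 102, 125] :=
  C.closeT (p := (v3 C)) (pu := [17, 29, 68, 88, 91, 117])
    (C.pT (f11625 C)
    (C.pH [8, 30, 65, 84, 94, 117] [24, 44, 54, 71, 108, 110, 114] (by decide +kernel)
    (C.pT (f11626 C)
    (C.pH [26, 38, 54, 89, 90, 113] [39, 67, 83, 94, 118] (by decide +kernel) (C.pNil _ _)))))
    (C.pH [8, 30, 65, 84, 94, 117] [19, 32, 69, 72, 93, 109, 113] (by decide +kernel)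
    (C.pT (f11630 C)
    (C.pH [26, 38, 54, 89, 90, 113] [17, 29, 68, 88, 91, 117] (by decide +kernel) (C.pNil _ _))))
    (C.loop_of_one (relLoop1 C) _ _)

theorem f11635 : C.T (v3 C) [5, 30, 50, 85, 98, 109, 117] (v18 C) [6, 40, 62, 70, 92, 120] :=
  C.conv (f9184 C) (f9232 C) (f9232 C) _ [131, 152, 165, 173, 178] _ (by decide +kernel) (by decide +kernel) (by decide +kernel)

theorem f11636 : C.T (v18 C) [13, 43, 64, 71, 95, 110, 114] (v18 C) [22, 29, 66, 87, 92, 116] :=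
  C.conv (f9744 C) (f6836 C) (f6836 C) _ [132, 151, 169, 171] _ (by decide +kernel) (by decide +kernel) (by decide +kernel)

theorem f11637 : C.T (v3 C) [14, 45, 66, 87, 96, 109, 111] (v18 C) [6, 40, 56, 70, 99] :=
  C.conv (f7327 C) (f7806 C) (f10289 C) _ [140, 153, 167, 171] _ (by decide +kernel) (by decide +kernel) (by decide +kernel)

theorem f11638 : C.T (v18 C) [6, 40, 56, 70, 99] (v3 C) [14, 45, 66, 87, 96, 109, 111] :=
  C.flip (f11637 C)

theorem f11639 : C.T (v18 C) [19, 66, 74, 98, 109] (v18 C) [22, 45, 64, 73, 98, 110, 124] :=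
  C.closeT (p := (v3 C)) (pu := [5, 30, 50, 85, 98, 109, 117])
    (C.pT (f11635 C)
    (C.pH [8, 30, 65, 84, 94, 117] [13, 43, 64, 71, 95, 110, 114] (by decide +kernel)
    (C.pT (f11636 C)
    (C.pH [26, 38, 54, 89, 90, 113] [19, 66, 74, 98, 109] (by decide +kernel) (C.pNil _ _)))))
    (C.pH [8, 30, 65, 84, 94, 117] [6, 40, 56, 70, 99] (by decide +kernel)
    (C.pT (f11638 C)
    (C.pH [26, 38, 54, 89, 90, 113] [5, 30, 50, 85, 98, 109, 117] (by decide +kernel) (C.pNil _ _))))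
    (C.loop_of_one (relLoop1 C) _ _)

theorem f11640 : C.T (v18 C) [22, 45, 64, 73, 98, 110, 124] (v18 C) [19, 66, 74, 98, 109] :=
  C.flip (f11639 C)

theorem f11641 : C.T (v3 C) [12, 33, 69, 79, 93, 109, 115] (v18 C) [17, 61, 70, 90, 109, 111] :=
  C.conv (f9184 C) (f9232 C) (f9232 C) _ [136, 153, 164, 175, 178] _ (by decide +kernel) (by decide +kernel) (by decide +kernel)

theorem f11642 : C.S (v3 C) [20, 29, 56, 72, 109, 121] :=
  C.stMul (f335 C) (f9229 C) _ (by decide +kernel)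

theorem f11643 : C.S (v3 C) [10, 47, 54, 88, 107, 109, 117] :=
  C.stMul (f335 C) (f11642 C) _ (by decide +kernel)

theorem f11644 : C.S (v3 C) [20, 31, 50, 86, 94, 110, 111] :=
  C.stMul (f353 C) (f11643 C) _ (by decide +kernel)

theorem f11645 : C.T (v3 C) [24, 47, 64, 84, 92, 123] (v18 C) [4, 27, 61, 72, 103] :=
  C.conv (f9184 C) (f9232 C) (f11644 C) _ [135, 149, 164, 171] _ (by decide +kernel) (by decide +kernel) (by decide +kernel)

theorem f11646 : C.T (v18 C) [4, 27, 61, 72, 103] (v3 C) [24, 47, 64, 84, 92, 123] :=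
  C.flip (f11645 C)

theorem f11647 : C.T (v18 C) [18, 48, 67, 88, 90, 109, 119] (v17 C) [26, 32, 63, 89, 102, 114] :=
  C.conv (f10838 C) (f7121 C) (f6836 C) _ [129, 159, 169, 174] _ (by decide +kernel) (by decide +kernel) (by decide +kernel)

theorem f11648 : C.T (v17 C) [26, 32, 63, 89, 102, 114] (v18 C) [18, 48, 67, 88, 90, 109, 119] :=
  C.flip (f11647 C)

theorem f11649 : C.T (v18 C) [22, 43, 52, 70, 93, 109, 118] (v17 C) [33, 49, 74, 98, 109, 116] :=
  C.closeT (p := (v3 C)) (pu := [12, 33, 69, 79, 93, 109, 115])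
    (C.pT (f11641 C)
    (C.pH [8, 30, 65, 84, 94, 117] [22, 43, 52, 70, 93, 109, 118] (by decide +kernel) (C.pNil _ _)))
    (C.pH [26, 38, 54, 89, 90, 113] [26, 32, 63, 89, 102, 114] (by decide +kernel)
    (C.pT (f11648 C)
    (C.pH [8, 30, 65, 84, 94, 117] [4, 27, 61, 72, 103] (by decide +kernel)
    (C.pT (f11646 C)
    (C.pH [26, 38, 54, 89, 90, 113] [12, 33, 69, 79, 93, 109, 115] (by decide +kernel) (C.pNil _ _))))))
    (C.loop_of_one (relLoop1 C) _ _)

theorem f11650 : C.T (v17 C) [33, 49, 74, 98, 109, 116] (v18 C) [22, 43, 52, 70, 93, 109, 118] :=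
  C.flip (f11649 C)

theorem f11651 : C.T (v3 C) [4, 34, 60, 86, 106, 110, 121] (v18 C) [18, 48, 62, 89, 91, 114] :=
  C.conv (f9184 C) (f9232 C) (f9232 C) _ [129, 161, 167, 173] _ (by decide +kernel) (by decide +kernel) (by decide +kernel)

theorem f11652 : C.T (v3 C) [6, 46, 63, 74, 98, 110, 117] (v15 C) [7, 32, 55, 85, 106, 109, 118] :=
  C.conv (f2902 C) (f2981 C) (f2978 C) _ [133, 151, 176] _ (by decide +kernel) (by decide +kernel) (by decide +kernel)

theorem f11653 : C.T (v15 C) [7, 32, 55, 85, 106, 109, 118] (v3 C) [6, 46, 63, 74, 98, 110, 117] :=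
  C.flip (f11652 C)

theorem f11654 : C.S (v15 C) [25, 47, 66, 86, 107, 124] :=
  C.stMul (f2569 C) (f2565 C) _ (by decide +kernel)

theorem f11655 : C.S (v15 C) [20, 63, 89, 93, 110, 115] :=
  C.stMul (f2569 C) (f11654 C) _ (by decide +kernel)

theorem f11656 : C.S (v15 C) [24, 44, 51, 82, 106, 110, 112] :=
  C.stMul (f2565 C) (f11654 C) _ (by decide +kernel)

theorem f11657 : C.S (v15 C) [24, 34, 69, 71, 96, 109] :=
  C.stMul (f2581 C) (f11656 C) _ (by decide +kernel)

theorem f11658 : C.T (v15 C) [11, 41, 65, 77, 99, 112] (v18 C) [14, 46, 65, 75, 98, 116] :=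
  C.conv (f11456 C) (f11655 C) (f11657 C) _ [127, 149, 168, 178] _ (by decide +kernel) (by decide +kernel) (by decide +kernel)

theorem f11659 : C.T (v18 C) [14, 46, 65, 75, 98, 116] (v15 C) [11, 41, 65, 77, 99, 112] :=
  C.flip (f11658 C)

theorem f11660 : C.T (v18 C) [4, 27, 52, 73, 96, 118] (v18 C) [12, 41, 66, 85, 101, 110, 113] :=
  C.closeT (p := (v3 C)) (pu := [4, 34, 60, 86, 106, 110, 121])
    (C.pT (f11651 C)
    (C.pH [8, 30, 65, 84, 94, 117] [4, 27, 52, 73, 96, 118] (by decide +kernel) (C.pNil _ _)))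
    (C.pH [26, 38, 54, 89, 90, 113] [14, 46, 65, 75, 98, 116] (by decide +kernel)
    (C.pT (f11659 C)
    (C.pH [8, 30, 65, 84, 94, 117] [7, 32, 55, 85, 106, 109, 118] (by decide +kernel)
    (C.pT (f11653 C)
    (C.pH [26, 38, 54, 89, 90, 113] [4, 34, 60, 86, 106, 110, 121] (by decide +kernel) (C.pNil _ _))))))
    (C.loop_of_one (relLoop1 C) _ _)

theorem f11661 : C.T (v18 C) [12, 41, 66, 85, 101, 110, 113] (v18 C) [4, 27, 52, 73, 96, 118] :=
  C.flip (f11660 C)

theorem f11662 : C.T (v3 C) [9, 46, 51, 86, 95, 112] (v18 C) [19, 36, 58, 85, 104, 115] :=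
  C.conv (f9184 C) (f9232 C) (f9232 C) _ [136, 163, 167, 176, 178] _ (by decide +kernel) (by decide +kernel) (by decide +kernel)

theorem f11663 : C.T (v3 C) [15, 32, 61, 79, 98, 109, 116] (v17 C) [25, 28, 54, 92, 110, 113] :=
  C.conv (f6814 C) (f7361 C) (f7361 C) _ [135, 159, 169, 176, 178] _ (by decide +kernel) (by decide +kernel) (by decide +kernel)

theorem f11664 : C.T (v17 C) [25, 28, 54, 92, 110, 113] (v3 C) [15, 32, 61, 79, 98, 109, 116] :=
  C.flip (f11663 C)

theorem f11665 : C.S (v17 C) [23, 31, 75, 92, 109, 116] :=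
  C.stMul (f4137 C) (f4132 C) _ (by decide +kernel)

theorem f11666 : C.T (v17 C) [4, 31, 76, 93, 120] (v17 C) [12, 31, 49, 89, 107, 110, 119] :=
  C.conv (f4522 C) (f4300 C) (f11665 C) _ [145, 160, 165, 174] _ (by decide +kernel) (by decide +kernel) (by decide +kernel)

theorem f11667 : C.T (v17 C) [12, 31, 49, 89, 107, 110, 119] (v17 C) [4, 31, 76, 93, 120] :=
  C.flip (f11666 C)

theorem f11668 : C.T (v18 C) [26, 28, 58, 86, 92, 109, 115] (v17 C) [24, 40, 66, 77, 95, 110, 112] :=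
  C.closeT (p := (v3 C)) (pu := [9, 46, 51, 86, 95, 112])
    (C.pT (f11662 C)
    (C.pH [8, 30, 65, 84, 94, 117] [26, 28, 58, 86, 92, 109, 115] (by decide +kernel) (C.pNil _ _)))
    (C.pH [26, 38, 54, 89, 90, 113] [12, 31, 49, 89, 107, 110, 119] (by decide +kernel)
    (C.pT (f11667 C)
    (C.pH [8, 30, 65, 84, 94, 117] [25, 28, 54, 92, 110, 113] (by decide +kernel)
    (C.pT (f11664 C)
    (C.pH [26, 38, 54, 89, 90, 113] [9, 46, 51, 86, 95, 112] (by decide +kernel) (C.pNil _ _))))))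
    (C.loop_of_one (relLoop1 C) _ _)

theorem f11669 : C.T (v17 C) [24, 40, 66, 77, 95, 110, 112] (v18 C) [26, 28, 58, 86, 92, 109, 115] :=
  C.flip (f11668 C)

theorem f11670 : C.T (v3 C) [10, 31, 61, 74, 94, 109, 111] (v18 C) [16, 53, 84, 93, 123] :=
  C.conv (f9184 C) (f9232 C) (f9232 C) _ [148, 150, 164, 173] _ (by decide +kernel) (by decide +kernel) (by decide +kernel)

theorem f11671 : C.S (v3 C) [36, 68, 80, 97, 109, 111] :=
  C.stMul (f331 C) (f9469 C) _ (by decide +kernel)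

theorem f11672 : C.T (v3 C) [18, 48, 49, 80, 105, 110, 125] (v18 C) [23, 38, 55, 78, 106, 115] :=
  C.conv (f9221 C) (f9279 C) (f11671 C) _ [135, 162, 166, 171, 178] _ (by decide +kernel) (by decide +kernel) (by decide +kernel)

theorem f11673 : C.T (v18 C) [23, 38, 55, 78, 106, 115] (v3 C) [18, 48, 49, 80, 105, 110, 125] :=
  C.flip (f11672 C)

theorem f11674 : C.T (v18 C) [20, 58, 82, 95, 120] (v18 C) [15, 44, 62, 71, 92, 110, 111] :=
  C.conv (f7871 C) (f9032 C) (f9032 C) _ [128, 153, 171] _ (by decide +kernel) (by decide +kernel) (by decide +kernel)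

theorem f11675 : C.T (v18 C) [15, 44, 62, 71, 92, 110, 111] (v18 C) [20, 58, 82, 95, 120] :=
  C.flip (f11674 C)

theorem f11676 : C.T (v18 C) [20, 48, 55, 73, 110, 121] (v18 C) [20, 45, 52, 70, 95, 123] :=
  C.closeT (p := (v3 C)) (pu := [10, 31, 61, 74, 94, 109, 111])
    (C.pT (f11670 C)
    (C.pH [8, 30, 65, 84, 94, 117] [20, 48, 55, 73, 110, 121] (by decide +kernel) (C.pNil _ _)))
    (C.pH [26, 38, 54, 89, 90, 113] [15, 44, 62, 71, 92, 110, 111] (by decide +kernel)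
    (C.pT (f11675 C)
    (C.pH [8, 30, 65, 84, 94, 117] [23, 38, 55, 78, 106, 115] (by decide +kernel)
    (C.pT (f11673 C)
    (C.pH [26, 38, 54, 89, 90, 113] [10, 31, 61, 74, 94, 109, 111] (by decide +kernel) (C.pNil _ _))))))
    (C.loop_of_one (relLoop1 C) _ _)

theorem f11677 : C.T (v18 C) [20, 45, 52, 70, 95, 123] (v18 C) [20, 48, 55, 73, 110, 121] :=
  C.flip (f11676 C)

theorem f11678 : C.T (v3 C) [6, 45, 65, 73, 92, 109, 118] (v18 C) [16, 29, 64, 89, 93, 109, 124] :=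
  C.conv (f9184 C) (f9232 C) (f9232 C) _ [136, 157, 166, 175, 177] _ (by decide +kernel) (by decide +kernel) (by decide +kernel)

theorem f11679 : C.T (v18 C) [20, 29, 59, 71, 104, 115] (v18 C) [12, 46, 98, 119] :=
  C.conv (f8209 C) (f8513 C) (f8513 C) _ [129, 158, 165, 172, 177] _ (by decide +kernel) (by decide +kernel) (by decide +kernel)

theorem f11680 : C.S (v3 C) [5, 44, 52, 88, 93, 109, 113] :=
  C.stMul (f335 C) (f8032 C) _ (by decide +kernel)

theorem f11681 : C.T (v3 C) [21, 42, 61, 75, 92, 112] (v18 C) [9, 43, 67, 74, 96] :=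
  C.conv (f6916 C) (f7402 C) (f11680 C) _ [145, 163, 170, 177] _ (by decide +kernel) (by decide +kernel) (by decide +kernel)

theorem f11682 : C.T (v18 C) [9, 43, 67, 74, 96] (v3 C) [21, 42, 61, 75, 92, 112] :=
  C.flip (f11681 C)

theorem f11683 : C.T (v18 C) [14, 38, 53, 88, 94, 111] (v18 C) [25, 48, 66, 84, 95, 109, 111] :=
  C.closeT (p := (v3 C)) (pu := [6, 45, 65, 73, 92, 109, 118])
    (C.pT (f11678 C)
    (C.pH [8, 30, 65, 84, 94, 117] [20, 29, 59, 71, 104, 115] (by decide +kernel)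
    (C.pT (f11679 C)
    (C.pH [26, 38, 54, 89, 90, 113] [14, 38, 53, 88, 94, 111] (by decide +kernel) (C.pNil _ _)))))
    (C.pH [8, 30, 65, 84, 94, 117] [9, 43, 67, 74, 96] (by decide +kernel)
    (C.pT (f11682 C)
    (C.pH [26, 38, 54, 89, 90, 113] [6, 45, 65, 73, 92, 109, 118] (by decide +kernel) (C.pNil _ _))))
    (C.loop_of_one (relLoop1 C) _ _)

theorem f11684 : C.T (v18 C) [25, 48, 66, 84, 95, 109, 111] (v18 C) [14, 38, 53, 88, 94, 111] :=
  C.flip (f11683 C)

theorem f11685 : C.T (v3 C) [20, 44, 62, 79, 91] (v18 C) [15, 44, 54, 77, 95, 109, 122] :=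
  C.conv (f9184 C) (f9232 C) (f9232 C) _ [127, 162, 172, 178] _ (by decide +kernel) (by decide +kernel) (by decide +kernel)

theorem f11686 : C.S (v3 C) [10, 28, 62, 78, 98, 110, 120] :=
  C.stMul (f328 C) (f335 C) _ (by decide +kernel)

theorem f11687 : C.S (v3 C) [20, 30, 59, 75, 96, 110, 111] :=
  C.stMul (f353 C) (f11686 C) _ (by decide +kernel)

theorem f11688 : C.T (v3 C) [17, 27, 55, 79, 98, 110, 113] (v17 C) [8, 51, 78, 107, 119] :=
  C.conv (f6814 C) (f7361 C) (f11687 C) _ [127, 152, 166, 172, 178] _ (by decide +kernel) (by decide +kernel) (by decide +kernel)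

theorem f11689 : C.T (v17 C) [8, 51, 78, 107, 119] (v3 C) [17, 27, 55, 79, 98, 110, 113] :=
  C.flip (f11688 C)

theorem f11690 : C.S (v17 C) [51, 81, 96, 109, 125] :=
  C.stMul (f4132 C) (f4137 C) _ (by decide +kernel)

theorem f11691 : C.T (v17 C) [39, 50, 84, 99, 119] (v18 C) [23, 35, 53, 78, 92, 123] :=
  C.conv (f7371 C) (f4137 C) (f11690 C) _ [128, 156, 166, 175] _ (by decide +kernel) (by decide +kernel) (by decide +kernel)

theorem f11692 : C.T (v18 C) [23, 35, 53, 78, 92, 123] (v17 C) [39, 50, 84, 99, 119] :=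
  C.flip (f11691 C)

theorem f11693 : C.T (v18 C) [19, 29, 59, 88, 99, 119] (v18 C) [13, 29, 64, 102, 109, 123] :=
  C.closeT (p := (v3 C)) (pu := [20, 44, 62, 79, 91])
    (C.pT (f11685 C)
    (C.pH [8, 30, 65, 84, 94, 117] [19, 29, 59, 88, 99, 119] (by decide +kernel) (C.pNil _ _)))
    (C.pH [26, 38, 54, 89, 90, 113] [23, 35, 53, 78, 92, 123] (by decide +kernel)
    (C.pT (f11692 C)
    (C.pH [8, 30, 65, 84, 94, 117] [8, 51, 78, 107, 119] (by decide +kernel)
    (C.pT (f11689 C)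
    (C.pH [26, 38, 54, 89, 90, 113] [20, 44, 62, 79, 91] (by decide +kernel) (C.pNil _ _))))))
    (C.loop_of_one (relLoop1 C) _ _)

theorem f11694 : C.T (v18 C) [13, 29, 64, 102, 109, 123] (v18 C) [19, 29, 59, 88, 99, 119] :=
  C.flip (f11693 C)

theorem f11695 : C.T (v3 C) [15, 48, 50, 77, 96, 109] (v18 C) [13, 36, 60, 79, 90, 110, 121] :=
  C.conv (f9184 C) (f9232 C) (f9232 C) _ [126, 161, 170, 174] _ (by decide +kernel) (by decide +kernel) (by decide +kernel)

theorem f11696 : C.S (v3 C) [18, 35, 57, 82, 93, 110, 115] :=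
  C.stMul (f353 C) (f331 C) _ (by decide +kernel)

theorem f11697 : C.S (v3 C) [6, 45, 53, 79, 94, 110, 115] :=
  C.stMul (f335 C) (f11696 C) _ (by decide +kernel)

theorem f11698 : C.S (v3 C) [4, 28, 64, 75, 93, 109, 113] :=
  C.stMul (f328 C) (f11697 C) _ (by decide +kernel)

theorem f11699 : C.T (v3 C) [20, 41, 53, 79, 106, 110, 113] (v17 C) [9, 32, 61, 81, 94, 122] :=
  C.conv (f6808 C) (f9290 C) (f11698 C) _ [148, 161, 168, 176, 177] _ (by decide +kernel) (by decide +kernel) (by decide +kernel)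

theorem f11700 : C.T (v17 C) [9, 32, 61, 81, 94, 122] (v3 C) [20, 41, 53, 79, 106, 110, 113] :=
  C.flip (f11699 C)

theorem f11701 : C.S (v17 C) [23, 31, 75, 92, 109, 116] :=
  C.stMul (f4137 C) (f4132 C) _ (by decide +kernel)

theorem f11702 : C.T (v17 C) [25, 47, 49, 70, 105, 110, 120] (v18 C) [15, 31, 69, 73, 97, 109, 114] :=
  C.conv (f8726 C) (f11701 C) (f4300 C) _ [142, 154, 169, 171] _ (by decide +kernel) (by decide +kernel) (by decide +kernel)

theorem f11703 : C.T (v18 C) [15, 31, 69, 73, 97, 109, 114] (v17 C) [25, 47, 49, 70, 105, 110, 120] :=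
  C.flip (f11702 C)

theorem f11704 : C.T (v18 C) [11, 41, 54, 82, 103, 110, 119] (v18 C) [20, 31, 51, 75, 100, 116] :=
  C.closeT (p := (v3 C)) (pu := [15, 48, 50, 77, 96, 109])
    (C.pT (f11695 C)
    (C.pH [8, 30, 65, 84, 94, 117] [11, 41, 54, 82, 103, 110, 119] (by decide +kernel) (C.pNil _ _)))
    (C.pH [26, 38, 54, 89, 90, 113] [15, 31, 69, 73, 97, 109, 114] (by decide +kernel)
    (C.pT (f11703 C)
    (C.pH [8, 30, 65, 84, 94, 117] [9, 32, 61, 81, 94, 122] (by decide +kernel)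
    (C.pT (f11700 C)
    (C.pH [26, 38, 54, 89, 90, 113] [15, 48, 50, 77, 96, 109] (by decide +kernel) (C.pNil _ _))))))
    (C.loop_of_one (relLoop1 C) _ _)

theorem f11707 : C.T (v3 C) [26, 45, 68, 81, 90, 109] (v18 C) [23, 28, 58, 85, 97, 110, 120] :=
  C.conv (f9221 C) (f9279 C) (f9279 C) _ [137, 156, 164, 176, 177] _ (by decide +kernel) (by decide +kernel) (by decide +kernel)

theorem f11708 : C.S (v3 C) [7, 29, 51, 83, 103, 109, 117] :=
  C.stMul (f335 C) (f335 C) _ (by decide +kernel)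

theorem f11709 : C.S (v3 C) [10, 48, 60, 84, 100, 110, 123] :=
  C.stMul (f353 C) (f11708 C) _ (by decide +kernel)

theorem f11710 : C.S (v3 C) [11, 33, 69, 85, 97, 109, 117] :=
  C.stMul (f335 C) (f11709 C) _ (by decide +kernel)

theorem f11711 : C.T (v3 C) [48, 62, 108, 109, 113] (v17 C) [15, 47, 85, 105, 110] :=
  C.conv (f6269 C) (f7309 C) (f11710 C) _ [131, 167, 176, 178] _ (by decide +kernel) (by decide +kernel) (by decide +kernel)

theorem f11712 : C.T (v17 C) [15, 47, 85, 105, 110] (v3 C) [48, 62, 108, 109, 113] :=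
  C.flip (f11711 C)

theorem f11713 : C.S (v17 C) [51, 81, 96, 109, 125] :=
  C.stMul (f4132 C) (f4137 C) _ (by decide +kernel)

theorem f11714 : C.T (v17 C) [10, 40, 63, 83, 95, 110, 113] (v18 C) [26, 44, 68, 82, 101, 109, 122] :=
  C.conv (f6979 C) (f11713 C) (f4132 C) _ [146, 152, 169, 177] _ (by decide +kernel) (by decide +kernel) (by decide +kernel)

theorem f11715 : C.T (v18 C) [26, 44, 68, 82, 101, 109, 122] (v17 C) [10, 40, 63, 83, 95, 110, 113] :=
  C.flip (f11714 C)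

theorem f11716 : C.T (v18 C) [10, 56, 82, 107, 109, 124] (v18 C) [44, 57, 88, 93, 110, 111] :=
  C.closeT (p := (v3 C)) (pu := [26, 45, 68, 81, 90, 109])
    (C.pT (f11707 C)
    (C.pH [8, 30, 65, 84, 94, 117] [10, 56, 82, 107, 109, 124] (by decide +kernel) (C.pNil _ _)))
    (C.pH [26, 38, 54, 89, 90, 113] [26, 44, 68, 82, 101, 109, 122] (by decide +kernel)
    (C.pT (f11715 C)
    (C.pH [8, 30, 65, 84, 94, 117] [15, 47, 85, 105, 110] (by decide +kernel)
    (C.pT (f11712 C)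
    (C.pH [26, 38, 54, 89, 90, 113] [26, 45, 68, 81, 90, 109] (by decide +kernel) (C.pNil _ _))))))
    (C.loop_of_one (relLoop1 C) _ _)

theorem f11717 : C.T (v18 C) [44, 57, 88, 93, 110, 111] (v18 C) [10, 56, 82, 107, 109, 124] :=
  C.flip (f11716 C)

theorem f11718 : C.T (v3 C) [18, 32, 58, 84, 99, 110, 121] (v18 C) [25, 46, 56, 84, 98, 115] :=
  C.conv (f9221 C) (f9279 C) (f9279 C) _ [133, 167, 176, 177] _ (by decide +kernel) (by decide +kernel) (by decide +kernel)

theorem f11719 : C.S (v3 C) [8, 48, 63, 86, 90, 110, 123] :=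
  C.stMul (f331 C) (f11589 C) _ (by decide +kernel)

theorem f11720 : C.S (v3 C) [15, 29, 55, 75, 90, 119] :=
  C.stMul (f353 C) (f11719 C) _ (by decide +kernel)

theorem f11721 : C.S (v3 C) [24, 34, 60, 85, 101, 109] :=
  C.stMul (f331 C) (f11720 C) _ (by decide +kernel)

theorem f11722 : C.T (v3 C) [25, 42, 65, 82, 95, 109, 124] (v15 C) [18, 32, 53, 79, 95, 119] :=
  C.conv (f3166 C) (f3236 C) (f11721 C) _ [137, 156, 168, 176, 177] _ (by decide +kernel) (by decide +kernel) (by decide +kernel)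

theorem f11723 : C.T (v15 C) [18, 32, 53, 79, 95, 119] (v3 C) [25, 42, 65, 82, 95, 109, 124] :=
  C.flip (f11722 C)

theorem f11724 : C.S (v15 C) [20, 45, 65, 78, 96, 109, 125] :=
  C.stMul (f2565 C) (f2581 C) _ (by decide +kernel)

theorem f11725 : C.T (v15 C) [9, 27, 66, 73, 108, 109, 121] (v18 C) [19, 43, 61, 83, 99, 109, 123] :=
  C.conv (f10506 C) (f11724 C) (f2581 C) _ [128, 150, 169, 171, 178] _ (by decide +kernel) (by decide +kernel) (by decide +kernel)

theorem f11726 : C.T (v18 C) [19, 43, 61, 83, 99, 109, 123] (v15 C) [9, 27, 66, 73, 108, 109, 121] :=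
  C.flip (f11725 C)

theorem f11727 : C.T (v18 C) [9, 39, 60, 80, 97, 109, 112] (v18 C) [22, 48, 49, 87, 97, 109, 120] :=
  C.closeT (p := (v3 C)) (pu := [18, 32, 58, 84, 99, 110, 121])
    (C.pT (f11718 C)
    (C.pH [8, 30, 65, 84, 94, 117] [9, 39, 60, 80, 97, 109, 112] (by decide +kernel) (C.pNil _ _)))
    (C.pH [26, 38, 54, 89, 90, 113] [19, 43, 61, 83, 99, 109, 123] (by decide +kernel)
    (C.pT (f11726 C)
    (C.pH [8, 30, 65, 84, 94, 117] [18, 32, 53, 79, 95, 119] (by decide +kernel)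
    (C.pT (f11723 C)
    (C.pH [26, 38, 54, 89, 90, 113] [18, 32, 58, 84, 99, 110, 121] (by decide +kernel) (C.pNil _ _))))))
    (C.loop_of_one (relLoop1 C) _ _)

theorem f11728 : C.T (v18 C) [22, 48, 49, 87, 97, 109, 120] (v18 C) [9, 39, 60, 80, 97, 109, 112] :=
  C.flip (f11727 C)

theorem f11729 : C.T (v3 C) [25, 31, 56, 83, 93, 117] (v18 C) [11, 38, 67, 86, 92, 109, 118] :=
  C.conv (f9221 C) (f9279 C) (f9279 C) _ [135, 150, 169, 173] _ (by decide +kernel) (by decide +kernel) (by decide +kernel)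

theorem f11730 : C.T (v18 C) [7, 35, 60, 70, 100, 110, 111] (v17 C) [7, 45, 62, 71, 106, 110, 116] :=
  C.conv (f9177 C) (f6836 C) (f7121 C) _ [130, 158, 167, 177] _ (by decide +kernel) (by decide +kernel) (by decide +kernel)

theorem f11731 : C.S (v3 C) [25, 35, 69, 73, 94, 109, 118] :=
  C.stMul (f335 C) (f7401 C) _ (by decide +kernel)

theorem f11732 : C.T (v3 C) [4, 35, 57, 81, 96, 109, 111] (v18 C) [13, 36, 54, 79, 101, 116] :=
  C.conv (f6916 C) (f7402 C) (f11731 C) _ [130, 154, 168, 176, 178] _ (by decide +kernel) (by decide +kernel) (by decide +kernel)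

theorem f11733 : C.T (v18 C) [13, 36, 54, 79, 101, 116] (v3 C) [4, 35, 57, 81, 96, 109, 111] :=
  C.flip (f11732 C)

theorem f11734 : C.T (v17 C) [45, 63, 74, 101, 123] (v18 C) [6, 30, 59, 77, 100, 109, 114] :=
  C.closeT (p := (v3 C)) (pu := [25, 31, 56, 83, 93, 117])
    (C.pT (f11729 C)
    (C.pH [8, 30, 65, 84, 94, 117] [7, 35, 60, 70, 100, 110, 111] (by decide +kernel)
    (C.pT (f11730 C)
    (C.pH [26, 38, 54, 89, 90, 113] [45, 63, 74, 101, 123] (by decide +kernel) (C.pNil _ _)))))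
    (C.pH [8, 30, 65, 84, 94, 117] [13, 36, 54, 79, 101, 116] (by decide +kernel)
    (C.pT (f11733 C)
    (C.pH [26, 38, 54, 89, 90, 113] [25, 31, 56, 83, 93, 117] (by decide +kernel) (C.pNil _ _))))
    (C.loop_of_one (relLoop1 C) _ _)

theorem f11735 : C.T (v18 C) [6, 30, 59, 77, 100, 109, 114] (v17 C) [45, 63, 74, 101, 123] :=
  C.flip (f11734 C)

theorem f11736 : C.T (v3 C) [4, 36, 52, 75, 93, 109, 120] (v18 C) [12, 28, 51, 79, 101, 110, 114] :=
  C.conv (f9221 C) (f9279 C) (f9279 C) _ [131, 156, 164, 175, 177] _ (by decide +kernel) (by decide +kernel) (by decide +kernel)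

theorem f11737 : C.S (v3 C) [4, 67, 86, 105, 116] :=
  C.stMul (f335 C) (f9754 C) _ (by decide +kernel)

theorem f11738 : C.S (v3 C) [6, 44, 60, 85, 94, 120] :=
  C.stMul (f328 C) (f11737 C) _ (by decide +kernel)

theorem f11739 : C.S (v3 C) [26, 41, 49, 77, 105, 123] :=
  C.stMul (f353 C) (f11738 C) _ (by decide +kernel)

theorem f11740 : C.T (v3 C) [6, 35, 66, 78, 108, 123] (v17 C) [18, 41, 64, 72, 96, 109, 120] :=
  C.conv (f6808 C) (f9290 C) (f11739 C) _ [138, 159, 169, 174, 177] _ (by decide +kernel) (by decide +kernel) (by decide +kernel)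

theorem f11741 : C.T (v17 C) [18, 41, 64, 72, 96, 109, 120] (v3 C) [6, 35, 66, 78, 108, 123] :=
  C.flip (f11740 C)

theorem f11742 : C.S (v17 C) [23, 31, 49, 84, 96, 117] :=
  C.stMul (f4137 C) (f4137 C) _ (by decide +kernel)

theorem f11743 : C.T (v17 C) [9, 35, 50, 83, 102, 109, 113] (v15 C) [23, 29, 57, 73, 91, 109, 113] :=
  C.conv (f4736 C) (f11742 C) (f4137 C) _ [129, 155, 165, 175] _ (by decide +kernel) (by decide +kernel) (by decide +kernel)

theorem f11744 : C.T (v15 C) [23, 29, 57, 73, 91, 109, 113] (v17 C) [9, 35, 50, 83, 102, 109, 113] :=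
  C.flip (f11743 C)

theorem f11745 : C.T (v18 C) [21, 36, 56, 71, 107, 109, 122] (v15 C) [13, 38, 68, 70, 95, 109, 120] :=
  C.closeT (p := (v3 C)) (pu := [4, 36, 52, 75, 93, 109, 120])
    (C.pT (f11736 C)
    (C.pH [8, 30, 65, 84, 94, 117] [21, 36, 56, 71, 107, 109, 122] (by decide +kernel) (C.pNil _ _)))
    (C.pH [26, 38, 54, 89, 90, 113] [23, 29, 57, 73, 91, 109, 113] (by decide +kernel)
    (C.pT (f11744 C)
    (C.pH [8, 30, 65, 84, 94, 117] [18, 41, 64, 72, 96, 109, 120] (by decide +kernel)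
    (C.pT (f11741 C)
    (C.pH [26, 38, 54, 89, 90, 113] [4, 36, 52, 75, 93, 109, 120] (by decide +kernel) (C.pNil _ _))))))
    (C.loop_of_one (relLoop1 C) _ _)

theorem f11746 : C.T (v15 C) [13, 38, 68, 70, 95, 109, 120] (v18 C) [21, 36, 56, 71, 107, 109, 122] :=
  C.flip (f11745 C)

theorem f11747 : C.T (v3 C) [4, 37, 69, 70, 90, 121] (v18 C) [17, 47, 49, 73, 107, 110, 114] :=
  C.conv (f9221 C) (f9279 C) (f9279 C) _ [131, 160, 165, 174, 178] _ (by decide +kernel) (by decide +kernel) (by decide +kernel)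

theorem f11748 : C.S (v3 C) [5, 38, 50, 82, 105, 109, 122] :=
  C.stMul (f353 C) (f928 C) _ (by decide +kernel)

theorem f11749 : C.S (v3 C) [17, 40, 55, 75, 96, 110, 124] :=
  C.stMul (f335 C) (f11748 C) _ (by decide +kernel)

theorem f11750 : C.T (v3 C) [6, 41, 63, 81, 100, 109, 123] (v4 C) [19, 38, 69, 77, 98, 122] :=
  C.conv (f841 C) (f926 C) (f11749 C) _ [129, 150, 164, 174, 178] _ (by decide +kernel) (by decide +kernel) (by decide +kernel)

theorem f11751 : C.T (v4 C) [19, 38, 69, 77, 98, 122] (v3 C) [6, 41, 63, 81, 100, 109, 123] :=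
  C.flip (f11750 C)

theorem f11752 : C.T (v4 C) [15, 28, 67, 89, 102] (v15 C) [8, 40, 80, 91, 109, 123] :=
  C.conv (f2628 C) (f2666 C) (f2955 C) _ [131, 162, 165, 175, 177] _ (by decide +kernel) (by decide +kernel) (by decide +kernel)

theorem f11753 : C.T (v15 C) [8, 40, 80, 91, 109, 123] (v4 C) [15, 28, 67, 89, 102] :=
  C.flip (f11752 C)

theorem f11754 : C.T (v18 C) [22, 31, 50, 70, 92, 110, 111] (v15 C) [5, 38, 64, 87, 97, 109, 120] :=
  C.closeT (p := (v3 C)) (pu := [4, 37, 69, 70, 90, 121])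
    (C.pT (f11747 C)
    (C.pH [8, 30, 65, 84, 94, 117] [22, 31, 50, 70, 92, 110, 111] (by decide +kernel) (C.pNil _ _)))
    (C.pH [26, 38, 54, 89, 90, 113] [8, 40, 80, 91, 109, 123] (by decide +kernel)
    (C.pT (f11753 C)
    (C.pH [8, 30, 65, 84, 94, 117] [19, 38, 69, 77, 98, 122] (by decide +kernel)
    (C.pT (f11751 C)
    (C.pH [26, 38, 54, 89, 90, 113] [4, 37, 69, 70, 90, 121] (by decide +kernel) (C.pNil _ _))))))
    (C.loop_of_one (relLoop1 C) _ _)

theorem f11755 : C.T (v15 C) [5, 38, 64, 87, 97, 109, 120] (v18 C) [22, 31, 50, 70, 92, 110, 111] :=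
  C.flip (f11754 C)

theorem f11756 : C.T (v3 C) [26, 33, 53, 73, 92, 110, 115] (v18 C) [10, 38, 64, 95, 122] :=
  C.conv (f9221 C) (f9279 C) (f9279 C) _ [139, 159, 167, 173, 177] _ (by decide +kernel) (by decide +kernel) (by decide +kernel)

theorem f11757 : C.S (v18 C) [26, 43, 49, 77, 91, 110, 115] :=
  C.stMul (f6836 C) (f6836 C) _ (by decide +kernel)

theorem f11758 : C.T (v18 C) [15, 46, 67, 84, 108, 110, 121] (v18 C) [8, 27, 67, 85, 110, 125] :=
  C.conv (f9840 C) (f11757 C) (f11757 C) _ [131, 159, 164, 173] _ (by decide +kernel) (by decide +kernel) (by decide +kernel)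

theorem f11759 : C.S (v3 C) [4, 35, 66, 84, 105, 109, 115] :=
  C.stMul (f335 C) (f331 C) _ (by decide +kernel)

theorem f11760 : C.S (v3 C) [6, 43, 52, 78, 106, 118] :=
  C.stMul (f328 C) (f11759 C) _ (by decide +kernel)

theorem f11761 : C.S (v3 C) [26, 33, 69, 81, 108, 110, 118] :=
  C.stMul (f353 C) (f11760 C) _ (by decide +kernel)

theorem f11762 : C.T (v3 C) [27, 58, 77, 103, 124] (v18 C) [26, 60, 84, 101, 110, 115] :=
  C.conv (f8165 C) (f8200 C) (f11761 C) _ [147, 166, 171, 177] _ (by decide +kernel) (by decide +kernel) (by decide +kernel)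

theorem f11763 : C.T (v18 C) [26, 60, 84, 101, 110, 115] (v3 C) [27, 58, 77, 103, 124] :=
  C.flip (f11762 C)

theorem f11764 : C.T (v18 C) [11, 45, 49, 82, 106, 116] (v18 C) [19, 30, 50, 88, 95, 109, 124] :=
  C.closeT (p := (v3 C)) (pu := [26, 33, 53, 73, 92, 110, 115])
    (C.pT (f11756 C)
    (C.pH [8, 30, 65, 84, 94, 117] [15, 46, 67, 84, 108, 110, 121] (by decide +kernel)
    (C.pT (f11758 C)
    (C.pH [26, 38, 54, 89, 90, 113] [11, 45, 49, 82, 106, 116] (by decide +kernel) (C.pNil _ _)))))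
    (C.pH [8, 30, 65, 84, 94, 117] [26, 60, 84, 101, 110, 115] (by decide +kernel)
    (C.pT (f11763 C)
    (C.pH [26, 38, 54, 89, 90, 113] [26, 33, 53, 73, 92, 110, 115] (by decide +kernel) (C.pNil _ _))))
    (C.loop_of_one (relLoop1 C) _ _)

theorem f11765 : C.T (v18 C) [19, 30, 50, 88, 95, 109, 124] (v18 C) [11, 45, 49, 82, 106, 116] :=
  C.flip (f11764 C)

theorem f11766 : C.T (v3 C) [10, 42, 55, 75, 100, 110, 123] (v18 C) [19, 35, 62, 74, 107, 110] :=
  C.conv (f9221 C) (f9279 C) (f9279 C) _ [128, 150, 166] _ (by decide +kernel) (by decide +kernel) (by decide +kernel)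

theorem f11767 : C.S (v3 C) [21, 45, 66, 81, 102, 110] :=
  C.stMul (f335 C) (f10586 C) _ (by decide +kernel)

theorem f11768 : C.S (v3 C) [14, 36, 68, 75, 101, 109, 114] :=
  C.stMul (f353 C) (f11767 C) _ (by decide +kernel)

theorem f11769 : C.S (v3 C) [19, 29, 58, 86, 90, 110, 125] :=
  C.stMul (f335 C) (f11768 C) _ (by decide +kernel)

theorem f11770 : C.T (v3 C) [18, 30, 55, 74, 106, 110, 112] (v17 C) [17, 53, 74, 96, 109, 124] :=
  C.conv (f6808 C) (f9290 C) (f11769 C) _ [143, 151, 169, 175] _ (by decide +kernel) (by decide +kernel) (by decide +kernel)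

theorem f11771 : C.T (v17 C) [17, 53, 74, 96, 109, 124] (v3 C) [18, 30, 55, 74, 106, 110, 112] :=
  C.flip (f11770 C)

theorem f11772 : C.S (v17 C) [23, 31, 49, 84, 96, 117] :=
  C.stMul (f4137 C) (f4137 C) _ (by decide +kernel)

theorem f11773 : C.T (v17 C) [7, 40, 54, 76, 110, 116] (v16 C) [29, 69, 77, 105, 109, 113] :=
  C.conv (f6364 C) (f11240 C) (f11772 C) _ [140, 168, 176] _ (by decide +kernel) (by decide +kernel) (by decide +kernel)

theorem f11774 : C.T (v16 C) [29, 69, 77, 105, 109, 113] (v17 C) [7, 40, 54, 76, 110, 116] :=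
  C.flip (f11773 C)

theorem f11775 : C.T (v18 C) [26, 43, 62, 87, 96, 109, 125] (v16 C) [7, 37, 57, 78, 97, 110, 120] :=
  C.closeT (p := (v3 C)) (pu := [10, 42, 55, 75, 100, 110, 123])
    (C.pT (f11766 C)
    (C.pH [8, 30, 65, 84, 94, 117] [26, 43, 62, 87, 96, 109, 125] (by decide +kernel) (C.pNil _ _)))
    (C.pH [26, 38, 54, 89, 90, 113] [29, 69, 77, 105, 109, 113] (by decide +kernel)
    (C.pT (f11774 C)
    (C.pH [8, 30, 65, 84, 94, 117] [17, 53, 74, 96, 109, 124] (by decide +kernel)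
    (C.pT (f11771 C)
    (C.pH [26, 38, 54, 89, 90, 113] [10, 42, 55, 75, 100, 110, 123] (by decide +kernel) (C.pNil _ _))))))
    (C.loop_of_one (relLoop1 C) _ _)

theorem f11776 : C.T (v16 C) [7, 37, 57, 78, 97, 110, 120] (v18 C) [26, 43, 62, 87, 96, 109, 125] :=
  C.flip (f11775 C)

theorem f11777 : C.T (v3 C) [20, 36, 60, 86, 103, 123] (v18 C) [6, 35, 62, 74, 108, 109] :=
  C.conv (f9221 C) (f9279 C) (f9279 C) _ [134, 174, 177] _ (by decide +kernel) (by decide +kernel) (by decide +kernel)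

theorem f11778 : C.S (v3 C) [4, 35, 66, 84, 105, 109, 115] :=
  C.stMul (f335 C) (f331 C) _ (by decide +kernel)

theorem f11779 : C.S (v3 C) [16, 36, 62, 79, 96, 109, 125] :=
  C.stMul (f353 C) (f11778 C) _ (by decide +kernel)

theorem f11780 : C.T (v3 C) [17, 32, 62, 72, 106, 109, 119] (v3 C) [10, 46, 59, 82, 98, 110] :=
  C.conv (f383 C) (f386 C) (f11779 C) _ [142, 157, 166, 177] _ (by decide +kernel) (by decide +kernel) (by decide +kernel)

theorem f11781 : C.T (v3 C) [10, 46, 59, 82, 98, 110] (v3 C) [17, 32, 62, 72, 106, 109, 119] :=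
  C.flip (f11780 C)

theorem f11782 : C.S (v3 C) [9, 43, 96, 123] :=
  C.stMul (f353 C) (f10051 C) _ (by decide +kernel)

theorem f11783 : C.S (v3 C) [20, 27, 75, 91, 110, 123] :=
  C.stMul (f335 C) (f11782 C) _ (by decide +kernel)

theorem f11784 : C.T (v3 C) [23, 36, 66, 89, 103, 110, 113] (v18 C) [25, 47, 57, 87, 96, 109, 122] :=
  C.conv (f9221 C) (f9279 C) (f11783 C) _ [140, 157, 165, 176, 177] _ (by decide +kernel) (by decide +kernel) (by decide +kernel)

theorem f11785 : C.T (v18 C) [25, 47, 57, 87, 96, 109, 122] (v3 C) [23, 36, 66, 89, 103, 110, 113] :=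
  C.flip (f11784 C)

theorem f11786 : C.T (v18 C) [13, 34, 69, 84, 104, 110, 117] (v18 C) [4, 38, 58, 81, 104, 110, 122] :=
  C.closeT (p := (v3 C)) (pu := [20, 36, 60, 86, 103, 123])
    (C.pT (f11777 C)
    (C.pH [8, 30, 65, 84, 94, 117] [13, 34, 69, 84, 104, 110, 117] (by decide +kernel) (C.pNil _ _)))
    (C.pH [26, 38, 54, 89, 90, 113] [25, 47, 57, 87, 96, 109, 122] (by decide +kernel)
    (C.pT (f11785 C)
    (C.pH [8, 30, 65, 84, 94, 117] [10, 46, 59, 82, 98, 110] (by decide +kernel)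
    (C.pT (f11781 C)
    (C.pH [26, 38, 54, 89, 90, 113] [20, 36, 60, 86, 103, 123] (by decide +kernel) (C.pNil _ _))))))
    (C.loop_of_one (relLoop1 C) _ _)

theorem f11790 : C.T (v3 C) [15, 35, 69, 72, 93, 125] (v18 C) [12, 44, 69, 70, 100, 109, 124] :=
  C.conv (f9221 C) (f9279 C) (f9279 C) _ [148, 163, 175, 178] _ (by decide +kernel) (by decide +kernel) (by decide +kernel)

theorem f11791 : C.S (v18 C) [26, 43, 49, 77, 91, 110, 115] :=
  C.stMul (f6836 C) (f6836 C) _ (by decide +kernel)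

theorem f11792 : C.T (v18 C) [21, 32, 81, 106, 110, 122] (v18 C) [21, 38, 69, 82, 90, 110, 113] :=
  C.conv (f9551 C) (f11791 C) (f6836 C) _ [132, 156, 166, 172] _ (by decide +kernel) (by decide +kernel) (by decide +kernel)

theorem f11793 : C.S (v3 C) [17, 52, 88, 94, 110, 125] :=
  C.stMul (f331 C) (f7347 C) _ (by decide +kernel)

theorem f11794 : C.T (v3 C) [20, 32, 67, 104] (v15 C) [13, 46, 49, 84, 93, 109, 113] :=
  C.conv (f3166 C) (f3236 C) (f11793 C) _ [140, 157, 166, 175] _ (by decide +kernel) (by decide +kernel) (by decide +kernel)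

theorem f11795 : C.T (v15 C) [13, 46, 49, 84, 93, 109, 113] (v3 C) [20, 32, 67, 104] :=
  C.flip (f11794 C)

theorem f11796 : C.T (v18 C) [6, 48, 63, 88, 100, 109, 122] (v15 C) [6, 45, 66, 72, 102, 109, 113] :=
  C.closeT (p := (v3 C)) (pu := [15, 35, 69, 72, 93, 125])
    (C.pT (f11790 C)
    (C.pH [8, 30, 65, 84, 94, 117] [21, 32, 81, 106, 110, 122] (by decide +kernel)
    (C.pT (f11792 C)
    (C.pH [26, 38, 54, 89, 90, 113] [6, 48, 63, 88, 100, 109, 122] (by decide +kernel) (C.pNil _ _)))))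
    (C.pH [8, 30, 65, 84, 94, 117] [13, 46, 49, 84, 93, 109, 113] (by decide +kernel)
    (C.pT (f11795 C)
    (C.pH [26, 38, 54, 89, 90, 113] [15, 35, 69, 72, 93, 125] (by decide +kernel) (C.pNil _ _))))
    (C.loop_of_one (relLoop1 C) _ _)

theorem f11797 : C.T (v15 C) [6, 45, 66, 72, 102, 109, 113] (v18 C) [6, 48, 63, 88, 100, 109, 122] :=
  C.flip (f11796 C)

theorem f11798 : C.T (v3 C) [20, 31, 70, 101, 121] (v18 C) [26, 47, 55, 89, 99, 110, 125] :=
  C.conv (f9221 C) (f9279 C) (f9279 C) _ [140, 164, 172, 177] _ (by decide +kernel) (by decide +kernel) (by decide +kernel)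

theorem f11799 : C.T (v18 C) [14, 48, 60, 73, 107, 109, 120] (v10 C) [13, 37, 49, 71, 95, 110, 124] :=
  C.conv (f7594 C) (f6836 C) (f7121 C) _ [127, 158, 170, 172] _ (by decide +kernel) (by decide +kernel) (by decide +kernel)

theorem f11800 : C.T (v3 C) [17, 42, 53, 87, 95, 110, 116] (v18 C) [9, 34, 53, 75, 94, 109, 123] :=
  C.conv (f9184 C) (f9232 C) (f10782 C) _ [135, 158, 173] _ (by decide +kernel) (by decide +kernel) (by decide +kernel)

theorem f11801 : C.T (v18 C) [9, 34, 53, 75, 94, 109, 123] (v3 C) [17, 42, 53, 87, 95, 110, 116] :=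
  C.flip (f11800 C)

theorem f11802 : C.T (v10 C) [23, 47, 80, 107, 109, 114] (v18 C) [25, 30, 67, 81, 102, 110, 119] :=
  C.closeT (p := (v3 C)) (pu := [20, 31, 70, 101, 121])
    (C.pT (f11798 C)
    (C.pH [8, 30, 65, 84, 94, 117] [14, 48, 60, 73, 107, 109, 120] (by decide +kernel)
    (C.pT (f11799 C)
    (C.pH [26, 38, 54, 89, 90, 113] [23, 47, 80, 107, 109, 114] (by decide +kernel) (C.pNil _ _)))))
    (C.pH [8, 30, 65, 84, 94, 117] [9, 34, 53, 75, 94, 109, 123] (by decide +kernel)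
    (C.pT (f11801 C)
    (C.pH [26, 38, 54, 89, 90, 113] [20, 31, 70, 101, 121] (by decide +kernel) (C.pNil _ _))))
    (C.loop_of_one (relLoop1 C) _ _)

theorem f11803 : C.T (v18 C) [25, 30, 67, 81, 102, 110, 119] (v10 C) [23, 47, 80, 107, 109, 114] :=
  C.flip (f11802 C)

theorem f11804 : C.T (v3 C) [25, 42, 68, 72, 106, 124] (v18 C) [22, 48, 53, 73, 106, 109, 116] :=
  C.conv (f9221 C) (f9279 C) (f9279 C) _ [131, 163, 172, 177] _ (by decide +kernel) (by decide +kernel) (by decide +kernel)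

theorem f11805 : C.S (v3 C) [4, 35, 66, 84, 105, 109, 115] :=
  C.stMul (f335 C) (f331 C) _ (by decide +kernel)

theorem f11806 : C.S (v3 C) [12, 47, 57, 74, 97, 110] :=
  C.stMul (f335 C) (f11805 C) _ (by decide +kernel)

theorem f11807 : C.T (v3 C) [4, 30, 54, 76, 94, 109, 120] (v18 C) [19, 42, 51, 77, 103, 109, 124] :=
  C.conv (f6902 C) (f7285 C) (f11806 C) _ [134, 163, 165, 174, 177] _ (by decide +kernel) (by decide +kernel) (by decide +kernel)

theorem f11808 : C.T (v18 C) [19, 42, 51, 77, 103, 109, 124] (v3 C) [4, 30, 54, 76, 94, 109, 120] :=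
  C.flip (f11807 C)

theorem f11809 : C.S (v18 C) [26, 43, 49, 77, 91, 110, 115] :=
  C.stMul (f6836 C) (f6836 C) _ (by decide +kernel)

theorem f11810 : C.T (v18 C) [15, 30, 57, 82, 104, 109, 114] (v18 C) [10, 27, 63, 76, 94, 110, 116] :=
  C.conv (f10331 C) (f11809 C) (f11809 C) _ [144, 162, 169, 173, 177] _ (by decide +kernel) (by decide +kernel) (by decide +kernel)

theorem f11811 : C.T (v18 C) [10, 27, 63, 76, 94, 110, 116] (v18 C) [15, 30, 57, 82, 104, 109, 114] :=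
  C.flip (f11810 C)

theorem f11812 : C.T (v18 C) [6, 43, 63, 71, 104, 118] (v18 C) [18, 27, 49, 77, 108, 109, 123] :=
  C.closeT (p := (v3 C)) (pu := [25, 42, 68, 72, 106, 124])
    (C.pT (f11804 C)
    (C.pH [8, 30, 65, 84, 94, 117] [6, 43, 63, 71, 104, 118] (by decide +kernel) (C.pNil _ _)))
    (C.pH [26, 38, 54, 89, 90, 113] [10, 27, 63, 76, 94, 110, 116] (by decide +kernel)
    (C.pT (f11811 C)
    (C.pH [8, 30, 65, 84, 94, 117] [19, 42, 51, 77, 103, 109, 124] (by decide +kernel)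
    (C.pT (f11808 C)
    (C.pH [26, 38, 54, 89, 90, 113] [25, 42, 68, 72, 106, 124] (by decide +kernel) (C.pNil _ _))))))
    (C.loop_of_one (relLoop1 C) _ _)

theorem f11813 : C.T (v18 C) [18, 27, 49, 77, 108, 109, 123] (v18 C) [6, 43, 63, 71, 104, 118] :=
  C.flip (f11812 C)

theorem f11814 : C.T (v3 C) [4, 36, 55, 89, 97, 119] (v18 C) [7, 28, 67, 76, 100, 110] :=
  C.conv (f9221 C) (f9279 C) (f9279 C) _ [135, 160, 164, 172] _ (by decide +kernel) (by decide +kernel) (by decide +kernel)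

theorem f11815 : C.T (v3 C) [6, 35, 56, 89, 99, 109, 118] (v18 C) [9, 35, 57, 77, 107, 110, 121] :=
  C.conv (f6902 C) (f7285 C) (f10880 C) _ [152, 168, 174, 178] _ (by decide +kernel) (by decide +kernel) (by decide +kernel)

theorem f11816 : C.T (v18 C) [9, 35, 57, 77, 107, 110, 121] (v3 C) [6, 35, 56, 89, 99, 109, 118] :=
  C.flip (f11815 C)

theorem f11817 : C.T (v18 C) [25, 39, 63, 70, 92, 110, 124] (v15 C) [8, 31, 51, 81, 91, 109, 124] :=
  C.conv (f10995 C) (f6836 C) (f6836 C) _ [128, 162, 173, 178] _ (by decide +kernel) (by decide +kernel) (by decide +kernel)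

theorem f11818 : C.T (v15 C) [8, 31, 51, 81, 91, 109, 124] (v18 C) [25, 39, 63, 70, 92, 110, 124] :=
  C.flip (f11817 C)

theorem f11819 : C.T (v18 C) [17, 33, 61, 72, 91, 110, 125] (v15 C) [5, 33, 55, 88, 107, 121] :=
  C.closeT (p := (v3 C)) (pu := [4, 36, 55, 89, 97, 119])
    (C.pT (f11814 C)
    (C.pH [8, 30, 65, 84, 94, 117] [17, 33, 61, 72, 91, 110, 125] (by decide +kernel) (C.pNil _ _)))
    (C.pH [26, 38, 54, 89, 90, 113] [8, 31, 51, 81, 91, 109, 124] (by decide +kernel)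
    (C.pT (f11818 C)
    (C.pH [8, 30, 65, 84, 94, 117] [9, 35, 57, 77, 107, 110, 121] (by decide +kernel)
    (C.pT (f11816 C)
    (C.pH [26, 38, 54, 89, 90, 113] [4, 36, 55, 89, 97, 119] (by decide +kernel) (C.pNil _ _))))))
    (C.loop_of_one (relLoop1 C) _ _)

theorem f11820 : C.T (v15 C) [5, 33, 55, 88, 107, 121] (v18 C) [17, 33, 61, 72, 91, 110, 125] :=
  C.flip (f11819 C)

theorem f11821 : C.T (v3 C) [21, 44, 85, 96, 109, 116] (v18 C) [6, 30, 55, 77, 105, 109, 111] :=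
  C.conv (f9432 C) (f9640 C) (f9640 C) _ [140, 157, 166, 176] _ (by decide +kernel) (by decide +kernel) (by decide +kernel)

theorem f11822 : C.S (v18 C) [26, 43, 49, 77, 91, 110, 115] :=
  C.stMul (f6836 C) (f6836 C) _ (by decide +kernel)

theorem f11823 : C.T (v18 C) [13, 36, 68, 72, 107, 110, 118] (v15 C) [9, 31, 61, 86, 108, 109, 119] :=
  C.conv (f10539 C) (f7121 C) (f11822 C) _ [145, 168, 174] _ (by decide +kernel) (by decide +kernel) (by decide +kernel)

theorem f11824 : C.S (v3 C) [18, 33, 63, 86, 90, 124] :=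
  C.stMul (f331 C) (f10670 C) _ (by decide +kernel)

theorem f11825 : C.T (v3 C) [10, 30, 68, 88, 97, 109, 125] (v18 C) [5, 45, 57, 81, 93, 116] :=
  C.conv (f9432 C) (f9640 C) (f11824 C) _ [143, 159, 164, 176] _ (by decide +kernel) (by decide +kernel) (by decide +kernel)

theorem f11826 : C.T (v18 C) [5, 45, 57, 81, 93, 116] (v3 C) [10, 30, 68, 88, 97, 109, 125] :=
  C.flip (f11825 C)

theorem f11827 : C.T (v15 C) [22, 28, 55, 77, 95, 109, 123] (v18 C) [14, 48, 63, 85, 108, 110, 115] :=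
  C.closeT (p := (v3 C)) (pu := [21, 44, 85, 96, 109, 116])
    (C.pT (f11821 C)
    (C.pH [8, 30, 65, 84, 94, 117] [13, 36, 68, 72, 107, 110, 118] (by decide +kernel)
    (C.pT (f11823 C)
    (C.pH [26, 38, 54, 89, 90, 113] [22, 28, 55, 77, 95, 109, 123] (by decide +kernel) (C.pNil _ _)))))
    (C.pH [8, 30, 65, 84, 94, 117] [5, 45, 57, 81, 93, 116] (by decide +kernel)
    (C.pT (f11826 C)
    (C.pH [26, 38, 54, 89, 90, 113] [21, 44, 85, 96, 109, 116] (by decide +kernel) (C.pNil _ _))))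
    (C.loop_of_one (relLoop1 C) _ _)

theorem f11828 : C.T (v18 C) [14, 48, 63, 85, 108, 110, 115] (v15 C) [22, 28, 55, 77, 95, 109, 123] :=
  C.flip (f11827 C)

theorem f11829 : C.T (v3 C) [18, 36, 58, 73, 107, 109, 114] (v18 C) [11, 41, 68, 76, 104, 110, 115] :=
  C.conv (f9432 C) (f9640 C) (f9640 C) _ [137, 155, 166, 177] _ (by decide +kernel) (by decide +kernel) (by decide +kernel)

theorem f11830 : C.S (v3 C) [11, 28, 50, 85, 94, 124] :=
  C.stMul (f353 C) (f9229 C) _ (by decide +kernel)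

theorem f11831 : C.S (v3 C) [23, 36, 66, 83, 90, 109, 121] :=
  C.stMul (f331 C) (f11830 C) _ (by decide +kernel)

theorem f11832 : C.T (v3 C) [25, 37, 52, 80, 98, 109, 115] (v18 C) [18, 68, 77, 102, 117] :=
  C.conv (f9184 C) (f9232 C) (f11831 C) _ [129, 150, 167] _ (by decide +kernel) (by decide +kernel) (by decide +kernel)

theorem f11833 : C.T (v18 C) [18, 68, 77, 102, 117] (v3 C) [25, 37, 52, 80, 98, 109, 115] :=
  C.flip (f11832 C)

theorem f11834 : C.T (v18 C) [9, 43, 51, 70, 106, 109] (v17 C) [11, 40, 57, 70, 93, 125] :=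
  C.conv (f10244 C) (f7121 C) (f6836 C) _ [143, 149, 167, 174, 177] _ (by decide +kernel) (by decide +kernel) (by decide +kernel)

theorem f11835 : C.T (v17 C) [11, 40, 57, 70, 93, 125] (v18 C) [9, 43, 51, 70, 106, 109] :=
  C.flip (f11834 C)

theorem f11836 : C.T (v18 C) [7, 32, 57, 83, 94, 110, 123] (v17 C) [8, 39, 58, 77, 95, 117] :=
  C.closeT (p := (v3 C)) (pu := [18, 36, 58, 73, 107, 109, 114])
    (C.pT (f11829 C)
    (C.pH [8, 30, 65, 84, 94, 117] [7, 32, 57, 83, 94, 110, 123] (by decide +kernel) (C.pNil _ _)))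
    (C.pH [26, 38, 54, 89, 90, 113] [11, 40, 57, 70, 93, 125] (by decide +kernel)
    (C.pT (f11835 C)
    (C.pH [8, 30, 65, 84, 94, 117] [18, 68, 77, 102, 117] (by decide +kernel)
    (C.pT (f11833 C)
    (C.pH [26, 38, 54, 89, 90, 113] [18, 36, 58, 73, 107, 109, 114] (by decide +kernel) (C.pNil _ _))))))
    (C.loop_of_one (relLoop1 C) _ _)

theorem f11837 : C.T (v17 C) [8, 39, 58, 77, 95, 117] (v18 C) [7, 32, 57, 83, 94, 110, 123] :=
  C.flip (f11836 C)

theorem f11838 : C.T (v3 C) [9, 28, 65, 72, 91, 109, 120] (v18 C) [13, 32, 67, 71, 96, 110, 122] :=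
  C.conv (f9432 C) (f9640 C) (f9640 C) _ [162, 166, 172, 177] _ (by decide +kernel) (by decide +kernel) (by decide +kernel)

theorem f11839 : C.S (v3 C) [16, 37, 62, 81, 101, 109, 123] :=
  C.stMul (f335 C) (f10686 C) _ (by decide +kernel)

theorem f11840 : C.T (v3 C) [15, 36, 50, 88, 103, 109, 115] (v18 C) [26, 31, 58, 84, 95, 109, 125] :=
  C.conv (f6888 C) (f7333 C) (f11839 C) _ [130, 161, 167, 172, 177] _ (by decide +kernel) (by decide +kernel) (by decide +kernel)

theorem f11841 : C.T (v18 C) [26, 31, 58, 84, 95, 109, 125] (v3 C) [15, 36, 50, 88, 103, 109, 115] :=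
  C.flip (f11840 C)

theorem f11842 : C.T (v18 C) [19, 33, 64, 71, 103, 110, 121] (v18 C) [10, 35, 62, 87, 106, 110, 111] :=
  C.conv (f9744 C) (f6836 C) (f6836 C) _ [148, 157, 164, 176, 177] _ (by decide +kernel) (by decide +kernel) (by decide +kernel)

theorem f11843 : C.T (v18 C) [10, 35, 62, 87, 106, 110, 111] (v18 C) [19, 33, 64, 71, 103, 110, 121] :=
  C.flip (f11842 C)

theorem f11844 : C.T (v18 C) [11, 33, 61, 81, 105, 110, 123] (v18 C) [18, 45, 55, 104, 110, 111] :=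
  C.closeT (p := (v3 C)) (pu := [9, 28, 65, 72, 91, 109, 120])
    (C.pT (f11838 C)
    (C.pH [8, 30, 65, 84, 94, 117] [11, 33, 61, 81, 105, 110, 123] (by decide +kernel) (C.pNil _ _)))
    (C.pH [26, 38, 54, 89, 90, 113] [10, 35, 62, 87, 106, 110, 111] (by decide +kernel)
    (C.pT (f11843 C)
    (C.pH [8, 30, 65, 84, 94, 117] [26, 31, 58, 84, 95, 109, 125] (by decide +kernel)
    (C.pT (f11841 C)
    (C.pH [26, 38, 54, 89, 90, 113] [9, 28, 65, 72, 91, 109, 120] (by decide +kernel) (C.pNil _ _))))))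
    (C.loop_of_one (relLoop1 C) _ _)

theorem f11847 : C.T (v3 C) [4, 44, 68, 89, 101, 110] (v18 C) [24, 36, 57, 77, 104, 110, 117] :=
  C.conv (f9432 C) (f9640 C) (f9640 C) _ [138, 160, 169, 175, 177] _ (by decide +kernel) (by decide +kernel) (by decide +kernel)

theorem f11848 : C.S (v3 C) [18, 35, 57, 82, 93, 110, 115] :=
  C.stMul (f353 C) (f331 C) _ (by decide +kernel)

theorem f11849 : C.T (v3 C) [6, 45, 66, 77, 95, 124] (v17 C) [11, 36, 63, 86, 95, 109, 117] :=
  C.conv (f6814 C) (f7361 C) (f11848 C) _ [140, 151, 172, 177] _ (by decide +kernel) (by decide +kernel) (by decide +kernel)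

theorem f11850 : C.T (v17 C) [11, 36, 63, 86, 95, 109, 117] (v3 C) [6, 45, 66, 77, 95, 124] :=
  C.flip (f11849 C)

theorem f11851 : C.T (v17 C) [13, 28, 65, 82, 105, 109, 117] (v17 C) [23, 27, 66, 83, 99, 109, 121] :=
  C.conv (f5306 C) (f5308 C) (f4300 C) _ [142, 156, 167] _ (by decide +kernel) (by decide +kernel) (by decide +kernel)

theorem f11852 : C.T (v17 C) [23, 27, 66, 83, 99, 109, 121] (v17 C) [13, 28, 65, 82, 105, 109, 117] :=
  C.flip (f11851 C)

theorem f11853 : C.T (v18 C) [16, 27, 62, 73, 100, 109, 114] (v17 C) [13, 45, 58, 74, 108, 109, 123] :=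
  C.closeT (p := (v3 C)) (pu := [4, 44, 68, 89, 101, 110])
    (C.pT (f11847 C)
    (C.pH [8, 30, 65, 84, 94, 117] [16, 27, 62, 73, 100, 109, 114] (by decide +kernel) (C.pNil _ _)))
    (C.pH [26, 38, 54, 89, 90, 113] [23, 27, 66, 83, 99, 109, 121] (by decide +kernel)
    (C.pT (f11852 C)
    (C.pH [8, 30, 65, 84, 94, 117] [11, 36, 63, 86, 95, 109, 117] (by decide +kernel)
    (C.pT (f11850 C)
    (C.pH [26, 38, 54, 89, 90, 113] [4, 44, 68, 89, 101, 110] (by decide +kernel) (C.pNil _ _))))))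
    (C.loop_of_one (relLoop1 C) _ _)

theorem f11854 : C.T (v17 C) [13, 45, 58, 74, 108, 109, 123] (v18 C) [16, 27, 62, 73, 100, 109, 114] :=
  C.flip (f11853 C)

theorem f11855 : C.T (v3 C) [23, 48, 57, 74, 103, 109, 122] (v18 C) [22, 37, 53, 73, 94, 110, 121] :=
  C.conv (f9432 C) (f9640 C) (f9640 C) _ [132, 152, 170, 174] _ (by decide +kernel) (by decide +kernel) (by decide +kernel)

theorem f11856 : C.T (v18 C) [6, 41, 53, 72, 96, 110, 121] (v18 C) [15, 28, 64, 70, 105, 113] :=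
  C.conv (f11513 C) (f7121 C) (f7121 C) _ [137, 160, 166, 173, 177] _ (by decide +kernel) (by decide +kernel) (by decide +kernel)

theorem f11857 : C.S (v3 C) [12, 47, 57, 74, 97, 110] :=
  C.stMul (f335 C) (f11759 C) _ (by decide +kernel)

theorem f11858 : C.S (v3 C) [23, 32, 60, 77, 103, 109, 115] :=
  C.stMul (f353 C) (f11857 C) _ (by decide +kernel)

theorem f11859 : C.S (v3 C) [21, 30, 64, 71, 99, 122] :=
  C.stMul (f335 C) (f11858 C) _ (by decide +kernel)

theorem f11860 : C.T (v3 C) [13, 41, 68, 76, 115] (v18 C) [23, 30, 103, 115] :=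
  C.conv (f8165 C) (f8200 C) (f11859 C) _ [139, 160, 164, 171, 178] _ (by decide +kernel) (by decide +kernel) (by decide +kernel)

theorem f11861 : C.T (v18 C) [23, 30, 103, 115] (v3 C) [13, 41, 68, 76, 115] :=
  C.flip (f11860 C)

theorem f11862 : C.T (v18 C) [9, 30, 69, 85, 101, 109, 123] (v18 C) [20, 39, 53, 89, 101, 109, 115] :=
  C.closeT (p := (v3 C)) (pu := [23, 48, 57, 74, 103, 109, 122])
    (C.pT (f11855 C)
    (C.pH [8, 30, 65, 84, 94, 117] [6, 41, 53, 72, 96, 110, 121] (by decide +kernel)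
    (C.pT (f11856 C)
    (C.pH [26, 38, 54, 89, 90, 113] [9, 30, 69, 85, 101, 109, 123] (by decide +kernel) (C.pNil _ _)))))
    (C.pH [8, 30, 65, 84, 94, 117] [23, 30, 103, 115] (by decide +kernel)
    (C.pT (f11861 C)
    (C.pH [26, 38, 54, 89, 90, 113] [23, 48, 57, 74, 103, 109, 122] (by decide +kernel) (C.pNil _ _))))
    (C.loop_of_one (relLoop1 C) _ _)

theorem f11865 : C.T (v3 C) [4, 37, 69, 88, 108, 125] (v18 C) [21, 48, 68, 92, 111] :=
  C.conv (f9432 C) (f9640 C) (f9640 C) _ [136, 159, 170, 178] _ (by decide +kernel) (by decide +kernel) (by decide +kernel)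

theorem f11866 : C.S (v3 C) [26, 29, 49, 97, 123] :=
  C.stMul (f335 C) (f10277 C) _ (by decide +kernel)

theorem f11867 : C.T (v3 C) [6, 41, 63, 75, 94, 113] (v18 C) [9, 29, 57, 74, 92, 109] :=
  C.conv (f6916 C) (f7402 C) (f11866 C) _ [130, 160, 165, 172] _ (by decide +kernel) (by decide +kernel) (by decide +kernel)

theorem f11868 : C.T (v18 C) [9, 29, 57, 74, 92, 109] (v3 C) [6, 41, 63, 75, 94, 113] :=
  C.flip (f11867 C)

theorem f11869 : C.S (v18 C) [26, 43, 49, 77, 91, 110, 115] :=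
  C.stMul (f6836 C) (f6836 C) _ (by decide +kernel)

theorem f11870 : C.T (v18 C) [25, 44, 49, 72, 92, 109, 117] (v18 C) [6, 33, 61, 72, 91, 109, 113] :=
  C.conv (f10231 C) (f11869 C) (f11869 C) _ [146, 156, 173] _ (by decide +kernel) (by decide +kernel) (by decide +kernel)

theorem f11871 : C.T (v18 C) [6, 33, 61, 72, 91, 109, 113] (v18 C) [25, 44, 49, 72, 92, 109, 117] :=
  C.flip (f11870 C)

theorem f11872 : C.T (v18 C) [24, 33, 68, 74, 91, 110] (v18 C) [21, 36, 62, 77, 102, 109, 119] :=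
  C.closeT (p := (v3 C)) (pu := [4, 37, 69, 88, 108, 125])
    (C.pT (f11865 C)
    (C.pH [8, 30, 65, 84, 94, 117] [24, 33, 68, 74, 91, 110] (by decide +kernel) (C.pNil _ _)))
    (C.pH [26, 38, 54, 89, 90, 113] [6, 33, 61, 72, 91, 109, 113] (by decide +kernel)
    (C.pT (f11871 C)
    (C.pH [8, 30, 65, 84, 94, 117] [9, 29, 57, 74, 92, 109] (by decide +kernel)
    (C.pT (f11868 C)
    (C.pH [26, 38, 54, 89, 90, 113] [4, 37, 69, 88, 108, 125] (by decide +kernel) (C.pNil _ _))))))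
    (C.loop_of_one (relLoop1 C) _ _)

theorem f11875 : C.T (v3 C) [14, 34, 65, 74, 103, 110, 123] (v18 C) [16, 34, 71, 96, 110, 113] :=
  C.conv (f9432 C) (f9640 C) (f9640 C) _ [144, 168, 174, 177] _ (by decide +kernel) (by decide +kernel) (by decide +kernel)

theorem f11876 : C.T (v3 C) [12, 27, 67, 75, 96, 109, 123] (v18 C) [20, 27, 78, 96, 110, 121] :=
  C.conv (f7327 C) (f7806 C) (f10259 C) _ [138, 170, 176, 178] _ (by decide +kernel) (by decide +kernel) (by decide +kernel)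

theorem f11877 : C.T (v18 C) [20, 27, 78, 96, 110, 121] (v3 C) [12, 27, 67, 75, 96, 109, 123] :=
  C.flip (f11876 C)

theorem f11878 : C.S (v18 C) [26, 43, 49, 77, 91, 110, 115] :=
  C.stMul (f6836 C) (f6836 C) _ (by decide +kernel)

theorem f11879 : C.T (v18 C) [16, 45, 53, 74, 98, 110, 115] (v18 C) [16, 37, 50, 88, 101, 109, 113] :=
  C.conv (f11677 C) (f11878 C) (f11878 C) _ [141, 154, 167, 171] _ (by decide +kernel) (by decide +kernel) (by decide +kernel)

theorem f11880 : C.T (v18 C) [16, 37, 50, 88, 101, 109, 113] (v18 C) [16, 45, 53, 74, 98, 110, 115] :=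
  C.flip (f11879 C)

theorem f11881 : C.T (v18 C) [20, 37, 51, 72, 99, 109] (v18 C) [26, 45, 52, 85, 98, 117] :=
  C.closeT (p := (v3 C)) (pu := [14, 34, 65, 74, 103, 110, 123])
    (C.pT (f11875 C)
    (C.pH [8, 30, 65, 84, 94, 117] [20, 37, 51, 72, 99, 109] (by decide +kernel) (C.pNil _ _)))
    (C.pH [26, 38, 54, 89, 90, 113] [16, 37, 50, 88, 101, 109, 113] (by decide +kernel)
    (C.pT (f11880 C)
    (C.pH [8, 30, 65, 84, 94, 117] [20, 27, 78, 96, 110, 121] (by decide +kernel)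
    (C.pT (f11877 C)
    (C.pH [26, 38, 54, 89, 90, 113] [14, 34, 65, 74, 103, 110, 123] (by decide +kernel) (C.pNil _ _))))))
    (C.loop_of_one (relLoop1 C) _ _)

theorem f11882 : C.T (v18 C) [26, 45, 52, 85, 98, 117] (v18 C) [20, 37, 51, 72, 99, 109] :=
  C.flip (f11881 C)

theorem f11883 : C.T (v3 C) [15, 35, 69, 85, 90, 109, 122] (v18 C) [17, 37, 61, 80, 91, 110, 125] :=
  C.conv (f9432 C) (f9640 C) (f9640 C) _ [142, 153, 167, 173] _ (by decide +kernel) (by decide +kernel) (by decide +kernel)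

theorem f11884 : C.T (v3 C) [20, 32, 67, 75, 102, 109, 125] (v17 C) [21, 37, 55, 87, 108, 109, 119] :=
  C.conv (f6808 C) (f9290 C) (f11429 C) _ [142, 151, 164, 176, 178] _ (by decide +kernel) (by decide +kernel) (by decide +kernel)

theorem f11885 : C.T (v17 C) [21, 37, 55, 87, 108, 109, 119] (v3 C) [20, 32, 67, 75, 102, 109, 125] :=
  C.flip (f11884 C)

theorem f11886 : C.S (v17 C) [23, 31, 49, 84, 96, 117] :=
  C.stMul (f4137 C) (f4137 C) _ (by decide +kernel)

theorem f11887 : C.T (v17 C) [12, 35, 68, 70, 101, 109, 115] (v16 C) [7, 36, 57, 96, 122] :=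
  C.conv (f4884 C) (f11886 C) (f4132 C) _ [144, 157, 164, 177] _ (by decide +kernel) (by decide +kernel) (by decide +kernel)

theorem f11888 : C.T (v16 C) [7, 36, 57, 96, 122] (v17 C) [12, 35, 68, 70, 101, 109, 115] :=
  C.flip (f11887 C)

theorem f11889 : C.T (v18 C) [22, 44, 62, 76, 107, 110, 122] (v16 C) [23, 38, 83, 93, 122] :=
  C.closeT (p := (v3 C)) (pu := [15, 35, 69, 85, 90, 109, 122])
    (C.pT (f11883 C)
    (C.pH [8, 30, 65, 84, 94, 117] [22, 44, 62, 76, 107, 110, 122] (by decide +kernel) (C.pNil _ _)))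
    (C.pH [26, 38, 54, 89, 90, 113] [7, 36, 57, 96, 122] (by decide +kernel)
    (C.pT (f11888 C)
    (C.pH [8, 30, 65, 84, 94, 117] [21, 37, 55, 87, 108, 109, 119] (by decide +kernel)
    (C.pT (f11885 C)
    (C.pH [26, 38, 54, 89, 90, 113] [15, 35, 69, 85, 90, 109, 122] (by decide +kernel) (C.pNil _ _))))))
    (C.loop_of_one (relLoop1 C) _ _)

theorem f11890 : C.T (v16 C) [23, 38, 83, 93, 122] (v18 C) [22, 44, 62, 76, 107, 110, 122] :=
  C.flip (f11889 C)

theorem f11891 : C.T (v3 C) [20, 36, 49, 76, 99, 110, 120] (v18 C) [12, 41, 52, 80, 98, 110, 121] :=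
  C.conv (f9432 C) (f9640 C) (f9640 C) _ [139, 161, 178] _ (by decide +kernel) (by decide +kernel) (by decide +kernel)

theorem f11892 : C.S (v3 C) [23, 29, 57, 87, 91, 110, 120] :=
  C.stMul (f331 C) (f328 C) _ (by decide +kernel)

theorem f11893 : C.T (v3 C) [17, 32, 86, 96, 110, 117] (v4 C) [10, 41, 64, 73, 92] :=
  C.conv (f808 C) (f938 C) (f11892 C) _ [146, 168, 177] _ (by decide +kernel) (by decide +kernel) (by decide +kernel)

theorem f11894 : C.T (v4 C) [10, 41, 64, 73, 92] (v3 C) [17, 32, 86, 96, 110, 117] :=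
  C.flip (f11893 C)

theorem f11895 : C.S (v4 C) [18, 46, 49, 75, 97, 110, 118] :=
  C.stMul (f407 C) (f407 C) _ (by decide +kernel)

theorem f11896 : C.S (v4 C) [16, 43, 64, 82, 90, 110, 123] :=
  C.stMul (f421 C) (f11895 C) _ (by decide +kernel)

theorem f11897 : C.S (v4 C) [12, 41, 63, 84, 102, 110, 115] :=
  C.stMul (f693 C) (f11896 C) _ (by decide +kernel)

end CfsgLib.J4Index
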