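import Cfsg.Agent.Lib.J4Index.Facts11

/-!
# Derived equations (generated)
-/

set_option autoImplicit false
set_option maxRecDepth 100000
set_option linter.style.longLine false

namespace CfsgLib.J4Index

variable {G X : Type} [Group G] [MulAction G X] (C : Ctx G X)

theorem f11898 : C.T (v4 C) [23, 40, 65, 76, 90, 109, 116] (v16 C) [11, 29, 69, 84, 108, 109, 123] :=
  C.conv (f4074 C) (f8908 C) (f11897 C) _ [148, 153, 173] _ (by decide +kernel) (by decide +kernel) (by decide +kernel)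

theorem f11899 : C.T (v16 C) [11, 29, 69, 84, 108, 109, 123] (v4 C) [23, 40, 65, 76, 90, 109, 116] :=
  C.flip (f11898 C)

theorem f11900 : C.T (v18 C) [21, 48, 49, 80, 91, 109, 114] (v16 C) [8, 46, 67, 71, 95, 109, 111] :=
  C.closeT (p := (v3 C)) (pu := [20, 36, 49, 76, 99, 110, 120])
    (C.pT (f11891 C)
    (C.pH [8, 30, 65, 84, 94, 117] [21, 48, 49, 80, 91, 109, 114] (by decide +kernel) (C.pNil _ _)))
    (C.pH [26, 38, 54, 89, 90, 113] [11, 29, 69, 84, 108, 109, 123] (by decide +kernel)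
    (C.pT (f11899 C)
    (C.pH [8, 30, 65, 84, 94, 117] [10, 41, 64, 73, 92] (by decide +kernel)
    (C.pT (f11894 C)
    (C.pH [26, 38, 54, 89, 90, 113] [20, 36, 49, 76, 99, 110, 120] (by decide +kernel) (C.pNil _ _))))))
    (C.loop_of_one (relLoop1 C) _ _)

theorem f11901 : C.T (v16 C) [8, 46, 67, 71, 95, 109, 111] (v18 C) [21, 48, 49, 80, 91, 109, 114] :=
  C.flip (f11900 C)

theorem f11902 : C.T (v3 C) [23, 36, 64, 70, 94, 110, 117] (v18 C) [44, 53, 76, 95, 109, 112] :=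
  C.conv (f9432 C) (f9640 C) (f9640 C) _ [138, 155, 170, 176, 177] _ (by decide +kernel) (by decide +kernel) (by decide +kernel)

theorem f11903 : C.T (v18 C) [8, 48, 59, 80, 90, 112] (v15 C) [11, 46, 66, 81, 108, 123] :=
  C.conv (f11819 C) (f7121 C) (f6836 C) _ [146, 157, 169, 171, 177] _ (by decide +kernel) (by decide +kernel) (by decide +kernel)

theorem f11904 : C.T (v3 C) [13, 33, 58, 72, 98, 109, 121] (v18 C) [7, 28, 66, 74, 106, 122] :=
  C.conv (f9221 C) (f9279 C) (f9470 C) _ [128, 155, 168, 174, 177] _ (by decide +kernel) (by decide +kernel) (by decide +kernel)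

theorem f11905 : C.T (v18 C) [7, 28, 66, 74, 106, 122] (v3 C) [13, 33, 58, 72, 98, 109, 121] :=
  C.flip (f11904 C)

theorem f11906 : C.T (v15 C) [24, 52, 76, 107, 110, 115] (v18 C) [11, 42, 51, 71, 98, 123] :=
  C.closeT (p := (v3 C)) (pu := [23, 36, 64, 70, 94, 110, 117])
    (C.pT (f11902 C)
    (C.pH [8, 30, 65, 84, 94, 117] [8, 48, 59, 80, 90, 112] (by decide +kernel)
    (C.pT (f11903 C)
    (C.pH [26, 38, 54, 89, 90, 113] [24, 52, 76, 107, 110, 115] (by decide +kernel) (C.pNil _ _)))))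
    (C.pH [8, 30, 65, 84, 94, 117] [7, 28, 66, 74, 106, 122] (by decide +kernel)
    (C.pT (f11905 C)
    (C.pH [26, 38, 54, 89, 90, 113] [23, 36, 64, 70, 94, 110, 117] (by decide +kernel) (C.pNil _ _))))
    (C.loop_of_one (relLoop1 C) _ _)

theorem f11907 : C.T (v18 C) [11, 42, 51, 71, 98, 123] (v15 C) [24, 52, 76, 107, 110, 115] :=
  C.flip (f11906 C)

theorem f11908 : C.T (v3 C) [22, 42, 52, 72, 102, 109, 117] (v2 C) [14, 27, 54, 86, 103, 109, 113] :=
  C.conv (f346 C) (f391 C) (f391 C) _ [134, 154, 169] _ (by decide +kernel) (by decide +kernel) (by decide +kernel)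

theorem f11909 : C.S (v2 C) [11, 46, 66, 87, 105, 109, 113] :=
  C.stMul (f243 C) (f7220 C) _ (by decide +kernel)

theorem f11910 : C.T (v2 C) [5, 45, 62, 86, 106] (v18 C) [21, 29, 68, 70, 92, 109, 116] :=
  C.conv (f6830 C) (f323 C) (f11909 C) _ [143, 163, 166, 173] _ (by decide +kernel) (by decide +kernel) (by decide +kernel)

theorem f11911 : C.S (v3 C) [15, 40, 50, 78, 92, 118] :=
  C.stMul (f328 C) (f11321 C) _ (by decide +kernel)

theorem f11912 : C.T (v3 C) [17, 33, 53, 76, 95, 121] (v18 C) [14, 30, 60, 77, 102, 110, 120] :=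
  C.conv (f9221 C) (f9279 C) (f11911 C) _ [131, 162, 165, 174, 177] _ (by decide +kernel) (by decide +kernel) (by decide +kernel)

theorem f11913 : C.T (v18 C) [14, 30, 60, 77, 102, 110, 120] (v3 C) [17, 33, 53, 76, 95, 121] :=
  C.flip (f11912 C)

theorem f11914 : C.T (v18 C) [24, 41, 62, 82, 110, 111] (v18 C) [12, 47, 67, 72, 100, 109, 116] :=
  C.closeT (p := (v3 C)) (pu := [22, 42, 52, 72, 102, 109, 117])
    (C.pT (f11908 C)
    (C.pH [26, 38, 54, 89, 90, 113] [5, 45, 62, 86, 106] (by decide +kernel)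
    (C.pT (f11910 C)
    (C.pH [8, 30, 65, 84, 94, 117] [24, 41, 62, 82, 110, 111] (by decide +kernel) (C.pNil _ _)))))
    (C.pH [26, 38, 54, 89, 90, 113] [14, 30, 60, 77, 102, 110, 120] (by decide +kernel)
    (C.pT (f11913 C)
    (C.pH [8, 30, 65, 84, 94, 117] [22, 42, 52, 72, 102, 109, 117] (by decide +kernel) (C.pNil _ _))))
    (C.loop_of_one (relLoop2 C) _ _)

theorem f11915 : C.T (v18 C) [12, 47, 67, 72, 100, 109, 116] (v18 C) [24, 41, 62, 82, 110, 111] :=
  C.flip (f11914 C)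

theorem f11916 : C.T (v3 C) [18, 45, 59, 80, 108, 110, 111] (v2 C) [15, 41, 64, 89, 102, 124] :=
  C.conv (f346 C) (f391 C) (f391 C) _ [150, 165, 178] _ (by decide +kernel) (by decide +kernel) (by decide +kernel)

theorem f11917 : C.T (v2 C) [9, 35, 75, 107, 123] (v18 C) [28, 62, 79, 108, 109, 113] :=
  C.conv (f6830 C) (f323 C) (f7368 C) _ [150, 170] _ (by decide +kernel) (by decide +kernel) (by decide +kernel)

theorem f11918 : C.S (v3 C) [12, 29, 49, 79, 92, 110, 117] :=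
  C.stMul (f353 C) (f10431 C) _ (by decide +kernel)

theorem f11919 : C.S (v3 C) [11, 29, 71, 90, 109, 112] :=
  C.stMul (f331 C) (f11918 C) _ (by decide +kernel)

theorem f11920 : C.T (v3 C) [9, 34, 54, 79, 99, 109, 117] (v18 C) [12, 30, 68, 82, 110, 118] :=
  C.conv (f9432 C) (f9640 C) (f11919 C) _ [138, 149, 169, 173] _ (by decide +kernel) (by decide +kernel) (by decide +kernel)

theorem f11921 : C.T (v18 C) [12, 30, 68, 82, 110, 118] (v3 C) [9, 34, 54, 79, 99, 109, 117] :=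
  C.flip (f11920 C)

theorem f11922 : C.T (v18 C) [8, 36, 53, 81, 95, 110, 121] (v18 C) [24, 35, 64, 77, 102] :=
  C.closeT (p := (v3 C)) (pu := [18, 45, 59, 80, 108, 110, 111])
    (C.pT (f11916 C)
    (C.pH [26, 38, 54, 89, 90, 113] [9, 35, 75, 107, 123] (by decide +kernel)
    (C.pT (f11917 C)
    (C.pH [8, 30, 65, 84, 94, 117] [8, 36, 53, 81, 95, 110, 121] (by decide +kernel) (C.pNil _ _)))))
    (C.pH [26, 38, 54, 89, 90, 113] [12, 30, 68, 82, 110, 118] (by decide +kernel)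
    (C.pT (f11921 C)
    (C.pH [8, 30, 65, 84, 94, 117] [18, 45, 59, 80, 108, 110, 111] (by decide +kernel) (C.pNil _ _))))
    (C.loop_of_one (relLoop2 C) _ _)

theorem f11923 : C.T (v18 C) [24, 35, 64, 77, 102] (v18 C) [8, 36, 53, 81, 95, 110, 121] :=
  C.flip (f11922 C)

theorem f11924 : C.T (v3 C) [17, 27, 66, 79, 92, 122] (v2 C) [26, 32, 61, 71, 93, 109, 121] :=
  C.conv (f336 C) (f376 C) (f376 C) _ [139, 149, 168, 173, 177] _ (by decide +kernel) (by decide +kernel) (by decide +kernel)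

theorem f11925 : C.S (v2 C) [4, 48, 49, 82, 109, 119] :=
  C.stMul (f243 C) (f7163 C) _ (by decide +kernel)

theorem f11926 : C.T (v2 C) [16, 29, 53, 76, 93, 109] (v18 C) [4, 34, 62, 80, 110, 118] :=
  C.conv (f6830 C) (f323 C) (f11925 C) _ [126, 150, 174, 177] _ (by decide +kernel) (by decide +kernel) (by decide +kernel)

theorem f11927 : C.S (v3 C) [8, 48, 63, 86, 90, 110, 123] :=
  C.stMul (f331 C) (f9789 C) _ (by decide +kernel)

theorem f11928 : C.S (v3 C) [15, 29, 55, 75, 90, 119] :=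
  C.stMul (f353 C) (f11927 C) _ (by decide +kernel)

theorem f11929 : C.T (v3 C) [7, 36, 69, 74, 98, 110, 125] (v18 C) [29, 57, 85, 100, 115] :=
  C.conv (f9432 C) (f9640 C) (f11928 C) _ [135, 161, 164, 174, 177] _ (by decide +kernel) (by decide +kernel) (by decide +kernel)

theorem f11930 : C.T (v18 C) [29, 57, 85, 100, 115] (v3 C) [7, 36, 69, 74, 98, 110, 125] :=
  C.flip (f11929 C)

theorem f11931 : C.T (v18 C) [25, 40, 53, 83, 116] (v18 C) [7, 37, 61, 95, 125] :=
  C.closeT (p := (v3 C)) (pu := [17, 27, 66, 79, 92, 122])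
    (C.pT (f11924 C)
    (C.pH [26, 38, 54, 89, 90, 113] [16, 29, 53, 76, 93, 109] (by decide +kernel)
    (C.pT (f11926 C)
    (C.pH [8, 30, 65, 84, 94, 117] [25, 40, 53, 83, 116] (by decide +kernel) (C.pNil _ _)))))
    (C.pH [26, 38, 54, 89, 90, 113] [29, 57, 85, 100, 115] (by decide +kernel)
    (C.pT (f11930 C)
    (C.pH [8, 30, 65, 84, 94, 117] [17, 27, 66, 79, 92, 122] (by decide +kernel) (C.pNil _ _))))
    (C.loop_of_one (relLoop2 C) _ _)

theorem f11932 : C.T (v18 C) [7, 37, 61, 95, 125] (v18 C) [25, 40, 53, 83, 116] :=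
  C.flip (f11931 C)

theorem f11933 : C.T (v3 C) [14, 53, 80, 103, 110, 122] (v2 C) [19, 32, 52, 83, 108, 116] :=
  C.conv (f336 C) (f376 C) (f376 C) _ [136, 151, 167, 175, 178] _ (by decide +kernel) (by decide +kernel) (by decide +kernel)

theorem f11934 : C.T (v2 C) [17, 47, 58, 88, 119] (v18 C) [25, 40, 57, 72, 105, 109, 116] :=
  C.conv (f6850 C) (f6867 C) (f7675 C) _ [146, 152, 165] _ (by decide +kernel) (by decide +kernel) (by decide +kernel)

theorem f11935 : C.S (v3 C) [24, 63, 83, 91, 110, 113] :=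
  C.stMul (f353 C) (f10743 C) _ (by decide +kernel)

theorem f11936 : C.S (v3 C) [19, 41, 65, 84, 102, 117] :=
  C.stMul (f331 C) (f11935 C) _ (by decide +kernel)

theorem f11937 : C.T (v3 C) [26, 46, 59, 73, 93, 110, 115] (v18 C) [21, 33, 50, 70, 93, 109, 117] :=
  C.conv (f8216 C) (f8435 C) (f11936 C) _ [146, 154, 169, 171] _ (by decide +kernel) (by decide +kernel) (by decide +kernel)

theorem f11938 : C.T (v18 C) [21, 33, 50, 70, 93, 109, 117] (v3 C) [26, 46, 59, 73, 93, 110, 115] :=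
  C.flip (f11937 C)

theorem f11939 : C.T (v18 C) [9, 27, 57, 80, 104, 120] (v18 C) [10, 31, 56, 74, 102, 110, 125] :=
  C.closeT (p := (v3 C)) (pu := [14, 53, 80, 103, 110, 122])
    (C.pT (f11933 C)
    (C.pH [26, 38, 54, 89, 90, 113] [17, 47, 58, 88, 119] (by decide +kernel)
    (C.pT (f11934 C)
    (C.pH [8, 30, 65, 84, 94, 117] [9, 27, 57, 80, 104, 120] (by decide +kernel) (C.pNil _ _)))))
    (C.pH [26, 38, 54, 89, 90, 113] [21, 33, 50, 70, 93, 109, 117] (by decide +kernel)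
    (C.pT (f11938 C)
    (C.pH [8, 30, 65, 84, 94, 117] [14, 53, 80, 103, 110, 122] (by decide +kernel) (C.pNil _ _))))
    (C.loop_of_one (relLoop2 C) _ _)

theorem f11940 : C.T (v18 C) [10, 31, 56, 74, 102, 110, 125] (v18 C) [9, 27, 57, 80, 104, 120] :=
  C.flip (f11939 C)

theorem f11941 : C.T (v3 C) [7, 32, 62, 80, 90, 110, 121] (v2 C) [20, 28, 51, 87, 90, 110, 121] :=
  C.conv (f368 C) (f376 C) (f376 C) _ [131, 157, 176] _ (by decide +kernel) (by decide +kernel) (by decide +kernel)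

theorem f11942 : C.T (v2 C) [15, 27, 54, 76, 102, 110, 119] (v17 C) [5, 44, 66, 81, 96, 110, 111] :=
  C.conv (f6632 C) (f6971 C) (f7741 C) _ [144, 156, 164, 175, 178] _ (by decide +kernel) (by decide +kernel) (by decide +kernel)

theorem f11943 : C.S (v3 C) [7, 59, 76, 107, 120] :=
  C.stMul (f328 C) (f10670 C) _ (by decide +kernel)

theorem f11944 : C.S (v3 C) [10, 27, 53, 86, 103, 122] :=
  C.stMul (f353 C) (f11943 C) _ (by decide +kernel)

theorem f11945 : C.T (v3 C) [11, 41, 52, 82, 91, 125] (v18 C) [13, 41, 60, 85, 99, 109, 122] :=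
  C.conv (f9432 C) (f9640 C) (f11944 C) _ [162, 174, 178] _ (by decide +kernel) (by decide +kernel) (by decide +kernel)

theorem f11946 : C.T (v18 C) [13, 41, 60, 85, 99, 109, 122] (v3 C) [11, 41, 52, 82, 91, 125] :=
  C.flip (f11945 C)

theorem f11947 : C.T (v17 C) [12, 41, 51, 76, 96, 109, 125] (v18 C) [16, 30, 53, 71, 90, 116] :=
  C.closeT (p := (v3 C)) (pu := [7, 32, 62, 80, 90, 110, 121])
    (C.pT (f11941 C)
    (C.pH [26, 38, 54, 89, 90, 113] [15, 27, 54, 76, 102, 110, 119] (by decide +kernel)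
    (C.pT (f11942 C)
    (C.pH [8, 30, 65, 84, 94, 117] [12, 41, 51, 76, 96, 109, 125] (by decide +kernel) (C.pNil _ _)))))
    (C.pH [26, 38, 54, 89, 90, 113] [13, 41, 60, 85, 99, 109, 122] (by decide +kernel)
    (C.pT (f11946 C)
    (C.pH [8, 30, 65, 84, 94, 117] [7, 32, 62, 80, 90, 110, 121] (by decide +kernel) (C.pNil _ _))))
    (C.loop_of_one (relLoop2 C) _ _)

theorem f11948 : C.T (v18 C) [16, 30, 53, 71, 90, 116] (v17 C) [12, 41, 51, 76, 96, 109, 125] :=
  C.flip (f11947 C)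

theorem f11949 : C.T (v3 C) [15, 37, 63, 80, 91, 120] (v3 C) [16, 38, 55, 88, 93, 109, 122] :=
  C.conv (f374 C) (f376 C) (f376 C) _ [147, 160, 171] _ (by decide +kernel) (by decide +kernel) (by decide +kernel)

theorem f11950 : C.S (v3 C) [7, 59, 76, 107, 120] :=
  C.stMul (f328 C) (f9649 C) _ (by decide +kernel)

theorem f11951 : C.S (v3 C) [12, 35, 65, 93, 109, 125] :=
  C.stMul (f331 C) (f11950 C) _ (by decide +kernel)

theorem f11952 : C.T (v3 C) [13, 34, 59, 88, 100, 109, 119] (v18 C) [18, 35, 57, 75, 104, 110] :=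
  C.conv (f6902 C) (f7285 C) (f11951 C) _ [138, 155, 165, 174] _ (by decide +kernel) (by decide +kernel) (by decide +kernel)

theorem f11953 : C.S (v3 C) [14, 48, 51, 82, 94, 110, 111] :=
  C.stMul (f331 C) (f9477 C) _ (by decide +kernel)

theorem f11954 : C.T (v3 C) [10, 31, 83, 93, 122] (v18 C) [23, 31, 52, 79, 98, 110, 124] :=
  C.conv (f6902 C) (f7285 C) (f11953 C) _ [136, 154, 169, 176, 177] _ (by decide +kernel) (by decide +kernel) (by decide +kernel)

theorem f11955 : C.T (v18 C) [23, 31, 52, 79, 98, 110, 124] (v3 C) [10, 31, 83, 93, 122] :=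
  C.flip (f11954 C)

theorem f11956 : C.T (v18 C) [4, 36, 66, 74, 96, 109, 120] (v18 C) [13, 28, 51, 104, 110, 112] :=
  C.closeT (p := (v3 C)) (pu := [15, 37, 63, 80, 91, 120])
    (C.pT (f11949 C)
    (C.pH [26, 38, 54, 89, 90, 113] [13, 34, 59, 88, 100, 109, 119] (by decide +kernel)
    (C.pT (f11952 C)
    (C.pH [8, 30, 65, 84, 94, 117] [4, 36, 66, 74, 96, 109, 120] (by decide +kernel) (C.pNil _ _)))))
    (C.pH [26, 38, 54, 89, 90, 113] [23, 31, 52, 79, 98, 110, 124] (by decide +kernel)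
    (C.pT (f11955 C)
    (C.pH [8, 30, 65, 84, 94, 117] [15, 37, 63, 80, 91, 120] (by decide +kernel) (C.pNil _ _))))
    (C.loop_of_one (relLoop2 C) _ _)

theorem f11959 : C.T (v3 C) [21, 31, 66, 86, 106, 110, 112] (v3 C) [25, 46, 68, 76, 94, 109, 116] :=
  C.conv (f374 C) (f376 C) (f376 C) _ [141, 154, 174, 177] _ (by decide +kernel) (by decide +kernel) (by decide +kernel)

theorem f11960 : C.S (v3 C) [19, 41, 65, 84, 102, 117] :=
  C.stMul (f331 C) (f9234 C) _ (by decide +kernel)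

theorem f11961 : C.T (v3 C) [18, 41, 65, 79, 110, 125] (v18 C) [5, 57, 84, 105, 110, 121] :=
  C.conv (f9184 C) (f9232 C) (f11960 C) _ [141, 157, 166, 173] _ (by decide +kernel) (by decide +kernel) (by decide +kernel)

theorem f11962 : C.T (v3 C) [12, 39, 57, 74, 96, 110, 113] (v18 C) [5, 46, 59, 87, 96, 111] :=
  C.conv (f9184 C) (f9232 C) (f9231 C) _ [141, 162, 174, 178] _ (by decide +kernel) (by decide +kernel) (by decide +kernel)

theorem f11963 : C.T (v18 C) [5, 46, 59, 87, 96, 111] (v3 C) [12, 39, 57, 74, 96, 110, 113] :=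
  C.flip (f11962 C)

theorem f11964 : C.T (v18 C) [12, 45, 61, 100, 110, 114] (v18 C) [14, 44, 57, 87, 102, 114] :=
  C.closeT (p := (v3 C)) (pu := [21, 31, 66, 86, 106, 110, 112])
    (C.pT (f11959 C)
    (C.pH [26, 38, 54, 89, 90, 113] [18, 41, 65, 79, 110, 125] (by decide +kernel)
    (C.pT (f11961 C)
    (C.pH [8, 30, 65, 84, 94, 117] [12, 45, 61, 100, 110, 114] (by decide +kernel) (C.pNil _ _)))))
    (C.pH [26, 38, 54, 89, 90, 113] [5, 46, 59, 87, 96, 111] (by decide +kernel)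
    (C.pT (f11963 C)
    (C.pH [8, 30, 65, 84, 94, 117] [21, 31, 66, 86, 106, 110, 112] (by decide +kernel) (C.pNil _ _))))
    (C.loop_of_one (relLoop2 C) _ _)

theorem f11967 : C.T (v3 C) [11, 30, 69, 89, 102, 109, 124] (v3 C) [7, 38, 68, 84, 92, 125] :=
  C.conv (f374 C) (f376 C) (f376 C) _ [147, 155, 167, 175] _ (by decide +kernel) (by decide +kernel) (by decide +kernel)

theorem f11968 : C.T (v3 C) [35, 69, 86, 104, 109, 115] (v18 C) [7, 46, 63, 70, 93, 120] :=
  C.conv (f9432 C) (f9640 C) (f10904 C) _ [132, 162, 166, 178] _ (by decide +kernel) (by decide +kernel) (by decide +kernel)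

theorem f11969 : C.T (v3 C) [13, 41, 53, 86, 94, 109, 114] (v17 C) [19, 42, 56, 83, 90, 117] :=
  C.conv (f6814 C) (f7361 C) (f9151 C) _ [139, 157, 167, 172] _ (by decide +kernel) (by decide +kernel) (by decide +kernel)

theorem f11970 : C.T (v17 C) [19, 42, 56, 83, 90, 117] (v3 C) [13, 41, 53, 86, 94, 109, 114] :=
  C.flip (f11969 C)

theorem f11971 : C.T (v18 C) [17, 30, 61, 70, 119] (v17 C) [22, 47, 55, 88, 103, 109, 118] :=
  C.closeT (p := (v3 C)) (pu := [11, 30, 69, 89, 102, 109, 124])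
    (C.pT (f11967 C)
    (C.pH [26, 38, 54, 89, 90, 113] [35, 69, 86, 104, 109, 115] (by decide +kernel)
    (C.pT (f11968 C)
    (C.pH [8, 30, 65, 84, 94, 117] [17, 30, 61, 70, 119] (by decide +kernel) (C.pNil _ _)))))
    (C.pH [26, 38, 54, 89, 90, 113] [19, 42, 56, 83, 90, 117] (by decide +kernel)
    (C.pT (f11970 C)
    (C.pH [8, 30, 65, 84, 94, 117] [11, 30, 69, 89, 102, 109, 124] (by decide +kernel) (C.pNil _ _))))
    (C.loop_of_one (relLoop2 C) _ _)

theorem f11972 : C.T (v17 C) [22, 47, 55, 88, 103, 109, 118] (v18 C) [17, 30, 61, 70, 119] :=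
  C.flip (f11971 C)

theorem f11973 : C.T (v3 C) [9, 33, 58, 82, 107, 109, 124] (v3 C) [24, 35, 51, 84, 95, 109, 112] :=
  C.conv (f374 C) (f376 C) (f376 C) _ [161, 166, 174, 177] _ (by decide +kernel) (by decide +kernel) (by decide +kernel)

theorem f11974 : C.S (v3 C) [24, 36, 57, 89, 101, 117] :=
  C.stMul (f335 C) (f9332 C) _ (by decide +kernel)

theorem f11975 : C.T (v3 C) [12, 30, 58, 82, 103, 111] (v18 C) [5, 66, 93, 109, 118] :=
  C.conv (f6888 C) (f7333 C) (f11974 C) _ [139, 161, 165, 172, 177] _ (by decide +kernel) (by decide +kernel) (by decide +kernel)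

theorem f11976 : C.S (v3 C) [25, 35, 69, 73, 94, 109, 118] :=
  C.stMul (f335 C) (f10441 C) _ (by decide +kernel)

theorem f11977 : C.S (v3 C) [16, 31, 72, 108, 112] :=
  C.stMul (f331 C) (f11976 C) _ (by decide +kernel)

theorem f11978 : C.T (v3 C) [25, 29, 56, 87, 105, 109] (v18 C) [26, 30, 55, 76, 103, 109, 122] :=
  C.conv (f9184 C) (f9232 C) (f11977 C) _ [136, 152, 169, 173, 178] _ (by decide +kernel) (by decide +kernel) (by decide +kernel)

theorem f11979 : C.T (v18 C) [26, 30, 55, 76, 103, 109, 122] (v3 C) [25, 29, 56, 87, 105, 109] :=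
  C.flip (f11978 C)

theorem f11980 : C.T (v18 C) [12, 45, 55, 72, 93, 109, 114] (v18 C) [32, 51, 89, 107, 109, 121] :=
  C.closeT (p := (v3 C)) (pu := [9, 33, 58, 82, 107, 109, 124])
    (C.pT (f11973 C)
    (C.pH [26, 38, 54, 89, 90, 113] [12, 30, 58, 82, 103, 111] (by decide +kernel)
    (C.pT (f11975 C)
    (C.pH [8, 30, 65, 84, 94, 117] [12, 45, 55, 72, 93, 109, 114] (by decide +kernel) (C.pNil _ _)))))
    (C.pH [26, 38, 54, 89, 90, 113] [26, 30, 55, 76, 103, 109, 122] (by decide +kernel)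
    (C.pT (f11979 C)
    (C.pH [8, 30, 65, 84, 94, 117] [9, 33, 58, 82, 107, 109, 124] (by decide +kernel) (C.pNil _ _))))
    (C.loop_of_one (relLoop2 C) _ _)

theorem f11981 : C.T (v18 C) [32, 51, 89, 107, 109, 121] (v18 C) [12, 45, 55, 72, 93, 109, 114] :=
  C.flip (f11980 C)

theorem f11982 : C.T (v3 C) [7, 31, 56, 85, 95, 120] (v3 C) [20, 46, 49, 73, 93, 109, 111] :=
  C.conv (f374 C) (f376 C) (f376 C) _ [130, 154, 174] _ (by decide +kernel) (by decide +kernel) (by decide +kernel)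

theorem f11983 : C.S (v3 C) [19, 30, 60, 72, 107, 110, 116] :=
  C.stMul (f331 C) (f335 C) _ (by decide +kernel)

theorem f11984 : C.S (v3 C) [5, 38, 50, 82, 105, 109, 122] :=
  C.stMul (f353 C) (f11983 C) _ (by decide +kernel)

theorem f11985 : C.T (v3 C) [15, 39, 57, 75, 97, 110, 122] (v18 C) [16, 27, 57, 72, 98, 110, 121] :=
  C.conv (f8223 C) (f8361 C) (f11984 C) _ [132, 150, 167, 171] _ (by decide +kernel) (by decide +kernel) (by decide +kernel)

theorem f11986 : C.S (v3 C) [18, 35, 57, 82, 93, 110, 115] :=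
  C.stMul (f353 C) (f331 C) _ (by decide +kernel)

theorem f11987 : C.S (v3 C) [36, 68, 80, 97, 109, 111] :=
  C.stMul (f331 C) (f11986 C) _ (by decide +kernel)

theorem f11988 : C.T (v3 C) [11, 40, 54, 74, 105, 110, 113] (v18 C) [13, 45, 50, 79, 100, 116] :=
  C.conv (f8223 C) (f8361 C) (f11987 C) _ [134, 151, 168] _ (by decide +kernel) (by decide +kernel) (by decide +kernel)

theorem f11989 : C.T (v18 C) [13, 45, 50, 79, 100, 116] (v3 C) [11, 40, 54, 74, 105, 110, 113] :=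
  C.flip (f11988 C)

theorem f11990 : C.T (v18 C) [20, 38, 66, 89, 93, 122] (v18 C) [16, 37, 56, 83, 92, 109, 119] :=
  C.closeT (p := (v3 C)) (pu := [7, 31, 56, 85, 95, 120])
    (C.pT (f11982 C)
    (C.pH [26, 38, 54, 89, 90, 113] [15, 39, 57, 75, 97, 110, 122] (by decide +kernel)
    (C.pT (f11985 C)
    (C.pH [8, 30, 65, 84, 94, 117] [20, 38, 66, 89, 93, 122] (by decide +kernel) (C.pNil _ _)))))
    (C.pH [26, 38, 54, 89, 90, 113] [13, 45, 50, 79, 100, 116] (by decide +kernel)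
    (C.pT (f11989 C)
    (C.pH [8, 30, 65, 84, 94, 117] [7, 31, 56, 85, 95, 120] (by decide +kernel) (C.pNil _ _))))
    (C.loop_of_one (relLoop2 C) _ _)

theorem f11994 : C.T (v3 C) [25, 44, 57, 87, 112] (v3 C) [14, 33, 50, 87, 106, 109, 117] :=
  C.conv (f383 C) (f386 C) (f386 C) _ [133, 158, 168, 176, 177] _ (by decide +kernel) (by decide +kernel) (by decide +kernel)

theorem f11995 : C.S (v3 C) [13, 42, 59, 86, 99, 123] :=
  C.stMul (f335 C) (f10175 C) _ (by decide +kernel)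

theorem f11996 : C.S (v3 C) [8, 35, 61, 80, 93, 109, 122] :=
  C.stMul (f331 C) (f11995 C) _ (by decide +kernel)

theorem f11997 : C.T (v3 C) [5, 48, 53, 74, 105, 109, 113] (v18 C) [23, 40, 61, 74, 97, 110, 112] :=
  C.conv (f6911 C) (f8231 C) (f11996 C) _ [130, 152, 170] _ (by decide +kernel) (by decide +kernel) (by decide +kernel)

theorem f11998 : C.S (v3 C) [20, 56, 88, 105, 110, 120] :=
  C.stMul (f331 C) (f331 C) _ (by decide +kernel)

theorem f11999 : C.S (v3 C) [24, 43, 51, 89, 106, 110, 114] :=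
  C.stMul (f353 C) (f11998 C) _ (by decide +kernel)

theorem f12000 : C.T (v3 C) [4, 29, 64, 82, 104, 110, 117] (v18 C) [22, 51, 79, 102, 116] :=
  C.conv (f6911 C) (f8231 C) (f11999 C) _ [148, 151, 164, 174, 177] _ (by decide +kernel) (by decide +kernel) (by decide +kernel)

theorem f12001 : C.T (v18 C) [22, 51, 79, 102, 116] (v3 C) [4, 29, 64, 82, 104, 110, 117] :=
  C.flip (f12000 C)

theorem f12002 : C.T (v18 C) [10, 41, 63, 73, 97, 109, 116] (v18 C) [9, 43, 59, 74, 104, 110, 115] :=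
  C.closeT (p := (v3 C)) (pu := [25, 44, 57, 87, 112])
    (C.pT (f11994 C)
    (C.pH [26, 38, 54, 89, 90, 113] [5, 48, 53, 74, 105, 109, 113] (by decide +kernel)
    (C.pT (f11997 C)
    (C.pH [8, 30, 65, 84, 94, 117] [10, 41, 63, 73, 97, 109, 116] (by decide +kernel) (C.pNil _ _)))))
    (C.pH [26, 38, 54, 89, 90, 113] [22, 51, 79, 102, 116] (by decide +kernel)
    (C.pT (f12001 C)
    (C.pH [8, 30, 65, 84, 94, 117] [25, 44, 57, 87, 112] (by decide +kernel) (C.pNil _ _))))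
    (C.loop_of_one (relLoop2 C) _ _)

theorem f12005 : C.T (v3 C) [41, 68, 83, 106, 110, 120] (v3 C) [10, 48, 54, 87, 107, 109, 111] :=
  C.conv (f383 C) (f386 C) (f386 C) _ [136, 159, 164, 172] _ (by decide +kernel) (by decide +kernel) (by decide +kernel)

theorem f12006 : C.T (v3 C) [21, 47, 61, 77, 108, 110, 117] (v18 C) [7, 36, 55, 87, 101, 116] :=
  C.conv (f9432 C) (f9640 C) (f11919 C) _ [148, 159, 164, 175] _ (by decide +kernel) (by decide +kernel) (by decide +kernel)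

theorem f12007 : C.S (v3 C) [4, 35, 66, 84, 105, 109, 115] :=
  C.stMul (f335 C) (f331 C) _ (by decide +kernel)

theorem f12008 : C.S (v3 C) [16, 36, 62, 79, 96, 109, 125] :=
  C.stMul (f353 C) (f12007 C) _ (by decide +kernel)

theorem f12009 : C.S (v3 C) [5, 33, 52, 77, 103, 122] :=
  C.stMul (f335 C) (f12008 C) _ (by decide +kernel)

theorem f12010 : C.T (v3 C) [8, 33, 56, 87, 102, 114] (v18 C) [11, 42, 59, 84, 109, 119] :=
  C.conv (f9432 C) (f9640 C) (f12009 C) _ [127, 161, 168, 177] _ (by decide +kernel) (by decide +kernel) (by decide +kernel)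

theorem f12011 : C.T (v18 C) [11, 42, 59, 84, 109, 119] (v3 C) [8, 33, 56, 87, 102, 114] :=
  C.flip (f12010 C)

theorem f12012 : C.T (v18 C) [17, 27, 59, 74, 95, 109, 124] (v18 C) [8, 36, 55, 82, 103, 109, 120] :=
  C.closeT (p := (v3 C)) (pu := [41, 68, 83, 106, 110, 120])
    (C.pT (f12005 C)
    (C.pH [26, 38, 54, 89, 90, 113] [21, 47, 61, 77, 108, 110, 117] (by decide +kernel)
    (C.pT (f12006 C)
    (C.pH [8, 30, 65, 84, 94, 117] [17, 27, 59, 74, 95, 109, 124] (by decide +kernel) (C.pNil _ _)))))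
    (C.pH [26, 38, 54, 89, 90, 113] [11, 42, 59, 84, 109, 119] (by decide +kernel)
    (C.pT (f12011 C)
    (C.pH [8, 30, 65, 84, 94, 117] [41, 68, 83, 106, 110, 120] (by decide +kernel) (C.pNil _ _))))
    (C.loop_of_one (relLoop2 C) _ _)

theorem f12016 : C.T (v3 C) [13, 40, 53, 87, 95, 109, 113] (v3 C) [19, 27, 62, 83, 91, 110, 115] :=
  C.conv (f383 C) (f386 C) (f386 C) _ [151, 167, 175, 178] _ (by decide +kernel) (by decide +kernel) (by decide +kernel)

theorem f12017 : C.S (v3 C) [25, 35, 69, 73, 94, 109, 118] :=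
  C.stMul (f335 C) (f7809 C) _ (by decide +kernel)

theorem f12018 : C.T (v3 C) [17, 33, 59, 78, 97, 114] (v18 C) [4, 42, 49, 73, 94, 109, 115] :=
  C.conv (f7327 C) (f7806 C) (f12017 C) _ [141, 155, 170, 171] _ (by decide +kernel) (by decide +kernel) (by decide +kernel)

theorem f12019 : C.T (v3 C) [6, 42, 49, 79, 95, 110, 112] (v18 C) [6, 47, 64, 88, 107, 110, 125] :=
  C.conv (f7327 C) (f7806 C) (f8137 C) _ [139, 153, 167, 176, 177] _ (by decide +kernel) (by decide +kernel) (by decide +kernel)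

theorem f12020 : C.T (v18 C) [6, 47, 64, 88, 107, 110, 125] (v3 C) [6, 42, 49, 79, 95, 110, 112] :=
  C.flip (f12019 C)

theorem f12021 : C.T (v18 C) [25, 34, 52, 89, 102, 109, 114] (v18 C) [21, 32, 53, 76, 92, 109, 113] :=
  C.closeT (p := (v3 C)) (pu := [13, 40, 53, 87, 95, 109, 113])
    (C.pT (f12016 C)
    (C.pH [26, 38, 54, 89, 90, 113] [17, 33, 59, 78, 97, 114] (by decide +kernel)
    (C.pT (f12018 C)
    (C.pH [8, 30, 65, 84, 94, 117] [25, 34, 52, 89, 102, 109, 114] (by decide +kernel) (C.pNil _ _)))))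
    (C.pH [26, 38, 54, 89, 90, 113] [6, 47, 64, 88, 107, 110, 125] (by decide +kernel)
    (C.pT (f12020 C)
    (C.pH [8, 30, 65, 84, 94, 117] [13, 40, 53, 87, 95, 109, 113] (by decide +kernel) (C.pNil _ _))))
    (C.loop_of_one (relLoop2 C) _ _)

theorem f12024 : C.T (v3 C) [19, 47, 65, 85, 108, 114] (v3 C) [4, 48, 65, 86, 90, 115] :=
  C.conv (f383 C) (f386 C) (f386 C) _ [129, 165, 172] _ (by decide +kernel) (by decide +kernel) (by decide +kernel)

theorem f12025 : C.S (v3 C) [10, 28, 62, 78, 98, 110, 120] :=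
  C.stMul (f328 C) (f335 C) _ (by decide +kernel)

theorem f12026 : C.S (v3 C) [11, 40, 64, 79, 95, 109, 116] :=
  C.stMul (f335 C) (f12025 C) _ (by decide +kernel)

theorem f12027 : C.S (v3 C) [9, 68, 77, 104, 110, 122] :=
  C.stMul (f335 C) (f12026 C) _ (by decide +kernel)

theorem f12028 : C.T (v3 C) [25, 48, 54, 72, 99, 110, 113] (v17 C) [28, 59, 75, 97, 110, 111] :=
  C.conv (f6822 C) (f7297 C) (f12027 C) _ [134, 157, 170, 174, 177] _ (by decide +kernel) (by decide +kernel) (by decide +kernel)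

theorem f12029 : C.T (v3 C) [15, 46, 66, 78, 103, 110, 111] (v18 C) [26, 27, 64, 76, 95, 109, 113] :=
  C.conv (f8216 C) (f8435 C) (f10744 C) _ [136, 159, 167, 172] _ (by decide +kernel) (by decide +kernel) (by decide +kernel)

theorem f12030 : C.T (v18 C) [26, 27, 64, 76, 95, 109, 113] (v3 C) [15, 46, 66, 78, 103, 110, 111] :=
  C.flip (f12029 C)

theorem f12031 : C.T (v17 C) [8, 36, 75, 92, 109, 121] (v18 C) [31, 60, 78, 90, 111] :=
  C.closeT (p := (v3 C)) (pu := [19, 47, 65, 85, 108, 114])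
    (C.pT (f12024 C)
    (C.pH [26, 38, 54, 89, 90, 113] [25, 48, 54, 72, 99, 110, 113] (by decide +kernel)
    (C.pT (f12028 C)
    (C.pH [8, 30, 65, 84, 94, 117] [8, 36, 75, 92, 109, 121] (by decide +kernel) (C.pNil _ _)))))
    (C.pH [26, 38, 54, 89, 90, 113] [26, 27, 64, 76, 95, 109, 113] (by decide +kernel)
    (C.pT (f12030 C)
    (C.pH [8, 30, 65, 84, 94, 117] [19, 47, 65, 85, 108, 114] (by decide +kernel) (C.pNil _ _))))
    (C.loop_of_one (relLoop2 C) _ _)

theorem f12032 : C.T (v18 C) [31, 60, 78, 90, 111] (v17 C) [8, 36, 75, 92, 109, 121] :=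
  C.flip (f12031 C)

theorem f12033 : C.T (v3 C) [24, 35, 52, 79, 96, 109, 120] (v3 C) [25, 48, 65, 83, 90, 110] :=
  C.conv (f396 C) (f376 C) (f376 C) _ [137, 156, 171] _ (by decide +kernel) (by decide +kernel) (by decide +kernel)

theorem f12034 : C.T (v3 C) [18, 40, 57, 76, 95, 110] (v18 C) [14, 29, 67, 94, 109, 114] :=
  C.conv (f9184 C) (f9232 C) (f11960 C) _ [138, 163, 167, 175, 177] _ (by decide +kernel) (by decide +kernel) (by decide +kernel)

theorem f12035 : C.T (v3 C) [21, 43, 62, 76, 104, 110, 117] (v18 C) [17, 28, 51, 71, 108, 109, 124] :=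
  C.conv (f9184 C) (f9232 C) (f9232 C) _ [148, 164, 172, 178] _ (by decide +kernel) (by decide +kernel) (by decide +kernel)

theorem f12036 : C.T (v18 C) [17, 28, 51, 71, 108, 109, 124] (v3 C) [21, 43, 62, 76, 104, 110, 117] :=
  C.flip (f12035 C)

theorem f12037 : C.T (v18 C) [5, 38, 49, 78, 106, 123] (v18 C) [19, 46, 66, 71, 92, 116] :=
  C.closeT (p := (v3 C)) (pu := [24, 35, 52, 79, 96, 109, 120])
    (C.pT (f12033 C)
    (C.pH [26, 38, 54, 89, 90, 113] [18, 40, 57, 76, 95, 110] (by decide +kernel)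
    (C.pT (f12034 C)
    (C.pH [8, 30, 65, 84, 94, 117] [5, 38, 49, 78, 106, 123] (by decide +kernel) (C.pNil _ _)))))
    (C.pH [26, 38, 54, 89, 90, 113] [17, 28, 51, 71, 108, 109, 124] (by decide +kernel)
    (C.pT (f12036 C)
    (C.pH [8, 30, 65, 84, 94, 117] [24, 35, 52, 79, 96, 109, 120] (by decide +kernel) (C.pNil _ _))))
    (C.loop_of_one (relLoop2 C) _ _)

theorem f12041 : C.T (v3 C) [8, 31, 64, 89, 102, 122] (v4 C) [21, 35, 51, 88, 90, 111] :=
  C.conv (f808 C) (f938 C) (f938 C) _ [146, 160, 170, 174, 177] _ (by decide +kernel) (by decide +kernel) (by decide +kernel)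

theorem f12042 : C.S (v4 C) [18, 46, 49, 75, 97, 110, 118] :=
  C.stMul (f407 C) (f407 C) _ (by decide +kernel)

theorem f12043 : C.S (v4 C) [23, 45, 57, 77, 95, 110, 118] :=
  C.stMul (f407 C) (f12042 C) _ (by decide +kernel)

theorem f12044 : C.S (v4 C) [16, 46, 68, 72, 103, 110, 111] :=
  C.stMul (f693 C) (f12043 C) _ (by decide +kernel)

theorem f12045 : C.S (v4 C) [18, 31, 55, 83, 101, 117] :=
  C.stMul (f421 C) (f12044 C) _ (by decide +kernel)

theorem f12046 : C.S (v4 C) [17, 35, 66, 70, 95] :=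
  C.stMul (f421 C) (f407 C) _ (by decide +kernel)

theorem f12047 : C.S (v4 C) [26, 44, 64, 94, 121] :=
  C.stMul (f693 C) (f12046 C) _ (by decide +kernel)

theorem f12048 : C.S (v4 C) [23, 27, 56, 70, 98, 125] :=
  C.stMul (f421 C) (f12047 C) _ (by decide +kernel)

theorem f12049 : C.T (v4 C) [6, 27, 79, 102, 109, 116] (v18 C) [6, 43, 58, 77, 105, 109, 114] :=
  C.conv (f10188 C) (f12045 C) (f12048 C) _ [162, 167, 175] _ (by decide +kernel) (by decide +kernel) (by decide +kernel)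

theorem f12050 : C.T (v3 C) [36, 62, 89, 106, 120] (v17 C) [20, 29, 61, 104, 124] :=
  C.conv (f6822 C) (f7297 C) (f10011 C) _ [133, 149, 168] _ (by decide +kernel) (by decide +kernel) (by decide +kernel)

theorem f12051 : C.T (v17 C) [20, 29, 61, 104, 124] (v3 C) [36, 62, 89, 106, 120] :=
  C.flip (f12050 C)

theorem f12052 : C.T (v18 C) [13, 67, 87, 98, 110, 112] (v17 C) [17, 34, 68, 82, 100, 110, 117] :=
  C.closeT (p := (v3 C)) (pu := [8, 31, 64, 89, 102, 122])
    (C.pT (f12041 C)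
    (C.pH [26, 38, 54, 89, 90, 113] [6, 27, 79, 102, 109, 116] (by decide +kernel)
    (C.pT (f12049 C)
    (C.pH [8, 30, 65, 84, 94, 117] [13, 67, 87, 98, 110, 112] (by decide +kernel) (C.pNil _ _)))))
    (C.pH [26, 38, 54, 89, 90, 113] [20, 29, 61, 104, 124] (by decide +kernel)
    (C.pT (f12051 C)
    (C.pH [8, 30, 65, 84, 94, 117] [8, 31, 64, 89, 102, 122] (by decide +kernel) (C.pNil _ _))))
    (C.loop_of_one (relLoop2 C) _ _)

theorem f12053 : C.T (v17 C) [17, 34, 68, 82, 100, 110, 117] (v18 C) [13, 67, 87, 98, 110, 112] :=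
  C.flip (f12052 C)

theorem f12054 : C.T (v3 C) [18, 32, 69, 85, 107, 123] (v4 C) [9, 29, 58, 82, 93, 124] :=
  C.conv (f808 C) (f938 C) (f938 C) _ [132, 157, 168, 178] _ (by decide +kernel) (by decide +kernel) (by decide +kernel)

theorem f12055 : C.S (v4 C) [13, 28, 60, 83, 108, 110, 119] :=
  C.stMul (f421 C) (f693 C) _ (by decide +kernel)

theorem f12056 : C.S (v4 C) [17, 45, 53, 80, 99, 109, 123] :=
  C.stMul (f407 C) (f12055 C) _ (by decide +kernel)

theorem f12057 : C.T (v4 C) [22, 36, 51, 77, 98, 114] (v18 C) [17, 43, 57, 83, 97] :=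
  C.conv (f6924 C) (f7427 C) (f12056 C) _ [139, 159, 165, 171, 178] _ (by decide +kernel) (by decide +kernel) (by decide +kernel)

theorem f12058 : C.S (v3 C) [20, 30, 59, 75, 96, 110, 111] :=
  C.stMul (f353 C) (f11019 C) _ (by decide +kernel)

theorem f12059 : C.S (v3 C) [18, 42, 59, 74, 99, 110, 112] :=
  C.stMul (f331 C) (f12058 C) _ (by decide +kernel)

theorem f12060 : C.T (v3 C) [9, 27, 59, 87, 105, 124] (v18 C) [15, 45, 59, 80, 94, 110, 123] :=
  C.conv (f9184 C) (f9232 C) (f12059 C) _ [127, 160, 167, 174] _ (by decide +kernel) (by decide +kernel) (by decide +kernel)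

theorem f12061 : C.T (v18 C) [15, 45, 59, 80, 94, 110, 123] (v3 C) [9, 27, 59, 87, 105, 124] :=
  C.flip (f12060 C)

theorem f12062 : C.T (v18 C) [22, 45, 60, 78, 105, 110, 122] (v18 C) [20, 43, 68, 74, 107, 109, 122] :=
  C.closeT (p := (v3 C)) (pu := [18, 32, 69, 85, 107, 123])
    (C.pT (f12054 C)
    (C.pH [26, 38, 54, 89, 90, 113] [22, 36, 51, 77, 98, 114] (by decide +kernel)
    (C.pT (f12057 C)
    (C.pH [8, 30, 65, 84, 94, 117] [22, 45, 60, 78, 105, 110, 122] (by decide +kernel) (C.pNil _ _)))))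
    (C.pH [26, 38, 54, 89, 90, 113] [15, 45, 59, 80, 94, 110, 123] (by decide +kernel)
    (C.pT (f12061 C)
    (C.pH [8, 30, 65, 84, 94, 117] [18, 32, 69, 85, 107, 123] (by decide +kernel) (C.pNil _ _))))
    (C.loop_of_one (relLoop2 C) _ _)

theorem f12063 : C.T (v18 C) [20, 43, 68, 74, 107, 109, 122] (v18 C) [22, 45, 60, 78, 105, 110, 122] :=
  C.flip (f12062 C)

theorem f12064 : C.T (v3 C) [24, 33, 62, 125] (v4 C) [19, 44, 51, 77, 94, 112] :=
  C.conv (f808 C) (f938 C) (f938 C) _ [136, 162] _ (by decide +kernel) (by decide +kernel) (by decide +kernel)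

theorem f12065 : C.S (v4 C) [17, 35, 66, 70, 95] :=
  C.stMul (f421 C) (f407 C) _ (by decide +kernel)

theorem f12066 : C.T (v4 C) [17, 27, 69, 82, 94, 110, 117] (v15 C) [8, 44, 54, 72, 96, 109, 121] :=
  C.conv (f2628 C) (f2666 C) (f12065 C) _ [131, 150, 165, 173, 177] _ (by decide +kernel) (by decide +kernel) (by decide +kernel)

theorem f12067 : C.S (v3 C) [12, 28, 65, 85, 98, 110, 116] :=
  C.stMul (f353 C) (f10432 C) _ (by decide +kernel)

theorem f12068 : C.S (v3 C) [25, 35, 69, 73, 94, 109, 118] :=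
  C.stMul (f335 C) (f12067 C) _ (by decide +kernel)

theorem f12069 : C.S (v3 C) [16, 31, 72, 108, 112] :=
  C.stMul (f331 C) (f12068 C) _ (by decide +kernel)

theorem f12070 : C.T (v3 C) [21, 48, 59, 72, 102, 116] (v18 C) [15, 42, 55, 80, 98, 109, 125] :=
  C.conv (f9432 C) (f9640 C) (f12069 C) _ [157, 166, 171, 178] _ (by decide +kernel) (by decide +kernel) (by decide +kernel)

theorem f12071 : C.T (v18 C) [15, 42, 55, 80, 98, 109, 125] (v3 C) [21, 48, 59, 72, 102, 116] :=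
  C.flip (f12070 C)

theorem f12072 : C.T (v15 C) [39, 53, 71, 105, 110, 115] (v18 C) [20, 39, 51, 88, 96, 113] :=
  C.closeT (p := (v3 C)) (pu := [24, 33, 62, 125])
    (C.pT (f12064 C)
    (C.pH [26, 38, 54, 89, 90, 113] [17, 27, 69, 82, 94, 110, 117] (by decide +kernel)
    (C.pT (f12066 C)
    (C.pH [8, 30, 65, 84, 94, 117] [39, 53, 71, 105, 110, 115] (by decide +kernel) (C.pNil _ _)))))
    (C.pH [26, 38, 54, 89, 90, 113] [15, 42, 55, 80, 98, 109, 125] (by decide +kernel)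
    (C.pT (f12071 C)
    (C.pH [8, 30, 65, 84, 94, 117] [24, 33, 62, 125] (by decide +kernel) (C.pNil _ _))))
    (C.loop_of_one (relLoop2 C) _ _)

theorem f12073 : C.T (v18 C) [20, 39, 51, 88, 96, 113] (v15 C) [39, 53, 71, 105, 110, 115] :=
  C.flip (f12072 C)

theorem f12074 : C.T (v3 C) [20, 30, 83, 90, 117] (v4 C) [26, 48, 68, 76, 104, 122] :=
  C.conv (f808 C) (f938 C) (f938 C) _ [127, 149, 176, 178] _ (by decide +kernel) (by decide +kernel) (by decide +kernel)

theorem f12075 : C.S (v4 C) [10, 27, 56, 84, 93, 109, 113] :=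
  C.stMul (f407 C) (f421 C) _ (by decide +kernel)

theorem f12076 : C.S (v4 C) [16, 32, 68, 79, 93, 110, 124] :=
  C.stMul (f407 C) (f12075 C) _ (by decide +kernel)

theorem f12077 : C.S (v4 C) [18, 44, 51, 79, 106, 114] :=
  C.stMul (f421 C) (f12076 C) _ (by decide +kernel)

theorem f12078 : C.T (v4 C) [16, 40, 56, 81, 102, 109, 125] (v18 C) [11, 43, 84, 92, 110, 124] :=
  C.conv (f6924 C) (f7427 C) (f12077 C) _ [133, 158, 166, 171] _ (by decide +kernel) (by decide +kernel) (by decide +kernel)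

theorem f12079 : C.T (v3 C) [16, 44, 61, 75, 101, 110, 113] (v18 C) [26, 27, 61, 81, 96, 110, 124] :=
  C.conv (f6916 C) (f7402 C) (f9209 C) _ [146, 150, 164, 171] _ (by decide +kernel) (by decide +kernel) (by decide +kernel)

theorem f12080 : C.T (v18 C) [26, 27, 61, 81, 96, 110, 124] (v3 C) [16, 44, 61, 75, 101, 110, 113] :=
  C.flip (f12079 C)

theorem f12081 : C.T (v18 C) [7, 43, 67, 80, 95, 110, 112] (v18 C) [31, 69, 82, 101, 109, 113] :=
  C.closeT (p := (v3 C)) (pu := [20, 30, 83, 90, 117])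
    (C.pT (f12074 C)
    (C.pH [26, 38, 54, 89, 90, 113] [16, 40, 56, 81, 102, 109, 125] (by decide +kernel)
    (C.pT (f12078 C)
    (C.pH [8, 30, 65, 84, 94, 117] [7, 43, 67, 80, 95, 110, 112] (by decide +kernel) (C.pNil _ _)))))
    (C.pH [26, 38, 54, 89, 90, 113] [26, 27, 61, 81, 96, 110, 124] (by decide +kernel)
    (C.pT (f12080 C)
    (C.pH [8, 30, 65, 84, 94, 117] [20, 30, 83, 90, 117] (by decide +kernel) (C.pNil _ _))))
    (C.loop_of_one (relLoop2 C) _ _)

theorem f12082 : C.T (v18 C) [31, 69, 82, 101, 109, 113] (v18 C) [7, 43, 67, 80, 95, 110, 112] :=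
  C.flip (f12081 C)

theorem f12083 : C.T (v3 C) [17, 37, 52, 81, 90, 110, 121] (v4 C) [7, 27, 65, 82, 92, 125] :=
  C.conv (f808 C) (f938 C) (f938 C) _ [134, 154, 164, 172, 177] _ (by decide +kernel) (by decide +kernel) (by decide +kernel)

theorem f12084 : C.S (v4 C) [8, 31, 60, 85, 98, 110, 125] :=
  C.stMul (f693 C) (f407 C) _ (by decide +kernel)

theorem f12085 : C.T (v4 C) [39, 59, 74, 101, 110, 121] (v17 C) [9, 44, 60, 83, 100, 109, 114] :=
  C.conv (f4790 C) (f407 C) (f12084 C) _ [126, 154, 165, 173, 178] _ (by decide +kernel) (by decide +kernel) (by decide +kernel)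

theorem f12086 : C.S (v3 C) [14, 33, 57, 79, 93] :=
  C.stMul (f335 C) (f9594 C) _ (by decide +kernel)

theorem f12087 : C.T (v3 C) [7, 47, 69, 83, 92, 109, 125] (v18 C) [4, 32, 66, 87, 101, 110, 116] :=
  C.conv (f7327 C) (f7806 C) (f12086 C) _ [141, 149, 165, 173] _ (by decide +kernel) (by decide +kernel) (by decide +kernel)

theorem f12088 : C.T (v18 C) [4, 32, 66, 87, 101, 110, 116] (v3 C) [7, 47, 69, 83, 92, 109, 125] :=
  C.flip (f12087 C)

theorem f12089 : C.T (v17 C) [18, 46, 52, 88, 94, 110, 112] (v18 C) [6, 44, 81, 100, 110, 114] :=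
  C.closeT (p := (v3 C)) (pu := [17, 37, 52, 81, 90, 110, 121])
    (C.pT (f12083 C)
    (C.pH [26, 38, 54, 89, 90, 113] [39, 59, 74, 101, 110, 121] (by decide +kernel)
    (C.pT (f12085 C)
    (C.pH [8, 30, 65, 84, 94, 117] [18, 46, 52, 88, 94, 110, 112] (by decide +kernel) (C.pNil _ _)))))
    (C.pH [26, 38, 54, 89, 90, 113] [4, 32, 66, 87, 101, 110, 116] (by decide +kernel)
    (C.pT (f12088 C)
    (C.pH [8, 30, 65, 84, 94, 117] [17, 37, 52, 81, 90, 110, 121] (by decide +kernel) (C.pNil _ _))))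
    (C.loop_of_one (relLoop2 C) _ _)

theorem f12090 : C.T (v18 C) [6, 44, 81, 100, 110, 114] (v17 C) [18, 46, 52, 88, 94, 110, 112] :=
  C.flip (f12089 C)

theorem f12091 : C.T (v3 C) [14, 46, 68, 73, 91, 110, 123] (v4 C) [6, 34, 50, 72, 111] :=
  C.conv (f808 C) (f938 C) (f938 C) _ [147, 155, 170, 173, 178] _ (by decide +kernel) (by decide +kernel) (by decide +kernel)

theorem f12092 : C.S (v4 C) [23, 45, 57, 77, 95, 110, 118] :=
  C.stMul (f407 C) (f8755 C) _ (by decide +kernel)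

theorem f12093 : C.S (v4 C) [26, 43, 63, 73, 104, 112] :=
  C.stMul (f421 C) (f12092 C) _ (by decide +kernel)

theorem f12094 : C.S (v4 C) [25, 46, 61, 102, 110, 119] :=
  C.stMul (f407 C) (f12093 C) _ (by decide +kernel)

theorem f12095 : C.S (v4 C) [10, 38, 55, 71, 94, 110, 113] :=
  C.stMul (f421 C) (f12094 C) _ (by decide +kernel)

theorem f12096 : C.T (v4 C) [4, 46, 49, 102, 110, 111] (v18 C) [18, 40, 52, 87, 110, 122] :=
  C.conv (f7605 C) (f8757 C) (f12095 C) _ [144, 151, 168, 178] _ (by decide +kernel) (by decide +kernel) (by decide +kernel)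

theorem f12097 : C.S (v3 C) [11, 33, 69, 85, 97, 109, 117] :=
  C.stMul (f335 C) (f10989 C) _ (by decide +kernel)

theorem f12098 : C.S (v3 C) [23, 39, 56, 73, 96, 113] :=
  C.stMul (f331 C) (f12097 C) _ (by decide +kernel)

theorem f12099 : C.T (v3 C) [26, 37, 60, 72, 100, 110, 114] (v17 C) [22, 32, 54, 89, 93, 109, 122] :=
  C.conv (f6822 C) (f7297 C) (f12098 C) _ [133, 172] _ (by decide +kernel) (by decide +kernel) (by decide +kernel)

theorem f12100 : C.T (v17 C) [22, 32, 54, 89, 93, 109, 122] (v3 C) [26, 37, 60, 72, 100, 110, 114] :=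
  C.flip (f12099 C)

theorem f12101 : C.T (v18 C) [4, 46, 54, 107, 110, 115] (v17 C) [9, 34, 54, 71, 108, 112] :=
  C.closeT (p := (v3 C)) (pu := [14, 46, 68, 73, 91, 110, 123])
    (C.pT (f12091 C)
    (C.pH [26, 38, 54, 89, 90, 113] [4, 46, 49, 102, 110, 111] (by decide +kernel)
    (C.pT (f12096 C)
    (C.pH [8, 30, 65, 84, 94, 117] [4, 46, 54, 107, 110, 115] (by decide +kernel) (C.pNil _ _)))))
    (C.pH [26, 38, 54, 89, 90, 113] [22, 32, 54, 89, 93, 109, 122] (by decide +kernel)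
    (C.pT (f12100 C)
    (C.pH [8, 30, 65, 84, 94, 117] [14, 46, 68, 73, 91, 110, 123] (by decide +kernel) (C.pNil _ _))))
    (C.loop_of_one (relLoop2 C) _ _)

theorem f12102 : C.T (v17 C) [9, 34, 54, 71, 108, 112] (v18 C) [4, 46, 54, 107, 110, 115] :=
  C.flip (f12101 C)

theorem f12103 : C.T (v3 C) [21, 41, 55, 78, 102, 124] (v4 C) [17, 46, 81, 92, 121] :=
  C.conv (f808 C) (f938 C) (f938 C) _ [138, 163, 169, 171, 178] _ (by decide +kernel) (by decide +kernel) (by decide +kernel)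

theorem f12104 : C.T (v4 C) [20, 38, 63, 96, 109, 117] (v18 C) [20, 29, 67, 76, 94, 110, 125] :=
  C.conv (f8246 C) (f8275 C) (f8278 C) _ [144, 154, 169, 173, 178] _ (by decide +kernel) (by decide +kernel) (by decide +kernel)

theorem f12105 : C.S (v3 C) [20, 30, 59, 75, 96, 110, 111] :=
  C.stMul (f353 C) (f9255 C) _ (by decide +kernel)

theorem f12106 : C.S (v3 C) [10, 45, 70, 106] :=
  C.stMul (f335 C) (f12105 C) _ (by decide +kernel)

theorem f12107 : C.T (v3 C) [12, 32, 58, 99, 109, 117] (v18 C) [15, 34, 61, 79, 97, 109] :=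
  C.conv (f8216 C) (f8435 C) (f12106 C) _ [136, 153, 170, 172, 177] _ (by decide +kernel) (by decide +kernel) (by decide +kernel)

theorem f12108 : C.T (v18 C) [15, 34, 61, 79, 97, 109] (v3 C) [12, 32, 58, 99, 109, 117] :=
  C.flip (f12107 C)

theorem f12109 : C.T (v18 C) [23, 39, 64, 90, 109, 124] (v18 C) [20, 59, 82, 101, 109, 113] :=
  C.closeT (p := (v3 C)) (pu := [21, 41, 55, 78, 102, 124])
    (C.pT (f12103 C)
    (C.pH [26, 38, 54, 89, 90, 113] [20, 38, 63, 96, 109, 117] (by decide +kernel)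
    (C.pT (f12104 C)
    (C.pH [8, 30, 65, 84, 94, 117] [23, 39, 64, 90, 109, 124] (by decide +kernel) (C.pNil _ _)))))
    (C.pH [26, 38, 54, 89, 90, 113] [15, 34, 61, 79, 97, 109] (by decide +kernel)
    (C.pT (f12108 C)
    (C.pH [8, 30, 65, 84, 94, 117] [21, 41, 55, 78, 102, 124] (by decide +kernel) (C.pNil _ _))))
    (C.loop_of_one (relLoop2 C) _ _)

theorem f12112 : C.T (v3 C) [19, 34, 58, 74, 103, 109, 124] (v2 C) [7, 34, 69, 82, 101, 110, 123] :=
  C.conv (f818 C) (f10121 C) (f10121 C) _ [140, 152, 168, 176, 178] _ (by decide +kernel) (by decide +kernel) (by decide +kernel)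

theorem f12113 : C.S (v2 C) [20, 48, 49, 77, 103, 110, 112] :=
  C.stMul (f125 C) (f101 C) _ (by decide +kernel)

theorem f12114 : C.S (v2 C) [10, 43, 65, 81, 98, 110, 117] :=
  C.stMul (f211 C) (f12113 C) _ (by decide +kernel)

theorem f12115 : C.S (v2 C) [13, 42, 61, 82, 90, 110, 116] :=
  C.stMul (f243 C) (f12114 C) _ (by decide +kernel)

theorem f12116 : C.T (v2 C) [36, 61, 87, 108, 109, 113] (v15 C) [22, 34, 54, 86, 107] :=
  C.conv (f2638 C) (f3254 C) (f12115 C) _ [143, 155, 174, 177] _ (by decide +kernel) (by decide +kernel) (by decide +kernel)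

theorem f12117 : C.T (v3 C) [15, 31, 64, 85, 123] (v18 C) [18, 38, 59, 76, 104, 110, 125] :=
  C.conv (f9221 C) (f9279 C) (f9299 C) _ [138, 155, 164, 173] _ (by decide +kernel) (by decide +kernel) (by decide +kernel)

theorem f12118 : C.T (v18 C) [18, 38, 59, 76, 104, 110, 125] (v3 C) [15, 31, 64, 85, 123] :=
  C.flip (f12117 C)

theorem f12119 : C.T (v15 C) [6, 29, 49, 89, 103, 119] (v18 C) [25, 34, 67, 75, 95, 109, 120] :=
  C.closeT (p := (v3 C)) (pu := [19, 34, 58, 74, 103, 109, 124])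
    (C.pT (f12112 C)
    (C.pH [26, 38, 54, 89, 90, 113] [36, 61, 87, 108, 109, 113] (by decide +kernel)
    (C.pT (f12116 C)
    (C.pH [8, 30, 65, 84, 94, 117] [6, 29, 49, 89, 103, 119] (by decide +kernel) (C.pNil _ _)))))
    (C.pH [26, 38, 54, 89, 90, 113] [18, 38, 59, 76, 104, 110, 125] (by decide +kernel)
    (C.pT (f12118 C)
    (C.pH [8, 30, 65, 84, 94, 117] [19, 34, 58, 74, 103, 109, 124] (by decide +kernel) (C.pNil _ _))))
    (C.loop_of_one (relLoop2 C) _ _)

theorem f12120 : C.T (v18 C) [25, 34, 67, 75, 95, 109, 120] (v15 C) [6, 29, 49, 89, 103, 119] :=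
  C.flip (f12119 C)

theorem f12121 : C.T (v3 C) [25, 36, 59, 86, 103, 109, 117] (v2 C) [23, 41, 61, 83, 92, 116] :=
  C.conv (f818 C) (f10121 C) (f10121 C) _ [142, 157, 166, 177] _ (by decide +kernel) (by decide +kernel) (by decide +kernel)

theorem f12122 : C.S (v2 C) [6, 46, 51, 89, 108, 111] :=
  C.stMul (f149 C) (f6949 C) _ (by decide +kernel)

theorem f12123 : C.T (v2 C) [7, 27, 68, 86, 98, 121] (v18 C) [25, 34, 63, 74, 93, 110, 124] :=
  C.conv (f6850 C) (f6867 C) (f12122 C) _ [128, 160, 165, 171, 177] _ (by decide +kernel) (by decide +kernel) (by decide +kernel)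

theorem f12124 : C.T (v3 C) [4, 47, 70, 91, 110, 115] (v18 C) [12, 44, 58, 85, 94, 109, 116] :=
  C.conv (f6888 C) (f7333 C) (f7561 C) _ [144, 157, 170, 174] _ (by decide +kernel) (by decide +kernel) (by decide +kernel)

theorem f12125 : C.T (v18 C) [12, 44, 58, 85, 94, 109, 116] (v3 C) [4, 47, 70, 91, 110, 115] :=
  C.flip (f12124 C)

theorem f12126 : C.T (v18 C) [9, 30, 56, 70, 98, 112] (v18 C) [24, 38, 54, 84, 100, 118] :=
  C.closeT (p := (v3 C)) (pu := [25, 36, 59, 86, 103, 109, 117])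
    (C.pT (f12121 C)
    (C.pH [26, 38, 54, 89, 90, 113] [7, 27, 68, 86, 98, 121] (by decide +kernel)
    (C.pT (f12123 C)
    (C.pH [8, 30, 65, 84, 94, 117] [9, 30, 56, 70, 98, 112] (by decide +kernel) (C.pNil _ _)))))
    (C.pH [26, 38, 54, 89, 90, 113] [12, 44, 58, 85, 94, 109, 116] (by decide +kernel)
    (C.pT (f12125 C)
    (C.pH [8, 30, 65, 84, 94, 117] [25, 36, 59, 86, 103, 109, 117] (by decide +kernel) (C.pNil _ _))))
    (C.loop_of_one (relLoop2 C) _ _)

theorem f12127 : C.T (v18 C) [24, 38, 54, 84, 100, 118] (v18 C) [9, 30, 56, 70, 98, 112] :=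
  C.flip (f12126 C)

theorem f12128 : C.T (v3 C) [16, 45, 58, 92, 110, 120] (v2 C) [7, 36, 51, 76, 91, 109, 124] :=
  C.conv (f818 C) (f10121 C) (f10121 C) _ [142, 161, 166, 176, 178] _ (by decide +kernel) (by decide +kernel) (by decide +kernel)

theorem f12129 : C.S (v2 C) [25, 42, 67, 87, 90, 118] :=
  C.stMul (f243 C) (f7212 C) _ (by decide +kernel)

theorem f12130 : C.T (v2 C) [32, 67, 89, 94, 109, 120] (v17 C) [13, 27, 57, 87, 92, 122] :=
  C.conv (f6632 C) (f6971 C) (f12129 C) _ [136, 162, 169, 175, 177] _ (by decide +kernel) (by decide +kernel) (by decide +kernel)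

theorem f12131 : C.S (v3 C) [11, 33, 69, 85, 97, 109, 117] :=
  C.stMul (f335 C) (f10498 C) _ (by decide +kernel)

theorem f12132 : C.S (v3 C) [23, 39, 56, 73, 96, 113] :=
  C.stMul (f331 C) (f12131 C) _ (by decide +kernel)

theorem f12133 : C.T (v3 C) [24, 47, 62, 89, 109, 112] (v18 C) [16, 39, 64, 78, 105, 120] :=
  C.conv (f8216 C) (f8435 C) (f12132 C) _ [148, 162, 168, 172] _ (by decide +kernel) (by decide +kernel) (by decide +kernel)

theorem f12134 : C.T (v18 C) [16, 39, 64, 78, 105, 120] (v3 C) [24, 47, 62, 89, 109, 112] :=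
  C.flip (f12133 C)

theorem f12135 : C.T (v17 C) [11, 39, 62, 80, 94, 115] (v18 C) [26, 38, 55, 75, 106, 117] :=
  C.closeT (p := (v3 C)) (pu := [16, 45, 58, 92, 110, 120])
    (C.pT (f12128 C)
    (C.pH [26, 38, 54, 89, 90, 113] [32, 67, 89, 94, 109, 120] (by decide +kernel)
    (C.pT (f12130 C)
    (C.pH [8, 30, 65, 84, 94, 117] [11, 39, 62, 80, 94, 115] (by decide +kernel) (C.pNil _ _)))))
    (C.pH [26, 38, 54, 89, 90, 113] [16, 39, 64, 78, 105, 120] (by decide +kernel)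
    (C.pT (f12134 C)
    (C.pH [8, 30, 65, 84, 94, 117] [16, 45, 58, 92, 110, 120] (by decide +kernel) (C.pNil _ _))))
    (C.loop_of_one (relLoop2 C) _ _)

theorem f12136 : C.T (v18 C) [26, 38, 55, 75, 106, 117] (v17 C) [11, 39, 62, 80, 94, 115] :=
  C.flip (f12135 C)

theorem f12137 : C.T (v3 C) [22, 39, 67, 76, 91, 109, 115] (v2 C) [16, 36, 54, 84, 98, 122] :=
  C.conv (f818 C) (f10121 C) (f10121 C) _ [148, 157, 169, 173, 177] _ (by decide +kernel) (by decide +kernel) (by decide +kernel)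

theorem f12138 : C.S (v2 C) [11, 46, 64, 80, 91, 110, 112] :=
  C.stMul (f243 C) (f6869 C) _ (by decide +kernel)

theorem f12139 : C.T (v2 C) [13, 36, 59, 77, 93, 110, 123] (v18 C) [11, 53, 104, 109, 117] :=
  C.conv (f6850 C) (f6867 C) (f12138 C) _ [161, 167, 176] _ (by decide +kernel) (by decide +kernel) (by decide +kernel)

theorem f12140 : C.T (v3 C) [17, 44, 58, 76, 105, 110, 114] (v17 C) [23, 47, 66, 79, 101, 110, 122] :=
  C.conv (f6269 C) (f7309 C) (f7312 C) _ [131, 156, 165, 171, 178] _ (by decide +kernel) (by decide +kernel) (by decide +kernel)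

theorem f12141 : C.T (v17 C) [23, 47, 66, 79, 101, 110, 122] (v3 C) [17, 44, 58, 76, 105, 110, 114] :=
  C.flip (f12140 C)

theorem f12142 : C.T (v18 C) [7, 34, 57, 104, 109, 117] (v17 C) [13, 37, 60, 76, 96, 116] :=
  C.closeT (p := (v3 C)) (pu := [22, 39, 67, 76, 91, 109, 115])
    (C.pT (f12137 C)
    (C.pH [26, 38, 54, 89, 90, 113] [13, 36, 59, 77, 93, 110, 123] (by decide +kernel)
    (C.pT (f12139 C)
    (C.pH [8, 30, 65, 84, 94, 117] [7, 34, 57, 104, 109, 117] (by decide +kernel) (C.pNil _ _)))))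
    (C.pH [26, 38, 54, 89, 90, 113] [23, 47, 66, 79, 101, 110, 122] (by decide +kernel)
    (C.pT (f12141 C)
    (C.pH [8, 30, 65, 84, 94, 117] [22, 39, 67, 76, 91, 109, 115] (by decide +kernel) (C.pNil _ _))))
    (C.loop_of_one (relLoop2 C) _ _)

theorem f12143 : C.T (v17 C) [13, 37, 60, 76, 96, 116] (v18 C) [7, 34, 57, 104, 109, 117] :=
  C.flip (f12142 C)

theorem f12144 : C.T (v3 C) [24, 47, 83, 94, 120] (v2 C) [20, 31, 67, 85, 104, 110, 125] :=
  C.conv (f818 C) (f10121 C) (f10121 C) _ [160, 170, 177] _ (by decide +kernel) (by decide +kernel) (by decide +kernel)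

theorem f12145 : C.T (v2 C) [15, 31, 62, 72, 104, 109, 112] (v18 C) [13, 35, 65, 80, 93, 110, 121] :=
  C.conv (f6830 C) (f323 C) (f7897 C) _ [135, 155, 170, 174] _ (by decide +kernel) (by decide +kernel) (by decide +kernel)

theorem f12146 : C.S (v3 C) [4, 30, 49, 89, 105, 125] :=
  C.stMul (f353 C) (f11866 C) _ (by decide +kernel)

theorem f12147 : C.S (v3 C) [12, 54, 72, 97, 111] :=
  C.stMul (f335 C) (f12146 C) _ (by decide +kernel)

theorem f12148 : C.T (v3 C) [21, 30, 61, 80, 106, 109, 118] (v18 C) [31, 56, 72, 98, 110, 120] :=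
  C.conv (f6916 C) (f7402 C) (f12147 C) _ [139, 157, 166, 177] _ (by decide +kernel) (by decide +kernel) (by decide +kernel)

theorem f12149 : C.T (v18 C) [31, 56, 72, 98, 110, 120] (v3 C) [21, 30, 61, 80, 106, 109, 118] :=
  C.flip (f12148 C)

theorem f12150 : C.T (v18 C) [11, 47, 68, 94, 112] (v18 C) [7, 35, 64, 75, 108, 109, 116] :=
  C.closeT (p := (v3 C)) (pu := [24, 47, 83, 94, 120])
    (C.pT (f12144 C)
    (C.pH [26, 38, 54, 89, 90, 113] [15, 31, 62, 72, 104, 109, 112] (by decide +kernel)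
    (C.pT (f12145 C)
    (C.pH [8, 30, 65, 84, 94, 117] [11, 47, 68, 94, 112] (by decide +kernel) (C.pNil _ _)))))
    (C.pH [26, 38, 54, 89, 90, 113] [31, 56, 72, 98, 110, 120] (by decide +kernel)
    (C.pT (f12149 C)
    (C.pH [8, 30, 65, 84, 94, 117] [24, 47, 83, 94, 120] (by decide +kernel) (C.pNil _ _))))
    (C.loop_of_one (relLoop2 C) _ _)

theorem f12154 : C.T (v3 C) [19, 34, 51, 70, 91, 110, 123] (v4 C) [19, 28, 54, 73, 108, 124] :=
  C.conv (f841 C) (f926 C) (f926 C) _ [131, 163, 165, 172] _ (by decide +kernel) (by decide +kernel) (by decide +kernel)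

theorem f12155 : C.S (v4 C) [13, 28, 60, 83, 108, 110, 119] :=
  C.stMul (f421 C) (f693 C) _ (by decide +kernel)

theorem f12156 : C.S (v4 C) [17, 35, 66, 70, 95] :=
  C.stMul (f421 C) (f407 C) _ (by decide +kernel)

theorem f12157 : C.S (v4 C) [13, 44, 51, 82, 106, 110, 111] :=
  C.stMul (f407 C) (f12156 C) _ (by decide +kernel)

theorem f12158 : C.T (v4 C) [17, 44, 55, 80, 97, 110, 111] (v17 C) [22, 45, 50, 84, 105, 109, 115] :=
  C.conv (f5350 C) (f12155 C) (f12157 C) _ [139, 153, 165, 172] _ (by decide +kernel) (by decide +kernel) (by decide +kernel)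

theorem f12159 : C.S (v3 C) [26, 27, 69, 86, 106, 110, 119] :=
  C.stMul (f353 C) (f9642 C) _ (by decide +kernel)

theorem f12160 : C.S (v3 C) [6, 49, 86, 91, 110, 112] :=
  C.stMul (f331 C) (f12159 C) _ (by decide +kernel)

theorem f12161 : C.T (v3 C) [15, 31, 62, 86, 108, 110, 115] (v18 C) [13, 47, 49, 77, 91, 110, 125] :=
  C.conv (f9432 C) (f9640 C) (f12160 C) _ [142, 163, 164, 172, 177] _ (by decide +kernel) (by decide +kernel) (by decide +kernel)

theorem f12162 : C.T (v18 C) [13, 47, 49, 77, 91, 110, 125] (v3 C) [15, 31, 62, 86, 108, 110, 115] :=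
  C.flip (f12161 C)

theorem f12163 : C.T (v17 C) [6, 40, 55, 89, 92, 125] (v18 C) [16, 45, 54, 88, 90, 110, 124] :=
  C.closeT (p := (v3 C)) (pu := [19, 34, 51, 70, 91, 110, 123])
    (C.pT (f12154 C)
    (C.pH [26, 38, 54, 89, 90, 113] [17, 44, 55, 80, 97, 110, 111] (by decide +kernel)
    (C.pT (f12158 C)
    (C.pH [8, 30, 65, 84, 94, 117] [6, 40, 55, 89, 92, 125] (by decide +kernel) (C.pNil _ _)))))
    (C.pH [26, 38, 54, 89, 90, 113] [13, 47, 49, 77, 91, 110, 125] (by decide +kernel)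
    (C.pT (f12162 C)
    (C.pH [8, 30, 65, 84, 94, 117] [19, 34, 51, 70, 91, 110, 123] (by decide +kernel) (C.pNil _ _))))
    (C.loop_of_one (relLoop2 C) _ _)

theorem f12164 : C.T (v18 C) [16, 45, 54, 88, 90, 110, 124] (v17 C) [6, 40, 55, 89, 92, 125] :=
  C.flip (f12163 C)

theorem f12165 : C.T (v3 C) [23, 44, 53, 80, 106, 109, 123] (v4 C) [23, 48, 69, 82, 98, 110, 115] :=
  C.conv (f841 C) (f926 C) (f926 C) _ [136, 151, 165, 174, 177] _ (by decide +kernel) (by decide +kernel) (by decide +kernel)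

theorem f12166 : C.S (v4 C) [10, 27, 56, 84, 93, 109, 113] :=
  C.stMul (f407 C) (f421 C) _ (by decide +kernel)

theorem f12167 : C.S (v4 C) [25, 47, 59, 76, 103, 109, 113] :=
  C.stMul (f421 C) (f12166 C) _ (by decide +kernel)

theorem f12168 : C.S (v4 C) [13, 41, 65, 83, 103, 110, 118] :=
  C.stMul (f693 C) (f12167 C) _ (by decide +kernel)

theorem f12169 : C.S (v4 C) [21, 41, 64, 81, 97, 110, 115] :=
  C.stMul (f421 C) (f12168 C) _ (by decide +kernel)

theorem f12170 : C.T (v4 C) [7, 43, 54, 87, 108, 110, 119] (v18 C) [7, 38, 65, 75, 101] :=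
  C.conv (f7860 C) (f693 C) (f12169 C) _ [146, 159, 168, 172, 177] _ (by decide +kernel) (by decide +kernel) (by decide +kernel)

theorem f12171 : C.S (v3 C) [4, 35, 66, 84, 105, 109, 115] :=
  C.stMul (f335 C) (f331 C) _ (by decide +kernel)

theorem f12172 : C.S (v3 C) [12, 47, 57, 74, 97, 110] :=
  C.stMul (f335 C) (f12171 C) _ (by decide +kernel)

theorem f12173 : C.S (v3 C) [23, 32, 60, 77, 103, 109, 115] :=
  C.stMul (f353 C) (f12172 C) _ (by decide +kernel)

theorem f12174 : C.S (v3 C) [21, 30, 64, 71, 99, 122] :=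
  C.stMul (f335 C) (f12173 C) _ (by decide +kernel)

theorem f12175 : C.T (v3 C) [20, 43, 63, 87, 102, 109, 121] (v17 C) [17, 38, 55, 78, 97, 109, 118] :=
  C.conv (f6814 C) (f7361 C) (f12174 C) _ [127, 160, 170, 176, 177] _ (by decide +kernel) (by decide +kernel) (by decide +kernel)

theorem f12176 : C.T (v17 C) [17, 38, 55, 78, 97, 109, 118] (v3 C) [20, 43, 63, 87, 102, 109, 121] :=
  C.flip (f12175 C)

theorem f12177 : C.T (v18 C) [17, 29, 65, 85, 98, 121] (v17 C) [19, 48, 50, 78, 97, 110, 116] :=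
  C.closeT (p := (v3 C)) (pu := [23, 44, 53, 80, 106, 109, 123])
    (C.pT (f12165 C)
    (C.pH [26, 38, 54, 89, 90, 113] [7, 43, 54, 87, 108, 110, 119] (by decide +kernel)
    (C.pT (f12170 C)
    (C.pH [8, 30, 65, 84, 94, 117] [17, 29, 65, 85, 98, 121] (by decide +kernel) (C.pNil _ _)))))
    (C.pH [26, 38, 54, 89, 90, 113] [17, 38, 55, 78, 97, 109, 118] (by decide +kernel)
    (C.pT (f12176 C)
    (C.pH [8, 30, 65, 84, 94, 117] [23, 44, 53, 80, 106, 109, 123] (by decide +kernel) (C.pNil _ _))))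
    (C.loop_of_one (relLoop2 C) _ _)

theorem f12178 : C.T (v17 C) [19, 48, 50, 78, 97, 110, 116] (v18 C) [17, 29, 65, 85, 98, 121] :=
  C.flip (f12177 C)

theorem f12179 : C.T (v3 C) [15, 31, 49, 76, 93, 110, 118] (v4 C) [15, 42, 62, 81, 103, 109, 115] :=
  C.conv (f841 C) (f926 C) (f926 C) _ [131, 151, 165, 173, 178] _ (by decide +kernel) (by decide +kernel) (by decide +kernel)

theorem f12180 : C.S (v4 C) [23, 45, 57, 77, 95, 110, 118] :=
  C.stMul (f407 C) (f8444 C) _ (by decide +kernel)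

theorem f12181 : C.S (v4 C) [26, 43, 63, 73, 104, 112] :=
  C.stMul (f421 C) (f12180 C) _ (by decide +kernel)

theorem f12182 : C.S (v4 C) [25, 46, 61, 102, 110, 119] :=
  C.stMul (f407 C) (f12181 C) _ (by decide +kernel)

theorem f12183 : C.S (v4 C) [10, 38, 55, 71, 94, 110, 113] :=
  C.stMul (f421 C) (f12182 C) _ (by decide +kernel)

theorem f12184 : C.T (v4 C) [9, 27, 52, 77, 94, 109, 113] (v18 C) [29, 65, 84, 94, 109, 119] :=
  C.conv (f7575 C) (f7630 C) (f12183 C) _ [132, 149, 169, 171, 178] _ (by decide +kernel) (by decide +kernel) (by decide +kernel)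

theorem f12185 : C.S (v3 C) [15, 38, 55, 77, 98, 114] :=
  C.stMul (f331 C) (f10136 C) _ (by decide +kernel)

theorem f12186 : C.S (v3 C) [16, 37, 62, 81, 101, 109, 123] :=
  C.stMul (f335 C) (f12185 C) _ (by decide +kernel)

theorem f12187 : C.T (v3 C) [10, 30, 65, 71, 93, 110, 121] (v17 C) [16, 48, 49, 71, 96, 109, 111] :=
  C.conv (f6808 C) (f9290 C) (f12186 C) _ [133, 155, 164, 173, 178] _ (by decide +kernel) (by decide +kernel) (by decide +kernel)

theorem f12188 : C.T (v17 C) [16, 48, 49, 71, 96, 109, 111] (v3 C) [10, 30, 65, 71, 93, 110, 121] :=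
  C.flip (f12187 C)

theorem f12189 : C.T (v18 C) [8, 29, 64, 84, 99, 116] (v17 C) [26, 67, 72, 98, 123] :=
  C.closeT (p := (v3 C)) (pu := [15, 31, 49, 76, 93, 110, 118])
    (C.pT (f12179 C)
    (C.pH [26, 38, 54, 89, 90, 113] [9, 27, 52, 77, 94, 109, 113] (by decide +kernel)
    (C.pT (f12184 C)
    (C.pH [8, 30, 65, 84, 94, 117] [8, 29, 64, 84, 99, 116] (by decide +kernel) (C.pNil _ _)))))
    (C.pH [26, 38, 54, 89, 90, 113] [16, 48, 49, 71, 96, 109, 111] (by decide +kernel)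
    (C.pT (f12188 C)
    (C.pH [8, 30, 65, 84, 94, 117] [15, 31, 49, 76, 93, 110, 118] (by decide +kernel) (C.pNil _ _))))
    (C.loop_of_one (relLoop2 C) _ _)

theorem f12190 : C.T (v17 C) [26, 67, 72, 98, 123] (v18 C) [8, 29, 64, 84, 99, 116] :=
  C.flip (f12189 C)

theorem f12191 : C.T (v3 C) [17, 33, 61, 80, 92, 121] (v4 C) [17, 36, 64, 74, 107, 109, 124] :=
  C.conv (f841 C) (f926 C) (f926 C) _ [140, 149, 164, 171, 177] _ (by decide +kernel) (by decide +kernel) (by decide +kernel)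

theorem f12192 : C.S (v4 C) [17, 35, 66, 70, 95] :=
  C.stMul (f421 C) (f407 C) _ (by decide +kernel)

theorem f12193 : C.S (v4 C) [13, 44, 51, 82, 106, 110, 111] :=
  C.stMul (f407 C) (f12192 C) _ (by decide +kernel)

theorem f12194 : C.S (v4 C) [17, 29, 60, 75, 100, 110, 113] :=
  C.stMul (f407 C) (f12193 C) _ (by decide +kernel)

theorem f12195 : C.T (v4 C) [20, 40, 59, 93, 124] (v18 C) [17, 39, 54, 72, 102, 109, 111] :=
  C.conv (f8339 C) (f8769 C) (f12194 C) _ [139, 160, 170, 175] _ (by decide +kernel) (by decide +kernel) (by decide +kernel)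

theorem f12196 : C.S (v3 C) [20, 56, 88, 105, 110, 120] :=
  C.stMul (f331 C) (f331 C) _ (by decide +kernel)

theorem f12197 : C.S (v3 C) [18, 48, 67, 88, 96, 109, 120] :=
  C.stMul (f331 C) (f12196 C) _ (by decide +kernel)

theorem f12198 : C.S (v3 C) [22, 38, 52, 99, 110, 111] :=
  C.stMul (f353 C) (f12197 C) _ (by decide +kernel)

theorem f12199 : C.S (v3 C) [20, 37, 68, 71, 99, 120] :=
  C.stMul (f331 C) (f12198 C) _ (by decide +kernel)

theorem f12200 : C.T (v3 C) [7, 28, 67, 87, 105, 110, 120] (v18 C) [4, 40, 61, 74, 110, 117] :=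
  C.conv (f6888 C) (f7333 C) (f12199 C) _ [143, 160, 168, 176] _ (by decide +kernel) (by decide +kernel) (by decide +kernel)

theorem f12201 : C.T (v18 C) [4, 40, 61, 74, 110, 117] (v3 C) [7, 28, 67, 87, 105, 110, 120] :=
  C.flip (f12200 C)

theorem f12202 : C.T (v18 C) [22, 29, 55, 75, 106, 114] (v18 C) [6, 27, 49, 77, 98, 110, 113] :=
  C.closeT (p := (v3 C)) (pu := [17, 33, 61, 80, 92, 121])
    (C.pT (f12191 C)
    (C.pH [26, 38, 54, 89, 90, 113] [20, 40, 59, 93, 124] (by decide +kernel)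
    (C.pT (f12195 C)
    (C.pH [8, 30, 65, 84, 94, 117] [22, 29, 55, 75, 106, 114] (by decide +kernel) (C.pNil _ _)))))
    (C.pH [26, 38, 54, 89, 90, 113] [4, 40, 61, 74, 110, 117] (by decide +kernel)
    (C.pT (f12201 C)
    (C.pH [8, 30, 65, 84, 94, 117] [17, 33, 61, 80, 92, 121] (by decide +kernel) (C.pNil _ _))))
    (C.loop_of_one (relLoop2 C) _ _)

theorem f12205 : C.T (v3 C) [19, 40, 68, 71, 100, 110, 112] (v4 C) [19, 54, 76, 91, 110, 117] :=
  C.conv (f841 C) (f926 C) (f926 C) _ [128, 149, 169, 173] _ (by decide +kernel) (by decide +kernel) (by decide +kernel)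

theorem f12206 : C.S (v4 C) [8, 31, 60, 85, 98, 110, 125] :=
  C.stMul (f693 C) (f407 C) _ (by decide +kernel)

theorem f12207 : C.S (v4 C) [18, 46, 49, 75, 97, 110, 118] :=
  C.stMul (f407 C) (f407 C) _ (by decide +kernel)

theorem f12208 : C.S (v4 C) [16, 43, 64, 82, 90, 110, 123] :=
  C.stMul (f421 C) (f12207 C) _ (by decide +kernel)

theorem f12209 : C.S (v4 C) [21, 60, 87, 91, 109, 120] :=
  C.stMul (f407 C) (f12208 C) _ (by decide +kernel)

theorem f12210 : C.S (v4 C) [8, 48, 61, 83, 103, 117] :=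
  C.stMul (f407 C) (f12209 C) _ (by decide +kernel)

theorem f12211 : C.T (v4 C) [17, 37, 59, 89, 93, 110, 124] (v18 C) [25, 29, 56, 86, 96, 110, 125] :=
  C.conv (f8516 C) (f12206 C) (f12210 C) _ [138, 152, 164, 173, 178] _ (by decide +kernel) (by decide +kernel) (by decide +kernel)

theorem f12212 : C.S (v3 C) [17, 40, 55, 75, 96, 110, 124] :=
  C.stMul (f335 C) (f11984 C) _ (by decide +kernel)

theorem f12213 : C.T (v3 C) [15, 27, 59, 83, 103, 109, 116] (v18 C) [49, 78, 90, 111] :=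
  C.conv (f8223 C) (f8361 C) (f12212 C) _ [143, 149, 164, 173] _ (by decide +kernel) (by decide +kernel) (by decide +kernel)

theorem f12214 : C.T (v18 C) [49, 78, 90, 111] (v3 C) [15, 27, 59, 83, 103, 109, 116] :=
  C.flip (f12213 C)

theorem f12215 : C.T (v18 C) [9, 33, 58, 97, 109, 115] (v18 C) [7, 39, 66, 72, 93, 109, 116] :=
  C.closeT (p := (v3 C)) (pu := [19, 40, 68, 71, 100, 110, 112])
    (C.pT (f12205 C)
    (C.pH [26, 38, 54, 89, 90, 113] [17, 37, 59, 89, 93, 110, 124] (by decide +kernel)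
    (C.pT (f12211 C)
    (C.pH [8, 30, 65, 84, 94, 117] [9, 33, 58, 97, 109, 115] (by decide +kernel) (C.pNil _ _)))))
    (C.pH [26, 38, 54, 89, 90, 113] [49, 78, 90, 111] (by decide +kernel)
    (C.pT (f12214 C)
    (C.pH [8, 30, 65, 84, 94, 117] [19, 40, 68, 71, 100, 110, 112] (by decide +kernel) (C.pNil _ _))))
    (C.loop_of_one (relLoop2 C) _ _)

theorem f12219 : C.T (v3 C) [18, 37, 65, 81, 103, 110, 112] (v4 C) [18, 42, 55, 78, 103, 110, 125] :=
  C.conv (f841 C) (f926 C) (f926 C) _ [127, 159, 165, 171, 177] _ (by decide +kernel) (by decide +kernel) (by decide +kernel)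

theorem f12220 : C.S (v4 C) [10, 27, 56, 84, 93, 109, 113] :=
  C.stMul (f407 C) (f421 C) _ (by decide +kernel)

theorem f12221 : C.S (v4 C) [16, 32, 68, 79, 93, 110, 124] :=
  C.stMul (f407 C) (f12220 C) _ (by decide +kernel)

theorem f12222 : C.S (v4 C) [18, 44, 51, 79, 106, 114] :=
  C.stMul (f421 C) (f12221 C) _ (by decide +kernel)

theorem f12223 : C.S (v4 C) [23, 52, 80, 95, 123] :=
  C.stMul (f407 C) (f12222 C) _ (by decide +kernel)

theorem f12224 : C.T (v4 C) [10, 32, 69, 70, 92, 121] (v17 C) [73, 90] :=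
  C.conv (f5790 C) (f407 C) (f12223 C) _ [137, 149, 169, 178] _ (by decide +kernel) (by decide +kernel) (by decide +kernel)

theorem f12225 : C.S (v3 C) [15, 38, 55, 77, 98, 114] :=
  C.stMul (f331 C) (f8433 C) _ (by decide +kernel)

theorem f12226 : C.S (v3 C) [8, 27, 64, 80, 97, 109, 113] :=
  C.stMul (f353 C) (f12225 C) _ (by decide +kernel)

theorem f12227 : C.S (v3 C) [10, 41, 49, 74, 98, 110, 117] :=
  C.stMul (f331 C) (f12226 C) _ (by decide +kernel)

theorem f12228 : C.T (v3 C) [9, 45, 60, 87, 98, 110, 114] (v18 C) [7, 29, 61, 70, 101, 121] :=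
  C.conv (f8216 C) (f8435 C) (f12227 C) _ [133, 158, 168, 173] _ (by decide +kernel) (by decide +kernel) (by decide +kernel)

theorem f12229 : C.T (v18 C) [7, 29, 61, 70, 101, 121] (v3 C) [9, 45, 60, 87, 98, 110, 114] :=
  C.flip (f12228 C)

theorem f12230 : C.T (v17 C) [8, 30, 65, 77, 106, 109] (v18 C) [23, 31, 66, 77, 105, 120] :=
  C.closeT (p := (v3 C)) (pu := [18, 37, 65, 81, 103, 110, 112])
    (C.pT (f12219 C)
    (C.pH [26, 38, 54, 89, 90, 113] [10, 32, 69, 70, 92, 121] (by decide +kernel)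
    (C.pT (f12224 C)
    (C.pH [8, 30, 65, 84, 94, 117] [8, 30, 65, 77, 106, 109] (by decide +kernel) (C.pNil _ _)))))
    (C.pH [26, 38, 54, 89, 90, 113] [7, 29, 61, 70, 101, 121] (by decide +kernel)
    (C.pT (f12229 C)
    (C.pH [8, 30, 65, 84, 94, 117] [18, 37, 65, 81, 103, 110, 112] (by decide +kernel) (C.pNil _ _))))
    (C.loop_of_one (relLoop2 C) _ _)

theorem f12231 : C.T (v18 C) [23, 31, 66, 77, 105, 120] (v17 C) [8, 30, 65, 77, 106, 109] :=
  C.flip (f12230 C)

theorem f12232 : C.T (v3 C) [17, 35, 69, 79, 106, 117] (v5 C) [43, 64, 82, 104, 109, 115] :=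
  C.conv (f1048 C) (f1093 C) (f1093 C) _ [143, 161, 175, 177] _ (by decide +kernel) (by decide +kernel) (by decide +kernel)

theorem f12233 : C.S (v5 C) [10, 27, 54, 88, 92, 110, 113] :=
  C.stMul (f1023 C) (f1023 C) _ (by decide +kernel)

theorem f12234 : C.S (v5 C) [11, 37, 62, 72, 90, 110, 124] :=
  C.stMul (f1023 C) (f12233 C) _ (by decide +kernel)

theorem f12235 : C.S (v5 C) [24, 38, 55, 75, 96, 109, 113] :=
  C.stMul (f986 C) (f12234 C) _ (by decide +kernel)

theorem f12236 : C.S (v5 C) [9, 38, 54, 89, 94, 116] :=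
  C.stMul (f1023 C) (f12235 C) _ (by decide +kernel)

theorem f12237 : C.T (v5 C) [26, 28, 64, 74, 98, 110, 115] (v17 C) [32, 63, 73, 94, 110, 120] :=
  C.conv (f6148 C) (f8614 C) (f12236 C) _ [138, 159, 165, 175, 178] _ (by decide +kernel) (by decide +kernel) (by decide +kernel)

theorem f12238 : C.S (v3 C) [22, 38, 52, 99, 110, 111] :=
  C.stMul (f353 C) (f10023 C) _ (by decide +kernel)

theorem f12239 : C.S (v3 C) [20, 37, 68, 71, 99, 120] :=
  C.stMul (f331 C) (f12238 C) _ (by decide +kernel)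

theorem f12240 : C.T (v3 C) [7, 45, 58, 75, 95, 125] (v18 C) [15, 42, 67, 86, 93, 110, 121] :=
  C.conv (f9432 C) (f9640 C) (f12239 C) _ [146, 157, 165, 174, 177] _ (by decide +kernel) (by decide +kernel) (by decide +kernel)

theorem f12241 : C.T (v18 C) [15, 42, 67, 86, 93, 110, 121] (v3 C) [7, 45, 58, 75, 95, 125] :=
  C.flip (f12240 C)

theorem f12242 : C.T (v17 C) [8, 33, 52, 84, 94, 109, 124] (v18 C) [20, 39, 61, 83, 100, 110, 123] :=
  C.closeT (p := (v3 C)) (pu := [17, 35, 69, 79, 106, 117])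
    (C.pT (f12232 C)
    (C.pH [26, 38, 54, 89, 90, 113] [26, 28, 64, 74, 98, 110, 115] (by decide +kernel)
    (C.pT (f12237 C)
    (C.pH [8, 30, 65, 84, 94, 117] [8, 33, 52, 84, 94, 109, 124] (by decide +kernel) (C.pNil _ _)))))
    (C.pH [26, 38, 54, 89, 90, 113] [15, 42, 67, 86, 93, 110, 121] (by decide +kernel)
    (C.pT (f12241 C)
    (C.pH [8, 30, 65, 84, 94, 117] [17, 35, 69, 79, 106, 117] (by decide +kernel) (C.pNil _ _))))
    (C.loop_of_one (relLoop2 C) _ _)

theorem f12243 : C.T (v18 C) [20, 39, 61, 83, 100, 110, 123] (v17 C) [8, 33, 52, 84, 94, 109, 124] :=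
  C.flip (f12242 C)

theorem f12244 : C.T (v3 C) [22, 47, 87, 101] (v5 C) [24, 43, 62, 74, 108, 109, 117] :=
  C.conv (f1048 C) (f1093 C) (f1093 C) _ [138, 153, 169, 173, 178] _ (by decide +kernel) (by decide +kernel) (by decide +kernel)

theorem f12245 : C.S (v5 C) [7, 29, 66, 74, 106, 124] :=
  C.stMul (f1141 C) (f986 C) _ (by decide +kernel)

theorem f12246 : C.S (v5 C) [10, 47, 68, 82, 95, 110] :=
  C.stMul (f986 C) (f12245 C) _ (by decide +kernel)

theorem f12247 : C.S (v5 C) [7, 39, 54, 82, 99, 110, 121] :=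
  C.stMul (f986 C) (f12246 C) _ (by decide +kernel)

theorem f12248 : C.S (v5 C) [9, 35, 57, 81, 104, 110, 114] :=
  C.stMul (f1141 C) (f12247 C) _ (by decide +kernel)

theorem f12249 : C.T (v5 C) [12, 35, 95, 110, 115] (v18 C) [4, 47, 55, 77, 96, 125] :=
  C.conv (f6946 C) (f986 C) (f12248 C) _ [139, 154, 164, 175, 178] _ (by decide +kernel) (by decide +kernel) (by decide +kernel)

theorem f12250 : C.S (v3 C) [10, 48, 60, 84, 100, 110, 123] :=
  C.stMul (f353 C) (f11534 C) _ (by decide +kernel)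

theorem f12251 : C.S (v3 C) [5, 60, 81, 94, 109, 125] :=
  C.stMul (f331 C) (f12250 C) _ (by decide +kernel)

theorem f12252 : C.T (v3 C) [17, 31, 51, 79, 95, 122] (v18 C) [21, 31, 59, 84, 93, 109] :=
  C.conv (f6916 C) (f7402 C) (f12251 C) _ [127, 150, 170, 172] _ (by decide +kernel) (by decide +kernel) (by decide +kernel)

theorem f12253 : C.T (v18 C) [21, 31, 59, 84, 93, 109] (v3 C) [17, 31, 51, 79, 95, 122] :=
  C.flip (f12252 C)

theorem f12254 : C.T (v18 C) [25, 36, 63, 80, 107, 110, 117] (v18 C) [10, 42, 58, 75, 116] :=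
  C.closeT (p := (v3 C)) (pu := [22, 47, 87, 101])
    (C.pT (f12244 C)
    (C.pH [26, 38, 54, 89, 90, 113] [12, 35, 95, 110, 115] (by decide +kernel)
    (C.pT (f12249 C)
    (C.pH [8, 30, 65, 84, 94, 117] [25, 36, 63, 80, 107, 110, 117] (by decide +kernel) (C.pNil _ _)))))
    (C.pH [26, 38, 54, 89, 90, 113] [21, 31, 59, 84, 93, 109] (by decide +kernel)
    (C.pT (f12253 C)
    (C.pH [8, 30, 65, 84, 94, 117] [22, 47, 87, 101] (by decide +kernel) (C.pNil _ _))))
    (C.loop_of_one (relLoop2 C) _ _)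

theorem f12257 : C.T (v3 C) [26, 83, 97, 110, 116] (v5 C) [20, 44, 56, 76, 99, 110, 122] :=
  C.conv (f1048 C) (f1093 C) (f1093 C) _ [147, 158, 167, 173, 178] _ (by decide +kernel) (by decide +kernel) (by decide +kernel)

theorem f12258 : C.S (v5 C) [13, 31, 66, 73, 100, 119] :=
  C.stMul (f986 C) (f1023 C) _ (by decide +kernel)

theorem f12259 : C.S (v5 C) [9, 33, 66, 75, 101, 109, 123] :=
  C.stMul (f986 C) (f1141 C) _ (by decide +kernel)

theorem f12260 : C.S (v5 C) [9, 39, 54, 88, 108, 110, 113] :=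
  C.stMul (f1008 C) (f12259 C) _ (by decide +kernel)

theorem f12261 : C.T (v5 C) [15, 30, 51, 86, 116] (v18 C) [19, 41, 53, 95, 119] :=
  C.conv (f11166 C) (f12258 C) (f12260 C) _ [143, 161, 164, 173, 178] _ (by decide +kernel) (by decide +kernel) (by decide +kernel)

theorem f12262 : C.S (v3 C) [6, 44, 60, 85, 94, 120] :=
  C.stMul (f328 C) (f9698 C) _ (by decide +kernel)

theorem f12263 : C.S (v3 C) [26, 41, 49, 77, 105, 123] :=
  C.stMul (f353 C) (f12262 C) _ (by decide +kernel)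

theorem f12264 : C.T (v3 C) [19, 30, 61, 88, 92, 122] (v18 C) [16, 45, 58, 94, 109, 124] :=
  C.conv (f9432 C) (f9640 C) (f12263 C) _ [145, 163, 166, 174, 178] _ (by decide +kernel) (by decide +kernel) (by decide +kernel)

theorem f12265 : C.T (v18 C) [16, 45, 58, 94, 109, 124] (v3 C) [19, 30, 61, 88, 92, 122] :=
  C.flip (f12264 C)

theorem f12266 : C.T (v18 C) [26, 46, 50, 78, 99, 109, 118] (v18 C) [26, 42, 56, 70, 103, 119] :=
  C.closeT (p := (v3 C)) (pu := [26, 83, 97, 110, 116])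
    (C.pT (f12257 C)
    (C.pH [26, 38, 54, 89, 90, 113] [15, 30, 51, 86, 116] (by decide +kernel)
    (C.pT (f12261 C)
    (C.pH [8, 30, 65, 84, 94, 117] [26, 46, 50, 78, 99, 109, 118] (by decide +kernel) (C.pNil _ _)))))
    (C.pH [26, 38, 54, 89, 90, 113] [16, 45, 58, 94, 109, 124] (by decide +kernel)
    (C.pT (f12265 C)
    (C.pH [8, 30, 65, 84, 94, 117] [26, 83, 97, 110, 116] (by decide +kernel) (C.pNil _ _))))
    (C.loop_of_one (relLoop2 C) _ _)

theorem f12269 : C.T (v3 C) [6, 39, 53, 74, 95, 110, 121] (v5 C) [17, 31, 81, 99, 117] :=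
  C.conv (f1048 C) (f1093 C) (f1093 C) _ [144, 154, 171, 177] _ (by decide +kernel) (by decide +kernel) (by decide +kernel)

theorem f12270 : C.S (v5 C) [10, 27, 54, 88, 92, 110, 113] :=
  C.stMul (f1023 C) (f1023 C) _ (by decide +kernel)

theorem f12271 : C.S (v5 C) [10, 27, 54, 70, 98, 109, 113] :=
  C.stMul (f1141 C) (f12270 C) _ (by decide +kernel)

theorem f12272 : C.S (v5 C) [11, 37, 62, 85, 116] :=
  C.stMul (f1023 C) (f12271 C) _ (by decide +kernel)

theorem f12273 : C.S (v5 C) [11, 29, 57, 82, 103, 110, 119] :=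
  C.stMul (f1141 C) (f12272 C) _ (by decide +kernel)

theorem f12274 : C.T (v5 C) [20, 27, 64, 80, 108, 110, 114] (v18 C) [6, 33, 49, 71, 105, 117] :=
  C.conv (f7155 C) (f9162 C) (f12273 C) _ [137, 155, 176, 177] _ (by decide +kernel) (by decide +kernel) (by decide +kernel)

theorem f12275 : C.S (v3 C) [23, 32, 60, 77, 103, 109, 115] :=
  C.stMul (f353 C) (f11461 C) _ (by decide +kernel)

theorem f12276 : C.S (v3 C) [21, 30, 64, 71, 99, 122] :=
  C.stMul (f335 C) (f12275 C) _ (by decide +kernel)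

theorem f12277 : C.T (v3 C) [22, 42, 68, 74, 109, 112] (v17 C) [18, 30, 53, 74, 100, 111] :=
  C.conv (f6269 C) (f7309 C) (f12276 C) _ [137, 157, 166, 173, 177] _ (by decide +kernel) (by decide +kernel) (by decide +kernel)

theorem f12278 : C.T (v17 C) [18, 30, 53, 74, 100, 111] (v3 C) [22, 42, 68, 74, 109, 112] :=
  C.flip (f12277 C)

theorem f12279 : C.T (v18 C) [13, 32, 69, 85, 96, 113] (v17 C) [25, 44, 63, 86, 108, 109, 116] :=
  C.closeT (p := (v3 C)) (pu := [6, 39, 53, 74, 95, 110, 121])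
    (C.pT (f12269 C)
    (C.pH [26, 38, 54, 89, 90, 113] [20, 27, 64, 80, 108, 110, 114] (by decide +kernel)
    (C.pT (f12274 C)
    (C.pH [8, 30, 65, 84, 94, 117] [13, 32, 69, 85, 96, 113] (by decide +kernel) (C.pNil _ _)))))
    (C.pH [26, 38, 54, 89, 90, 113] [18, 30, 53, 74, 100, 111] (by decide +kernel)
    (C.pT (f12278 C)
    (C.pH [8, 30, 65, 84, 94, 117] [6, 39, 53, 74, 95, 110, 121] (by decide +kernel) (C.pNil _ _))))
    (C.loop_of_one (relLoop2 C) _ _)

theorem f12280 : C.T (v17 C) [25, 44, 63, 86, 108, 109, 116] (v18 C) [13, 32, 69, 85, 96, 113] :=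
  C.flip (f12279 C)

theorem f12281 : C.T (v3 C) [4, 29, 65, 71, 91, 125] (v15 C) [14, 47, 60, 82, 95, 117] :=
  C.conv (f2902 C) (f2981 C) (f2981 C) _ [127, 152, 172] _ (by decide +kernel) (by decide +kernel) (by decide +kernel)

theorem f12282 : C.S (v15 C) [20, 39, 55, 88, 95, 110, 125] :=
  C.stMul (f2581 C) (f2565 C) _ (by decide +kernel)

theorem f12283 : C.T (v15 C) [5, 42, 55, 82, 95, 117] (v18 C) [23, 36, 64, 84, 94, 110, 118] :=
  C.conv (f11195 C) (f12282 C) (f2652 C) _ [132, 168, 175, 177] _ (by decide +kernel) (by decide +kernel) (by decide +kernel)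

theorem f12284 : C.S (v3 C) [23, 43, 66, 72, 98, 125] :=
  C.stMul (f353 C) (f10378 C) _ (by decide +kernel)

theorem f12285 : C.T (v3 C) [18, 47, 67, 73, 100, 109, 111] (v17 C) [15, 31, 67, 71, 106, 109, 122] :=
  C.conv (f6828 C) (f9427 C) (f12284 C) _ [138, 164] _ (by decide +kernel) (by decide +kernel) (by decide +kernel)

theorem f12286 : C.T (v17 C) [15, 31, 67, 71, 106, 109, 122] (v3 C) [18, 47, 67, 73, 100, 109, 111] :=
  C.flip (f12285 C)

theorem f12287 : C.T (v18 C) [10, 46, 56, 74, 105, 109, 115] (v17 C) [20, 31, 65, 80, 104, 110, 116] :=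
  C.closeT (p := (v3 C)) (pu := [4, 29, 65, 71, 91, 125])
    (C.pT (f12281 C)
    (C.pH [26, 38, 54, 89, 90, 113] [5, 42, 55, 82, 95, 117] (by decide +kernel)
    (C.pT (f12283 C)
    (C.pH [8, 30, 65, 84, 94, 117] [10, 46, 56, 74, 105, 109, 115] (by decide +kernel) (C.pNil _ _)))))
    (C.pH [26, 38, 54, 89, 90, 113] [15, 31, 67, 71, 106, 109, 122] (by decide +kernel)
    (C.pT (f12286 C)
    (C.pH [8, 30, 65, 84, 94, 117] [4, 29, 65, 71, 91, 125] (by decide +kernel) (C.pNil _ _))))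
    (C.loop_of_one (relLoop2 C) _ _)

theorem f12288 : C.T (v17 C) [20, 31, 65, 80, 104, 110, 116] (v18 C) [10, 46, 56, 74, 105, 109, 115] :=
  C.flip (f12287 C)

theorem f12289 : C.T (v3 C) [17, 29, 58, 82, 95, 109, 119] (v15 C) [23, 38, 59, 72, 98, 116] :=
  C.conv (f2902 C) (f2981 C) (f2981 C) _ [144, 158, 174] _ (by decide +kernel) (by decide +kernel) (by decide +kernel)

theorem f12290 : C.S (v15 C) [25, 47, 66, 86, 107, 124] :=
  C.stMul (f2569 C) (f2565 C) _ (by decide +kernel)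

theorem f12291 : C.T (v15 C) [7, 36, 64, 77, 94, 113] (v15 C) [17, 30, 65, 70, 110, 122] :=
  C.conv (f3143 C) (f3145 C) (f12290 C) _ [130, 156, 166, 176, 177] _ (by decide +kernel) (by decide +kernel) (by decide +kernel)

theorem f12292 : C.S (v3 C) [17, 30, 63, 83, 105, 110, 122] :=
  C.stMul (f353 C) (f9522 C) _ (by decide +kernel)

theorem f12293 : C.T (v3 C) [7, 38, 51, 82, 98, 110, 121] (v18 C) [9, 27, 49, 107, 109, 120] :=
  C.conv (f6888 C) (f7333 C) (f12292 C) _ [135, 154, 165, 175, 177] _ (by decide +kernel) (by decide +kernel) (by decide +kernel)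

theorem f12294 : C.T (v18 C) [9, 27, 49, 107, 109, 120] (v3 C) [7, 38, 51, 82, 98, 110, 121] :=
  C.flip (f12293 C)

theorem f12295 : C.T (v15 C) [22, 48, 61, 75, 103] (v18 C) [15, 42, 57, 76, 90, 109, 117] :=
  C.closeT (p := (v3 C)) (pu := [17, 29, 58, 82, 95, 109, 119])
    (C.pT (f12289 C)
    (C.pH [26, 38, 54, 89, 90, 113] [7, 36, 64, 77, 94, 113] (by decide +kernel)
    (C.pT (f12291 C)
    (C.pH [8, 30, 65, 84, 94, 117] [22, 48, 61, 75, 103] (by decide +kernel) (C.pNil _ _)))))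
    (C.pH [26, 38, 54, 89, 90, 113] [9, 27, 49, 107, 109, 120] (by decide +kernel)
    (C.pT (f12294 C)
    (C.pH [8, 30, 65, 84, 94, 117] [17, 29, 58, 82, 95, 109, 119] (by decide +kernel) (C.pNil _ _))))
    (C.loop_of_one (relLoop2 C) _ _)

theorem f12296 : C.T (v18 C) [15, 42, 57, 76, 90, 109, 117] (v15 C) [22, 48, 61, 75, 103] :=
  C.flip (f12295 C)

theorem f12297 : C.T (v3 C) [20, 37, 62, 71, 108, 122] (v15 C) [19, 46, 57, 84, 92, 110, 114] :=
  C.conv (f2902 C) (f2981 C) (f2981 C) _ [148, 162, 166, 172, 177] _ (by decide +kernel) (by decide +kernel) (by decide +kernel)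

theorem f12298 : C.S (v15 C) [20, 39, 55, 88, 95, 110, 125] :=
  C.stMul (f2581 C) (f2565 C) _ (by decide +kernel)

theorem f12299 : C.S (v15 C) [34, 69, 79, 92, 114] :=
  C.stMul (f2565 C) (f12298 C) _ (by decide +kernel)

theorem f12300 : C.T (v15 C) [17, 28, 56, 87, 106, 121] (v17 C) [8, 27, 68, 86, 94, 116] :=
  C.conv (f5772 C) (f12298 C) (f12299 C) _ [127, 168, 175] _ (by decide +kernel) (by decide +kernel) (by decide +kernel)

theorem f12301 : C.T (v3 C) [16, 34, 50, 87, 100, 110, 114] (v18 C) [24, 37, 68, 105, 109, 113] :=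
  C.conv (f9432 C) (f9640 C) (f12159 C) _ [140, 151, 165, 174, 178] _ (by decide +kernel) (by decide +kernel) (by decide +kernel)

theorem f12302 : C.T (v18 C) [24, 37, 68, 105, 109, 113] (v3 C) [16, 34, 50, 87, 100, 110, 114] :=
  C.flip (f12301 C)

theorem f12303 : C.T (v17 C) [37, 58, 80, 99, 109] (v18 C) [11, 38, 60, 89, 99, 110, 125] :=
  C.closeT (p := (v3 C)) (pu := [20, 37, 62, 71, 108, 122])
    (C.pT (f12297 C)
    (C.pH [26, 38, 54, 89, 90, 113] [17, 28, 56, 87, 106, 121] (by decide +kernel)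
    (C.pT (f12300 C)
    (C.pH [8, 30, 65, 84, 94, 117] [37, 58, 80, 99, 109] (by decide +kernel) (C.pNil _ _)))))
    (C.pH [26, 38, 54, 89, 90, 113] [24, 37, 68, 105, 109, 113] (by decide +kernel)
    (C.pT (f12302 C)
    (C.pH [8, 30, 65, 84, 94, 117] [20, 37, 62, 71, 108, 122] (by decide +kernel) (C.pNil _ _))))
    (C.loop_of_one (relLoop2 C) _ _)

theorem f12304 : C.T (v18 C) [11, 38, 60, 89, 99, 110, 125] (v17 C) [37, 58, 80, 99, 109] :=
  C.flip (f12303 C)

theorem f12305 : C.T (v3 C) [18, 38, 62, 95, 109] (v15 C) [16, 35, 59, 72, 108, 110, 113] :=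
  C.conv (f2902 C) (f2981 C) (f2981 C) _ [137, 164, 176, 177] _ (by decide +kernel) (by decide +kernel) (by decide +kernel)

theorem f12306 : C.T (v15 C) [13, 40, 68, 83, 90, 109, 119] (v17 C) [40, 55, 105, 109, 112] :=
  C.conv (f6225 C) (f2581 C) (f2569 C) _ [127, 150, 165, 176] _ (by decide +kernel) (by decide +kernel) (by decide +kernel)

theorem f12307 : C.T (v3 C) [9, 47, 68, 89, 90, 122] (v18 C) [20, 27, 49, 82, 102, 109, 122] :=
  C.conv (f6902 C) (f7285 C) (f11006 C) _ [132, 152, 164, 173, 177] _ (by decide +kernel) (by decide +kernel) (by decide +kernel)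

theorem f12308 : C.T (v18 C) [20, 27, 49, 82, 102, 109, 122] (v3 C) [9, 47, 68, 89, 90, 122] :=
  C.flip (f12307 C)

theorem f12309 : C.T (v17 C) [8, 39, 64, 81, 107, 109, 115] (v18 C) [17, 31, 68, 72, 95, 109, 122] :=
  C.closeT (p := (v3 C)) (pu := [18, 38, 62, 95, 109])
    (C.pT (f12305 C)
    (C.pH [26, 38, 54, 89, 90, 113] [13, 40, 68, 83, 90, 109, 119] (by decide +kernel)
    (C.pT (f12306 C)
    (C.pH [8, 30, 65, 84, 94, 117] [8, 39, 64, 81, 107, 109, 115] (by decide +kernel) (C.pNil _ _)))))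
    (C.pH [26, 38, 54, 89, 90, 113] [20, 27, 49, 82, 102, 109, 122] (by decide +kernel)
    (C.pT (f12308 C)
    (C.pH [8, 30, 65, 84, 94, 117] [18, 38, 62, 95, 109] (by decide +kernel) (C.pNil _ _))))
    (C.loop_of_one (relLoop2 C) _ _)

theorem f12310 : C.T (v18 C) [17, 31, 68, 72, 95, 109, 122] (v17 C) [8, 39, 64, 81, 107, 109, 115] :=
  C.flip (f12309 C)

theorem f12311 : C.T (v3 C) [8, 47, 52, 75, 103, 116] (v15 C) [12, 45, 60, 83, 101, 120] :=
  C.conv (f2902 C) (f2981 C) (f2981 C) _ [129, 167, 175] _ (by decide +kernel) (by decide +kernel) (by decide +kernel)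

theorem f12312 : C.S (v15 C) [31, 53, 71, 96, 116] :=
  C.stMul (f2569 C) (f2569 C) _ (by decide +kernel)

theorem f12313 : C.S (v15 C) [20, 45, 65, 78, 96, 109, 125] :=
  C.stMul (f2565 C) (f2581 C) _ (by decide +kernel)

theorem f12314 : C.T (v15 C) [14, 35, 60, 70, 91, 109] (v9 C) [25, 28, 62, 78, 99] :=
  C.conv (f3039 C) (f12312 C) (f12313 C) _ [127, 160, 169, 177] _ (by decide +kernel) (by decide +kernel) (by decide +kernel)

theorem f12315 : C.S (v3 C) [10, 28, 62, 78, 98, 110, 120] :=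
  C.stMul (f328 C) (f335 C) _ (by decide +kernel)

theorem f12316 : C.S (v3 C) [11, 40, 64, 79, 95, 109, 116] :=
  C.stMul (f335 C) (f12315 C) _ (by decide +kernel)

theorem f12317 : C.S (v3 C) [9, 68, 77, 104, 110, 122] :=
  C.stMul (f335 C) (f12316 C) _ (by decide +kernel)

theorem f12318 : C.T (v3 C) [38, 49, 72, 92, 110, 121] (v18 C) [5, 27, 54, 82, 106, 110, 116] :=
  C.conv (f6888 C) (f7333 C) (f12317 C) _ [130, 153, 170, 174, 178] _ (by decide +kernel) (by decide +kernel) (by decide +kernel)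

theorem f12319 : C.T (v18 C) [5, 27, 54, 82, 106, 110, 116] (v3 C) [38, 49, 72, 92, 110, 121] :=
  C.flip (f12318 C)

theorem f12320 : C.T (v9 C) [9, 67, 89, 98, 115] (v18 C) [14, 37, 50, 78, 108, 109, 122] :=
  C.closeT (p := (v3 C)) (pu := [8, 47, 52, 75, 103, 116])
    (C.pT (f12311 C)
    (C.pH [26, 38, 54, 89, 90, 113] [14, 35, 60, 70, 91, 109] (by decide +kernel)
    (C.pT (f12314 C)
    (C.pH [8, 30, 65, 84, 94, 117] [9, 67, 89, 98, 115] (by decide +kernel) (C.pNil _ _)))))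
    (C.pH [26, 38, 54, 89, 90, 113] [5, 27, 54, 82, 106, 110, 116] (by decide +kernel)
    (C.pT (f12319 C)
    (C.pH [8, 30, 65, 84, 94, 117] [8, 47, 52, 75, 103, 116] (by decide +kernel) (C.pNil _ _))))
    (C.loop_of_one (relLoop2 C) _ _)

theorem f12321 : C.T (v18 C) [14, 37, 50, 78, 108, 109, 122] (v9 C) [9, 67, 89, 98, 115] :=
  C.flip (f12320 C)

theorem f12322 : C.T (v3 C) [23, 45, 66, 89, 105, 120] (v15 C) [14, 30, 56, 76, 102, 112] :=
  C.conv (f2902 C) (f2981 C) (f2981 C) _ [138, 162, 164, 177] _ (by decide +kernel) (by decide +kernel) (by decide +kernel)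

theorem f12323 : C.S (v15 C) [25, 46, 61, 102, 110, 119] :=
  C.stMul (f2565 C) (f2569 C) _ (by decide +kernel)

theorem f12324 : C.T (v15 C) [5, 35, 67, 71, 107, 118] (v18 C) [21, 63, 81, 102, 110, 123] :=
  C.conv (f7637 C) (f7737 C) (f12323 C) _ [147, 150, 165, 173, 177] _ (by decide +kernel) (by decide +kernel) (by decide +kernel)

theorem f12325 : C.S (v3 C) [15, 38, 55, 77, 98, 114] :=
  C.stMul (f331 C) (f10101 C) _ (by decide +kernel)

theorem f12326 : C.S (v3 C) [15, 41, 51, 77, 100, 110, 113] :=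
  C.stMul (f328 C) (f12325 C) _ (by decide +kernel)

theorem f12327 : C.S (v3 C) [8, 38, 72, 99, 119] :=
  C.stMul (f353 C) (f12326 C) _ (by decide +kernel)

theorem f12328 : C.T (v3 C) [20, 34, 57, 75, 99, 110, 120] (v15 C) [9, 45, 52, 83, 92, 109, 113] :=
  C.conv (f3166 C) (f3236 C) (f12327 C) _ [140, 157, 168, 174, 177] _ (by decide +kernel) (by decide +kernel) (by decide +kernel)

theorem f12329 : C.T (v15 C) [9, 45, 52, 83, 92, 109, 113] (v3 C) [20, 34, 57, 75, 99, 110, 120] :=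
  C.flip (f12328 C)

theorem f12330 : C.T (v18 C) [24, 32, 50, 88, 92, 110, 113] (v15 C) [15, 35, 63, 78, 117] :=
  C.closeT (p := (v3 C)) (pu := [23, 45, 66, 89, 105, 120])
    (C.pT (f12322 C)
    (C.pH [26, 38, 54, 89, 90, 113] [5, 35, 67, 71, 107, 118] (by decide +kernel)
    (C.pT (f12324 C)
    (C.pH [8, 30, 65, 84, 94, 117] [24, 32, 50, 88, 92, 110, 113] (by decide +kernel) (C.pNil _ _)))))
    (C.pH [26, 38, 54, 89, 90, 113] [9, 45, 52, 83, 92, 109, 113] (by decide +kernel)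
    (C.pT (f12329 C)
    (C.pH [8, 30, 65, 84, 94, 117] [23, 45, 66, 89, 105, 120] (by decide +kernel) (C.pNil _ _))))
    (C.loop_of_one (relLoop2 C) _ _)

theorem f12331 : C.T (v15 C) [15, 35, 63, 78, 117] (v18 C) [24, 32, 50, 88, 92, 110, 113] :=
  C.flip (f12330 C)

theorem f12332 : C.T (v3 C) [9, 34, 53, 78, 100, 109, 117] (v15 C) [18, 38, 65, 79, 96, 125] :=
  C.conv (f2902 C) (f2981 C) (f2981 C) _ [129, 159, 167, 172, 178] _ (by decide +kernel) (by decide +kernel) (by decide +kernel)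

theorem f12333 : C.S (v3 C) [7, 39, 56, 89, 103, 119] :=
  C.stMul (f331 C) (f9388 C) _ (by decide +kernel)

theorem f12334 : C.S (v3 C) [12, 34, 51, 89, 101, 111] :=
  C.stMul (f331 C) (f12333 C) _ (by decide +kernel)

theorem f12335 : C.S (v3 C) [23, 31, 52, 82, 100, 112] :=
  C.stMul (f353 C) (f12334 C) _ (by decide +kernel)

theorem f12336 : C.S (v3 C) [7, 32, 55, 86, 103, 110, 119] :=
  C.stMul (f331 C) (f12335 C) _ (by decide +kernel)

theorem f12337 : C.T (v3 C) [25, 30, 67, 70, 94, 109, 123] (v18 C) [23, 37, 61, 85, 97, 125] :=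
  C.conv (f9184 C) (f9232 C) (f12336 C) _ [129, 151, 168, 173, 177] _ (by decide +kernel) (by decide +kernel) (by decide +kernel)

theorem f12338 : C.T (v18 C) [23, 37, 61, 85, 97, 125] (v3 C) [25, 30, 67, 70, 94, 109, 123] :=
  C.flip (f12337 C)

theorem f12339 : C.T (v18 C) [13, 35, 50, 81, 96, 110, 121] (v18 C) [4, 30, 51, 84, 98, 120] :=
  C.conv (f10006 C) (f6836 C) (f6836 C) _ [144, 150, 172, 177] _ (by decide +kernel) (by decide +kernel) (by decide +kernel)

theorem f12340 : C.T (v18 C) [4, 30, 51, 84, 98, 120] (v18 C) [13, 35, 50, 81, 96, 110, 121] :=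
  C.flip (f12339 C)

theorem f12341 : C.T (v15 C) [10, 41, 61, 106, 116] (v18 C) [18, 33, 68, 85, 99, 109, 123] :=
  C.closeT (p := (v3 C)) (pu := [9, 34, 53, 78, 100, 109, 117])
    (C.pT (f12332 C)
    (C.pH [26, 38, 54, 89, 90, 113] [10, 41, 61, 106, 116] (by decide +kernel) (C.pNil _ _)))
    (C.pH [8, 30, 65, 84, 94, 117] [4, 30, 51, 84, 98, 120] (by decide +kernel)
    (C.pT (f12340 C)
    (C.pH [26, 38, 54, 89, 90, 113] [23, 37, 61, 85, 97, 125] (by decide +kernel)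
    (C.pT (f12338 C)
    (C.pH [8, 30, 65, 84, 94, 117] [9, 34, 53, 78, 100, 109, 117] (by decide +kernel) (C.pNil _ _))))))
    (C.loop_of_one (relLoop2 C) _ _)

theorem f12342 : C.T (v18 C) [18, 33, 68, 85, 99, 109, 123] (v15 C) [10, 41, 61, 106, 116] :=
  C.flip (f12341 C)

theorem f12343 : C.T (v3 C) [21, 48, 62, 84, 100, 110, 113] (v15 C) [4, 45, 53, 79, 99, 110, 125] :=
  C.conv (f3166 C) (f3236 C) (f3236 C) _ [138, 162, 165, 173, 177] _ (by decide +kernel) (by decide +kernel) (by decide +kernel)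

theorem f12344 : C.S (v15 C) [25, 46, 61, 102, 110, 119] :=
  C.stMul (f2565 C) (f2569 C) _ (by decide +kernel)

theorem f12345 : C.S (v15 C) [25, 39, 65, 80, 99, 110, 113] :=
  C.stMul (f2581 C) (f12344 C) _ (by decide +kernel)

theorem f12346 : C.S (v15 C) [25, 47, 66, 86, 107, 124] :=
  C.stMul (f2569 C) (f2565 C) _ (by decide +kernel)

theorem f12347 : C.S (v15 C) [24, 44, 51, 82, 106, 110, 112] :=
  C.stMul (f2565 C) (f12346 C) _ (by decide +kernel)

theorem f12348 : C.T (v15 C) [25, 35, 63, 79, 96, 109, 113] (v18 C) [25, 57, 82, 96, 118] :=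
  C.conv (f12119 C) (f12345 C) (f12347 C) _ [139, 163, 171] _ (by decide +kernel) (by decide +kernel) (by decide +kernel)

theorem f12349 : C.S (v3 C) [9, 38, 62, 72, 93, 110, 122] :=
  C.stMul (f335 C) (f11526 C) _ (by decide +kernel)

theorem f12350 : C.S (v3 C) [15, 35, 62, 79, 104, 110, 120] :=
  C.stMul (f331 C) (f12349 C) _ (by decide +kernel)

theorem f12351 : C.T (v3 C) [12, 41, 50, 71, 94, 110, 123] (v18 C) [7, 28, 63, 77, 98, 110] :=
  C.conv (f7327 C) (f7806 C) (f12350 C) _ [126, 160, 176, 178] _ (by decide +kernel) (by decide +kernel) (by decide +kernel)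

theorem f12352 : C.T (v18 C) [7, 28, 63, 77, 98, 110] (v3 C) [12, 41, 50, 71, 94, 110, 123] :=
  C.flip (f12351 C)

theorem f12353 : C.T (v18 C) [9, 47, 65, 75, 96, 110, 117] (v18 C) [23, 42, 61, 80, 95, 115] :=
  C.closeT (p := (v3 C)) (pu := [21, 48, 62, 84, 100, 110, 113])
    (C.pT (f12343 C)
    (C.pH [26, 38, 54, 89, 90, 113] [25, 35, 63, 79, 96, 109, 113] (by decide +kernel)
    (C.pT (f12348 C)
    (C.pH [8, 30, 65, 84, 94, 117] [9, 47, 65, 75, 96, 110, 117] (by decide +kernel) (C.pNil _ _)))))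
    (C.pH [26, 38, 54, 89, 90, 113] [7, 28, 63, 77, 98, 110] (by decide +kernel)
    (C.pT (f12352 C)
    (C.pH [8, 30, 65, 84, 94, 117] [21, 48, 62, 84, 100, 110, 113] (by decide +kernel) (C.pNil _ _))))
    (C.loop_of_one (relLoop2 C) _ _)

theorem f12354 : C.T (v18 C) [23, 42, 61, 80, 95, 115] (v18 C) [9, 47, 65, 75, 96, 110, 117] :=
  C.flip (f12353 C)

theorem f12355 : C.T (v3 C) [25, 37, 77, 95, 110, 120] (v15 C) [6, 31, 56, 74, 97, 110, 125] :=
  C.conv (f3166 C) (f3236 C) (f3236 C) _ [145, 154, 169, 175] _ (by decide +kernel) (by decide +kernel) (by decide +kernel)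

theorem f12356 : C.S (v3 C) [23, 36, 66, 83, 90, 109, 121] :=
  C.stMul (f331 C) (f11492 C) _ (by decide +kernel)

theorem f12357 : C.S (v3 C) [23, 34, 61, 84, 123] :=
  C.stMul (f328 C) (f12356 C) _ (by decide +kernel)

theorem f12358 : C.T (v3 C) [4, 39, 53, 72, 108, 109, 125] (v18 C) [10, 28, 56, 79, 92, 109, 121] :=
  C.conv (f6888 C) (f7333 C) (f12357 C) _ [126, 162, 170, 176, 178] _ (by decide +kernel) (by decide +kernel) (by decide +kernel)

theorem f12359 : C.T (v18 C) [10, 28, 56, 79, 92, 109, 121] (v3 C) [4, 39, 53, 72, 108, 109, 125] :=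
  C.flip (f12358 C)

theorem f12360 : C.T (v18 C) [18, 47, 56, 81, 100, 118] (v18 C) [10, 27, 53, 74, 104, 110, 119] :=
  C.conv (f8533 C) (f6836 C) (f10618 C) _ [134, 150, 166, 174] _ (by decide +kernel) (by decide +kernel) (by decide +kernel)

theorem f12361 : C.T (v18 C) [10, 27, 53, 74, 104, 110, 119] (v18 C) [18, 47, 56, 81, 100, 118] :=
  C.flip (f12360 C)

theorem f12362 : C.T (v15 C) [4, 47, 57, 77, 105, 109] (v18 C) [23, 45, 60, 84, 102, 110, 120] :=
  C.closeT (p := (v3 C)) (pu := [25, 37, 77, 95, 110, 120])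
    (C.pT (f12355 C)
    (C.pH [26, 38, 54, 89, 90, 113] [4, 47, 57, 77, 105, 109] (by decide +kernel) (C.pNil _ _)))
    (C.pH [8, 30, 65, 84, 94, 117] [10, 27, 53, 74, 104, 110, 119] (by decide +kernel)
    (C.pT (f12361 C)
    (C.pH [26, 38, 54, 89, 90, 113] [10, 28, 56, 79, 92, 109, 121] (by decide +kernel)
    (C.pT (f12359 C)
    (C.pH [8, 30, 65, 84, 94, 117] [25, 37, 77, 95, 110, 120] (by decide +kernel) (C.pNil _ _))))))
    (C.loop_of_one (relLoop2 C) _ _)

theorem f12363 : C.T (v18 C) [23, 45, 60, 84, 102, 110, 120] (v15 C) [4, 47, 57, 77, 105, 109] :=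
  C.flip (f12362 C)

theorem f12364 : C.T (v3 C) [12, 30, 51, 84, 99, 109, 119] (v15 C) [18, 27, 54, 71, 102, 120] :=
  C.conv (f3166 C) (f3236 C) (f3236 C) _ [126, 156, 165, 176] _ (by decide +kernel) (by decide +kernel) (by decide +kernel)

theorem f12365 : C.S (v15 C) [31, 53, 71, 96, 116] :=
  C.stMul (f2569 C) (f2569 C) _ (by decide +kernel)

theorem f12366 : C.S (v15 C) [20, 39, 55, 88, 95, 110, 125] :=
  C.stMul (f2581 C) (f2565 C) _ (by decide +kernel)

theorem f12367 : C.T (v15 C) [10, 27, 61, 76, 95, 123] (v18 C) [21, 31, 65, 71, 103, 110, 123] :=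
  C.conv (f8772 C) (f12365 C) (f12366 C) _ [132, 160, 168, 171, 178] _ (by decide +kernel) (by decide +kernel) (by decide +kernel)

theorem f12368 : C.S (v3 C) [10, 28, 62, 78, 98, 110, 120] :=
  C.stMul (f328 C) (f335 C) _ (by decide +kernel)

theorem f12369 : C.S (v3 C) [5, 30, 57, 77, 122] :=
  C.stMul (f331 C) (f12368 C) _ (by decide +kernel)

theorem f12370 : C.S (v3 C) [19, 35, 61, 76, 100] :=
  C.stMul (f353 C) (f12369 C) _ (by decide +kernel)

theorem f12371 : C.T (v3 C) [5, 38, 67, 76, 94, 110, 111] (v18 C) [25, 36, 53, 85, 107, 110, 115] :=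
  C.conv (f9432 C) (f9640 C) (f12370 C) _ [138, 153, 166, 172, 177] _ (by decide +kernel) (by decide +kernel) (by decide +kernel)

theorem f12372 : C.T (v18 C) [25, 36, 53, 85, 107, 110, 115] (v3 C) [5, 38, 67, 76, 94, 110, 111] :=
  C.flip (f12371 C)

theorem f12373 : C.T (v18 C) [24, 34, 63, 88, 98, 124] (v18 C) [4, 44, 58, 85, 99, 116] :=
  C.closeT (p := (v3 C)) (pu := [12, 30, 51, 84, 99, 109, 119])
    (C.pT (f12364 C)
    (C.pH [26, 38, 54, 89, 90, 113] [10, 27, 61, 76, 95, 123] (by decide +kernel)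
    (C.pT (f12367 C)
    (C.pH [8, 30, 65, 84, 94, 117] [24, 34, 63, 88, 98, 124] (by decide +kernel) (C.pNil _ _)))))
    (C.pH [26, 38, 54, 89, 90, 113] [25, 36, 53, 85, 107, 110, 115] (by decide +kernel)
    (C.pT (f12372 C)
    (C.pH [8, 30, 65, 84, 94, 117] [12, 30, 51, 84, 99, 109, 119] (by decide +kernel) (C.pNil _ _))))
    (C.loop_of_one (relLoop2 C) _ _)

theorem f12374 : C.T (v18 C) [4, 44, 58, 85, 99, 116] (v18 C) [24, 34, 63, 88, 98, 124] :=
  C.flip (f12373 C)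

theorem f12375 : C.T (v3 C) [19, 38, 59, 86, 101, 111] (v15 C) [17, 36, 61, 72, 105, 115] :=
  C.conv (f3166 C) (f3236 C) (f3236 C) _ [147, 162, 175, 178] _ (by decide +kernel) (by decide +kernel) (by decide +kernel)

theorem f12376 : C.S (v15 C) [24, 34, 69, 71, 96, 109] :=
  C.stMul (f2581 C) (f6243 C) _ (by decide +kernel)

theorem f12377 : C.T (v15 C) [20, 40, 62, 86, 91, 110, 111] (v16 C) [20, 27, 52, 89, 93, 111] :=
  C.conv (f4021 C) (f6243 C) (f12376 C) _ [137, 158, 172] _ (by decide +kernel) (by decide +kernel) (by decide +kernel)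

theorem f12378 : C.S (v3 C) [16, 36, 62, 79, 96, 109, 125] :=
  C.stMul (f353 C) (f9398 C) _ (by decide +kernel)

theorem f12379 : C.S (v3 C) [25, 39, 51, 72, 98, 110, 117] :=
  C.stMul (f331 C) (f12378 C) _ (by decide +kernel)

theorem f12380 : C.T (v3 C) [15, 28, 63, 80, 100, 110, 111] (v18 C) [20, 40, 66, 86, 104, 122] :=
  C.conv (f9184 C) (f9232 C) (f12379 C) _ [144, 162, 170, 174] _ (by decide +kernel) (by decide +kernel) (by decide +kernel)

theorem f12381 : C.T (v18 C) [20, 40, 66, 86, 104, 122] (v3 C) [15, 28, 63, 80, 100, 110, 111] :=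
  C.flip (f12380 C)

theorem f12382 : C.T (v16 C) [23, 29, 50, 82, 98, 118] (v18 C) [17, 36, 50, 74, 108, 125] :=
  C.closeT (p := (v3 C)) (pu := [19, 38, 59, 86, 101, 111])
    (C.pT (f12375 C)
    (C.pH [26, 38, 54, 89, 90, 113] [20, 40, 62, 86, 91, 110, 111] (by decide +kernel)
    (C.pT (f12377 C)
    (C.pH [8, 30, 65, 84, 94, 117] [23, 29, 50, 82, 98, 118] (by decide +kernel) (C.pNil _ _)))))
    (C.pH [26, 38, 54, 89, 90, 113] [20, 40, 66, 86, 104, 122] (by decide +kernel)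
    (C.pT (f12381 C)
    (C.pH [8, 30, 65, 84, 94, 117] [19, 38, 59, 86, 101, 111] (by decide +kernel) (C.pNil _ _))))
    (C.loop_of_one (relLoop2 C) _ _)

theorem f12383 : C.T (v18 C) [17, 36, 50, 74, 108, 125] (v16 C) [23, 29, 50, 82, 98, 118] :=
  C.flip (f12382 C)

theorem f12384 : C.T (v3 C) [5, 45, 64, 70, 96, 110, 122] (v15 C) [8, 29, 60, 84, 103, 118] :=
  C.conv (f3166 C) (f3236 C) (f3236 C) _ [126, 160, 169, 174, 178] _ (by decide +kernel) (by decide +kernel) (by decide +kernel)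

theorem f12385 : C.S (v15 C) [25, 46, 61, 102, 110, 119] :=
  C.stMul (f2565 C) (f2569 C) _ (by decide +kernel)

theorem f12386 : C.S (v15 C) [25, 39, 65, 80, 99, 110, 113] :=
  C.stMul (f2581 C) (f12385 C) _ (by decide +kernel)

theorem f12387 : C.T (v15 C) [11, 47, 67, 74, 99, 110, 111] (v18 C) [4, 40, 67, 70, 98, 121] :=
  C.conv (f10976 C) (f12385 C) (f12386 C) _ [129, 154, 170, 171] _ (by decide +kernel) (by decide +kernel) (by decide +kernel)

theorem f12388 : C.T (v3 C) [14, 48, 52, 86, 95, 110, 122] (v18 C) [15, 30, 62, 78, 108, 112] :=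
  C.conv (f9221 C) (f9279 C) (f9278 C) _ [133, 158, 166, 172, 177] _ (by decide +kernel) (by decide +kernel) (by decide +kernel)

theorem f12389 : C.T (v18 C) [15, 30, 62, 78, 108, 112] (v3 C) [14, 48, 52, 86, 95, 110, 122] :=
  C.flip (f12388 C)

theorem f12390 : C.T (v18 C) [25, 29, 63, 82, 96] (v18 C) [20, 44, 52, 79, 98, 122] :=
  C.closeT (p := (v3 C)) (pu := [5, 45, 64, 70, 96, 110, 122])
    (C.pT (f12384 C)
    (C.pH [26, 38, 54, 89, 90, 113] [11, 47, 67, 74, 99, 110, 111] (by decide +kernel)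
    (C.pT (f12387 C)
    (C.pH [8, 30, 65, 84, 94, 117] [25, 29, 63, 82, 96] (by decide +kernel) (C.pNil _ _)))))
    (C.pH [26, 38, 54, 89, 90, 113] [15, 30, 62, 78, 108, 112] (by decide +kernel)
    (C.pT (f12389 C)
    (C.pH [8, 30, 65, 84, 94, 117] [5, 45, 64, 70, 96, 110, 122] (by decide +kernel) (C.pNil _ _))))
    (C.loop_of_one (relLoop2 C) _ _)

theorem f12391 : C.T (v18 C) [20, 44, 52, 79, 98, 122] (v18 C) [25, 29, 63, 82, 96] :=
  C.flip (f12390 C)

theorem f12392 : C.T (v3 C) [7, 47, 54, 83, 101, 110, 115] (v15 C) [20, 31, 59, 88, 106, 110, 125] :=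
  C.conv (f3166 C) (f3236 C) (f3236 C) _ [136, 164, 171] _ (by decide +kernel) (by decide +kernel) (by decide +kernel)

theorem f12393 : C.S (v15 C) [24, 44, 51, 82, 106, 110, 112] :=
  C.stMul (f2565 C) (f10511 C) _ (by decide +kernel)

theorem f12394 : C.T (v15 C) [15, 31, 64, 77, 101, 123] (v16 C) [25, 39, 67, 88, 104, 113] :=
  C.conv (f4064 C) (f10510 C) (f12393 C) _ [139, 151, 169, 171, 178] _ (by decide +kernel) (by decide +kernel) (by decide +kernel)

theorem f12395 : C.S (v3 C) [17, 29, 57, 75, 100, 122] :=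
  C.stMul (f353 C) (f9272 C) _ (by decide +kernel)

theorem f12396 : C.T (v3 C) [11, 37, 60, 71, 91, 109, 116] (v18 C) [6, 34, 53, 77, 102, 109, 124] :=
  C.conv (f8216 C) (f8435 C) (f12395 C) _ [143, 160, 164, 173, 178] _ (by decide +kernel) (by decide +kernel) (by decide +kernel)

theorem f12397 : C.T (v18 C) [6, 34, 53, 77, 102, 109, 124] (v3 C) [11, 37, 60, 71, 91, 109, 116] :=
  C.flip (f12396 C)

theorem f12398 : C.T (v16 C) [9, 35, 56, 72, 98, 109, 122] (v18 C) [21, 56, 75, 103, 110, 112] :=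
  C.closeT (p := (v3 C)) (pu := [7, 47, 54, 83, 101, 110, 115])
    (C.pT (f12392 C)
    (C.pH [26, 38, 54, 89, 90, 113] [15, 31, 64, 77, 101, 123] (by decide +kernel)
    (C.pT (f12394 C)
    (C.pH [8, 30, 65, 84, 94, 117] [9, 35, 56, 72, 98, 109, 122] (by decide +kernel) (C.pNil _ _)))))
    (C.pH [26, 38, 54, 89, 90, 113] [6, 34, 53, 77, 102, 109, 124] (by decide +kernel)
    (C.pT (f12397 C)
    (C.pH [8, 30, 65, 84, 94, 117] [7, 47, 54, 83, 101, 110, 115] (by decide +kernel) (C.pNil _ _))))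
    (C.loop_of_one (relLoop2 C) _ _)

theorem f12399 : C.T (v18 C) [21, 56, 75, 103, 110, 112] (v16 C) [9, 35, 56, 72, 98, 109, 122] :=
  C.flip (f12398 C)

theorem f12400 : C.T (v3 C) [14, 34, 65, 81, 91, 109, 121] (v15 C) [16, 36, 62, 78, 91, 121] :=
  C.conv (f3166 C) (f3236 C) (f3236 C) _ [158, 166, 173, 178] _ (by decide +kernel) (by decide +kernel) (by decide +kernel)

theorem f12401 : C.T (v15 C) [13, 36, 68, 73, 118] (v17 C) [25, 27, 56, 89, 96, 117] :=
  C.conv (f5494 C) (f5599 C) (f5601 C) _ [144, 152, 167, 177] _ (by decide +kernel) (by decide +kernel) (by decide +kernel)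

theorem f12402 : C.S (v3 C) [13, 45, 62, 78, 97, 110, 120] :=
  C.stMul (f328 C) (f9200 C) _ (by decide +kernel)

theorem f12403 : C.S (v3 C) [34, 56, 82, 103, 109, 119] :=
  C.stMul (f353 C) (f12402 C) _ (by decide +kernel)

theorem f12404 : C.S (v3 C) [22, 45, 66, 87, 94, 122] :=
  C.stMul (f331 C) (f12403 C) _ (by decide +kernel)

theorem f12405 : C.T (v3 C) [26, 57, 80, 92, 110, 115] (v18 C) [26, 28, 80, 91, 109, 119] :=
  C.conv (f6916 C) (f7402 C) (f12404 C) _ [129, 161, 167, 174, 178] _ (by decide +kernel) (by decide +kernel) (by decide +kernel)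

theorem f12406 : C.T (v18 C) [26, 28, 80, 91, 109, 119] (v3 C) [26, 57, 80, 92, 110, 115] :=
  C.flip (f12405 C)

theorem f12407 : C.T (v17 C) [9, 38, 61, 76, 108, 119] (v18 C) [43, 61, 86, 100, 109, 112] :=
  C.closeT (p := (v3 C)) (pu := [14, 34, 65, 81, 91, 109, 121])
    (C.pT (f12400 C)
    (C.pH [26, 38, 54, 89, 90, 113] [13, 36, 68, 73, 118] (by decide +kernel)
    (C.pT (f12401 C)
    (C.pH [8, 30, 65, 84, 94, 117] [9, 38, 61, 76, 108, 119] (by decide +kernel) (C.pNil _ _)))))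
    (C.pH [26, 38, 54, 89, 90, 113] [26, 28, 80, 91, 109, 119] (by decide +kernel)
    (C.pT (f12406 C)
    (C.pH [8, 30, 65, 84, 94, 117] [14, 34, 65, 81, 91, 109, 121] (by decide +kernel) (C.pNil _ _))))
    (C.loop_of_one (relLoop2 C) _ _)

theorem f12408 : C.T (v18 C) [43, 61, 86, 100, 109, 112] (v17 C) [9, 38, 61, 76, 108, 119] :=
  C.flip (f12407 C)

theorem f12409 : C.T (v3 C) [20, 30, 64, 72, 106, 120] (v15 C) [7, 36, 66, 78, 109, 116] :=
  C.conv (f3166 C) (f3236 C) (f3236 C) _ [138, 149, 166, 176, 177] _ (by decide +kernel) (by decide +kernel) (by decide +kernel)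

theorem f12410 : C.S (v15 C) [20, 39, 55, 88, 95, 110, 125] :=
  C.stMul (f2581 C) (f2565 C) _ (by decide +kernel)

theorem f12411 : C.S (v15 C) [34, 69, 79, 92, 114] :=
  C.stMul (f2565 C) (f12410 C) _ (by decide +kernel)

theorem f12412 : C.T (v15 C) [32, 63, 85, 100, 111] (v18 C) [8, 45, 81, 102, 110, 111] :=
  C.conv (f10474 C) (f2565 C) (f12411 C) _ [130, 168] _ (by decide +kernel) (by decide +kernel) (by decide +kernel)

theorem f12413 : C.S (v3 C) [13, 29, 60, 92, 109, 121] :=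
  C.stMul (f353 C) (f328 C) _ (by decide +kernel)

theorem f12414 : C.S (v3 C) [30, 69, 79, 91] :=
  C.stMul (f335 C) (f12413 C) _ (by decide +kernel)

theorem f12415 : C.S (v3 C) [9, 35, 69, 77, 96, 110, 118] :=
  C.stMul (f353 C) (f12414 C) _ (by decide +kernel)

theorem f12416 : C.S (v3 C) [20, 43, 61, 80, 107, 110, 114] :=
  C.stMul (f335 C) (f12415 C) _ (by decide +kernel)

theorem f12417 : C.T (v3 C) [16, 44, 57, 73, 109, 121] (v18 C) [23, 32, 69, 85, 91, 120] :=
  C.conv (f9221 C) (f9279 C) (f12416 C) _ [146, 162, 166, 174] _ (by decide +kernel) (by decide +kernel) (by decide +kernel)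

theorem f12418 : C.T (v18 C) [23, 32, 69, 85, 91, 120] (v3 C) [16, 44, 57, 73, 109, 121] :=
  C.flip (f12417 C)

theorem f12419 : C.T (v18 C) [29, 50, 70, 107, 110, 122] (v18 C) [13, 42, 56, 88, 107, 109] :=
  C.closeT (p := (v3 C)) (pu := [20, 30, 64, 72, 106, 120])
    (C.pT (f12409 C)
    (C.pH [26, 38, 54, 89, 90, 113] [32, 63, 85, 100, 111] (by decide +kernel)
    (C.pT (f12412 C)
    (C.pH [8, 30, 65, 84, 94, 117] [29, 50, 70, 107, 110, 122] (by decide +kernel) (C.pNil _ _)))))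
    (C.pH [26, 38, 54, 89, 90, 113] [23, 32, 69, 85, 91, 120] (by decide +kernel)
    (C.pT (f12418 C)
    (C.pH [8, 30, 65, 84, 94, 117] [20, 30, 64, 72, 106, 120] (by decide +kernel) (C.pNil _ _))))
    (C.loop_of_one (relLoop2 C) _ _)

theorem f12420 : C.T (v18 C) [13, 42, 56, 88, 107, 109] (v18 C) [29, 50, 70, 107, 110, 122] :=
  C.flip (f12419 C)

theorem f12421 : C.T (v3 C) [23, 42, 60, 70, 106, 109, 122] (v15 C) [12, 42, 59, 72, 92, 110, 113] :=
  C.conv (f3166 C) (f3236 C) (f3236 C) _ [138, 155, 166, 174, 177] _ (by decide +kernel) (by decide +kernel) (by decide +kernel)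

theorem f12422 : C.T (v3 C) [20, 46, 50, 86, 95] (v17 C) [16, 42, 60, 74, 90, 110, 122] :=
  C.conv (f6822 C) (f7297 C) (f8177 C) _ [148, 157, 169, 175] _ (by decide +kernel) (by decide +kernel) (by decide +kernel)

theorem f12423 : C.T (v17 C) [16, 42, 60, 74, 90, 110, 122] (v3 C) [20, 46, 50, 86, 95] :=
  C.flip (f12422 C)

theorem f12424 : C.T (v17 C) [26, 46, 62, 86, 105, 109, 121] (v18 C) [6, 45, 49, 79, 93, 110] :=
  C.conv (f7834 C) (f4300 C) (f4137 C) _ [136, 157, 167, 176, 178] _ (by decide +kernel) (by decide +kernel) (by decide +kernel)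

theorem f12425 : C.T (v18 C) [6, 45, 49, 79, 93, 110] (v17 C) [26, 46, 62, 86, 105, 109, 121] :=
  C.flip (f12424 C)

theorem f12426 : C.T (v15 C) [14, 36, 58, 83, 97, 109, 118] (v18 C) [22, 46, 67, 83, 96, 110, 125] :=
  C.closeT (p := (v3 C)) (pu := [23, 42, 60, 70, 106, 109, 122])
    (C.pT (f12421 C)
    (C.pH [26, 38, 54, 89, 90, 113] [14, 36, 58, 83, 97, 109, 118] (by decide +kernel) (C.pNil _ _)))
    (C.pH [8, 30, 65, 84, 94, 117] [6, 45, 49, 79, 93, 110] (by decide +kernel)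
    (C.pT (f12425 C)
    (C.pH [26, 38, 54, 89, 90, 113] [16, 42, 60, 74, 90, 110, 122] (by decide +kernel)
    (C.pT (f12423 C)
    (C.pH [8, 30, 65, 84, 94, 117] [23, 42, 60, 70, 106, 109, 122] (by decide +kernel) (C.pNil _ _))))))
    (C.loop_of_one (relLoop2 C) _ _)

theorem f12427 : C.T (v18 C) [22, 46, 67, 83, 96, 110, 125] (v15 C) [14, 36, 58, 83, 97, 109, 118] :=
  C.flip (f12426 C)

theorem f12428 : C.T (v3 C) [17, 30, 60, 75, 96, 121] (v17 C) [9, 34, 64, 85, 98, 109, 123] :=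
  C.conv (f6269 C) (f7309 C) (f7309 C) _ [160, 167, 171] _ (by decide +kernel) (by decide +kernel) (by decide +kernel)

theorem f12429 : C.T (v3 C) [7, 46, 66, 79, 90, 109, 119] (v17 C) [17, 66, 86, 107, 110, 124] :=
  C.conv (f6822 C) (f7297 C) (f10989 C) _ [136, 150, 165, 175] _ (by decide +kernel) (by decide +kernel) (by decide +kernel)

theorem f12430 : C.T (v17 C) [17, 66, 86, 107, 110, 124] (v3 C) [7, 46, 66, 79, 90, 109, 119] :=
  C.flip (f12429 C)

theorem f12431 : C.S (v17 C) [51, 81, 96, 109, 125] :=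
  C.stMul (f4132 C) (f4137 C) _ (by decide +kernel)

theorem f12432 : C.T (v17 C) [19, 30, 58, 75, 101, 112] (v18 C) [22, 35, 55, 74, 94, 109, 125] :=
  C.conv (f8590 C) (f4137 C) (f12431 C) _ [144, 152, 168, 176, 177] _ (by decide +kernel) (by decide +kernel) (by decide +kernel)

theorem f12433 : C.T (v18 C) [22, 35, 55, 74, 94, 109, 125] (v17 C) [19, 30, 58, 75, 101, 112] :=
  C.flip (f12432 C)

theorem f12434 : C.T (v17 C) [22, 32, 69, 71, 100, 110, 111] (v18 C) [17, 40, 50, 87, 91, 110, 117] :=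
  C.closeT (p := (v3 C)) (pu := [17, 30, 60, 75, 96, 121])
    (C.pT (f12428 C)
    (C.pH [26, 38, 54, 89, 90, 113] [22, 32, 69, 71, 100, 110, 111] (by decide +kernel) (C.pNil _ _)))
    (C.pH [8, 30, 65, 84, 94, 117] [22, 35, 55, 74, 94, 109, 125] (by decide +kernel)
    (C.pT (f12433 C)
    (C.pH [26, 38, 54, 89, 90, 113] [17, 66, 86, 107, 110, 124] (by decide +kernel)
    (C.pT (f12430 C)
    (C.pH [8, 30, 65, 84, 94, 117] [17, 30, 60, 75, 96, 121] (by decide +kernel) (C.pNil _ _))))))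
    (C.loop_of_one (relLoop2 C) _ _)

theorem f12435 : C.T (v18 C) [17, 40, 50, 87, 91, 110, 117] (v17 C) [22, 32, 69, 71, 100, 110, 111] :=
  C.flip (f12434 C)

theorem f12436 : C.T (v3 C) [23, 43, 63, 78, 95, 110, 116] (v17 C) [17, 48, 54, 80, 97, 111] :=
  C.conv (f6269 C) (f7309 C) (f7309 C) _ [128, 153, 168, 171] _ (by decide +kernel) (by decide +kernel) (by decide +kernel)

theorem f12437 : C.T (v3 C) [20, 30, 57, 71, 98, 109, 117] (v15 C) [5, 29, 57, 80, 97, 110, 119] :=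
  C.conv (f3166 C) (f3236 C) (f11035 C) _ [146, 163, 167, 175, 177] _ (by decide +kernel) (by decide +kernel) (by decide +kernel)

theorem f12438 : C.T (v15 C) [5, 29, 57, 80, 97, 110, 119] (v3 C) [20, 30, 57, 71, 98, 109, 117] :=
  C.flip (f12437 C)

theorem f12439 : C.S (v15 C) [25, 46, 61, 102, 110, 119] :=
  C.stMul (f2565 C) (f2569 C) _ (by decide +kernel)

theorem f12440 : C.S (v15 C) [25, 39, 65, 80, 99, 110, 113] :=
  C.stMul (f2581 C) (f12439 C) _ (by decide +kernel)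

theorem f12441 : C.T (v15 C) [14, 28, 51, 86, 108, 110, 115] (v18 C) [26, 36, 50, 85, 97, 109, 117] :=
  C.conv (f11309 C) (f12439 C) (f12440 C) _ [136, 152, 166, 174] _ (by decide +kernel) (by decide +kernel) (by decide +kernel)

theorem f12442 : C.T (v18 C) [26, 36, 50, 85, 97, 109, 117] (v15 C) [14, 28, 51, 86, 108, 110, 115] :=
  C.flip (f12441 C)

theorem f12443 : C.T (v17 C) [20, 89, 103, 110, 115] (v18 C) [19, 34, 67, 86, 103, 110, 124] :=
  C.closeT (p := (v3 C)) (pu := [23, 43, 63, 78, 95, 110, 116])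
    (C.pT (f12436 C)
    (C.pH [26, 38, 54, 89, 90, 113] [20, 89, 103, 110, 115] (by decide +kernel) (C.pNil _ _)))
    (C.pH [8, 30, 65, 84, 94, 117] [26, 36, 50, 85, 97, 109, 117] (by decide +kernel)
    (C.pT (f12442 C)
    (C.pH [26, 38, 54, 89, 90, 113] [5, 29, 57, 80, 97, 110, 119] (by decide +kernel)
    (C.pT (f12438 C)
    (C.pH [8, 30, 65, 84, 94, 117] [23, 43, 63, 78, 95, 110, 116] (by decide +kernel) (C.pNil _ _))))))
    (C.loop_of_one (relLoop2 C) _ _)

theorem f12444 : C.T (v18 C) [19, 34, 67, 86, 103, 110, 124] (v17 C) [20, 89, 103, 110, 115] :=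
  C.flip (f12443 C)

theorem f12445 : C.T (v3 C) [13, 35, 54, 75, 118] (v17 C) [11, 29, 59, 76, 108, 110, 123] :=
  C.conv (f6269 C) (f7309 C) (f7309 C) _ [139, 170, 171, 178] _ (by decide +kernel) (by decide +kernel) (by decide +kernel)

theorem f12446 : C.S (v17 C) [23, 31, 75, 92, 109, 116] :=
  C.stMul (f4137 C) (f4132 C) _ (by decide +kernel)

theorem f12447 : C.S (v17 C) [51, 81, 96, 109, 125] :=
  C.stMul (f4132 C) (f4137 C) _ (by decide +kernel)

theorem f12448 : C.T (v17 C) [24, 31, 63, 88, 100, 109, 113] (v18 C) [14, 45, 62, 84, 106, 110, 114] :=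
  C.conv (f7884 C) (f12446 C) (f12447 C) _ [133, 168, 174] _ (by decide +kernel) (by decide +kernel) (by decide +kernel)

theorem f12449 : C.S (v3 C) [20, 56, 88, 105, 110, 120] :=
  C.stMul (f331 C) (f331 C) _ (by decide +kernel)

theorem f12450 : C.S (v3 C) [18, 48, 67, 88, 96, 109, 120] :=
  C.stMul (f331 C) (f12449 C) _ (by decide +kernel)

theorem f12451 : C.S (v3 C) [22, 38, 52, 99, 110, 111] :=
  C.stMul (f353 C) (f12450 C) _ (by decide +kernel)

theorem f12452 : C.S (v3 C) [20, 37, 68, 71, 99, 120] :=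
  C.stMul (f331 C) (f12451 C) _ (by decide +kernel)

theorem f12453 : C.T (v3 C) [6, 31, 51, 102, 109, 113] (v18 C) [22, 43, 66, 89, 108, 109, 119] :=
  C.conv (f9184 C) (f9232 C) (f12452 C) _ [140, 158, 175, 178] _ (by decide +kernel) (by decide +kernel) (by decide +kernel)

theorem f12454 : C.T (v18 C) [22, 43, 66, 89, 108, 109, 119] (v3 C) [6, 31, 51, 102, 109, 113] :=
  C.flip (f12453 C)

theorem f12455 : C.T (v18 C) [5, 37, 67, 76, 99, 110, 123] (v18 C) [9, 47, 54, 83, 93, 110] :=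
  C.closeT (p := (v3 C)) (pu := [13, 35, 54, 75, 118])
    (C.pT (f12445 C)
    (C.pH [26, 38, 54, 89, 90, 113] [24, 31, 63, 88, 100, 109, 113] (by decide +kernel)
    (C.pT (f12448 C)
    (C.pH [8, 30, 65, 84, 94, 117] [5, 37, 67, 76, 99, 110, 123] (by decide +kernel) (C.pNil _ _)))))
    (C.pH [26, 38, 54, 89, 90, 113] [22, 43, 66, 89, 108, 109, 119] (by decide +kernel)
    (C.pT (f12454 C)
    (C.pH [8, 30, 65, 84, 94, 117] [13, 35, 54, 75, 118] (by decide +kernel) (C.pNil _ _))))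
    (C.loop_of_one (relLoop2 C) _ _)

theorem f12456 : C.T (v18 C) [9, 47, 54, 83, 93, 110] (v18 C) [5, 37, 67, 76, 99, 110, 123] :=
  C.flip (f12455 C)

theorem f12457 : C.T (v3 C) [4, 34, 57, 79, 107, 109, 114] (v17 C) [11, 29, 65, 102, 109, 123] :=
  C.conv (f6269 C) (f7309 C) (f7309 C) _ [139, 153, 164, 172] _ (by decide +kernel) (by decide +kernel) (by decide +kernel)

theorem f12458 : C.S (v17 C) [23, 31, 75, 92, 109, 116] :=
  C.stMul (f4137 C) (f4132 C) _ (by decide +kernel)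

theorem f12459 : C.T (v17 C) [24, 31, 58, 76, 105, 114] (v15 C) [23, 49, 70, 100, 121] :=
  C.conv (f6198 C) (f4132 C) (f12458 C) _ [147, 162, 167, 175] _ (by decide +kernel) (by decide +kernel) (by decide +kernel)

theorem f12460 : C.S (v3 C) [7, 59, 76, 107, 120] :=
  C.stMul (f328 C) (f8198 C) _ (by decide +kernel)

theorem f12461 : C.S (v3 C) [12, 35, 65, 93, 109, 125] :=
  C.stMul (f331 C) (f12460 C) _ (by decide +kernel)

theorem f12462 : C.T (v3 C) [18, 41, 60, 71, 107, 109, 122] (v18 C) [12, 46, 64, 79, 103, 120] :=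
  C.conv (f8165 C) (f8200 C) (f12461 C) _ [127, 152, 168] _ (by decide +kernel) (by decide +kernel) (by decide +kernel)

theorem f12463 : C.T (v18 C) [12, 46, 64, 79, 103, 120] (v3 C) [18, 41, 60, 71, 107, 109, 122] :=
  C.flip (f12462 C)

theorem f12464 : C.T (v15 C) [10, 28, 67, 70, 93, 120] (v18 C) [24, 29, 51, 85, 100, 110, 122] :=
  C.closeT (p := (v3 C)) (pu := [4, 34, 57, 79, 107, 109, 114])
    (C.pT (f12457 C)
    (C.pH [26, 38, 54, 89, 90, 113] [24, 31, 58, 76, 105, 114] (by decide +kernel)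
    (C.pT (f12459 C)
    (C.pH [8, 30, 65, 84, 94, 117] [10, 28, 67, 70, 93, 120] (by decide +kernel) (C.pNil _ _)))))
    (C.pH [26, 38, 54, 89, 90, 113] [12, 46, 64, 79, 103, 120] (by decide +kernel)
    (C.pT (f12463 C)
    (C.pH [8, 30, 65, 84, 94, 117] [4, 34, 57, 79, 107, 109, 114] (by decide +kernel) (C.pNil _ _))))
    (C.loop_of_one (relLoop2 C) _ _)

theorem f12465 : C.T (v18 C) [24, 29, 51, 85, 100, 110, 122] (v15 C) [10, 28, 67, 70, 93, 120] :=
  C.flip (f12464 C)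

theorem f12466 : C.T (v3 C) [10, 36, 50, 84, 97, 110, 113] (v17 C) [12, 36, 51, 78, 109, 112] :=
  C.conv (f6269 C) (f7309 C) (f7309 C) _ [136, 160, 167, 173, 177] _ (by decide +kernel) (by decide +kernel) (by decide +kernel)

theorem f12467 : C.S (v17 C) [23, 31, 75, 92, 109, 116] :=
  C.stMul (f4137 C) (f4132 C) _ (by decide +kernel)

theorem f12468 : C.T (v17 C) [14, 41, 60, 86, 95, 109, 116] (v17 C) [30, 68, 103, 110, 125] :=
  C.conv (f4963 C) (f12467 C) (f4132 C) _ [138, 158, 164, 175, 178] _ (by decide +kernel) (by decide +kernel) (by decide +kernel)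

theorem f12469 : C.S (v3 C) [6, 43, 52, 78, 106, 118] :=
  C.stMul (f328 C) (f12007 C) _ (by decide +kernel)

theorem f12470 : C.S (v3 C) [26, 32, 53, 86, 108, 110, 118] :=
  C.stMul (f331 C) (f12469 C) _ (by decide +kernel)

theorem f12471 : C.S (v3 C) [4, 31, 55, 75, 100, 109, 112] :=
  C.stMul (f353 C) (f12470 C) _ (by decide +kernel)

theorem f12472 : C.T (v3 C) [23, 39, 50, 99, 122] (v18 C) [14, 34, 63, 71, 105, 109, 112] :=
  C.conv (f9432 C) (f9640 C) (f12471 C) _ [146, 163, 168, 177] _ (by decide +kernel) (by decide +kernel) (by decide +kernel)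

theorem f12473 : C.T (v18 C) [14, 34, 63, 71, 105, 109, 112] (v3 C) [23, 39, 50, 99, 122] :=
  C.flip (f12472 C)

theorem f12474 : C.T (v17 C) [8, 28, 50, 86, 100, 111] (v18 C) [12, 27, 50, 77, 90, 109, 120] :=
  C.closeT (p := (v3 C)) (pu := [10, 36, 50, 84, 97, 110, 113])
    (C.pT (f12466 C)
    (C.pH [26, 38, 54, 89, 90, 113] [14, 41, 60, 86, 95, 109, 116] (by decide +kernel)
    (C.pT (f12468 C)
    (C.pH [8, 30, 65, 84, 94, 117] [8, 28, 50, 86, 100, 111] (by decide +kernel) (C.pNil _ _)))))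
    (C.pH [26, 38, 54, 89, 90, 113] [14, 34, 63, 71, 105, 109, 112] (by decide +kernel)
    (C.pT (f12473 C)
    (C.pH [8, 30, 65, 84, 94, 117] [10, 36, 50, 84, 97, 110, 113] (by decide +kernel) (C.pNil _ _))))
    (C.loop_of_one (relLoop2 C) _ _)

theorem f12475 : C.T (v18 C) [12, 27, 50, 77, 90, 109, 120] (v17 C) [8, 28, 50, 86, 100, 111] :=
  C.flip (f12474 C)

theorem f12476 : C.T (v3 C) [17, 44, 63, 73, 98, 109, 113] (v17 C) [5, 36, 58, 84, 92, 124] :=
  C.conv (f6808 C) (f9290 C) (f9290 C) _ [140, 160, 173] _ (by decide +kernel) (by decide +kernel) (by decide +kernel)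

theorem f12477 : C.S (v17 C) [23, 31, 49, 84, 96, 117] :=
  C.stMul (f4137 C) (f4137 C) _ (by decide +kernel)

theorem f12478 : C.T (v17 C) [8, 33, 54, 81, 103, 109, 123] (v18 C) [22, 41, 55, 78, 93, 109, 120] :=
  C.conv (f11003 C) (f12477 C) (f4132 C) _ [144, 152, 176] _ (by decide +kernel) (by decide +kernel) (by decide +kernel)

theorem f12479 : C.S (v3 C) [21, 46, 68, 75, 95] :=
  C.stMul (f335 C) (f10432 C) _ (by decide +kernel)

theorem f12480 : C.S (v3 C) [14, 46, 79, 106, 123] :=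
  C.stMul (f353 C) (f12479 C) _ (by decide +kernel)

theorem f12481 : C.S (v3 C) [19, 34, 68, 75, 94, 111] :=
  C.stMul (f335 C) (f12480 C) _ (by decide +kernel)

theorem f12482 : C.T (v3 C) [7, 43, 60, 71, 94, 109, 111] (v18 C) [26, 45, 51, 72, 108, 109, 113] :=
  C.conv (f9432 C) (f9640 C) (f12481 C) _ [143, 151, 168, 172, 178] _ (by decide +kernel) (by decide +kernel) (by decide +kernel)

theorem f12483 : C.T (v18 C) [26, 45, 51, 72, 108, 109, 113] (v3 C) [7, 43, 60, 71, 94, 109, 111] :=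
  C.flip (f12482 C)

theorem f12484 : C.T (v18 C) [6, 33, 52, 74, 91, 109, 114] (v18 C) [48, 52, 78, 98, 110, 123] :=
  C.closeT (p := (v3 C)) (pu := [17, 44, 63, 73, 98, 109, 113])
    (C.pT (f12476 C)
    (C.pH [26, 38, 54, 89, 90, 113] [8, 33, 54, 81, 103, 109, 123] (by decide +kernel)
    (C.pT (f12478 C)
    (C.pH [8, 30, 65, 84, 94, 117] [6, 33, 52, 74, 91, 109, 114] (by decide +kernel) (C.pNil _ _)))))
    (C.pH [26, 38, 54, 89, 90, 113] [26, 45, 51, 72, 108, 109, 113] (by decide +kernel)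
    (C.pT (f12483 C)
    (C.pH [8, 30, 65, 84, 94, 117] [17, 44, 63, 73, 98, 109, 113] (by decide +kernel) (C.pNil _ _))))
    (C.loop_of_one (relLoop2 C) _ _)

theorem f12485 : C.T (v18 C) [48, 52, 78, 98, 110, 123] (v18 C) [6, 33, 52, 74, 91, 109, 114] :=
  C.flip (f12484 C)

theorem f12486 : C.T (v3 C) [25, 39, 59, 82, 91, 112] (v17 C) [10, 35, 66, 73, 101, 110, 123] :=
  C.conv (f6808 C) (f9290 C) (f9290 C) _ [166, 171, 177] _ (by decide +kernel) (by decide +kernel) (by decide +kernel)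

theorem f12487 : C.S (v17 C) [51, 81, 96, 109, 125] :=
  C.stMul (f4132 C) (f4137 C) _ (by decide +kernel)

theorem f12488 : C.S (v17 C) [23, 31, 49, 84, 96, 117] :=
  C.stMul (f4137 C) (f4137 C) _ (by decide +kernel)

theorem f12489 : C.T (v17 C) [21, 27, 85, 90, 109, 118] (v18 C) [17, 41, 74, 94, 114] :=
  C.conv (f11299 C) (f12487 C) (f12488 C) _ [126, 152, 166, 176] _ (by decide +kernel) (by decide +kernel) (by decide +kernel)

theorem f12490 : C.S (v3 C) [26, 34, 52, 84, 93, 110, 125] :=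
  C.stMul (f331 C) (f10124 C) _ (by decide +kernel)

theorem f12491 : C.S (v3 C) [4, 41, 69, 89, 93, 110, 125] :=
  C.stMul (f353 C) (f12490 C) _ (by decide +kernel)

theorem f12492 : C.T (v3 C) [4, 38, 50, 88, 97, 109, 113] (v17 C) [14, 38, 60, 77, 93, 113] :=
  C.conv (f6822 C) (f7297 C) (f12491 C) _ [148, 156, 174, 177] _ (by decide +kernel) (by decide +kernel) (by decide +kernel)

theorem f12493 : C.T (v17 C) [14, 38, 60, 77, 93, 113] (v3 C) [4, 38, 50, 88, 97, 109, 113] :=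
  C.flip (f12492 C)

theorem f12494 : C.T (v18 C) [22, 32, 61, 77, 100, 110, 119] (v17 C) [12, 46, 69, 76, 96, 110, 120] :=
  C.closeT (p := (v3 C)) (pu := [25, 39, 59, 82, 91, 112])
    (C.pT (f12486 C)
    (C.pH [26, 38, 54, 89, 90, 113] [21, 27, 85, 90, 109, 118] (by decide +kernel)
    (C.pT (f12489 C)
    (C.pH [8, 30, 65, 84, 94, 117] [22, 32, 61, 77, 100, 110, 119] (by decide +kernel) (C.pNil _ _)))))
    (C.pH [26, 38, 54, 89, 90, 113] [14, 38, 60, 77, 93, 113] (by decide +kernel)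
    (C.pT (f12493 C)
    (C.pH [8, 30, 65, 84, 94, 117] [25, 39, 59, 82, 91, 112] (by decide +kernel) (C.pNil _ _))))
    (C.loop_of_one (relLoop2 C) _ _)

theorem f12495 : C.T (v17 C) [12, 46, 69, 76, 96, 110, 120] (v18 C) [22, 32, 61, 77, 100, 110, 119] :=
  C.flip (f12494 C)

theorem f12496 : C.T (v3 C) [15, 35, 54, 79, 106, 119] (v17 C) [16, 38, 53, 74, 94, 110, 111] :=
  C.conv (f6808 C) (f9290 C) (f9290 C) _ [144, 150, 174] _ (by decide +kernel) (by decide +kernel) (by decide +kernel)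

theorem f12497 : C.S (v17 C) [23, 31, 75, 92, 109, 116] :=
  C.stMul (f4137 C) (f4132 C) _ (by decide +kernel)

theorem f12498 : C.T (v17 C) [13, 34, 74, 95, 109, 123] (v9 C) [11, 45, 53, 74, 94, 109, 119] :=
  C.conv (f5294 C) (f11565 C) (f12497 C) _ [137, 154, 165, 176, 177] _ (by decide +kernel) (by decide +kernel) (by decide +kernel)

theorem f12499 : C.T (v3 C) [10, 29, 56, 85, 90, 113] (v18 C) [8, 36, 50, 86, 104, 109, 122] :=
  C.conv (f6916 C) (f7402 C) (f8032 C) _ [142, 151, 164, 172, 177] _ (by decide +kernel) (by decide +kernel) (by decide +kernel)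

theorem f12500 : C.T (v18 C) [8, 36, 50, 86, 104, 109, 122] (v3 C) [10, 29, 56, 85, 90, 113] :=
  C.flip (f12499 C)

theorem f12501 : C.T (v9 C) [7, 44, 52, 83, 125] (v18 C) [5, 29, 49, 80, 102, 118] :=
  C.closeT (p := (v3 C)) (pu := [15, 35, 54, 79, 106, 119])
    (C.pT (f12496 C)
    (C.pH [26, 38, 54, 89, 90, 113] [13, 34, 74, 95, 109, 123] (by decide +kernel)
    (C.pT (f12498 C)
    (C.pH [8, 30, 65, 84, 94, 117] [7, 44, 52, 83, 125] (by decide +kernel) (C.pNil _ _)))))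
    (C.pH [26, 38, 54, 89, 90, 113] [8, 36, 50, 86, 104, 109, 122] (by decide +kernel)
    (C.pT (f12500 C)
    (C.pH [8, 30, 65, 84, 94, 117] [15, 35, 54, 79, 106, 119] (by decide +kernel) (C.pNil _ _))))
    (C.loop_of_one (relLoop2 C) _ _)

theorem f12502 : C.T (v18 C) [5, 29, 49, 80, 102, 118] (v9 C) [7, 44, 52, 83, 125] :=
  C.flip (f12501 C)

theorem f12503 : C.T (v3 C) [18, 27, 52, 78, 94, 110, 118] (v17 C) [22, 35, 66, 89, 104, 113] :=
  C.conv (f6808 C) (f9290 C) (f9290 C) _ [138, 156, 168, 174, 178] _ (by decide +kernel) (by decide +kernel) (by decide +kernel)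

theorem f12504 : C.S (v17 C) [51, 81, 96, 109, 125] :=
  C.stMul (f4132 C) (f4137 C) _ (by decide +kernel)

theorem f12505 : C.T (v17 C) [19, 30, 65, 85, 90, 110, 111] (v18 C) [21, 38, 66, 80, 106, 120] :=
  C.conv (f12407 C) (f4137 C) (f12504 C) _ [143, 153, 165, 172] _ (by decide +kernel) (by decide +kernel) (by decide +kernel)

theorem f12506 : C.T (v3 C) [9, 32, 62, 72, 94, 123] (v18 C) [14, 31, 55, 76, 92, 109, 115] :=
  C.conv (f9184 C) (f9232 C) (f12059 C) _ [139, 153, 176] _ (by decide +kernel) (by decide +kernel) (by decide +kernel)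

theorem f12507 : C.T (v18 C) [14, 31, 55, 76, 92, 109, 115] (v3 C) [9, 32, 62, 72, 94, 123] :=
  C.flip (f12506 C)

theorem f12508 : C.T (v18 C) [24, 42, 66, 81, 103, 109, 123] (v18 C) [12, 30, 62, 89, 108, 109, 123] :=
  C.closeT (p := (v3 C)) (pu := [18, 27, 52, 78, 94, 110, 118])
    (C.pT (f12503 C)
    (C.pH [26, 38, 54, 89, 90, 113] [19, 30, 65, 85, 90, 110, 111] (by decide +kernel)
    (C.pT (f12505 C)
    (C.pH [8, 30, 65, 84, 94, 117] [24, 42, 66, 81, 103, 109, 123] (by decide +kernel) (C.pNil _ _)))))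
    (C.pH [26, 38, 54, 89, 90, 113] [14, 31, 55, 76, 92, 109, 115] (by decide +kernel)
    (C.pT (f12507 C)
    (C.pH [8, 30, 65, 84, 94, 117] [18, 27, 52, 78, 94, 110, 118] (by decide +kernel) (C.pNil _ _))))
    (C.loop_of_one (relLoop2 C) _ _)

theorem f12509 : C.T (v18 C) [12, 30, 62, 89, 108, 109, 123] (v18 C) [24, 42, 66, 81, 103, 109, 123] :=
  C.flip (f12508 C)

theorem f12510 : C.T (v3 C) [12, 42, 66, 83, 101, 109, 117] (v17 C) [20, 40, 52, 73, 101, 109, 114] :=
  C.conv (f6808 C) (f9290 C) (f9290 C) _ [131, 159, 166, 176, 177] _ (by decide +kernel) (by decide +kernel) (by decide +kernel)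

theorem f12511 : C.T (v3 C) [5, 29, 73, 91, 117] (v18 C) [10, 27, 51, 80, 99, 109, 112] :=
  C.conv (f8216 C) (f8435 C) (f8436 C) _ [146, 154, 167, 174] _ (by decide +kernel) (by decide +kernel) (by decide +kernel)

theorem f12512 : C.T (v18 C) [10, 27, 51, 80, 99, 109, 112] (v3 C) [5, 29, 73, 91, 117] :=
  C.flip (f12511 C)

theorem f12513 : C.T (v18 C) [18, 27, 63, 75, 108, 109, 116] (v18 C) [8, 31, 88, 90, 109, 124] :=
  C.conv (f11640 C) (f7121 C) (f7121 C) _ [142, 159, 164, 177] _ (by decide +kernel) (by decide +kernel) (by decide +kernel)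

theorem f12514 : C.T (v18 C) [8, 31, 88, 90, 109, 124] (v18 C) [18, 27, 63, 75, 108, 109, 116] :=
  C.flip (f12513 C)

theorem f12515 : C.T (v17 C) [15, 37, 56, 80, 96, 118] (v18 C) [36, 51, 87, 100, 110, 124] :=
  C.closeT (p := (v3 C)) (pu := [12, 42, 66, 83, 101, 109, 117])
    (C.pT (f12510 C)
    (C.pH [26, 38, 54, 89, 90, 113] [15, 37, 56, 80, 96, 118] (by decide +kernel) (C.pNil _ _)))
    (C.pH [8, 30, 65, 84, 94, 117] [8, 31, 88, 90, 109, 124] (by decide +kernel)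
    (C.pT (f12514 C)
    (C.pH [26, 38, 54, 89, 90, 113] [10, 27, 51, 80, 99, 109, 112] (by decide +kernel)
    (C.pT (f12512 C)
    (C.pH [8, 30, 65, 84, 94, 117] [12, 42, 66, 83, 101, 109, 117] (by decide +kernel) (C.pNil _ _))))))
    (C.loop_of_one (relLoop2 C) _ _)

theorem f12516 : C.T (v18 C) [36, 51, 87, 100, 110, 124] (v17 C) [15, 37, 56, 80, 96, 118] :=
  C.flip (f12515 C)

theorem f12517 : C.T (v3 C) [12, 31, 67, 75, 108, 109, 119] (v17 C) [7, 32, 51, 104, 117] :=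
  C.conv (f6808 C) (f9290 C) (f9290 C) _ [138, 149, 165] _ (by decide +kernel) (by decide +kernel) (by decide +kernel)

theorem f12518 : C.S (v17 C) [23, 31, 75, 92, 109, 116] :=
  C.stMul (f4137 C) (f4132 C) _ (by decide +kernel)

theorem f12519 : C.T (v17 C) [42, 59, 74, 90, 118] (v17 C) [20, 36, 57, 71, 105, 110, 112] :=
  C.conv (f5595 C) (f4300 C) (f12518 C) _ [137, 163, 173, 177] _ (by decide +kernel) (by decide +kernel) (by decide +kernel)

theorem f12520 : C.S (v3 C) [21, 46, 68, 75, 95] :=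
  C.stMul (f335 C) (f9804 C) _ (by decide +kernel)

theorem f12521 : C.S (v3 C) [14, 30, 68, 97, 124] :=
  C.stMul (f331 C) (f12520 C) _ (by decide +kernel)

theorem f12522 : C.T (v3 C) [5, 30, 60, 75, 96, 123] (v18 C) [17, 28, 67, 79, 98, 110, 117] :=
  C.conv (f9221 C) (f9279 C) (f12521 C) _ [145, 149, 170, 173, 177] _ (by decide +kernel) (by decide +kernel) (by decide +kernel)

theorem f12523 : C.T (v18 C) [17, 28, 67, 79, 98, 110, 117] (v3 C) [5, 30, 60, 75, 96, 123] :=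
  C.flip (f12522 C)

theorem f12524 : C.T (v17 C) [23, 33, 69, 89, 90, 111] (v18 C) [19, 46, 64, 74, 107, 115] :=
  C.closeT (p := (v3 C)) (pu := [12, 31, 67, 75, 108, 109, 119])
    (C.pT (f12517 C)
    (C.pH [26, 38, 54, 89, 90, 113] [42, 59, 74, 90, 118] (by decide +kernel)
    (C.pT (f12519 C)
    (C.pH [8, 30, 65, 84, 94, 117] [23, 33, 69, 89, 90, 111] (by decide +kernel) (C.pNil _ _)))))
    (C.pH [26, 38, 54, 89, 90, 113] [17, 28, 67, 79, 98, 110, 117] (by decide +kernel)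
    (C.pT (f12523 C)
    (C.pH [8, 30, 65, 84, 94, 117] [12, 31, 67, 75, 108, 109, 119] (by decide +kernel) (C.pNil _ _))))
    (C.loop_of_one (relLoop2 C) _ _)

theorem f12525 : C.T (v18 C) [19, 46, 64, 74, 107, 115] (v17 C) [23, 33, 69, 89, 90, 111] :=
  C.flip (f12524 C)

theorem f12526 : C.T (v3 C) [5, 34, 49, 76, 99, 109, 111] (v17 C) [26, 38, 57, 73, 102, 114] :=
  C.conv (f6808 C) (f9290 C) (f9290 C) _ [146, 151, 166] _ (by decide +kernel) (by decide +kernel) (by decide +kernel)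

theorem f12527 : C.T (v17 C) [16, 39, 60, 79, 114] (v18 C) [24, 37, 60, 81, 108, 110, 120] :=
  C.conv (f12143 C) (f4300 C) (f4300 C) _ [135, 158, 169, 175, 178] _ (by decide +kernel) (by decide +kernel) (by decide +kernel)

theorem f12528 : C.T (v3 C) [14, 46, 54, 71, 92] (v18 C) [17, 30, 49, 82, 96, 121] :=
  C.conv (f7327 C) (f7806 C) (f8126 C) _ [144, 159, 165, 173, 178] _ (by decide +kernel) (by decide +kernel) (by decide +kernel)

theorem f12529 : C.T (v18 C) [17, 30, 49, 82, 96, 121] (v3 C) [14, 46, 54, 71, 92] :=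
  C.flip (f12528 C)

theorem f12530 : C.T (v18 C) [16, 43, 60, 81, 108, 110, 120] (v18 C) [19, 35, 66, 78, 94, 116] :=
  C.closeT (p := (v3 C)) (pu := [5, 34, 49, 76, 99, 109, 111])
    (C.pT (f12526 C)
    (C.pH [26, 38, 54, 89, 90, 113] [16, 39, 60, 79, 114] (by decide +kernel)
    (C.pT (f12527 C)
    (C.pH [8, 30, 65, 84, 94, 117] [16, 43, 60, 81, 108, 110, 120] (by decide +kernel) (C.pNil _ _)))))
    (C.pH [26, 38, 54, 89, 90, 113] [17, 30, 49, 82, 96, 121] (by decide +kernel)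
    (C.pT (f12529 C)
    (C.pH [8, 30, 65, 84, 94, 117] [5, 34, 49, 76, 99, 109, 111] (by decide +kernel) (C.pNil _ _))))
    (C.loop_of_one (relLoop2 C) _ _)

theorem f12533 : C.T (v3 C) [13, 42, 59, 77, 101, 109, 120] (v17 C) [21, 43, 65, 78, 102, 110, 117] :=
  C.conv (f6808 C) (f9290 C) (f9290 C) _ [144, 163, 169, 174] _ (by decide +kernel) (by decide +kernel) (by decide +kernel)

theorem f12534 : C.S (v3 C) [23, 35, 58, 78, 94, 110, 123] :=
  C.stMul (f328 C) (f9726 C) _ (by decide +kernel)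

theorem f12535 : C.T (v3 C) [6, 28, 88, 105, 118] (v18 C) [18, 44, 56, 76, 98, 110, 112] :=
  C.conv (f8165 C) (f8200 C) (f12534 C) _ [137, 155, 170, 174, 177] _ (by decide +kernel) (by decide +kernel) (by decide +kernel)

theorem f12536 : C.T (v18 C) [18, 44, 56, 76, 98, 110, 112] (v3 C) [6, 28, 88, 105, 118] :=
  C.flip (f12535 C)

theorem f12537 : C.T (v18 C) [25, 45, 56, 82, 90, 117] (v18 C) [18, 29, 65, 84, 100, 109, 122] :=
  C.conv (f7025 C) (f7121 C) (f11082 C) _ [131, 154, 170, 173, 178] _ (by decide +kernel) (by decide +kernel) (by decide +kernel)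

theorem f12538 : C.T (v18 C) [18, 29, 65, 84, 100, 109, 122] (v18 C) [25, 45, 56, 82, 90, 117] :=
  C.flip (f12537 C)

theorem f12539 : C.T (v17 C) [6, 39, 57, 73, 90, 110, 114] (v18 C) [9, 29, 64, 70, 109, 124] :=
  C.closeT (p := (v3 C)) (pu := [13, 42, 59, 77, 101, 109, 120])
    (C.pT (f12533 C)
    (C.pH [26, 38, 54, 89, 90, 113] [6, 39, 57, 73, 90, 110, 114] (by decide +kernel) (C.pNil _ _)))
    (C.pH [8, 30, 65, 84, 94, 117] [18, 29, 65, 84, 100, 109, 122] (by decide +kernel)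
    (C.pT (f12538 C)
    (C.pH [26, 38, 54, 89, 90, 113] [18, 44, 56, 76, 98, 110, 112] (by decide +kernel)
    (C.pT (f12536 C)
    (C.pH [8, 30, 65, 84, 94, 117] [13, 42, 59, 77, 101, 109, 120] (by decide +kernel) (C.pNil _ _))))))
    (C.loop_of_one (relLoop2 C) _ _)

theorem f12540 : C.T (v18 C) [9, 29, 64, 70, 109, 124] (v17 C) [6, 39, 57, 73, 90, 110, 114] :=
  C.flip (f12539 C)

theorem f12541 : C.T (v3 C) [10, 33, 59, 88, 106, 110, 113] (v17 C) [13, 39, 54, 86, 99, 109, 123] :=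
  C.conv (f6808 C) (f9290 C) (f9290 C) _ [133, 153, 167, 175] _ (by decide +kernel) (by decide +kernel) (by decide +kernel)

theorem f12542 : C.T (v17 C) [23, 45, 52, 89, 104, 110, 124] (v16 C) [11, 31, 62, 87, 91, 110, 121] :=
  C.conv (f5023 C) (f4132 C) (f4132 C) _ [147, 162, 169, 172, 177] _ (by decide +kernel) (by decide +kernel) (by decide +kernel)

theorem f12543 : C.T (v3 C) [23, 32, 53, 71, 90, 116] (v18 C) [10, 27, 56, 78, 96, 109, 122] :=
  C.conv (f9221 C) (f9279 C) (f9281 C) _ [136, 157, 165, 173, 177] _ (by decide +kernel) (by decide +kernel) (by decide +kernel)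

theorem f12544 : C.T (v18 C) [10, 27, 56, 78, 96, 109, 122] (v3 C) [23, 32, 53, 71, 90, 116] :=
  C.flip (f12543 C)

theorem f12545 : C.T (v16 C) [7, 48, 54, 86, 105, 110, 112] (v18 C) [18, 27, 67, 87, 103, 110, 122] :=
  C.closeT (p := (v3 C)) (pu := [10, 33, 59, 88, 106, 110, 113])
    (C.pT (f12541 C)
    (C.pH [26, 38, 54, 89, 90, 113] [23, 45, 52, 89, 104, 110, 124] (by decide +kernel)
    (C.pT (f12542 C)
    (C.pH [8, 30, 65, 84, 94, 117] [7, 48, 54, 86, 105, 110, 112] (by decide +kernel) (C.pNil _ _)))))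
    (C.pH [26, 38, 54, 89, 90, 113] [10, 27, 56, 78, 96, 109, 122] (by decide +kernel)
    (C.pT (f12544 C)
    (C.pH [8, 30, 65, 84, 94, 117] [10, 33, 59, 88, 106, 110, 113] (by decide +kernel) (C.pNil _ _))))
    (C.loop_of_one (relLoop2 C) _ _)

theorem f12546 : C.T (v18 C) [18, 27, 67, 87, 103, 110, 122] (v16 C) [7, 48, 54, 86, 105, 110, 112] :=
  C.flip (f12545 C)

theorem f12547 : C.T (v3 C) [25, 42, 67, 85, 100, 121] (v17 C) [24, 48, 55, 82, 90, 120] :=
  C.conv (f6808 C) (f9290 C) (f9290 C) _ [127, 155, 172] _ (by decide +kernel) (by decide +kernel) (by decide +kernel)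

theorem f12548 : C.T (v17 C) [12, 42, 54, 85, 103, 122] (v17 C) [5, 36, 50, 81, 101, 110, 120] :=
  C.conv (f4936 C) (f6411 C) (f4300 C) _ [132, 154, 165, 175] _ (by decide +kernel) (by decide +kernel) (by decide +kernel)

theorem f12549 : C.S (v3 C) [20, 42, 68, 89, 99] :=
  C.stMul (f335 C) (f353 C) _ (by decide +kernel)

theorem f12550 : C.S (v3 C) [18, 33, 63, 86, 90, 124] :=
  C.stMul (f331 C) (f12549 C) _ (by decide +kernel)

theorem f12551 : C.S (v3 C) [22, 44, 63, 70, 99, 110, 123] :=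
  C.stMul (f353 C) (f12550 C) _ (by decide +kernel)

theorem f12552 : C.T (v3 C) [4, 33, 55, 77, 94, 118] (v18 C) [26, 31, 50, 89, 97, 110, 116] :=
  C.conv (f6916 C) (f7402 C) (f12551 C) _ [133, 154, 165, 171] _ (by decide +kernel) (by decide +kernel) (by decide +kernel)

theorem f12553 : C.T (v18 C) [26, 31, 50, 89, 97, 110, 116] (v3 C) [4, 33, 55, 77, 94, 118] :=
  C.flip (f12552 C)

theorem f12554 : C.T (v17 C) [12, 38, 49, 73, 104, 119] (v18 C) [28, 49, 84, 97, 109, 125] :=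
  C.closeT (p := (v3 C)) (pu := [25, 42, 67, 85, 100, 121])
    (C.pT (f12547 C)
    (C.pH [26, 38, 54, 89, 90, 113] [12, 42, 54, 85, 103, 122] (by decide +kernel)
    (C.pT (f12548 C)
    (C.pH [8, 30, 65, 84, 94, 117] [12, 38, 49, 73, 104, 119] (by decide +kernel) (C.pNil _ _)))))
    (C.pH [26, 38, 54, 89, 90, 113] [26, 31, 50, 89, 97, 110, 116] (by decide +kernel)
    (C.pT (f12553 C)
    (C.pH [8, 30, 65, 84, 94, 117] [25, 42, 67, 85, 100, 121] (by decide +kernel) (C.pNil _ _))))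
    (C.loop_of_one (relLoop2 C) _ _)

theorem f12555 : C.T (v18 C) [28, 49, 84, 97, 109, 125] (v17 C) [12, 38, 49, 73, 104, 119] :=
  C.flip (f12554 C)

theorem f12556 : C.T (v3 C) [25, 37, 62, 86, 102, 110, 120] (v17 C) [13, 44, 69, 81, 107, 120] :=
  C.conv (f6808 C) (f9290 C) (f9290 C) _ [142, 157, 164, 171] _ (by decide +kernel) (by decide +kernel) (by decide +kernel)

theorem f12557 : C.T (v17 C) [23, 46, 58, 85, 96, 109, 120] (v15 C) [11, 39, 52, 89, 112] :=
  C.conv (f4562 C) (f4300 C) (f4300 C) _ [145, 162, 164, 172, 177] _ (by decide +kernel) (by decide +kernel) (by decide +kernel)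

theorem f12558 : C.S (v3 C) [12, 31, 63, 83, 106, 121] :=
  C.stMul (f331 C) (f8383 C) _ (by decide +kernel)

theorem f12559 : C.S (v3 C) [25, 37, 55, 85, 105, 109] :=
  C.stMul (f335 C) (f12558 C) _ (by decide +kernel)

theorem f12560 : C.T (v3 C) [4, 39, 66, 112] (v18 C) [16, 38, 64, 70, 96] :=
  C.conv (f6916 C) (f7402 C) (f12559 C) _ [147, 151, 168, 174, 178] _ (by decide +kernel) (by decide +kernel) (by decide +kernel)

theorem f12561 : C.T (v18 C) [16, 38, 64, 70, 96] (v3 C) [4, 39, 66, 112] :=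
  C.flip (f12560 C)

theorem f12562 : C.T (v15 C) [7, 36, 62, 88, 106, 114] (v18 C) [26, 35, 64, 74, 104, 113] :=
  C.closeT (p := (v3 C)) (pu := [25, 37, 62, 86, 102, 110, 120])
    (C.pT (f12556 C)
    (C.pH [26, 38, 54, 89, 90, 113] [23, 46, 58, 85, 96, 109, 120] (by decide +kernel)
    (C.pT (f12557 C)
    (C.pH [8, 30, 65, 84, 94, 117] [7, 36, 62, 88, 106, 114] (by decide +kernel) (C.pNil _ _)))))
    (C.pH [26, 38, 54, 89, 90, 113] [16, 38, 64, 70, 96] (by decide +kernel)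
    (C.pT (f12561 C)
    (C.pH [8, 30, 65, 84, 94, 117] [25, 37, 62, 86, 102, 110, 120] (by decide +kernel) (C.pNil _ _))))
    (C.loop_of_one (relLoop2 C) _ _)

theorem f12563 : C.T (v18 C) [26, 35, 64, 74, 104, 113] (v15 C) [7, 36, 62, 88, 106, 114] :=
  C.flip (f12562 C)

theorem f12564 : C.T (v3 C) [12, 42, 52, 71, 95, 110, 111] (v17 C) [20, 27, 60, 89, 101, 109, 118] :=
  C.conv (f6808 C) (f9290 C) (f9290 C) _ [127, 162, 167, 174] _ (by decide +kernel) (by decide +kernel) (by decide +kernel)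

theorem f12565 : C.T (v17 C) [15, 32, 59, 106, 110, 124] (v18 C) [14, 35, 61, 86, 104, 113] :=
  C.conv (f8621 C) (f4137 C) (f4132 C) _ [134, 157, 166, 173] _ (by decide +kernel) (by decide +kernel) (by decide +kernel)

theorem f12566 : C.T (v3 C) [5, 29, 49, 89, 102, 110, 117] (v18 C) [14, 32, 55, 73, 98, 116] :=
  C.conv (f6888 C) (f7333 C) (f10999 C) _ [139, 158, 169, 171] _ (by decide +kernel) (by decide +kernel) (by decide +kernel)

theorem f12567 : C.T (v18 C) [14, 32, 55, 73, 98, 116] (v3 C) [5, 29, 49, 89, 102, 110, 117] :=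
  C.flip (f12566 C)

theorem f12568 : C.T (v18 C) [5, 54, 83, 94, 112] (v18 C) [12, 40, 57, 94, 111] :=
  C.closeT (p := (v3 C)) (pu := [12, 42, 52, 71, 95, 110, 111])
    (C.pT (f12564 C)
    (C.pH [26, 38, 54, 89, 90, 113] [15, 32, 59, 106, 110, 124] (by decide +kernel)
    (C.pT (f12565 C)
    (C.pH [8, 30, 65, 84, 94, 117] [5, 54, 83, 94, 112] (by decide +kernel) (C.pNil _ _)))))
    (C.pH [26, 38, 54, 89, 90, 113] [14, 32, 55, 73, 98, 116] (by decide +kernel)
    (C.pT (f12567 C)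
    (C.pH [8, 30, 65, 84, 94, 117] [12, 42, 52, 71, 95, 110, 111] (by decide +kernel) (C.pNil _ _))))
    (C.loop_of_one (relLoop2 C) _ _)

theorem f12569 : C.T (v18 C) [12, 40, 57, 94, 111] (v18 C) [5, 54, 83, 94, 112] :=
  C.flip (f12568 C)

theorem f12570 : C.T (v3 C) [16, 45, 58, 72, 92, 110, 121] (v17 C) [6, 43, 63, 80, 92, 110, 120] :=
  C.conv (f6814 C) (f7361 C) (f7361 C) _ [126, 150, 165, 171, 177] _ (by decide +kernel) (by decide +kernel) (by decide +kernel)

theorem f12571 : C.S (v3 C) [21, 46, 68, 75, 95] :=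
  C.stMul (f335 C) (f7363 C) _ (by decide +kernel)

theorem f12572 : C.S (v3 C) [14, 46, 79, 106, 123] :=
  C.stMul (f353 C) (f12571 C) _ (by decide +kernel)

theorem f12573 : C.T (v3 C) [24, 47, 62, 88, 95, 109, 111] (v17 C) [23, 32, 52, 88, 96, 116] :=
  C.conv (f6814 C) (f7361 C) (f12572 C) _ [144, 157, 172] _ (by decide +kernel) (by decide +kernel) (by decide +kernel)

theorem f12574 : C.T (v17 C) [23, 32, 52, 88, 96, 116] (v3 C) [24, 47, 62, 88, 95, 109, 111] :=
  C.flip (f12573 C)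

theorem f12575 : C.S (v17 C) [51, 81, 96, 109, 125] :=
  C.stMul (f4132 C) (f4137 C) _ (by decide +kernel)

theorem f12576 : C.T (v17 C) [13, 42, 54, 70, 91, 109, 115] (v18 C) [25, 44, 50, 85, 99, 110, 111] :=
  C.conv (f8664 C) (f12575 C) (f4132 C) _ [129, 150, 167, 173] _ (by decide +kernel) (by decide +kernel) (by decide +kernel)

theorem f12577 : C.T (v18 C) [25, 44, 50, 85, 99, 110, 111] (v17 C) [13, 42, 54, 70, 91, 109, 115] :=
  C.flip (f12576 C)

theorem f12578 : C.T (v17 C) [4, 41, 51, 82, 101, 110, 112] (v18 C) [4, 29, 62, 81, 97, 109, 124] :=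
  C.closeT (p := (v3 C)) (pu := [16, 45, 58, 72, 92, 110, 121])
    (C.pT (f12570 C)
    (C.pH [26, 38, 54, 89, 90, 113] [4, 41, 51, 82, 101, 110, 112] (by decide +kernel) (C.pNil _ _)))
    (C.pH [8, 30, 65, 84, 94, 117] [25, 44, 50, 85, 99, 110, 111] (by decide +kernel)
    (C.pT (f12577 C)
    (C.pH [26, 38, 54, 89, 90, 113] [23, 32, 52, 88, 96, 116] (by decide +kernel)
    (C.pT (f12574 C)
    (C.pH [8, 30, 65, 84, 94, 117] [16, 45, 58, 72, 92, 110, 121] (by decide +kernel) (C.pNil _ _))))))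
    (C.loop_of_one (relLoop2 C) _ _)

theorem f12579 : C.T (v18 C) [4, 29, 62, 81, 97, 109, 124] (v17 C) [4, 41, 51, 82, 101, 110, 112] :=
  C.flip (f12578 C)

theorem f12580 : C.T (v3 C) [5, 34, 68, 70, 106, 109, 125] (v17 C) [48, 53, 81, 106, 109, 117] :=
  C.conv (f6814 C) (f7361 C) (f7361 C) _ [133, 158, 168, 171, 178] _ (by decide +kernel) (by decide +kernel) (by decide +kernel)

theorem f12581 : C.T (v3 C) [14, 46, 56, 74, 110, 125] (v18 C) [21, 30, 50, 86, 98, 109, 112] :=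
  C.conv (f8223 C) (f8361 C) (f8360 C) _ [158, 170, 172] _ (by decide +kernel) (by decide +kernel) (by decide +kernel)

theorem f12582 : C.T (v18 C) [21, 30, 50, 86, 98, 109, 112] (v3 C) [14, 46, 56, 74, 110, 125] :=
  C.flip (f12581 C)

theorem f12583 : C.T (v18 C) [10, 33, 68, 74, 110, 114] (v18 C) [15, 32, 66, 88, 106, 110, 118] :=
  C.conv (f11639 C) (f7121 C) (f7121 C) _ [138, 158, 164, 178] _ (by decide +kernel) (by decide +kernel) (by decide +kernel)

theorem f12584 : C.T (v18 C) [15, 32, 66, 88, 106, 110, 118] (v18 C) [10, 33, 68, 74, 110, 114] :=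
  C.flip (f12583 C)

theorem f12585 : C.T (v17 C) [26, 45, 61, 79, 107, 118] (v18 C) [10, 46, 67, 107, 109, 125] :=
  C.closeT (p := (v3 C)) (pu := [5, 34, 68, 70, 106, 109, 125])
    (C.pT (f12580 C)
    (C.pH [26, 38, 54, 89, 90, 113] [26, 45, 61, 79, 107, 118] (by decide +kernel) (C.pNil _ _)))
    (C.pH [8, 30, 65, 84, 94, 117] [15, 32, 66, 88, 106, 110, 118] (by decide +kernel)
    (C.pT (f12584 C)
    (C.pH [26, 38, 54, 89, 90, 113] [21, 30, 50, 86, 98, 109, 112] (by decide +kernel)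
    (C.pT (f12582 C)
    (C.pH [8, 30, 65, 84, 94, 117] [5, 34, 68, 70, 106, 109, 125] (by decide +kernel) (C.pNil _ _))))))
    (C.loop_of_one (relLoop2 C) _ _)

theorem f12586 : C.T (v18 C) [10, 46, 67, 107, 109, 125] (v17 C) [26, 45, 61, 79, 107, 118] :=
  C.flip (f12585 C)

theorem f12587 : C.T (v3 C) [8, 32, 59, 86, 98, 110, 111] (v17 C) [12, 34, 60, 85, 98, 111] :=
  C.conv (f6814 C) (f7361 C) (f7361 C) _ [157, 166, 173, 178] _ (by decide +kernel) (by decide +kernel) (by decide +kernel)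

theorem f12588 : C.S (v3 C) [18, 43, 59, 78, 90, 110, 111] :=
  C.stMul (f353 C) (f7403 C) _ (by decide +kernel)

theorem f12589 : C.S (v3 C) [38, 66, 70, 98, 110, 116] :=
  C.stMul (f331 C) (f12588 C) _ (by decide +kernel)

theorem f12590 : C.S (v3 C) [9, 39, 64, 82, 92, 109, 114] :=
  C.stMul (f353 C) (f12589 C) _ (by decide +kernel)

theorem f12591 : C.T (v3 C) [41, 57, 81, 98, 119] (v18 C) [10, 47, 86, 104] :=
  C.conv (f6916 C) (f7402 C) (f12590 C) _ [127, 161, 167, 173, 177] _ (by decide +kernel) (by decide +kernel) (by decide +kernel)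

theorem f12592 : C.T (v18 C) [10, 47, 86, 104] (v3 C) [41, 57, 81, 98, 119] :=
  C.flip (f12591 C)

theorem f12593 : C.S (v18 C) [26, 43, 49, 77, 91, 110, 115] :=
  C.stMul (f6836 C) (f6836 C) _ (by decide +kernel)

theorem f12594 : C.T (v18 C) [18, 43, 67, 80, 94, 110, 121] (v18 C) [21, 33, 49, 98, 120] :=
  C.conv (f11683 C) (f12593 C) (f6836 C) _ [133, 152, 164, 174, 177] _ (by decide +kernel) (by decide +kernel) (by decide +kernel)

theorem f12595 : C.T (v18 C) [21, 33, 49, 98, 120] (v18 C) [18, 43, 67, 80, 94, 110, 121] :=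
  C.flip (f12594 C)

theorem f12596 : C.T (v17 C) [14, 40, 52, 85, 94, 109, 119] (v18 C) [12, 46, 65, 86, 101, 110, 122] :=
  C.closeT (p := (v3 C)) (pu := [8, 32, 59, 86, 98, 110, 111])
    (C.pT (f12587 C)
    (C.pH [26, 38, 54, 89, 90, 113] [14, 40, 52, 85, 94, 109, 119] (by decide +kernel) (C.pNil _ _)))
    (C.pH [8, 30, 65, 84, 94, 117] [21, 33, 49, 98, 120] (by decide +kernel)
    (C.pT (f12595 C)
    (C.pH [26, 38, 54, 89, 90, 113] [10, 47, 86, 104] (by decide +kernel)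
    (C.pT (f12592 C)
    (C.pH [8, 30, 65, 84, 94, 117] [8, 32, 59, 86, 98, 110, 111] (by decide +kernel) (C.pNil _ _))))))
    (C.loop_of_one (relLoop2 C) _ _)

theorem f12597 : C.T (v18 C) [12, 46, 65, 86, 101, 110, 122] (v17 C) [14, 40, 52, 85, 94, 109, 119] :=
  C.flip (f12596 C)

theorem f12598 : C.T (v3 C) [29, 49, 94, 110, 113] (v17 C) [26, 61, 89, 93, 109, 121] :=
  C.conv (f6814 C) (f7361 C) (f7361 C) _ [138, 151, 164, 175, 177] _ (by decide +kernel) (by decide +kernel) (by decide +kernel)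

theorem f12599 : C.S (v17 C) [23, 31, 49, 84, 96, 117] :=
  C.stMul (f4137 C) (f4137 C) _ (by decide +kernel)

theorem f12600 : C.T (v17 C) [16, 48, 66, 72, 99, 109, 124] (v18 C) [19, 36, 50, 78, 104, 112] :=
  C.conv (f11947 C) (f12599 C) (f4137 C) _ [142, 163, 164, 177] _ (by decide +kernel) (by decide +kernel) (by decide +kernel)

theorem f12601 : C.S (v3 C) [18, 35, 57, 82, 93, 110, 115] :=
  C.stMul (f353 C) (f331 C) _ (by decide +kernel)

theorem f12602 : C.S (v3 C) [6, 45, 53, 79, 94, 110, 115] :=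
  C.stMul (f335 C) (f12601 C) _ (by decide +kernel)

theorem f12603 : C.S (v3 C) [26, 27, 69, 86, 106, 110, 119] :=
  C.stMul (f353 C) (f12602 C) _ (by decide +kernel)

theorem f12604 : C.T (v3 C) [8, 45, 69, 71, 105, 116] (v18 C) [7, 31, 54, 81, 108, 109, 117] :=
  C.conv (f8165 C) (f8200 C) (f12603 C) _ [138, 151, 178] _ (by decide +kernel) (by decide +kernel) (by decide +kernel)

theorem f12605 : C.T (v18 C) [7, 31, 54, 81, 108, 109, 117] (v3 C) [8, 45, 69, 71, 105, 116] :=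
  C.flip (f12604 C)

theorem f12606 : C.T (v18 C) [26, 28, 55, 71, 91, 109, 125] (v18 C) [23, 45, 57, 71, 94, 116] :=
  C.closeT (p := (v3 C)) (pu := [29, 49, 94, 110, 113])
    (C.pT (f12598 C)
    (C.pH [26, 38, 54, 89, 90, 113] [16, 48, 66, 72, 99, 109, 124] (by decide +kernel)
    (C.pT (f12600 C)
    (C.pH [8, 30, 65, 84, 94, 117] [26, 28, 55, 71, 91, 109, 125] (by decide +kernel) (C.pNil _ _)))))
    (C.pH [26, 38, 54, 89, 90, 113] [7, 31, 54, 81, 108, 109, 117] (by decide +kernel)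
    (C.pT (f12605 C)
    (C.pH [8, 30, 65, 84, 94, 117] [29, 49, 94, 110, 113] (by decide +kernel) (C.pNil _ _))))
    (C.loop_of_one (relLoop2 C) _ _)

theorem f12607 : C.T (v18 C) [23, 45, 57, 71, 94, 116] (v18 C) [26, 28, 55, 71, 91, 109, 125] :=
  C.flip (f12606 C)

theorem f12608 : C.T (v3 C) [42, 57, 104, 110, 121] (v17 C) [4, 46, 62, 86, 106, 124] :=
  C.conv (f6814 C) (f7361 C) (f7361 C) _ [131, 156, 171, 177] _ (by decide +kernel) (by decide +kernel) (by decide +kernel)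

theorem f12609 : C.T (v17 C) [25, 45, 61, 79, 108, 110] (v18 C) [10, 34, 68, 88, 99, 109] :=
  C.conv (f12163 C) (f4137 C) (f4300 C) _ [136, 153, 169, 173, 178] _ (by decide +kernel) (by decide +kernel) (by decide +kernel)

theorem f12610 : C.S (v3 C) [13, 29, 60, 92, 109, 121] :=
  C.stMul (f353 C) (f328 C) _ (by decide +kernel)

theorem f12611 : C.S (v3 C) [8, 48, 63, 86, 90, 110, 123] :=
  C.stMul (f331 C) (f12610 C) _ (by decide +kernel)

theorem f12612 : C.S (v3 C) [8, 39, 58, 72, 107, 109, 119] :=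
  C.stMul (f328 C) (f12611 C) _ (by decide +kernel)

theorem f12613 : C.T (v3 C) [8, 42, 60, 88, 94, 115] (v18 C) [24, 44, 59, 72, 100, 109, 111] :=
  C.conv (f8223 C) (f8361 C) (f12612 C) _ [142, 170, 172, 177] _ (by decide +kernel) (by decide +kernel) (by decide +kernel)

theorem f12614 : C.T (v18 C) [24, 44, 59, 72, 100, 109, 111] (v3 C) [8, 42, 60, 88, 94, 115] :=
  C.flip (f12613 C)

theorem f12615 : C.T (v18 C) [15, 45, 55, 79, 108, 120] (v18 C) [11, 42, 53, 80, 106, 116] :=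
  C.closeT (p := (v3 C)) (pu := [42, 57, 104, 110, 121])
    (C.pT (f12608 C)
    (C.pH [26, 38, 54, 89, 90, 113] [25, 45, 61, 79, 108, 110] (by decide +kernel)
    (C.pT (f12609 C)
    (C.pH [8, 30, 65, 84, 94, 117] [15, 45, 55, 79, 108, 120] (by decide +kernel) (C.pNil _ _)))))
    (C.pH [26, 38, 54, 89, 90, 113] [24, 44, 59, 72, 100, 109, 111] (by decide +kernel)
    (C.pT (f12614 C)
    (C.pH [8, 30, 65, 84, 94, 117] [42, 57, 104, 110, 121] (by decide +kernel) (C.pNil _ _))))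
    (C.loop_of_one (relLoop2 C) _ _)

theorem f12616 : C.T (v18 C) [11, 42, 53, 80, 106, 116] (v18 C) [15, 45, 55, 79, 108, 120] :=
  C.flip (f12615 C)

theorem f12617 : C.T (v3 C) [9, 39, 64, 75, 101, 109, 123] (v17 C) [12, 28, 53, 76, 95, 110, 121] :=
  C.conv (f6814 C) (f7361 C) (f7361 C) _ [140, 149, 165, 172] _ (by decide +kernel) (by decide +kernel) (by decide +kernel)

theorem f12618 : C.S (v17 C) [23, 31, 75, 92, 109, 116] :=
  C.stMul (f4137 C) (f4132 C) _ (by decide +kernel)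

theorem f12619 : C.T (v17 C) [14, 87, 93, 109, 113] (v18 C) [9, 33, 55, 89, 91, 109, 121] :=
  C.conv (f8952 C) (f12618 C) (f12618 C) _ [140, 161, 166, 172, 178] _ (by decide +kernel) (by decide +kernel) (by decide +kernel)

theorem f12620 : C.S (v3 C) [21, 27, 55, 84, 96, 110] :=
  C.stMul (f331 C) (f9478 C) _ (by decide +kernel)

theorem f12621 : C.S (v3 C) [14, 43, 58, 72, 107, 110, 114] :=
  C.stMul (f353 C) (f12620 C) _ (by decide +kernel)

theorem f12622 : C.T (v3 C) [25, 46, 59, 70, 92, 114] (v18 C) [10, 30, 55, 71, 90, 118] :=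
  C.conv (f6902 C) (f7285 C) (f12621 C) _ [129, 153, 170, 173, 177] _ (by decide +kernel) (by decide +kernel) (by decide +kernel)

theorem f12623 : C.T (v18 C) [10, 30, 55, 71, 90, 118] (v3 C) [25, 46, 59, 70, 92, 114] :=
  C.flip (f12622 C)

theorem f12624 : C.T (v18 C) [18, 39, 57, 75, 99, 110, 117] (v18 C) [18, 31, 66, 75, 101, 110, 111] :=
  C.closeT (p := (v3 C)) (pu := [9, 39, 64, 75, 101, 109, 123])
    (C.pT (f12617 C)
    (C.pH [26, 38, 54, 89, 90, 113] [14, 87, 93, 109, 113] (by decide +kernel)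
    (C.pT (f12619 C)
    (C.pH [8, 30, 65, 84, 94, 117] [18, 39, 57, 75, 99, 110, 117] (by decide +kernel) (C.pNil _ _)))))
    (C.pH [26, 38, 54, 89, 90, 113] [10, 30, 55, 71, 90, 118] (by decide +kernel)
    (C.pT (f12623 C)
    (C.pH [8, 30, 65, 84, 94, 117] [9, 39, 64, 75, 101, 109, 123] (by decide +kernel) (C.pNil _ _))))
    (C.loop_of_one (relLoop2 C) _ _)

theorem f12628 : C.T (v3 C) [5, 33, 68, 80, 97, 110, 111] (v17 C) [36, 58, 107, 110, 119] :=
  C.conv (f6814 C) (f7361 C) (f7361 C) _ [145, 157, 169, 178] _ (by decide +kernel) (by decide +kernel) (by decide +kernel)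

theorem f12629 : C.S (v17 C) [23, 31, 49, 84, 96, 117] :=
  C.stMul (f4137 C) (f4137 C) _ (by decide +kernel)

theorem f12630 : C.T (v17 C) [26, 41, 61, 89, 92, 122] (v18 C) [14, 43, 65, 71, 96, 109] :=
  C.conv (f9556 C) (f10591 C) (f12629 C) _ [142, 162, 168, 176, 177] _ (by decide +kernel) (by decide +kernel) (by decide +kernel)

theorem f12631 : C.T (v3 C) [14, 28, 50, 72, 97, 109, 123] (v18 C) [4, 27, 80, 104, 111] :=
  C.conv (f7327 C) (f7806 C) (f8148 C) _ [145, 156, 175, 178] _ (by decide +kernel) (by decide +kernel) (by decide +kernel)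

theorem f12632 : C.T (v18 C) [4, 27, 80, 104, 111] (v3 C) [14, 28, 50, 72, 97, 109, 123] :=
  C.flip (f12631 C)

theorem f12633 : C.T (v18 C) [5, 44, 56, 83, 93, 109, 120] (v18 C) [6, 42, 54, 83, 107, 116] :=
  C.closeT (p := (v3 C)) (pu := [5, 33, 68, 80, 97, 110, 111])
    (C.pT (f12628 C)
    (C.pH [26, 38, 54, 89, 90, 113] [26, 41, 61, 89, 92, 122] (by decide +kernel)
    (C.pT (f12630 C)
    (C.pH [8, 30, 65, 84, 94, 117] [5, 44, 56, 83, 93, 109, 120] (by decide +kernel) (C.pNil _ _)))))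
    (C.pH [26, 38, 54, 89, 90, 113] [4, 27, 80, 104, 111] (by decide +kernel)
    (C.pT (f12632 C)
    (C.pH [8, 30, 65, 84, 94, 117] [5, 33, 68, 80, 97, 110, 111] (by decide +kernel) (C.pNil _ _))))
    (C.loop_of_one (relLoop2 C) _ _)

theorem f12634 : C.T (v18 C) [6, 42, 54, 83, 107, 116] (v18 C) [5, 44, 56, 83, 93, 109, 120] :=
  C.flip (f12633 C)

theorem f12635 : C.T (v3 C) [20, 30, 67, 80, 90, 110, 124] (v17 C) [13, 45, 53, 74, 98, 109, 120] :=
  C.conv (f6814 C) (f7361 C) (f7361 C) _ [128, 156, 167, 173] _ (by decide +kernel) (by decide +kernel) (by decide +kernel)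

theorem f12636 : C.S (v17 C) [23, 31, 49, 84, 96, 117] :=
  C.stMul (f4137 C) (f4137 C) _ (by decide +kernel)

theorem f12637 : C.T (v17 C) [23, 27, 55, 105, 117] (v15 C) [9, 28, 63, 74, 109, 115] :=
  C.conv (f4727 C) (f4300 C) (f12636 C) _ [136, 162, 167, 175, 178] _ (by decide +kernel) (by decide +kernel) (by decide +kernel)

theorem f12638 : C.S (v3 C) [5, 30, 57, 77, 122] :=
  C.stMul (f331 C) (f9255 C) _ (by decide +kernel)

theorem f12639 : C.S (v3 C) [19, 35, 61, 76, 100] :=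
  C.stMul (f353 C) (f12638 C) _ (by decide +kernel)

theorem f12640 : C.S (v3 C) [9, 33, 51, 77, 105] :=
  C.stMul (f331 C) (f12639 C) _ (by decide +kernel)

theorem f12641 : C.T (v3 C) [16, 44, 63, 81, 102, 109, 120] (v18 C) [12, 39, 57, 89, 108, 110, 125] :=
  C.conv (f8216 C) (f8435 C) (f12640 C) _ [129, 169, 171, 177] _ (by decide +kernel) (by decide +kernel) (by decide +kernel)

theorem f12642 : C.T (v18 C) [12, 39, 57, 89, 108, 110, 125] (v3 C) [16, 44, 63, 81, 102, 109, 120] :=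
  C.flip (f12641 C)

theorem f12643 : C.T (v15 C) [18, 40, 51, 74, 103, 109, 117] (v18 C) [24, 49, 82, 97, 110, 117] :=
  C.closeT (p := (v3 C)) (pu := [20, 30, 67, 80, 90, 110, 124])
    (C.pT (f12635 C)
    (C.pH [26, 38, 54, 89, 90, 113] [23, 27, 55, 105, 117] (by decide +kernel)
    (C.pT (f12637 C)
    (C.pH [8, 30, 65, 84, 94, 117] [18, 40, 51, 74, 103, 109, 117] (by decide +kernel) (C.pNil _ _)))))
    (C.pH [26, 38, 54, 89, 90, 113] [12, 39, 57, 89, 108, 110, 125] (by decide +kernel)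
    (C.pT (f12642 C)
    (C.pH [8, 30, 65, 84, 94, 117] [20, 30, 67, 80, 90, 110, 124] (by decide +kernel) (C.pNil _ _))))
    (C.loop_of_one (relLoop2 C) _ _)

theorem f12644 : C.T (v18 C) [24, 49, 82, 97, 110, 117] (v15 C) [18, 40, 51, 74, 103, 109, 117] :=
  C.flip (f12643 C)

theorem f12645 : C.T (v3 C) [22, 33, 63, 78, 96, 121] (v17 C) [17, 30, 60, 85, 90, 109, 119] :=
  C.conv (f6814 C) (f7361 C) (f7361 C) _ [130, 162, 169, 171] _ (by decide +kernel) (by decide +kernel) (by decide +kernel)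

theorem f12646 : C.S (v17 C) [23, 31, 75, 92, 109, 116] :=
  C.stMul (f4137 C) (f4132 C) _ (by decide +kernel)

theorem f12647 : C.S (v17 C) [51, 81, 96, 109, 125] :=
  C.stMul (f4132 C) (f4137 C) _ (by decide +kernel)

theorem f12648 : C.T (v17 C) [20, 28, 63, 70, 94, 115] (v18 C) [21, 29, 51, 78, 92, 110] :=
  C.conv (f9825 C) (f12646 C) (f12647 C) _ [148, 159, 168, 175, 177] _ (by decide +kernel) (by decide +kernel) (by decide +kernel)

theorem f12649 : C.S (v3 C) [18, 43, 59, 78, 90, 110, 111] :=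
  C.stMul (f353 C) (f9280 C) _ (by decide +kernel)

theorem f12650 : C.S (v3 C) [38, 66, 70, 98, 110, 116] :=
  C.stMul (f331 C) (f12649 C) _ (by decide +kernel)

theorem f12651 : C.S (v3 C) [9, 39, 64, 82, 92, 109, 114] :=
  C.stMul (f353 C) (f12650 C) _ (by decide +kernel)

theorem f12652 : C.T (v3 C) [17, 29, 68, 81, 100, 110, 114] (v18 C) [12, 36, 63, 85, 92, 110, 117] :=
  C.conv (f9221 C) (f9279 C) (f12651 C) _ [148, 163, 165, 171] _ (by decide +kernel) (by decide +kernel) (by decide +kernel)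

theorem f12653 : C.T (v18 C) [12, 36, 63, 85, 92, 110, 117] (v3 C) [17, 29, 68, 81, 100, 110, 114] :=
  C.flip (f12652 C)

theorem f12654 : C.T (v18 C) [24, 41, 57, 85, 105, 121] (v18 C) [24, 39, 56, 77, 101, 109, 119] :=
  C.closeT (p := (v3 C)) (pu := [22, 33, 63, 78, 96, 121])
    (C.pT (f12645 C)
    (C.pH [26, 38, 54, 89, 90, 113] [20, 28, 63, 70, 94, 115] (by decide +kernel)
    (C.pT (f12648 C)
    (C.pH [8, 30, 65, 84, 94, 117] [24, 41, 57, 85, 105, 121] (by decide +kernel) (C.pNil _ _)))))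
    (C.pH [26, 38, 54, 89, 90, 113] [12, 36, 63, 85, 92, 110, 117] (by decide +kernel)
    (C.pT (f12653 C)
    (C.pH [8, 30, 65, 84, 94, 117] [22, 33, 63, 78, 96, 121] (by decide +kernel) (C.pNil _ _))))
    (C.loop_of_one (relLoop2 C) _ _)

theorem f12657 : C.T (v3 C) [8, 32, 54, 84, 95, 109, 114] (v17 C) [11, 43, 57, 85, 110, 116] :=
  C.conv (f6814 C) (f7361 C) (f7361 C) _ [140, 150, 168, 174, 177] _ (by decide +kernel) (by decide +kernel) (by decide +kernel)

theorem f12658 : C.S (v3 C) [8, 39, 58, 72, 107, 109, 119] :=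
  C.stMul (f328 C) (f9851 C) _ (by decide +kernel)

theorem f12659 : C.S (v3 C) [14, 32, 62, 79, 99, 109, 121] :=
  C.stMul (f335 C) (f12658 C) _ (by decide +kernel)

theorem f12660 : C.T (v3 C) [41, 59, 74, 105, 123] (v18 C) [26, 42, 68, 108, 125] :=
  C.conv (f9184 C) (f9232 C) (f12659 C) _ [130, 155, 167, 172, 178] _ (by decide +kernel) (by decide +kernel) (by decide +kernel)

theorem f12661 : C.T (v18 C) [26, 42, 68, 108, 125] (v3 C) [41, 59, 74, 105, 123] :=
  C.flip (f12660 C)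

theorem f12662 : C.S (v18 C) [26, 43, 49, 77, 91, 110, 115] :=
  C.stMul (f6836 C) (f6836 C) _ (by decide +kernel)

theorem f12663 : C.T (v18 C) [39, 52, 83, 92, 110, 123] (v18 C) [9, 28, 65, 71, 96, 109, 114] :=
  C.conv (f9811 C) (f12662 C) (f6836 C) _ [129, 150, 169, 172] _ (by decide +kernel) (by decide +kernel) (by decide +kernel)

theorem f12664 : C.T (v18 C) [9, 28, 65, 71, 96, 109, 114] (v18 C) [39, 52, 83, 92, 110, 123] :=
  C.flip (f12663 C)

theorem f12665 : C.T (v17 C) [24, 43, 54, 71, 100, 120] (v18 C) [25, 36, 65, 84, 96, 109, 114] :=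
  C.closeT (p := (v3 C)) (pu := [8, 32, 54, 84, 95, 109, 114])
    (C.pT (f12657 C)
    (C.pH [26, 38, 54, 89, 90, 113] [24, 43, 54, 71, 100, 120] (by decide +kernel) (C.pNil _ _)))
    (C.pH [8, 30, 65, 84, 94, 117] [9, 28, 65, 71, 96, 109, 114] (by decide +kernel)
    (C.pT (f12664 C)
    (C.pH [26, 38, 54, 89, 90, 113] [26, 42, 68, 108, 125] (by decide +kernel)
    (C.pT (f12661 C)
    (C.pH [8, 30, 65, 84, 94, 117] [8, 32, 54, 84, 95, 109, 114] (by decide +kernel) (C.pNil _ _))))))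
    (C.loop_of_one (relLoop2 C) _ _)

theorem f12666 : C.T (v18 C) [25, 36, 65, 84, 96, 109, 114] (v17 C) [24, 43, 54, 71, 100, 120] :=
  C.flip (f12665 C)

theorem f12667 : C.T (v3 C) [14, 53, 70, 102, 118] (v17 C) [19, 43, 63, 78, 103] :=
  C.conv (f6822 C) (f7297 C) (f7297 C) _ [136, 153, 173, 177] _ (by decide +kernel) (by decide +kernel) (by decide +kernel)

theorem f12668 : C.T (v17 C) [17, 48, 62, 79, 105, 109, 122] (v17 C) [26, 28, 55, 85, 98] :=
  C.conv (f6185 C) (f4132 C) (f4300 C) _ [143, 169, 173, 178] _ (by decide +kernel) (by decide +kernel) (by decide +kernel)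

theorem f12669 : C.T (v3 C) [26, 46, 59, 83, 94, 116] (v18 C) [8, 57, 85, 90, 110, 122] :=
  C.conv (f9221 C) (f9279 C) (f11321 C) _ [133, 163, 168, 173, 177] _ (by decide +kernel) (by decide +kernel) (by decide +kernel)

theorem f12670 : C.T (v18 C) [8, 57, 85, 90, 110, 122] (v3 C) [26, 46, 59, 83, 94, 116] :=
  C.flip (f12669 C)

theorem f12671 : C.T (v17 C) [14, 30, 63, 86, 99, 109, 116] (v18 C) [5, 41, 52, 84, 99, 110, 122] :=
  C.closeT (p := (v3 C)) (pu := [14, 53, 70, 102, 118])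
    (C.pT (f12667 C)
    (C.pH [26, 38, 54, 89, 90, 113] [17, 48, 62, 79, 105, 109, 122] (by decide +kernel)
    (C.pT (f12668 C)
    (C.pH [8, 30, 65, 84, 94, 117] [14, 30, 63, 86, 99, 109, 116] (by decide +kernel) (C.pNil _ _)))))
    (C.pH [26, 38, 54, 89, 90, 113] [8, 57, 85, 90, 110, 122] (by decide +kernel)
    (C.pT (f12670 C)
    (C.pH [8, 30, 65, 84, 94, 117] [14, 53, 70, 102, 118] (by decide +kernel) (C.pNil _ _))))
    (C.loop_of_one (relLoop2 C) _ _)

theorem f12672 : C.T (v18 C) [5, 41, 52, 84, 99, 110, 122] (v17 C) [14, 30, 63, 86, 99, 109, 116] :=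
  C.flip (f12671 C)

theorem f12673 : C.T (v3 C) [17, 29, 64, 89, 100, 121] (v17 C) [14, 47, 58, 75, 103, 121] :=
  C.conv (f6822 C) (f7297 C) (f7297 C) _ [139, 163, 167, 176, 177] _ (by decide +kernel) (by decide +kernel) (by decide +kernel)

theorem f12674 : C.T (v17 C) [5, 42, 62, 80, 98, 125] (v17 C) [22, 45, 50, 80, 98, 110, 123] :=
  C.conv (f5252 C) (f4137 C) (f4132 C) _ [131, 165, 176] _ (by decide +kernel) (by decide +kernel) (by decide +kernel)

theorem f12675 : C.S (v3 C) [11, 28, 50, 85, 94, 124] :=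
  C.stMul (f353 C) (f8433 C) _ (by decide +kernel)

theorem f12676 : C.T (v3 C) [7, 38, 59, 76, 99, 109, 123] (v18 C) [17, 28, 62, 76, 109, 116] :=
  C.conv (f8216 C) (f8435 C) (f12675 C) _ [137, 162, 174, 177] _ (by decide +kernel) (by decide +kernel) (by decide +kernel)

theorem f12677 : C.T (v18 C) [17, 28, 62, 76, 109, 116] (v3 C) [7, 38, 59, 76, 99, 109, 123] :=
  C.flip (f12676 C)

theorem f12678 : C.T (v17 C) [6, 40, 55, 72, 108, 109] (v18 C) [19, 46, 69, 76, 109, 116] :=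
  C.closeT (p := (v3 C)) (pu := [17, 29, 64, 89, 100, 121])
    (C.pT (f12673 C)
    (C.pH [26, 38, 54, 89, 90, 113] [5, 42, 62, 80, 98, 125] (by decide +kernel)
    (C.pT (f12674 C)
    (C.pH [8, 30, 65, 84, 94, 117] [6, 40, 55, 72, 108, 109] (by decide +kernel) (C.pNil _ _)))))
    (C.pH [26, 38, 54, 89, 90, 113] [17, 28, 62, 76, 109, 116] (by decide +kernel)
    (C.pT (f12677 C)
    (C.pH [8, 30, 65, 84, 94, 117] [17, 29, 64, 89, 100, 121] (by decide +kernel) (C.pNil _ _))))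
    (C.loop_of_one (relLoop2 C) _ _)

theorem f12679 : C.T (v18 C) [19, 46, 69, 76, 109, 116] (v17 C) [6, 40, 55, 72, 108, 109] :=
  C.flip (f12678 C)

theorem f12680 : C.T (v3 C) [41, 64, 80, 110, 115] (v17 C) [12, 47, 98, 118] :=
  C.conv (f6822 C) (f7297 C) (f7297 C) _ [150, 166, 171, 177] _ (by decide +kernel) (by decide +kernel) (by decide +kernel)

theorem f12681 : C.S (v17 C) [23, 31, 49, 84, 96, 117] :=
  C.stMul (f4137 C) (f4137 C) _ (by decide +kernel)

theorem f12682 : C.T (v17 C) [14, 30, 57, 80, 94, 109, 124] (v18 C) [7, 35, 51, 70, 110, 119] :=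
  C.conv (f7303 C) (f12681 C) (f4300 C) _ [141, 156, 168, 174, 177] _ (by decide +kernel) (by decide +kernel) (by decide +kernel)

theorem f12683 : C.T (v3 C) [8, 33, 68, 86, 98, 110, 122] (v18 C) [11, 30, 61, 74, 90] :=
  C.conv (f6916 C) (f7402 C) (f9606 C) _ [135, 157, 170] _ (by decide +kernel) (by decide +kernel) (by decide +kernel)

theorem f12684 : C.T (v18 C) [11, 30, 61, 74, 90] (v3 C) [8, 33, 68, 86, 98, 110, 122] :=
  C.flip (f12683 C)

theorem f12685 : C.T (v18 C) [17, 41, 55, 70, 110, 119] (v18 C) [8, 32, 52, 88, 101, 110, 117] :=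
  C.closeT (p := (v3 C)) (pu := [41, 64, 80, 110, 115])
    (C.pT (f12680 C)
    (C.pH [26, 38, 54, 89, 90, 113] [14, 30, 57, 80, 94, 109, 124] (by decide +kernel)
    (C.pT (f12682 C)
    (C.pH [8, 30, 65, 84, 94, 117] [17, 41, 55, 70, 110, 119] (by decide +kernel) (C.pNil _ _)))))
    (C.pH [26, 38, 54, 89, 90, 113] [11, 30, 61, 74, 90] (by decide +kernel)
    (C.pT (f12684 C)
    (C.pH [8, 30, 65, 84, 94, 117] [41, 64, 80, 110, 115] (by decide +kernel) (C.pNil _ _))))
    (C.loop_of_one (relLoop2 C) _ _)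

theorem f12686 : C.T (v18 C) [8, 32, 52, 88, 101, 110, 117] (v18 C) [17, 41, 55, 70, 110, 119] :=
  C.flip (f12685 C)

theorem f12687 : C.T (v3 C) [9, 44, 63, 73, 107, 109, 116] (v17 C) [24, 44, 62, 106, 109, 113] :=
  C.conv (f6822 C) (f7297 C) (f7297 C) _ [131, 154, 168, 172] _ (by decide +kernel) (by decide +kernel) (by decide +kernel)

theorem f12688 : C.T (v17 C) [12, 48, 63, 84, 90, 111] (v17 C) [22, 46, 67, 79, 104, 109, 113] :=
  C.conv (f6612 C) (f4300 C) (f4132 C) _ [129, 150, 167, 173, 178] _ (by decide +kernel) (by decide +kernel) (by decide +kernel)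

theorem f12689 : C.S (v3 C) [4, 30, 49, 89, 105, 125] :=
  C.stMul (f353 C) (f9956 C) _ (by decide +kernel)

theorem f12690 : C.S (v3 C) [12, 54, 72, 97, 111] :=
  C.stMul (f335 C) (f12689 C) _ (by decide +kernel)

theorem f12691 : C.T (v3 C) [25, 31, 55, 70, 107, 110, 119] (v18 C) [10, 47, 57, 75, 103, 109] :=
  C.conv (f6888 C) (f7333 C) (f12690 C) _ [126, 154, 174, 177] _ (by decide +kernel) (by decide +kernel) (by decide +kernel)

theorem f12692 : C.T (v18 C) [10, 47, 57, 75, 103, 109] (v3 C) [25, 31, 55, 70, 107, 110, 119] :=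
  C.flip (f12691 C)

theorem f12693 : C.T (v17 C) [6, 45, 49, 83, 91, 110, 117] (v18 C) [18, 43, 68, 75, 98, 123] :=
  C.closeT (p := (v3 C)) (pu := [9, 44, 63, 73, 107, 109, 116])
    (C.pT (f12687 C)
    (C.pH [26, 38, 54, 89, 90, 113] [12, 48, 63, 84, 90, 111] (by decide +kernel)
    (C.pT (f12688 C)
    (C.pH [8, 30, 65, 84, 94, 117] [6, 45, 49, 83, 91, 110, 117] (by decide +kernel) (C.pNil _ _)))))
    (C.pH [26, 38, 54, 89, 90, 113] [10, 47, 57, 75, 103, 109] (by decide +kernel)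
    (C.pT (f12692 C)
    (C.pH [8, 30, 65, 84, 94, 117] [9, 44, 63, 73, 107, 109, 116] (by decide +kernel) (C.pNil _ _))))
    (C.loop_of_one (relLoop2 C) _ _)

theorem f12694 : C.T (v18 C) [18, 43, 68, 75, 98, 123] (v17 C) [6, 45, 49, 83, 91, 110, 117] :=
  C.flip (f12693 C)

theorem f12695 : C.T (v3 C) [10, 30, 57, 78, 103, 123] (v17 C) [13, 33, 64, 89, 102] :=
  C.conv (f6822 C) (f7297 C) (f7297 C) _ [132, 161, 175, 177] _ (by decide +kernel) (by decide +kernel) (by decide +kernel)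

theorem f12696 : C.S (v3 C) [15, 34, 56, 71, 106, 109, 117] :=
  C.stMul (f331 C) (f353 C) _ (by decide +kernel)

theorem f12697 : C.S (v3 C) [8, 29, 61, 75, 96, 110, 111] :=
  C.stMul (f353 C) (f12696 C) _ (by decide +kernel)

theorem f12698 : C.T (v3 C) [23, 43, 65, 81, 99, 121] (v2 C) [8, 32, 59, 70, 101, 110, 112] :=
  C.conv (f818 C) (f10121 C) (f12697 C) _ [139, 150, 166, 171, 177] _ (by decide +kernel) (by decide +kernel) (by decide +kernel)

theorem f12699 : C.T (v2 C) [8, 32, 59, 70, 101, 110, 112] (v3 C) [23, 43, 65, 81, 99, 121] :=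
  C.flip (f12698 C)

theorem f12700 : C.S (v2 C) [13, 27, 59, 85, 101, 109, 113] :=
  C.stMul (f243 C) (f115 C) _ (by decide +kernel)

theorem f12701 : C.S (v2 C) [11, 46, 65, 80, 104, 110, 124] :=
  C.stMul (f138 C) (f12700 C) _ (by decide +kernel)

theorem f12702 : C.S (v2 C) [21, 27, 60, 83, 92, 109, 125] :=
  C.stMul (f109 C) (f12701 C) _ (by decide +kernel)

theorem f12703 : C.T (v2 C) [5, 37, 50, 80, 95, 110, 116] (v18 C) [43, 69, 86, 94, 109, 117] :=
  C.conv (f9873 C) (f9878 C) (f12702 C) _ [148, 149, 164, 175, 177] _ (by decide +kernel) (by decide +kernel) (by decide +kernel)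

theorem f12704 : C.T (v18 C) [43, 69, 86, 94, 109, 117] (v2 C) [5, 37, 50, 80, 95, 110, 116] :=
  C.flip (f12703 C)

theorem f12705 : C.T (v17 C) [23, 36, 59, 85, 95, 118] (v18 C) [8, 43, 51, 71, 108, 121] :=
  C.closeT (p := (v3 C)) (pu := [10, 30, 57, 78, 103, 123])
    (C.pT (f12695 C)
    (C.pH [26, 38, 54, 89, 90, 113] [23, 36, 59, 85, 95, 118] (by decide +kernel) (C.pNil _ _)))
    (C.pH [8, 30, 65, 84, 94, 117] [43, 69, 86, 94, 109, 117] (by decide +kernel)
    (C.pT (f12704 C)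
    (C.pH [26, 38, 54, 89, 90, 113] [8, 32, 59, 70, 101, 110, 112] (by decide +kernel)
    (C.pT (f12699 C)
    (C.pH [8, 30, 65, 84, 94, 117] [10, 30, 57, 78, 103, 123] (by decide +kernel) (C.pNil _ _))))))
    (C.loop_of_one (relLoop2 C) _ _)

theorem f12706 : C.T (v18 C) [8, 43, 51, 71, 108, 121] (v17 C) [23, 36, 59, 85, 95, 118] :=
  C.flip (f12705 C)

theorem f12707 : C.T (v3 C) [25, 38, 58, 87, 98, 117] (v17 C) [21, 45, 49, 84, 91, 110, 113] :=
  C.conv (f6822 C) (f7297 C) (f7297 C) _ [147, 151, 164, 174, 178] _ (by decide +kernel) (by decide +kernel) (by decide +kernel)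

theorem f12708 : C.S (v17 C) [51, 81, 96, 109, 125] :=
  C.stMul (f4132 C) (f4137 C) _ (by decide +kernel)

theorem f12709 : C.T (v17 C) [6, 35, 65, 78, 105, 115] (v17 C) [18, 31, 55, 81, 103, 109, 113] :=
  C.conv (f6597 C) (f12708 C) (f4300 C) _ [148, 162, 166, 174, 178] _ (by decide +kernel) (by decide +kernel) (by decide +kernel)

theorem f12710 : C.S (v3 C) [4, 28, 64, 75, 93, 109, 113] :=
  C.stMul (f328 C) (f12602 C) _ (by decide +kernel)

theorem f12711 : C.T (v3 C) [4, 36, 59, 87, 95, 109] (v18 C) [23, 55, 70, 100, 109, 111] :=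
  C.conv (f8165 C) (f8200 C) (f12710 C) _ [135, 154, 168, 173, 178] _ (by decide +kernel) (by decide +kernel) (by decide +kernel)

theorem f12712 : C.T (v18 C) [23, 55, 70, 100, 109, 111] (v3 C) [4, 36, 59, 87, 95, 109] :=
  C.flip (f12711 C)

theorem f12713 : C.T (v17 C) [4, 38, 50, 89, 92, 125] (v18 C) [13, 30, 55, 80, 98, 110, 120] :=
  C.closeT (p := (v3 C)) (pu := [25, 38, 58, 87, 98, 117])
    (C.pT (f12707 C)
    (C.pH [26, 38, 54, 89, 90, 113] [6, 35, 65, 78, 105, 115] (by decide +kernel)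
    (C.pT (f12709 C)
    (C.pH [8, 30, 65, 84, 94, 117] [4, 38, 50, 89, 92, 125] (by decide +kernel) (C.pNil _ _)))))
    (C.pH [26, 38, 54, 89, 90, 113] [23, 55, 70, 100, 109, 111] (by decide +kernel)
    (C.pT (f12712 C)
    (C.pH [8, 30, 65, 84, 94, 117] [25, 38, 58, 87, 98, 117] (by decide +kernel) (C.pNil _ _))))
    (C.loop_of_one (relLoop2 C) _ _)

theorem f12714 : C.T (v18 C) [13, 30, 55, 80, 98, 110, 120] (v17 C) [4, 38, 50, 89, 92, 125] :=
  C.flip (f12713 C)

theorem f12715 : C.T (v3 C) [25, 35, 58, 78, 102, 109, 111] (v17 C) [17, 33, 64, 71, 104, 110, 111] :=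
  C.conv (f6828 C) (f9427 C) (f9427 C) _ [136, 161, 164, 171] _ (by decide +kernel) (by decide +kernel) (by decide +kernel)

theorem f12716 : C.T (v17 C) [20, 46, 53, 81, 93, 109, 113] (v18 C) [19, 39, 56, 81, 102, 109, 116] :=
  C.conv (f12443 C) (f4137 C) (f4300 C) _ [129, 160, 164, 173] _ (by decide +kernel) (by decide +kernel) (by decide +kernel)

theorem f12717 : C.S (v3 C) [19, 30, 60, 72, 107, 110, 116] :=
  C.stMul (f331 C) (f335 C) _ (by decide +kernel)

theorem f12718 : C.S (v3 C) [26, 29, 49, 97, 123] :=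
  C.stMul (f335 C) (f12717 C) _ (by decide +kernel)

theorem f12719 : C.T (v3 C) [4, 46, 64, 82, 93, 109, 118] (v17 C) [14, 35, 66, 84, 93, 120] :=
  C.conv (f6808 C) (f9290 C) (f12718 C) _ [134, 163, 165, 174, 178] _ (by decide +kernel) (by decide +kernel) (by decide +kernel)

theorem f12720 : C.T (v17 C) [14, 35, 66, 84, 93, 120] (v3 C) [4, 46, 64, 82, 93, 109, 118] :=
  C.flip (f12719 C)

theorem f12721 : C.T (v18 C) [26, 27, 69, 75, 107, 110, 112] (v17 C) [12, 45, 58, 89, 94, 110, 117] :=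
  C.closeT (p := (v3 C)) (pu := [25, 35, 58, 78, 102, 109, 111])
    (C.pT (f12715 C)
    (C.pH [26, 38, 54, 89, 90, 113] [20, 46, 53, 81, 93, 109, 113] (by decide +kernel)
    (C.pT (f12716 C)
    (C.pH [8, 30, 65, 84, 94, 117] [26, 27, 69, 75, 107, 110, 112] (by decide +kernel) (C.pNil _ _)))))
    (C.pH [26, 38, 54, 89, 90, 113] [14, 35, 66, 84, 93, 120] (by decide +kernel)
    (C.pT (f12720 C)
    (C.pH [8, 30, 65, 84, 94, 117] [25, 35, 58, 78, 102, 109, 111] (by decide +kernel) (C.pNil _ _))))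
    (C.loop_of_one (relLoop2 C) _ _)

theorem f12722 : C.T (v17 C) [12, 45, 58, 89, 94, 110, 117] (v18 C) [26, 27, 69, 75, 107, 110, 112] :=
  C.flip (f12721 C)

theorem f12723 : C.T (v3 C) [4, 42, 60, 88, 96, 122] (v17 C) [18, 32, 63, 89, 106, 121] :=
  C.conv (f6828 C) (f9427 C) (f9427 C) _ [144, 150, 167, 176] _ (by decide +kernel) (by decide +kernel) (by decide +kernel)

theorem f12724 : C.S (v17 C) [51, 81, 96, 109, 125] :=
  C.stMul (f4132 C) (f4137 C) _ (by decide +kernel)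

theorem f12725 : C.T (v17 C) [10, 38, 51, 78, 105, 110, 117] (v18 C) [12, 41, 52, 81, 90, 112] :=
  C.conv (f7779 C) (f4137 C) (f12724 C) _ [158, 167, 174, 177] _ (by decide +kernel) (by decide +kernel) (by decide +kernel)

theorem f12726 : C.S (v3 C) [7, 37, 53, 78, 98, 118] :=
  C.stMul (f353 C) (f335 C) _ (by decide +kernel)

theorem f12727 : C.S (v3 C) [12, 31, 63, 83, 106, 121] :=
  C.stMul (f331 C) (f12726 C) _ (by decide +kernel)

theorem f12728 : C.T (v3 C) [18, 38, 52, 72, 100] (v17 C) [7, 29, 67, 88, 100, 115] :=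
  C.conv (f6822 C) (f7297 C) (f12727 C) _ [144, 160, 168, 171, 178] _ (by decide +kernel) (by decide +kernel) (by decide +kernel)

theorem f12729 : C.T (v17 C) [7, 29, 67, 88, 100, 115] (v3 C) [18, 38, 52, 72, 100] :=
  C.flip (f12728 C)

theorem f12730 : C.T (v18 C) [21, 48, 49, 88, 101, 115] (v17 C) [23, 31, 55, 82, 99, 110, 124] :=
  C.closeT (p := (v3 C)) (pu := [4, 42, 60, 88, 96, 122])
    (C.pT (f12723 C)
    (C.pH [26, 38, 54, 89, 90, 113] [10, 38, 51, 78, 105, 110, 117] (by decide +kernel)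
    (C.pT (f12725 C)
    (C.pH [8, 30, 65, 84, 94, 117] [21, 48, 49, 88, 101, 115] (by decide +kernel) (C.pNil _ _)))))
    (C.pH [26, 38, 54, 89, 90, 113] [7, 29, 67, 88, 100, 115] (by decide +kernel)
    (C.pT (f12729 C)
    (C.pH [8, 30, 65, 84, 94, 117] [4, 42, 60, 88, 96, 122] (by decide +kernel) (C.pNil _ _))))
    (C.loop_of_one (relLoop2 C) _ _)

theorem f12731 : C.T (v17 C) [23, 31, 55, 82, 99, 110, 124] (v18 C) [21, 48, 49, 88, 101, 115] :=
  C.flip (f12730 C)

theorem f12732 : C.T (v3 C) [24, 40, 50, 71, 105, 125] (v17 C) [17, 41, 59, 75, 93, 109, 113] :=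
  C.conv (f6828 C) (f9427 C) (f9427 C) _ [138, 159, 164, 177] _ (by decide +kernel) (by decide +kernel) (by decide +kernel)

theorem f12733 : C.T (v17 C) [20, 47, 62, 89, 102, 110, 122] (v17 C) [14, 36, 63, 79, 95, 110] :=
  C.conv (f4964 C) (f4132 C) (f4132 C) _ [136, 153, 166, 178] _ (by decide +kernel) (by decide +kernel) (by decide +kernel)

theorem f12734 : C.T (v3 C) [21, 47, 54, 70, 92, 110, 123] (v18 C) [7, 35, 63, 70, 96, 114] :=
  C.conv (f9221 C) (f9279 C) (f353 C) _ [136, 152, 167] _ (by decide +kernel) (by decide +kernel) (by decide +kernel)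

theorem f12735 : C.T (v18 C) [7, 35, 63, 70, 96, 114] (v3 C) [21, 47, 54, 70, 92, 110, 123] :=
  C.flip (f12734 C)

theorem f12736 : C.T (v17 C) [5, 42, 54, 89, 104, 124] (v18 C) [23, 44, 56, 82, 108, 110, 125] :=
  C.closeT (p := (v3 C)) (pu := [24, 40, 50, 71, 105, 125])
    (C.pT (f12732 C)
    (C.pH [26, 38, 54, 89, 90, 113] [20, 47, 62, 89, 102, 110, 122] (by decide +kernel)
    (C.pT (f12733 C)
    (C.pH [8, 30, 65, 84, 94, 117] [5, 42, 54, 89, 104, 124] (by decide +kernel) (C.pNil _ _)))))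
    (C.pH [26, 38, 54, 89, 90, 113] [7, 35, 63, 70, 96, 114] (by decide +kernel)
    (C.pT (f12735 C)
    (C.pH [8, 30, 65, 84, 94, 117] [24, 40, 50, 71, 105, 125] (by decide +kernel) (C.pNil _ _))))
    (C.loop_of_one (relLoop2 C) _ _)

theorem f12737 : C.T (v18 C) [23, 44, 56, 82, 108, 110, 125] (v17 C) [5, 42, 54, 89, 104, 124] :=
  C.flip (f12736 C)

theorem f12738 : C.T (v3 C) [22, 31, 69, 78, 97, 109, 125] (v17 C) [5, 29, 50, 76, 94, 110, 113] :=
  C.conv (f6828 C) (f9427 C) (f9427 C) _ [130, 158, 166, 176] _ (by decide +kernel) (by decide +kernel) (by decide +kernel)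

theorem f12739 : C.S (v17 C) [23, 31, 75, 92, 109, 116] :=
  C.stMul (f4137 C) (f4132 C) _ (by decide +kernel)

theorem f12740 : C.T (v17 C) [8, 36, 64, 76, 95, 110, 122] (v18 C) [19, 41, 64, 79, 101, 110, 122] :=
  C.conv (f8470 C) (f12739 C) (f12739 C) _ [145, 156, 167, 171, 178] _ (by decide +kernel) (by decide +kernel) (by decide +kernel)

theorem f12741 : C.S (v3 C) [24, 43, 51, 89, 106, 110, 114] :=
  C.stMul (f353 C) (f11084 C) _ (by decide +kernel)

theorem f12742 : C.T (v3 C) [17, 47, 65, 73, 91, 109, 112] (v18 C) [22, 50, 71, 104, 122] :=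
  C.conv (f7327 C) (f7806 C) (f12741 C) _ [139, 155, 170, 171, 177] _ (by decide +kernel) (by decide +kernel) (by decide +kernel)

theorem f12743 : C.T (v18 C) [22, 50, 71, 104, 122] (v3 C) [17, 47, 65, 73, 91, 109, 112] :=
  C.flip (f12742 C)

theorem f12744 : C.T (v18 C) [26, 46, 56, 89, 105, 110, 114] (v18 C) [9, 43, 56, 72, 103, 109, 121] :=
  C.closeT (p := (v3 C)) (pu := [22, 31, 69, 78, 97, 109, 125])
    (C.pT (f12738 C)
    (C.pH [26, 38, 54, 89, 90, 113] [8, 36, 64, 76, 95, 110, 122] (by decide +kernel)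
    (C.pT (f12740 C)
    (C.pH [8, 30, 65, 84, 94, 117] [26, 46, 56, 89, 105, 110, 114] (by decide +kernel) (C.pNil _ _)))))
    (C.pH [26, 38, 54, 89, 90, 113] [22, 50, 71, 104, 122] (by decide +kernel)
    (C.pT (f12743 C)
    (C.pH [8, 30, 65, 84, 94, 117] [22, 31, 69, 78, 97, 109, 125] (by decide +kernel) (C.pNil _ _))))
    (C.loop_of_one (relLoop2 C) _ _)

theorem f12745 : C.T (v18 C) [9, 43, 56, 72, 103, 109, 121] (v18 C) [26, 46, 56, 89, 105, 110, 114] :=
  C.flip (f12744 C)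

theorem f12746 : C.T (v3 C) [36, 55, 70, 105, 110, 113] (v17 C) [13, 42, 69, 85, 100, 109, 123] :=
  C.conv (f6828 C) (f9427 C) (f9427 C) _ [128, 154, 167, 176, 178] _ (by decide +kernel) (by decide +kernel) (by decide +kernel)

theorem f12747 : C.S (v17 C) [23, 31, 75, 92, 109, 116] :=
  C.stMul (f4137 C) (f4132 C) _ (by decide +kernel)

theorem f12748 : C.T (v17 C) [23, 32, 56, 88, 106, 121] (v9 C) [17, 36, 50, 84, 92, 109, 118] :=
  C.conv (f4664 C) (f4137 C) (f12747 C) _ [149, 164, 176] _ (by decide +kernel) (by decide +kernel) (by decide +kernel)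

theorem f12749 : C.S (v3 C) [7, 29, 51, 83, 103, 109, 117] :=
  C.stMul (f335 C) (f335 C) _ (by decide +kernel)

theorem f12750 : C.S (v3 C) [13, 44, 69, 73, 100, 119] :=
  C.stMul (f335 C) (f12749 C) _ (by decide +kernel)

theorem f12751 : C.T (v3 C) [8, 32, 56, 88, 103, 109, 117] (v18 C) [8, 29, 57, 74, 105, 113] :=
  C.conv (f9432 C) (f9640 C) (f12750 C) _ [140, 170, 175] _ (by decide +kernel) (by decide +kernel) (by decide +kernel)

theorem f12752 : C.T (v18 C) [8, 29, 57, 74, 105, 113] (v3 C) [8, 32, 56, 88, 103, 109, 117] :=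
  C.flip (f12751 C)

theorem f12753 : C.T (v9 C) [22, 41, 66, 88, 90, 122] (v18 C) [5, 42, 52, 77, 95, 110, 117] :=
  C.closeT (p := (v3 C)) (pu := [36, 55, 70, 105, 110, 113])
    (C.pT (f12746 C)
    (C.pH [26, 38, 54, 89, 90, 113] [23, 32, 56, 88, 106, 121] (by decide +kernel)
    (C.pT (f12748 C)
    (C.pH [8, 30, 65, 84, 94, 117] [22, 41, 66, 88, 90, 122] (by decide +kernel) (C.pNil _ _)))))
    (C.pH [26, 38, 54, 89, 90, 113] [8, 29, 57, 74, 105, 113] (by decide +kernel)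
    (C.pT (f12752 C)
    (C.pH [8, 30, 65, 84, 94, 117] [36, 55, 70, 105, 110, 113] (by decide +kernel) (C.pNil _ _))))
    (C.loop_of_one (relLoop2 C) _ _)

theorem f12754 : C.T (v18 C) [5, 42, 52, 77, 95, 110, 117] (v9 C) [22, 41, 66, 88, 90, 122] :=
  C.flip (f12753 C)

theorem f12755 : C.T (v3 C) [12, 39, 57, 87, 105, 110, 123] (v17 C) [10, 45, 59, 76, 97, 109, 116] :=
  C.conv (f6828 C) (f9427 C) (f9427 C) _ [131, 162, 175] _ (by decide +kernel) (by decide +kernel) (by decide +kernel)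

theorem f12756 : C.S (v17 C) [23, 31, 49, 84, 96, 117] :=
  C.stMul (f4137 C) (f4137 C) _ (by decide +kernel)

theorem f12757 : C.S (v17 C) [23, 31, 75, 92, 109, 116] :=
  C.stMul (f4137 C) (f4132 C) _ (by decide +kernel)

theorem f12758 : C.T (v17 C) [21, 48, 55, 77, 104, 113] (v18 C) [24, 44, 54, 105, 109, 125] :=
  C.conv (f12554 C) (f12756 C) (f12757 C) _ [146, 162, 164, 175] _ (by decide +kernel) (by decide +kernel) (by decide +kernel)

theorem f12759 : C.T (v3 C) [5, 48, 49, 70, 95, 109] (v18 C) [12, 33, 53, 77, 104, 110, 120] :=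
  C.conv (f9184 C) (f9232 C) (f11019 C) _ [133, 158, 168, 173, 177] _ (by decide +kernel) (by decide +kernel) (by decide +kernel)

theorem f12760 : C.T (v18 C) [12, 33, 53, 77, 104, 110, 120] (v3 C) [5, 48, 49, 70, 95, 109] :=
  C.flip (f12759 C)

theorem f12761 : C.T (v18 C) [16, 28, 54, 83, 110, 120] (v18 C) [24, 47, 68, 87, 101, 122] :=
  C.closeT (p := (v3 C)) (pu := [12, 39, 57, 87, 105, 110, 123])
    (C.pT (f12755 C)
    (C.pH [26, 38, 54, 89, 90, 113] [21, 48, 55, 77, 104, 113] (by decide +kernel)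
    (C.pT (f12758 C)
    (C.pH [8, 30, 65, 84, 94, 117] [16, 28, 54, 83, 110, 120] (by decide +kernel) (C.pNil _ _)))))
    (C.pH [26, 38, 54, 89, 90, 113] [12, 33, 53, 77, 104, 110, 120] (by decide +kernel)
    (C.pT (f12760 C)
    (C.pH [8, 30, 65, 84, 94, 117] [12, 39, 57, 87, 105, 110, 123] (by decide +kernel) (C.pNil _ _))))
    (C.loop_of_one (relLoop2 C) _ _)

theorem f12764 : C.T (v3 C) [14, 32, 62, 84, 107, 109, 112] (v17 C) [21, 34, 64, 83, 107, 109, 125] :=
  C.conv (f6828 C) (f9427 C) (f9427 C) _ [126, 156, 172, 178] _ (by decide +kernel) (by decide +kernel) (by decide +kernel)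

theorem f12765 : C.S (v17 C) [23, 31, 49, 84, 96, 117] :=
  C.stMul (f4137 C) (f4137 C) _ (by decide +kernel)

theorem f12766 : C.S (v17 C) [23, 31, 75, 92, 109, 116] :=
  C.stMul (f4137 C) (f4132 C) _ (by decide +kernel)

theorem f12767 : C.T (v17 C) [6, 38, 61, 82, 108, 109, 117] (v18 C) [12, 44, 59, 75, 108, 125] :=
  C.conv (f8187 C) (f12765 C) (f12766 C) _ [137, 164, 175, 177] _ (by decide +kernel) (by decide +kernel) (by decide +kernel)

theorem f12768 : C.T (v3 C) [26, 41, 60, 84, 96, 110, 125] (v18 C) [22, 35, 50, 86, 95, 109, 111] :=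
  C.conv (f6888 C) (f7333 C) (f12356 C) _ [145, 150, 165, 176, 178] _ (by decide +kernel) (by decide +kernel) (by decide +kernel)

theorem f12769 : C.T (v18 C) [22, 35, 50, 86, 95, 109, 111] (v3 C) [26, 41, 60, 84, 96, 110, 125] :=
  C.flip (f12768 C)

theorem f12770 : C.T (v18 C) [21, 32, 56, 74, 104, 110, 118] (v18 C) [9, 27, 63, 86, 99, 110, 117] :=
  C.closeT (p := (v3 C)) (pu := [14, 32, 62, 84, 107, 109, 112])
    (C.pT (f12764 C)
    (C.pH [26, 38, 54, 89, 90, 113] [6, 38, 61, 82, 108, 109, 117] (by decide +kernel)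
    (C.pT (f12767 C)
    (C.pH [8, 30, 65, 84, 94, 117] [21, 32, 56, 74, 104, 110, 118] (by decide +kernel) (C.pNil _ _)))))
    (C.pH [26, 38, 54, 89, 90, 113] [22, 35, 50, 86, 95, 109, 111] (by decide +kernel)
    (C.pT (f12769 C)
    (C.pH [8, 30, 65, 84, 94, 117] [14, 32, 62, 84, 107, 109, 112] (by decide +kernel) (C.pNil _ _))))
    (C.loop_of_one (relLoop2 C) _ _)

theorem f12773 : C.T (v3 C) [26, 29, 54, 85, 108, 120] (v17 C) [22, 37, 50, 82, 103, 109, 117] :=
  C.conv (f6828 C) (f9427 C) (f9427 C) _ [134, 164, 174, 177] _ (by decide +kernel) (by decide +kernel) (by decide +kernel)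

theorem f12774 : C.S (v17 C) [23, 31, 75, 92, 109, 116] :=
  C.stMul (f4137 C) (f4132 C) _ (by decide +kernel)

theorem f12775 : C.T (v17 C) [19, 32, 64, 81, 100, 109, 119] (v18 C) [10, 64, 88, 101, 109, 117] :=
  C.conv (f12693 C) (f4300 C) (f12774 C) _ [146, 162, 168, 172, 177] _ (by decide +kernel) (by decide +kernel) (by decide +kernel)

theorem f12776 : C.T (v3 C) [19, 48, 66, 80, 96, 110, 118] (v18 C) [5, 35, 69, 71, 108, 109, 122] :=
  C.conv (f9184 C) (f9232 C) (f10897 C) _ [141, 161, 167, 172, 178] _ (by decide +kernel) (by decide +kernel) (by decide +kernel)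

theorem f12777 : C.T (v18 C) [5, 35, 69, 71, 108, 109, 122] (v3 C) [19, 48, 66, 80, 96, 110, 118] :=
  C.flip (f12776 C)

theorem f12778 : C.T (v18 C) [15, 43, 63, 77, 90, 109, 120] (v18 C) [14, 30, 62, 79, 96, 121] :=
  C.closeT (p := (v3 C)) (pu := [26, 29, 54, 85, 108, 120])
    (C.pT (f12773 C)
    (C.pH [26, 38, 54, 89, 90, 113] [19, 32, 64, 81, 100, 109, 119] (by decide +kernel)
    (C.pT (f12775 C)
    (C.pH [8, 30, 65, 84, 94, 117] [15, 43, 63, 77, 90, 109, 120] (by decide +kernel) (C.pNil _ _)))))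
    (C.pH [26, 38, 54, 89, 90, 113] [5, 35, 69, 71, 108, 109, 122] (by decide +kernel)
    (C.pT (f12777 C)
    (C.pH [8, 30, 65, 84, 94, 117] [26, 29, 54, 85, 108, 120] (by decide +kernel) (C.pNil _ _))))
    (C.loop_of_one (relLoop2 C) _ _)

theorem f12781 : C.T (v3 C) [18, 43, 50, 73, 103, 110, 118] (v17 C) [26, 39, 66, 76, 102, 123] :=
  C.conv (f6828 C) (f9427 C) (f9427 C) _ [138, 160, 170, 174, 178] _ (by decide +kernel) (by decide +kernel) (by decide +kernel)

theorem f12782 : C.T (v17 C) [16, 44, 61, 101, 115] (v18 C) [4, 27, 61, 81, 99, 110, 117] :=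
  C.conv (f10854 C) (f4132 C) (f4132 C) _ [135, 160, 164, 176, 177] _ (by decide +kernel) (by decide +kernel) (by decide +kernel)

theorem f12783 : C.T (v3 C) [9, 31, 59, 87, 91, 110, 125] (v17 C) [6, 43, 63, 81, 95, 109, 125] :=
  C.conv (f6269 C) (f7309 C) (f7310 C) _ [137, 168, 172, 177] _ (by decide +kernel) (by decide +kernel) (by decide +kernel)

theorem f12784 : C.T (v17 C) [6, 43, 63, 81, 95, 109, 125] (v3 C) [9, 31, 59, 87, 91, 110, 125] :=
  C.flip (f12783 C)

theorem f12785 : C.T (v18 C) [25, 32, 69, 76, 100, 110, 115] (v17 C) [21, 47, 50, 78, 107, 109, 123] :=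
  C.closeT (p := (v3 C)) (pu := [18, 43, 50, 73, 103, 110, 118])
    (C.pT (f12781 C)
    (C.pH [26, 38, 54, 89, 90, 113] [16, 44, 61, 101, 115] (by decide +kernel)
    (C.pT (f12782 C)
    (C.pH [8, 30, 65, 84, 94, 117] [25, 32, 69, 76, 100, 110, 115] (by decide +kernel) (C.pNil _ _)))))
    (C.pH [26, 38, 54, 89, 90, 113] [6, 43, 63, 81, 95, 109, 125] (by decide +kernel)
    (C.pT (f12784 C)
    (C.pH [8, 30, 65, 84, 94, 117] [18, 43, 50, 73, 103, 110, 118] (by decide +kernel) (C.pNil _ _))))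
    (C.loop_of_one (relLoop2 C) _ _)

theorem f12786 : C.T (v17 C) [21, 47, 50, 78, 107, 109, 123] (v18 C) [25, 32, 69, 76, 100, 110, 115] :=
  C.flip (f12785 C)

theorem f12787 : C.T (v3 C) [16, 36, 56, 86, 105, 125] (v18 C) [18, 28, 52, 82, 101, 109, 112] :=
  C.conv (f6888 C) (f7333 C) (f7333 C) _ [145, 154, 166, 174, 177] _ (by decide +kernel) (by decide +kernel) (by decide +kernel)

theorem f12788 : C.T (v3 C) [24, 28, 58, 93, 109, 116] (v17 C) [24, 27, 68, 80, 91, 110, 112] :=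
  C.conv (f6808 C) (f9290 C) (f10587 C) _ [130, 163, 176, 177] _ (by decide +kernel) (by decide +kernel) (by decide +kernel)

theorem f12789 : C.T (v17 C) [24, 27, 68, 80, 91, 110, 112] (v3 C) [24, 28, 58, 93, 109, 116] :=
  C.flip (f12788 C)

theorem f12790 : C.S (v17 C) [23, 31, 49, 84, 96, 117] :=
  C.stMul (f4137 C) (f4137 C) _ (by decide +kernel)

theorem f12791 : C.T (v17 C) [11, 35, 59, 73, 94, 110] (v16 C) [9, 44, 62, 74, 101, 109, 111] :=
  C.conv (f5664 C) (f4137 C) (f12790 C) _ [146, 161, 165, 174] _ (by decide +kernel) (by decide +kernel) (by decide +kernel)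

theorem f12792 : C.T (v16 C) [9, 44, 62, 74, 101, 109, 111] (v17 C) [11, 35, 59, 73, 94, 110] :=
  C.flip (f12791 C)

theorem f12793 : C.T (v18 C) [10, 36, 62, 86, 97, 110, 120] (v16 C) [25, 31, 69, 72, 104, 125] :=
  C.closeT (p := (v3 C)) (pu := [16, 36, 56, 86, 105, 125])
    (C.pT (f12787 C)
    (C.pH [26, 38, 54, 89, 90, 113] [10, 36, 62, 86, 97, 110, 120] (by decide +kernel) (C.pNil _ _)))
    (C.pH [8, 30, 65, 84, 94, 117] [9, 44, 62, 74, 101, 109, 111] (by decide +kernel)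
    (C.pT (f12792 C)
    (C.pH [26, 38, 54, 89, 90, 113] [24, 27, 68, 80, 91, 110, 112] (by decide +kernel)
    (C.pT (f12789 C)
    (C.pH [8, 30, 65, 84, 94, 117] [16, 36, 56, 86, 105, 125] (by decide +kernel) (C.pNil _ _))))))
    (C.loop_of_one (relLoop2 C) _ _)

theorem f12794 : C.T (v16 C) [25, 31, 69, 72, 104, 125] (v18 C) [10, 36, 62, 86, 97, 110, 120] :=
  C.flip (f12793 C)

theorem f12795 : C.T (v3 C) [17, 37, 52, 82, 106, 109, 122] (v18 C) [22, 40, 66, 70, 123] :=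
  C.conv (f6888 C) (f7333 C) (f7333 C) _ [129, 154, 165, 177] _ (by decide +kernel) (by decide +kernel) (by decide +kernel)

theorem f12796 : C.T (v18 C) [19, 41, 71, 116] (v17 C) [24, 46, 63, 80, 102, 110, 125] :=
  C.conv (f9586 C) (f6836 C) (f7121 C) _ [126, 149, 165, 174, 178] _ (by decide +kernel) (by decide +kernel) (by decide +kernel)

theorem f12797 : C.T (v3 C) [7, 47, 69, 84, 90, 110, 115] (v18 C) [15, 28, 55, 85, 95, 115] :=
  C.conv (f6916 C) (f7402 C) (f328 C) _ [145, 170, 174] _ (by decide +kernel) (by decide +kernel) (by decide +kernel)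

theorem f12798 : C.T (v18 C) [15, 28, 55, 85, 95, 115] (v3 C) [7, 47, 69, 84, 90, 110, 115] :=
  C.flip (f12797 C)

theorem f12799 : C.T (v17 C) [16, 39, 49, 87, 104, 110, 118] (v18 C) [20, 38, 58, 72, 98, 110, 116] :=
  C.closeT (p := (v3 C)) (pu := [17, 37, 52, 82, 106, 109, 122])
    (C.pT (f12795 C)
    (C.pH [26, 38, 54, 89, 90, 113] [19, 41, 71, 116] (by decide +kernel)
    (C.pT (f12796 C)
    (C.pH [8, 30, 65, 84, 94, 117] [16, 39, 49, 87, 104, 110, 118] (by decide +kernel) (C.pNil _ _)))))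
    (C.pH [26, 38, 54, 89, 90, 113] [15, 28, 55, 85, 95, 115] (by decide +kernel)
    (C.pT (f12798 C)
    (C.pH [8, 30, 65, 84, 94, 117] [17, 37, 52, 82, 106, 109, 122] (by decide +kernel) (C.pNil _ _))))
    (C.loop_of_one (relLoop2 C) _ _)

theorem f12800 : C.T (v18 C) [20, 38, 58, 72, 98, 110, 116] (v17 C) [16, 39, 49, 87, 104, 110, 118] :=
  C.flip (f12799 C)

theorem f12801 : C.T (v3 C) [12, 30, 61, 78, 90, 109, 113] (v18 C) [21, 43, 55, 78, 100, 111] :=
  C.conv (f6888 C) (f7333 C) (f7333 C) _ [147, 160] _ (by decide +kernel) (by decide +kernel) (by decide +kernel)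

theorem f12802 : C.S (v3 C) [16, 65, 76, 94, 125] :=
  C.stMul (f335 C) (f9462 C) _ (by decide +kernel)

theorem f12803 : C.S (v3 C) [25, 44, 65, 80, 101, 110, 111] :=
  C.stMul (f331 C) (f12802 C) _ (by decide +kernel)

theorem f12804 : C.T (v3 C) [5, 38, 69, 77, 108, 110, 113] (v17 C) [26, 40, 54, 76, 108, 123] :=
  C.conv (f6822 C) (f7297 C) (f12803 C) _ [130, 154, 164, 173] _ (by decide +kernel) (by decide +kernel) (by decide +kernel)

theorem f12805 : C.T (v17 C) [26, 40, 54, 76, 108, 123] (v3 C) [5, 38, 69, 77, 108, 110, 113] :=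
  C.flip (f12804 C)

theorem f12806 : C.S (v17 C) [51, 81, 96, 109, 125] :=
  C.stMul (f4132 C) (f4137 C) _ (by decide +kernel)

theorem f12807 : C.T (v17 C) [40, 75, 98, 109, 118] (v18 C) [11, 34, 62, 75, 107, 110, 114] :=
  C.conv (f8075 C) (f12806 C) (f4132 C) _ [142, 159, 165, 175] _ (by decide +kernel) (by decide +kernel) (by decide +kernel)

theorem f12808 : C.T (v18 C) [11, 34, 62, 75, 107, 110, 114] (v17 C) [40, 75, 98, 109, 118] :=
  C.flip (f12807 C)

theorem f12809 : C.T (v18 C) [6, 39, 65, 80, 107, 120] (v18 C) [13, 42, 53, 73, 93, 109, 124] :=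
  C.closeT (p := (v3 C)) (pu := [12, 30, 61, 78, 90, 109, 113])
    (C.pT (f12801 C)
    (C.pH [26, 38, 54, 89, 90, 113] [6, 39, 65, 80, 107, 120] (by decide +kernel) (C.pNil _ _)))
    (C.pH [8, 30, 65, 84, 94, 117] [11, 34, 62, 75, 107, 110, 114] (by decide +kernel)
    (C.pT (f12808 C)
    (C.pH [26, 38, 54, 89, 90, 113] [26, 40, 54, 76, 108, 123] (by decide +kernel)
    (C.pT (f12805 C)
    (C.pH [8, 30, 65, 84, 94, 117] [12, 30, 61, 78, 90, 109, 113] (by decide +kernel) (C.pNil _ _))))))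
    (C.loop_of_one (relLoop2 C) _ _)

theorem f12810 : C.T (v18 C) [13, 42, 53, 73, 93, 109, 124] (v18 C) [6, 39, 65, 80, 107, 120] :=
  C.flip (f12809 C)

theorem f12811 : C.T (v3 C) [5, 29, 68, 88, 99, 109, 117] (v18 C) [7, 48, 60, 83, 107, 110, 118] :=
  C.conv (f6888 C) (f7333 C) (f7333 C) _ [133, 153, 165, 176, 178] _ (by decide +kernel) (by decide +kernel) (by decide +kernel)

theorem f12812 : C.S (v18 C) [26, 43, 49, 77, 91, 110, 115] :=
  C.stMul (f6836 C) (f6836 C) _ (by decide +kernel)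

theorem f12813 : C.T (v18 C) [38, 50, 80, 92, 109, 113] (v18 C) [13, 28, 63, 87, 103, 109, 118] :=
  C.conv (f11363 C) (f12812 C) (f7121 C) _ [134, 163, 166, 175, 178] _ (by decide +kernel) (by decide +kernel) (by decide +kernel)

theorem f12814 : C.T (v3 C) [14, 31, 55, 75, 100, 110, 119] (v18 C) [14, 40, 66, 81, 106, 110, 111] :=
  C.conv (f9432 C) (f9640 C) (f10905 C) _ [128, 162, 165, 171, 177] _ (by decide +kernel) (by decide +kernel) (by decide +kernel)

theorem f12815 : C.T (v18 C) [14, 40, 66, 81, 106, 110, 111] (v3 C) [14, 31, 55, 75, 100, 110, 119] :=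
  C.flip (f12814 C)

theorem f12816 : C.T (v18 C) [11, 36, 50, 88, 104, 115] (v18 C) [12, 34, 64, 80, 97, 119] :=
  C.closeT (p := (v3 C)) (pu := [5, 29, 68, 88, 99, 109, 117])
    (C.pT (f12811 C)
    (C.pH [26, 38, 54, 89, 90, 113] [38, 50, 80, 92, 109, 113] (by decide +kernel)
    (C.pT (f12813 C)
    (C.pH [8, 30, 65, 84, 94, 117] [11, 36, 50, 88, 104, 115] (by decide +kernel) (C.pNil _ _)))))
    (C.pH [26, 38, 54, 89, 90, 113] [14, 40, 66, 81, 106, 110, 111] (by decide +kernel)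
    (C.pT (f12815 C)
    (C.pH [8, 30, 65, 84, 94, 117] [5, 29, 68, 88, 99, 109, 117] (by decide +kernel) (C.pNil _ _))))
    (C.loop_of_one (relLoop2 C) _ _)

theorem f12817 : C.T (v18 C) [12, 34, 64, 80, 97, 119] (v18 C) [11, 36, 50, 88, 104, 115] :=
  C.flip (f12816 C)

theorem f12818 : C.T (v3 C) [18, 32, 51, 87, 91, 110, 124] (v18 C) [5, 30, 55, 103, 119] :=
  C.conv (f6888 C) (f7333 C) (f7333 C) _ [141, 161, 178] _ (by decide +kernel) (by decide +kernel) (by decide +kernel)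

theorem f12819 : C.T (v18 C) [8, 38, 53, 71, 92, 110, 120] (v15 C) [9, 44, 69, 72, 99, 109] :=
  C.conv (f8739 C) (f7121 C) (f7121 C) _ [136, 153, 170, 171, 177] _ (by decide +kernel) (by decide +kernel) (by decide +kernel)

theorem f12820 : C.T (v3 C) [9, 27, 60, 87, 108, 109, 116] (v18 C) [5, 48, 65, 87, 95] :=
  C.conv (f8223 C) (f8361 C) (f12212 C) _ [134, 150, 168, 173, 177] _ (by decide +kernel) (by decide +kernel) (by decide +kernel)

theorem f12821 : C.T (v18 C) [5, 48, 65, 87, 95] (v3 C) [9, 27, 60, 87, 108, 109, 116] :=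
  C.flip (f12820 C)

theorem f12822 : C.T (v15 C) [18, 46, 59, 79, 93, 121] (v18 C) [14, 33, 51, 76, 94, 110, 111] :=
  C.closeT (p := (v3 C)) (pu := [18, 32, 51, 87, 91, 110, 124])
    (C.pT (f12818 C)
    (C.pH [26, 38, 54, 89, 90, 113] [8, 38, 53, 71, 92, 110, 120] (by decide +kernel)
    (C.pT (f12819 C)
    (C.pH [8, 30, 65, 84, 94, 117] [18, 46, 59, 79, 93, 121] (by decide +kernel) (C.pNil _ _)))))
    (C.pH [26, 38, 54, 89, 90, 113] [5, 48, 65, 87, 95] (by decide +kernel)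
    (C.pT (f12821 C)
    (C.pH [8, 30, 65, 84, 94, 117] [18, 32, 51, 87, 91, 110, 124] (by decide +kernel) (C.pNil _ _))))
    (C.loop_of_one (relLoop2 C) _ _)

theorem f12823 : C.T (v18 C) [14, 33, 51, 76, 94, 110, 111] (v15 C) [18, 46, 59, 79, 93, 121] :=
  C.flip (f12822 C)

theorem f12824 : C.T (v3 C) [25, 39, 49, 74, 98, 109] (v18 C) [17, 42, 52, 71, 91, 109, 111] :=
  C.conv (f6888 C) (f7333 C) (f7333 C) _ [127, 154, 166, 174, 178] _ (by decide +kernel) (by decide +kernel) (by decide +kernel)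

theorem f12825 : C.T (v18 C) [20, 31, 64, 87, 95, 117] (v18 C) [31, 53, 83, 94] :=
  C.conv (f9964 C) (f6836 C) (f7121 C) _ [140, 150, 164, 172, 177] _ (by decide +kernel) (by decide +kernel) (by decide +kernel)

theorem f12826 : C.S (v3 C) [25, 39, 51, 72, 98, 110, 117] :=
  C.stMul (f331 C) (f12008 C) _ (by decide +kernel)

theorem f12827 : C.S (v3 C) [17, 29, 57, 75, 100, 122] :=
  C.stMul (f353 C) (f12826 C) _ (by decide +kernel)

theorem f12828 : C.T (v3 C) [4, 38, 49, 79, 107, 110, 119] (v18 C) [5, 40, 64, 81, 91, 115] :=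
  C.conv (f9432 C) (f9640 C) (f12827 C) _ [142, 160, 169, 171] _ (by decide +kernel) (by decide +kernel) (by decide +kernel)

theorem f12829 : C.T (v18 C) [5, 40, 64, 81, 91, 115] (v3 C) [4, 38, 49, 79, 107, 110, 119] :=
  C.flip (f12828 C)

theorem f12830 : C.T (v18 C) [8, 34, 63, 88, 90, 118] (v18 C) [14, 41, 67, 84, 91, 109, 120] :=
  C.closeT (p := (v3 C)) (pu := [25, 39, 49, 74, 98, 109])
    (C.pT (f12824 C)
    (C.pH [26, 38, 54, 89, 90, 113] [20, 31, 64, 87, 95, 117] (by decide +kernel)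
    (C.pT (f12825 C)
    (C.pH [8, 30, 65, 84, 94, 117] [8, 34, 63, 88, 90, 118] (by decide +kernel) (C.pNil _ _)))))
    (C.pH [26, 38, 54, 89, 90, 113] [5, 40, 64, 81, 91, 115] (by decide +kernel)
    (C.pT (f12829 C)
    (C.pH [8, 30, 65, 84, 94, 117] [25, 39, 49, 74, 98, 109] (by decide +kernel) (C.pNil _ _))))
    (C.loop_of_one (relLoop2 C) _ _)

theorem f12831 : C.T (v18 C) [14, 41, 67, 84, 91, 109, 120] (v18 C) [8, 34, 63, 88, 90, 118] :=
  C.flip (f12830 C)

theorem f12832 : C.T (v3 C) [17, 36, 69, 79, 94, 109, 118] (v18 C) [11, 33, 64, 70, 101, 110, 120] :=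
  C.conv (f6888 C) (f7333 C) (f7333 C) _ [144, 155, 170, 174, 177] _ (by decide +kernel) (by decide +kernel) (by decide +kernel)

theorem f12833 : C.S (v3 C) [16, 65, 76, 94, 125] :=
  C.stMul (f335 C) (f9541 C) _ (by decide +kernel)

theorem f12834 : C.T (v3 C) [7, 44, 68, 88, 108, 109] (v17 C) [7, 41, 75, 94, 123] :=
  C.conv (f6269 C) (f7309 C) (f12833 C) _ [126, 157, 169, 175] _ (by decide +kernel) (by decide +kernel) (by decide +kernel)

theorem f12835 : C.T (v17 C) [7, 41, 75, 94, 123] (v3 C) [7, 44, 68, 88, 108, 109] :=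
  C.flip (f12834 C)

theorem f12836 : C.S (v17 C) [23, 31, 75, 92, 109, 116] :=
  C.stMul (f4137 C) (f4132 C) _ (by decide +kernel)

theorem f12837 : C.T (v17 C) [23, 32, 50, 73, 91, 111] (v17 C) [24, 31, 63, 76, 107, 110, 111] :=
  C.conv (f5997 C) (f4300 C) (f12836 C) _ [148, 162, 168, 173, 177] _ (by decide +kernel) (by decide +kernel) (by decide +kernel)

theorem f12838 : C.T (v17 C) [24, 31, 63, 76, 107, 110, 111] (v17 C) [23, 32, 50, 73, 91, 111] :=
  C.flip (f12837 C)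

theorem f12839 : C.T (v18 C) [24, 46, 60, 88, 90, 110, 122] (v17 C) [21, 40, 63, 75, 92, 109, 123] :=
  C.closeT (p := (v3 C)) (pu := [17, 36, 69, 79, 94, 109, 118])
    (C.pT (f12832 C)
    (C.pH [26, 38, 54, 89, 90, 113] [24, 46, 60, 88, 90, 110, 122] (by decide +kernel) (C.pNil _ _)))
    (C.pH [8, 30, 65, 84, 94, 117] [24, 31, 63, 76, 107, 110, 111] (by decide +kernel)
    (C.pT (f12838 C)
    (C.pH [26, 38, 54, 89, 90, 113] [7, 41, 75, 94, 123] (by decide +kernel)
    (C.pT (f12835 C)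
    (C.pH [8, 30, 65, 84, 94, 117] [17, 36, 69, 79, 94, 109, 118] (by decide +kernel) (C.pNil _ _))))))
    (C.loop_of_one (relLoop2 C) _ _)

theorem f12840 : C.T (v17 C) [21, 40, 63, 75, 92, 109, 123] (v18 C) [24, 46, 60, 88, 90, 110, 122] :=
  C.flip (f12839 C)

theorem f12841 : C.T (v3 C) [44, 57, 79, 102, 110, 111] (v18 C) [13, 45, 55, 85, 92, 110, 114] :=
  C.conv (f6888 C) (f7333 C) (f7333 C) _ [146, 159, 175] _ (by decide +kernel) (by decide +kernel) (by decide +kernel)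

end CfsgLib.J4Index
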