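import Cfsg.Agent.Lib.J4Index.Facts12

/-!
# Derived equations (generated)
-/

set_option autoImplicit false
set_option maxRecDepth 100000
set_option linter.style.longLine false

namespace CfsgLib.J4Index

variable {G X : Type} [Group G] [MulAction G X] (C : Ctx G X)

theorem f12842 : C.T (v3 C) [8, 29, 68, 89, 93, 110, 112] (v18 C) [10, 67, 77, 91, 110, 114] :=
  C.conv (f8223 C) (f8361 C) (f10478 C) _ [140, 150, 164, 175, 178] _ (by decide +kernel) (by decide +kernel) (by decide +kernel)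

theorem f12843 : C.T (v18 C) [10, 67, 77, 91, 110, 114] (v3 C) [8, 29, 68, 89, 93, 110, 112] :=
  C.flip (f12842 C)

theorem f12844 : C.T (v18 C) [18, 44, 57, 82, 105, 110, 112] (v17 C) [9, 69, 72, 94, 116] :=
  C.conv (f9253 C) (f7121 C) (f7121 C) _ [147, 154, 170, 171] _ (by decide +kernel) (by decide +kernel) (by decide +kernel)

theorem f12845 : C.T (v17 C) [9, 69, 72, 94, 116] (v18 C) [18, 44, 57, 82, 105, 110, 112] :=
  C.flip (f12844 C)

theorem f12846 : C.T (v18 C) [23, 27, 64, 89, 108, 109, 121] (v17 C) [25, 28, 55, 73, 103, 110, 111] :=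
  C.closeT (p := (v3 C)) (pu := [44, 57, 79, 102, 110, 111])
    (C.pT (f12841 C)
    (C.pH [26, 38, 54, 89, 90, 113] [23, 27, 64, 89, 108, 109, 121] (by decide +kernel) (C.pNil _ _)))
    (C.pH [8, 30, 65, 84, 94, 117] [9, 69, 72, 94, 116] (by decide +kernel)
    (C.pT (f12845 C)
    (C.pH [26, 38, 54, 89, 90, 113] [10, 67, 77, 91, 110, 114] (by decide +kernel)
    (C.pT (f12843 C)
    (C.pH [8, 30, 65, 84, 94, 117] [44, 57, 79, 102, 110, 111] (by decide +kernel) (C.pNil _ _))))))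
    (C.loop_of_one (relLoop2 C) _ _)

theorem f12847 : C.T (v17 C) [25, 28, 55, 73, 103, 110, 111] (v18 C) [23, 27, 64, 89, 108, 109, 121] :=
  C.flip (f12846 C)

theorem f12848 : C.T (v3 C) [9, 44, 59, 100, 110, 114] (v18 C) [28, 81, 106, 122] :=
  C.conv (f6902 C) (f7285 C) (f7285 C) _ [139, 170, 171, 177] _ (by decide +kernel) (by decide +kernel) (by decide +kernel)

theorem f12849 : C.T (v3 C) [25, 31, 61, 88, 97, 109, 120] (v18 C) [8, 31, 74, 96, 109, 116] :=
  C.conv (f9432 C) (f9640 C) (f12238 C) _ [146, 157, 169, 171, 178] _ (by decide +kernel) (by decide +kernel) (by decide +kernel)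

theorem f12850 : C.T (v18 C) [8, 31, 74, 96, 109, 116] (v3 C) [25, 31, 61, 88, 97, 109, 120] :=
  C.flip (f12849 C)

theorem f12851 : C.S (v18 C) [26, 43, 49, 77, 91, 110, 115] :=
  C.stMul (f6836 C) (f6836 C) _ (by decide +kernel)

theorem f12852 : C.T (v18 C) [5, 33, 65, 82, 106, 113] (v18 C) [8, 46, 51, 73, 107, 110, 121] :=
  C.conv (f12420 C) (f12851 C) (f6836 C) _ [130, 150, 166, 174, 177] _ (by decide +kernel) (by decide +kernel) (by decide +kernel)

theorem f12853 : C.T (v18 C) [8, 46, 51, 73, 107, 110, 121] (v18 C) [5, 33, 65, 82, 106, 113] :=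
  C.flip (f12852 C)

theorem f12854 : C.T (v18 C) [26, 31, 58, 75, 90, 124] (v18 C) [37, 51, 85, 105, 114] :=
  C.closeT (p := (v3 C)) (pu := [9, 44, 59, 100, 110, 114])
    (C.pT (f12848 C)
    (C.pH [26, 38, 54, 89, 90, 113] [26, 31, 58, 75, 90, 124] (by decide +kernel) (C.pNil _ _)))
    (C.pH [8, 30, 65, 84, 94, 117] [8, 46, 51, 73, 107, 110, 121] (by decide +kernel)
    (C.pT (f12853 C)
    (C.pH [26, 38, 54, 89, 90, 113] [8, 31, 74, 96, 109, 116] (by decide +kernel)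
    (C.pT (f12850 C)
    (C.pH [8, 30, 65, 84, 94, 117] [9, 44, 59, 100, 110, 114] (by decide +kernel) (C.pNil _ _))))))
    (C.loop_of_one (relLoop2 C) _ _)

theorem f12855 : C.T (v18 C) [37, 51, 85, 105, 114] (v18 C) [26, 31, 58, 75, 90, 124] :=
  C.flip (f12854 C)

theorem f12856 : C.T (v3 C) [16, 43, 55, 71, 97, 109, 119] (v18 C) [6, 47, 87, 105, 110, 118] :=
  C.conv (f6902 C) (f7285 C) (f7285 C) _ [145, 153, 168, 176, 177] _ (by decide +kernel) (by decide +kernel) (by decide +kernel)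

theorem f12857 : C.S (v3 C) [6, 29, 67, 88, 100, 110] :=
  C.stMul (f335 C) (f12588 C) _ (by decide +kernel)

theorem f12858 : C.T (v3 C) [24, 37, 55, 71, 97, 109, 119] (v18 C) [9, 37, 49, 83, 101, 118] :=
  C.conv (f6916 C) (f7402 C) (f12857 C) _ [140, 160, 170, 172] _ (by decide +kernel) (by decide +kernel) (by decide +kernel)

theorem f12859 : C.T (v18 C) [9, 37, 49, 83, 101, 118] (v3 C) [24, 37, 55, 71, 97, 109, 119] :=
  C.flip (f12858 C)

theorem f12860 : C.S (v18 C) [26, 43, 49, 77, 91, 110, 115] :=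
  C.stMul (f6836 C) (f6836 C) _ (by decide +kernel)

theorem f12861 : C.T (v18 C) [15, 29, 57, 71, 98, 120] (v18 C) [11, 31, 67, 77, 91, 109, 116] :=
  C.conv (f9619 C) (f6836 C) (f12860 C) _ [147, 154, 170, 176, 177] _ (by decide +kernel) (by decide +kernel) (by decide +kernel)

theorem f12862 : C.T (v18 C) [11, 31, 67, 77, 91, 109, 116] (v18 C) [15, 29, 57, 71, 98, 120] :=
  C.flip (f12861 C)

theorem f12863 : C.T (v18 C) [4, 42, 50, 70, 105, 110, 123] (v18 C) [13, 37, 52, 70, 98, 109, 114] :=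
  C.closeT (p := (v3 C)) (pu := [16, 43, 55, 71, 97, 109, 119])
    (C.pT (f12856 C)
    (C.pH [26, 38, 54, 89, 90, 113] [4, 42, 50, 70, 105, 110, 123] (by decide +kernel) (C.pNil _ _)))
    (C.pH [8, 30, 65, 84, 94, 117] [11, 31, 67, 77, 91, 109, 116] (by decide +kernel)
    (C.pT (f12862 C)
    (C.pH [26, 38, 54, 89, 90, 113] [9, 37, 49, 83, 101, 118] (by decide +kernel)
    (C.pT (f12859 C)
    (C.pH [8, 30, 65, 84, 94, 117] [16, 43, 55, 71, 97, 109, 119] (by decide +kernel) (C.pNil _ _))))))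
    (C.loop_of_one (relLoop2 C) _ _)

theorem f12867 : C.T (v3 C) [9, 32, 63, 76, 99, 110, 123] (v18 C) [26, 30, 54, 72, 107, 109] :=
  C.conv (f6902 C) (f7285 C) (f7285 C) _ [144, 162, 171, 177] _ (by decide +kernel) (by decide +kernel) (by decide +kernel)

theorem f12868 : C.S (v3 C) [23, 35, 58, 78, 94, 110, 123] :=
  C.stMul (f328 C) (f10586 C) _ (by decide +kernel)

theorem f12869 : C.S (v3 C) [12, 28, 65, 85, 98, 110, 116] :=
  C.stMul (f353 C) (f12868 C) _ (by decide +kernel)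

theorem f12870 : C.S (v3 C) [25, 35, 69, 73, 94, 109, 118] :=
  C.stMul (f335 C) (f12869 C) _ (by decide +kernel)

theorem f12871 : C.T (v3 C) [25, 47, 54, 81, 92, 110, 123] (v17 C) [16, 44, 65, 74, 93, 109, 111] :=
  C.conv (f6808 C) (f9290 C) (f12870 C) _ [129, 149, 164, 173, 178] _ (by decide +kernel) (by decide +kernel) (by decide +kernel)

theorem f12872 : C.T (v17 C) [16, 44, 65, 74, 93, 109, 111] (v3 C) [25, 47, 54, 81, 92, 110, 123] :=
  C.flip (f12871 C)

theorem f12873 : C.T (v17 C) [26, 39, 68, 99, 123] (v18 C) [9, 46, 54, 87, 98, 110, 118] :=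
  C.conv (f9628 C) (f4132 C) (f4132 C) _ [144, 154, 166, 173, 177] _ (by decide +kernel) (by decide +kernel) (by decide +kernel)

theorem f12874 : C.T (v18 C) [9, 46, 54, 87, 98, 110, 118] (v17 C) [26, 39, 68, 99, 123] :=
  C.flip (f12873 C)

theorem f12875 : C.T (v18 C) [16, 32, 68, 83, 102, 114] (v18 C) [25, 38, 50, 84, 97, 118] :=
  C.closeT (p := (v3 C)) (pu := [9, 32, 63, 76, 99, 110, 123])
    (C.pT (f12867 C)
    (C.pH [26, 38, 54, 89, 90, 113] [16, 32, 68, 83, 102, 114] (by decide +kernel) (C.pNil _ _)))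
    (C.pH [8, 30, 65, 84, 94, 117] [9, 46, 54, 87, 98, 110, 118] (by decide +kernel)
    (C.pT (f12874 C)
    (C.pH [26, 38, 54, 89, 90, 113] [16, 44, 65, 74, 93, 109, 111] (by decide +kernel)
    (C.pT (f12872 C)
    (C.pH [8, 30, 65, 84, 94, 117] [9, 32, 63, 76, 99, 110, 123] (by decide +kernel) (C.pNil _ _))))))
    (C.loop_of_one (relLoop2 C) _ _)

theorem f12876 : C.T (v18 C) [25, 38, 50, 84, 97, 118] (v18 C) [16, 32, 68, 83, 102, 114] :=
  C.flip (f12875 C)

theorem f12877 : C.T (v3 C) [14, 47, 62, 89, 100, 110, 112] (v18 C) [23, 35, 49, 77, 107, 110] :=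
  C.conv (f6902 C) (f7285 C) (f7285 C) _ [147, 163, 170, 176, 177] _ (by decide +kernel) (by decide +kernel) (by decide +kernel)

theorem f12878 : C.T (v3 C) [26, 39, 58, 79, 91, 109, 123] (v18 C) [17, 29, 55, 77, 104, 110, 123] :=
  C.conv (f8165 C) (f8200 C) (f8199 C) _ [131, 161, 166, 173] _ (by decide +kernel) (by decide +kernel) (by decide +kernel)

theorem f12879 : C.T (v18 C) [17, 29, 55, 77, 104, 110, 123] (v3 C) [26, 39, 58, 79, 91, 109, 123] :=
  C.flip (f12878 C)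

theorem f12880 : C.T (v18 C) [19, 39, 57, 83, 95, 110, 114] (v18 C) [17, 31, 60, 89, 102, 110, 121] :=
  C.conv (f11980 C) (f6836 C) (f7121 C) _ [139, 152, 174, 177] _ (by decide +kernel) (by decide +kernel) (by decide +kernel)

theorem f12881 : C.T (v18 C) [17, 31, 60, 89, 102, 110, 121] (v18 C) [19, 39, 57, 83, 95, 110, 114] :=
  C.flip (f12880 C)

theorem f12882 : C.T (v18 C) [7, 45, 56, 79, 106, 110, 119] (v18 C) [7, 32, 60, 87, 103, 109, 117] :=
  C.closeT (p := (v3 C)) (pu := [14, 47, 62, 89, 100, 110, 112])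
    (C.pT (f12877 C)
    (C.pH [26, 38, 54, 89, 90, 113] [7, 45, 56, 79, 106, 110, 119] (by decide +kernel) (C.pNil _ _)))
    (C.pH [8, 30, 65, 84, 94, 117] [17, 31, 60, 89, 102, 110, 121] (by decide +kernel)
    (C.pT (f12881 C)
    (C.pH [26, 38, 54, 89, 90, 113] [17, 29, 55, 77, 104, 110, 123] (by decide +kernel)
    (C.pT (f12879 C)
    (C.pH [8, 30, 65, 84, 94, 117] [14, 47, 62, 89, 100, 110, 112] (by decide +kernel) (C.pNil _ _))))))
    (C.loop_of_one (relLoop2 C) _ _)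

theorem f12883 : C.T (v18 C) [7, 32, 60, 87, 103, 109, 117] (v18 C) [7, 45, 56, 79, 106, 110, 119] :=
  C.flip (f12882 C)

theorem f12884 : C.T (v3 C) [16, 44, 68, 102, 119] (v18 C) [11, 88, 104, 110, 121] :=
  C.conv (f6902 C) (f7285 C) (f7285 C) _ [143, 154, 166, 172] _ (by decide +kernel) (by decide +kernel) (by decide +kernel)

theorem f12885 : C.T (v18 C) [24, 35, 58, 98, 110, 123] (v18 C) [7, 28, 57, 78, 94, 120] :=
  C.conv (f9610 C) (f6836 C) (f7121 C) _ [148, 157, 168, 175, 178] _ (by decide +kernel) (by decide +kernel) (by decide +kernel)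

theorem f12886 : C.S (v3 C) [23, 29, 57, 87, 91, 110, 120] :=
  C.stMul (f331 C) (f328 C) _ (by decide +kernel)

theorem f12887 : C.S (v3 C) [12, 29, 49, 79, 92, 110, 117] :=
  C.stMul (f353 C) (f12886 C) _ (by decide +kernel)

theorem f12888 : C.T (v3 C) [24, 43, 51, 83, 97, 124] (v17 C) [24, 46, 66, 72, 101, 110, 118] :=
  C.conv (f6828 C) (f9427 C) (f12887 C) _ [128, 155, 167, 174] _ (by decide +kernel) (by decide +kernel) (by decide +kernel)

theorem f12889 : C.T (v17 C) [24, 46, 66, 72, 101, 110, 118] (v3 C) [24, 43, 51, 83, 97, 124] :=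
  C.flip (f12888 C)

theorem f12890 : C.T (v18 C) [17, 33, 56, 84, 103, 115] (v17 C) [11, 33, 65, 77, 92, 110, 112] :=
  C.closeT (p := (v3 C)) (pu := [16, 44, 68, 102, 119])
    (C.pT (f12884 C)
    (C.pH [26, 38, 54, 89, 90, 113] [24, 35, 58, 98, 110, 123] (by decide +kernel)
    (C.pT (f12885 C)
    (C.pH [8, 30, 65, 84, 94, 117] [17, 33, 56, 84, 103, 115] (by decide +kernel) (C.pNil _ _)))))
    (C.pH [26, 38, 54, 89, 90, 113] [24, 46, 66, 72, 101, 110, 118] (by decide +kernel)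
    (C.pT (f12889 C)
    (C.pH [8, 30, 65, 84, 94, 117] [16, 44, 68, 102, 119] (by decide +kernel) (C.pNil _ _))))
    (C.loop_of_one (relLoop2 C) _ _)

theorem f12891 : C.T (v17 C) [11, 33, 65, 77, 92, 110, 112] (v18 C) [17, 33, 56, 84, 103, 115] :=
  C.flip (f12890 C)

theorem f12892 : C.T (v3 C) [14, 32, 54, 89, 105, 110] (v18 C) [23, 45, 55, 77, 103, 109, 125] :=
  C.conv (f6902 C) (f7285 C) (f7285 C) _ [146, 162, 170, 173, 178] _ (by decide +kernel) (by decide +kernel) (by decide +kernel)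

theorem f12893 : C.S (v3 C) [25, 30, 54, 78, 106, 110, 122] :=
  C.stMul (f328 C) (f8126 C) _ (by decide +kernel)

theorem f12894 : C.S (v3 C) [17, 33, 49, 75, 102, 110, 114] :=
  C.stMul (f353 C) (f12893 C) _ (by decide +kernel)

theorem f12895 : C.T (v3 C) [26, 41, 68, 86, 106, 109] (v18 C) [38, 67, 75, 93, 110, 125] :=
  C.conv (f7327 C) (f7806 C) (f12894 C) _ [136, 159, 170, 175, 178] _ (by decide +kernel) (by decide +kernel) (by decide +kernel)

theorem f12896 : C.T (v18 C) [38, 67, 75, 93, 110, 125] (v3 C) [26, 41, 68, 86, 106, 109] :=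
  C.flip (f12895 C)

theorem f12897 : C.S (v18 C) [26, 43, 49, 77, 91, 110, 115] :=
  C.stMul (f6836 C) (f6836 C) _ (by decide +kernel)

theorem f12898 : C.T (v18 C) [7, 48, 53, 84, 97, 109, 120] (v18 C) [13, 48, 57, 89, 96, 111] :=
  C.conv (f9913 C) (f12897 C) (f12897 C) _ [146, 150, 171] _ (by decide +kernel) (by decide +kernel) (by decide +kernel)

theorem f12899 : C.T (v18 C) [13, 48, 57, 89, 96, 111] (v18 C) [7, 48, 53, 84, 97, 109, 120] :=
  C.flip (f12898 C)

theorem f12900 : C.T (v18 C) [7, 31, 55, 81, 102, 109, 119] (v18 C) [6, 27, 61, 87, 91, 109] :=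
  C.closeT (p := (v3 C)) (pu := [14, 32, 54, 89, 105, 110])
    (C.pT (f12892 C)
    (C.pH [26, 38, 54, 89, 90, 113] [7, 31, 55, 81, 102, 109, 119] (by decide +kernel) (C.pNil _ _)))
    (C.pH [8, 30, 65, 84, 94, 117] [13, 48, 57, 89, 96, 111] (by decide +kernel)
    (C.pT (f12899 C)
    (C.pH [26, 38, 54, 89, 90, 113] [38, 67, 75, 93, 110, 125] (by decide +kernel)
    (C.pT (f12896 C)
    (C.pH [8, 30, 65, 84, 94, 117] [14, 32, 54, 89, 105, 110] (by decide +kernel) (C.pNil _ _))))))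
    (C.loop_of_one (relLoop2 C) _ _)

theorem f12904 : C.T (v3 C) [22, 38, 66, 77, 108, 109, 116] (v18 C) [25, 43, 49, 87, 104, 110, 113] :=
  C.conv (f6902 C) (f7285 C) (f7285 C) _ [137, 161, 173] _ (by decide +kernel) (by decide +kernel) (by decide +kernel)

theorem f12905 : C.T (v18 C) [18, 29, 73, 91, 110, 119] (v18 C) [8, 45, 56, 84, 96, 109, 125] :=
  C.conv (f9730 C) (f11445 C) (f6836 C) _ [135, 149, 170, 176, 178] _ (by decide +kernel) (by decide +kernel) (by decide +kernel)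

theorem f12906 : C.S (v3 C) [23, 32, 60, 77, 103, 109, 115] :=
  C.stMul (f353 C) (f7348 C) _ (by decide +kernel)

theorem f12907 : C.T (v3 C) [17, 28, 51, 78, 105, 109, 121] (v15 C) [7, 42, 66, 84, 94, 110, 118] :=
  C.conv (f3166 C) (f3236 C) (f12906 C) _ [127, 166, 173, 178] _ (by decide +kernel) (by decide +kernel) (by decide +kernel)

theorem f12908 : C.T (v15 C) [7, 42, 66, 84, 94, 110, 118] (v3 C) [17, 28, 51, 78, 105, 109, 121] :=
  C.flip (f12907 C)

theorem f12909 : C.T (v18 C) [29, 66, 84, 92, 124] (v15 C) [23, 47, 63, 80, 107, 114] :=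
  C.closeT (p := (v3 C)) (pu := [22, 38, 66, 77, 108, 109, 116])
    (C.pT (f12904 C)
    (C.pH [26, 38, 54, 89, 90, 113] [18, 29, 73, 91, 110, 119] (by decide +kernel)
    (C.pT (f12905 C)
    (C.pH [8, 30, 65, 84, 94, 117] [29, 66, 84, 92, 124] (by decide +kernel) (C.pNil _ _)))))
    (C.pH [26, 38, 54, 89, 90, 113] [7, 42, 66, 84, 94, 110, 118] (by decide +kernel)
    (C.pT (f12908 C)
    (C.pH [8, 30, 65, 84, 94, 117] [22, 38, 66, 77, 108, 109, 116] (by decide +kernel) (C.pNil _ _))))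
    (C.loop_of_one (relLoop2 C) _ _)

theorem f12910 : C.T (v15 C) [23, 47, 63, 80, 107, 114] (v18 C) [29, 66, 84, 92, 124] :=
  C.flip (f12909 C)

theorem f12911 : C.T (v3 C) [32, 67, 80, 105, 109, 116] (v18 C) [12, 44, 60, 77, 106, 117] :=
  C.conv (f6911 C) (f8231 C) (f8231 C) _ [138, 151, 175, 177] _ (by decide +kernel) (by decide +kernel) (by decide +kernel)

theorem f12912 : C.S (v3 C) [8, 48, 63, 86, 90, 110, 123] :=
  C.stMul (f331 C) (f9425 C) _ (by decide +kernel)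

theorem f12913 : C.T (v3 C) [8, 40, 49, 73, 95, 109, 118] (v17 C) [42, 67, 88, 90, 110, 125] :=
  C.conv (f6828 C) (f9427 C) (f12912 C) _ [134, 163, 165, 175, 178] _ (by decide +kernel) (by decide +kernel) (by decide +kernel)

theorem f12914 : C.T (v17 C) [42, 67, 88, 90, 110, 125] (v3 C) [8, 40, 49, 73, 95, 109, 118] :=
  C.flip (f12913 C)

theorem f12915 : C.T (v17 C) [7, 32, 53, 83, 105, 110, 122] (v18 C) [9, 27, 69, 92, 110, 118] :=
  C.conv (f10245 C) (f4132 C) (f4300 C) _ [137, 149, 168, 173] _ (by decide +kernel) (by decide +kernel) (by decide +kernel)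

theorem f12916 : C.T (v18 C) [9, 27, 69, 92, 110, 118] (v17 C) [7, 32, 53, 83, 105, 110, 122] :=
  C.flip (f12915 C)

theorem f12917 : C.T (v18 C) [14, 45, 58, 77, 108, 109, 115] (v18 C) [25, 40, 53, 82, 103, 117] :=
  C.closeT (p := (v3 C)) (pu := [32, 67, 80, 105, 109, 116])
    (C.pT (f12911 C)
    (C.pH [26, 38, 54, 89, 90, 113] [14, 45, 58, 77, 108, 109, 115] (by decide +kernel) (C.pNil _ _)))
    (C.pH [8, 30, 65, 84, 94, 117] [9, 27, 69, 92, 110, 118] (by decide +kernel)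
    (C.pT (f12916 C)
    (C.pH [26, 38, 54, 89, 90, 113] [42, 67, 88, 90, 110, 125] (by decide +kernel)
    (C.pT (f12914 C)
    (C.pH [8, 30, 65, 84, 94, 117] [32, 67, 80, 105, 109, 116] (by decide +kernel) (C.pNil _ _))))))
    (C.loop_of_one (relLoop2 C) _ _)

theorem f12918 : C.T (v18 C) [25, 40, 53, 82, 103, 117] (v18 C) [14, 45, 58, 77, 108, 109, 115] :=
  C.flip (f12917 C)

theorem f12919 : C.T (v3 C) [17, 43, 65, 78, 108, 109, 114] (v18 C) [19, 31, 52, 87, 98, 125] :=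
  C.conv (f6911 C) (f8231 C) (f8231 C) _ [129, 156, 167, 174] _ (by decide +kernel) (by decide +kernel) (by decide +kernel)

theorem f12920 : C.T (v18 C) [17, 39, 67, 78, 106, 110, 125] (v17 C) [26, 36, 65, 70, 91, 110, 122] :=
  C.conv (f9330 C) (f7121 C) (f6836 C) _ [140, 160, 169, 176, 177] _ (by decide +kernel) (by decide +kernel) (by decide +kernel)

theorem f12921 : C.S (v3 C) [13, 43, 69, 71, 110, 123] :=
  C.stMul (f353 C) (f10870 C) _ (by decide +kernel)

theorem f12922 : C.S (v3 C) [37, 60, 81, 96, 112] :=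
  C.stMul (f335 C) (f12921 C) _ (by decide +kernel)

theorem f12923 : C.T (v3 C) [7, 39, 66, 74, 107, 109, 122] (v18 C) [31, 53, 81, 100, 110, 119] :=
  C.conv (f9221 C) (f9279 C) (f12922 C) _ [132, 153, 168, 171] _ (by decide +kernel) (by decide +kernel) (by decide +kernel)

theorem f12924 : C.T (v18 C) [31, 53, 81, 100, 110, 119] (v3 C) [7, 39, 66, 74, 107, 109, 122] :=
  C.flip (f12923 C)

theorem f12925 : C.T (v17 C) [14, 41, 50, 84, 95, 118] (v18 C) [7, 35, 49, 85, 108, 110, 117] :=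
  C.closeT (p := (v3 C)) (pu := [17, 43, 65, 78, 108, 109, 114])
    (C.pT (f12919 C)
    (C.pH [26, 38, 54, 89, 90, 113] [17, 39, 67, 78, 106, 110, 125] (by decide +kernel)
    (C.pT (f12920 C)
    (C.pH [8, 30, 65, 84, 94, 117] [14, 41, 50, 84, 95, 118] (by decide +kernel) (C.pNil _ _)))))
    (C.pH [26, 38, 54, 89, 90, 113] [31, 53, 81, 100, 110, 119] (by decide +kernel)
    (C.pT (f12924 C)
    (C.pH [8, 30, 65, 84, 94, 117] [17, 43, 65, 78, 108, 109, 114] (by decide +kernel) (C.pNil _ _))))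
    (C.loop_of_one (relLoop2 C) _ _)

theorem f12926 : C.T (v18 C) [7, 35, 49, 85, 108, 110, 117] (v17 C) [14, 41, 50, 84, 95, 118] :=
  C.flip (f12925 C)

theorem f12927 : C.T (v3 C) [17, 46, 49, 89, 102, 112] (v18 C) [5, 35, 51, 82, 104, 110, 114] :=
  C.conv (f6911 C) (f8231 C) (f8231 C) _ [129, 159, 170, 175] _ (by decide +kernel) (by decide +kernel) (by decide +kernel)

theorem f12928 : C.T (v3 C) [7, 41, 49, 89, 102, 112] (v18 C) [17, 36, 59, 78, 103, 125] :=
  C.conv (f9432 C) (f9640 C) (f12369 C) _ [143, 158, 164, 172, 177] _ (by decide +kernel) (by decide +kernel) (by decide +kernel)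

theorem f12929 : C.T (v18 C) [17, 36, 59, 78, 103, 125] (v3 C) [7, 41, 49, 89, 102, 112] :=
  C.flip (f12928 C)

theorem f12930 : C.S (v18 C) [26, 43, 49, 77, 91, 110, 115] :=
  C.stMul (f6836 C) (f6836 C) _ (by decide +kernel)

theorem f12931 : C.T (v18 C) [19, 34, 58, 75, 93, 109, 119] (v18 C) [9, 42, 51, 83, 98, 109, 114] :=
  C.conv (f9481 C) (f7121 C) (f12930 C) _ [131, 149, 170, 174, 178] _ (by decide +kernel) (by decide +kernel) (by decide +kernel)

theorem f12932 : C.T (v18 C) [9, 42, 51, 83, 98, 109, 114] (v18 C) [19, 34, 58, 75, 93, 109, 119] :=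
  C.flip (f12931 C)

theorem f12933 : C.T (v18 C) [8, 44, 54, 72, 94, 109, 124] (v18 C) [25, 45, 55, 83, 95, 110, 120] :=
  C.closeT (p := (v3 C)) (pu := [17, 46, 49, 89, 102, 112])
    (C.pT (f12927 C)
    (C.pH [26, 38, 54, 89, 90, 113] [8, 44, 54, 72, 94, 109, 124] (by decide +kernel) (C.pNil _ _)))
    (C.pH [8, 30, 65, 84, 94, 117] [9, 42, 51, 83, 98, 109, 114] (by decide +kernel)
    (C.pT (f12932 C)
    (C.pH [26, 38, 54, 89, 90, 113] [17, 36, 59, 78, 103, 125] (by decide +kernel)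
    (C.pT (f12929 C)
    (C.pH [8, 30, 65, 84, 94, 117] [17, 46, 49, 89, 102, 112] (by decide +kernel) (C.pNil _ _))))))
    (C.loop_of_one (relLoop2 C) _ _)

theorem f12934 : C.T (v18 C) [25, 45, 55, 83, 95, 110, 120] (v18 C) [8, 44, 54, 72, 94, 109, 124] :=
  C.flip (f12933 C)

theorem f12935 : C.T (v3 C) [15, 39, 58, 72, 108, 109, 121] (v18 C) [8, 41, 49, 87, 103, 109, 122] :=
  C.conv (f6911 C) (f8231 C) (f8231 C) _ [135, 149, 169, 174, 177] _ (by decide +kernel) (by decide +kernel) (by decide +kernel)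

theorem f12936 : C.S (v3 C) [12, 34, 51, 89, 101, 111] :=
  C.stMul (f331 C) (f7561 C) _ (by decide +kernel)

theorem f12937 : C.T (v3 C) [10, 48, 66, 77, 93, 125] (v18 C) [12, 37, 68, 70, 106, 114] :=
  C.conv (f6888 C) (f7333 C) (f12936 C) _ [144, 149, 177] _ (by decide +kernel) (by decide +kernel) (by decide +kernel)

theorem f12938 : C.T (v18 C) [12, 37, 68, 70, 106, 114] (v3 C) [10, 48, 66, 77, 93, 125] :=
  C.flip (f12937 C)

theorem f12939 : C.T (v18 C) [24, 31, 57, 79, 96, 109, 118] (v16 C) [15, 27, 50, 82, 113] :=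
  C.conv (f11281 C) (f6836 C) (f7121 C) _ [130, 160, 167, 178] _ (by decide +kernel) (by decide +kernel) (by decide +kernel)

theorem f12940 : C.T (v16 C) [15, 27, 50, 82, 113] (v18 C) [24, 31, 57, 79, 96, 109, 118] :=
  C.flip (f12939 C)

theorem f12941 : C.T (v18 C) [11, 46, 59, 83, 104, 110, 125] (v16 C) [10, 37, 57, 71, 99, 110, 118] :=
  C.closeT (p := (v3 C)) (pu := [15, 39, 58, 72, 108, 109, 121])
    (C.pT (f12935 C)
    (C.pH [26, 38, 54, 89, 90, 113] [11, 46, 59, 83, 104, 110, 125] (by decide +kernel) (C.pNil _ _)))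
    (C.pH [8, 30, 65, 84, 94, 117] [15, 27, 50, 82, 113] (by decide +kernel)
    (C.pT (f12940 C)
    (C.pH [26, 38, 54, 89, 90, 113] [12, 37, 68, 70, 106, 114] (by decide +kernel)
    (C.pT (f12938 C)
    (C.pH [8, 30, 65, 84, 94, 117] [15, 39, 58, 72, 108, 109, 121] (by decide +kernel) (C.pNil _ _))))))
    (C.loop_of_one (relLoop2 C) _ _)

theorem f12942 : C.T (v16 C) [10, 37, 57, 71, 99, 110, 118] (v18 C) [11, 46, 59, 83, 104, 110, 125] :=
  C.flip (f12941 C)

theorem f12943 : C.T (v3 C) [25, 46, 65, 89, 90, 120] (v18 C) [21, 29, 69, 75, 90, 110, 113] :=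
  C.conv (f6911 C) (f8231 C) (f8231 C) _ [130, 163, 166, 174, 178] _ (by decide +kernel) (by decide +kernel) (by decide +kernel)

theorem f12944 : C.S (v3 C) [21, 45, 66, 81, 102, 110] :=
  C.stMul (f335 C) (f11120 C) _ (by decide +kernel)

theorem f12945 : C.S (v3 C) [25, 30, 54, 78, 106, 110, 122] :=
  C.stMul (f328 C) (f12944 C) _ (by decide +kernel)

theorem f12946 : C.S (v3 C) [17, 33, 49, 75, 102, 110, 114] :=
  C.stMul (f353 C) (f12945 C) _ (by decide +kernel)

theorem f12947 : C.T (v3 C) [4, 32, 65, 89, 90, 120] (v17 C) [18, 40, 62, 80, 99, 118] :=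
  C.conv (f6269 C) (f7309 C) (f12946 C) _ [138, 156, 170, 174, 177] _ (by decide +kernel) (by decide +kernel) (by decide +kernel)

theorem f12948 : C.T (v17 C) [18, 40, 62, 80, 99, 118] (v3 C) [4, 32, 65, 89, 90, 120] :=
  C.flip (f12947 C)

theorem f12949 : C.T (v17 C) [25, 48, 59, 78, 107, 118] (v16 C) [17, 45, 53, 91, 114] :=
  C.conv (f5692 C) (f11267 C) (f11267 C) _ [148, 163, 165, 177] _ (by decide +kernel) (by decide +kernel) (by decide +kernel)

theorem f12950 : C.T (v16 C) [17, 45, 53, 91, 114] (v17 C) [25, 48, 59, 78, 107, 118] :=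
  C.flip (f12949 C)

theorem f12951 : C.T (v18 C) [6, 60, 108, 110, 124] (v16 C) [7, 48, 68, 89, 98, 123] :=
  C.closeT (p := (v3 C)) (pu := [25, 46, 65, 89, 90, 120])
    (C.pT (f12943 C)
    (C.pH [26, 38, 54, 89, 90, 113] [6, 60, 108, 110, 124] (by decide +kernel) (C.pNil _ _)))
    (C.pH [8, 30, 65, 84, 94, 117] [17, 45, 53, 91, 114] (by decide +kernel)
    (C.pT (f12950 C)
    (C.pH [26, 38, 54, 89, 90, 113] [18, 40, 62, 80, 99, 118] (by decide +kernel)
    (C.pT (f12948 C)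
    (C.pH [8, 30, 65, 84, 94, 117] [25, 46, 65, 89, 90, 120] (by decide +kernel) (C.pNil _ _))))))
    (C.loop_of_one (relLoop2 C) _ _)

theorem f12952 : C.T (v16 C) [7, 48, 68, 89, 98, 123] (v18 C) [6, 60, 108, 110, 124] :=
  C.flip (f12951 C)

theorem f12953 : C.T (v3 C) [12, 50, 72, 104, 109, 111] (v18 C) [7, 35, 63, 72, 95, 109, 123] :=
  C.conv (f6911 C) (f8231 C) (f8231 C) _ [141, 155, 169] _ (by decide +kernel) (by decide +kernel) (by decide +kernel)

theorem f12954 : C.S (v18 C) [26, 43, 49, 77, 91, 110, 115] :=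
  C.stMul (f6836 C) (f6836 C) _ (by decide +kernel)

theorem f12955 : C.T (v18 C) [31, 62, 74, 125] (v18 C) [21, 48, 68, 88, 101, 109, 111] :=
  C.conv (f12373 C) (f12954 C) (f6836 C) _ [145, 160, 171, 178] _ (by decide +kernel) (by decide +kernel) (by decide +kernel)

theorem f12956 : C.S (v3 C) [24, 38, 68, 85, 97, 110, 111] :=
  C.stMul (f353 C) (f11642 C) _ (by decide +kernel)

theorem f12957 : C.S (v3 C) [19, 43, 49, 77, 108, 109, 113] :=
  C.stMul (f331 C) (f12956 C) _ (by decide +kernel)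

theorem f12958 : C.T (v3 C) [5, 31, 64, 78, 98, 110, 125] (v18 C) [7, 44, 69, 86, 104, 110, 122] :=
  C.conv (f9184 C) (f9232 C) (f12957 C) _ [145, 158, 164, 174] _ (by decide +kernel) (by decide +kernel) (by decide +kernel)

theorem f12959 : C.T (v18 C) [7, 44, 69, 86, 104, 110, 122] (v3 C) [5, 31, 64, 78, 98, 110, 125] :=
  C.flip (f12958 C)

theorem f12960 : C.T (v18 C) [24, 33, 68, 89, 103, 110, 115] (v18 C) [23, 36, 68, 78, 105, 109, 113] :=
  C.closeT (p := (v3 C)) (pu := [12, 50, 72, 104, 109, 111])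
    (C.pT (f12953 C)
    (C.pH [26, 38, 54, 89, 90, 113] [31, 62, 74, 125] (by decide +kernel)
    (C.pT (f12955 C)
    (C.pH [8, 30, 65, 84, 94, 117] [24, 33, 68, 89, 103, 110, 115] (by decide +kernel) (C.pNil _ _)))))
    (C.pH [26, 38, 54, 89, 90, 113] [7, 44, 69, 86, 104, 110, 122] (by decide +kernel)
    (C.pT (f12959 C)
    (C.pH [8, 30, 65, 84, 94, 117] [12, 50, 72, 104, 109, 111] (by decide +kernel) (C.pNil _ _))))
    (C.loop_of_one (relLoop2 C) _ _)

theorem f12961 : C.T (v18 C) [23, 36, 68, 78, 105, 109, 113] (v18 C) [24, 33, 68, 89, 103, 110, 115] :=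
  C.flip (f12960 C)

theorem f12962 : C.T (v3 C) [11, 27, 69, 85, 92, 109, 113] (v18 C) [25, 28, 59, 80, 102, 124] :=
  C.conv (f6916 C) (f7402 C) (f7402 C) _ [129, 149, 165, 175, 177] _ (by decide +kernel) (by decide +kernel) (by decide +kernel)

theorem f12963 : C.S (v18 C) [26, 43, 49, 77, 91, 110, 115] :=
  C.stMul (f6836 C) (f6836 C) _ (by decide +kernel)

theorem f12964 : C.T (v18 C) [18, 31, 69, 87, 91, 109, 117] (v18 C) [9, 40, 56, 71, 90, 109, 122] :=
  C.conv (f12021 C) (f7121 C) (f12963 C) _ [140, 158, 173] _ (by decide +kernel) (by decide +kernel) (by decide +kernel)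

theorem f12965 : C.S (v3 C) [9, 38, 62, 72, 93, 110, 122] :=
  C.stMul (f335 C) (f9484 C) _ (by decide +kernel)

theorem f12966 : C.S (v3 C) [15, 35, 62, 79, 104, 110, 120] :=
  C.stMul (f331 C) (f12965 C) _ (by decide +kernel)

theorem f12967 : C.T (v3 C) [13, 47, 49, 84, 93, 110, 118] (v18 C) [16, 33, 56, 84, 91, 109, 114] :=
  C.conv (f9221 C) (f9279 C) (f12966 C) _ [146, 155, 168, 173, 178] _ (by decide +kernel) (by decide +kernel) (by decide +kernel)

theorem f12968 : C.T (v18 C) [16, 33, 56, 84, 91, 109, 114] (v3 C) [13, 47, 49, 84, 93, 110, 118] :=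
  C.flip (f12967 C)

theorem f12969 : C.T (v18 C) [18, 42, 49, 89, 104, 120] (v18 C) [26, 40, 58, 75, 105, 110, 114] :=
  C.closeT (p := (v3 C)) (pu := [11, 27, 69, 85, 92, 109, 113])
    (C.pT (f12962 C)
    (C.pH [26, 38, 54, 89, 90, 113] [18, 31, 69, 87, 91, 109, 117] (by decide +kernel)
    (C.pT (f12964 C)
    (C.pH [8, 30, 65, 84, 94, 117] [18, 42, 49, 89, 104, 120] (by decide +kernel) (C.pNil _ _)))))
    (C.pH [26, 38, 54, 89, 90, 113] [16, 33, 56, 84, 91, 109, 114] (by decide +kernel)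
    (C.pT (f12968 C)
    (C.pH [8, 30, 65, 84, 94, 117] [11, 27, 69, 85, 92, 109, 113] (by decide +kernel) (C.pNil _ _))))
    (C.loop_of_one (relLoop2 C) _ _)

theorem f12970 : C.T (v18 C) [26, 40, 58, 75, 105, 110, 114] (v18 C) [18, 42, 49, 89, 104, 120] :=
  C.flip (f12969 C)

theorem f12971 : C.T (v3 C) [19, 40, 68, 88, 105, 110, 124] (v18 C) [11, 45, 54, 79, 96, 110, 117] :=
  C.conv (f6916 C) (f7402 C) (f7402 C) _ [137, 161, 165, 171] _ (by decide +kernel) (by decide +kernel) (by decide +kernel)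

theorem f12972 : C.T (v18 C) [24, 34, 62, 76, 98, 109, 118] (v18 C) [22, 36, 64, 72, 108, 109, 123] :=
  C.conv (f11362 C) (f6836 C) (f6836 C) _ [141, 157, 169, 172, 177] _ (by decide +kernel) (by decide +kernel) (by decide +kernel)

theorem f12973 : C.S (v3 C) [26, 33, 69, 81, 108, 110, 118] :=
  C.stMul (f353 C) (f12469 C) _ (by decide +kernel)

theorem f12974 : C.T (v3 C) [15, 27, 59, 80, 91, 109, 113] (v18 C) [26, 33, 66, 80, 90, 109, 121] :=
  C.conv (f9432 C) (f9640 C) (f12973 C) _ [134, 156, 167, 171] _ (by decide +kernel) (by decide +kernel) (by decide +kernel)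

theorem f12975 : C.T (v18 C) [26, 33, 66, 80, 90, 109, 121] (v3 C) [15, 27, 59, 80, 91, 109, 113] :=
  C.flip (f12974 C)

theorem f12976 : C.T (v18 C) [6, 34, 64, 78, 92, 119] (v18 C) [27, 69, 70, 105, 109, 117] :=
  C.closeT (p := (v3 C)) (pu := [19, 40, 68, 88, 105, 110, 124])
    (C.pT (f12971 C)
    (C.pH [26, 38, 54, 89, 90, 113] [24, 34, 62, 76, 98, 109, 118] (by decide +kernel)
    (C.pT (f12972 C)
    (C.pH [8, 30, 65, 84, 94, 117] [6, 34, 64, 78, 92, 119] (by decide +kernel) (C.pNil _ _)))))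
    (C.pH [26, 38, 54, 89, 90, 113] [26, 33, 66, 80, 90, 109, 121] (by decide +kernel)
    (C.pT (f12975 C)
    (C.pH [8, 30, 65, 84, 94, 117] [19, 40, 68, 88, 105, 110, 124] (by decide +kernel) (C.pNil _ _))))
    (C.loop_of_one (relLoop2 C) _ _)

theorem f12977 : C.T (v18 C) [27, 69, 70, 105, 109, 117] (v18 C) [6, 34, 64, 78, 92, 119] :=
  C.flip (f12976 C)

theorem f12978 : C.T (v3 C) [8, 31, 65, 88, 94, 109, 125] (v18 C) [24, 31, 50, 81, 93, 110, 123] :=
  C.conv (f6916 C) (f7402 C) (f7402 C) _ [148, 163, 178] _ (by decide +kernel) (by decide +kernel) (by decide +kernel)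

theorem f12979 : C.S (v3 C) [19, 48, 52, 86, 91, 110, 115] :=
  C.stMul (f331 C) (f12741 C) _ (by decide +kernel)

theorem f12980 : C.T (v3 C) [36, 55, 87, 90, 110, 114] (v18 C) [14, 27, 62, 84, 102, 121] :=
  C.conv (f7327 C) (f7806 C) (f12979 C) _ [144, 158, 165, 172, 177] _ (by decide +kernel) (by decide +kernel) (by decide +kernel)

theorem f12981 : C.T (v18 C) [14, 27, 62, 84, 102, 121] (v3 C) [36, 55, 87, 90, 110, 114] :=
  C.flip (f12980 C)

theorem f12982 : C.T (v18 C) [12, 39, 66, 70, 93, 110, 116] (v18 C) [5, 37, 67, 80, 95, 116] :=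
  C.conv (f9511 C) (f10981 C) (f7121 C) _ [147, 159, 170, 174, 177] _ (by decide +kernel) (by decide +kernel) (by decide +kernel)

theorem f12983 : C.T (v18 C) [5, 37, 67, 80, 95, 116] (v18 C) [12, 39, 66, 70, 93, 110, 116] :=
  C.flip (f12982 C)

theorem f12984 : C.T (v18 C) [12, 37, 52, 81, 96] (v18 C) [14, 45, 62, 70, 107, 122] :=
  C.closeT (p := (v3 C)) (pu := [8, 31, 65, 88, 94, 109, 125])
    (C.pT (f12978 C)
    (C.pH [26, 38, 54, 89, 90, 113] [12, 37, 52, 81, 96] (by decide +kernel) (C.pNil _ _)))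
    (C.pH [8, 30, 65, 84, 94, 117] [5, 37, 67, 80, 95, 116] (by decide +kernel)
    (C.pT (f12983 C)
    (C.pH [26, 38, 54, 89, 90, 113] [14, 27, 62, 84, 102, 121] (by decide +kernel)
    (C.pT (f12981 C)
    (C.pH [8, 30, 65, 84, 94, 117] [8, 31, 65, 88, 94, 109, 125] (by decide +kernel) (C.pNil _ _))))))
    (C.loop_of_one (relLoop2 C) _ _)

theorem f12988 : C.T (v3 C) [15, 33, 66, 74, 90] (v18 C) [24, 31, 65, 80, 92, 109, 116] :=
  C.conv (f6916 C) (f7402 C) (f7402 C) _ [139, 160, 166, 172, 177] _ (by decide +kernel) (by decide +kernel) (by decide +kernel)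

theorem f12989 : C.S (v3 C) [13, 29, 60, 92, 109, 121] :=
  C.stMul (f353 C) (f328 C) _ (by decide +kernel)

theorem f12990 : C.S (v3 C) [30, 69, 79, 91] :=
  C.stMul (f335 C) (f12989 C) _ (by decide +kernel)

theorem f12991 : C.S (v3 C) [11, 37, 67, 78, 101, 109, 120] :=
  C.stMul (f328 C) (f12990 C) _ (by decide +kernel)

theorem f12992 : C.S (v3 C) [13, 37, 57, 76, 92, 109, 116] :=
  C.stMul (f353 C) (f12991 C) _ (by decide +kernel)

theorem f12993 : C.T (v3 C) [10, 32, 49, 76, 95, 112] (v17 C) [20, 43, 65, 71, 95, 110, 112] :=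
  C.conv (f6814 C) (f7361 C) (f12992 C) _ [129, 155, 165, 176, 178] _ (by decide +kernel) (by decide +kernel) (by decide +kernel)

theorem f12994 : C.T (v17 C) [20, 43, 65, 71, 95, 110, 112] (v3 C) [10, 32, 49, 76, 95, 112] :=
  C.flip (f12993 C)

theorem f12995 : C.S (v17 C) [51, 81, 96, 109, 125] :=
  C.stMul (f4132 C) (f4137 C) _ (by decide +kernel)

theorem f12996 : C.T (v17 C) [17, 39, 64, 75, 95, 123] (v18 C) [6, 38, 64, 71, 102, 118] :=
  C.conv (f10874 C) (f4300 C) (f12995 C) _ [148, 170, 175, 177] _ (by decide +kernel) (by decide +kernel) (by decide +kernel)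

theorem f12997 : C.T (v18 C) [6, 38, 64, 71, 102, 118] (v17 C) [17, 39, 64, 75, 95, 123] :=
  C.flip (f12996 C)

theorem f12998 : C.T (v18 C) [12, 37, 60, 86, 93, 109, 122] (v18 C) [22, 39, 64, 82, 106, 113] :=
  C.closeT (p := (v3 C)) (pu := [15, 33, 66, 74, 90])
    (C.pT (f12988 C)
    (C.pH [26, 38, 54, 89, 90, 113] [12, 37, 60, 86, 93, 109, 122] (by decide +kernel) (C.pNil _ _)))
    (C.pH [8, 30, 65, 84, 94, 117] [6, 38, 64, 71, 102, 118] (by decide +kernel)
    (C.pT (f12997 C)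
    (C.pH [26, 38, 54, 89, 90, 113] [20, 43, 65, 71, 95, 110, 112] (by decide +kernel)
    (C.pT (f12994 C)
    (C.pH [8, 30, 65, 84, 94, 117] [15, 33, 66, 74, 90] (by decide +kernel) (C.pNil _ _))))))
    (C.loop_of_one (relLoop2 C) _ _)

theorem f12999 : C.T (v18 C) [22, 39, 64, 82, 106, 113] (v18 C) [12, 37, 60, 86, 93, 109, 122] :=
  C.flip (f12998 C)

theorem f13000 : C.T (v3 C) [16, 40, 59, 82, 99, 109, 112] (v18 C) [25, 29, 66, 82, 107, 110] :=
  C.conv (f6916 C) (f7402 C) (f7402 C) _ [139, 162, 167, 173, 177] _ (by decide +kernel) (by decide +kernel) (by decide +kernel)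

theorem f13001 : C.S (v3 C) [4, 35, 66, 84, 105, 109, 115] :=
  C.stMul (f335 C) (f331 C) _ (by decide +kernel)

theorem f13002 : C.S (v3 C) [6, 43, 52, 78, 106, 118] :=
  C.stMul (f328 C) (f13001 C) _ (by decide +kernel)

theorem f13003 : C.S (v3 C) [26, 32, 53, 86, 108, 110, 118] :=
  C.stMul (f331 C) (f13002 C) _ (by decide +kernel)

theorem f13004 : C.T (v3 C) [24, 32, 64, 90, 109, 121] (v17 C) [16, 36, 54, 81, 102, 110] :=
  C.conv (f6828 C) (f9427 C) (f13003 C) _ [139, 160, 168, 172] _ (by decide +kernel) (by decide +kernel) (by decide +kernel)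

theorem f13005 : C.T (v17 C) [16, 36, 54, 81, 102, 110] (v3 C) [24, 32, 64, 90, 109, 121] :=
  C.flip (f13004 C)

theorem f13006 : C.T (v17 C) [26, 41, 78, 100, 110, 111] (v17 C) [18, 31, 59, 81, 108, 110, 121] :=
  C.conv (f5036 C) (f4137 C) (f4132 C) _ [135, 154, 166, 175] _ (by decide +kernel) (by decide +kernel) (by decide +kernel)

theorem f13007 : C.T (v17 C) [18, 31, 59, 81, 108, 110, 121] (v17 C) [26, 41, 78, 100, 110, 111] :=
  C.flip (f13006 C)

theorem f13008 : C.T (v18 C) [18, 28, 58, 79, 101, 123] (v17 C) [9, 37, 62, 73, 110, 112] :=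
  C.closeT (p := (v3 C)) (pu := [16, 40, 59, 82, 99, 109, 112])
    (C.pT (f13000 C)
    (C.pH [26, 38, 54, 89, 90, 113] [18, 28, 58, 79, 101, 123] (by decide +kernel) (C.pNil _ _)))
    (C.pH [8, 30, 65, 84, 94, 117] [18, 31, 59, 81, 108, 110, 121] (by decide +kernel)
    (C.pT (f13007 C)
    (C.pH [26, 38, 54, 89, 90, 113] [16, 36, 54, 81, 102, 110] (by decide +kernel)
    (C.pT (f13005 C)
    (C.pH [8, 30, 65, 84, 94, 117] [16, 40, 59, 82, 99, 109, 112] (by decide +kernel) (C.pNil _ _))))))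
    (C.loop_of_one (relLoop2 C) _ _)

theorem f13009 : C.T (v17 C) [9, 37, 62, 73, 110, 112] (v18 C) [18, 28, 58, 79, 101, 123] :=
  C.flip (f13008 C)

theorem f13010 : C.T (v3 C) [16, 41, 69, 72, 91, 110] (v18 C) [43, 51, 72, 104, 111] :=
  C.conv (f6916 C) (f7402 C) (f7402 C) _ [148, 154, 168, 171] _ (by decide +kernel) (by decide +kernel) (by decide +kernel)

theorem f13011 : C.S (v3 C) [7, 37, 53, 78, 98, 118] :=
  C.stMul (f353 C) (f335 C) _ (by decide +kernel)

theorem f13012 : C.S (v3 C) [12, 31, 63, 83, 106, 121] :=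
  C.stMul (f331 C) (f13011 C) _ (by decide +kernel)

theorem f13013 : C.T (v3 C) [24, 30, 67, 83, 90, 119] (v2 C) [25, 46, 53, 79, 106] :=
  C.conv (f346 C) (f391 C) (f13012 C) _ [142, 161, 170, 177] _ (by decide +kernel) (by decide +kernel) (by decide +kernel)

theorem f13014 : C.T (v2 C) [25, 46, 53, 79, 106] (v3 C) [24, 30, 67, 83, 90, 119] :=
  C.flip (f13013 C)

theorem f13015 : C.S (v2 C) [23, 47, 61, 79, 105, 120] :=
  C.stMul (f149 C) (f109 C) _ (by decide +kernel)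

theorem f13016 : C.S (v2 C) [21, 27, 52, 73, 95, 114] :=
  C.stMul (f243 C) (f13015 C) _ (by decide +kernel)

theorem f13017 : C.T (v2 C) [4, 41, 53, 84, 92, 110, 124] (v18 C) [6, 29, 62, 77, 93, 110, 122] :=
  C.conv (f8124 C) (f8182 C) (f13016 C) _ [132, 163, 165, 174, 177] _ (by decide +kernel) (by decide +kernel) (by decide +kernel)

theorem f13018 : C.T (v18 C) [6, 29, 62, 77, 93, 110, 122] (v2 C) [4, 41, 53, 84, 92, 110, 124] :=
  C.flip (f13017 C)

theorem f13019 : C.T (v18 C) [26, 28, 51, 77, 97, 109, 113] (v18 C) [22, 34, 66, 78, 102, 118] :=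
  C.closeT (p := (v3 C)) (pu := [16, 41, 69, 72, 91, 110])
    (C.pT (f13010 C)
    (C.pH [26, 38, 54, 89, 90, 113] [26, 28, 51, 77, 97, 109, 113] (by decide +kernel) (C.pNil _ _)))
    (C.pH [8, 30, 65, 84, 94, 117] [6, 29, 62, 77, 93, 110, 122] (by decide +kernel)
    (C.pT (f13018 C)
    (C.pH [26, 38, 54, 89, 90, 113] [25, 46, 53, 79, 106] (by decide +kernel)
    (C.pT (f13014 C)
    (C.pH [8, 30, 65, 84, 94, 117] [16, 41, 69, 72, 91, 110] (by decide +kernel) (C.pNil _ _))))))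
    (C.loop_of_one (relLoop2 C) _ _)

theorem f13020 : C.T (v18 C) [22, 34, 66, 78, 102, 118] (v18 C) [26, 28, 51, 77, 97, 109, 113] :=
  C.flip (f13019 C)

theorem f13021 : C.T (v3 C) [11, 27, 69, 79, 96, 109, 114] (v18 C) [21, 28, 65, 72, 108, 113] :=
  C.conv (f6916 C) (f7402 C) (f7402 C) _ [142, 152, 166, 172, 178] _ (by decide +kernel) (by decide +kernel) (by decide +kernel)

theorem f13022 : C.T (v18 C) [6, 36, 66, 103] (v18 C) [24, 40, 57, 89, 100] :=
  C.conv (f9474 C) (f6836 C) (f7121 C) _ [140, 155, 169, 176, 177] _ (by decide +kernel) (by decide +kernel) (by decide +kernel)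

theorem f13023 : C.T (v3 C) [13, 47, 49, 81, 101, 123] (v18 C) [24, 41, 54, 109, 121] :=
  C.conv (f7327 C) (f7806 C) (f9321 C) _ [145, 156, 170, 175, 177] _ (by decide +kernel) (by decide +kernel) (by decide +kernel)

theorem f13024 : C.T (v18 C) [24, 41, 54, 109, 121] (v3 C) [13, 47, 49, 81, 101, 123] :=
  C.flip (f13023 C)

theorem f13025 : C.T (v18 C) [16, 42, 64, 74, 96, 110, 120] (v18 C) [11, 39, 61, 102, 109, 118] :=
  C.closeT (p := (v3 C)) (pu := [11, 27, 69, 79, 96, 109, 114])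
    (C.pT (f13021 C)
    (C.pH [26, 38, 54, 89, 90, 113] [6, 36, 66, 103] (by decide +kernel)
    (C.pT (f13022 C)
    (C.pH [8, 30, 65, 84, 94, 117] [16, 42, 64, 74, 96, 110, 120] (by decide +kernel) (C.pNil _ _)))))
    (C.pH [26, 38, 54, 89, 90, 113] [24, 41, 54, 109, 121] (by decide +kernel)
    (C.pT (f13024 C)
    (C.pH [8, 30, 65, 84, 94, 117] [11, 27, 69, 79, 96, 109, 114] (by decide +kernel) (C.pNil _ _))))
    (C.loop_of_one (relLoop2 C) _ _)

theorem f13026 : C.T (v18 C) [11, 39, 61, 102, 109, 118] (v18 C) [16, 42, 64, 74, 96, 110, 120] :=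
  C.flip (f13025 C)

theorem f13027 : C.T (v3 C) [22, 37, 66, 74, 103, 124] (v18 C) [8, 37, 63, 74, 105, 117] :=
  C.conv (f6916 C) (f7402 C) (f7402 C) _ [133, 152, 166, 178] _ (by decide +kernel) (by decide +kernel) (by decide +kernel)

theorem f13028 : C.S (v3 C) [12, 35, 65, 93, 109, 125] :=
  C.stMul (f331 C) (f11943 C) _ (by decide +kernel)

theorem f13029 : C.T (v3 C) [17, 42, 65, 75, 95, 109, 119] (v18 C) [11, 42, 61, 83, 95, 125] :=
  C.conv (f9432 C) (f9640 C) (f13028 C) _ [136, 161, 176, 177] _ (by decide +kernel) (by decide +kernel) (by decide +kernel)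

theorem f13030 : C.T (v18 C) [11, 42, 61, 83, 95, 125] (v3 C) [17, 42, 65, 75, 95, 109, 119] :=
  C.flip (f13029 C)

theorem f13031 : C.T (v18 C) [8, 36, 62, 83, 108, 110, 111] (v18 C) [26, 48, 61, 80, 106, 109, 121] :=
  C.conv (f9534 C) (f10956 C) (f10956 C) _ [130, 150, 168, 172, 177] _ (by decide +kernel) (by decide +kernel) (by decide +kernel)

theorem f13032 : C.T (v18 C) [26, 48, 61, 80, 106, 109, 121] (v18 C) [8, 36, 62, 83, 108, 110, 111] :=
  C.flip (f13031 C)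

theorem f13033 : C.T (v18 C) [11, 48, 68, 81, 99, 123] (v18 C) [19, 67, 80, 92, 110, 115] :=
  C.closeT (p := (v3 C)) (pu := [22, 37, 66, 74, 103, 124])
    (C.pT (f13027 C)
    (C.pH [26, 38, 54, 89, 90, 113] [11, 48, 68, 81, 99, 123] (by decide +kernel) (C.pNil _ _)))
    (C.pH [8, 30, 65, 84, 94, 117] [26, 48, 61, 80, 106, 109, 121] (by decide +kernel)
    (C.pT (f13032 C)
    (C.pH [26, 38, 54, 89, 90, 113] [11, 42, 61, 83, 95, 125] (by decide +kernel)
    (C.pT (f13030 C)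
    (C.pH [8, 30, 65, 84, 94, 117] [22, 37, 66, 74, 103, 124] (by decide +kernel) (C.pNil _ _))))))
    (C.loop_of_one (relLoop2 C) _ _)

theorem f13034 : C.T (v18 C) [19, 67, 80, 92, 110, 115] (v18 C) [11, 48, 68, 81, 99, 123] :=
  C.flip (f13033 C)

theorem f13035 : C.T (v3 C) [10, 34, 64, 84, 90, 112] (v18 C) [16, 29, 69, 83, 104, 109, 113] :=
  C.conv (f6916 C) (f7402 C) (f7402 C) _ [147, 157, 164, 175] _ (by decide +kernel) (by decide +kernel) (by decide +kernel)

theorem f13036 : C.T (v3 C) [23, 41, 53, 83, 101, 113] (v18 C) [11, 28, 62, 88, 94, 110, 115] :=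
  C.conv (f9432 C) (f9640 C) (f11943 C) _ [137, 157, 170, 175, 178] _ (by decide +kernel) (by decide +kernel) (by decide +kernel)

theorem f13037 : C.T (v18 C) [11, 28, 62, 88, 94, 110, 115] (v3 C) [23, 41, 53, 83, 101, 113] :=
  C.flip (f13036 C)

theorem f13038 : C.S (v18 C) [26, 43, 49, 77, 91, 110, 115] :=
  C.stMul (f6836 C) (f6836 C) _ (by decide +kernel)

theorem f13039 : C.T (v18 C) [8, 38, 59, 76, 105, 110, 116] (v5 C) [7, 33, 60, 82, 99, 119] :=
  C.conv (f9049 C) (f13038 C) (f6836 C) _ [145, 154, 166, 172, 178] _ (by decide +kernel) (by decide +kernel) (by decide +kernel)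

theorem f13040 : C.T (v5 C) [7, 33, 60, 82, 99, 119] (v18 C) [8, 38, 59, 76, 105, 110, 116] :=
  C.flip (f13039 C)

theorem f13041 : C.T (v18 C) [13, 30, 69, 70, 101, 122] (v5 C) [11, 36, 54, 72, 91, 109, 120] :=
  C.closeT (p := (v3 C)) (pu := [10, 34, 64, 84, 90, 112])
    (C.pT (f13035 C)
    (C.pH [26, 38, 54, 89, 90, 113] [13, 30, 69, 70, 101, 122] (by decide +kernel) (C.pNil _ _)))
    (C.pH [8, 30, 65, 84, 94, 117] [7, 33, 60, 82, 99, 119] (by decide +kernel)
    (C.pT (f13040 C)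
    (C.pH [26, 38, 54, 89, 90, 113] [11, 28, 62, 88, 94, 110, 115] (by decide +kernel)
    (C.pT (f13037 C)
    (C.pH [8, 30, 65, 84, 94, 117] [10, 34, 64, 84, 90, 112] (by decide +kernel) (C.pNil _ _))))))
    (C.loop_of_one (relLoop2 C) _ _)

theorem f13042 : C.T (v5 C) [11, 36, 54, 72, 91, 109, 120] (v18 C) [13, 30, 69, 70, 101, 122] :=
  C.flip (f13041 C)

theorem f13043 : C.T (v3 C) [20, 35, 59, 75, 91, 109, 111] (v18 C) [25, 43, 68, 76, 96, 109, 119] :=
  C.conv (f7327 C) (f7806 C) (f7806 C) _ [149, 165, 176, 178] _ (by decide +kernel) (by decide +kernel) (by decide +kernel)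

theorem f13044 : C.T (v3 C) [16, 48, 64, 79, 110, 114] (v17 C) [12, 33, 63, 89, 97, 121] :=
  C.conv (f6269 C) (f7309 C) (f10555 C) _ [143, 161, 168, 172, 178] _ (by decide +kernel) (by decide +kernel) (by decide +kernel)

theorem f13045 : C.T (v17 C) [12, 33, 63, 89, 97, 121] (v3 C) [16, 48, 64, 79, 110, 114] :=
  C.flip (f13044 C)

theorem f13046 : C.S (v17 C) [23, 31, 49, 84, 96, 117] :=
  C.stMul (f4137 C) (f4137 C) _ (by decide +kernel)

theorem f13047 : C.S (v17 C) [51, 81, 96, 109, 125] :=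
  C.stMul (f4132 C) (f4137 C) _ (by decide +kernel)

theorem f13048 : C.T (v17 C) [24, 47, 65, 84, 95, 119] (v18 C) [26, 28, 59, 74, 102, 125] :=
  C.conv (f7746 C) (f13046 C) (f13047 C) _ [138, 162, 168, 176, 177] _ (by decide +kernel) (by decide +kernel) (by decide +kernel)

theorem f13049 : C.T (v18 C) [26, 28, 59, 74, 102, 125] (v17 C) [24, 47, 65, 84, 95, 119] :=
  C.flip (f13048 C)

theorem f13050 : C.T (v18 C) [18, 29, 52, 70, 106, 119] (v18 C) [19, 36, 66, 89, 106, 119] :=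
  C.closeT (p := (v3 C)) (pu := [20, 35, 59, 75, 91, 109, 111])
    (C.pT (f13043 C)
    (C.pH [26, 38, 54, 89, 90, 113] [18, 29, 52, 70, 106, 119] (by decide +kernel) (C.pNil _ _)))
    (C.pH [8, 30, 65, 84, 94, 117] [26, 28, 59, 74, 102, 125] (by decide +kernel)
    (C.pT (f13049 C)
    (C.pH [26, 38, 54, 89, 90, 113] [12, 33, 63, 89, 97, 121] (by decide +kernel)
    (C.pT (f13045 C)
    (C.pH [8, 30, 65, 84, 94, 117] [20, 35, 59, 75, 91, 109, 111] (by decide +kernel) (C.pNil _ _))))))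
    (C.loop_of_one (relLoop2 C) _ _)

theorem f13051 : C.T (v18 C) [19, 36, 66, 89, 106, 119] (v18 C) [18, 29, 52, 70, 106, 119] :=
  C.flip (f13050 C)

theorem f13052 : C.T (v3 C) [21, 35, 67, 82, 90, 110, 114] (v18 C) [7, 44, 56, 88, 102, 125] :=
  C.conv (f7327 C) (f7806 C) (f7806 C) _ [147, 160, 167, 171, 177] _ (by decide +kernel) (by decide +kernel) (by decide +kernel)

theorem f13053 : C.S (v3 C) [15, 38, 55, 77, 98, 114] :=
  C.stMul (f331 C) (f8401 C) _ (by decide +kernel)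

theorem f13054 : C.S (v3 C) [8, 27, 64, 80, 97, 109, 113] :=
  C.stMul (f353 C) (f13053 C) _ (by decide +kernel)

theorem f13055 : C.S (v3 C) [14, 37, 49, 82, 96, 123] :=
  C.stMul (f335 C) (f13054 C) _ (by decide +kernel)

theorem f13056 : C.T (v3 C) [12, 34, 85, 102, 110, 113] (v18 C) [9, 44, 66, 84, 104, 109, 116] :=
  C.conv (f6911 C) (f8231 C) (f13055 C) _ [144, 157, 171, 178] _ (by decide +kernel) (by decide +kernel) (by decide +kernel)

theorem f13057 : C.T (v18 C) [9, 44, 66, 84, 104, 109, 116] (v3 C) [12, 34, 85, 102, 110, 113] :=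
  C.flip (f13056 C)

theorem f13058 : C.S (v18 C) [26, 43, 49, 77, 91, 110, 115] :=
  C.stMul (f6836 C) (f6836 C) _ (by decide +kernel)

theorem f13059 : C.T (v18 C) [15, 34, 50, 89, 107, 113] (v17 C) [25, 30, 62, 71, 98, 118] :=
  C.conv (f11432 C) (f13058 C) (f13058 C) _ [142, 163, 165, 176, 177] _ (by decide +kernel) (by decide +kernel) (by decide +kernel)

theorem f13060 : C.T (v17 C) [25, 30, 62, 71, 98, 118] (v18 C) [15, 34, 50, 89, 107, 113] :=
  C.flip (f13059 C)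

theorem f13061 : C.T (v18 C) [34, 52, 86, 107, 110, 124] (v17 C) [4, 48, 65, 78, 95, 110, 124] :=
  C.closeT (p := (v3 C)) (pu := [21, 35, 67, 82, 90, 110, 114])
    (C.pT (f13052 C)
    (C.pH [26, 38, 54, 89, 90, 113] [34, 52, 86, 107, 110, 124] (by decide +kernel) (C.pNil _ _)))
    (C.pH [8, 30, 65, 84, 94, 117] [25, 30, 62, 71, 98, 118] (by decide +kernel)
    (C.pT (f13060 C)
    (C.pH [26, 38, 54, 89, 90, 113] [9, 44, 66, 84, 104, 109, 116] (by decide +kernel)
    (C.pT (f13057 C)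
    (C.pH [8, 30, 65, 84, 94, 117] [21, 35, 67, 82, 90, 110, 114] (by decide +kernel) (C.pNil _ _))))))
    (C.loop_of_one (relLoop2 C) _ _)

theorem f13062 : C.T (v17 C) [4, 48, 65, 78, 95, 110, 124] (v18 C) [34, 52, 86, 107, 110, 124] :=
  C.flip (f13061 C)

theorem f13063 : C.T (v3 C) [10, 36, 53, 86, 105, 109, 122] (v18 C) [20, 48, 53, 85, 93, 110, 123] :=
  C.conv (f7327 C) (f7806 C) (f7806 C) _ [143, 151, 165, 172] _ (by decide +kernel) (by decide +kernel) (by decide +kernel)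

theorem f13064 : C.S (v3 C) [16, 65, 76, 94, 125] :=
  C.stMul (f335 C) (f8121 C) _ (by decide +kernel)

theorem f13065 : C.T (v3 C) [23, 39, 53, 72, 93, 109, 112] (v18 C) [65, 79, 97, 122] :=
  C.conv (f6888 C) (f7333 C) (f13064 C) _ [133, 159, 173, 178] _ (by decide +kernel) (by decide +kernel) (by decide +kernel)

theorem f13066 : C.T (v18 C) [65, 79, 97, 122] (v3 C) [23, 39, 53, 72, 93, 109, 112] :=
  C.flip (f13065 C)

theorem f13067 : C.S (v18 C) [26, 43, 49, 77, 91, 110, 115] :=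
  C.stMul (f6836 C) (f6836 C) _ (by decide +kernel)

theorem f13068 : C.T (v18 C) [7, 39, 62, 76, 98, 109, 125] (v16 C) [22, 53, 73, 98, 109] :=
  C.conv (f12383 C) (f13067 C) (f6836 C) _ [133, 165, 172, 177] _ (by decide +kernel) (by decide +kernel) (by decide +kernel)

theorem f13069 : C.T (v16 C) [22, 53, 73, 98, 109] (v18 C) [7, 39, 62, 76, 98, 109, 125] :=
  C.flip (f13068 C)

theorem f13070 : C.T (v18 C) [15, 55, 71, 96, 110, 118] (v16 C) [17, 45, 60, 74, 109, 116] :=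
  C.closeT (p := (v3 C)) (pu := [10, 36, 53, 86, 105, 109, 122])
    (C.pT (f13063 C)
    (C.pH [26, 38, 54, 89, 90, 113] [15, 55, 71, 96, 110, 118] (by decide +kernel) (C.pNil _ _)))
    (C.pH [8, 30, 65, 84, 94, 117] [22, 53, 73, 98, 109] (by decide +kernel)
    (C.pT (f13069 C)
    (C.pH [26, 38, 54, 89, 90, 113] [65, 79, 97, 122] (by decide +kernel)
    (C.pT (f13066 C)
    (C.pH [8, 30, 65, 84, 94, 117] [10, 36, 53, 86, 105, 109, 122] (by decide +kernel) (C.pNil _ _))))))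
    (C.loop_of_one (relLoop2 C) _ _)

theorem f13071 : C.T (v16 C) [17, 45, 60, 74, 109, 116] (v18 C) [15, 55, 71, 96, 110, 118] :=
  C.flip (f13070 C)

theorem f13072 : C.T (v3 C) [6, 28, 59, 89, 94] (v18 C) [15, 45, 68, 74, 106, 109, 118] :=
  C.conv (f7327 C) (f7806 C) (f7806 C) _ [132, 161, 170, 176, 178] _ (by decide +kernel) (by decide +kernel) (by decide +kernel)

theorem f13073 : C.S (v3 C) [8, 48, 63, 86, 90, 110, 123] :=
  C.stMul (f331 C) (f12989 C) _ (by decide +kernel)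

theorem f13074 : C.S (v3 C) [15, 29, 55, 75, 90, 119] :=
  C.stMul (f353 C) (f13073 C) _ (by decide +kernel)

theorem f13075 : C.S (v3 C) [24, 34, 60, 85, 101, 109] :=
  C.stMul (f331 C) (f13074 C) _ (by decide +kernel)

theorem f13076 : C.T (v3 C) [22, 57, 81, 96, 115] (v17 C) [8, 27, 81, 109, 119] :=
  C.conv (f6814 C) (f7361 C) (f13075 C) _ [127, 155, 168, 171] _ (by decide +kernel) (by decide +kernel) (by decide +kernel)

theorem f13077 : C.T (v17 C) [8, 27, 81, 109, 119] (v3 C) [22, 57, 81, 96, 115] :=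
  C.flip (f13076 C)

theorem f13078 : C.S (v17 C) [23, 31, 75, 92, 109, 116] :=
  C.stMul (f4137 C) (f4132 C) _ (by decide +kernel)

theorem f13079 : C.T (v17 C) [5, 43, 64, 82, 97, 109, 123] (v18 C) [15, 44, 53, 84, 93, 109, 113] :=
  C.conv (f12178 C) (f13078 C) (f4137 C) _ [128, 158, 168, 176] _ (by decide +kernel) (by decide +kernel) (by decide +kernel)

theorem f13080 : C.T (v18 C) [15, 44, 53, 84, 93, 109, 113] (v17 C) [5, 43, 64, 82, 97, 109, 123] :=
  C.flip (f13079 C)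

theorem f13081 : C.T (v18 C) [9, 29, 49, 78, 106, 109, 117] (v18 C) [10, 45, 66, 110] :=
  C.closeT (p := (v3 C)) (pu := [6, 28, 59, 89, 94])
    (C.pT (f13072 C)
    (C.pH [26, 38, 54, 89, 90, 113] [9, 29, 49, 78, 106, 109, 117] (by decide +kernel) (C.pNil _ _)))
    (C.pH [8, 30, 65, 84, 94, 117] [15, 44, 53, 84, 93, 109, 113] (by decide +kernel)
    (C.pT (f13080 C)
    (C.pH [26, 38, 54, 89, 90, 113] [8, 27, 81, 109, 119] (by decide +kernel)
    (C.pT (f13077 C)
    (C.pH [8, 30, 65, 84, 94, 117] [6, 28, 59, 89, 94] (by decide +kernel) (C.pNil _ _))))))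
    (C.loop_of_one (relLoop2 C) _ _)

theorem f13082 : C.T (v18 C) [10, 45, 66, 110] (v18 C) [9, 29, 49, 78, 106, 109, 117] :=
  C.flip (f13081 C)

theorem f13083 : C.T (v3 C) [4, 48, 69, 83, 91, 109, 114] (v18 C) [17, 46, 68, 89, 95, 110, 123] :=
  C.conv (f7327 C) (f7806 C) (f7806 C) _ [146, 152, 169, 174, 178] _ (by decide +kernel) (by decide +kernel) (by decide +kernel)

theorem f13084 : C.T (v18 C) [20, 38, 69, 73, 92, 121] (v18 C) [17, 37, 61, 80, 110, 122] :=
  C.conv (f9107 C) (f11200 C) (f7121 C) _ [127, 153, 169, 172, 177] _ (by decide +kernel) (by decide +kernel) (by decide +kernel)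

theorem f13085 : C.T (v3 C) [18, 45, 56, 71, 92, 122] (v18 C) [19, 34, 54, 70, 90, 110, 121] :=
  C.conv (f9432 C) (f9640 C) (f353 C) _ [143, 157, 167, 173, 177] _ (by decide +kernel) (by decide +kernel) (by decide +kernel)

theorem f13086 : C.T (v18 C) [19, 34, 54, 70, 90, 110, 121] (v3 C) [18, 45, 56, 71, 92, 122] :=
  C.flip (f13085 C)

theorem f13087 : C.T (v18 C) [22, 44, 62, 76, 99, 122] (v18 C) [22, 44, 53, 73, 98, 109, 112] :=
  C.closeT (p := (v3 C)) (pu := [4, 48, 69, 83, 91, 109, 114])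
    (C.pT (f13083 C)
    (C.pH [26, 38, 54, 89, 90, 113] [20, 38, 69, 73, 92, 121] (by decide +kernel)
    (C.pT (f13084 C)
    (C.pH [8, 30, 65, 84, 94, 117] [22, 44, 62, 76, 99, 122] (by decide +kernel) (C.pNil _ _)))))
    (C.pH [26, 38, 54, 89, 90, 113] [19, 34, 54, 70, 90, 110, 121] (by decide +kernel)
    (C.pT (f13086 C)
    (C.pH [8, 30, 65, 84, 94, 117] [4, 48, 69, 83, 91, 109, 114] (by decide +kernel) (C.pNil _ _))))
    (C.loop_of_one (relLoop2 C) _ _)

theorem f13090 : C.T (v3 C) [15, 34, 57, 74, 109] (v18 C) [22, 32, 69, 96, 109, 125] :=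
  C.conv (f7327 C) (f7806 C) (f7806 C) _ [138, 154, 164, 176, 177] _ (by decide +kernel) (by decide +kernel) (by decide +kernel)

theorem f13091 : C.S (v3 C) [19, 30, 60, 72, 107, 110, 116] :=
  C.stMul (f331 C) (f335 C) _ (by decide +kernel)

theorem f13092 : C.S (v3 C) [26, 29, 49, 97, 123] :=
  C.stMul (f335 C) (f13091 C) _ (by decide +kernel)

theorem f13093 : C.S (v3 C) [4, 30, 49, 89, 105, 125] :=
  C.stMul (f353 C) (f13092 C) _ (by decide +kernel)

theorem f13094 : C.T (v3 C) [10, 44, 49, 71, 105, 113] (v18 C) [16, 46, 51, 83, 106, 110] :=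
  C.conv (f9432 C) (f9640 C) (f13093 C) _ [126, 162, 167, 171, 177] _ (by decide +kernel) (by decide +kernel) (by decide +kernel)

theorem f13095 : C.T (v18 C) [16, 46, 51, 83, 106, 110] (v3 C) [10, 44, 49, 71, 105, 113] :=
  C.flip (f13094 C)

theorem f13096 : C.T (v18 C) [26, 36, 55, 83, 92, 123] (v18 C) [7, 47, 67, 73, 90, 109, 113] :=
  C.conv (f13081 C) (f7121 C) (f6836 C) _ [143, 160, 168, 175] _ (by decide +kernel) (by decide +kernel) (by decide +kernel)

theorem f13097 : C.T (v18 C) [7, 47, 67, 73, 90, 109, 113] (v18 C) [26, 36, 55, 83, 92, 123] :=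
  C.flip (f13096 C)

theorem f13098 : C.T (v18 C) [19, 29, 62, 72, 107, 110, 112] (v18 C) [11, 37, 53, 73, 95, 110, 125] :=
  C.closeT (p := (v3 C)) (pu := [15, 34, 57, 74, 109])
    (C.pT (f13090 C)
    (C.pH [26, 38, 54, 89, 90, 113] [19, 29, 62, 72, 107, 110, 112] (by decide +kernel) (C.pNil _ _)))
    (C.pH [8, 30, 65, 84, 94, 117] [7, 47, 67, 73, 90, 109, 113] (by decide +kernel)
    (C.pT (f13097 C)
    (C.pH [26, 38, 54, 89, 90, 113] [16, 46, 51, 83, 106, 110] (by decide +kernel)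
    (C.pT (f13095 C)
    (C.pH [8, 30, 65, 84, 94, 117] [15, 34, 57, 74, 109] (by decide +kernel) (C.pNil _ _))))))
    (C.loop_of_one (relLoop2 C) _ _)

theorem f13099 : C.T (v18 C) [11, 37, 53, 73, 95, 110, 125] (v18 C) [19, 29, 62, 72, 107, 110, 112] :=
  C.flip (f13098 C)

theorem f13100 : C.T (v3 C) [9, 46, 52, 70, 98, 115] (v18 C) [4, 38, 54, 79, 93, 110, 115] :=
  C.conv (f8165 C) (f8200 C) (f8200 C) _ [130, 156, 167, 174, 177] _ (by decide +kernel) (by decide +kernel) (by decide +kernel)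

theorem f13101 : C.S (v18 C) [26, 43, 49, 77, 91, 110, 115] :=
  C.stMul (f6836 C) (f6836 C) _ (by decide +kernel)

theorem f13102 : C.T (v18 C) [25, 47, 53, 74, 100, 109, 115] (v18 C) [47, 65, 75, 94, 110, 124] :=
  C.conv (f9141 C) (f13101 C) (f7121 C) _ [145, 153, 170, 175] _ (by decide +kernel) (by decide +kernel) (by decide +kernel)

theorem f13103 : C.T (v3 C) [25, 38, 66, 86, 100, 109, 111] (v18 C) [21, 33, 60, 70, 100, 118] :=
  C.conv (f6902 C) (f7285 C) (f9265 C) _ [129, 162, 166, 176] _ (by decide +kernel) (by decide +kernel) (by decide +kernel)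

theorem f13104 : C.T (v18 C) [21, 33, 60, 70, 100, 118] (v3 C) [25, 38, 66, 86, 100, 109, 111] :=
  C.flip (f13103 C)

theorem f13105 : C.T (v18 C) [8, 41, 63, 86, 100, 110, 115] (v18 C) [10, 31, 52, 82, 98, 109, 120] :=
  C.closeT (p := (v3 C)) (pu := [9, 46, 52, 70, 98, 115])
    (C.pT (f13100 C)
    (C.pH [26, 38, 54, 89, 90, 113] [25, 47, 53, 74, 100, 109, 115] (by decide +kernel)
    (C.pT (f13102 C)
    (C.pH [8, 30, 65, 84, 94, 117] [8, 41, 63, 86, 100, 110, 115] (by decide +kernel) (C.pNil _ _)))))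
    (C.pH [26, 38, 54, 89, 90, 113] [21, 33, 60, 70, 100, 118] (by decide +kernel)
    (C.pT (f13104 C)
    (C.pH [8, 30, 65, 84, 94, 117] [9, 46, 52, 70, 98, 115] (by decide +kernel) (C.pNil _ _))))
    (C.loop_of_one (relLoop2 C) _ _)

theorem f13106 : C.T (v18 C) [10, 31, 52, 82, 98, 109, 120] (v18 C) [8, 41, 63, 86, 100, 110, 115] :=
  C.flip (f13105 C)

theorem f13107 : C.T (v3 C) [17, 27, 60, 72, 103, 110, 116] (v18 C) [15, 45, 49, 87, 100, 122] :=
  C.conv (f8165 C) (f8200 C) (f8200 C) _ [133, 155, 167, 174, 177] _ (by decide +kernel) (by decide +kernel) (by decide +kernel)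

theorem f13108 : C.S (v3 C) [9, 38, 62, 72, 93, 110, 122] :=
  C.stMul (f335 C) (f12675 C) _ (by decide +kernel)

theorem f13109 : C.S (v3 C) [15, 35, 62, 79, 104, 110, 120] :=
  C.stMul (f331 C) (f13108 C) _ (by decide +kernel)

theorem f13110 : C.T (v3 C) [7, 36, 61, 72, 107, 109, 116] (v18 C) [19, 33, 62, 78, 99, 113] :=
  C.conv (f8216 C) (f8435 C) (f13109 C) _ [130, 163, 167, 172] _ (by decide +kernel) (by decide +kernel) (by decide +kernel)

theorem f13111 : C.T (v18 C) [19, 33, 62, 78, 99, 113] (v3 C) [7, 36, 61, 72, 107, 109, 116] :=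
  C.flip (f13110 C)

theorem f13112 : C.T (v18 C) [22, 28, 65, 89, 95, 110, 112] (v18 C) [18, 34, 59, 82, 92, 110, 121] :=
  C.conv (f9736 C) (f7121 C) (f6836 C) _ [137, 154, 166, 175, 178] _ (by decide +kernel) (by decide +kernel) (by decide +kernel)

theorem f13113 : C.T (v18 C) [18, 34, 59, 82, 92, 110, 121] (v18 C) [22, 28, 65, 89, 95, 110, 112] :=
  C.flip (f13112 C)

theorem f13114 : C.T (v18 C) [9, 29, 58, 77, 95, 117] (v18 C) [9, 64, 79, 97, 109, 117] :=
  C.closeT (p := (v3 C)) (pu := [17, 27, 60, 72, 103, 110, 116])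
    (C.pT (f13107 C)
    (C.pH [26, 38, 54, 89, 90, 113] [9, 29, 58, 77, 95, 117] (by decide +kernel) (C.pNil _ _)))
    (C.pH [8, 30, 65, 84, 94, 117] [18, 34, 59, 82, 92, 110, 121] (by decide +kernel)
    (C.pT (f13113 C)
    (C.pH [26, 38, 54, 89, 90, 113] [19, 33, 62, 78, 99, 113] (by decide +kernel)
    (C.pT (f13111 C)
    (C.pH [8, 30, 65, 84, 94, 117] [17, 27, 60, 72, 103, 110, 116] (by decide +kernel) (C.pNil _ _))))))
    (C.loop_of_one (relLoop2 C) _ _)

theorem f13117 : C.T (v3 C) [6, 40, 62, 88, 105, 110, 122] (v18 C) [9, 48, 50, 89, 103, 109, 119] :=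
  C.conv (f8165 C) (f8200 C) (f8200 C) _ [137, 153, 167, 175, 177] _ (by decide +kernel) (by decide +kernel) (by decide +kernel)

theorem f13118 : C.T (v3 C) [22, 45, 67, 77, 102, 109, 113] (v18 C) [26, 34, 55, 88, 90, 109, 122] :=
  C.conv (f9184 C) (f9232 C) (f9565 C) _ [127, 156, 173, 177] _ (by decide +kernel) (by decide +kernel) (by decide +kernel)

theorem f13119 : C.T (v18 C) [26, 34, 55, 88, 90, 109, 122] (v3 C) [22, 45, 67, 77, 102, 109, 113] :=
  C.flip (f13118 C)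

theorem f13120 : C.S (v18 C) [26, 43, 49, 77, 91, 110, 115] :=
  C.stMul (f6836 C) (f6836 C) _ (by decide +kernel)

theorem f13121 : C.T (v18 C) [29, 60, 72, 94, 123] (v18 C) [13, 43, 68, 85, 95, 109, 114] :=
  C.conv (f12354 C) (f13120 C) (f7121 C) _ [129, 152, 169, 171, 177] _ (by decide +kernel) (by decide +kernel) (by decide +kernel)

theorem f13122 : C.T (v18 C) [13, 43, 68, 85, 95, 109, 114] (v18 C) [29, 60, 72, 94, 123] :=
  C.flip (f13121 C)

theorem f13123 : C.T (v18 C) [22, 29, 64, 82, 95, 110, 121] (v18 C) [6, 40, 50, 76, 94, 110, 122] :=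
  C.closeT (p := (v3 C)) (pu := [6, 40, 62, 88, 105, 110, 122])
    (C.pT (f13117 C)
    (C.pH [26, 38, 54, 89, 90, 113] [22, 29, 64, 82, 95, 110, 121] (by decide +kernel) (C.pNil _ _)))
    (C.pH [8, 30, 65, 84, 94, 117] [13, 43, 68, 85, 95, 109, 114] (by decide +kernel)
    (C.pT (f13122 C)
    (C.pH [26, 38, 54, 89, 90, 113] [26, 34, 55, 88, 90, 109, 122] (by decide +kernel)
    (C.pT (f13119 C)
    (C.pH [8, 30, 65, 84, 94, 117] [6, 40, 62, 88, 105, 110, 122] (by decide +kernel) (C.pNil _ _))))))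
    (C.loop_of_one (relLoop2 C) _ _)

theorem f13124 : C.T (v18 C) [6, 40, 50, 76, 94, 110, 122] (v18 C) [22, 29, 64, 82, 95, 110, 121] :=
  C.flip (f13123 C)

theorem f13125 : C.T (v3 C) [20, 46, 52, 85, 108, 117] (v18 C) [23, 31, 63, 71, 90, 110, 124] :=
  C.conv (f8165 C) (f8200 C) (f8200 C) _ [136, 160, 170, 173, 177] _ (by decide +kernel) (by decide +kernel) (by decide +kernel)

theorem f13126 : C.T (v3 C) [16, 35, 52, 84, 105, 110, 113] (v18 C) [18, 48, 67, 81, 92, 109, 111] :=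
  C.conv (f6916 C) (f7402 C) (f12589 C) _ [128, 160, 165, 172, 178] _ (by decide +kernel) (by decide +kernel) (by decide +kernel)

theorem f13127 : C.T (v18 C) [18, 48, 67, 81, 92, 109, 111] (v3 C) [16, 35, 52, 84, 105, 110, 113] :=
  C.flip (f13126 C)

theorem f13128 : C.S (v18 C) [26, 43, 49, 77, 91, 110, 115] :=
  C.stMul (f6836 C) (f6836 C) _ (by decide +kernel)

theorem f13129 : C.T (v18 C) [25, 64, 71, 95, 109, 124] (v17 C) [34, 67, 84, 98, 122] :=
  C.conv (f9440 C) (f7121 C) (f13128 C) _ [153, 166, 176, 178] _ (by decide +kernel) (by decide +kernel) (by decide +kernel)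

theorem f13130 : C.T (v17 C) [34, 67, 84, 98, 122] (v18 C) [25, 64, 71, 95, 109, 124] :=
  C.flip (f13129 C)

theorem f13131 : C.T (v18 C) [7, 29, 59, 74, 92, 110, 121] (v17 C) [8, 31, 61, 79, 102, 110, 122] :=
  C.closeT (p := (v3 C)) (pu := [20, 46, 52, 85, 108, 117])
    (C.pT (f13125 C)
    (C.pH [26, 38, 54, 89, 90, 113] [7, 29, 59, 74, 92, 110, 121] (by decide +kernel) (C.pNil _ _)))
    (C.pH [8, 30, 65, 84, 94, 117] [34, 67, 84, 98, 122] (by decide +kernel)
    (C.pT (f13130 C)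
    (C.pH [26, 38, 54, 89, 90, 113] [18, 48, 67, 81, 92, 109, 111] (by decide +kernel)
    (C.pT (f13127 C)
    (C.pH [8, 30, 65, 84, 94, 117] [20, 46, 52, 85, 108, 117] (by decide +kernel) (C.pNil _ _))))))
    (C.loop_of_one (relLoop2 C) _ _)

theorem f13132 : C.T (v17 C) [8, 31, 61, 79, 102, 110, 122] (v18 C) [7, 29, 59, 74, 92, 110, 121] :=
  C.flip (f13131 C)

theorem f13133 : C.T (v3 C) [21, 68, 87, 96, 109, 115] (v18 C) [4, 35, 68, 72, 96, 110, 112] :=
  C.conv (f8165 C) (f8200 C) (f8200 C) _ [134, 152, 172] _ (by decide +kernel) (by decide +kernel) (by decide +kernel)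

theorem f13134 : C.T (v18 C) [25, 31, 64, 84, 104, 110, 114] (v18 C) [21, 40, 53, 79, 103, 109, 125] :=
  C.conv (f9019 C) (f9021 C) (f9021 C) _ [145, 161, 170, 175, 177] _ (by decide +kernel) (by decide +kernel) (by decide +kernel)

theorem f13135 : C.S (v3 C) [19, 30, 60, 72, 107, 110, 116] :=
  C.stMul (f331 C) (f335 C) _ (by decide +kernel)

theorem f13136 : C.S (v3 C) [5, 38, 50, 82, 105, 109, 122] :=
  C.stMul (f353 C) (f13135 C) _ (by decide +kernel)

theorem f13137 : C.T (v3 C) [12, 37, 58, 77, 100, 110, 122] (v15 C) [5, 55, 73, 105, 110, 112] :=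
  C.conv (f2902 C) (f2981 C) (f13136 C) _ [139, 156, 168, 173] _ (by decide +kernel) (by decide +kernel) (by decide +kernel)

theorem f13138 : C.T (v15 C) [5, 55, 73, 105, 110, 112] (v3 C) [12, 37, 58, 77, 100, 110, 122] :=
  C.flip (f13137 C)

theorem f13139 : C.T (v18 C) [24, 31, 69, 106, 120] (v15 C) [14, 29, 67, 88, 97, 110, 118] :=
  C.closeT (p := (v3 C)) (pu := [21, 68, 87, 96, 109, 115])
    (C.pT (f13133 C)
    (C.pH [26, 38, 54, 89, 90, 113] [25, 31, 64, 84, 104, 110, 114] (by decide +kernel)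
    (C.pT (f13134 C)
    (C.pH [8, 30, 65, 84, 94, 117] [24, 31, 69, 106, 120] (by decide +kernel) (C.pNil _ _)))))
    (C.pH [26, 38, 54, 89, 90, 113] [5, 55, 73, 105, 110, 112] (by decide +kernel)
    (C.pT (f13138 C)
    (C.pH [8, 30, 65, 84, 94, 117] [21, 68, 87, 96, 109, 115] (by decide +kernel) (C.pNil _ _))))
    (C.loop_of_one (relLoop2 C) _ _)

theorem f13140 : C.T (v15 C) [14, 29, 67, 88, 97, 110, 118] (v18 C) [24, 31, 69, 106, 120] :=
  C.flip (f13139 C)

theorem f13141 : C.T (v3 C) [48, 56, 73, 96, 109, 115] (v18 C) [12, 27, 66, 72, 100, 110, 115] :=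
  C.conv (f8165 C) (f8200 C) (f8200 C) _ [143, 154, 166, 171, 177] _ (by decide +kernel) (by decide +kernel) (by decide +kernel)

theorem f13142 : C.S (v3 C) [15, 38, 55, 77, 98, 114] :=
  C.stMul (f331 C) (f2694 C) _ (by decide +kernel)

theorem f13143 : C.S (v3 C) [16, 37, 62, 81, 101, 109, 123] :=
  C.stMul (f335 C) (f13142 C) _ (by decide +kernel)

theorem f13144 : C.T (v3 C) [8, 46, 49, 74, 97, 109, 117] (v5 C) [18, 52, 78, 97, 109, 114] :=
  C.conv (f1048 C) (f1093 C) (f13143 C) _ [127, 150, 169, 172, 177] _ (by decide +kernel) (by decide +kernel) (by decide +kernel)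

theorem f13145 : C.T (v5 C) [18, 52, 78, 97, 109, 114] (v3 C) [8, 46, 49, 74, 97, 109, 117] :=
  C.flip (f13144 C)

theorem f13146 : C.S (v5 C) [41, 51, 86, 105, 123] :=
  C.stMul (f1141 C) (f1008 C) _ (by decide +kernel)

theorem f13147 : C.S (v5 C) [7, 29, 66, 74, 106, 124] :=
  C.stMul (f1141 C) (f986 C) _ (by decide +kernel)

theorem f13148 : C.S (v5 C) [10, 47, 68, 82, 95, 110] :=
  C.stMul (f986 C) (f13147 C) _ (by decide +kernel)

theorem f13149 : C.S (v5 C) [7, 39, 54, 82, 99, 110, 121] :=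
  C.stMul (f986 C) (f13148 C) _ (by decide +kernel)

theorem f13150 : C.T (v5 C) [25, 40, 53, 72, 94, 114] (v18 C) [9, 47, 57, 73, 91, 112] :=
  C.conv (f7535 C) (f13146 C) (f13149 C) _ [133, 162, 170, 176] _ (by decide +kernel) (by decide +kernel) (by decide +kernel)

theorem f13151 : C.T (v18 C) [9, 47, 57, 73, 91, 112] (v5 C) [25, 40, 53, 72, 94, 114] :=
  C.flip (f13150 C)

theorem f13152 : C.T (v18 C) [14, 34, 62, 73, 98, 121] (v18 C) [25, 58, 86, 92, 109, 112] :=
  C.closeT (p := (v3 C)) (pu := [48, 56, 73, 96, 109, 115])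
    (C.pT (f13141 C)
    (C.pH [26, 38, 54, 89, 90, 113] [14, 34, 62, 73, 98, 121] (by decide +kernel) (C.pNil _ _)))
    (C.pH [8, 30, 65, 84, 94, 117] [9, 47, 57, 73, 91, 112] (by decide +kernel)
    (C.pT (f13151 C)
    (C.pH [26, 38, 54, 89, 90, 113] [18, 52, 78, 97, 109, 114] (by decide +kernel)
    (C.pT (f13145 C)
    (C.pH [8, 30, 65, 84, 94, 117] [48, 56, 73, 96, 109, 115] (by decide +kernel) (C.pNil _ _))))))
    (C.loop_of_one (relLoop2 C) _ _)

theorem f13153 : C.T (v18 C) [25, 58, 86, 92, 109, 112] (v18 C) [14, 34, 62, 73, 98, 121] :=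
  C.flip (f13152 C)

theorem f13154 : C.T (v3 C) [5, 39, 63, 74, 92, 109, 119] (v18 C) [17, 48, 59, 74, 108, 110, 119] :=
  C.conv (f8165 C) (f8200 C) (f8200 C) _ [157, 167, 177] _ (by decide +kernel) (by decide +kernel) (by decide +kernel)

theorem f13155 : C.S (v3 C) [4, 41, 69, 89, 93, 110, 125] :=
  C.stMul (f353 C) (f10328 C) _ (by decide +kernel)

theorem f13156 : C.T (v3 C) [14, 33, 63, 79, 101, 125] (v18 C) [36, 56, 88, 92, 110, 116] :=
  C.conv (f9184 C) (f9232 C) (f13155 C) _ [129, 160, 166, 173, 178] _ (by decide +kernel) (by decide +kernel) (by decide +kernel)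

theorem f13157 : C.T (v18 C) [36, 56, 88, 92, 110, 116] (v3 C) [14, 33, 63, 79, 101, 125] :=
  C.flip (f13156 C)

theorem f13158 : C.T (v18 C) [7, 34, 61, 99, 110, 114] (v18 C) [21, 42, 53, 79, 106] :=
  C.conv (f11639 C) (f7121 C) (f7121 C) _ [131, 160, 167, 175] _ (by decide +kernel) (by decide +kernel) (by decide +kernel)

theorem f13159 : C.T (v18 C) [21, 42, 53, 79, 106] (v18 C) [7, 34, 61, 99, 110, 114] :=
  C.flip (f13158 C)

theorem f13160 : C.T (v18 C) [20, 61, 74, 101, 109, 116] (v18 C) [12, 29, 51, 80, 102, 109, 119] :=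
  C.closeT (p := (v3 C)) (pu := [5, 39, 63, 74, 92, 109, 119])
    (C.pT (f13154 C)
    (C.pH [26, 38, 54, 89, 90, 113] [20, 61, 74, 101, 109, 116] (by decide +kernel) (C.pNil _ _)))
    (C.pH [8, 30, 65, 84, 94, 117] [21, 42, 53, 79, 106] (by decide +kernel)
    (C.pT (f13159 C)
    (C.pH [26, 38, 54, 89, 90, 113] [36, 56, 88, 92, 110, 116] (by decide +kernel)
    (C.pT (f13157 C)
    (C.pH [8, 30, 65, 84, 94, 117] [5, 39, 63, 74, 92, 109, 119] (by decide +kernel) (C.pNil _ _))))))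
    (C.loop_of_one (relLoop2 C) _ _)

theorem f13163 : C.T (v3 C) [23, 42, 62, 79, 109, 117] (v18 C) [5, 30, 65, 88, 90, 109, 121] :=
  C.conv (f8216 C) (f8435 C) (f8435 C) _ [130, 151, 171, 178] _ (by decide +kernel) (by decide +kernel) (by decide +kernel)

theorem f13164 : C.S (v18 C) [26, 43, 49, 77, 91, 110, 115] :=
  C.stMul (f6836 C) (f6836 C) _ (by decide +kernel)

theorem f13165 : C.T (v18 C) [8, 38, 63, 77, 105, 109, 116] (v18 C) [8, 29, 62, 79, 97, 111] :=
  C.conv (f11676 C) (f13164 C) (f13164 C) _ [136, 149, 164, 174] _ (by decide +kernel) (by decide +kernel) (by decide +kernel)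

theorem f13166 : C.T (v3 C) [20, 46, 61, 81, 94, 109, 115] (v18 C) [19, 41, 57, 74, 107, 110, 111] :=
  C.conv (f6916 C) (f7402 C) (f12251 C) _ [144, 157, 167, 172, 178] _ (by decide +kernel) (by decide +kernel) (by decide +kernel)

theorem f13167 : C.T (v18 C) [19, 41, 57, 74, 107, 110, 111] (v3 C) [20, 46, 61, 81, 94, 109, 115] :=
  C.flip (f13166 C)

theorem f13168 : C.T (v18 C) [44, 63, 89, 93, 110, 116] (v18 C) [22, 40, 62, 70, 107, 109, 115] :=
  C.closeT (p := (v3 C)) (pu := [23, 42, 62, 79, 109, 117])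
    (C.pT (f13163 C)
    (C.pH [26, 38, 54, 89, 90, 113] [8, 38, 63, 77, 105, 109, 116] (by decide +kernel)
    (C.pT (f13165 C)
    (C.pH [8, 30, 65, 84, 94, 117] [44, 63, 89, 93, 110, 116] (by decide +kernel) (C.pNil _ _)))))
    (C.pH [26, 38, 54, 89, 90, 113] [19, 41, 57, 74, 107, 110, 111] (by decide +kernel)
    (C.pT (f13167 C)
    (C.pH [8, 30, 65, 84, 94, 117] [23, 42, 62, 79, 109, 117] (by decide +kernel) (C.pNil _ _))))
    (C.loop_of_one (relLoop2 C) _ _)

theorem f13169 : C.T (v18 C) [22, 40, 62, 70, 107, 109, 115] (v18 C) [44, 63, 89, 93, 110, 116] :=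
  C.flip (f13168 C)

theorem f13170 : C.T (v3 C) [5, 45, 50, 75, 94] (v18 C) [9, 33, 69, 74, 102, 110, 123] :=
  C.conv (f8216 C) (f8435 C) (f8435 C) _ [128, 163, 169, 174, 178] _ (by decide +kernel) (by decide +kernel) (by decide +kernel)

theorem f13171 : C.S (v3 C) [25, 37, 55, 85, 105, 109] :=
  C.stMul (f335 C) (f10176 C) _ (by decide +kernel)

theorem f13172 : C.T (v3 C) [14, 48, 49, 84, 105, 110, 115] (v18 C) [8, 44, 58, 77, 103, 110, 118] :=
  C.conv (f6911 C) (f8231 C) (f13171 C) _ [140, 164] _ (by decide +kernel) (by decide +kernel) (by decide +kernel)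

theorem f13173 : C.T (v18 C) [8, 44, 58, 77, 103, 110, 118] (v3 C) [14, 48, 49, 84, 105, 110, 115] :=
  C.flip (f13172 C)

theorem f13174 : C.T (v18 C) [5, 35, 67, 88, 101, 110, 121] (v15 C) [9, 32, 59, 86, 94, 115] :=
  C.conv (f8452 C) (f7121 C) (f7121 C) _ [139, 163, 170, 174] _ (by decide +kernel) (by decide +kernel) (by decide +kernel)

theorem f13175 : C.T (v15 C) [9, 32, 59, 86, 94, 115] (v18 C) [5, 35, 67, 88, 101, 110, 121] :=
  C.flip (f13174 C)

theorem f13176 : C.T (v18 C) [22, 45, 69, 84, 92, 110, 121] (v15 C) [25, 47, 80, 107, 110, 121] :=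
  C.closeT (p := (v3 C)) (pu := [5, 45, 50, 75, 94])
    (C.pT (f13170 C)
    (C.pH [26, 38, 54, 89, 90, 113] [22, 45, 69, 84, 92, 110, 121] (by decide +kernel) (C.pNil _ _)))
    (C.pH [8, 30, 65, 84, 94, 117] [9, 32, 59, 86, 94, 115] (by decide +kernel)
    (C.pT (f13175 C)
    (C.pH [26, 38, 54, 89, 90, 113] [8, 44, 58, 77, 103, 110, 118] (by decide +kernel)
    (C.pT (f13173 C)
    (C.pH [8, 30, 65, 84, 94, 117] [5, 45, 50, 75, 94] (by decide +kernel) (C.pNil _ _))))))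
    (C.loop_of_one (relLoop2 C) _ _)

theorem f13177 : C.T (v15 C) [25, 47, 80, 107, 110, 121] (v18 C) [22, 45, 69, 84, 92, 110, 121] :=
  C.flip (f13176 C)

theorem f13178 : C.T (v3 C) [24, 37, 58, 87, 101, 109, 113] (v18 C) [17, 34, 56, 72, 90, 120] :=
  C.conv (f8216 C) (f8435 C) (f8435 C) _ [138, 155, 174] _ (by decide +kernel) (by decide +kernel) (by decide +kernel)

theorem f13179 : C.T (v18 C) [20, 29, 49, 71, 106, 110, 118] (v15 C) [7, 44, 67, 70, 91, 110, 113] :=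
  C.conv (f9087 C) (f7121 C) (f7121 C) _ [131, 150, 164, 176] _ (by decide +kernel) (by decide +kernel) (by decide +kernel)

theorem f13180 : C.T (v3 C) [21, 32, 68, 85, 101, 109, 116] (v18 C) [6, 62, 110, 125] :=
  C.conv (f6888 C) (f7333 C) (f9956 C) _ [132, 157, 169, 171, 177] _ (by decide +kernel) (by decide +kernel) (by decide +kernel)

theorem f13181 : C.T (v18 C) [6, 62, 110, 125] (v3 C) [21, 32, 68, 85, 101, 109, 116] :=
  C.flip (f13180 C)

theorem f13182 : C.T (v15 C) [17, 36, 82, 92, 117] (v18 C) [21, 29, 49, 83, 96, 110, 113] :=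
  C.closeT (p := (v3 C)) (pu := [24, 37, 58, 87, 101, 109, 113])
    (C.pT (f13178 C)
    (C.pH [26, 38, 54, 89, 90, 113] [20, 29, 49, 71, 106, 110, 118] (by decide +kernel)
    (C.pT (f13179 C)
    (C.pH [8, 30, 65, 84, 94, 117] [17, 36, 82, 92, 117] (by decide +kernel) (C.pNil _ _)))))
    (C.pH [26, 38, 54, 89, 90, 113] [6, 62, 110, 125] (by decide +kernel)
    (C.pT (f13181 C)
    (C.pH [8, 30, 65, 84, 94, 117] [24, 37, 58, 87, 101, 109, 113] (by decide +kernel) (C.pNil _ _))))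
    (C.loop_of_one (relLoop2 C) _ _)

theorem f13183 : C.T (v18 C) [21, 29, 49, 83, 96, 110, 113] (v15 C) [17, 36, 82, 92, 117] :=
  C.flip (f13182 C)

theorem f13184 : C.T (v3 C) [6, 48, 54, 80, 100, 120] (v18 C) [19, 46, 60, 99, 117] :=
  C.conv (f8216 C) (f8435 C) (f8435 C) _ [148, 157, 165, 171, 178] _ (by decide +kernel) (by decide +kernel) (by decide +kernel)

theorem f13185 : C.T (v18 C) [17, 28, 68, 87, 91, 109, 124] (v18 C) [25, 45, 50, 88, 110, 118] :=
  C.conv (f11067 C) (f7121 C) (f7121 C) _ [128, 156, 169, 176, 178] _ (by decide +kernel) (by decide +kernel) (by decide +kernel)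

theorem f13186 : C.T (v3 C) [22, 33, 66, 85, 100, 110, 119] (v18 C) [26, 32, 51, 80, 91, 124] :=
  C.conv (f8216 C) (f8435 C) (f328 C) _ [136, 154, 178] _ (by decide +kernel) (by decide +kernel) (by decide +kernel)

theorem f13187 : C.T (v18 C) [26, 32, 51, 80, 91, 124] (v3 C) [22, 33, 66, 85, 100, 110, 119] :=
  C.flip (f13186 C)

theorem f13188 : C.T (v18 C) [9, 42, 58, 74, 91, 110, 123] (v18 C) [33, 68, 70, 95, 118] :=
  C.closeT (p := (v3 C)) (pu := [6, 48, 54, 80, 100, 120])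
    (C.pT (f13184 C)
    (C.pH [26, 38, 54, 89, 90, 113] [17, 28, 68, 87, 91, 109, 124] (by decide +kernel)
    (C.pT (f13185 C)
    (C.pH [8, 30, 65, 84, 94, 117] [9, 42, 58, 74, 91, 110, 123] (by decide +kernel) (C.pNil _ _)))))
    (C.pH [26, 38, 54, 89, 90, 113] [26, 32, 51, 80, 91, 124] (by decide +kernel)
    (C.pT (f13187 C)
    (C.pH [8, 30, 65, 84, 94, 117] [6, 48, 54, 80, 100, 120] (by decide +kernel) (C.pNil _ _))))
    (C.loop_of_one (relLoop2 C) _ _)

theorem f13189 : C.T (v18 C) [33, 68, 70, 95, 118] (v18 C) [9, 42, 58, 74, 91, 110, 123] :=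
  C.flip (f13188 C)

theorem f13190 : C.T (v3 C) [26, 33, 58, 84, 100, 109, 119] (v18 C) [21, 46, 56, 87, 107, 110, 117] :=
  C.conv (f8216 C) (f8435 C) (f8435 C) _ [131, 159, 167, 173, 178] _ (by decide +kernel) (by decide +kernel) (by decide +kernel)

theorem f13191 : C.S (v3 C) [20, 42, 68, 89, 99] :=
  C.stMul (f335 C) (f353 C) _ (by decide +kernel)

theorem f13192 : C.S (v3 C) [18, 33, 63, 86, 90, 124] :=
  C.stMul (f331 C) (f13191 C) _ (by decide +kernel)

theorem f13193 : C.S (v3 C) [6, 46, 54, 70, 103, 125] :=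
  C.stMul (f335 C) (f13192 C) _ (by decide +kernel)

theorem f13194 : C.T (v3 C) [19, 31, 49, 80, 103, 109, 125] (v17 C) [23, 28, 51, 85, 99, 110, 115] :=
  C.conv (f6814 C) (f7361 C) (f13193 C) _ [129, 156, 169, 171, 178] _ (by decide +kernel) (by decide +kernel) (by decide +kernel)

theorem f13195 : C.T (v17 C) [23, 28, 51, 85, 99, 110, 115] (v3 C) [19, 31, 49, 80, 103, 109, 125] :=
  C.flip (f13194 C)

theorem f13196 : C.S (v17 C) [51, 81, 96, 109, 125] :=
  C.stMul (f4132 C) (f4137 C) _ (by decide +kernel)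

theorem f13197 : C.T (v17 C) [13, 61, 89, 92, 121] (v17 C) [17, 27, 49, 78, 106, 117] :=
  C.conv (f6259 C) (f4300 C) (f13196 C) _ [133, 162, 169, 176, 177] _ (by decide +kernel) (by decide +kernel) (by decide +kernel)

theorem f13198 : C.T (v17 C) [17, 27, 49, 78, 106, 117] (v17 C) [13, 61, 89, 92, 121] :=
  C.flip (f13197 C)

theorem f13199 : C.T (v18 C) [6, 37, 56, 70, 100, 120] (v17 C) [7, 36, 60, 72, 101, 110, 124] :=
  C.closeT (p := (v3 C)) (pu := [26, 33, 58, 84, 100, 109, 119])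
    (C.pT (f13190 C)
    (C.pH [26, 38, 54, 89, 90, 113] [6, 37, 56, 70, 100, 120] (by decide +kernel) (C.pNil _ _)))
    (C.pH [8, 30, 65, 84, 94, 117] [17, 27, 49, 78, 106, 117] (by decide +kernel)
    (C.pT (f13198 C)
    (C.pH [26, 38, 54, 89, 90, 113] [23, 28, 51, 85, 99, 110, 115] (by decide +kernel)
    (C.pT (f13195 C)
    (C.pH [8, 30, 65, 84, 94, 117] [26, 33, 58, 84, 100, 109, 119] (by decide +kernel) (C.pNil _ _))))))
    (C.loop_of_one (relLoop2 C) _ _)

theorem f13200 : C.T (v17 C) [7, 36, 60, 72, 101, 110, 124] (v18 C) [6, 37, 56, 70, 100, 120] :=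
  C.flip (f13199 C)

theorem f13201 : C.T (v3 C) [13, 32, 53, 75, 101, 110, 112] (v18 C) [16, 27, 64, 87, 102, 109, 112] :=
  C.conv (f8216 C) (f8435 C) (f8435 C) _ [130, 160, 177] _ (by decide +kernel) (by decide +kernel) (by decide +kernel)

theorem f13202 : C.S (v3 C) [24, 63, 83, 91, 110, 113] :=
  C.stMul (f353 C) (f13191 C) _ (by decide +kernel)

theorem f13203 : C.S (v3 C) [7, 48, 57, 84, 104, 109, 123] :=
  C.stMul (f335 C) (f13202 C) _ (by decide +kernel)

theorem f13204 : C.T (v3 C) [6, 33, 64, 73, 108, 110, 124] (v17 C) [14, 39, 52, 83, 95, 110, 112] :=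
  C.conv (f6814 C) (f7361 C) (f13203 C) _ [137, 150, 169, 174] _ (by decide +kernel) (by decide +kernel) (by decide +kernel)

theorem f13205 : C.T (v17 C) [14, 39, 52, 83, 95, 110, 112] (v3 C) [6, 33, 64, 73, 108, 110, 124] :=
  C.flip (f13204 C)

theorem f13206 : C.S (v17 C) [23, 31, 49, 84, 96, 117] :=
  C.stMul (f4137 C) (f4137 C) _ (by decide +kernel)

theorem f13207 : C.T (v17 C) [12, 29, 51, 81, 114] (v18 C) [22, 31, 67, 85, 92, 117] :=
  C.conv (f10245 C) (f4132 C) (f13206 C) _ [131, 162, 165, 173, 178] _ (by decide +kernel) (by decide +kernel) (by decide +kernel)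

theorem f13208 : C.T (v18 C) [22, 31, 67, 85, 92, 117] (v17 C) [12, 29, 51, 81, 114] :=
  C.flip (f13207 C)

theorem f13209 : C.T (v18 C) [13, 44, 49, 88, 105, 110, 121] (v18 C) [17, 47, 53, 86, 104, 109, 114] :=
  C.closeT (p := (v3 C)) (pu := [13, 32, 53, 75, 101, 110, 112])
    (C.pT (f13201 C)
    (C.pH [26, 38, 54, 89, 90, 113] [13, 44, 49, 88, 105, 110, 121] (by decide +kernel) (C.pNil _ _)))
    (C.pH [8, 30, 65, 84, 94, 117] [22, 31, 67, 85, 92, 117] (by decide +kernel)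
    (C.pT (f13208 C)
    (C.pH [26, 38, 54, 89, 90, 113] [14, 39, 52, 83, 95, 110, 112] (by decide +kernel)
    (C.pT (f13205 C)
    (C.pH [8, 30, 65, 84, 94, 117] [13, 32, 53, 75, 101, 110, 112] (by decide +kernel) (C.pNil _ _))))))
    (C.loop_of_one (relLoop2 C) _ _)

theorem f13213 : C.T (v3 C) [10, 46, 52, 73, 107, 109, 124] (v18 C) [21, 39, 55, 82, 102] :=
  C.conv (f8223 C) (f8361 C) (f8361 C) _ [145, 155, 170, 176, 178] _ (by decide +kernel) (by decide +kernel) (by decide +kernel)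

theorem f13214 : C.S (v18 C) [26, 43, 49, 77, 91, 110, 115] :=
  C.stMul (f6836 C) (f6836 C) _ (by decide +kernel)

theorem f13215 : C.T (v18 C) [6, 46, 68, 80, 90, 109, 123] (v18 C) [12, 43, 60, 80, 93, 124] :=
  C.conv (f7343 C) (f6836 C) (f13214 C) _ [133, 154, 167, 175, 177] _ (by decide +kernel) (by decide +kernel) (by decide +kernel)

theorem f13216 : C.S (v3 C) [16, 39, 64, 74, 93, 112] :=
  C.stMul (f335 C) (f11911 C) _ (by decide +kernel)

theorem f13217 : C.S (v3 C) [25, 29, 76, 106, 113] :=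
  C.stMul (f331 C) (f13216 C) _ (by decide +kernel)

theorem f13218 : C.T (v3 C) [23, 36, 61, 81, 99, 109, 115] (v18 C) [23, 37, 51, 76, 97, 109, 114] :=
  C.conv (f9221 C) (f9279 C) (f13217 C) _ [131, 155, 168, 176, 177] _ (by decide +kernel) (by decide +kernel) (by decide +kernel)

theorem f13219 : C.T (v18 C) [23, 37, 51, 76, 97, 109, 114] (v3 C) [23, 36, 61, 81, 99, 109, 115] :=
  C.flip (f13218 C)

theorem f13220 : C.T (v18 C) [21, 43, 86, 100, 110, 119] (v18 C) [13, 35, 69, 76, 103, 110, 116] :=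
  C.closeT (p := (v3 C)) (pu := [10, 46, 52, 73, 107, 109, 124])
    (C.pT (f13213 C)
    (C.pH [26, 38, 54, 89, 90, 113] [6, 46, 68, 80, 90, 109, 123] (by decide +kernel)
    (C.pT (f13215 C)
    (C.pH [8, 30, 65, 84, 94, 117] [21, 43, 86, 100, 110, 119] (by decide +kernel) (C.pNil _ _)))))
    (C.pH [26, 38, 54, 89, 90, 113] [23, 37, 51, 76, 97, 109, 114] (by decide +kernel)
    (C.pT (f13219 C)
    (C.pH [8, 30, 65, 84, 94, 117] [10, 46, 52, 73, 107, 109, 124] (by decide +kernel) (C.pNil _ _))))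
    (C.loop_of_one (relLoop2 C) _ _)

theorem f13221 : C.T (v18 C) [13, 35, 69, 76, 103, 110, 116] (v18 C) [21, 43, 86, 100, 110, 119] :=
  C.flip (f13220 C)

theorem f13222 : C.T (v3 C) [12, 63, 87, 106, 121] (v18 C) [11, 39, 57, 77, 95, 125] :=
  C.conv (f8223 C) (f8361 C) (f8361 C) _ [135, 158, 169, 171, 177] _ (by decide +kernel) (by decide +kernel) (by decide +kernel)

theorem f13223 : C.S (v3 C) [17, 52, 88, 94, 110, 125] :=
  C.stMul (f331 C) (f9705 C) _ (by decide +kernel)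

theorem f13224 : C.T (v3 C) [5, 31, 59, 87, 105, 123] (v18 C) [8, 41, 50, 75, 101, 122] :=
  C.conv (f9221 C) (f9279 C) (f13223 C) _ [147, 150, 167, 178] _ (by decide +kernel) (by decide +kernel) (by decide +kernel)

theorem f13225 : C.T (v18 C) [8, 41, 50, 75, 101, 122] (v3 C) [5, 31, 59, 87, 105, 123] :=
  C.flip (f13224 C)

theorem f13226 : C.S (v18 C) [26, 43, 49, 77, 91, 110, 115] :=
  C.stMul (f6836 C) (f6836 C) _ (by decide +kernel)

theorem f13227 : C.T (v18 C) [5, 45, 50, 81, 106, 109, 111] (v18 C) [14, 28, 49, 82, 101, 110, 115] :=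
  C.conv (f10180 C) (f6836 C) (f13226 C) _ [138, 153, 178] _ (by decide +kernel) (by decide +kernel) (by decide +kernel)

theorem f13228 : C.T (v18 C) [14, 28, 49, 82, 101, 110, 115] (v18 C) [5, 45, 50, 81, 106, 109, 111] :=
  C.flip (f13227 C)

theorem f13229 : C.T (v18 C) [24, 41, 65, 89, 91, 110, 121] (v18 C) [26, 44, 66, 72, 94, 109, 121] :=
  C.closeT (p := (v3 C)) (pu := [12, 63, 87, 106, 121])
    (C.pT (f13222 C)
    (C.pH [26, 38, 54, 89, 90, 113] [24, 41, 65, 89, 91, 110, 121] (by decide +kernel) (C.pNil _ _)))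
    (C.pH [8, 30, 65, 84, 94, 117] [14, 28, 49, 82, 101, 110, 115] (by decide +kernel)
    (C.pT (f13228 C)
    (C.pH [26, 38, 54, 89, 90, 113] [8, 41, 50, 75, 101, 122] (by decide +kernel)
    (C.pT (f13225 C)
    (C.pH [8, 30, 65, 84, 94, 117] [12, 63, 87, 106, 121] (by decide +kernel) (C.pNil _ _))))))
    (C.loop_of_one (relLoop2 C) _ _)

theorem f13230 : C.T (v18 C) [26, 44, 66, 72, 94, 109, 121] (v18 C) [24, 41, 65, 89, 91, 110, 121] :=
  C.flip (f13229 C)

theorem f13231 : C.T (v3 C) [17, 29, 52, 77, 109, 113] (v18 C) [26, 42, 67, 89, 95, 113] :=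
  C.conv (f8223 C) (f8361 C) (f8361 C) _ [144, 151, 165, 174, 178] _ (by decide +kernel) (by decide +kernel) (by decide +kernel)

theorem f13232 : C.S (v3 C) [6, 43, 52, 78, 106, 118] :=
  C.stMul (f328 C) (f12171 C) _ (by decide +kernel)

theorem f13233 : C.S (v3 C) [26, 33, 69, 81, 108, 110, 118] :=
  C.stMul (f353 C) (f13232 C) _ (by decide +kernel)

theorem f13234 : C.S (v3 C) [6, 48, 60, 87, 90, 109, 119] :=
  C.stMul (f331 C) (f13233 C) _ (by decide +kernel)

theorem f13235 : C.T (v3 C) [7, 38, 68, 80, 93, 110, 122] (v17 C) [5, 36, 62, 79, 98, 109, 112] :=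
  C.conv (f6814 C) (f7361 C) (f13234 C) _ [136, 169, 176] _ (by decide +kernel) (by decide +kernel) (by decide +kernel)

theorem f13236 : C.T (v17 C) [5, 36, 62, 79, 98, 109, 112] (v3 C) [7, 38, 68, 80, 93, 110, 122] :=
  C.flip (f13235 C)

theorem f13237 : C.T (v17 C) [14, 34, 68, 88, 94, 109, 125] (v17 C) [16, 34, 52, 74, 110, 118] :=
  C.conv (f5360 C) (f4300 C) (f4300 C) _ [147, 161, 165, 174] _ (by decide +kernel) (by decide +kernel) (by decide +kernel)

theorem f13238 : C.T (v17 C) [16, 34, 52, 74, 110, 118] (v17 C) [14, 34, 68, 88, 94, 109, 125] :=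
  C.flip (f13237 C)

theorem f13239 : C.T (v18 C) [16, 45, 50, 88, 103, 117] (v17 C) [24, 64, 73, 100, 121] :=
  C.closeT (p := (v3 C)) (pu := [17, 29, 52, 77, 109, 113])
    (C.pT (f13231 C)
    (C.pH [26, 38, 54, 89, 90, 113] [16, 45, 50, 88, 103, 117] (by decide +kernel) (C.pNil _ _)))
    (C.pH [8, 30, 65, 84, 94, 117] [16, 34, 52, 74, 110, 118] (by decide +kernel)
    (C.pT (f13238 C)
    (C.pH [26, 38, 54, 89, 90, 113] [5, 36, 62, 79, 98, 109, 112] (by decide +kernel)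
    (C.pT (f13236 C)
    (C.pH [8, 30, 65, 84, 94, 117] [17, 29, 52, 77, 109, 113] (by decide +kernel) (C.pNil _ _))))))
    (C.loop_of_one (relLoop2 C) _ _)

theorem f13240 : C.T (v17 C) [24, 64, 73, 100, 121] (v18 C) [16, 45, 50, 88, 103, 117] :=
  C.flip (f13239 C)

theorem f13241 : C.T (v3 C) [30, 66, 84, 99, 110, 113] (v18 C) [18, 45, 79, 103, 110, 120] :=
  C.conv (f8223 C) (f8361 C) (f8361 C) _ [138, 153, 167] _ (by decide +kernel) (by decide +kernel) (by decide +kernel)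

theorem f13242 : C.S (v3 C) [43, 67, 71, 98, 119] :=
  C.stMul (f335 C) (f9230 C) _ (by decide +kernel)

theorem f13243 : C.S (v3 C) [9, 43, 96, 123] :=
  C.stMul (f353 C) (f13242 C) _ (by decide +kernel)

theorem f13244 : C.S (v3 C) [20, 27, 75, 91, 110, 123] :=
  C.stMul (f335 C) (f13243 C) _ (by decide +kernel)

theorem f13245 : C.T (v3 C) [8, 28, 50, 72, 90, 109, 114] (v18 C) [5, 39, 63, 70, 108, 109, 123] :=
  C.conv (f9184 C) (f9232 C) (f13244 C) _ [136, 164, 173, 178] _ (by decide +kernel) (by decide +kernel) (by decide +kernel)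

theorem f13246 : C.T (v18 C) [5, 39, 63, 70, 108, 109, 123] (v3 C) [8, 28, 50, 72, 90, 109, 114] :=
  C.flip (f13245 C)

theorem f13247 : C.T (v18 C) [14, 35, 50, 74, 93, 109, 123] (v16 C) [11, 30, 68, 82, 102, 113] :=
  C.conv (f7854 C) (f6836 C) (f7894 C) _ [139, 166, 171, 178] _ (by decide +kernel) (by decide +kernel) (by decide +kernel)

theorem f13248 : C.T (v16 C) [11, 30, 68, 82, 102, 113] (v18 C) [14, 35, 50, 74, 93, 109, 123] :=
  C.flip (f13247 C)

theorem f13249 : C.T (v18 C) [10, 35, 68, 78, 104, 110, 116] (v16 C) [13, 41, 52, 92, 122] :=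
  C.closeT (p := (v3 C)) (pu := [30, 66, 84, 99, 110, 113])
    (C.pT (f13241 C)
    (C.pH [26, 38, 54, 89, 90, 113] [10, 35, 68, 78, 104, 110, 116] (by decide +kernel) (C.pNil _ _)))
    (C.pH [8, 30, 65, 84, 94, 117] [11, 30, 68, 82, 102, 113] (by decide +kernel)
    (C.pT (f13248 C)
    (C.pH [26, 38, 54, 89, 90, 113] [5, 39, 63, 70, 108, 109, 123] (by decide +kernel)
    (C.pT (f13246 C)
    (C.pH [8, 30, 65, 84, 94, 117] [30, 66, 84, 99, 110, 113] (by decide +kernel) (C.pNil _ _))))))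
    (C.loop_of_one (relLoop2 C) _ _)

theorem f13250 : C.T (v16 C) [13, 41, 52, 92, 122] (v18 C) [10, 35, 68, 78, 104, 110, 116] :=
  C.flip (f13249 C)

theorem f13251 : C.T (v3 C) [11, 31, 61, 79, 105, 111] (v18 C) [20, 27, 62, 82, 103, 110, 114] :=
  C.conv (f8223 C) (f8361 C) (f8361 C) _ [127, 156, 166, 172, 178] _ (by decide +kernel) (by decide +kernel) (by decide +kernel)

theorem f13252 : C.T (v3 C) [13, 37, 51, 79, 107, 109, 118] (v17 C) [8, 39, 54, 85, 91] :=
  C.conv (f6822 C) (f7297 C) (f10988 C) _ [136, 161, 176, 178] _ (by decide +kernel) (by decide +kernel) (by decide +kernel)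

theorem f13253 : C.T (v17 C) [8, 39, 54, 85, 91] (v3 C) [13, 37, 51, 79, 107, 109, 118] :=
  C.flip (f13252 C)

theorem f13254 : C.S (v17 C) [23, 31, 75, 92, 109, 116] :=
  C.stMul (f4137 C) (f4132 C) _ (by decide +kernel)

theorem f13255 : C.T (v17 C) [5, 32, 53, 72, 91, 118] (v17 C) [22, 35, 65, 80, 102, 109, 116] :=
  C.conv (f6677 C) (f4132 C) (f13254 C) _ [142, 158, 164, 176, 177] _ (by decide +kernel) (by decide +kernel) (by decide +kernel)

theorem f13256 : C.T (v17 C) [22, 35, 65, 80, 102, 109, 116] (v17 C) [5, 32, 53, 72, 91, 118] :=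
  C.flip (f13255 C)

theorem f13257 : C.T (v18 C) [15, 32, 49, 79, 103, 110, 115] (v17 C) [17, 40, 51, 85, 97, 110, 115] :=
  C.closeT (p := (v3 C)) (pu := [11, 31, 61, 79, 105, 111])
    (C.pT (f13251 C)
    (C.pH [26, 38, 54, 89, 90, 113] [15, 32, 49, 79, 103, 110, 115] (by decide +kernel) (C.pNil _ _)))
    (C.pH [8, 30, 65, 84, 94, 117] [22, 35, 65, 80, 102, 109, 116] (by decide +kernel)
    (C.pT (f13256 C)
    (C.pH [26, 38, 54, 89, 90, 113] [8, 39, 54, 85, 91] (by decide +kernel)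
    (C.pT (f13253 C)
    (C.pH [8, 30, 65, 84, 94, 117] [11, 31, 61, 79, 105, 111] (by decide +kernel) (C.pNil _ _))))))
    (C.loop_of_one (relLoop2 C) _ _)

theorem f13258 : C.T (v17 C) [17, 40, 51, 85, 97, 110, 115] (v18 C) [15, 32, 49, 79, 103, 110, 115] :=
  C.flip (f13257 C)

theorem f13259 : C.T (v3 C) [15, 37, 66, 73, 101, 110] (v18 C) [14, 33, 57, 86, 91, 113] :=
  C.conv (f8223 C) (f8361 C) (f8361 C) _ [133, 153, 170, 172, 177] _ (by decide +kernel) (by decide +kernel) (by decide +kernel)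

theorem f13260 : C.T (v18 C) [5, 48, 61, 81, 107, 122] (v18 C) [19, 43, 55, 76, 91, 110, 113] :=
  C.conv (f8534 C) (f6836 C) (f7121 C) _ [138, 159, 172, 177] _ (by decide +kernel) (by decide +kernel) (by decide +kernel)

theorem f13261 : C.S (v3 C) [7, 37, 53, 78, 98, 118] :=
  C.stMul (f353 C) (f335 C) _ (by decide +kernel)

theorem f13262 : C.T (v3 C) [10, 31, 51, 73, 121] (v18 C) [20, 29, 61, 84, 106, 121] :=
  C.conv (f8165 C) (f8200 C) (f13261 C) _ [127, 152, 165, 172, 178] _ (by decide +kernel) (by decide +kernel) (by decide +kernel)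

theorem f13263 : C.T (v18 C) [20, 29, 61, 84, 106, 121] (v3 C) [10, 31, 51, 73, 121] :=
  C.flip (f13262 C)

theorem f13264 : C.T (v18 C) [26, 32, 55, 85, 105, 110, 117] (v18 C) [17, 34, 68, 71, 101, 109, 122] :=
  C.closeT (p := (v3 C)) (pu := [15, 37, 66, 73, 101, 110])
    (C.pT (f13259 C)
    (C.pH [26, 38, 54, 89, 90, 113] [5, 48, 61, 81, 107, 122] (by decide +kernel)
    (C.pT (f13260 C)
    (C.pH [8, 30, 65, 84, 94, 117] [26, 32, 55, 85, 105, 110, 117] (by decide +kernel) (C.pNil _ _)))))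
    (C.pH [26, 38, 54, 89, 90, 113] [20, 29, 61, 84, 106, 121] (by decide +kernel)
    (C.pT (f13263 C)
    (C.pH [8, 30, 65, 84, 94, 117] [15, 37, 66, 73, 101, 110] (by decide +kernel) (C.pNil _ _))))
    (C.loop_of_one (relLoop2 C) _ _)

theorem f13267 : C.T (v3 C) [11, 30, 60, 75, 95, 110, 123] (v18 C) [22, 43, 50, 76, 107, 116] :=
  C.conv (f8223 C) (f8361 C) (f8361 C) _ [148, 160, 164, 174] _ (by decide +kernel) (by decide +kernel) (by decide +kernel)

theorem f13268 : C.S (v3 C) [14, 30, 68, 97, 124] :=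
  C.stMul (f331 C) (f9829 C) _ (by decide +kernel)

theorem f13269 : C.T (v3 C) [13, 41, 65, 86, 93, 125] (v15 C) [9, 31, 56, 89, 108, 110, 113] :=
  C.conv (f3166 C) (f3236 C) (f13268 C) _ [153, 167, 174, 177] _ (by decide +kernel) (by decide +kernel) (by decide +kernel)

theorem f13270 : C.T (v15 C) [9, 31, 56, 89, 108, 110, 113] (v3 C) [13, 41, 65, 86, 93, 125] :=
  C.flip (f13269 C)

theorem f13271 : C.S (v15 C) [31, 53, 71, 96, 116] :=
  C.stMul (f2569 C) (f2569 C) _ (by decide +kernel)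

theorem f13272 : C.T (v15 C) [15, 43, 53, 83, 99, 110, 115] (v18 C) [17, 41, 60, 71, 103, 110, 116] :=
  C.conv (f8805 C) (f2569 C) (f13271 C) _ [138, 154, 169, 174] _ (by decide +kernel) (by decide +kernel) (by decide +kernel)

theorem f13273 : C.T (v18 C) [17, 41, 60, 71, 103, 110, 116] (v15 C) [15, 43, 53, 83, 99, 110, 115] :=
  C.flip (f13272 C)

theorem f13274 : C.T (v18 C) [19, 35, 55, 74, 99, 110, 118] (v18 C) [7, 35, 61, 74, 105, 110, 112] :=
  C.closeT (p := (v3 C)) (pu := [11, 30, 60, 75, 95, 110, 123])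
    (C.pT (f13267 C)
    (C.pH [26, 38, 54, 89, 90, 113] [19, 35, 55, 74, 99, 110, 118] (by decide +kernel) (C.pNil _ _)))
    (C.pH [8, 30, 65, 84, 94, 117] [17, 41, 60, 71, 103, 110, 116] (by decide +kernel)
    (C.pT (f13273 C)
    (C.pH [26, 38, 54, 89, 90, 113] [9, 31, 56, 89, 108, 110, 113] (by decide +kernel)
    (C.pT (f13270 C)
    (C.pH [8, 30, 65, 84, 94, 117] [11, 30, 60, 75, 95, 110, 123] (by decide +kernel) (C.pNil _ _))))))
    (C.loop_of_one (relLoop2 C) _ _)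

theorem f13277 : C.T (v3 C) [9, 27, 66, 89, 95, 109, 115] (v18 C) [24, 27, 62, 74, 104, 109, 113] :=
  C.conv (f8223 C) (f8361 C) (f8361 C) _ [139, 152, 164, 176] _ (by decide +kernel) (by decide +kernel) (by decide +kernel)

theorem f13278 : C.S (v3 C) [6, 30, 52, 70, 107, 110, 116] :=
  C.stMul (f335 C) (f12059 C) _ (by decide +kernel)

theorem f13279 : C.T (v3 C) [25, 40, 62, 80, 103, 125] (v18 C) [26, 50, 78, 95, 111] :=
  C.conv (f9184 C) (f9232 C) (f13278 C) _ [137, 167, 175, 177] _ (by decide +kernel) (by decide +kernel) (by decide +kernel)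

theorem f13280 : C.T (v18 C) [26, 50, 78, 95, 111] (v3 C) [25, 40, 62, 80, 103, 125] :=
  C.flip (f13279 C)

theorem f13281 : C.T (v18 C) [45, 52, 87, 103, 109, 112] (v18 C) [22, 41, 64, 77, 102, 109, 121] :=
  C.conv (f12374 C) (f7121 C) (f7121 C) _ [136, 175, 178] _ (by decide +kernel) (by decide +kernel) (by decide +kernel)

theorem f13282 : C.T (v18 C) [22, 41, 64, 77, 102, 109, 121] (v18 C) [45, 52, 87, 103, 109, 112] :=
  C.flip (f13281 C)

theorem f13283 : C.T (v18 C) [12, 43, 62, 72, 94, 110, 111] (v18 C) [17, 36, 69, 80, 106, 121] :=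
  C.closeT (p := (v3 C)) (pu := [9, 27, 66, 89, 95, 109, 115])
    (C.pT (f13277 C)
    (C.pH [26, 38, 54, 89, 90, 113] [12, 43, 62, 72, 94, 110, 111] (by decide +kernel) (C.pNil _ _)))
    (C.pH [8, 30, 65, 84, 94, 117] [22, 41, 64, 77, 102, 109, 121] (by decide +kernel)
    (C.pT (f13282 C)
    (C.pH [26, 38, 54, 89, 90, 113] [26, 50, 78, 95, 111] (by decide +kernel)
    (C.pT (f13280 C)
    (C.pH [8, 30, 65, 84, 94, 117] [9, 27, 66, 89, 95, 109, 115] (by decide +kernel) (C.pNil _ _))))))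
    (C.loop_of_one (relLoop2 C) _ _)

theorem f13284 : C.T (v18 C) [17, 36, 69, 80, 106, 121] (v18 C) [12, 43, 62, 72, 94, 110, 111] :=
  C.flip (f13283 C)

theorem f13285 : C.T (v3 C) [7, 29, 57, 74, 98, 124] (v18 C) [47, 67, 73, 90, 110, 122] :=
  C.conv (f8223 C) (f8361 C) (f8361 C) _ [146, 156, 173, 177] _ (by decide +kernel) (by decide +kernel) (by decide +kernel)

theorem f13286 : C.S (v18 C) [26, 43, 49, 77, 91, 110, 115] :=
  C.stMul (f6836 C) (f6836 C) _ (by decide +kernel)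

theorem f13287 : C.T (v18 C) [26, 46, 63, 77, 107, 109, 122] (v9 C) [24, 33, 59, 87, 104, 109, 113] :=
  C.conv (f8710 C) (f6836 C) (f13286 C) _ [141, 159, 165] _ (by decide +kernel) (by decide +kernel) (by decide +kernel)

theorem f13288 : C.T (v3 C) [11, 44, 67, 81, 93, 110, 122] (v18 C) [10, 29, 73, 99, 110, 111] :=
  C.conv (f9432 C) (f9640 C) (f9740 C) _ [136, 151, 170, 172] _ (by decide +kernel) (by decide +kernel) (by decide +kernel)

theorem f13289 : C.T (v18 C) [10, 29, 73, 99, 110, 111] (v3 C) [11, 44, 67, 81, 93, 110, 122] :=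
  C.flip (f13288 C)

theorem f13290 : C.T (v9 C) [16, 30, 56, 72, 103, 109, 114] (v18 C) [18, 37, 76, 97, 109] :=
  C.closeT (p := (v3 C)) (pu := [7, 29, 57, 74, 98, 124])
    (C.pT (f13285 C)
    (C.pH [26, 38, 54, 89, 90, 113] [26, 46, 63, 77, 107, 109, 122] (by decide +kernel)
    (C.pT (f13287 C)
    (C.pH [8, 30, 65, 84, 94, 117] [16, 30, 56, 72, 103, 109, 114] (by decide +kernel) (C.pNil _ _)))))
    (C.pH [26, 38, 54, 89, 90, 113] [10, 29, 73, 99, 110, 111] (by decide +kernel)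
    (C.pT (f13289 C)
    (C.pH [8, 30, 65, 84, 94, 117] [7, 29, 57, 74, 98, 124] (by decide +kernel) (C.pNil _ _))))
    (C.loop_of_one (relLoop2 C) _ _)

theorem f13291 : C.T (v18 C) [18, 37, 76, 97, 109] (v9 C) [16, 30, 56, 72, 103, 109, 114] :=
  C.flip (f13290 C)

theorem f13292 : C.T (v3 C) [10, 43, 62, 80, 90, 110, 113] (v18 C) [5, 37, 57, 87, 110, 119] :=
  C.conv (f9184 C) (f9232 C) (f9232 C) _ [130, 163, 165, 176, 178] _ (by decide +kernel) (by decide +kernel) (by decide +kernel)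

theorem f13293 : C.T (v18 C) [8, 32, 64, 86, 97, 109, 122] (v18 C) [13, 33, 57, 78, 94, 109, 111] :=
  C.conv (f9481 C) (f7121 C) (f12930 C) _ [135, 152, 172, 178] _ (by decide +kernel) (by decide +kernel) (by decide +kernel)

theorem f13294 : C.S (v3 C) [7, 29, 51, 83, 103, 109, 117] :=
  C.stMul (f335 C) (f335 C) _ (by decide +kernel)

theorem f13295 : C.S (v3 C) [10, 48, 60, 84, 100, 110, 123] :=
  C.stMul (f353 C) (f13294 C) _ (by decide +kernel)

theorem f13296 : C.S (v3 C) [5, 60, 81, 94, 109, 125] :=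
  C.stMul (f331 C) (f13295 C) _ (by decide +kernel)

theorem f13297 : C.T (v3 C) [23, 44, 67, 78, 90, 109, 124] (v15 C) [22, 37, 52, 79, 98, 109] :=
  C.conv (f3166 C) (f3236 C) (f13296 C) _ [131, 149, 168, 177] _ (by decide +kernel) (by decide +kernel) (by decide +kernel)

theorem f13298 : C.T (v15 C) [22, 37, 52, 79, 98, 109] (v3 C) [23, 44, 67, 78, 90, 109, 124] :=
  C.flip (f13297 C)

theorem f13299 : C.T (v18 C) [11, 32, 58, 82, 107, 110, 125] (v15 C) [9, 38, 55, 92, 110, 115] :=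
  C.closeT (p := (v3 C)) (pu := [10, 43, 62, 80, 90, 110, 113])
    (C.pT (f13292 C)
    (C.pH [26, 38, 54, 89, 90, 113] [8, 32, 64, 86, 97, 109, 122] (by decide +kernel)
    (C.pT (f13293 C)
    (C.pH [8, 30, 65, 84, 94, 117] [11, 32, 58, 82, 107, 110, 125] (by decide +kernel) (C.pNil _ _)))))
    (C.pH [26, 38, 54, 89, 90, 113] [22, 37, 52, 79, 98, 109] (by decide +kernel)
    (C.pT (f13298 C)
    (C.pH [8, 30, 65, 84, 94, 117] [10, 43, 62, 80, 90, 110, 113] (by decide +kernel) (C.pNil _ _))))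
    (C.loop_of_one (relLoop2 C) _ _)

theorem f13300 : C.T (v15 C) [9, 38, 55, 92, 110, 115] (v18 C) [11, 32, 58, 82, 107, 110, 125] :=
  C.flip (f13299 C)

theorem f13301 : C.T (v3 C) [4, 48, 50, 86, 93, 110, 124] (v18 C) [15, 41, 58, 86, 98, 116] :=
  C.conv (f9184 C) (f9232 C) (f9232 C) _ [136, 155, 174, 177] _ (by decide +kernel) (by decide +kernel) (by decide +kernel)

theorem f13302 : C.T (v3 C) [18, 45, 63, 88, 90, 109, 125] (v17 C) [22, 32, 58, 72, 99, 110, 124] :=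
  C.conv (f6822 C) (f7297 C) (f353 C) _ [134, 162, 168, 175, 178] _ (by decide +kernel) (by decide +kernel) (by decide +kernel)

theorem f13303 : C.T (v17 C) [22, 32, 58, 72, 99, 110, 124] (v3 C) [18, 45, 63, 88, 90, 109, 125] :=
  C.flip (f13302 C)

theorem f13304 : C.T (v17 C) [9, 34, 61, 86, 95, 124] (v18 C) [22, 55, 70, 105, 109] :=
  C.conv (f10465 C) (f4300 C) (f4132 C) _ [130, 158, 165, 172] _ (by decide +kernel) (by decide +kernel) (by decide +kernel)

theorem f13305 : C.T (v18 C) [22, 55, 70, 105, 109] (v17 C) [9, 34, 61, 86, 95, 124] :=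
  C.flip (f13304 C)

theorem f13306 : C.T (v18 C) [9, 35, 55, 108, 110, 123] (v18 C) [17, 45, 58, 79, 104, 109, 125] :=
  C.closeT (p := (v3 C)) (pu := [4, 48, 50, 86, 93, 110, 124])
    (C.pT (f13301 C)
    (C.pH [26, 38, 54, 89, 90, 113] [9, 35, 55, 108, 110, 123] (by decide +kernel) (C.pNil _ _)))
    (C.pH [8, 30, 65, 84, 94, 117] [22, 55, 70, 105, 109] (by decide +kernel)
    (C.pT (f13305 C)
    (C.pH [26, 38, 54, 89, 90, 113] [22, 32, 58, 72, 99, 110, 124] (by decide +kernel)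
    (C.pT (f13303 C)
    (C.pH [8, 30, 65, 84, 94, 117] [4, 48, 50, 86, 93, 110, 124] (by decide +kernel) (C.pNil _ _))))))
    (C.loop_of_one (relLoop2 C) _ _)

theorem f13307 : C.T (v18 C) [17, 45, 58, 79, 104, 109, 125] (v18 C) [9, 35, 55, 108, 110, 123] :=
  C.flip (f13306 C)

theorem f13308 : C.T (v3 C) [16, 47, 53, 70, 94, 111] (v18 C) [18, 43, 58, 84, 102, 122] :=
  C.conv (f9184 C) (f9232 C) (f9232 C) _ [163, 166, 171, 177] _ (by decide +kernel) (by decide +kernel) (by decide +kernel)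

theorem f13309 : C.T (v3 C) [24, 29, 52, 82, 101, 120] (v18 C) [15, 41, 55, 83, 96, 122] :=
  C.conv (f8165 C) (f8200 C) (f11858 C) _ [135, 159, 165, 176] _ (by decide +kernel) (by decide +kernel) (by decide +kernel)

theorem f13310 : C.T (v18 C) [15, 41, 55, 83, 96, 122] (v3 C) [24, 29, 52, 82, 101, 120] :=
  C.flip (f13309 C)

theorem f13311 : C.S (v18 C) [26, 43, 49, 77, 91, 110, 115] :=
  C.stMul (f6836 C) (f6836 C) _ (by decide +kernel)

theorem f13312 : C.T (v18 C) [20, 47, 67, 81, 94, 109, 111] (v18 C) [21, 46, 58, 84, 101, 110, 124] :=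
  C.conv (f11727 C) (f13311 C) (f6836 C) _ [128, 154, 164, 175] _ (by decide +kernel) (by decide +kernel) (by decide +kernel)

theorem f13313 : C.T (v18 C) [21, 46, 58, 84, 101, 110, 124] (v18 C) [20, 47, 67, 81, 94, 109, 111] :=
  C.flip (f13312 C)

theorem f13314 : C.T (v18 C) [10, 47, 55, 89, 106, 109, 119] (v18 C) [12, 36, 51, 78, 99, 121] :=
  C.closeT (p := (v3 C)) (pu := [16, 47, 53, 70, 94, 111])
    (C.pT (f13308 C)
    (C.pH [26, 38, 54, 89, 90, 113] [10, 47, 55, 89, 106, 109, 119] (by decide +kernel) (C.pNil _ _)))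
    (C.pH [8, 30, 65, 84, 94, 117] [21, 46, 58, 84, 101, 110, 124] (by decide +kernel)
    (C.pT (f13313 C)
    (C.pH [26, 38, 54, 89, 90, 113] [15, 41, 55, 83, 96, 122] (by decide +kernel)
    (C.pT (f13310 C)
    (C.pH [8, 30, 65, 84, 94, 117] [16, 47, 53, 70, 94, 111] (by decide +kernel) (C.pNil _ _))))))
    (C.loop_of_one (relLoop2 C) _ _)

theorem f13315 : C.T (v18 C) [12, 36, 51, 78, 99, 121] (v18 C) [10, 47, 55, 89, 106, 109, 119] :=
  C.flip (f13314 C)

theorem f13316 : C.T (v3 C) [56, 74, 99] (v18 C) [16, 33, 56, 76, 98, 110, 116] :=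
  C.conv (f9184 C) (f9232 C) (f9232 C) _ [139, 150, 170, 173] _ (by decide +kernel) (by decide +kernel) (by decide +kernel)

theorem f13317 : C.S (v3 C) [5, 30, 57, 77, 122] :=
  C.stMul (f331 C) (f9455 C) _ (by decide +kernel)

theorem f13318 : C.S (v3 C) [19, 35, 61, 76, 100] :=
  C.stMul (f353 C) (f13317 C) _ (by decide +kernel)

theorem f13319 : C.S (v3 C) [9, 33, 51, 77, 105] :=
  C.stMul (f331 C) (f13318 C) _ (by decide +kernel)

theorem f13320 : C.T (v3 C) [8, 34, 69, 79, 104, 109, 125] (v18 C) [13, 31, 69, 90, 110, 119] :=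
  C.conv (f9221 C) (f9279 C) (f13319 C) _ [130, 151, 166] _ (by decide +kernel) (by decide +kernel) (by decide +kernel)

theorem f13321 : C.T (v18 C) [13, 31, 69, 90, 110, 119] (v3 C) [8, 34, 69, 79, 104, 109, 125] :=
  C.flip (f13320 C)

theorem f13322 : C.S (v18 C) [26, 43, 49, 77, 91, 110, 115] :=
  C.stMul (f6836 C) (f6836 C) _ (by decide +kernel)

theorem f13323 : C.T (v18 C) [16, 40, 64, 74, 113] (v18 C) [7, 41, 55, 79, 100, 117] :=
  C.conv (f9773 C) (f7121 C) (f13322 C) _ [143, 153, 164] _ (by decide +kernel) (by decide +kernel) (by decide +kernel)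

theorem f13324 : C.T (v18 C) [7, 41, 55, 79, 100, 117] (v18 C) [16, 40, 64, 74, 113] :=
  C.flip (f13323 C)

theorem f13325 : C.T (v18 C) [13, 28, 62, 89, 97, 110, 120] (v18 C) [11, 27, 50, 84, 99, 109, 113] :=
  C.closeT (p := (v3 C)) (pu := [56, 74, 99])
    (C.pT (f13316 C)
    (C.pH [26, 38, 54, 89, 90, 113] [13, 28, 62, 89, 97, 110, 120] (by decide +kernel) (C.pNil _ _)))
    (C.pH [8, 30, 65, 84, 94, 117] [7, 41, 55, 79, 100, 117] (by decide +kernel)
    (C.pT (f13324 C)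
    (C.pH [26, 38, 54, 89, 90, 113] [13, 31, 69, 90, 110, 119] (by decide +kernel)
    (C.pT (f13321 C)
    (C.pH [8, 30, 65, 84, 94, 117] [56, 74, 99] (by decide +kernel) (C.pNil _ _))))))
    (C.loop_of_one (relLoop2 C) _ _)

theorem f13326 : C.T (v18 C) [11, 27, 50, 84, 99, 109, 113] (v18 C) [13, 28, 62, 89, 97, 110, 120] :=
  C.flip (f13325 C)

theorem f13327 : C.T (v3 C) [25, 29, 64, 82, 90, 109, 115] (v18 C) [8, 45, 55, 74, 95, 110] :=
  C.conv (f9184 C) (f9232 C) (f9232 C) _ [136, 149, 166, 173, 178] _ (by decide +kernel) (by decide +kernel) (by decide +kernel)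

theorem f13328 : C.S (v3 C) [15, 34, 56, 71, 106, 109, 117] :=
  C.stMul (f331 C) (f353 C) _ (by decide +kernel)

theorem f13329 : C.T (v3 C) [4, 40, 49, 74, 102, 119] (v4 C) [8, 42, 65, 85, 90, 109, 113] :=
  C.conv (f841 C) (f926 C) (f13328 C) _ [126, 155, 173] _ (by decide +kernel) (by decide +kernel) (by decide +kernel)

theorem f13330 : C.T (v4 C) [8, 42, 65, 85, 90, 109, 113] (v3 C) [4, 40, 49, 74, 102, 119] :=
  C.flip (f13329 C)

theorem f13331 : C.S (v4 C) [8, 31, 60, 85, 98, 110, 125] :=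
  C.stMul (f693 C) (f407 C) _ (by decide +kernel)

theorem f13332 : C.S (v4 C) [42, 63, 82, 91, 110, 125] :=
  C.stMul (f421 C) (f13331 C) _ (by decide +kernel)

theorem f13333 : C.T (v4 C) [5, 34, 52, 73, 99, 109, 113] (v18 C) [21, 39, 68, 73, 101, 109, 113] :=
  C.conv (f8547 C) (f8550 C) (f13332 C) _ [126, 150, 167, 171] _ (by decide +kernel) (by decide +kernel) (by decide +kernel)

theorem f13334 : C.T (v18 C) [21, 39, 68, 73, 101, 109, 113] (v4 C) [5, 34, 52, 73, 99, 109, 113] :=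
  C.flip (f13333 C)

theorem f13335 : C.T (v18 C) [11, 34, 66, 71, 98, 109, 120] (v18 C) [12, 30, 65, 80, 111] :=
  C.closeT (p := (v3 C)) (pu := [25, 29, 64, 82, 90, 109, 115])
    (C.pT (f13327 C)
    (C.pH [26, 38, 54, 89, 90, 113] [11, 34, 66, 71, 98, 109, 120] (by decide +kernel) (C.pNil _ _)))
    (C.pH [8, 30, 65, 84, 94, 117] [21, 39, 68, 73, 101, 109, 113] (by decide +kernel)
    (C.pT (f13334 C)
    (C.pH [26, 38, 54, 89, 90, 113] [8, 42, 65, 85, 90, 109, 113] (by decide +kernel)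
    (C.pT (f13330 C)
    (C.pH [8, 30, 65, 84, 94, 117] [25, 29, 64, 82, 90, 109, 115] (by decide +kernel) (C.pNil _ _))))))
    (C.loop_of_one (relLoop2 C) _ _)

theorem f13336 : C.T (v18 C) [12, 30, 65, 80, 111] (v18 C) [11, 34, 66, 71, 98, 109, 120] :=
  C.flip (f13335 C)

theorem f13337 : C.T (v3 C) [15, 44, 53, 86, 99, 124] (v18 C) [11, 36, 59, 83, 108, 123] :=
  C.conv (f9184 C) (f9232 C) (f9232 C) _ [145, 157, 171, 178] _ (by decide +kernel) (by decide +kernel) (by decide +kernel)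

theorem f13338 : C.S (v3 C) [5, 30, 57, 77, 122] :=
  C.stMul (f331 C) (f11006 C) _ (by decide +kernel)

theorem f13339 : C.T (v3 C) [10, 45, 66, 80, 107, 117] (v18 C) [30, 55, 85, 108, 110, 120] :=
  C.conv (f6902 C) (f7285 C) (f13338 C) _ [128, 149, 167, 174, 177] _ (by decide +kernel) (by decide +kernel) (by decide +kernel)

theorem f13340 : C.T (v18 C) [30, 55, 85, 108, 110, 120] (v3 C) [10, 45, 66, 80, 107, 117] :=
  C.flip (f13339 C)

theorem f13341 : C.S (v18 C) [26, 43, 49, 77, 91, 110, 115] :=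
  C.stMul (f6836 C) (f6836 C) _ (by decide +kernel)

theorem f13342 : C.T (v18 C) [7, 65, 79, 100, 110, 124] (v18 C) [4, 48, 49, 72, 90, 109, 121] :=
  C.conv (f10436 C) (f13341 C) (f6836 C) _ [132, 154, 167, 174] _ (by decide +kernel) (by decide +kernel) (by decide +kernel)

theorem f13343 : C.T (v18 C) [4, 48, 49, 72, 90, 109, 121] (v18 C) [7, 65, 79, 100, 110, 124] :=
  C.flip (f13342 C)

theorem f13344 : C.T (v18 C) [24, 40, 54, 80, 90, 116] (v18 C) [18, 45, 61, 90, 119] :=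
  C.closeT (p := (v3 C)) (pu := [15, 44, 53, 86, 99, 124])
    (C.pT (f13337 C)
    (C.pH [26, 38, 54, 89, 90, 113] [24, 40, 54, 80, 90, 116] (by decide +kernel) (C.pNil _ _)))
    (C.pH [8, 30, 65, 84, 94, 117] [4, 48, 49, 72, 90, 109, 121] (by decide +kernel)
    (C.pT (f13343 C)
    (C.pH [26, 38, 54, 89, 90, 113] [30, 55, 85, 108, 110, 120] (by decide +kernel)
    (C.pT (f13340 C)
    (C.pH [8, 30, 65, 84, 94, 117] [15, 44, 53, 86, 99, 124] (by decide +kernel) (C.pNil _ _))))))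
    (C.loop_of_one (relLoop2 C) _ _)

theorem f13345 : C.T (v18 C) [18, 45, 61, 90, 119] (v18 C) [24, 40, 54, 80, 90, 116] :=
  C.flip (f13344 C)

theorem f13346 : C.T (v3 C) [14, 47, 53, 81, 96, 112] (v18 C) [25, 29, 50, 72, 107, 109, 114] :=
  C.conv (f9184 C) (f9232 C) (f9232 C) _ [146, 156, 170, 176] _ (by decide +kernel) (by decide +kernel) (by decide +kernel)

theorem f13347 : C.T (v18 C) [18, 28, 63, 76, 100, 110, 120] (v18 C) [17, 48, 66, 81, 97, 109, 123] :=
  C.conv (f9080 C) (f6836 C) (f6836 C) _ [126, 159, 164, 176] _ (by decide +kernel) (by decide +kernel) (by decide +kernel)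

theorem f13348 : C.T (v3 C) [26, 39, 61, 85, 92, 109, 121] (v18 C) [8, 38, 60, 77, 90, 109, 121] :=
  C.conv (f9221 C) (f9279 C) (f9815 C) _ [135, 158, 167, 172, 177] _ (by decide +kernel) (by decide +kernel) (by decide +kernel)

theorem f13349 : C.T (v18 C) [8, 38, 60, 77, 90, 109, 121] (v3 C) [26, 39, 61, 85, 92, 109, 121] :=
  C.flip (f13348 C)

theorem f13350 : C.T (v18 C) [22, 30, 60, 74, 92, 124] (v18 C) [5, 30, 69, 94, 109, 111] :=
  C.closeT (p := (v3 C)) (pu := [14, 47, 53, 81, 96, 112])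
    (C.pT (f13346 C)
    (C.pH [26, 38, 54, 89, 90, 113] [18, 28, 63, 76, 100, 110, 120] (by decide +kernel)
    (C.pT (f13347 C)
    (C.pH [8, 30, 65, 84, 94, 117] [22, 30, 60, 74, 92, 124] (by decide +kernel) (C.pNil _ _)))))
    (C.pH [26, 38, 54, 89, 90, 113] [8, 38, 60, 77, 90, 109, 121] (by decide +kernel)
    (C.pT (f13349 C)
    (C.pH [8, 30, 65, 84, 94, 117] [14, 47, 53, 81, 96, 112] (by decide +kernel) (C.pNil _ _))))
    (C.loop_of_one (relLoop2 C) _ _)

theorem f13354 : C.T (v3 C) [17, 42, 60, 84, 107, 110, 125] (v18 C) [22, 38, 75, 94, 109, 123] :=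
  C.conv (f9184 C) (f9232 C) (f9232 C) _ [133, 158, 168, 175] _ (by decide +kernel) (by decide +kernel) (by decide +kernel)

theorem f13355 : C.S (v3 C) [7, 37, 53, 78, 98, 118] :=
  C.stMul (f353 C) (f335 C) _ (by decide +kernel)

theorem f13356 : C.S (v3 C) [12, 31, 63, 83, 106, 121] :=
  C.stMul (f331 C) (f13355 C) _ (by decide +kernel)

theorem f13357 : C.T (v3 C) [7, 29, 57, 73, 99, 110, 115] (v4 C) [7, 33, 87, 104, 109, 117] :=
  C.conv (f841 C) (f926 C) (f13356 C) _ [132, 151, 165, 176, 177] _ (by decide +kernel) (by decide +kernel) (by decide +kernel)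

theorem f13358 : C.T (v4 C) [7, 33, 87, 104, 109, 117] (v3 C) [7, 29, 57, 73, 99, 110, 115] :=
  C.flip (f13357 C)

theorem f13359 : C.S (v4 C) [10, 27, 56, 84, 93, 109, 113] :=
  C.stMul (f407 C) (f421 C) _ (by decide +kernel)

theorem f13360 : C.S (v4 C) [16, 32, 68, 79, 93, 110, 124] :=
  C.stMul (f407 C) (f13359 C) _ (by decide +kernel)

theorem f13361 : C.S (v4 C) [18, 44, 51, 79, 106, 114] :=
  C.stMul (f421 C) (f13360 C) _ (by decide +kernel)

theorem f13362 : C.T (v4 C) [23, 33, 63, 87, 106, 109, 124] (v10 C) [7, 33, 52, 94, 123] :=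
  C.conv (f1798 C) (f1856 C) (f13361 C) _ [132, 162, 169, 174] _ (by decide +kernel) (by decide +kernel) (by decide +kernel)

theorem f13363 : C.T (v10 C) [7, 33, 52, 94, 123] (v4 C) [23, 33, 63, 87, 106, 109, 124] :=
  C.flip (f13362 C)

theorem f13364 : C.T (v18 C) [19, 44, 50, 87, 91] (v10 C) [11, 36, 55, 107, 109, 121] :=
  C.closeT (p := (v3 C)) (pu := [17, 42, 60, 84, 107, 110, 125])
    (C.pT (f13354 C)
    (C.pH [26, 38, 54, 89, 90, 113] [19, 44, 50, 87, 91] (by decide +kernel) (C.pNil _ _)))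
    (C.pH [8, 30, 65, 84, 94, 117] [7, 33, 52, 94, 123] (by decide +kernel)
    (C.pT (f13363 C)
    (C.pH [26, 38, 54, 89, 90, 113] [7, 33, 87, 104, 109, 117] (by decide +kernel)
    (C.pT (f13358 C)
    (C.pH [8, 30, 65, 84, 94, 117] [17, 42, 60, 84, 107, 110, 125] (by decide +kernel) (C.pNil _ _))))))
    (C.loop_of_one (relLoop2 C) _ _)

theorem f13365 : C.T (v10 C) [11, 36, 55, 107, 109, 121] (v18 C) [19, 44, 50, 87, 91] :=
  C.flip (f13364 C)

theorem f13366 : C.T (v3 C) [16, 36, 57, 88, 106, 110, 114] (v18 C) [11, 29, 49, 82, 96, 110, 116] :=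
  C.conv (f9221 C) (f9279 C) (f9279 C) _ [136, 160, 170, 175] _ (by decide +kernel) (by decide +kernel) (by decide +kernel)

theorem f13367 : C.T (v3 C) [24, 28, 65, 79, 102, 110, 118] (v18 C) [6, 40, 62, 84, 102, 109, 115] :=
  C.conv (f6916 C) (f7402 C) (f7404 C) _ [141, 158, 173] _ (by decide +kernel) (by decide +kernel) (by decide +kernel)

theorem f13368 : C.T (v18 C) [6, 40, 62, 84, 102, 109, 115] (v3 C) [24, 28, 65, 79, 102, 110, 118] :=
  C.flip (f13367 C)

theorem f13369 : C.T (v18 C) [21, 30, 62, 79, 96, 122] (v18 C) [9, 33, 62, 81, 100, 116] :=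
  C.conv (f7950 C) (f7952 C) (f6836 C) _ [134, 155, 171] _ (by decide +kernel) (by decide +kernel) (by decide +kernel)

theorem f13370 : C.T (v18 C) [9, 33, 62, 81, 100, 116] (v18 C) [21, 30, 62, 79, 96, 122] :=
  C.flip (f13369 C)

theorem f13371 : C.T (v18 C) [24, 31, 54, 85, 101, 110, 123] (v18 C) [25, 29, 68, 101, 110, 115] :=
  C.closeT (p := (v3 C)) (pu := [16, 36, 57, 88, 106, 110, 114])
    (C.pT (f13366 C)
    (C.pH [26, 38, 54, 89, 90, 113] [24, 31, 54, 85, 101, 110, 123] (by decide +kernel) (C.pNil _ _)))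
    (C.pH [8, 30, 65, 84, 94, 117] [9, 33, 62, 81, 100, 116] (by decide +kernel)
    (C.pT (f13370 C)
    (C.pH [26, 38, 54, 89, 90, 113] [6, 40, 62, 84, 102, 109, 115] (by decide +kernel)
    (C.pT (f13368 C)
    (C.pH [8, 30, 65, 84, 94, 117] [16, 36, 57, 88, 106, 110, 114] (by decide +kernel) (C.pNil _ _))))))
    (C.loop_of_one (relLoop2 C) _ _)

theorem f13374 : C.T (v3 C) [23, 36, 67, 88, 105, 109, 124] (v18 C) [14, 27, 49, 70, 100, 109, 124] :=
  C.conv (f9221 C) (f9279 C) (f9279 C) _ [129, 151, 170, 178] _ (by decide +kernel) (by decide +kernel) (by decide +kernel)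

theorem f13375 : C.S (v18 C) [26, 43, 49, 77, 91, 110, 115] :=
  C.stMul (f6836 C) (f6836 C) _ (by decide +kernel)

theorem f13376 : C.T (v18 C) [5, 45, 58, 75, 98, 109, 120] (v18 C) [9, 45, 55, 79, 90, 109, 125] :=
  C.conv (f11716 C) (f13375 C) (f7121 C) _ [131, 159, 165, 175, 177] _ (by decide +kernel) (by decide +kernel) (by decide +kernel)

theorem f13377 : C.S (v3 C) [6, 29, 67, 88, 100, 110] :=
  C.stMul (f335 C) (f9263 C) _ (by decide +kernel)

theorem f13378 : C.S (v3 C) [26, 42, 53, 74, 94, 109, 111] :=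
  C.stMul (f331 C) (f13377 C) _ (by decide +kernel)

theorem f13379 : C.T (v3 C) [20, 40, 60, 81, 106, 112] (v18 C) [21, 33, 52, 74, 103, 115] :=
  C.conv (f6902 C) (f7285 C) (f13378 C) _ [134, 153, 169, 171, 178] _ (by decide +kernel) (by decide +kernel) (by decide +kernel)

theorem f13380 : C.T (v18 C) [21, 33, 52, 74, 103, 115] (v3 C) [20, 40, 60, 81, 106, 112] :=
  C.flip (f13379 C)

theorem f13381 : C.T (v18 C) [18, 37, 54, 73, 105, 123] (v18 C) [10, 31, 63, 78, 103, 110, 117] :=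
  C.closeT (p := (v3 C)) (pu := [23, 36, 67, 88, 105, 109, 124])
    (C.pT (f13374 C)
    (C.pH [26, 38, 54, 89, 90, 113] [5, 45, 58, 75, 98, 109, 120] (by decide +kernel)
    (C.pT (f13376 C)
    (C.pH [8, 30, 65, 84, 94, 117] [18, 37, 54, 73, 105, 123] (by decide +kernel) (C.pNil _ _)))))
    (C.pH [26, 38, 54, 89, 90, 113] [21, 33, 52, 74, 103, 115] (by decide +kernel)
    (C.pT (f13380 C)
    (C.pH [8, 30, 65, 84, 94, 117] [23, 36, 67, 88, 105, 109, 124] (by decide +kernel) (C.pNil _ _))))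
    (C.loop_of_one (relLoop2 C) _ _)

theorem f13382 : C.T (v18 C) [10, 31, 63, 78, 103, 110, 117] (v18 C) [18, 37, 54, 73, 105, 123] :=
  C.flip (f13381 C)

theorem f13383 : C.T (v3 C) [11, 32, 53, 75, 99, 110, 120] (v18 C) [23, 41, 51, 81, 99, 116] :=
  C.conv (f9432 C) (f9640 C) (f9640 C) _ [136, 150, 170, 177] _ (by decide +kernel) (by decide +kernel) (by decide +kernel)

theorem f13384 : C.S (v3 C) [22, 29, 89, 96, 109, 125] :=
  C.stMul (f328 C) (f331 C) _ (by decide +kernel)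

theorem f13385 : C.S (v3 C) [18, 43, 59, 78, 90, 110, 111] :=
  C.stMul (f353 C) (f13384 C) _ (by decide +kernel)

theorem f13386 : C.T (v3 C) [13, 33, 69, 70, 92, 109, 114] (v15 C) [18, 48, 86, 97, 109, 111] :=
  C.conv (f2902 C) (f2981 C) (f13385 C) _ [144, 152, 167] _ (by decide +kernel) (by decide +kernel) (by decide +kernel)

theorem f13387 : C.T (v15 C) [18, 48, 86, 97, 109, 111] (v3 C) [13, 33, 69, 70, 92, 109, 114] :=
  C.flip (f13386 C)

theorem f13388 : C.T (v15 C) [25, 68, 107, 110, 112] (v18 C) [12, 29, 54, 88, 102, 110, 124] :=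
  C.conv (f10506 C) (f11724 C) (f2652 C) _ [146, 154, 169, 177] _ (by decide +kernel) (by decide +kernel) (by decide +kernel)

theorem f13389 : C.T (v18 C) [12, 29, 54, 88, 102, 110, 124] (v15 C) [25, 68, 107, 110, 112] :=
  C.flip (f13388 C)

theorem f13390 : C.T (v18 C) [7, 27, 50, 82, 107, 110] (v18 C) [5, 43, 51, 72, 103, 119] :=
  C.closeT (p := (v3 C)) (pu := [11, 32, 53, 75, 99, 110, 120])
    (C.pT (f13383 C)
    (C.pH [26, 38, 54, 89, 90, 113] [7, 27, 50, 82, 107, 110] (by decide +kernel) (C.pNil _ _)))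
    (C.pH [8, 30, 65, 84, 94, 117] [12, 29, 54, 88, 102, 110, 124] (by decide +kernel)
    (C.pT (f13389 C)
    (C.pH [26, 38, 54, 89, 90, 113] [18, 48, 86, 97, 109, 111] (by decide +kernel)
    (C.pT (f13387 C)
    (C.pH [8, 30, 65, 84, 94, 117] [11, 32, 53, 75, 99, 110, 120] (by decide +kernel) (C.pNil _ _))))))
    (C.loop_of_one (relLoop2 C) _ _)

theorem f13394 : C.T (v3 C) [17, 45, 67, 87, 100, 110, 120] (v18 C) [5, 40, 63, 88, 98, 109, 122] :=
  C.conv (f9432 C) (f9640 C) (f9640 C) _ [134, 156, 166, 178] _ (by decide +kernel) (by decide +kernel) (by decide +kernel)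

theorem f13395 : C.S (v3 C) [24, 36, 57, 89, 101, 117] :=
  C.stMul (f335 C) (f8435 C) _ (by decide +kernel)

theorem f13396 : C.T (v3 C) [7, 48, 62, 73, 90, 110, 125] (v18 C) [10, 32, 49, 71, 96, 109, 125] :=
  C.conv (f8216 C) (f8435 C) (f13395 C) _ [126, 160, 164, 176, 178] _ (by decide +kernel) (by decide +kernel) (by decide +kernel)

theorem f13397 : C.T (v18 C) [10, 32, 49, 71, 96, 109, 125] (v3 C) [7, 48, 62, 73, 90, 110, 125] :=
  C.flip (f13396 C)

theorem f13398 : C.S (v18 C) [26, 43, 49, 77, 91, 110, 115] :=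
  C.stMul (f6836 C) (f6836 C) _ (by decide +kernel)

theorem f13399 : C.T (v18 C) [18, 42, 61, 71, 101, 109, 119] (v16 C) [15, 42, 62, 88, 102, 123] :=
  C.conv (f10519 C) (f13398 C) (f7121 C) _ [147, 151, 167, 174, 177] _ (by decide +kernel) (by decide +kernel) (by decide +kernel)

theorem f13400 : C.T (v16 C) [15, 42, 62, 88, 102, 123] (v18 C) [18, 42, 61, 71, 101, 109, 119] :=
  C.flip (f13399 C)

theorem f13401 : C.T (v18 C) [8, 45, 87, 104, 124] (v16 C) [10, 39, 52, 75, 90, 109, 120] :=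
  C.closeT (p := (v3 C)) (pu := [17, 45, 67, 87, 100, 110, 120])
    (C.pT (f13394 C)
    (C.pH [26, 38, 54, 89, 90, 113] [8, 45, 87, 104, 124] (by decide +kernel) (C.pNil _ _)))
    (C.pH [8, 30, 65, 84, 94, 117] [15, 42, 62, 88, 102, 123] (by decide +kernel)
    (C.pT (f13400 C)
    (C.pH [26, 38, 54, 89, 90, 113] [10, 32, 49, 71, 96, 109, 125] (by decide +kernel)
    (C.pT (f13397 C)
    (C.pH [8, 30, 65, 84, 94, 117] [17, 45, 67, 87, 100, 110, 120] (by decide +kernel) (C.pNil _ _))))))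
    (C.loop_of_one (relLoop2 C) _ _)

theorem f13402 : C.T (v16 C) [10, 39, 52, 75, 90, 109, 120] (v18 C) [8, 45, 87, 104, 124] :=
  C.flip (f13401 C)

theorem f13403 : C.T (v3 C) [20, 28, 63, 75, 91, 110, 115] (v18 C) [12, 32, 51, 86, 105, 110] :=
  C.conv (f9432 C) (f9640 C) (f9640 C) _ [148, 151, 165, 171] _ (by decide +kernel) (by decide +kernel) (by decide +kernel)

theorem f13404 : C.T (v3 C) [16, 30, 57, 88, 105, 117] (v18 C) [6, 30, 61, 81, 101, 110, 124] :=
  C.conv (f9432 C) (f9640 C) (f9639 C) _ [134, 153, 166, 171] _ (by decide +kernel) (by decide +kernel) (by decide +kernel)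

theorem f13405 : C.T (v18 C) [6, 30, 61, 81, 101, 110, 124] (v3 C) [16, 30, 57, 88, 105, 117] :=
  C.flip (f13404 C)

theorem f13406 : C.T (v18 C) [21, 40, 51, 73, 99, 110, 113] (v18 C) [4, 42, 51, 106, 114] :=
  C.conv (f7978 C) (f7121 C) (f7980 C) _ [139, 157, 168, 175, 177] _ (by decide +kernel) (by decide +kernel) (by decide +kernel)

theorem f13407 : C.T (v18 C) [4, 42, 51, 106, 114] (v18 C) [21, 40, 51, 73, 99, 110, 113] :=
  C.flip (f13406 C)

theorem f13408 : C.T (v18 C) [14, 48, 72, 107, 112] (v18 C) [18, 38, 65, 70, 96, 110, 125] :=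
  C.closeT (p := (v3 C)) (pu := [20, 28, 63, 75, 91, 110, 115])
    (C.pT (f13403 C)
    (C.pH [26, 38, 54, 89, 90, 113] [14, 48, 72, 107, 112] (by decide +kernel) (C.pNil _ _)))
    (C.pH [8, 30, 65, 84, 94, 117] [4, 42, 51, 106, 114] (by decide +kernel)
    (C.pT (f13407 C)
    (C.pH [26, 38, 54, 89, 90, 113] [6, 30, 61, 81, 101, 110, 124] (by decide +kernel)
    (C.pT (f13405 C)
    (C.pH [8, 30, 65, 84, 94, 117] [20, 28, 63, 75, 91, 110, 115] (by decide +kernel) (C.pNil _ _))))))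
    (C.loop_of_one (relLoop2 C) _ _)

theorem f13409 : C.T (v18 C) [18, 38, 65, 70, 96, 110, 125] (v18 C) [14, 48, 72, 107, 112] :=
  C.flip (f13408 C)

theorem f13410 : C.T (v3 C) [17, 45, 60, 84, 94, 110, 115] (v18 C) [16, 34, 59, 71, 92, 109, 115] :=
  C.conv (f9432 C) (f9640 C) (f9640 C) _ [126, 154, 166, 172] _ (by decide +kernel) (by decide +kernel) (by decide +kernel)

theorem f13411 : C.S (v3 C) [7, 29, 51, 83, 103, 109, 117] :=
  C.stMul (f335 C) (f335 C) _ (by decide +kernel)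

theorem f13412 : C.S (v3 C) [10, 48, 60, 84, 100, 110, 123] :=
  C.stMul (f353 C) (f13411 C) _ (by decide +kernel)

theorem f13413 : C.T (v3 C) [7, 48, 65, 110, 119] (v5 C) [6, 59, 77, 108, 109, 116] :=
  C.conv (f1048 C) (f1093 C) (f13412 C) _ [142, 157, 167, 174] _ (by decide +kernel) (by decide +kernel) (by decide +kernel)

theorem f13414 : C.T (v5 C) [6, 59, 77, 108, 109, 116] (v3 C) [7, 48, 65, 110, 119] :=
  C.flip (f13413 C)

theorem f13415 : C.S (v5 C) [20, 35, 58, 88, 120] :=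
  C.stMul (f1023 C) (f1008 C) _ (by decide +kernel)

theorem f13416 : C.S (v5 C) [10, 27, 54, 88, 92, 110, 113] :=
  C.stMul (f1023 C) (f1023 C) _ (by decide +kernel)

theorem f13417 : C.S (v5 C) [7, 48, 49, 78, 90, 109, 120] :=
  C.stMul (f986 C) (f13416 C) _ (by decide +kernel)

theorem f13418 : C.T (v5 C) [21, 29, 53, 76, 94, 109, 116] (v18 C) [13, 69, 76, 101, 114] :=
  C.conv (f8703 C) (f13415 C) (f13417 C) _ [139, 165] _ (by decide +kernel) (by decide +kernel) (by decide +kernel)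

theorem f13419 : C.T (v18 C) [13, 69, 76, 101, 114] (v5 C) [21, 29, 53, 76, 94, 109, 116] :=
  C.flip (f13418 C)

theorem f13420 : C.T (v18 C) [13, 35, 55, 81, 95, 124] (v18 C) [6, 43, 79, 100, 116] :=
  C.closeT (p := (v3 C)) (pu := [17, 45, 60, 84, 94, 110, 115])
    (C.pT (f13410 C)
    (C.pH [26, 38, 54, 89, 90, 113] [13, 35, 55, 81, 95, 124] (by decide +kernel) (C.pNil _ _)))
    (C.pH [8, 30, 65, 84, 94, 117] [13, 69, 76, 101, 114] (by decide +kernel)
    (C.pT (f13419 C)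
    (C.pH [26, 38, 54, 89, 90, 113] [6, 59, 77, 108, 109, 116] (by decide +kernel)
    (C.pT (f13414 C)
    (C.pH [8, 30, 65, 84, 94, 117] [17, 45, 60, 84, 94, 110, 115] (by decide +kernel) (C.pNil _ _))))))
    (C.loop_of_one (relLoop2 C) _ _)

theorem f13423 : C.T (v3 C) [22, 45, 60, 70, 103, 120] (v18 C) [23, 34, 51, 71, 101, 119] :=
  C.conv (f9432 C) (f9640 C) (f9640 C) _ [126, 149, 166, 174] _ (by decide +kernel) (by decide +kernel) (by decide +kernel)

theorem f13424 : C.T (v18 C) [7, 48, 68, 77, 95, 118] (v15 C) [13, 46, 55, 75, 100, 109] :=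
  C.conv (f11819 C) (f7121 C) (f6836 C) _ [138, 157, 173, 178] _ (by decide +kernel) (by decide +kernel) (by decide +kernel)

theorem f13425 : C.S (v3 C) [34, 56, 82, 103, 109, 119] :=
  C.stMul (f353 C) (f9985 C) _ (by decide +kernel)

theorem f13426 : C.S (v3 C) [22, 45, 66, 87, 94, 122] :=
  C.stMul (f331 C) (f13425 C) _ (by decide +kernel)

theorem f13427 : C.T (v3 C) [17, 43, 57, 71, 105, 109, 117] (v18 C) [6, 40, 62, 85, 104, 109, 121] :=
  C.conv (f9221 C) (f9279 C) (f13426 C) _ [150, 173] _ (by decide +kernel) (by decide +kernel) (by decide +kernel)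

theorem f13428 : C.T (v18 C) [6, 40, 62, 85, 104, 109, 121] (v3 C) [17, 43, 57, 71, 105, 109, 117] :=
  C.flip (f13427 C)

theorem f13429 : C.T (v15 C) [11, 40, 66, 89, 105, 113] (v18 C) [21, 30, 62, 82, 93, 109, 116] :=
  C.closeT (p := (v3 C)) (pu := [22, 45, 60, 70, 103, 120])
    (C.pT (f13423 C)
    (C.pH [26, 38, 54, 89, 90, 113] [7, 48, 68, 77, 95, 118] (by decide +kernel)
    (C.pT (f13424 C)
    (C.pH [8, 30, 65, 84, 94, 117] [11, 40, 66, 89, 105, 113] (by decide +kernel) (C.pNil _ _)))))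
    (C.pH [26, 38, 54, 89, 90, 113] [6, 40, 62, 85, 104, 109, 121] (by decide +kernel)
    (C.pT (f13428 C)
    (C.pH [8, 30, 65, 84, 94, 117] [22, 45, 60, 70, 103, 120] (by decide +kernel) (C.pNil _ _))))
    (C.loop_of_one (relLoop2 C) _ _)

theorem f13430 : C.T (v18 C) [21, 30, 62, 82, 93, 109, 116] (v15 C) [11, 40, 66, 89, 105, 113] :=
  C.flip (f13429 C)

theorem f13431 : C.T (v3 C) [11, 27, 63, 73, 110, 117] (v18 C) [20, 31, 52, 71, 106, 115] :=
  C.conv (f9432 C) (f9640 C) (f9640 C) _ [127, 160, 166, 171] _ (by decide +kernel) (by decide +kernel) (by decide +kernel)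

theorem f13432 : C.T (v3 C) [13, 47, 54, 78, 98, 124] (v17 C) [12, 40, 58, 83, 102, 110, 122] :=
  C.conv (f6814 C) (f7361 C) (f12572 C) _ [133, 161, 165, 175, 178] _ (by decide +kernel) (by decide +kernel) (by decide +kernel)

theorem f13433 : C.T (v17 C) [12, 40, 58, 83, 102, 110, 122] (v3 C) [13, 47, 54, 78, 98, 124] :=
  C.flip (f13432 C)

theorem f13434 : C.T (v17 C) [24, 45, 58, 85, 101, 111] (v18 C) [21, 43, 67, 106, 110, 117] :=
  C.conv (f11947 C) (f12599 C) (f4137 C) _ [129, 156, 173] _ (by decide +kernel) (by decide +kernel) (by decide +kernel)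

theorem f13435 : C.T (v18 C) [21, 43, 67, 106, 110, 117] (v17 C) [24, 45, 58, 85, 101, 111] :=
  C.flip (f13434 C)

theorem f13436 : C.T (v18 C) [15, 31, 51, 78, 99, 110, 122] (v18 C) [12, 43, 49, 77, 94, 110, 117] :=
  C.closeT (p := (v3 C)) (pu := [11, 27, 63, 73, 110, 117])
    (C.pT (f13431 C)
    (C.pH [26, 38, 54, 89, 90, 113] [15, 31, 51, 78, 99, 110, 122] (by decide +kernel) (C.pNil _ _)))
    (C.pH [8, 30, 65, 84, 94, 117] [21, 43, 67, 106, 110, 117] (by decide +kernel)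
    (C.pT (f13435 C)
    (C.pH [26, 38, 54, 89, 90, 113] [12, 40, 58, 83, 102, 110, 122] (by decide +kernel)
    (C.pT (f13433 C)
    (C.pH [8, 30, 65, 84, 94, 117] [11, 27, 63, 73, 110, 117] (by decide +kernel) (C.pNil _ _))))))
    (C.loop_of_one (relLoop2 C) _ _)

theorem f13437 : C.T (v18 C) [12, 43, 49, 77, 94, 110, 117] (v18 C) [15, 31, 51, 78, 99, 110, 122] :=
  C.flip (f13436 C)

theorem f13438 : C.T (v3 C) [23, 42, 60, 77, 93, 110, 118] (v18 C) [11, 41, 50, 85, 106, 113] :=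
  C.conv (f9432 C) (f9640 C) (f9640 C) _ [138, 158, 166, 174, 177] _ (by decide +kernel) (by decide +kernel) (by decide +kernel)

theorem f13439 : C.S (v3 C) [15, 40, 50, 78, 92, 118] :=
  C.stMul (f328 C) (f7285 C) _ (by decide +kernel)

theorem f13440 : C.S (v3 C) [16, 39, 64, 74, 93, 112] :=
  C.stMul (f335 C) (f13439 C) _ (by decide +kernel)

theorem f13441 : C.S (v3 C) [25, 29, 76, 106, 113] :=
  C.stMul (f331 C) (f13440 C) _ (by decide +kernel)

theorem f13442 : C.T (v3 C) [20, 46, 50, 76, 103, 110, 120] (v18 C) [17, 47, 52, 80, 104, 109, 112] :=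
  C.conv (f6902 C) (f7285 C) (f13441 C) _ [142, 154, 172, 177] _ (by decide +kernel) (by decide +kernel) (by decide +kernel)

theorem f13443 : C.T (v18 C) [17, 47, 52, 80, 104, 109, 112] (v3 C) [20, 46, 50, 76, 103, 110, 120] :=
  C.flip (f13442 C)

theorem f13444 : C.S (v18 C) [26, 43, 49, 77, 91, 110, 115] :=
  C.stMul (f6836 C) (f6836 C) _ (by decide +kernel)

theorem f13445 : C.T (v18 C) [19, 32, 67, 81, 108, 112] (v18 C) [10, 36, 53, 83, 108, 109, 116] :=
  C.conv (f12876 C) (f13444 C) (f13444 C) _ [155, 165, 171] _ (by decide +kernel) (by decide +kernel) (by decide +kernel)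

theorem f13446 : C.T (v18 C) [10, 36, 53, 83, 108, 109, 116] (v18 C) [19, 32, 67, 81, 108, 112] :=
  C.flip (f13445 C)

theorem f13447 : C.T (v18 C) [24, 28, 59, 95, 110, 122] (v18 C) [23, 39, 53, 88, 91, 109, 119] :=
  C.closeT (p := (v3 C)) (pu := [23, 42, 60, 77, 93, 110, 118])
    (C.pT (f13438 C)
    (C.pH [26, 38, 54, 89, 90, 113] [24, 28, 59, 95, 110, 122] (by decide +kernel) (C.pNil _ _)))
    (C.pH [8, 30, 65, 84, 94, 117] [10, 36, 53, 83, 108, 109, 116] (by decide +kernel)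
    (C.pT (f13446 C)
    (C.pH [26, 38, 54, 89, 90, 113] [17, 47, 52, 80, 104, 109, 112] (by decide +kernel)
    (C.pT (f13443 C)
    (C.pH [8, 30, 65, 84, 94, 117] [23, 42, 60, 77, 93, 110, 118] (by decide +kernel) (C.pNil _ _))))))
    (C.loop_of_one (relLoop2 C) _ _)

theorem f13451 : C.T (v4 C) [8, 47, 66, 76, 101, 112] (v4 C) [5, 35, 64, 93, 109, 120] :=
  C.conv (f798 C) (f421 C) (f421 C) _ [126, 159, 170, 175] _ (by decide +kernel) (by decide +kernel) (by decide +kernel)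

theorem f13452 : C.S (v4 C) [8, 31, 60, 85, 98, 110, 125] :=
  C.stMul (f693 C) (f407 C) _ (by decide +kernel)

theorem f13453 : C.S (v4 C) [42, 63, 82, 91, 110, 125] :=
  C.stMul (f421 C) (f13452 C) _ (by decide +kernel)

theorem f13454 : C.T (v4 C) [5, 37, 64, 83, 94, 109, 118] (v18 C) [18, 36, 67, 78, 100, 110, 121] :=
  C.conv (f7891 C) (f8521 C) (f13453 C) _ [144, 156, 174] _ (by decide +kernel) (by decide +kernel) (by decide +kernel)

theorem f13455 : C.T (v18 C) [18, 39, 60, 78, 105] (v4 C) [21, 37, 66, 87, 108, 110, 111] :=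
  C.closeT (p := (v4 C)) (pu := [8, 47, 66, 76, 101, 112])
    (C.pT (f13451 C)
    (C.pH [12, 35, 50, 83] [5, 37, 64, 83, 94, 109, 118] (by decide +kernel)
    (C.pT (f13454 C)
    (C.pH [12, 35, 50, 83] [18, 39, 60, 78, 105] (by decide +kernel) (C.pNil _ _)))))
    (C.pH [12, 35, 50, 83] [8, 47, 66, 76, 101, 112] (by decide +kernel) (C.pNil _ _))
    (C.loop_of_one (relLoop0 C) _ _)

theorem f13456 : C.T (v4 C) [21, 37, 66, 87, 108, 110, 111] (v18 C) [18, 39, 60, 78, 105] :=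
  C.flip (f13455 C)

theorem f13457 : C.T (v4 C) [5, 31, 68, 77, 90, 110] (v4 C) [4, 45, 59, 87, 100, 110, 125] :=
  C.conv (f827 C) (f831 C) (f831 C) _ [137, 149, 167, 171, 178] _ (by decide +kernel) (by decide +kernel) (by decide +kernel)

theorem f13458 : C.S (v4 C) [17, 35, 66, 70, 95] :=
  C.stMul (f421 C) (f407 C) _ (by decide +kernel)

theorem f13459 : C.S (v4 C) [26, 44, 64, 94, 121] :=
  C.stMul (f693 C) (f13458 C) _ (by decide +kernel)

theorem f13460 : C.S (v4 C) [23, 27, 56, 70, 98, 125] :=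
  C.stMul (f421 C) (f13459 C) _ (by decide +kernel)

theorem f13461 : C.T (v4 C) [13, 29, 60, 87, 106, 112] (v18 C) [13, 28, 51, 86, 104, 109] :=
  C.conv (f8315 C) (f8537 C) (f13460 C) _ [145, 155, 167, 176, 178] _ (by decide +kernel) (by decide +kernel) (by decide +kernel)

theorem f13462 : C.T (v18 C) [26, 44, 58, 73, 108, 113] (v4 C) [5, 44, 57, 76, 92, 110, 111] :=
  C.closeT (p := (v4 C)) (pu := [5, 31, 68, 77, 90, 110])
    (C.pT (f13457 C)
    (C.pH [12, 35, 50, 83] [13, 29, 60, 87, 106, 112] (by decide +kernel)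
    (C.pT (f13461 C)
    (C.pH [12, 35, 50, 83] [26, 44, 58, 73, 108, 113] (by decide +kernel) (C.pNil _ _)))))
    (C.pH [12, 35, 50, 83] [5, 31, 68, 77, 90, 110] (by decide +kernel) (C.pNil _ _))
    (C.loop_of_one (relLoop0 C) _ _)

theorem f13463 : C.T (v4 C) [5, 44, 57, 76, 92, 110, 111] (v18 C) [26, 44, 58, 73, 108, 113] :=
  C.flip (f13462 C)

theorem f13464 : C.T (v4 C) [24, 30, 69, 85, 107, 109, 113] (v4 C) [19, 36, 60, 102, 109, 124] :=
  C.conv (f868 C) (f421 C) (f421 C) _ [144, 152, 169, 174] _ (by decide +kernel) (by decide +kernel) (by decide +kernel)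

theorem f13465 : C.S (v4 C) [23, 41, 49, 78, 91, 109] :=
  C.stMul (f693 C) (f421 C) _ (by decide +kernel)

theorem f13466 : C.T (v4 C) [19, 38, 52, 82, 100, 117] (v18 C) [17, 35, 67, 76, 106, 109, 118] :=
  C.conv (f7423 C) (f7483 C) (f13465 C) _ [132, 150, 166, 174, 177] _ (by decide +kernel) (by decide +kernel) (by decide +kernel)

theorem f13467 : C.T (v18 C) [17, 35, 67, 76, 106, 109, 118] (v4 C) [19, 38, 52, 82, 100, 117] :=
  C.flip (f13466 C)

theorem f13468 : C.T (v4 C) [24, 45, 59, 86, 103, 109, 112] (v18 C) [9, 69, 80, 107, 109, 117] :=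
  C.closeT (p := (v4 C)) (pu := [24, 30, 69, 85, 107, 109, 113])
    (C.pT (f13464 C)
    (C.pH [12, 35, 50, 83] [24, 45, 59, 86, 103, 109, 112] (by decide +kernel) (C.pNil _ _)))
    (C.pH [12, 35, 50, 83] [17, 35, 67, 76, 106, 109, 118] (by decide +kernel)
    (C.pT (f13467 C)
    (C.pH [12, 35, 50, 83] [24, 30, 69, 85, 107, 109, 113] (by decide +kernel) (C.pNil _ _))))
    (C.loop_of_one (relLoop0 C) _ _)

theorem f13469 : C.T (v18 C) [9, 69, 80, 107, 109, 117] (v4 C) [24, 45, 59, 86, 103, 109, 112] :=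
  C.flip (f13468 C)

theorem f13470 : C.T (v4 C) [9, 38, 59, 85, 95, 109, 117] (v4 C) [14, 39, 54, 73, 97, 114] :=
  C.conv (f882 C) (f407 C) (f407 C) _ [146, 151, 168, 173, 177] _ (by decide +kernel) (by decide +kernel) (by decide +kernel)

theorem f13471 : C.T (v4 C) [14, 44, 69, 89, 104, 109, 121] (v18 C) [13, 43, 65, 85, 90, 109, 117] :=
  C.conv (f7487 C) (f8474 C) (f8475 C) _ [133, 159, 166] _ (by decide +kernel) (by decide +kernel) (by decide +kernel)

theorem f13472 : C.T (v18 C) [26, 38, 85, 90, 109, 117] (v4 C) [25, 28, 66, 88, 107, 109, 114] :=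
  C.closeT (p := (v4 C)) (pu := [9, 38, 59, 85, 95, 109, 117])
    (C.pT (f13470 C)
    (C.pH [12, 35, 50, 83] [14, 44, 69, 89, 104, 109, 121] (by decide +kernel)
    (C.pT (f13471 C)
    (C.pH [12, 35, 50, 83] [26, 38, 85, 90, 109, 117] (by decide +kernel) (C.pNil _ _)))))
    (C.pH [12, 35, 50, 83] [9, 38, 59, 85, 95, 109, 117] (by decide +kernel) (C.pNil _ _))
    (C.loop_of_one (relLoop0 C) _ _)

theorem f13473 : C.T (v4 C) [25, 28, 66, 88, 107, 109, 114] (v18 C) [26, 38, 85, 90, 109, 117] :=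
  C.flip (f13472 C)

theorem f13474 : C.T (v4 C) [23, 47, 64, 70, 106, 109, 118] (v5 C) [5, 45, 61, 81, 91, 110, 119] :=
  C.conv (f1108 C) (f1133 C) (f1133 C) _ [139, 153, 166, 174, 178] _ (by decide +kernel) (by decide +kernel) (by decide +kernel)

theorem f13475 : C.S (v4 C) [13, 28, 60, 83, 108, 110, 119] :=
  C.stMul (f421 C) (f693 C) _ (by decide +kernel)

theorem f13476 : C.S (v4 C) [18, 46, 49, 75, 97, 110, 118] :=
  C.stMul (f407 C) (f407 C) _ (by decide +kernel)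

theorem f13477 : C.S (v4 C) [16, 43, 64, 82, 90, 110, 123] :=
  C.stMul (f421 C) (f13476 C) _ (by decide +kernel)

theorem f13478 : C.S (v4 C) [21, 60, 87, 91, 109, 120] :=
  C.stMul (f407 C) (f13477 C) _ (by decide +kernel)

theorem f13479 : C.S (v4 C) [8, 48, 61, 83, 103, 117] :=
  C.stMul (f407 C) (f13478 C) _ (by decide +kernel)

theorem f13480 : C.S (v4 C) [31, 58, 82, 95, 109, 115] :=
  C.stMul (f421 C) (f13479 C) _ (by decide +kernel)

theorem f13481 : C.T (v4 C) [12, 45, 66, 84, 107, 109, 113] (v18 C) [8, 50, 79, 98, 109, 115] :=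
  C.conv (f8390 C) (f13475 C) (f13480 C) _ [132, 150, 170, 176] _ (by decide +kernel) (by decide +kernel) (by decide +kernel)

theorem f13482 : C.T (v18 C) [8, 50, 79, 98, 109, 115] (v4 C) [12, 45, 66, 84, 107, 109, 113] :=
  C.flip (f13481 C)

theorem f13483 : C.T (v5 C) [5, 45, 64, 83, 104, 119] (v18 C) [21, 47, 51, 79, 105, 122] :=
  C.closeT (p := (v4 C)) (pu := [23, 47, 64, 70, 106, 109, 118])
    (C.pT (f13474 C)
    (C.pH [12, 35, 50, 83] [5, 45, 64, 83, 104, 119] (by decide +kernel) (C.pNil _ _)))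
    (C.pH [12, 35, 50, 83] [8, 50, 79, 98, 109, 115] (by decide +kernel)
    (C.pT (f13482 C)
    (C.pH [12, 35, 50, 83] [23, 47, 64, 70, 106, 109, 118] (by decide +kernel) (C.pNil _ _))))
    (C.loop_of_one (relLoop0 C) _ _)

theorem f13484 : C.T (v18 C) [21, 47, 51, 79, 105, 122] (v5 C) [5, 45, 64, 83, 104, 119] :=
  C.flip (f13483 C)

theorem f13485 : C.T (v4 C) [11, 31, 58, 86, 105, 125] (v6 C) [11, 44, 51, 79, 92, 110, 122] :=
  C.conv (f1276 C) (f407 C) (f407 C) _ [136, 149, 169, 177] _ (by decide +kernel) (by decide +kernel) (by decide +kernel)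

theorem f13486 : C.S (v4 C) [10, 27, 56, 84, 93, 109, 113] :=
  C.stMul (f407 C) (f421 C) _ (by decide +kernel)

theorem f13487 : C.S (v4 C) [16, 32, 68, 79, 93, 110, 124] :=
  C.stMul (f407 C) (f13486 C) _ (by decide +kernel)

theorem f13488 : C.S (v4 C) [18, 44, 51, 79, 106, 114] :=
  C.stMul (f421 C) (f13487 C) _ (by decide +kernel)

theorem f13489 : C.S (v4 C) [23, 52, 80, 95, 123] :=
  C.stMul (f407 C) (f13488 C) _ (by decide +kernel)

theorem f13490 : C.T (v4 C) [22, 47, 68, 84, 99, 109, 120] (v18 C) [18, 42, 61, 87, 110, 123] :=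
  C.conv (f7446 C) (f7469 C) (f13489 C) _ [134, 166, 173] _ (by decide +kernel) (by decide +kernel) (by decide +kernel)

theorem f13491 : C.T (v18 C) [18, 42, 61, 87, 110, 123] (v4 C) [22, 47, 68, 84, 99, 109, 120] :=
  C.flip (f13490 C)

theorem f13492 : C.T (v6 C) [20, 40, 51, 85, 94, 109, 120] (v18 C) [18, 42, 64, 81, 106, 110, 120] :=
  C.closeT (p := (v4 C)) (pu := [11, 31, 58, 86, 105, 125])
    (C.pT (f13485 C)
    (C.pH [12, 35, 50, 83] [20, 40, 51, 85, 94, 109, 120] (by decide +kernel) (C.pNil _ _)))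
    (C.pH [12, 35, 50, 83] [18, 42, 61, 87, 110, 123] (by decide +kernel)
    (C.pT (f13491 C)
    (C.pH [12, 35, 50, 83] [11, 31, 58, 86, 105, 125] (by decide +kernel) (C.pNil _ _))))
    (C.loop_of_one (relLoop0 C) _ _)

theorem f13493 : C.T (v18 C) [18, 42, 64, 81, 106, 110, 120] (v6 C) [20, 40, 51, 85, 94, 109, 120] :=
  C.flip (f13492 C)

theorem f13494 : C.T (v4 C) [21, 43, 59, 71, 98, 109, 115] (v6 C) [17, 48, 57, 87, 105, 110, 121] :=
  C.conv (f1285 C) (f1302 C) (f1302 C) _ [140, 160, 168] _ (by decide +kernel) (by decide +kernel) (by decide +kernel)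

theorem f13495 : C.S (v4 C) [16, 43, 64, 82, 90, 110, 123] :=
  C.stMul (f421 C) (f7484 C) _ (by decide +kernel)

theorem f13496 : C.S (v4 C) [21, 60, 87, 91, 109, 120] :=
  C.stMul (f407 C) (f13495 C) _ (by decide +kernel)

theorem f13497 : C.T (v4 C) [10, 43, 65, 75, 97, 122] (v18 C) [10, 47, 59, 81, 105, 109, 124] :=
  C.conv (f7423 C) (f7483 C) (f13496 C) _ [148, 163, 173] _ (by decide +kernel) (by decide +kernel) (by decide +kernel)

theorem f13498 : C.T (v18 C) [10, 47, 59, 81, 105, 109, 124] (v4 C) [10, 43, 65, 75, 97, 122] :=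
  C.flip (f13497 C)

theorem f13499 : C.T (v6 C) [25, 57, 87, 105, 110, 121] (v18 C) [8, 34, 56, 87, 95, 109, 122] :=
  C.closeT (p := (v4 C)) (pu := [21, 43, 59, 71, 98, 109, 115])
    (C.pT (f13494 C)
    (C.pH [12, 35, 50, 83] [25, 57, 87, 105, 110, 121] (by decide +kernel) (C.pNil _ _)))
    (C.pH [12, 35, 50, 83] [10, 47, 59, 81, 105, 109, 124] (by decide +kernel)
    (C.pT (f13498 C)
    (C.pH [12, 35, 50, 83] [21, 43, 59, 71, 98, 109, 115] (by decide +kernel) (C.pNil _ _))))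
    (C.loop_of_one (relLoop0 C) _ _)

theorem f13500 : C.T (v18 C) [8, 34, 56, 87, 95, 109, 122] (v6 C) [25, 57, 87, 105, 110, 121] :=
  C.flip (f13499 C)

theorem f13501 : C.T (v4 C) [15, 47, 69, 72, 107, 114] (v10 C) [19, 38, 59, 80, 104, 111] :=
  C.conv (f1798 C) (f1856 C) (f1856 C) _ [133, 157, 170, 174, 177] _ (by decide +kernel) (by decide +kernel) (by decide +kernel)

theorem f13502 : C.S (v4 C) [10, 42, 56, 80, 93, 109, 122] :=
  C.stMul (f693 C) (f8536 C) _ (by decide +kernel)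

theorem f13503 : C.S (v4 C) [25, 32, 52, 83, 96, 110, 121] :=
  C.stMul (f421 C) (f13502 C) _ (by decide +kernel)

theorem f13504 : C.T (v4 C) [15, 34, 66, 84, 91, 125] (v18 C) [8, 42, 72, 107, 109, 116] :=
  C.conv (f8315 C) (f8537 C) (f13503 C) _ [129, 154, 175, 178] _ (by decide +kernel) (by decide +kernel) (by decide +kernel)

theorem f13505 : C.T (v18 C) [8, 42, 72, 107, 109, 116] (v4 C) [15, 34, 66, 84, 91, 125] :=
  C.flip (f13504 C)

theorem f13506 : C.T (v10 C) [24, 30, 60, 81, 119] (v18 C) [21, 40, 57, 96, 110, 115] :=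
  C.closeT (p := (v4 C)) (pu := [15, 47, 69, 72, 107, 114])
    (C.pT (f13501 C)
    (C.pH [12, 35, 50, 83] [24, 30, 60, 81, 119] (by decide +kernel) (C.pNil _ _)))
    (C.pH [12, 35, 50, 83] [8, 42, 72, 107, 109, 116] (by decide +kernel)
    (C.pT (f13505 C)
    (C.pH [12, 35, 50, 83] [15, 47, 69, 72, 107, 114] (by decide +kernel) (C.pNil _ _))))
    (C.loop_of_one (relLoop0 C) _ _)

theorem f13507 : C.T (v18 C) [21, 40, 57, 96, 110, 115] (v10 C) [24, 30, 60, 81, 119] :=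
  C.flip (f13506 C)

theorem f13508 : C.T (v4 C) [8, 45, 53, 75, 96, 110] (v10 C) [26, 33, 58, 82, 103, 110, 122] :=
  C.conv (f1798 C) (f1856 C) (f1856 C) _ [135, 151, 169, 172, 177] _ (by decide +kernel) (by decide +kernel) (by decide +kernel)

theorem f13509 : C.S (v4 C) [10, 38, 55, 71, 94, 110, 113] :=
  C.stMul (f421 C) (f7493 C) _ (by decide +kernel)

theorem f13510 : C.T (v4 C) [21, 31, 68, 79, 96, 109, 112] (v18 C) [26, 54, 87, 98, 109] :=
  C.conv (f6930 C) (f7494 C) (f13509 C) _ [148, 149, 174] _ (by decide +kernel) (by decide +kernel) (by decide +kernel)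

theorem f13511 : C.T (v18 C) [26, 54, 87, 98, 109] (v4 C) [21, 31, 68, 79, 96, 109, 112] :=
  C.flip (f13510 C)

theorem f13512 : C.T (v10 C) [4, 44, 49, 89, 93] (v18 C) [13, 34, 92, 120] :=
  C.closeT (p := (v4 C)) (pu := [8, 45, 53, 75, 96, 110])
    (C.pT (f13508 C)
    (C.pH [12, 35, 50, 83] [4, 44, 49, 89, 93] (by decide +kernel) (C.pNil _ _)))
    (C.pH [12, 35, 50, 83] [26, 54, 87, 98, 109] (by decide +kernel)
    (C.pT (f13511 C)
    (C.pH [12, 35, 50, 83] [8, 45, 53, 75, 96, 110] (by decide +kernel) (C.pNil _ _))))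
    (C.loop_of_one (relLoop0 C) _ _)

theorem f13513 : C.T (v18 C) [13, 34, 92, 120] (v10 C) [4, 44, 49, 89, 93] :=
  C.flip (f13512 C)

theorem f13514 : C.T (v4 C) [26, 28, 50, 72, 96, 109, 113] (v10 C) [14, 28, 61, 80, 102, 110, 113] :=
  C.conv (f1798 C) (f1856 C) (f1856 C) _ [134, 157, 168, 172] _ (by decide +kernel) (by decide +kernel) (by decide +kernel)

theorem f13515 : C.S (v4 C) [13, 34, 59, 73, 105, 109, 115] :=
  C.stMul (f421 C) (f13496 C) _ (by decide +kernel)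

theorem f13516 : C.T (v4 C) [13, 41, 59, 85, 95, 120] (v18 C) [12, 43, 64, 83, 95, 109, 116] :=
  C.conv (f7423 C) (f7483 C) (f13515 C) _ [128, 161, 168, 175, 177] _ (by decide +kernel) (by decide +kernel) (by decide +kernel)

theorem f13517 : C.T (v18 C) [12, 43, 64, 83, 95, 109, 116] (v4 C) [13, 41, 59, 85, 95, 120] :=
  C.flip (f13516 C)

theorem f13518 : C.T (v10 C) [14, 61, 84, 105, 110, 115] (v18 C) [43, 88, 105, 109, 125] :=
  C.closeT (p := (v4 C)) (pu := [26, 28, 50, 72, 96, 109, 113])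
    (C.pT (f13514 C)
    (C.pH [12, 35, 50, 83] [14, 61, 84, 105, 110, 115] (by decide +kernel) (C.pNil _ _)))
    (C.pH [12, 35, 50, 83] [12, 43, 64, 83, 95, 109, 116] (by decide +kernel)
    (C.pT (f13517 C)
    (C.pH [12, 35, 50, 83] [26, 28, 50, 72, 96, 109, 113] (by decide +kernel) (C.pNil _ _))))
    (C.loop_of_one (relLoop0 C) _ _)

theorem f13519 : C.T (v18 C) [43, 88, 105, 109, 125] (v10 C) [14, 61, 84, 105, 110, 115] :=
  C.flip (f13518 C)

theorem f13520 : C.T (v4 C) [21, 38, 59, 73, 91, 110, 117] (v10 C) [13, 42, 68, 71, 101, 110, 112] :=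
  C.conv (f1798 C) (f1856 C) (f1856 C) _ [138, 165, 175, 178] _ (by decide +kernel) (by decide +kernel) (by decide +kernel)

theorem f13521 : C.S (v4 C) [23, 41, 49, 78, 91, 109] :=
  C.stMul (f693 C) (f421 C) _ (by decide +kernel)

theorem f13522 : C.S (v4 C) [26, 36, 62, 77, 94, 121] :=
  C.stMul (f421 C) (f13521 C) _ (by decide +kernel)

theorem f13523 : C.S (v4 C) [25, 42, 55, 82, 95, 109] :=
  C.stMul (f407 C) (f13522 C) _ (by decide +kernel)

theorem f13524 : C.T (v4 C) [10, 47, 56, 86, 95, 110, 111] (v18 C) [9, 46, 50, 83, 90, 109, 120] :=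
  C.conv (f7860 C) (f693 C) (f13523 C) _ [139, 153, 166, 177] _ (by decide +kernel) (by decide +kernel) (by decide +kernel)

theorem f13525 : C.T (v18 C) [9, 46, 50, 83, 90, 109, 120] (v4 C) [10, 47, 56, 86, 95, 110, 111] :=
  C.flip (f13524 C)

theorem f13526 : C.T (v10 C) [26, 33, 51, 103, 123] (v18 C) [25, 33, 62, 84, 91, 111] :=
  C.closeT (p := (v4 C)) (pu := [21, 38, 59, 73, 91, 110, 117])
    (C.pT (f13520 C)
    (C.pH [12, 35, 50, 83] [26, 33, 51, 103, 123] (by decide +kernel) (C.pNil _ _)))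
    (C.pH [12, 35, 50, 83] [9, 46, 50, 83, 90, 109, 120] (by decide +kernel)
    (C.pT (f13525 C)
    (C.pH [12, 35, 50, 83] [21, 38, 59, 73, 91, 110, 117] (by decide +kernel) (C.pNil _ _))))
    (C.loop_of_one (relLoop0 C) _ _)

theorem f13527 : C.T (v18 C) [25, 33, 62, 84, 91, 111] (v10 C) [26, 33, 51, 103, 123] :=
  C.flip (f13526 C)

theorem f13528 : C.T (v4 C) [7, 40, 69, 89, 108, 118] (v9 C) [15, 44, 53, 77, 115] :=
  C.conv (f2044 C) (f2809 C) (f2809 C) _ [134, 155, 167, 172, 177] _ (by decide +kernel) (by decide +kernel) (by decide +kernel)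

theorem f13529 : C.T (v4 C) [7, 28, 50, 75, 101, 109, 117] (v18 C) [20, 28, 61, 85, 102, 110, 116] :=
  C.conv (f7143 C) (f8330 C) (f697 C) _ [142, 151, 165, 174, 177] _ (by decide +kernel) (by decide +kernel) (by decide +kernel)

theorem f13530 : C.T (v18 C) [20, 28, 61, 85, 102, 110, 116] (v4 C) [7, 28, 50, 75, 101, 109, 117] :=
  C.flip (f13529 C)

theorem f13531 : C.T (v9 C) [15, 43, 54, 88, 102, 110, 124] (v18 C) [11, 41, 53, 86, 94, 109, 114] :=
  C.closeT (p := (v4 C)) (pu := [7, 40, 69, 89, 108, 118])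
    (C.pT (f13528 C)
    (C.pH [12, 35, 50, 83] [15, 43, 54, 88, 102, 110, 124] (by decide +kernel) (C.pNil _ _)))
    (C.pH [12, 35, 50, 83] [20, 28, 61, 85, 102, 110, 116] (by decide +kernel)
    (C.pT (f13530 C)
    (C.pH [12, 35, 50, 83] [7, 40, 69, 89, 108, 118] (by decide +kernel) (C.pNil _ _))))
    (C.loop_of_one (relLoop0 C) _ _)

theorem f13532 : C.T (v18 C) [11, 41, 53, 86, 94, 109, 114] (v9 C) [15, 43, 54, 88, 102, 110, 124] :=
  C.flip (f13531 C)

theorem f13533 : C.T (v4 C) [12, 46, 65, 78, 98, 114] (v9 C) [5, 38, 55, 89, 100, 110, 121] :=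
  C.conv (f2044 C) (f2809 C) (f2809 C) _ [163, 174] _ (by decide +kernel) (by decide +kernel) (by decide +kernel)

theorem f13534 : C.S (v4 C) [16, 46, 68, 72, 103, 110, 111] :=
  C.stMul (f693 C) (f12092 C) _ (by decide +kernel)

theorem f13535 : C.T (v4 C) [30, 65, 83, 90, 110, 119] (v18 C) [14, 37, 53, 71, 91, 109, 119] :=
  C.conv (f7605 C) (f8757 C) (f13534 C) _ [141, 153, 175, 178] _ (by decide +kernel) (by decide +kernel) (by decide +kernel)

theorem f13536 : C.T (v18 C) [14, 37, 53, 71, 91, 109, 119] (v4 C) [30, 65, 83, 90, 110, 119] :=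
  C.flip (f13535 C)

theorem f13537 : C.T (v9 C) [5, 34, 55, 89, 100, 110, 121] (v18 C) [14, 47, 57, 77, 103, 110, 112] :=
  C.closeT (p := (v4 C)) (pu := [12, 46, 65, 78, 98, 114])
    (C.pT (f13533 C)
    (C.pH [12, 35, 50, 83] [5, 34, 55, 89, 100, 110, 121] (by decide +kernel) (C.pNil _ _)))
    (C.pH [12, 35, 50, 83] [14, 37, 53, 71, 91, 109, 119] (by decide +kernel)
    (C.pT (f13536 C)
    (C.pH [12, 35, 50, 83] [12, 46, 65, 78, 98, 114] (by decide +kernel) (C.pNil _ _))))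
    (C.loop_of_one (relLoop0 C) _ _)

theorem f13538 : C.T (v18 C) [14, 47, 57, 77, 103, 110, 112] (v9 C) [5, 34, 55, 89, 100, 110, 121] :=
  C.flip (f13537 C)

theorem f13539 : C.T (v4 C) [19, 48, 50, 81, 107, 110, 114] (v14 C) [12, 39, 61, 84, 96, 116] :=
  C.conv (f2536 C) (f3041 C) (f3041 C) _ [147, 154, 172, 178] _ (by decide +kernel) (by decide +kernel) (by decide +kernel)

theorem f13540 : C.S (v4 C) [16, 46, 68, 72, 103, 110, 111] :=
  C.stMul (f693 C) (f7491 C) _ (by decide +kernel)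

theorem f13541 : C.S (v4 C) [18, 31, 55, 83, 101, 117] :=
  C.stMul (f421 C) (f13540 C) _ (by decide +kernel)

theorem f13542 : C.T (v4 C) [6, 34, 50, 81, 107, 110, 114] (v18 C) [8, 28, 54, 72, 104, 110, 111] :=
  C.conv (f6930 C) (f7494 C) (f13541 C) _ [130, 153, 165, 176] _ (by decide +kernel) (by decide +kernel) (by decide +kernel)

theorem f13543 : C.T (v18 C) [8, 28, 54, 72, 104, 110, 111] (v4 C) [6, 34, 50, 81, 107, 110, 114] :=
  C.flip (f13542 C)

theorem f13544 : C.T (v14 C) [23, 38, 51, 82, 99, 109, 115] (v18 C) [21, 30, 54, 71, 95, 110, 119] :=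
  C.closeT (p := (v4 C)) (pu := [19, 48, 50, 81, 107, 110, 114])
    (C.pT (f13539 C)
    (C.pH [12, 35, 50, 83] [23, 38, 51, 82, 99, 109, 115] (by decide +kernel) (C.pNil _ _)))
    (C.pH [12, 35, 50, 83] [8, 28, 54, 72, 104, 110, 111] (by decide +kernel)
    (C.pT (f13543 C)
    (C.pH [12, 35, 50, 83] [19, 48, 50, 81, 107, 110, 114] (by decide +kernel) (C.pNil _ _))))
    (C.loop_of_one (relLoop0 C) _ _)

theorem f13545 : C.T (v18 C) [21, 30, 54, 71, 95, 110, 119] (v14 C) [23, 38, 51, 82, 99, 109, 115] :=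
  C.flip (f13544 C)

theorem f13546 : C.T (v4 C) [19, 33, 64, 76, 104, 109, 120] (v14 C) [13, 33, 58, 75, 91, 117] :=
  C.conv (f2536 C) (f3041 C) (f3041 C) _ [140, 153, 167, 175, 178] _ (by decide +kernel) (by decide +kernel) (by decide +kernel)

theorem f13547 : C.S (v4 C) [18, 46, 49, 75, 97, 110, 118] :=
  C.stMul (f407 C) (f407 C) _ (by decide +kernel)

theorem f13548 : C.S (v4 C) [10, 42, 56, 80, 93, 109, 122] :=
  C.stMul (f693 C) (f13547 C) _ (by decide +kernel)

theorem f13549 : C.T (v4 C) [6, 45, 52, 103, 110, 125] (v18 C) [26, 44, 54, 81, 103, 109, 113] :=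
  C.conv (f10083 C) (f13548 C) (f13547 C) _ [129, 157, 173, 178] _ (by decide +kernel) (by decide +kernel) (by decide +kernel)

theorem f13550 : C.T (v18 C) [26, 44, 54, 81, 103, 109, 113] (v4 C) [6, 45, 52, 103, 110, 125] :=
  C.flip (f13549 C)

theorem f13551 : C.T (v14 C) [26, 40, 53, 72, 100, 111] (v18 C) [13, 28, 68, 76, 105, 110, 122] :=
  C.closeT (p := (v4 C)) (pu := [19, 33, 64, 76, 104, 109, 120])
    (C.pT (f13546 C)
    (C.pH [12, 35, 50, 83] [26, 40, 53, 72, 100, 111] (by decide +kernel) (C.pNil _ _)))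
    (C.pH [12, 35, 50, 83] [26, 44, 54, 81, 103, 109, 113] (by decide +kernel)
    (C.pT (f13550 C)
    (C.pH [12, 35, 50, 83] [19, 33, 64, 76, 104, 109, 120] (by decide +kernel) (C.pNil _ _))))
    (C.loop_of_one (relLoop0 C) _ _)

theorem f13552 : C.T (v18 C) [13, 28, 68, 76, 105, 110, 122] (v14 C) [26, 40, 53, 72, 100, 111] :=
  C.flip (f13551 C)

theorem f13553 : C.T (v4 C) [24, 46, 67, 84, 93, 110, 113] (v15 C) [19, 34, 63, 70, 104, 113] :=
  C.conv (f2575 C) (f2587 C) (f2587 C) _ [132, 152, 165, 176, 178] _ (by decide +kernel) (by decide +kernel) (by decide +kernel)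

theorem f13554 : C.S (v4 C) [17, 35, 66, 70, 95] :=
  C.stMul (f421 C) (f407 C) _ (by decide +kernel)

theorem f13555 : C.S (v4 C) [26, 44, 64, 94, 121] :=
  C.stMul (f693 C) (f13554 C) _ (by decide +kernel)

theorem f13556 : C.S (v4 C) [23, 27, 56, 70, 98, 125] :=
  C.stMul (f421 C) (f13555 C) _ (by decide +kernel)

theorem f13557 : C.S (v4 C) [33, 61, 77, 108, 110, 112] :=
  C.stMul (f407 C) (f13556 C) _ (by decide +kernel)

theorem f13558 : C.T (v4 C) [19, 48, 61, 79, 96, 110, 119] (v18 C) [25, 47, 67, 73, 121] :=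
  C.conv (f10153 C) (f11483 C) (f13557 C) _ [139, 159, 170, 172, 177] _ (by decide +kernel) (by decide +kernel) (by decide +kernel)

theorem f13559 : C.T (v18 C) [25, 47, 67, 73, 121] (v4 C) [19, 48, 61, 79, 96, 110, 119] :=
  C.flip (f13558 C)

theorem f13560 : C.T (v15 C) [24, 42, 53, 76, 102, 109, 125] (v18 C) [17, 32, 50, 88, 101, 109, 122] :=
  C.closeT (p := (v4 C)) (pu := [24, 46, 67, 84, 93, 110, 113])
    (C.pT (f13553 C)
    (C.pH [12, 35, 50, 83] [24, 42, 53, 76, 102, 109, 125] (by decide +kernel) (C.pNil _ _)))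
    (C.pH [12, 35, 50, 83] [25, 47, 67, 73, 121] (by decide +kernel)
    (C.pT (f13559 C)
    (C.pH [12, 35, 50, 83] [24, 46, 67, 84, 93, 110, 113] (by decide +kernel) (C.pNil _ _))))
    (C.loop_of_one (relLoop0 C) _ _)

theorem f13561 : C.T (v18 C) [17, 32, 50, 88, 101, 109, 122] (v15 C) [24, 42, 53, 76, 102, 109, 125] :=
  C.flip (f13560 C)

theorem f13562 : C.T (v4 C) [8, 39, 61, 71, 102, 109, 119] (v15 C) [24, 30, 64, 72, 95, 125] :=
  C.conv (f2613 C) (f2621 C) (f2621 C) _ [131, 152, 165, 173, 177] _ (by decide +kernel) (by decide +kernel) (by decide +kernel)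

theorem f13563 : C.T (v4 C) [21, 28, 87, 101, 109, 111] (v18 C) [21, 34, 63, 86, 100] :=
  C.conv (f7575 C) (f7630 C) (f8444 C) _ [136, 170, 174, 178] _ (by decide +kernel) (by decide +kernel) (by decide +kernel)

theorem f13564 : C.T (v18 C) [21, 34, 63, 86, 100] (v4 C) [21, 28, 87, 101, 109, 111] :=
  C.flip (f13563 C)

theorem f13565 : C.T (v15 C) [6, 43, 53, 77, 98, 110, 115] (v18 C) [10, 37, 54, 83, 102, 109, 113] :=
  C.closeT (p := (v4 C)) (pu := [8, 39, 61, 71, 102, 109, 119])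
    (C.pT (f13562 C)
    (C.pH [12, 35, 50, 83] [6, 43, 53, 77, 98, 110, 115] (by decide +kernel) (C.pNil _ _)))
    (C.pH [12, 35, 50, 83] [21, 34, 63, 86, 100] (by decide +kernel)
    (C.pT (f13564 C)
    (C.pH [12, 35, 50, 83] [8, 39, 61, 71, 102, 109, 119] (by decide +kernel) (C.pNil _ _))))
    (C.loop_of_one (relLoop0 C) _ _)

theorem f13566 : C.T (v18 C) [10, 37, 54, 83, 102, 109, 113] (v15 C) [6, 43, 53, 77, 98, 110, 115] :=
  C.flip (f13565 C)

theorem f13567 : C.T (v4 C) [12, 33, 65, 84, 97, 116] (v15 C) [18, 44, 53, 86, 102, 109] :=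
  C.conv (f2628 C) (f2666 C) (f2666 C) _ [130, 153, 169, 176] _ (by decide +kernel) (by decide +kernel) (by decide +kernel)

theorem f13568 : C.T (v4 C) [32, 65, 89, 98, 111] (v18 C) [16, 59, 84, 100, 117] :=
  C.conv (f8547 C) (f8550 C) (f8549 C) _ [141, 160, 170, 171] _ (by decide +kernel) (by decide +kernel) (by decide +kernel)

theorem f13569 : C.T (v18 C) [16, 59, 84, 100, 117] (v4 C) [32, 65, 89, 98, 111] :=
  C.flip (f13568 C)

theorem f13570 : C.T (v15 C) [18, 48, 52, 81, 104, 109, 122] (v18 C) [16, 44, 50, 74, 99, 110, 120] :=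
  C.closeT (p := (v4 C)) (pu := [12, 33, 65, 84, 97, 116])
    (C.pT (f13567 C)
    (C.pH [12, 35, 50, 83] [18, 48, 52, 81, 104, 109, 122] (by decide +kernel) (C.pNil _ _)))
    (C.pH [12, 35, 50, 83] [16, 59, 84, 100, 117] (by decide +kernel)
    (C.pT (f13569 C)
    (C.pH [12, 35, 50, 83] [12, 33, 65, 84, 97, 116] (by decide +kernel) (C.pNil _ _))))
    (C.loop_of_one (relLoop0 C) _ _)

theorem f13571 : C.T (v18 C) [16, 44, 50, 74, 99, 110, 120] (v15 C) [18, 48, 52, 81, 104, 109, 122] :=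
  C.flip (f13570 C)

theorem f13572 : C.T (v4 C) [23, 41, 53, 71, 109, 121] (v15 C) [13, 37, 67, 77, 100, 113] :=
  C.conv (f2728 C) (f2857 C) (f2857 C) _ [137, 162, 169, 171, 178] _ (by decide +kernel) (by decide +kernel) (by decide +kernel)

theorem f13573 : C.S (v4 C) [17, 35, 66, 70, 95] :=
  C.stMul (f421 C) (f407 C) _ (by decide +kernel)

theorem f13574 : C.S (v4 C) [13, 44, 51, 82, 106, 110, 111] :=
  C.stMul (f407 C) (f13573 C) _ (by decide +kernel)

theorem f13575 : C.S (v4 C) [21, 35, 69, 73, 94, 109, 122] :=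
  C.stMul (f421 C) (f13574 C) _ (by decide +kernel)

theorem f13576 : C.S (v4 C) [13, 28, 60, 83, 108, 110, 119] :=
  C.stMul (f421 C) (f693 C) _ (by decide +kernel)

theorem f13577 : C.T (v4 C) [12, 42, 56, 84, 107, 124] (v18 C) [11, 37, 56, 81, 95, 112] :=
  C.conv (f13468 C) (f13575 C) (f13576 C) _ [148, 156, 168, 173] _ (by decide +kernel) (by decide +kernel) (by decide +kernel)

theorem f13578 : C.T (v18 C) [11, 37, 56, 81, 95, 112] (v4 C) [12, 42, 56, 84, 107, 124] :=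
  C.flip (f13577 C)

theorem f13579 : C.T (v15 C) [26, 37, 87, 101, 109, 121] (v18 C) [22, 38, 50, 88, 95, 110, 115] :=
  C.closeT (p := (v4 C)) (pu := [23, 41, 53, 71, 109, 121])
    (C.pT (f13572 C)
    (C.pH [12, 35, 50, 83] [26, 37, 87, 101, 109, 121] (by decide +kernel) (C.pNil _ _)))
    (C.pH [12, 35, 50, 83] [11, 37, 56, 81, 95, 112] (by decide +kernel)
    (C.pT (f13578 C)
    (C.pH [12, 35, 50, 83] [23, 41, 53, 71, 109, 121] (by decide +kernel) (C.pNil _ _))))
    (C.loop_of_one (relLoop0 C) _ _)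

theorem f13580 : C.T (v18 C) [22, 38, 50, 88, 95, 110, 115] (v15 C) [26, 37, 87, 101, 109, 121] :=
  C.flip (f13579 C)

theorem f13581 : C.T (v4 C) [8, 30, 68, 85, 99, 110, 117] (v15 C) [16, 47, 57, 79, 102, 121] :=
  C.conv (f2951 C) (f2971 C) (f2971 C) _ [148, 169, 176] _ (by decide +kernel) (by decide +kernel) (by decide +kernel)

theorem f13582 : C.S (v4 C) [18, 46, 49, 75, 97, 110, 118] :=
  C.stMul (f407 C) (f407 C) _ (by decide +kernel)

theorem f13583 : C.S (v4 C) [23, 45, 57, 77, 95, 110, 118] :=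
  C.stMul (f407 C) (f13582 C) _ (by decide +kernel)

theorem f13584 : C.S (v4 C) [16, 46, 68, 72, 103, 110, 111] :=
  C.stMul (f693 C) (f13583 C) _ (by decide +kernel)

theorem f13585 : C.S (v4 C) [18, 31, 55, 83, 101, 117] :=
  C.stMul (f421 C) (f13584 C) _ (by decide +kernel)

theorem f13586 : C.T (v4 C) [21, 29, 51, 88, 92, 120] (v18 C) [4, 29, 69, 77, 97, 109, 112] :=
  C.conv (f13468 C) (f13575 C) (f13585 C) _ [141, 166, 178] _ (by decide +kernel) (by decide +kernel) (by decide +kernel)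

theorem f13587 : C.T (v18 C) [4, 29, 69, 77, 97, 109, 112] (v4 C) [21, 29, 51, 88, 92, 120] :=
  C.flip (f13586 C)

theorem f13588 : C.T (v15 C) [16, 37, 53, 81, 91, 115] (v18 C) [26, 45, 67, 70, 96, 110, 114] :=
  C.closeT (p := (v4 C)) (pu := [8, 30, 68, 85, 99, 110, 117])
    (C.pT (f13581 C)
    (C.pH [12, 35, 50, 83] [16, 37, 53, 81, 91, 115] (by decide +kernel) (C.pNil _ _)))
    (C.pH [12, 35, 50, 83] [4, 29, 69, 77, 97, 109, 112] (by decide +kernel)
    (C.pT (f13587 C)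
    (C.pH [12, 35, 50, 83] [8, 30, 68, 85, 99, 110, 117] (by decide +kernel) (C.pNil _ _))))
    (C.loop_of_one (relLoop0 C) _ _)

theorem f13589 : C.T (v18 C) [26, 45, 67, 70, 96, 110, 114] (v15 C) [16, 37, 53, 81, 91, 115] :=
  C.flip (f13588 C)

theorem f13590 : C.S (v4 C) [18, 46, 49, 75, 97, 110, 118] :=
  C.stMul (f407 C) (f407 C) _ (by decide +kernel)

theorem f13591 : C.S (v4 C) [23, 45, 57, 77, 95, 110, 118] :=
  C.stMul (f407 C) (f13590 C) _ (by decide +kernel)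

theorem f13592 : C.S (v4 C) [16, 46, 68, 72, 103, 110, 111] :=
  C.stMul (f693 C) (f13591 C) _ (by decide +kernel)

theorem f13593 : C.T (v4 C) [8, 27, 56, 77, 93, 110, 125] (v16 C) [23, 39, 63, 87, 99, 110, 111] :=
  C.conv (f3641 C) (f13592 C) (f13592 C) _ [136, 155, 169, 171, 178] _ (by decide +kernel) (by decide +kernel) (by decide +kernel)

theorem f13594 : C.S (v4 C) [18, 46, 49, 75, 97, 110, 118] :=
  C.stMul (f407 C) (f407 C) _ (by decide +kernel)

theorem f13595 : C.S (v4 C) [16, 43, 64, 82, 90, 110, 123] :=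
  C.stMul (f421 C) (f13594 C) _ (by decide +kernel)

theorem f13596 : C.S (v4 C) [21, 60, 87, 91, 109, 120] :=
  C.stMul (f407 C) (f13595 C) _ (by decide +kernel)

theorem f13597 : C.S (v4 C) [13, 34, 59, 73, 105, 109, 115] :=
  C.stMul (f421 C) (f13596 C) _ (by decide +kernel)

theorem f13598 : C.S (v4 C) [23, 45, 57, 77, 95, 110, 118] :=
  C.stMul (f407 C) (f13594 C) _ (by decide +kernel)

theorem f13599 : C.S (v4 C) [26, 43, 63, 73, 104, 112] :=
  C.stMul (f421 C) (f13598 C) _ (by decide +kernel)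

theorem f13600 : C.S (v4 C) [25, 46, 61, 102, 110, 119] :=
  C.stMul (f407 C) (f13599 C) _ (by decide +kernel)

theorem f13601 : C.S (v4 C) [26, 42, 68, 71, 107, 109, 113] :=
  C.stMul (f407 C) (f13600 C) _ (by decide +kernel)

theorem f13602 : C.T (v4 C) [21, 45, 51, 81, 91, 110, 118] (v18 C) [19, 45, 68, 86, 92, 123] :=
  C.conv (f6881 C) (f13597 C) (f13601 C) _ [129, 167, 174] _ (by decide +kernel) (by decide +kernel) (by decide +kernel)

theorem f13603 : C.T (v18 C) [19, 45, 68, 86, 92, 123] (v4 C) [21, 45, 51, 81, 91, 110, 118] :=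
  C.flip (f13602 C)

theorem f13604 : C.T (v16 C) [28, 49, 70, 95, 121] (v18 C) [6, 28, 63, 86, 91, 110, 111] :=
  C.closeT (p := (v4 C)) (pu := [8, 27, 56, 77, 93, 110, 125])
    (C.pT (f13593 C)
    (C.pH [12, 35, 50, 83] [28, 49, 70, 95, 121] (by decide +kernel) (C.pNil _ _)))
    (C.pH [12, 35, 50, 83] [19, 45, 68, 86, 92, 123] (by decide +kernel)
    (C.pT (f13603 C)
    (C.pH [12, 35, 50, 83] [8, 27, 56, 77, 93, 110, 125] (by decide +kernel) (C.pNil _ _))))
    (C.loop_of_one (relLoop0 C) _ _)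

theorem f13605 : C.T (v18 C) [6, 28, 63, 86, 91, 110, 111] (v16 C) [28, 49, 70, 95, 121] :=
  C.flip (f13604 C)

theorem f13606 : C.T (v4 C) [14, 33, 58, 87, 103, 110, 122] (v16 C) [9, 41, 57, 87, 101, 114] :=
  C.conv (f3641 C) (f13592 C) (f13592 C) _ [148, 149, 166, 176, 177] _ (by decide +kernel) (by decide +kernel) (by decide +kernel)

theorem f13607 : C.S (v4 C) [17, 35, 66, 70, 95] :=
  C.stMul (f421 C) (f407 C) _ (by decide +kernel)

theorem f13608 : C.S (v4 C) [13, 44, 51, 82, 106, 110, 111] :=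
  C.stMul (f407 C) (f13607 C) _ (by decide +kernel)

theorem f13609 : C.S (v4 C) [21, 35, 69, 73, 94, 109, 122] :=
  C.stMul (f421 C) (f13608 C) _ (by decide +kernel)

theorem f13610 : C.T (v4 C) [14, 32, 65, 83, 95, 109, 119] (v18 C) [9, 47, 63, 86, 94, 115] :=
  C.conv (f10219 C) (f421 C) (f13609 C) _ [126, 149, 164, 176, 177] _ (by decide +kernel) (by decide +kernel) (by decide +kernel)

theorem f13611 : C.T (v18 C) [9, 47, 63, 86, 94, 115] (v4 C) [14, 32, 65, 83, 95, 109, 119] :=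
  C.flip (f13610 C)

theorem f13612 : C.T (v16 C) [17, 32, 56, 78, 104, 110, 113] (v18 C) [25, 37, 54, 85, 106, 110, 113] :=
  C.closeT (p := (v4 C)) (pu := [14, 33, 58, 87, 103, 110, 122])
    (C.pT (f13606 C)
    (C.pH [12, 35, 50, 83] [17, 32, 56, 78, 104, 110, 113] (by decide +kernel) (C.pNil _ _)))
    (C.pH [12, 35, 50, 83] [9, 47, 63, 86, 94, 115] (by decide +kernel)
    (C.pT (f13611 C)
    (C.pH [12, 35, 50, 83] [14, 33, 58, 87, 103, 110, 122] (by decide +kernel) (C.pNil _ _))))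
    (C.loop_of_one (relLoop0 C) _ _)

theorem f13613 : C.T (v18 C) [25, 37, 54, 85, 106, 110, 113] (v16 C) [17, 32, 56, 78, 104, 110, 113] :=
  C.flip (f13612 C)

theorem f13614 : C.T (v4 C) [16, 30, 83, 98, 109, 114] (v16 C) [21, 32, 69, 75, 92, 122] :=
  C.conv (f3641 C) (f13592 C) (f13592 C) _ [130, 161, 166, 174, 178] _ (by decide +kernel) (by decide +kernel) (by decide +kernel)

theorem f13615 : C.S (v4 C) [8, 31, 60, 85, 98, 110, 125] :=
  C.stMul (f693 C) (f407 C) _ (by decide +kernel)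

theorem f13616 : C.S (v4 C) [42, 63, 82, 91, 110, 125] :=
  C.stMul (f421 C) (f13615 C) _ (by decide +kernel)

theorem f13617 : C.T (v4 C) [16, 53, 84, 108, 109, 113] (v18 C) [19, 34, 56, 70, 97, 109, 121] :=
  C.conv (f7575 C) (f7630 C) (f13616 C) _ [135, 160, 169, 175] _ (by decide +kernel) (by decide +kernel) (by decide +kernel)

theorem f13618 : C.T (v18 C) [19, 34, 56, 70, 97, 109, 121] (v4 C) [16, 53, 84, 108, 109, 113] :=
  C.flip (f13617 C)

theorem f13619 : C.T (v16 C) [8, 40, 67, 86, 107, 115] (v18 C) [6, 30, 53, 71, 92, 109, 113] :=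
  C.closeT (p := (v4 C)) (pu := [16, 30, 83, 98, 109, 114])
    (C.pT (f13614 C)
    (C.pH [12, 35, 50, 83] [8, 40, 67, 86, 107, 115] (by decide +kernel) (C.pNil _ _)))
    (C.pH [12, 35, 50, 83] [19, 34, 56, 70, 97, 109, 121] (by decide +kernel)
    (C.pT (f13618 C)
    (C.pH [12, 35, 50, 83] [16, 30, 83, 98, 109, 114] (by decide +kernel) (C.pNil _ _))))
    (C.loop_of_one (relLoop0 C) _ _)

theorem f13620 : C.T (v18 C) [6, 30, 53, 71, 92, 109, 113] (v16 C) [8, 40, 67, 86, 107, 115] :=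
  C.flip (f13619 C)

theorem f13621 : C.T (v4 C) [18, 48, 68, 78, 101, 110, 115] (v16 C) [4, 43, 62, 87, 107, 114] :=
  C.conv (f3641 C) (f13592 C) (f13592 C) _ [144, 160, 167, 175] _ (by decide +kernel) (by decide +kernel) (by decide +kernel)

theorem f13622 : C.S (v4 C) [17, 35, 66, 70, 95] :=
  C.stMul (f421 C) (f407 C) _ (by decide +kernel)

theorem f13623 : C.S (v4 C) [13, 44, 51, 82, 106, 110, 111] :=
  C.stMul (f407 C) (f13622 C) _ (by decide +kernel)

theorem f13624 : C.S (v4 C) [21, 35, 69, 73, 94, 109, 122] :=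
  C.stMul (f421 C) (f13623 C) _ (by decide +kernel)

theorem f13625 : C.T (v4 C) [18, 44, 54, 82, 96, 123] (v18 C) [40, 59, 76, 93, 111] :=
  C.conv (f7446 C) (f7469 C) (f13624 C) _ [145, 155, 168, 174, 178] _ (by decide +kernel) (by decide +kernel) (by decide +kernel)

theorem f13626 : C.T (v18 C) [40, 59, 76, 93, 111] (v4 C) [18, 44, 54, 82, 96, 123] :=
  C.flip (f13625 C)

theorem f13627 : C.T (v16 C) [13, 30, 56, 74, 96, 110, 116] (v18 C) [23, 42, 49, 89, 100, 110, 123] :=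
  C.closeT (p := (v4 C)) (pu := [18, 48, 68, 78, 101, 110, 115])
    (C.pT (f13621 C)
    (C.pH [12, 35, 50, 83] [13, 30, 56, 74, 96, 110, 116] (by decide +kernel) (C.pNil _ _)))
    (C.pH [12, 35, 50, 83] [40, 59, 76, 93, 111] (by decide +kernel)
    (C.pT (f13626 C)
    (C.pH [12, 35, 50, 83] [18, 48, 68, 78, 101, 110, 115] (by decide +kernel) (C.pNil _ _))))
    (C.loop_of_one (relLoop0 C) _ _)

theorem f13628 : C.T (v18 C) [23, 42, 49, 89, 100, 110, 123] (v16 C) [13, 30, 56, 74, 96, 110, 116] :=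
  C.flip (f13627 C)

theorem f13629 : C.T (v4 C) [6, 33, 66, 81, 101, 111] (v16 C) [8, 43, 59, 74, 107, 110] :=
  C.conv (f3641 C) (f13592 C) (f13592 C) _ [131, 163, 169, 178] _ (by decide +kernel) (by decide +kernel) (by decide +kernel)

theorem f13630 : C.S (v4 C) [23, 41, 49, 78, 91, 109] :=
  C.stMul (f693 C) (f421 C) _ (by decide +kernel)

theorem f13631 : C.T (v4 C) [24, 39, 53, 73, 104] (v18 C) [13, 43, 59, 72, 100, 109, 117] :=
  C.conv (f8516 C) (f12206 C) (f13630 C) _ [161, 169, 173] _ (by decide +kernel) (by decide +kernel) (by decide +kernel)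

theorem f13632 : C.T (v18 C) [13, 43, 59, 72, 100, 109, 117] (v4 C) [24, 39, 53, 73, 104] :=
  C.flip (f13631 C)

theorem f13633 : C.T (v16 C) [10, 43, 59, 120] (v18 C) [4, 41, 59, 72, 100, 109, 117] :=
  C.closeT (p := (v4 C)) (pu := [6, 33, 66, 81, 101, 111])
    (C.pT (f13629 C)
    (C.pH [12, 35, 50, 83] [10, 43, 59, 120] (by decide +kernel) (C.pNil _ _)))
    (C.pH [12, 35, 50, 83] [13, 43, 59, 72, 100, 109, 117] (by decide +kernel)
    (C.pT (f13632 C)
    (C.pH [12, 35, 50, 83] [6, 33, 66, 81, 101, 111] (by decide +kernel) (C.pNil _ _))))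
    (C.loop_of_one (relLoop0 C) _ _)

theorem f13634 : C.T (v18 C) [4, 41, 59, 72, 100, 109, 117] (v16 C) [10, 43, 59, 120] :=
  C.flip (f13633 C)

theorem f13635 : C.T (v4 C) [8, 44, 49, 73, 90, 111] (v16 C) [9, 44, 66, 79, 90, 117] :=
  C.conv (f3641 C) (f13592 C) (f13592 C) _ [137, 163, 169, 173, 177] _ (by decide +kernel) (by decide +kernel) (by decide +kernel)

theorem f13636 : C.T (v4 C) [21, 39, 66, 105, 120] (v18 C) [15, 39, 51, 81, 94, 111] :=
  C.conv (f7520 C) (f8781 C) (f697 C) _ [142, 153, 168, 171, 178] _ (by decide +kernel) (by decide +kernel) (by decide +kernel)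

theorem f13637 : C.T (v18 C) [15, 39, 51, 81, 94, 111] (v4 C) [21, 39, 66, 105, 120] :=
  C.flip (f13636 C)

theorem f13638 : C.T (v16 C) [17, 38, 51, 84, 105, 109, 122] (v18 C) [15, 41, 67, 75, 108, 112] :=
  C.closeT (p := (v4 C)) (pu := [8, 44, 49, 73, 90, 111])
    (C.pT (f13635 C)
    (C.pH [12, 35, 50, 83] [17, 38, 51, 84, 105, 109, 122] (by decide +kernel) (C.pNil _ _)))
    (C.pH [12, 35, 50, 83] [15, 39, 51, 81, 94, 111] (by decide +kernel)
    (C.pT (f13637 C)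
    (C.pH [12, 35, 50, 83] [8, 44, 49, 73, 90, 111] (by decide +kernel) (C.pNil _ _))))
    (C.loop_of_one (relLoop0 C) _ _)

theorem f13639 : C.T (v18 C) [15, 41, 67, 75, 108, 112] (v16 C) [17, 38, 51, 84, 105, 109, 122] :=
  C.flip (f13638 C)

theorem f13640 : C.T (v4 C) [12, 40, 63, 78, 101, 109, 118] (v16 C) [26, 35, 62, 89, 100, 109, 120] :=
  C.conv (f3641 C) (f13592 C) (f13592 C) _ [129, 165, 174] _ (by decide +kernel) (by decide +kernel) (by decide +kernel)

theorem f13641 : C.S (v4 C) [10, 27, 56, 84, 93, 109, 113] :=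
  C.stMul (f407 C) (f421 C) _ (by decide +kernel)

theorem f13642 : C.S (v4 C) [16, 32, 68, 79, 93, 110, 124] :=
  C.stMul (f407 C) (f13641 C) _ (by decide +kernel)

theorem f13643 : C.T (v4 C) [41, 69, 75, 107, 115] (v18 C) [18, 35, 58, 72, 108, 110, 121] :=
  C.conv (f10219 C) (f421 C) (f13642 C) _ [133, 163, 164, 173] _ (by decide +kernel) (by decide +kernel) (by decide +kernel)

theorem f13644 : C.T (v18 C) [18, 35, 58, 72, 108, 110, 121] (v4 C) [41, 69, 75, 107, 115] :=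
  C.flip (f13643 C)

theorem f13645 : C.T (v16 C) [4, 34, 57, 87, 94, 109, 111] (v18 C) [18, 29, 52, 87, 103, 110, 117] :=
  C.closeT (p := (v4 C)) (pu := [12, 40, 63, 78, 101, 109, 118])
    (C.pT (f13640 C)
    (C.pH [12, 35, 50, 83] [4, 34, 57, 87, 94, 109, 111] (by decide +kernel) (C.pNil _ _)))
    (C.pH [12, 35, 50, 83] [18, 35, 58, 72, 108, 110, 121] (by decide +kernel)
    (C.pT (f13644 C)
    (C.pH [12, 35, 50, 83] [12, 40, 63, 78, 101, 109, 118] (by decide +kernel) (C.pNil _ _))))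
    (C.loop_of_one (relLoop0 C) _ _)

theorem f13646 : C.T (v18 C) [18, 29, 52, 87, 103, 110, 117] (v16 C) [4, 34, 57, 87, 94, 109, 111] :=
  C.flip (f13645 C)

theorem f13647 : C.T (v4 C) [8, 47, 50, 71, 95, 110, 125] (v16 C) [18, 45, 55, 80, 99] :=
  C.conv (f3706 C) (f8301 C) (f8301 C) _ [148, 153, 171, 177] _ (by decide +kernel) (by decide +kernel) (by decide +kernel)

theorem f13648 : C.S (v4 C) [17, 35, 66, 70, 95] :=
  C.stMul (f421 C) (f407 C) _ (by decide +kernel)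

theorem f13649 : C.S (v4 C) [13, 44, 51, 82, 106, 110, 111] :=
  C.stMul (f407 C) (f13648 C) _ (by decide +kernel)

theorem f13650 : C.S (v4 C) [21, 35, 69, 73, 94, 109, 122] :=
  C.stMul (f421 C) (f13649 C) _ (by decide +kernel)

theorem f13651 : C.T (v4 C) [21, 37, 69, 73, 100, 109, 118] (v18 C) [18, 28, 60, 70, 91, 109, 123] :=
  C.conv (f8390 C) (f13475 C) (f13650 C) _ [143, 155, 169, 173] _ (by decide +kernel) (by decide +kernel) (by decide +kernel)

theorem f13652 : C.T (v18 C) [18, 28, 60, 70, 91, 109, 123] (v4 C) [21, 37, 69, 73, 100, 109, 118] :=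
  C.flip (f13651 C)

theorem f13653 : C.T (v16 C) [18, 29, 57, 85, 94, 121] (v18 C) [18, 33, 64, 84, 94, 122] :=
  C.closeT (p := (v4 C)) (pu := [8, 47, 50, 71, 95, 110, 125])
    (C.pT (f13647 C)
    (C.pH [12, 35, 50, 83] [18, 29, 57, 85, 94, 121] (by decide +kernel) (C.pNil _ _)))
    (C.pH [12, 35, 50, 83] [18, 28, 60, 70, 91, 109, 123] (by decide +kernel)
    (C.pT (f13652 C)
    (C.pH [12, 35, 50, 83] [8, 47, 50, 71, 95, 110, 125] (by decide +kernel) (C.pNil _ _))))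
    (C.loop_of_one (relLoop0 C) _ _)

theorem f13654 : C.T (v18 C) [18, 33, 64, 84, 94, 122] (v16 C) [18, 29, 57, 85, 94, 121] :=
  C.flip (f13653 C)

theorem f13655 : C.T (v4 C) [6, 34, 66, 85, 98, 115] (v16 C) [8, 48, 65, 89, 96, 118] :=
  C.conv (f3706 C) (f8301 C) (f8301 C) _ [135, 152, 165, 173, 177] _ (by decide +kernel) (by decide +kernel) (by decide +kernel)

theorem f13656 : C.S (v4 C) [17, 45, 53, 80, 99, 109, 123] :=
  C.stMul (f407 C) (f13576 C) _ (by decide +kernel)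

theorem f13657 : C.T (v4 C) [24, 46, 66, 85, 91, 109] (v18 C) [13, 29, 57, 76, 108, 110] :=
  C.conv (f13468 C) (f13575 C) (f13656 C) _ [127, 163, 169, 172, 178] _ (by decide +kernel) (by decide +kernel) (by decide +kernel)

theorem f13658 : C.T (v18 C) [13, 29, 57, 76, 108, 110] (v4 C) [24, 46, 66, 85, 91, 109] :=
  C.flip (f13657 C)

theorem f13659 : C.T (v16 C) [10, 27, 49, 73, 97, 116] (v18 C) [4, 45, 65, 75, 106, 109, 116] :=
  C.closeT (p := (v4 C)) (pu := [6, 34, 66, 85, 98, 115])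
    (C.pT (f13655 C)
    (C.pH [12, 35, 50, 83] [10, 27, 49, 73, 97, 116] (by decide +kernel) (C.pNil _ _)))
    (C.pH [12, 35, 50, 83] [13, 29, 57, 76, 108, 110] (by decide +kernel)
    (C.pT (f13658 C)
    (C.pH [12, 35, 50, 83] [6, 34, 66, 85, 98, 115] (by decide +kernel) (C.pNil _ _))))
    (C.loop_of_one (relLoop0 C) _ _)

theorem f13660 : C.T (v18 C) [4, 45, 65, 75, 106, 109, 116] (v16 C) [10, 27, 49, 73, 97, 116] :=
  C.flip (f13659 C)

theorem f13661 : C.T (v4 C) [7, 39, 66, 78, 95, 110, 124] (v16 C) [22, 42, 53, 87, 103, 109, 115] :=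
  C.conv (f3935 C) (f4106 C) (f4106 C) _ [132, 154, 166, 175] _ (by decide +kernel) (by decide +kernel) (by decide +kernel)

theorem f13662 : C.S (v4 C) [16, 43, 64, 82, 90, 110, 123] :=
  C.stMul (f421 C) (f12042 C) _ (by decide +kernel)

theorem f13663 : C.S (v4 C) [21, 60, 87, 91, 109, 120] :=
  C.stMul (f407 C) (f13662 C) _ (by decide +kernel)

theorem f13664 : C.T (v4 C) [7, 44, 53, 84, 108, 113] (v18 C) [8, 37, 55, 84, 92, 110, 117] :=
  C.conv (f10188 C) (f12045 C) (f13663 C) _ [142, 160, 165, 171] _ (by decide +kernel) (by decide +kernel) (by decide +kernel)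

theorem f13665 : C.T (v18 C) [8, 37, 55, 84, 92, 110, 117] (v4 C) [7, 44, 53, 84, 108, 113] :=
  C.flip (f13664 C)

theorem f13666 : C.T (v16 C) [11, 34, 53, 72, 105, 109, 112] (v18 C) [21, 34, 56, 84, 101, 109, 120] :=
  C.closeT (p := (v4 C)) (pu := [7, 39, 66, 78, 95, 110, 124])
    (C.pT (f13661 C)
    (C.pH [12, 35, 50, 83] [11, 34, 53, 72, 105, 109, 112] (by decide +kernel) (C.pNil _ _)))
    (C.pH [12, 35, 50, 83] [8, 37, 55, 84, 92, 110, 117] (by decide +kernel)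
    (C.pT (f13665 C)
    (C.pH [12, 35, 50, 83] [7, 39, 66, 78, 95, 110, 124] (by decide +kernel) (C.pNil _ _))))
    (C.loop_of_one (relLoop0 C) _ _)

theorem f13667 : C.T (v18 C) [21, 34, 56, 84, 101, 109, 120] (v16 C) [11, 34, 53, 72, 105, 109, 112] :=
  C.flip (f13666 C)

theorem f13668 : C.T (v4 C) [5, 37, 54, 72, 100, 122] (v16 C) [6, 33, 69, 80, 100, 110, 113] :=
  C.conv (f4074 C) (f8908 C) (f8908 C) _ [133, 151, 169, 171] _ (by decide +kernel) (by decide +kernel) (by decide +kernel)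

theorem f13669 : C.S (v4 C) [18, 46, 49, 75, 97, 110, 118] :=
  C.stMul (f407 C) (f407 C) _ (by decide +kernel)

theorem f13670 : C.S (v4 C) [16, 43, 64, 82, 90, 110, 123] :=
  C.stMul (f421 C) (f13669 C) _ (by decide +kernel)

theorem f13671 : C.T (v4 C) [5, 35, 62, 82, 108, 119] (v18 C) [10, 35, 54, 84, 107, 110, 125] :=
  C.conv (f7860 C) (f693 C) (f13670 C) _ [136, 161, 171] _ (by decide +kernel) (by decide +kernel) (by decide +kernel)

theorem f13672 : C.T (v18 C) [10, 35, 54, 84, 107, 110, 125] (v4 C) [5, 35, 62, 82, 108, 119] :=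
  C.flip (f13671 C)

theorem f13673 : C.T (v16 C) [19, 31, 56, 77, 105, 113] (v18 C) [8, 63, 72, 90, 110, 111] :=
  C.closeT (p := (v4 C)) (pu := [5, 37, 54, 72, 100, 122])
    (C.pT (f13668 C)
    (C.pH [12, 35, 50, 83] [19, 31, 56, 77, 105, 113] (by decide +kernel) (C.pNil _ _)))
    (C.pH [12, 35, 50, 83] [10, 35, 54, 84, 107, 110, 125] (by decide +kernel)
    (C.pT (f13672 C)
    (C.pH [12, 35, 50, 83] [5, 37, 54, 72, 100, 122] (by decide +kernel) (C.pNil _ _))))
    (C.loop_of_one (relLoop0 C) _ _)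

theorem f13674 : C.T (v18 C) [8, 63, 72, 90, 110, 111] (v16 C) [19, 31, 56, 77, 105, 113] :=
  C.flip (f13673 C)

theorem f13675 : C.T (v4 C) [25, 68, 74, 90, 109, 125] (v16 C) [7, 32, 57, 83, 101, 110, 118] :=
  C.conv (f4074 C) (f8908 C) (f8908 C) _ [138, 153, 169, 173] _ (by decide +kernel) (by decide +kernel) (by decide +kernel)

theorem f13676 : C.T (v4 C) [17, 48, 68, 74, 90, 109, 125] (v18 C) [4, 32, 66, 71, 94, 118] :=
  C.conv (f7487 C) (f8474 C) (f421 C) _ [140, 160, 166, 172, 177] _ (by decide +kernel) (by decide +kernel) (by decide +kernel)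

theorem f13677 : C.T (v18 C) [4, 32, 66, 71, 94, 118] (v4 C) [17, 48, 68, 74, 90, 109, 125] :=
  C.flip (f13676 C)

theorem f13678 : C.T (v16 C) [7, 29, 65, 89, 116] (v18 C) [26, 29, 66, 88, 99, 109, 115] :=
  C.closeT (p := (v4 C)) (pu := [25, 68, 74, 90, 109, 125])
    (C.pT (f13675 C)
    (C.pH [12, 35, 50, 83] [7, 29, 65, 89, 116] (by decide +kernel) (C.pNil _ _)))
    (C.pH [12, 35, 50, 83] [4, 32, 66, 71, 94, 118] (by decide +kernel)
    (C.pT (f13677 C)
    (C.pH [12, 35, 50, 83] [25, 68, 74, 90, 109, 125] (by decide +kernel) (C.pNil _ _))))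
    (C.loop_of_one (relLoop0 C) _ _)

theorem f13679 : C.T (v18 C) [26, 29, 66, 88, 99, 109, 115] (v16 C) [7, 29, 65, 89, 116] :=
  C.flip (f13678 C)

theorem f13680 : C.T (v4 C) [26, 34, 58, 89, 96, 110, 122] (v16 C) [13, 40, 69, 81, 100, 117] :=
  C.conv (f4074 C) (f8908 C) (f8908 C) _ [134, 151, 169, 171] _ (by decide +kernel) (by decide +kernel) (by decide +kernel)

theorem f13681 : C.S (v4 C) [23, 45, 57, 77, 95, 110, 118] :=
  C.stMul (f407 C) (f8276 C) _ (by decide +kernel)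

theorem f13682 : C.S (v4 C) [26, 43, 63, 73, 104, 112] :=
  C.stMul (f421 C) (f13681 C) _ (by decide +kernel)

theorem f13683 : C.S (v4 C) [25, 46, 61, 102, 110, 119] :=
  C.stMul (f407 C) (f13682 C) _ (by decide +kernel)

theorem f13684 : C.T (v4 C) [13, 45, 69, 81, 96, 109, 118] (v18 C) [13, 29, 61, 74, 105, 115] :=
  C.conv (f8246 C) (f8275 C) (f13683 C) _ [132, 162, 164, 175] _ (by decide +kernel) (by decide +kernel) (by decide +kernel)

theorem f13685 : C.T (v18 C) [13, 29, 61, 74, 105, 115] (v4 C) [13, 45, 69, 81, 96, 109, 118] :=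
  C.flip (f13684 C)

theorem f13686 : C.T (v16 C) [26, 46, 68, 83, 103, 116] (v18 C) [4, 45, 57, 79, 116] :=
  C.closeT (p := (v4 C)) (pu := [26, 34, 58, 89, 96, 110, 122])
    (C.pT (f13680 C)
    (C.pH [12, 35, 50, 83] [26, 46, 68, 83, 103, 116] (by decide +kernel) (C.pNil _ _)))
    (C.pH [12, 35, 50, 83] [13, 29, 61, 74, 105, 115] (by decide +kernel)
    (C.pT (f13685 C)
    (C.pH [12, 35, 50, 83] [26, 34, 58, 89, 96, 110, 122] (by decide +kernel) (C.pNil _ _))))
    (C.loop_of_one (relLoop0 C) _ _)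

theorem f13687 : C.T (v18 C) [4, 45, 57, 79, 116] (v16 C) [26, 46, 68, 83, 103, 116] :=
  C.flip (f13686 C)

theorem f13688 : C.S (v4 C) [10, 27, 56, 84, 93, 109, 113] :=
  C.stMul (f407 C) (f421 C) _ (by decide +kernel)

theorem f13689 : C.S (v4 C) [16, 32, 68, 79, 93, 110, 124] :=
  C.stMul (f407 C) (f13688 C) _ (by decide +kernel)

theorem f13690 : C.T (v4 C) [10, 41, 60, 85, 91, 109, 124] (v17 C) [9, 35, 53, 87, 104, 117] :=
  C.conv (f4648 C) (f13689 C) (f13689 C) _ [148, 157, 169, 174, 177] _ (by decide +kernel) (by decide +kernel) (by decide +kernel)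

theorem f13691 : C.S (v4 C) [10, 27, 56, 84, 93, 109, 113] :=
  C.stMul (f407 C) (f421 C) _ (by decide +kernel)

theorem f13692 : C.S (v4 C) [16, 32, 68, 79, 93, 110, 124] :=
  C.stMul (f407 C) (f13691 C) _ (by decide +kernel)

theorem f13693 : C.S (v4 C) [18, 44, 51, 79, 106, 114] :=
  C.stMul (f421 C) (f13692 C) _ (by decide +kernel)

theorem f13694 : C.S (v4 C) [23, 52, 80, 95, 123] :=
  C.stMul (f407 C) (f13693 C) _ (by decide +kernel)

theorem f13695 : C.S (v4 C) [17, 35, 66, 70, 95] :=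
  C.stMul (f421 C) (f407 C) _ (by decide +kernel)

theorem f13696 : C.S (v4 C) [26, 44, 64, 94, 121] :=
  C.stMul (f693 C) (f13695 C) _ (by decide +kernel)

theorem f13697 : C.S (v4 C) [23, 27, 56, 70, 98, 125] :=
  C.stMul (f421 C) (f13696 C) _ (by decide +kernel)

theorem f13698 : C.S (v4 C) [33, 61, 77, 108, 110, 112] :=
  C.stMul (f407 C) (f13697 C) _ (by decide +kernel)

theorem f13699 : C.T (v4 C) [8, 31, 60, 86, 91, 122] (v18 C) [12, 48, 63, 89, 101, 110, 118] :=
  C.conv (f11160 C) (f13694 C) (f13698 C) _ [131, 153, 165, 171, 177] _ (by decide +kernel) (by decide +kernel) (by decide +kernel)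

theorem f13700 : C.T (v18 C) [12, 48, 63, 89, 101, 110, 118] (v4 C) [8, 31, 60, 86, 91, 122] :=
  C.flip (f13699 C)

theorem f13701 : C.T (v17 C) [17, 33, 64, 73, 110, 125] (v18 C) [45, 49, 73, 94, 110, 119] :=
  C.closeT (p := (v4 C)) (pu := [10, 41, 60, 85, 91, 109, 124])
    (C.pT (f13690 C)
    (C.pH [12, 35, 50, 83] [17, 33, 64, 73, 110, 125] (by decide +kernel) (C.pNil _ _)))
    (C.pH [12, 35, 50, 83] [12, 48, 63, 89, 101, 110, 118] (by decide +kernel)
    (C.pT (f13700 C)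
    (C.pH [12, 35, 50, 83] [10, 41, 60, 85, 91, 109, 124] (by decide +kernel) (C.pNil _ _))))
    (C.loop_of_one (relLoop0 C) _ _)

theorem f13702 : C.T (v18 C) [45, 49, 73, 94, 110, 119] (v17 C) [17, 33, 64, 73, 110, 125] :=
  C.flip (f13701 C)

theorem f13703 : C.S (v4 C) [18, 46, 49, 75, 97, 110, 118] :=
  C.stMul (f407 C) (f407 C) _ (by decide +kernel)

theorem f13704 : C.T (v4 C) [26, 34, 50, 81, 101, 110, 112] (v17 C) [19, 34, 58, 74, 95, 110, 120] :=
  C.conv (f4958 C) (f13703 C) (f13703 C) _ [139, 151, 166, 172] _ (by decide +kernel) (by decide +kernel) (by decide +kernel)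

theorem f13705 : C.S (v4 C) [23, 45, 57, 77, 95, 110, 118] :=
  C.stMul (f407 C) (f9180 C) _ (by decide +kernel)

theorem f13706 : C.S (v4 C) [26, 43, 63, 73, 104, 112] :=
  C.stMul (f421 C) (f13705 C) _ (by decide +kernel)

theorem f13707 : C.S (v4 C) [25, 46, 61, 102, 110, 119] :=
  C.stMul (f407 C) (f13706 C) _ (by decide +kernel)

theorem f13708 : C.T (v4 C) [13, 45, 55, 87, 100, 112] (v18 C) [13, 31, 67, 73, 105, 109, 125] :=
  C.conv (f8441 C) (f421 C) (f13707 C) _ [146, 149, 165, 172, 178] _ (by decide +kernel) (by decide +kernel) (by decide +kernel)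

theorem f13709 : C.T (v18 C) [13, 31, 67, 73, 105, 109, 125] (v4 C) [13, 45, 55, 87, 100, 112] :=
  C.flip (f13708 C)

theorem f13710 : C.T (v17 C) [24, 42, 68, 74, 90, 110, 124] (v18 C) [4, 42, 54, 80, 104, 109, 116] :=
  C.closeT (p := (v4 C)) (pu := [26, 34, 50, 81, 101, 110, 112])
    (C.pT (f13704 C)
    (C.pH [12, 35, 50, 83] [24, 42, 68, 74, 90, 110, 124] (by decide +kernel) (C.pNil _ _)))
    (C.pH [12, 35, 50, 83] [13, 31, 67, 73, 105, 109, 125] (by decide +kernel)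
    (C.pT (f13709 C)
    (C.pH [12, 35, 50, 83] [26, 34, 50, 81, 101, 110, 112] (by decide +kernel) (C.pNil _ _))))
    (C.loop_of_one (relLoop0 C) _ _)

theorem f13711 : C.T (v18 C) [4, 42, 54, 80, 104, 109, 116] (v17 C) [24, 42, 68, 74, 90, 110, 124] :=
  C.flip (f13710 C)

theorem f13712 : C.T (v4 C) [20, 37, 62, 79, 92, 109, 120] (v17 C) [11, 47, 54, 70, 95, 119] :=
  C.conv (f4958 C) (f13703 C) (f13703 C) _ [140, 158, 168, 174, 177] _ (by decide +kernel) (by decide +kernel) (by decide +kernel)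

theorem f13713 : C.S (v4 C) [8, 31, 60, 85, 98, 110, 125] :=
  C.stMul (f693 C) (f407 C) _ (by decide +kernel)

theorem f13714 : C.S (v4 C) [42, 63, 82, 91, 110, 125] :=
  C.stMul (f421 C) (f13713 C) _ (by decide +kernel)

theorem f13715 : C.T (v4 C) [11, 35, 56, 88, 102, 109, 119] (v18 C) [12, 30, 66, 77, 103, 110, 111] :=
  C.conv (f7143 C) (f8330 C) (f13714 C) _ [134, 168, 176, 178] _ (by decide +kernel) (by decide +kernel) (by decide +kernel)

theorem f13716 : C.T (v18 C) [12, 30, 66, 77, 103, 110, 111] (v4 C) [11, 35, 56, 88, 102, 109, 119] :=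
  C.flip (f13715 C)

theorem f13717 : C.T (v17 C) [20, 31, 61, 78, 102, 110, 111] (v18 C) [44, 52, 94, 110, 123] :=
  C.closeT (p := (v4 C)) (pu := [20, 37, 62, 79, 92, 109, 120])
    (C.pT (f13712 C)
    (C.pH [12, 35, 50, 83] [20, 31, 61, 78, 102, 110, 111] (by decide +kernel) (C.pNil _ _)))
    (C.pH [12, 35, 50, 83] [12, 30, 66, 77, 103, 110, 111] (by decide +kernel)
    (C.pT (f13716 C)
    (C.pH [12, 35, 50, 83] [20, 37, 62, 79, 92, 109, 120] (by decide +kernel) (C.pNil _ _))))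
    (C.loop_of_one (relLoop0 C) _ _)

theorem f13718 : C.T (v18 C) [44, 52, 94, 110, 123] (v17 C) [20, 31, 61, 78, 102, 110, 111] :=
  C.flip (f13717 C)

theorem f13719 : C.T (v4 C) [23, 28, 63, 83, 90, 125] (v17 C) [20, 30, 67, 88, 101, 111] :=
  C.conv (f4958 C) (f13703 C) (f13703 C) _ [133, 150, 169] _ (by decide +kernel) (by decide +kernel) (by decide +kernel)

theorem f13720 : C.T (v4 C) [12, 55, 81, 100, 110, 117] (v18 C) [20, 28, 64, 86, 107, 112] :=
  C.conv (f8315 C) (f8537 C) (f697 C) _ [137, 152, 171] _ (by decide +kernel) (by decide +kernel) (by decide +kernel)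

theorem f13721 : C.T (v18 C) [20, 28, 64, 86, 107, 112] (v4 C) [12, 55, 81, 100, 110, 117] :=
  C.flip (f13720 C)

theorem f13722 : C.T (v17 C) [22, 44, 63, 70, 98, 110, 120] (v18 C) [11, 41, 52, 86, 102, 109, 116] :=
  C.closeT (p := (v4 C)) (pu := [23, 28, 63, 83, 90, 125])
    (C.pT (f13719 C)
    (C.pH [12, 35, 50, 83] [22, 44, 63, 70, 98, 110, 120] (by decide +kernel) (C.pNil _ _)))
    (C.pH [12, 35, 50, 83] [20, 28, 64, 86, 107, 112] (by decide +kernel)
    (C.pT (f13721 C)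
    (C.pH [12, 35, 50, 83] [23, 28, 63, 83, 90, 125] (by decide +kernel) (C.pNil _ _))))
    (C.loop_of_one (relLoop0 C) _ _)

theorem f13723 : C.T (v18 C) [11, 41, 52, 86, 102, 109, 116] (v17 C) [22, 44, 63, 70, 98, 110, 120] :=
  C.flip (f13722 C)

theorem f13724 : C.S (v4 C) [18, 46, 49, 75, 97, 110, 118] :=
  C.stMul (f407 C) (f407 C) _ (by decide +kernel)

theorem f13725 : C.S (v4 C) [23, 45, 57, 77, 95, 110, 118] :=
  C.stMul (f407 C) (f13724 C) _ (by decide +kernel)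

theorem f13726 : C.S (v4 C) [26, 43, 63, 73, 104, 112] :=
  C.stMul (f421 C) (f13725 C) _ (by decide +kernel)

theorem f13727 : C.T (v4 C) [6, 44, 58, 82, 107, 110, 123] (v17 C) [21, 45, 51, 87, 95, 110, 125] :=
  C.conv (f5213 C) (f13726 C) (f13726 C) _ [144, 160, 168, 176, 178] _ (by decide +kernel) (by decide +kernel) (by decide +kernel)

theorem f13728 : C.S (v4 C) [16, 32, 68, 79, 93, 110, 124] :=
  C.stMul (f407 C) (f8649 C) _ (by decide +kernel)

theorem f13729 : C.S (v4 C) [18, 44, 51, 79, 106, 114] :=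
  C.stMul (f421 C) (f13728 C) _ (by decide +kernel)

theorem f13730 : C.S (v4 C) [10, 44, 68, 74, 91, 110, 116] :=
  C.stMul (f693 C) (f13729 C) _ (by decide +kernel)

theorem f13731 : C.T (v4 C) [24, 34, 56, 84, 91, 111] (v18 C) [22, 43, 51, 87, 108, 109, 113] :=
  C.conv (f8441 C) (f421 C) (f13730 C) _ [129, 158, 166, 174, 178] _ (by decide +kernel) (by decide +kernel) (by decide +kernel)

theorem f13732 : C.T (v18 C) [22, 43, 51, 87, 108, 109, 113] (v4 C) [24, 34, 56, 84, 91, 111] :=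
  C.flip (f13731 C)

theorem f13733 : C.T (v17 C) [8, 27, 56, 100, 115] (v18 C) [20, 43, 65, 87, 101, 109, 112] :=
  C.closeT (p := (v4 C)) (pu := [6, 44, 58, 82, 107, 110, 123])
    (C.pT (f13727 C)
    (C.pH [12, 35, 50, 83] [8, 27, 56, 100, 115] (by decide +kernel) (C.pNil _ _)))
    (C.pH [12, 35, 50, 83] [22, 43, 51, 87, 108, 109, 113] (by decide +kernel)
    (C.pT (f13732 C)
    (C.pH [12, 35, 50, 83] [6, 44, 58, 82, 107, 110, 123] (by decide +kernel) (C.pNil _ _))))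
    (C.loop_of_one (relLoop0 C) _ _)

theorem f13734 : C.T (v18 C) [20, 43, 65, 87, 101, 109, 112] (v17 C) [8, 27, 56, 100, 115] :=
  C.flip (f13733 C)

theorem f13735 : C.T (v4 C) [10, 41, 53, 82, 91, 122] (v17 C) [4, 29, 59, 73, 96, 109, 123] :=
  C.conv (f5213 C) (f13726 C) (f13726 C) _ [140, 152, 170, 175, 178] _ (by decide +kernel) (by decide +kernel) (by decide +kernel)

theorem f13736 : C.S (v4 C) [10, 42, 56, 80, 93, 109, 122] :=
  C.stMul (f693 C) (f12207 C) _ (by decide +kernel)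

theorem f13737 : C.T (v4 C) [8, 31, 61, 72, 104, 116] (v18 C) [11, 64, 78, 93, 120] :=
  C.conv (f8516 C) (f12206 C) (f13736 C) _ [126, 157, 166, 174, 178] _ (by decide +kernel) (by decide +kernel) (by decide +kernel)

theorem f13738 : C.T (v18 C) [11, 64, 78, 93, 120] (v4 C) [8, 31, 61, 72, 104, 116] :=
  C.flip (f13737 C)

theorem f13739 : C.T (v17 C) [13, 35, 49, 89, 96, 110, 112] (v18 C) [22, 51, 81, 103, 110, 123] :=
  C.closeT (p := (v4 C)) (pu := [10, 41, 53, 82, 91, 122])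
    (C.pT (f13735 C)
    (C.pH [12, 35, 50, 83] [13, 35, 49, 89, 96, 110, 112] (by decide +kernel) (C.pNil _ _)))
    (C.pH [12, 35, 50, 83] [11, 64, 78, 93, 120] (by decide +kernel)
    (C.pT (f13738 C)
    (C.pH [12, 35, 50, 83] [10, 41, 53, 82, 91, 122] (by decide +kernel) (C.pNil _ _))))
    (C.loop_of_one (relLoop0 C) _ _)

theorem f13740 : C.T (v18 C) [22, 51, 81, 103, 110, 123] (v17 C) [13, 35, 49, 89, 96, 110, 112] :=
  C.flip (f13739 C)

theorem f13741 : C.T (v4 C) [8, 31, 60, 73, 95, 110, 112] (v17 C) [7, 42, 69, 72, 98, 111] :=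
  C.conv (f5350 C) (f12155 C) (f12155 C) _ [137, 149, 166, 172] _ (by decide +kernel) (by decide +kernel) (by decide +kernel)

theorem f13742 : C.S (v4 C) [23, 41, 49, 78, 91, 109] :=
  C.stMul (f693 C) (f421 C) _ (by decide +kernel)

theorem f13743 : C.S (v4 C) [26, 36, 62, 77, 94, 121] :=
  C.stMul (f421 C) (f13742 C) _ (by decide +kernel)

theorem f13744 : C.T (v4 C) [21, 46, 67, 70, 90, 113] (v18 C) [19, 27, 63, 72, 102, 122] :=
  C.conv (f10188 C) (f12045 C) (f13743 C) _ [132, 158, 167, 174, 178] _ (by decide +kernel) (by decide +kernel) (by decide +kernel)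

theorem f13745 : C.T (v18 C) [19, 27, 63, 72, 102, 122] (v4 C) [21, 46, 67, 70, 90, 113] :=
  C.flip (f13744 C)

theorem f13746 : C.T (v17 C) [7, 33, 49, 89, 110, 120] (v18 C) [6, 35, 51, 77, 121] :=
  C.closeT (p := (v4 C)) (pu := [8, 31, 60, 73, 95, 110, 112])
    (C.pT (f13741 C)
    (C.pH [12, 35, 50, 83] [7, 33, 49, 89, 110, 120] (by decide +kernel) (C.pNil _ _)))
    (C.pH [12, 35, 50, 83] [19, 27, 63, 72, 102, 122] (by decide +kernel)
    (C.pT (f13745 C)
    (C.pH [12, 35, 50, 83] [8, 31, 60, 73, 95, 110, 112] (by decide +kernel) (C.pNil _ _))))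
    (C.loop_of_one (relLoop0 C) _ _)

theorem f13747 : C.T (v18 C) [6, 35, 51, 77, 121] (v17 C) [7, 33, 49, 89, 110, 120] :=
  C.flip (f13746 C)

theorem f13748 : C.T (v4 C) [33, 61, 76, 91, 109, 123] (v17 C) [8, 35, 59, 78, 101, 110, 115] :=
  C.conv (f5350 C) (f12155 C) (f12155 C) _ [144, 154, 167, 171, 177] _ (by decide +kernel) (by decide +kernel) (by decide +kernel)

theorem f13749 : C.S (v4 C) [23, 45, 57, 77, 95, 110, 118] :=
  C.stMul (f407 C) (f10275 C) _ (by decide +kernel)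

theorem f13750 : C.S (v4 C) [16, 46, 68, 72, 103, 110, 111] :=
  C.stMul (f693 C) (f13749 C) _ (by decide +kernel)

theorem f13751 : C.S (v4 C) [18, 31, 55, 83, 101, 117] :=
  C.stMul (f421 C) (f13750 C) _ (by decide +kernel)

theorem f13752 : C.T (v4 C) [23, 41, 65, 83, 105, 109, 121] (v18 C) [15, 46, 65, 76, 108, 111] :=
  C.conv (f8297 C) (f10274 C) (f13751 C) _ [155, 167, 172] _ (by decide +kernel) (by decide +kernel) (by decide +kernel)

theorem f13753 : C.T (v18 C) [15, 46, 65, 76, 108, 111] (v4 C) [23, 41, 65, 83, 105, 109, 121] :=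
  C.flip (f13752 C)

theorem f13754 : C.T (v17 C) [10, 38, 58, 82, 103, 109, 124] (v18 C) [15, 46, 51, 81, 101, 109, 113] :=
  C.closeT (p := (v4 C)) (pu := [33, 61, 76, 91, 109, 123])
    (C.pT (f13748 C)
    (C.pH [12, 35, 50, 83] [10, 38, 58, 82, 103, 109, 124] (by decide +kernel) (C.pNil _ _)))
    (C.pH [12, 35, 50, 83] [15, 46, 65, 76, 108, 111] (by decide +kernel)
    (C.pT (f13753 C)
    (C.pH [12, 35, 50, 83] [33, 61, 76, 91, 109, 123] (by decide +kernel) (C.pNil _ _))))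
    (C.loop_of_one (relLoop0 C) _ _)

theorem f13755 : C.T (v18 C) [15, 46, 51, 81, 101, 109, 113] (v17 C) [10, 38, 58, 82, 103, 109, 124] :=
  C.flip (f13754 C)

theorem f13756 : C.T (v4 C) [4, 36, 54, 74, 90, 110, 116] (v17 C) [12, 32, 52, 99, 119] :=
  C.conv (f5350 C) (f12155 C) (f12155 C) _ [128, 155, 167, 174, 177] _ (by decide +kernel) (by decide +kernel) (by decide +kernel)

theorem f13757 : C.T (v4 C) [26, 44, 59, 78, 95] (v18 C) [16, 32, 49, 84, 100, 118] :=
  C.conv (f13468 C) (f13575 C) (f13576 C) _ [131, 152, 176, 178] _ (by decide +kernel) (by decide +kernel) (by decide +kernel)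

theorem f13758 : C.T (v18 C) [16, 32, 49, 84, 100, 118] (v4 C) [26, 44, 59, 78, 95] :=
  C.flip (f13757 C)

theorem f13759 : C.T (v17 C) [23, 42, 50, 81, 106, 110, 113] (v18 C) [16, 43, 63, 78, 107, 109, 113] :=
  C.closeT (p := (v4 C)) (pu := [4, 36, 54, 74, 90, 110, 116])
    (C.pT (f13756 C)
    (C.pH [12, 35, 50, 83] [23, 42, 50, 81, 106, 110, 113] (by decide +kernel) (C.pNil _ _)))
    (C.pH [12, 35, 50, 83] [16, 32, 49, 84, 100, 118] (by decide +kernel)
    (C.pT (f13758 C)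
    (C.pH [12, 35, 50, 83] [4, 36, 54, 74, 90, 110, 116] (by decide +kernel) (C.pNil _ _))))
    (C.loop_of_one (relLoop0 C) _ _)

theorem f13760 : C.T (v18 C) [16, 43, 63, 78, 107, 109, 113] (v17 C) [23, 42, 50, 81, 106, 110, 113] :=
  C.flip (f13759 C)

theorem f13761 : C.T (v4 C) [9, 30, 54, 89, 95, 109, 124] (v17 C) [11, 31, 63, 78, 108, 120] :=
  C.conv (f5526 C) (f407 C) (f407 C) _ [132, 151, 165, 176, 177] _ (by decide +kernel) (by decide +kernel) (by decide +kernel)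

theorem f13762 : C.S (v4 C) [10, 27, 56, 84, 93, 109, 113] :=
  C.stMul (f407 C) (f421 C) _ (by decide +kernel)

theorem f13763 : C.S (v4 C) [16, 32, 68, 79, 93, 110, 124] :=
  C.stMul (f407 C) (f13762 C) _ (by decide +kernel)

theorem f13764 : C.S (v4 C) [18, 44, 51, 79, 106, 114] :=
  C.stMul (f421 C) (f13763 C) _ (by decide +kernel)

theorem f13765 : C.S (v4 C) [10, 44, 68, 74, 91, 110, 116] :=
  C.stMul (f693 C) (f13764 C) _ (by decide +kernel)

theorem f13766 : C.T (v4 C) [25, 39, 58, 76, 103, 118] (v18 C) [16, 39, 49, 83, 106, 109, 121] :=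
  C.conv (f13468 C) (f13575 C) (f13765 C) _ [133, 149, 166, 176, 177] _ (by decide +kernel) (by decide +kernel) (by decide +kernel)

theorem f13767 : C.T (v18 C) [16, 39, 49, 83, 106, 109, 121] (v4 C) [25, 39, 58, 76, 103, 118] :=
  C.flip (f13766 C)

theorem f13768 : C.T (v17 C) [20, 41, 82, 110, 124] (v18 C) [16, 39, 64, 89, 95, 118] :=
  C.closeT (p := (v4 C)) (pu := [9, 30, 54, 89, 95, 109, 124])
    (C.pT (f13761 C)
    (C.pH [12, 35, 50, 83] [20, 41, 82, 110, 124] (by decide +kernel) (C.pNil _ _)))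
    (C.pH [12, 35, 50, 83] [16, 39, 49, 83, 106, 109, 121] (by decide +kernel)
    (C.pT (f13767 C)
    (C.pH [12, 35, 50, 83] [9, 30, 54, 89, 95, 109, 124] (by decide +kernel) (C.pNil _ _))))
    (C.loop_of_one (relLoop0 C) _ _)

theorem f13769 : C.T (v18 C) [16, 39, 64, 89, 95, 118] (v17 C) [20, 41, 82, 110, 124] :=
  C.flip (f13768 C)

theorem f13770 : C.T (v4 C) [17, 39, 63, 70, 105, 109, 114] (v17 C) [20, 29, 69, 75, 93, 109, 115] :=
  C.conv (f5526 C) (f407 C) (f407 C) _ [130, 157, 166, 178] _ (by decide +kernel) (by decide +kernel) (by decide +kernel)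

theorem f13771 : C.T (v4 C) [9, 45, 58, 80, 107, 109, 119] (v18 C) [15, 39, 56, 88, 105, 124] :=
  C.conv (f13468 C) (f13575 C) (f693 C) _ [134, 157, 168, 178] _ (by decide +kernel) (by decide +kernel) (by decide +kernel)

theorem f13772 : C.T (v18 C) [15, 39, 56, 88, 105, 124] (v4 C) [9, 45, 58, 80, 107, 109, 119] :=
  C.flip (f13771 C)

theorem f13773 : C.T (v17 C) [22, 35, 64, 71, 91, 111] (v18 C) [15, 41, 61, 74, 100, 110, 121] :=
  C.closeT (p := (v4 C)) (pu := [17, 39, 63, 70, 105, 109, 114])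
    (C.pT (f13770 C)
    (C.pH [12, 35, 50, 83] [22, 35, 64, 71, 91, 111] (by decide +kernel) (C.pNil _ _)))
    (C.pH [12, 35, 50, 83] [15, 39, 56, 88, 105, 124] (by decide +kernel)
    (C.pT (f13772 C)
    (C.pH [12, 35, 50, 83] [17, 39, 63, 70, 105, 109, 114] (by decide +kernel) (C.pNil _ _))))
    (C.loop_of_one (relLoop0 C) _ _)

theorem f13774 : C.T (v18 C) [15, 41, 61, 74, 100, 110, 121] (v17 C) [22, 35, 64, 71, 91, 111] :=
  C.flip (f13773 C)

theorem f13775 : C.T (v4 C) [15, 41, 49, 85, 95, 123] (v17 C) [10, 27, 86, 99, 109, 112] :=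
  C.conv (f5790 C) (f407 C) (f407 C) _ [142, 156, 164, 174, 177] _ (by decide +kernel) (by decide +kernel) (by decide +kernel)

theorem f13776 : C.T (v4 C) [15, 36, 50, 81, 92, 109, 115] (v18 C) [16, 38, 65, 85, 92, 110] :=
  C.conv (f6863 C) (f8698 C) (f693 C) _ [144, 160, 168, 175, 177] _ (by decide +kernel) (by decide +kernel) (by decide +kernel)

end CfsgLib.J4Index
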