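import Cfsg.Agent.Lib.J4Index.Facts13

/-!
# Derived equations (generated)
-/

set_option autoImplicit false
set_option maxRecDepth 100000
set_option linter.style.longLine false

namespace CfsgLib.J4Index

variable {G X : Type} [Group G] [MulAction G X] (C : Ctx G X)

theorem f13777 : C.T (v18 C) [16, 38, 65, 85, 92, 110] (v4 C) [15, 36, 50, 81, 92, 109, 115] :=
  C.flip (f13776 C)

theorem f13778 : C.T (v17 C) [21, 27, 49, 78, 92, 125] (v18 C) [16, 29, 54, 85, 108, 114] :=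
  C.closeT (p := (v4 C)) (pu := [15, 41, 49, 85, 95, 123])
    (C.pT (f13775 C)
    (C.pH [12, 35, 50, 83] [21, 27, 49, 78, 92, 125] (by decide +kernel) (C.pNil _ _)))
    (C.pH [12, 35, 50, 83] [16, 38, 65, 85, 92, 110] (by decide +kernel)
    (C.pT (f13777 C)
    (C.pH [12, 35, 50, 83] [15, 41, 49, 85, 95, 123] (by decide +kernel) (C.pNil _ _))))
    (C.loop_of_one (relLoop0 C) _ _)

theorem f13779 : C.T (v18 C) [16, 29, 54, 85, 108, 114] (v17 C) [21, 27, 49, 78, 92, 125] :=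
  C.flip (f13778 C)

theorem f13780 : C.T (v4 C) [21, 37, 58, 78, 96, 113] (v17 C) [8, 27, 54, 76, 94, 109, 119] :=
  C.conv (f5838 C) (f8414 C) (f8414 C) _ [136, 150, 170, 174] _ (by decide +kernel) (by decide +kernel) (by decide +kernel)

theorem f13781 : C.T (v4 C) [10, 56, 88, 96, 114] (v18 C) [18, 41, 68, 71, 98, 109, 119] :=
  C.conv (f10188 C) (f12045 C) (f12047 C) _ [143, 154, 170, 171, 177] _ (by decide +kernel) (by decide +kernel) (by decide +kernel)

theorem f13782 : C.T (v18 C) [18, 41, 68, 71, 98, 109, 119] (v4 C) [10, 56, 88, 96, 114] :=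
  C.flip (f13781 C)

theorem f13783 : C.T (v17 C) [10, 45, 53, 72, 103, 109, 113] (v18 C) [18, 34, 56, 86, 102, 109, 124] :=
  C.closeT (p := (v4 C)) (pu := [21, 37, 58, 78, 96, 113])
    (C.pT (f13780 C)
    (C.pH [12, 35, 50, 83] [10, 45, 53, 72, 103, 109, 113] (by decide +kernel) (C.pNil _ _)))
    (C.pH [12, 35, 50, 83] [18, 41, 68, 71, 98, 109, 119] (by decide +kernel)
    (C.pT (f13782 C)
    (C.pH [12, 35, 50, 83] [21, 37, 58, 78, 96, 113] (by decide +kernel) (C.pNil _ _))))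
    (C.loop_of_one (relLoop0 C) _ _)

theorem f13784 : C.T (v18 C) [18, 34, 56, 86, 102, 109, 124] (v17 C) [10, 45, 53, 72, 103, 109, 113] :=
  C.flip (f13783 C)

theorem f13785 : C.S (v4 C) [13, 28, 60, 83, 108, 110, 119] :=
  C.stMul (f421 C) (f693 C) _ (by decide +kernel)

theorem f13786 : C.T (v4 C) [9, 48, 56, 88, 93, 109, 121] (v17 C) [9, 27, 58, 75, 106, 110, 117] :=
  C.conv (f5849 C) (f13785 C) (f13785 C) _ [142, 152, 164, 172, 177] _ (by decide +kernel) (by decide +kernel) (by decide +kernel)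

theorem f13787 : C.S (v4 C) [18, 46, 49, 75, 97, 110, 118] :=
  C.stMul (f407 C) (f407 C) _ (by decide +kernel)

theorem f13788 : C.S (v4 C) [16, 43, 64, 82, 90, 110, 123] :=
  C.stMul (f421 C) (f13787 C) _ (by decide +kernel)

theorem f13789 : C.S (v4 C) [21, 60, 87, 91, 109, 120] :=
  C.stMul (f407 C) (f13788 C) _ (by decide +kernel)

theorem f13790 : C.T (v4 C) [25, 29, 60, 86, 101, 115] (v18 C) [7, 34, 49, 81, 97, 115] :=
  C.conv (f8339 C) (f8769 C) (f13789 C) _ [129, 161, 170, 172, 177] _ (by decide +kernel) (by decide +kernel) (by decide +kernel)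

theorem f13791 : C.T (v18 C) [7, 34, 49, 81, 97, 115] (v4 C) [25, 29, 60, 86, 101, 115] :=
  C.flip (f13790 C)

theorem f13792 : C.T (v17 C) [17, 44, 58, 75, 106, 110, 117] (v18 C) [7, 47, 51, 82, 102, 109, 122] :=
  C.closeT (p := (v4 C)) (pu := [9, 48, 56, 88, 93, 109, 121])
    (C.pT (f13786 C)
    (C.pH [12, 35, 50, 83] [17, 44, 58, 75, 106, 110, 117] (by decide +kernel) (C.pNil _ _)))
    (C.pH [12, 35, 50, 83] [7, 34, 49, 81, 97, 115] (by decide +kernel)
    (C.pT (f13791 C)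
    (C.pH [12, 35, 50, 83] [9, 48, 56, 88, 93, 109, 121] (by decide +kernel) (C.pNil _ _))))
    (C.loop_of_one (relLoop0 C) _ _)

theorem f13793 : C.T (v18 C) [7, 47, 51, 82, 102, 109, 122] (v17 C) [17, 44, 58, 75, 106, 110, 117] :=
  C.flip (f13792 C)

theorem f13794 : C.T (v4 C) [8, 40, 68, 77, 98, 109, 120] (v17 C) [8, 27, 86, 100, 118] :=
  C.conv (f5849 C) (f13785 C) (f13785 C) _ [133, 161, 168, 178] _ (by decide +kernel) (by decide +kernel) (by decide +kernel)

theorem f13795 : C.T (v4 C) [21, 32, 49, 72, 103, 110, 120] (v18 C) [43, 62, 84, 90, 114] :=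
  C.conv (f7487 C) (f8474 C) (f421 C) _ [141, 160, 168, 171, 177] _ (by decide +kernel) (by decide +kernel) (by decide +kernel)

theorem f13796 : C.T (v18 C) [43, 62, 84, 90, 114] (v4 C) [21, 32, 49, 72, 103, 110, 120] :=
  C.flip (f13795 C)

theorem f13797 : C.T (v17 C) [10, 45, 91, 110, 118] (v18 C) [23, 43, 63, 78, 104, 119] :=
  C.closeT (p := (v4 C)) (pu := [8, 40, 68, 77, 98, 109, 120])
    (C.pT (f13794 C)
    (C.pH [12, 35, 50, 83] [10, 45, 91, 110, 118] (by decide +kernel) (C.pNil _ _)))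
    (C.pH [12, 35, 50, 83] [43, 62, 84, 90, 114] (by decide +kernel)
    (C.pT (f13796 C)
    (C.pH [12, 35, 50, 83] [8, 40, 68, 77, 98, 109, 120] (by decide +kernel) (C.pNil _ _))))
    (C.loop_of_one (relLoop0 C) _ _)

theorem f13798 : C.T (v18 C) [23, 43, 63, 78, 104, 119] (v17 C) [10, 45, 91, 110, 118] :=
  C.flip (f13797 C)

theorem f13799 : C.T (v4 C) [13, 34, 66, 72, 98, 110, 111] (v17 C) [16, 39, 57, 79, 105, 109, 117] :=
  C.conv (f5985 C) (f6194 C) (f6194 C) _ [146, 158, 170, 173, 177] _ (by decide +kernel) (by decide +kernel) (by decide +kernel)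

theorem f13800 : C.S (v4 C) [10, 27, 56, 84, 93, 109, 113] :=
  C.stMul (f407 C) (f421 C) _ (by decide +kernel)

theorem f13801 : C.S (v4 C) [16, 32, 68, 79, 93, 110, 124] :=
  C.stMul (f407 C) (f13800 C) _ (by decide +kernel)

theorem f13802 : C.S (v4 C) [18, 44, 51, 79, 106, 114] :=
  C.stMul (f421 C) (f13801 C) _ (by decide +kernel)

theorem f13803 : C.T (v4 C) [4, 31, 55, 74, 94, 122] (v18 C) [6, 35, 62, 108, 110, 123] :=
  C.conv (f6881 C) (f13597 C) (f13802 C) _ [144, 153, 166, 173] _ (by decide +kernel) (by decide +kernel) (by decide +kernel)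

theorem f13804 : C.T (v18 C) [6, 35, 62, 108, 110, 123] (v4 C) [4, 31, 55, 74, 94, 122] :=
  C.flip (f13803 C)

theorem f13805 : C.T (v17 C) [16, 39, 53, 89, 99, 109] (v18 C) [24, 41, 57, 87, 102, 109, 125] :=
  C.closeT (p := (v4 C)) (pu := [13, 34, 66, 72, 98, 110, 111])
    (C.pT (f13799 C)
    (C.pH [12, 35, 50, 83] [16, 39, 53, 89, 99, 109] (by decide +kernel) (C.pNil _ _)))
    (C.pH [12, 35, 50, 83] [6, 35, 62, 108, 110, 123] (by decide +kernel)
    (C.pT (f13804 C)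
    (C.pH [12, 35, 50, 83] [13, 34, 66, 72, 98, 110, 111] (by decide +kernel) (C.pNil _ _))))
    (C.loop_of_one (relLoop0 C) _ _)

theorem f13806 : C.T (v18 C) [24, 41, 57, 87, 102, 109, 125] (v17 C) [16, 39, 53, 89, 99, 109] :=
  C.flip (f13805 C)

theorem f13807 : C.T (v4 C) [9, 31, 67, 70, 99, 110, 119] (v17 C) [22, 28, 50, 80, 104, 113] :=
  C.conv (f6121 C) (f10193 C) (f10193 C) _ [147, 161, 165, 176, 178] _ (by decide +kernel) (by decide +kernel) (by decide +kernel)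

theorem f13808 : C.S (v4 C) [10, 27, 56, 84, 93, 109, 113] :=
  C.stMul (f407 C) (f421 C) _ (by decide +kernel)

theorem f13809 : C.S (v4 C) [16, 32, 68, 79, 93, 110, 124] :=
  C.stMul (f407 C) (f13808 C) _ (by decide +kernel)

theorem f13810 : C.S (v4 C) [18, 44, 51, 79, 106, 114] :=
  C.stMul (f421 C) (f13809 C) _ (by decide +kernel)

theorem f13811 : C.S (v4 C) [10, 44, 68, 74, 91, 110, 116] :=
  C.stMul (f693 C) (f13810 C) _ (by decide +kernel)

theorem f13812 : C.T (v4 C) [25, 48, 65, 76, 102, 109, 125] (v18 C) [34, 50, 76, 97, 110, 123] :=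
  C.conv (f10083 C) (f13548 C) (f13811 C) _ [138, 157, 169, 174, 178] _ (by decide +kernel) (by decide +kernel) (by decide +kernel)

theorem f13813 : C.T (v18 C) [34, 50, 76, 97, 110, 123] (v4 C) [25, 48, 65, 76, 102, 109, 125] :=
  C.flip (f13812 C)

theorem f13814 : C.T (v17 C) [11, 39, 53, 82, 96, 110, 122] (v18 C) [23, 34, 53, 72, 90, 114] :=
  C.closeT (p := (v4 C)) (pu := [9, 31, 67, 70, 99, 110, 119])
    (C.pT (f13807 C)
    (C.pH [12, 35, 50, 83] [11, 39, 53, 82, 96, 110, 122] (by decide +kernel) (C.pNil _ _)))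
    (C.pH [12, 35, 50, 83] [34, 50, 76, 97, 110, 123] (by decide +kernel)
    (C.pT (f13813 C)
    (C.pH [12, 35, 50, 83] [9, 31, 67, 70, 99, 110, 119] (by decide +kernel) (C.pNil _ _))))
    (C.loop_of_one (relLoop0 C) _ _)

theorem f13815 : C.T (v18 C) [23, 34, 53, 72, 90, 114] (v17 C) [11, 39, 53, 82, 96, 110, 122] :=
  C.flip (f13814 C)

theorem f13816 : C.T (v4 C) [8, 36, 51, 76, 105, 110, 125] (v17 C) [13, 47, 49, 75, 93, 109, 125] :=
  C.conv (f6156 C) (f6564 C) (f6564 C) _ [137, 149, 169] _ (by decide +kernel) (by decide +kernel) (by decide +kernel)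

theorem f13817 : C.S (v4 C) [21, 60, 87, 91, 109, 120] :=
  C.stMul (f407 C) (f8537 C) _ (by decide +kernel)

theorem f13818 : C.S (v4 C) [8, 48, 61, 83, 103, 117] :=
  C.stMul (f407 C) (f13817 C) _ (by decide +kernel)

theorem f13819 : C.S (v4 C) [31, 58, 82, 95, 109, 115] :=
  C.stMul (f421 C) (f13818 C) _ (by decide +kernel)

theorem f13820 : C.T (v4 C) [21, 41, 59, 81, 91, 109, 119] (v18 C) [6, 30, 58, 79, 107, 110, 120] :=
  C.conv (f8315 C) (f8537 C) (f13819 C) _ [159, 164, 176, 177] _ (by decide +kernel) (by decide +kernel) (by decide +kernel)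

theorem f13821 : C.T (v18 C) [6, 30, 58, 79, 107, 110, 120] (v4 C) [21, 41, 59, 81, 91, 109, 119] :=
  C.flip (f13820 C)

theorem f13822 : C.T (v17 C) [26, 39, 58, 89, 93, 119] (v18 C) [24, 42, 51, 72, 102, 110, 124] :=
  C.closeT (p := (v4 C)) (pu := [8, 36, 51, 76, 105, 110, 125])
    (C.pT (f13816 C)
    (C.pH [12, 35, 50, 83] [26, 39, 58, 89, 93, 119] (by decide +kernel) (C.pNil _ _)))
    (C.pH [12, 35, 50, 83] [6, 30, 58, 79, 107, 110, 120] (by decide +kernel)
    (C.pT (f13821 C)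
    (C.pH [12, 35, 50, 83] [8, 36, 51, 76, 105, 110, 125] (by decide +kernel) (C.pNil _ _))))
    (C.loop_of_one (relLoop0 C) _ _)

theorem f13823 : C.T (v18 C) [24, 42, 51, 72, 102, 110, 124] (v17 C) [26, 39, 58, 89, 93, 119] :=
  C.flip (f13822 C)

theorem f13824 : C.T (v4 C) [14, 27, 69, 85, 105, 116] (v17 C) [12, 43, 88, 107, 110, 123] :=
  C.conv (f6475 C) (f697 C) (f697 C) _ [147, 152, 166, 175, 178] _ (by decide +kernel) (by decide +kernel) (by decide +kernel)

theorem f13825 : C.S (v4 C) [17, 29, 60, 75, 100, 110, 113] :=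
  C.stMul (f407 C) (f7503 C) _ (by decide +kernel)

theorem f13826 : C.T (v4 C) [14, 37, 57, 71, 107, 110, 112] (v18 C) [20, 35, 69, 72, 96, 110, 112] :=
  C.conv (f7256 C) (f7503 C) (f13825 C) _ [134, 162, 170, 175, 177] _ (by decide +kernel) (by decide +kernel) (by decide +kernel)

theorem f13827 : C.T (v18 C) [20, 35, 69, 72, 96, 110, 112] (v4 C) [14, 37, 57, 71, 107, 110, 112] :=
  C.flip (f13826 C)

theorem f13828 : C.T (v17 C) [23, 43, 61, 76, 108, 110, 125] (v18 C) [11, 45, 57, 71, 94, 114] :=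
  C.closeT (p := (v4 C)) (pu := [14, 27, 69, 85, 105, 116])
    (C.pT (f13824 C)
    (C.pH [12, 35, 50, 83] [23, 43, 61, 76, 108, 110, 125] (by decide +kernel) (C.pNil _ _)))
    (C.pH [12, 35, 50, 83] [20, 35, 69, 72, 96, 110, 112] (by decide +kernel)
    (C.pT (f13827 C)
    (C.pH [12, 35, 50, 83] [14, 27, 69, 85, 105, 116] (by decide +kernel) (C.pNil _ _))))
    (C.loop_of_one (relLoop0 C) _ _)

theorem f13829 : C.T (v18 C) [11, 45, 57, 71, 94, 114] (v17 C) [23, 43, 61, 76, 108, 110, 125] :=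
  C.flip (f13828 C)

theorem f13830 : C.T (v4 C) [7, 32, 52, 87, 104, 109] (v17 C) [19, 34, 69, 75, 94, 112] :=
  C.conv (f6736 C) (f8944 C) (f8944 C) _ [128, 158, 174, 177] _ (by decide +kernel) (by decide +kernel) (by decide +kernel)

theorem f13831 : C.S (v4 C) [17, 35, 66, 70, 95] :=
  C.stMul (f421 C) (f407 C) _ (by decide +kernel)

theorem f13832 : C.S (v4 C) [26, 44, 64, 94, 121] :=
  C.stMul (f693 C) (f13831 C) _ (by decide +kernel)

theorem f13833 : C.T (v4 C) [7, 31, 54, 82, 90, 109, 112] (v18 C) [10, 27, 69, 76, 115] :=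
  C.conv (f7520 C) (f8781 C) (f13832 C) _ [136, 163, 170, 173, 178] _ (by decide +kernel) (by decide +kernel) (by decide +kernel)

theorem f13834 : C.T (v18 C) [10, 27, 69, 76, 115] (v4 C) [7, 31, 54, 82, 90, 109, 112] :=
  C.flip (f13833 C)

theorem f13835 : C.T (v17 C) [24, 42, 63, 75, 94, 112] (v18 C) [8, 48, 51, 85, 110, 125] :=
  C.closeT (p := (v4 C)) (pu := [7, 32, 52, 87, 104, 109])
    (C.pT (f13830 C)
    (C.pH [12, 35, 50, 83] [24, 42, 63, 75, 94, 112] (by decide +kernel) (C.pNil _ _)))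
    (C.pH [12, 35, 50, 83] [10, 27, 69, 76, 115] (by decide +kernel)
    (C.pT (f13834 C)
    (C.pH [12, 35, 50, 83] [7, 32, 52, 87, 104, 109] (by decide +kernel) (C.pNil _ _))))
    (C.loop_of_one (relLoop0 C) _ _)

theorem f13836 : C.T (v18 C) [8, 48, 51, 85, 110, 125] (v17 C) [24, 42, 63, 75, 94, 112] :=
  C.flip (f13835 C)

theorem f13837 : C.T (v4 C) [7, 37, 62, 72, 92, 109, 122] (v18 C) [7, 44, 54, 81, 103, 109, 123] :=
  C.conv (f6863 C) (f8698 C) (f8698 C) _ [131, 149, 165, 173, 177] _ (by decide +kernel) (by decide +kernel) (by decide +kernel)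

theorem f13838 : C.S (v4 C) [18, 46, 49, 75, 97, 110, 118] :=
  C.stMul (f407 C) (f407 C) _ (by decide +kernel)

theorem f13839 : C.S (v4 C) [16, 43, 64, 82, 90, 110, 123] :=
  C.stMul (f421 C) (f13838 C) _ (by decide +kernel)

theorem f13840 : C.S (v4 C) [21, 60, 87, 91, 109, 120] :=
  C.stMul (f407 C) (f13839 C) _ (by decide +kernel)

theorem f13841 : C.S (v4 C) [13, 34, 59, 73, 105, 109, 115] :=
  C.stMul (f421 C) (f13840 C) _ (by decide +kernel)

theorem f13842 : C.S (v4 C) [8, 31, 60, 85, 98, 110, 125] :=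
  C.stMul (f693 C) (f407 C) _ (by decide +kernel)

theorem f13843 : C.S (v4 C) [42, 63, 82, 91, 110, 125] :=
  C.stMul (f421 C) (f13842 C) _ (by decide +kernel)

theorem f13844 : C.T (v4 C) [7, 34, 63, 71, 93, 124] (v18 C) [19, 67, 74, 97, 109, 119] :=
  C.conv (f13463 C) (f13841 C) (f13843 C) _ [140, 159, 169, 175] _ (by decide +kernel) (by decide +kernel) (by decide +kernel)

theorem f13845 : C.T (v18 C) [19, 67, 74, 97, 109, 119] (v4 C) [7, 34, 63, 71, 93, 124] :=
  C.flip (f13844 C)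

theorem f13846 : C.T (v18 C) [7, 39, 67, 88, 109, 111] (v18 C) [6, 27, 58, 74, 108, 109, 115] :=
  C.closeT (p := (v4 C)) (pu := [7, 37, 62, 72, 92, 109, 122])
    (C.pT (f13837 C)
    (C.pH [12, 35, 50, 83] [7, 39, 67, 88, 109, 111] (by decide +kernel) (C.pNil _ _)))
    (C.pH [12, 35, 50, 83] [19, 67, 74, 97, 109, 119] (by decide +kernel)
    (C.pT (f13845 C)
    (C.pH [12, 35, 50, 83] [7, 37, 62, 72, 92, 109, 122] (by decide +kernel) (C.pNil _ _))))
    (C.loop_of_one (relLoop0 C) _ _)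

theorem f13847 : C.T (v18 C) [6, 27, 58, 74, 108, 109, 115] (v18 C) [7, 39, 67, 88, 109, 111] :=
  C.flip (f13846 C)

theorem f13848 : C.T (v4 C) [14, 34, 69, 78, 101, 125] (v18 C) [24, 28, 69, 89, 96, 113] :=
  C.conv (f6881 C) (f13597 C) (f13597 C) _ [144, 150, 165, 174] _ (by decide +kernel) (by decide +kernel) (by decide +kernel)

theorem f13849 : C.S (v4 C) [8, 31, 60, 85, 98, 110, 125] :=
  C.stMul (f693 C) (f407 C) _ (by decide +kernel)

theorem f13850 : C.S (v4 C) [42, 63, 82, 91, 110, 125] :=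
  C.stMul (f421 C) (f13849 C) _ (by decide +kernel)

theorem f13851 : C.S (v4 C) [12, 31, 56, 72, 107, 109, 112] :=
  C.stMul (f407 C) (f13850 C) _ (by decide +kernel)

theorem f13852 : C.T (v4 C) [14, 44, 59, 86, 100, 124] (v18 C) [9, 41, 69, 104, 119] :=
  C.conv (f6881 C) (f13597 C) (f13851 C) _ [142, 150, 168, 175, 177] _ (by decide +kernel) (by decide +kernel) (by decide +kernel)

theorem f13853 : C.T (v18 C) [9, 41, 69, 104, 119] (v4 C) [14, 44, 59, 86, 100, 124] :=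
  C.flip (f13852 C)

theorem f13854 : C.T (v18 C) [6, 28, 57, 85, 90, 110, 122] (v18 C) [25, 47, 53, 84, 109, 115] :=
  C.closeT (p := (v4 C)) (pu := [14, 34, 69, 78, 101, 125])
    (C.pT (f13848 C)
    (C.pH [12, 35, 50, 83] [6, 28, 57, 85, 90, 110, 122] (by decide +kernel) (C.pNil _ _)))
    (C.pH [12, 35, 50, 83] [9, 41, 69, 104, 119] (by decide +kernel)
    (C.pT (f13853 C)
    (C.pH [12, 35, 50, 83] [14, 34, 69, 78, 101, 125] (by decide +kernel) (C.pNil _ _))))
    (C.loop_of_one (relLoop0 C) _ _)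

theorem f13857 : C.T (v4 C) [9, 31, 54, 86, 108, 123] (v18 C) [15, 38, 55, 72, 99] :=
  C.conv (f6881 C) (f13597 C) (f13597 C) _ [134, 150, 165, 172] _ (by decide +kernel) (by decide +kernel) (by decide +kernel)

theorem f13858 : C.S (v4 C) [10, 27, 56, 84, 93, 109, 113] :=
  C.stMul (f407 C) (f421 C) _ (by decide +kernel)

theorem f13859 : C.S (v4 C) [16, 32, 68, 79, 93, 110, 124] :=
  C.stMul (f407 C) (f13858 C) _ (by decide +kernel)

theorem f13860 : C.S (v4 C) [18, 44, 51, 79, 106, 114] :=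
  C.stMul (f421 C) (f13859 C) _ (by decide +kernel)

theorem f13861 : C.S (v4 C) [10, 44, 68, 74, 91, 110, 116] :=
  C.stMul (f693 C) (f13860 C) _ (by decide +kernel)

theorem f13862 : C.T (v4 C) [25, 48, 68, 83, 94, 109, 112] (v18 C) [11, 48, 56, 81, 105, 109, 115] :=
  C.conv (f8390 C) (f13475 C) (f13861 C) _ [138, 152, 172] _ (by decide +kernel) (by decide +kernel) (by decide +kernel)

theorem f13863 : C.T (v18 C) [11, 48, 56, 81, 105, 109, 115] (v4 C) [25, 48, 68, 83, 94, 109, 112] :=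
  C.flip (f13862 C)

theorem f13864 : C.T (v18 C) [15, 38, 66, 71, 90, 116] (v18 C) [22, 31, 52, 74, 104, 122] :=
  C.closeT (p := (v4 C)) (pu := [9, 31, 54, 86, 108, 123])
    (C.pT (f13857 C)
    (C.pH [12, 35, 50, 83] [15, 38, 66, 71, 90, 116] (by decide +kernel) (C.pNil _ _)))
    (C.pH [12, 35, 50, 83] [11, 48, 56, 81, 105, 109, 115] (by decide +kernel)
    (C.pT (f13863 C)
    (C.pH [12, 35, 50, 83] [9, 31, 54, 86, 108, 123] (by decide +kernel) (C.pNil _ _))))
    (C.loop_of_one (relLoop0 C) _ _)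

theorem f13865 : C.T (v18 C) [22, 31, 52, 74, 104, 122] (v18 C) [15, 38, 66, 71, 90, 116] :=
  C.flip (f13864 C)

theorem f13866 : C.T (v4 C) [14, 41, 56, 101, 110, 125] (v18 C) [9, 41, 57, 86, 94, 110, 121] :=
  C.conv (f6881 C) (f13597 C) (f13597 C) _ [142, 153, 165, 175] _ (by decide +kernel) (by decide +kernel) (by decide +kernel)

theorem f13867 : C.S (v4 C) [26, 43, 63, 73, 104, 112] :=
  C.stMul (f421 C) (f13591 C) _ (by decide +kernel)

theorem f13868 : C.T (v4 C) [14, 41, 50, 80, 119] (v16 C) [7, 50, 88, 92, 110, 125] :=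
  C.conv (f3641 C) (f13592 C) (f13867 C) _ [131, 160, 168, 177] _ (by decide +kernel) (by decide +kernel) (by decide +kernel)

theorem f13869 : C.T (v16 C) [7, 50, 88, 92, 110, 125] (v4 C) [14, 41, 50, 80, 119] :=
  C.flip (f13868 C)

theorem f13870 : C.T (v18 C) [17, 32, 56, 82, 104, 125] (v16 C) [7, 53, 88, 92, 110, 125] :=
  C.closeT (p := (v4 C)) (pu := [14, 41, 56, 101, 110, 125])
    (C.pT (f13866 C)
    (C.pH [12, 35, 50, 83] [17, 32, 56, 82, 104, 125] (by decide +kernel) (C.pNil _ _)))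
    (C.pH [12, 35, 50, 83] [7, 50, 88, 92, 110, 125] (by decide +kernel)
    (C.pT (f13869 C)
    (C.pH [12, 35, 50, 83] [14, 41, 56, 101, 110, 125] (by decide +kernel) (C.pNil _ _))))
    (C.loop_of_one (relLoop0 C) _ _)

theorem f13871 : C.T (v16 C) [7, 53, 88, 92, 110, 125] (v18 C) [17, 32, 56, 82, 104, 125] :=
  C.flip (f13870 C)

theorem f13872 : C.T (v4 C) [17, 36, 57, 83, 100, 109, 119] (v18 C) [22, 30, 77, 91, 111] :=
  C.conv (f6895 C) (f8570 C) (f8570 C) _ [132, 162, 166] _ (by decide +kernel) (by decide +kernel) (by decide +kernel)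

theorem f13873 : C.S (v4 C) [26, 44, 64, 94, 121] :=
  C.stMul (f693 C) (f12156 C) _ (by decide +kernel)

theorem f13874 : C.S (v4 C) [23, 27, 56, 70, 98, 125] :=
  C.stMul (f421 C) (f13873 C) _ (by decide +kernel)

theorem f13875 : C.T (v4 C) [9, 37, 60, 86, 91, 115] (v17 C) [26, 39, 67, 70, 94, 109, 114] :=
  C.conv (f5350 C) (f12155 C) (f13874 C) _ [155, 168, 176, 178] _ (by decide +kernel) (by decide +kernel) (by decide +kernel)

theorem f13876 : C.T (v17 C) [26, 39, 67, 70, 94, 109, 114] (v4 C) [9, 37, 60, 86, 91, 115] :=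
  C.flip (f13875 C)

theorem f13877 : C.T (v18 C) [11, 43, 68, 70, 99, 110, 122] (v17 C) [13, 47, 52, 83, 103, 117] :=
  C.closeT (p := (v4 C)) (pu := [17, 36, 57, 83, 100, 109, 119])
    (C.pT (f13872 C)
    (C.pH [12, 35, 50, 83] [11, 43, 68, 70, 99, 110, 122] (by decide +kernel) (C.pNil _ _)))
    (C.pH [12, 35, 50, 83] [26, 39, 67, 70, 94, 109, 114] (by decide +kernel)
    (C.pT (f13876 C)
    (C.pH [12, 35, 50, 83] [17, 36, 57, 83, 100, 109, 119] (by decide +kernel) (C.pNil _ _))))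
    (C.loop_of_one (relLoop0 C) _ _)

theorem f13878 : C.T (v17 C) [13, 47, 52, 83, 103, 117] (v18 C) [11, 43, 68, 70, 99, 110, 122] :=
  C.flip (f13877 C)

theorem f13879 : C.T (v4 C) [24, 28, 58, 71, 95, 109, 117] (v18 C) [21, 47, 63, 78, 108, 112] :=
  C.conv (f6924 C) (f7427 C) (f7427 C) _ [143, 154, 167, 171, 177] _ (by decide +kernel) (by decide +kernel) (by decide +kernel)

theorem f13880 : C.S (v4 C) [18, 46, 49, 75, 97, 110, 118] :=
  C.stMul (f407 C) (f407 C) _ (by decide +kernel)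

theorem f13881 : C.S (v4 C) [23, 45, 57, 77, 95, 110, 118] :=
  C.stMul (f407 C) (f13880 C) _ (by decide +kernel)

theorem f13882 : C.S (v4 C) [26, 43, 63, 73, 104, 112] :=
  C.stMul (f421 C) (f13881 C) _ (by decide +kernel)

theorem f13883 : C.S (v4 C) [25, 46, 61, 102, 110, 119] :=
  C.stMul (f407 C) (f13882 C) _ (by decide +kernel)

theorem f13884 : C.S (v4 C) [26, 42, 68, 71, 107, 109, 113] :=
  C.stMul (f407 C) (f13883 C) _ (by decide +kernel)

theorem f13885 : C.T (v4 C) [19, 45, 58, 87, 104, 125] (v18 C) [18, 37, 51, 74, 91, 110, 121] :=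
  C.conv (f7143 C) (f8330 C) (f13884 C) _ [140, 151, 173, 178] _ (by decide +kernel) (by decide +kernel) (by decide +kernel)

theorem f13886 : C.T (v18 C) [18, 37, 51, 74, 91, 110, 121] (v4 C) [19, 45, 58, 87, 104, 125] :=
  C.flip (f13885 C)

theorem f13887 : C.T (v18 C) [8, 62, 88, 108, 114] (v18 C) [18, 27, 56, 75, 102, 109, 112] :=
  C.closeT (p := (v4 C)) (pu := [24, 28, 58, 71, 95, 109, 117])
    (C.pT (f13879 C)
    (C.pH [12, 35, 50, 83] [8, 62, 88, 108, 114] (by decide +kernel) (C.pNil _ _)))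
    (C.pH [12, 35, 50, 83] [18, 37, 51, 74, 91, 110, 121] (by decide +kernel)
    (C.pT (f13886 C)
    (C.pH [12, 35, 50, 83] [24, 28, 58, 71, 95, 109, 117] (by decide +kernel) (C.pNil _ _))))
    (C.loop_of_one (relLoop0 C) _ _)

theorem f13888 : C.T (v18 C) [18, 27, 56, 75, 102, 109, 112] (v18 C) [8, 62, 88, 108, 114] :=
  C.flip (f13887 C)

theorem f13889 : C.T (v4 C) [13, 45, 63, 79, 107, 109, 125] (v18 C) [30, 56, 76, 99, 109, 116] :=
  C.conv (f6930 C) (f7494 C) (f7494 C) _ [156, 176] _ (by decide +kernel) (by decide +kernel) (by decide +kernel)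

theorem f13890 : C.S (v4 C) [23, 45, 57, 77, 95, 110, 118] :=
  C.stMul (f407 C) (f12207 C) _ (by decide +kernel)

theorem f13891 : C.S (v4 C) [26, 43, 63, 73, 104, 112] :=
  C.stMul (f421 C) (f13890 C) _ (by decide +kernel)

theorem f13892 : C.S (v4 C) [25, 46, 61, 102, 110, 119] :=
  C.stMul (f407 C) (f13891 C) _ (by decide +kernel)

theorem f13893 : C.S (v4 C) [26, 42, 68, 71, 107, 109, 113] :=
  C.stMul (f407 C) (f13892 C) _ (by decide +kernel)

theorem f13894 : C.T (v4 C) [4, 47, 61, 85, 101, 118] (v18 C) [12, 35, 65, 84, 105, 112] :=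
  C.conv (f8516 C) (f12206 C) (f13893 C) _ [130, 153, 168, 173] _ (by decide +kernel) (by decide +kernel) (by decide +kernel)

theorem f13895 : C.T (v18 C) [12, 35, 65, 84, 105, 112] (v4 C) [4, 47, 61, 85, 101, 118] :=
  C.flip (f13894 C)

theorem f13896 : C.T (v18 C) [12, 46, 69, 70, 97, 109, 114] (v18 C) [60, 84, 105, 112] :=
  C.closeT (p := (v4 C)) (pu := [13, 45, 63, 79, 107, 109, 125])
    (C.pT (f13889 C)
    (C.pH [12, 35, 50, 83] [12, 46, 69, 70, 97, 109, 114] (by decide +kernel) (C.pNil _ _)))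
    (C.pH [12, 35, 50, 83] [12, 35, 65, 84, 105, 112] (by decide +kernel)
    (C.pT (f13895 C)
    (C.pH [12, 35, 50, 83] [13, 45, 63, 79, 107, 109, 125] (by decide +kernel) (C.pNil _ _))))
    (C.loop_of_one (relLoop0 C) _ _)

theorem f13897 : C.T (v18 C) [60, 84, 105, 112] (v18 C) [12, 46, 69, 70, 97, 109, 114] :=
  C.flip (f13896 C)

theorem f13898 : C.T (v4 C) [19, 35, 58, 81, 98] (v18 C) [25, 34, 68, 83, 95, 120] :=
  C.conv (f6930 C) (f7494 C) (f7494 C) _ [147, 155, 165, 173, 177] _ (by decide +kernel) (by decide +kernel) (by decide +kernel)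

theorem f13899 : C.T (v4 C) [6, 41, 64, 89, 106, 114] (v18 C) [9, 35, 53, 84, 105, 120] :=
  C.conv (f8246 C) (f8275 C) (f8277 C) _ [135, 152, 167, 172, 177] _ (by decide +kernel) (by decide +kernel) (by decide +kernel)

theorem f13900 : C.T (v18 C) [9, 35, 53, 84, 105, 120] (v4 C) [6, 41, 64, 89, 106, 114] :=
  C.flip (f13899 C)

theorem f13901 : C.T (v18 C) [9, 29, 64, 84, 100, 110, 116] (v18 C) [25, 45, 57, 87, 96, 110, 124] :=
  C.closeT (p := (v4 C)) (pu := [19, 35, 58, 81, 98])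
    (C.pT (f13898 C)
    (C.pH [12, 35, 50, 83] [9, 29, 64, 84, 100, 110, 116] (by decide +kernel) (C.pNil _ _)))
    (C.pH [12, 35, 50, 83] [9, 35, 53, 84, 105, 120] (by decide +kernel)
    (C.pT (f13900 C)
    (C.pH [12, 35, 50, 83] [19, 35, 58, 81, 98] (by decide +kernel) (C.pNil _ _))))
    (C.loop_of_one (relLoop0 C) _ _)

theorem f13902 : C.T (v18 C) [25, 45, 57, 87, 96, 110, 124] (v18 C) [9, 29, 64, 84, 100, 110, 116] :=
  C.flip (f13901 C)

theorem f13903 : C.T (v4 C) [19, 30, 68, 78, 107, 109, 122] (v18 C) [35, 80, 92, 109, 111] :=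
  C.conv (f6930 C) (f7494 C) (f7494 C) _ [161, 167, 175, 178] _ (by decide +kernel) (by decide +kernel) (by decide +kernel)

theorem f13904 : C.S (v4 C) [17, 35, 66, 70, 95] :=
  C.stMul (f421 C) (f407 C) _ (by decide +kernel)

theorem f13905 : C.T (v4 C) [6, 29, 52, 84, 106, 122] (v18 C) [7, 45, 68, 74, 99, 110, 119] :=
  C.conv (f8516 C) (f12206 C) (f13904 C) _ [130, 161, 168, 176, 178] _ (by decide +kernel) (by decide +kernel) (by decide +kernel)

theorem f13906 : C.T (v18 C) [7, 45, 68, 74, 99, 110, 119] (v4 C) [6, 29, 52, 84, 106, 122] :=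
  C.flip (f13905 C)

theorem f13907 : C.T (v18 C) [12, 34, 81, 96, 110, 120] (v18 C) [7, 41, 57, 81, 105, 124] :=
  C.closeT (p := (v4 C)) (pu := [19, 30, 68, 78, 107, 109, 122])
    (C.pT (f13903 C)
    (C.pH [12, 35, 50, 83] [12, 34, 81, 96, 110, 120] (by decide +kernel) (C.pNil _ _)))
    (C.pH [12, 35, 50, 83] [7, 45, 68, 74, 99, 110, 119] (by decide +kernel)
    (C.pT (f13906 C)
    (C.pH [12, 35, 50, 83] [19, 30, 68, 78, 107, 109, 122] (by decide +kernel) (C.pNil _ _))))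
    (C.loop_of_one (relLoop0 C) _ _)

theorem f13908 : C.T (v18 C) [7, 41, 57, 81, 105, 124] (v18 C) [12, 34, 81, 96, 110, 120] :=
  C.flip (f13907 C)

theorem f13909 : C.T (v4 C) [14, 48, 66, 81, 90, 109, 113] (v18 C) [6, 33, 82, 106, 110, 121] :=
  C.conv (f6930 C) (f7494 C) (f7494 C) _ [128, 163, 173, 178] _ (by decide +kernel) (by decide +kernel) (by decide +kernel)

theorem f13910 : C.T (v4 C) [14, 45, 58, 77, 97, 110, 119] (v18 C) [7, 40, 56, 85, 96, 109, 117] :=
  C.conv (f8053 C) (f8487 C) (f8492 C) _ [145, 155, 177] _ (by decide +kernel) (by decide +kernel) (by decide +kernel)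

theorem f13911 : C.T (v18 C) [7, 40, 56, 85, 96, 109, 117] (v4 C) [14, 45, 58, 77, 97, 110, 119] :=
  C.flip (f13910 C)

theorem f13912 : C.T (v18 C) [19, 31, 64, 87, 108, 110, 113] (v18 C) [7, 28, 57, 75, 108, 110, 114] :=
  C.closeT (p := (v4 C)) (pu := [14, 48, 66, 81, 90, 109, 113])
    (C.pT (f13909 C)
    (C.pH [12, 35, 50, 83] [19, 31, 64, 87, 108, 110, 113] (by decide +kernel) (C.pNil _ _)))
    (C.pH [12, 35, 50, 83] [7, 40, 56, 85, 96, 109, 117] (by decide +kernel)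
    (C.pT (f13911 C)
    (C.pH [12, 35, 50, 83] [14, 48, 66, 81, 90, 109, 113] (by decide +kernel) (C.pNil _ _))))
    (C.loop_of_one (relLoop0 C) _ _)

theorem f13913 : C.T (v18 C) [7, 28, 57, 75, 108, 110, 114] (v18 C) [19, 31, 64, 87, 108, 110, 113] :=
  C.flip (f13912 C)

theorem f13914 : C.T (v4 C) [23, 33, 66, 106, 110, 114] (v18 C) [26, 38, 54, 70, 102, 122] :=
  C.conv (f6930 C) (f7494 C) (f7494 C) _ [148, 154, 168, 176, 178] _ (by decide +kernel) (by decide +kernel) (by decide +kernel)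

theorem f13915 : C.S (v4 C) [33, 61, 77, 108, 110, 112] :=
  C.stMul (f407 C) (f12048 C) _ (by decide +kernel)

theorem f13916 : C.T (v4 C) [12, 33, 54, 78, 100, 109, 116] (v18 C) [13, 30, 67, 78, 105, 110, 118] :=
  C.conv (f10188 C) (f12045 C) (f13915 C) _ [150, 165, 178] _ (by decide +kernel) (by decide +kernel) (by decide +kernel)

theorem f13917 : C.T (v18 C) [13, 30, 67, 78, 105, 110, 118] (v4 C) [12, 33, 54, 78, 100, 109, 116] :=
  C.flip (f13916 C)

theorem f13918 : C.T (v18 C) [4, 41, 53, 70, 102, 122] (v18 C) [4, 43, 63, 89, 97, 110, 120] :=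
  C.closeT (p := (v4 C)) (pu := [23, 33, 66, 106, 110, 114])
    (C.pT (f13914 C)
    (C.pH [12, 35, 50, 83] [4, 41, 53, 70, 102, 122] (by decide +kernel) (C.pNil _ _)))
    (C.pH [12, 35, 50, 83] [13, 30, 67, 78, 105, 110, 118] (by decide +kernel)
    (C.pT (f13917 C)
    (C.pH [12, 35, 50, 83] [23, 33, 66, 106, 110, 114] (by decide +kernel) (C.pNil _ _))))
    (C.loop_of_one (relLoop0 C) _ _)

theorem f13919 : C.T (v18 C) [4, 43, 63, 89, 97, 110, 120] (v18 C) [4, 41, 53, 70, 102, 122] :=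
  C.flip (f13918 C)

theorem f13920 : C.T (v4 C) [8, 27, 58, 72, 93, 125] (v18 C) [15, 35, 53, 72, 96, 110, 120] :=
  C.conv (f7143 C) (f8330 C) (f8330 C) _ [137, 156, 175, 178] _ (by decide +kernel) (by decide +kernel) (by decide +kernel)

theorem f13921 : C.T (v4 C) [21, 45, 59, 81, 108, 110, 111] (v17 C) [15, 73, 101, 110, 116] :=
  C.conv (f5743 C) (f7641 C) (f7641 C) _ [134, 154, 166, 178] _ (by decide +kernel) (by decide +kernel) (by decide +kernel)

theorem f13922 : C.T (v17 C) [15, 73, 101, 110, 116] (v4 C) [21, 45, 59, 81, 108, 110, 111] :=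
  C.flip (f13921 C)

theorem f13923 : C.T (v18 C) [15, 35, 57, 83, 99, 109, 120] (v17 C) [15, 29, 57, 84, 90, 118] :=
  C.closeT (p := (v4 C)) (pu := [8, 27, 58, 72, 93, 125])
    (C.pT (f13920 C)
    (C.pH [12, 35, 50, 83] [15, 35, 57, 83, 99, 109, 120] (by decide +kernel) (C.pNil _ _)))
    (C.pH [12, 35, 50, 83] [15, 73, 101, 110, 116] (by decide +kernel)
    (C.pT (f13922 C)
    (C.pH [12, 35, 50, 83] [8, 27, 58, 72, 93, 125] (by decide +kernel) (C.pNil _ _))))
    (C.loop_of_one (relLoop0 C) _ _)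

theorem f13924 : C.T (v17 C) [15, 29, 57, 84, 90, 118] (v18 C) [15, 35, 57, 83, 99, 109, 120] :=
  C.flip (f13923 C)

theorem f13925 : C.T (v4 C) [15, 45, 67, 78, 107, 110, 114] (v18 C) [14, 41, 69, 73, 101, 109, 112] :=
  C.conv (f7143 C) (f8330 C) (f8330 C) _ [136, 150, 165, 171, 178] _ (by decide +kernel) (by decide +kernel) (by decide +kernel)

theorem f13926 : C.T (v4 C) [15, 60, 88, 105, 109, 125] (v18 C) [25, 42, 64, 78, 102, 110, 122] :=
  C.conv (f7143 C) (f8330 C) (f13882 C) _ [147, 157, 167, 175, 177] _ (by decide +kernel) (by decide +kernel) (by decide +kernel)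

theorem f13927 : C.T (v18 C) [25, 42, 64, 78, 102, 110, 122] (v4 C) [15, 60, 88, 105, 109, 125] :=
  C.flip (f13926 C)

theorem f13928 : C.T (v18 C) [14, 41, 89, 106, 110, 113] (v18 C) [17, 41, 54, 87, 108, 116] :=
  C.closeT (p := (v4 C)) (pu := [15, 45, 67, 78, 107, 110, 114])
    (C.pT (f13925 C)
    (C.pH [12, 35, 50, 83] [14, 41, 89, 106, 110, 113] (by decide +kernel) (C.pNil _ _)))
    (C.pH [12, 35, 50, 83] [25, 42, 64, 78, 102, 110, 122] (by decide +kernel)
    (C.pT (f13927 C)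
    (C.pH [12, 35, 50, 83] [15, 45, 67, 78, 107, 110, 114] (by decide +kernel) (C.pNil _ _))))
    (C.loop_of_one (relLoop0 C) _ _)

theorem f13931 : C.T (v4 C) [17, 42, 59, 87, 94, 111] (v18 C) [15, 29, 52, 71, 101, 125] :=
  C.conv (f7143 C) (f8330 C) (f8330 C) _ [137, 149, 165] _ (by decide +kernel) (by decide +kernel) (by decide +kernel)

theorem f13932 : C.T (v4 C) [9, 38, 50, 80, 94, 119] (v18 C) [5, 44, 51, 85, 104, 109, 114] :=
  C.conv (f7143 C) (f8330 C) (f8327 C) _ [127, 154, 169, 174, 178] _ (by decide +kernel) (by decide +kernel) (by decide +kernel)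

theorem f13933 : C.T (v18 C) [5, 44, 51, 85, 104, 109, 114] (v4 C) [9, 38, 50, 80, 94, 119] :=
  C.flip (f13932 C)

theorem f13934 : C.T (v18 C) [15, 60, 88, 92, 110, 117] (v18 C) [5, 41, 64, 89, 98, 109, 123] :=
  C.closeT (p := (v4 C)) (pu := [17, 42, 59, 87, 94, 111])
    (C.pT (f13931 C)
    (C.pH [12, 35, 50, 83] [15, 60, 88, 92, 110, 117] (by decide +kernel) (C.pNil _ _)))
    (C.pH [12, 35, 50, 83] [5, 44, 51, 85, 104, 109, 114] (by decide +kernel)
    (C.pT (f13933 C)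
    (C.pH [12, 35, 50, 83] [17, 42, 59, 87, 94, 111] (by decide +kernel) (C.pNil _ _))))
    (C.loop_of_one (relLoop0 C) _ _)

theorem f13937 : C.T (v4 C) [10, 46, 66, 76, 95, 111] (v18 C) [11, 35, 60, 75, 93, 110, 114] :=
  C.conv (f7256 C) (f7503 C) (f7503 C) _ [134, 150, 175, 177] _ (by decide +kernel) (by decide +kernel) (by decide +kernel)

theorem f13938 : C.S (v4 C) [23, 41, 49, 78, 91, 109] :=
  C.stMul (f693 C) (f421 C) _ (by decide +kernel)

theorem f13939 : C.T (v4 C) [8, 44, 62, 89, 96, 109, 119] (v18 C) [4, 45, 62, 89, 107, 125] :=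
  C.conv (f7575 C) (f7630 C) (f13938 C) _ [130, 152, 169, 176] _ (by decide +kernel) (by decide +kernel) (by decide +kernel)

theorem f13940 : C.T (v18 C) [4, 45, 62, 89, 107, 125] (v4 C) [8, 44, 62, 89, 96, 109, 119] :=
  C.flip (f13939 C)

theorem f13941 : C.T (v18 C) [20, 37, 69, 76, 118] (v18 C) [26, 31, 56, 78, 91, 109, 118] :=
  C.closeT (p := (v4 C)) (pu := [10, 46, 66, 76, 95, 111])
    (C.pT (f13937 C)
    (C.pH [12, 35, 50, 83] [20, 37, 69, 76, 118] (by decide +kernel) (C.pNil _ _)))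
    (C.pH [12, 35, 50, 83] [4, 45, 62, 89, 107, 125] (by decide +kernel)
    (C.pT (f13940 C)
    (C.pH [12, 35, 50, 83] [10, 46, 66, 76, 95, 111] (by decide +kernel) (C.pNil _ _))))
    (C.loop_of_one (relLoop0 C) _ _)

theorem f13942 : C.T (v18 C) [26, 31, 56, 78, 91, 109, 118] (v18 C) [20, 37, 69, 76, 118] :=
  C.flip (f13941 C)

theorem f13943 : C.T (v4 C) [47, 58, 82, 104, 112] (v18 C) [14, 29, 59, 83, 98, 124] :=
  C.conv (f7423 C) (f7483 C) (f7483 C) _ [145, 150, 175, 177] _ (by decide +kernel) (by decide +kernel) (by decide +kernel)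

theorem f13944 : C.T (v4 C) [23, 28, 59, 72, 104, 110, 119] (v18 C) [14, 43, 53, 75, 96, 109, 111] :=
  C.conv (f8053 C) (f8487 C) (f697 C) _ [127, 157, 170, 175] _ (by decide +kernel) (by decide +kernel) (by decide +kernel)

theorem f13945 : C.T (v18 C) [14, 43, 53, 75, 96, 109, 111] (v4 C) [23, 28, 59, 72, 104, 110, 119] :=
  C.flip (f13944 C)

theorem f13946 : C.T (v18 C) [14, 46, 62, 71, 100, 110, 112] (v18 C) [14, 43, 60, 72, 102, 122] :=
  C.closeT (p := (v4 C)) (pu := [47, 58, 82, 104, 112])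
    (C.pT (f13943 C)
    (C.pH [12, 35, 50, 83] [14, 46, 62, 71, 100, 110, 112] (by decide +kernel) (C.pNil _ _)))
    (C.pH [12, 35, 50, 83] [14, 43, 53, 75, 96, 109, 111] (by decide +kernel)
    (C.pT (f13945 C)
    (C.pH [12, 35, 50, 83] [47, 58, 82, 104, 112] (by decide +kernel) (C.pNil _ _))))
    (C.loop_of_one (relLoop0 C) _ _)

theorem f13947 : C.T (v18 C) [14, 43, 60, 72, 102, 122] (v18 C) [14, 46, 62, 71, 100, 110, 112] :=
  C.flip (f13946 C)

theorem f13948 : C.T (v4 C) [10, 47, 51, 78, 102, 109, 125] (v18 C) [16, 38, 55, 89, 98, 109, 115] :=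
  C.conv (f7423 C) (f7483 C) (f7483 C) _ [135, 152, 165, 173, 178] _ (by decide +kernel) (by decide +kernel) (by decide +kernel)

theorem f13949 : C.S (v4 C) [26, 42, 68, 71, 107, 109, 113] :=
  C.stMul (f407 C) (f8343 C) _ (by decide +kernel)

theorem f13950 : C.T (v4 C) [8, 34, 63, 70, 92, 109] (v18 C) [4, 47, 60, 82, 93, 110, 123] :=
  C.conv (f7423 C) (f7483 C) (f13949 C) _ [138, 155, 171] _ (by decide +kernel) (by decide +kernel) (by decide +kernel)

theorem f13951 : C.T (v18 C) [4, 47, 60, 82, 93, 110, 123] (v4 C) [8, 34, 63, 70, 92, 109] :=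
  C.flip (f13950 C)

theorem f13952 : C.T (v18 C) [16, 48, 50, 74, 101, 109, 120] (v18 C) [26, 34, 64, 70, 98, 109, 117] :=
  C.closeT (p := (v4 C)) (pu := [10, 47, 51, 78, 102, 109, 125])
    (C.pT (f13948 C)
    (C.pH [12, 35, 50, 83] [16, 48, 50, 74, 101, 109, 120] (by decide +kernel) (C.pNil _ _)))
    (C.pH [12, 35, 50, 83] [4, 47, 60, 82, 93, 110, 123] (by decide +kernel)
    (C.pT (f13951 C)
    (C.pH [12, 35, 50, 83] [10, 47, 51, 78, 102, 109, 125] (by decide +kernel) (C.pNil _ _))))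
    (C.loop_of_one (relLoop0 C) _ _)

theorem f13956 : C.T (v4 C) [12, 41, 67, 81, 97, 115] (v18 C) [22, 45, 57, 105, 110, 125] :=
  C.conv (f7446 C) (f7469 C) (f7469 C) _ [134, 157, 170, 176] _ (by decide +kernel) (by decide +kernel) (by decide +kernel)

theorem f13957 : C.S (v4 C) [18, 46, 49, 75, 97, 110, 118] :=
  C.stMul (f407 C) (f407 C) _ (by decide +kernel)

theorem f13958 : C.S (v4 C) [16, 43, 64, 82, 90, 110, 123] :=
  C.stMul (f421 C) (f13957 C) _ (by decide +kernel)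

theorem f13959 : C.S (v4 C) [21, 60, 87, 91, 109, 120] :=
  C.stMul (f407 C) (f13958 C) _ (by decide +kernel)

theorem f13960 : C.S (v4 C) [13, 34, 59, 73, 105, 109, 115] :=
  C.stMul (f421 C) (f13959 C) _ (by decide +kernel)

theorem f13961 : C.T (v4 C) [42, 65, 88, 106, 110, 123] (v18 C) [5, 40, 62, 88, 100, 110, 125] :=
  C.conv (f11160 C) (f13694 C) (f13960 C) _ [129, 162, 172] _ (by decide +kernel) (by decide +kernel) (by decide +kernel)

theorem f13962 : C.T (v18 C) [5, 40, 62, 88, 100, 110, 125] (v4 C) [42, 65, 88, 106, 110, 123] :=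
  C.flip (f13961 C)

theorem f13963 : C.T (v18 C) [11, 47, 67, 72, 98] (v18 C) [5, 28, 62, 88, 100, 110, 125] :=
  C.closeT (p := (v4 C)) (pu := [12, 41, 67, 81, 97, 115])
    (C.pT (f13956 C)
    (C.pH [12, 35, 50, 83] [11, 47, 67, 72, 98] (by decide +kernel) (C.pNil _ _)))
    (C.pH [12, 35, 50, 83] [5, 40, 62, 88, 100, 110, 125] (by decide +kernel)
    (C.pT (f13962 C)
    (C.pH [12, 35, 50, 83] [12, 41, 67, 81, 97, 115] (by decide +kernel) (C.pNil _ _))))
    (C.loop_of_one (relLoop0 C) _ _)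

theorem f13964 : C.T (v18 C) [5, 28, 62, 88, 100, 110, 125] (v18 C) [11, 47, 67, 72, 98] :=
  C.flip (f13963 C)

theorem f13965 : C.T (v4 C) [12, 41, 57, 71, 90, 114] (v18 C) [22, 41, 88, 101, 110] :=
  C.conv (f7446 C) (f7469 C) (f7469 C) _ [134, 152, 170, 177] _ (by decide +kernel) (by decide +kernel) (by decide +kernel)

theorem f13966 : C.S (v4 C) [16, 43, 64, 82, 90, 110, 123] :=
  C.stMul (f421 C) (f13547 C) _ (by decide +kernel)

theorem f13967 : C.S (v4 C) [21, 60, 87, 91, 109, 120] :=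
  C.stMul (f407 C) (f13966 C) _ (by decide +kernel)

theorem f13968 : C.S (v4 C) [13, 34, 59, 73, 105, 109, 115] :=
  C.stMul (f421 C) (f13967 C) _ (by decide +kernel)

theorem f13969 : C.T (v4 C) [42, 66, 80] (v18 C) [13, 46, 60, 71, 97, 109, 118] :=
  C.conv (f10083 C) (f13548 C) (f13968 C) _ [137, 162, 172, 178] _ (by decide +kernel) (by decide +kernel) (by decide +kernel)

theorem f13970 : C.T (v18 C) [13, 46, 60, 71, 97, 109, 118] (v4 C) [42, 66, 80] :=
  C.flip (f13969 C)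

theorem f13971 : C.T (v18 C) [11, 46, 51, 74, 110, 114] (v18 C) [4, 34, 60, 71, 97, 109, 118] :=
  C.closeT (p := (v4 C)) (pu := [12, 41, 57, 71, 90, 114])
    (C.pT (f13965 C)
    (C.pH [12, 35, 50, 83] [11, 46, 51, 74, 110, 114] (by decide +kernel) (C.pNil _ _)))
    (C.pH [12, 35, 50, 83] [13, 46, 60, 71, 97, 109, 118] (by decide +kernel)
    (C.pT (f13970 C)
    (C.pH [12, 35, 50, 83] [12, 41, 57, 71, 90, 114] (by decide +kernel) (C.pNil _ _))))
    (C.loop_of_one (relLoop0 C) _ _)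

theorem f13974 : C.T (v4 C) [15, 46, 65, 78, 113] (v18 C) [5, 44, 54, 84, 100, 109, 111] :=
  C.conv (f7446 C) (f7469 C) (f7469 C) _ [137, 149, 167, 176] _ (by decide +kernel) (by decide +kernel) (by decide +kernel)

theorem f13975 : C.S (v4 C) [18, 37, 59, 73, 102, 116] :=
  C.stMul (f693 C) (f13624 C) _ (by decide +kernel)

theorem f13976 : C.S (v4 C) [16, 45, 55, 88, 103, 109, 115] :=
  C.stMul (f421 C) (f13975 C) _ (by decide +kernel)

theorem f13977 : C.T (v4 C) [15, 46, 51, 89, 90, 110, 115] (v18 C) [14, 45, 68, 74, 98, 110, 118] :=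
  C.conv (f7446 C) (f7469 C) (f13976 C) _ [137, 155, 168, 174] _ (by decide +kernel) (by decide +kernel) (by decide +kernel)

theorem f13978 : C.T (v18 C) [14, 45, 68, 74, 98, 110, 118] (v4 C) [15, 46, 51, 89, 90, 110, 115] :=
  C.flip (f13977 C)

theorem f13979 : C.T (v18 C) [5, 31, 49, 89, 96, 109, 114] (v18 C) [14, 38, 61, 86, 99, 112] :=
  C.closeT (p := (v4 C)) (pu := [15, 46, 65, 78, 113])
    (C.pT (f13974 C)
    (C.pH [12, 35, 50, 83] [5, 31, 49, 89, 96, 109, 114] (by decide +kernel) (C.pNil _ _)))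
    (C.pH [12, 35, 50, 83] [14, 45, 68, 74, 98, 110, 118] (by decide +kernel)
    (C.pT (f13978 C)
    (C.pH [12, 35, 50, 83] [15, 46, 65, 78, 113] (by decide +kernel) (C.pNil _ _))))
    (C.loop_of_one (relLoop0 C) _ _)

theorem f13982 : C.T (v4 C) [5, 30, 49, 89, 103, 109, 120] (v18 C) [14, 38, 65, 80, 103, 109, 119] :=
  C.conv (f7487 C) (f8474 C) (f8474 C) _ [140, 151, 164, 176] _ (by decide +kernel) (by decide +kernel) (by decide +kernel)

theorem f13983 : C.S (v4 C) [13, 28, 60, 83, 108, 110, 119] :=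
  C.stMul (f421 C) (f693 C) _ (by decide +kernel)

theorem f13984 : C.S (v4 C) [17, 45, 53, 80, 99, 109, 123] :=
  C.stMul (f407 C) (f13983 C) _ (by decide +kernel)

theorem f13985 : C.T (v4 C) [5, 46, 49, 89, 103, 109, 120] (v18 C) [14, 48, 64, 105, 112] :=
  C.conv (f13473 C) (f13984 C) (f407 C) _ [142, 163, 169, 175] _ (by decide +kernel) (by decide +kernel) (by decide +kernel)

theorem f13986 : C.T (v18 C) [14, 48, 64, 105, 112] (v4 C) [5, 46, 49, 89, 103, 109, 120] :=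
  C.flip (f13985 C)

theorem f13987 : C.T (v18 C) [14, 45, 54, 78, 124] (v18 C) [14, 45, 51, 78, 95, 110, 111] :=
  C.closeT (p := (v4 C)) (pu := [5, 30, 49, 89, 103, 109, 120])
    (C.pT (f13982 C)
    (C.pH [12, 35, 50, 83] [14, 45, 54, 78, 124] (by decide +kernel) (C.pNil _ _)))
    (C.pH [12, 35, 50, 83] [14, 48, 64, 105, 112] (by decide +kernel)
    (C.pT (f13986 C)
    (C.pH [12, 35, 50, 83] [5, 30, 49, 89, 103, 109, 120] (by decide +kernel) (C.pNil _ _))))
    (C.loop_of_one (relLoop0 C) _ _)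

theorem f13991 : C.T (v4 C) [14, 33, 56, 71, 123] (v18 C) [15, 43, 63, 72, 98, 110, 116] :=
  C.conv (f7487 C) (f8474 C) (f8474 C) _ [152, 164, 175, 178] _ (by decide +kernel) (by decide +kernel) (by decide +kernel)

theorem f13992 : C.T (v4 C) [14, 32, 50, 83, 100, 109, 115] (v18 C) [14, 28, 67, 77, 94, 110] :=
  C.conv (f7575 C) (f7630 C) (f8444 C) _ [142, 158, 167, 172, 177] _ (by decide +kernel) (by decide +kernel) (by decide +kernel)

theorem f13993 : C.T (v18 C) [14, 28, 67, 77, 94, 110] (v4 C) [14, 32, 50, 83, 100, 109, 115] :=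
  C.flip (f13992 C)

theorem f13994 : C.T (v18 C) [15, 31, 62, 87, 94, 115] (v18 C) [14, 30, 57, 72, 101, 109, 119] :=
  C.closeT (p := (v4 C)) (pu := [14, 33, 56, 71, 123])
    (C.pT (f13991 C)
    (C.pH [12, 35, 50, 83] [15, 31, 62, 87, 94, 115] (by decide +kernel) (C.pNil _ _)))
    (C.pH [12, 35, 50, 83] [14, 28, 67, 77, 94, 110] (by decide +kernel)
    (C.pT (f13993 C)
    (C.pH [12, 35, 50, 83] [14, 33, 56, 71, 123] (by decide +kernel) (C.pNil _ _))))
    (C.loop_of_one (relLoop0 C) _ _)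

theorem f13995 : C.T (v18 C) [14, 30, 57, 72, 101, 109, 119] (v18 C) [15, 31, 62, 87, 94, 115] :=
  C.flip (f13994 C)

theorem f13996 : C.T (v4 C) [16, 31, 60, 70, 108, 109, 117] (v18 C) [9, 64, 89, 98, 109, 122] :=
  C.conv (f7520 C) (f8781 C) (f8781 C) _ [142, 149, 170, 173] _ (by decide +kernel) (by decide +kernel) (by decide +kernel)

theorem f13997 : C.T (v4 C) [16, 31, 60, 71, 107, 110, 122] (v18 C) [19, 39, 67, 74, 99, 109, 117] :=
  C.conv (f7575 C) (f7630 C) (f10037 C) _ [126, 156, 165, 172, 177] _ (by decide +kernel) (by decide +kernel) (by decide +kernel)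

theorem f13998 : C.T (v18 C) [19, 39, 67, 74, 99, 109, 117] (v4 C) [16, 31, 60, 71, 107, 110, 122] :=
  C.flip (f13997 C)

theorem f13999 : C.T (v18 C) [17, 35, 65, 77, 107, 110, 118] (v18 C) [6, 42, 64, 75, 90, 110, 124] :=
  C.closeT (p := (v4 C)) (pu := [16, 31, 60, 70, 108, 109, 117])
    (C.pT (f13996 C)
    (C.pH [12, 35, 50, 83] [17, 35, 65, 77, 107, 110, 118] (by decide +kernel) (C.pNil _ _)))
    (C.pH [12, 35, 50, 83] [19, 39, 67, 74, 99, 109, 117] (by decide +kernel)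
    (C.pT (f13998 C)
    (C.pH [12, 35, 50, 83] [16, 31, 60, 70, 108, 109, 117] (by decide +kernel) (C.pNil _ _))))
    (C.loop_of_one (relLoop0 C) _ _)

theorem f14000 : C.T (v18 C) [6, 42, 64, 75, 90, 110, 124] (v18 C) [17, 35, 65, 77, 107, 110, 118] :=
  C.flip (f13999 C)

theorem f14001 : C.T (v4 C) [21, 43, 59, 85, 93, 110, 123] (v18 C) [26, 48, 68, 81, 96, 110, 118] :=
  C.conv (f7520 C) (f8781 C) (f8781 C) _ [129, 149, 168, 173] _ (by decide +kernel) (by decide +kernel) (by decide +kernel)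

theorem f14002 : C.S (v4 C) [10, 27, 56, 84, 93, 109, 113] :=
  C.stMul (f407 C) (f421 C) _ (by decide +kernel)

theorem f14003 : C.S (v4 C) [16, 32, 68, 79, 93, 110, 124] :=
  C.stMul (f407 C) (f14002 C) _ (by decide +kernel)

theorem f14004 : C.S (v4 C) [18, 44, 51, 79, 106, 114] :=
  C.stMul (f421 C) (f14003 C) _ (by decide +kernel)

theorem f14005 : C.S (v4 C) [23, 52, 80, 95, 123] :=
  C.stMul (f407 C) (f14004 C) _ (by decide +kernel)

theorem f14006 : C.T (v4 C) [10, 43, 65, 77, 102, 121] (v18 C) [6, 44, 57, 87, 107, 124] :=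
  C.conv (f8516 C) (f12206 C) (f14005 C) _ [144, 157, 164, 172, 178] _ (by decide +kernel) (by decide +kernel) (by decide +kernel)

theorem f14007 : C.T (v18 C) [6, 44, 57, 87, 107, 124] (v4 C) [10, 43, 65, 77, 102, 121] :=
  C.flip (f14006 C)

theorem f14008 : C.T (v18 C) [4, 38, 61, 80, 99, 110, 112] (v18 C) [24, 34, 64, 82, 104, 116] :=
  C.closeT (p := (v4 C)) (pu := [21, 43, 59, 85, 93, 110, 123])
    (C.pT (f14001 C)
    (C.pH [12, 35, 50, 83] [4, 38, 61, 80, 99, 110, 112] (by decide +kernel) (C.pNil _ _)))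
    (C.pH [12, 35, 50, 83] [6, 44, 57, 87, 107, 124] (by decide +kernel)
    (C.pT (f14007 C)
    (C.pH [12, 35, 50, 83] [21, 43, 59, 85, 93, 110, 123] (by decide +kernel) (C.pNil _ _))))
    (C.loop_of_one (relLoop0 C) _ _)

theorem f14009 : C.T (v18 C) [24, 34, 64, 82, 104, 116] (v18 C) [4, 38, 61, 80, 99, 110, 112] :=
  C.flip (f14008 C)

theorem f14010 : C.T (v4 C) [9, 42, 64, 82, 95, 112] (v18 C) [23, 58, 82, 90, 110] :=
  C.conv (f7520 C) (f8781 C) (f8781 C) _ [138, 158, 169, 176, 178] _ (by decide +kernel) (by decide +kernel) (by decide +kernel)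

theorem f14011 : C.S (v4 C) [13, 44, 51, 82, 106, 110, 111] :=
  C.stMul (f407 C) (f8473 C) _ (by decide +kernel)

theorem f14012 : C.S (v4 C) [21, 35, 69, 73, 94, 109, 122] :=
  C.stMul (f421 C) (f14011 C) _ (by decide +kernel)

theorem f14013 : C.S (v4 C) [18, 37, 59, 73, 102, 116] :=
  C.stMul (f693 C) (f14012 C) _ (by decide +kernel)

theorem f14014 : C.T (v4 C) [25, 32, 54, 75, 100, 110, 120] (v18 C) [5, 47, 49, 78, 99, 109, 122] :=
  C.conv (f7487 C) (f8474 C) (f14013 C) _ [146, 152, 169, 175] _ (by decide +kernel) (by decide +kernel) (by decide +kernel)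

theorem f14015 : C.T (v18 C) [5, 47, 49, 78, 99, 109, 122] (v4 C) [25, 32, 54, 75, 100, 110, 120] :=
  C.flip (f14014 C)

theorem f14016 : C.T (v18 C) [27, 51, 75, 109, 111] (v18 C) [5, 37, 61, 82, 94, 109, 111] :=
  C.closeT (p := (v4 C)) (pu := [9, 42, 64, 82, 95, 112])
    (C.pT (f14010 C)
    (C.pH [12, 35, 50, 83] [27, 51, 75, 109, 111] (by decide +kernel) (C.pNil _ _)))
    (C.pH [12, 35, 50, 83] [5, 47, 49, 78, 99, 109, 122] (by decide +kernel)
    (C.pT (f14015 C)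
    (C.pH [12, 35, 50, 83] [9, 42, 64, 82, 95, 112] (by decide +kernel) (C.pNil _ _))))
    (C.loop_of_one (relLoop0 C) _ _)

theorem f14019 : C.T (v4 C) [14, 69, 77, 100, 112] (v18 C) [18, 34, 66, 82, 100, 109] :=
  C.conv (f7520 C) (f8781 C) (f8781 C) _ [146, 161, 178] _ (by decide +kernel) (by decide +kernel) (by decide +kernel)

theorem f14020 : C.S (v4 C) [23, 41, 49, 78, 91, 109] :=
  C.stMul (f693 C) (f421 C) _ (by decide +kernel)

theorem f14021 : C.S (v4 C) [26, 36, 62, 77, 94, 121] :=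
  C.stMul (f421 C) (f14020 C) _ (by decide +kernel)

theorem f14022 : C.T (v4 C) [14, 28, 50, 70, 104] (v18 C) [18, 44, 66, 99, 110, 118] :=
  C.conv (f7605 C) (f8757 C) (f14021 C) _ [145, 158, 170, 171, 177] _ (by decide +kernel) (by decide +kernel) (by decide +kernel)

theorem f14023 : C.T (v18 C) [18, 44, 66, 99, 110, 118] (v4 C) [14, 28, 50, 70, 104] :=
  C.flip (f14022 C)

theorem f14024 : C.T (v18 C) [18, 41, 52, 83, 104, 109, 120] (v18 C) [18, 43, 99, 110, 118] :=
  C.closeT (p := (v4 C)) (pu := [14, 69, 77, 100, 112])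
    (C.pT (f14019 C)
    (C.pH [12, 35, 50, 83] [18, 41, 52, 83, 104, 109, 120] (by decide +kernel) (C.pNil _ _)))
    (C.pH [12, 35, 50, 83] [18, 44, 66, 99, 110, 118] (by decide +kernel)
    (C.pT (f14023 C)
    (C.pH [12, 35, 50, 83] [14, 69, 77, 100, 112] (by decide +kernel) (C.pNil _ _))))
    (C.loop_of_one (relLoop0 C) _ _)

theorem f14026 : C.S (v18 C) [26, 43, 49, 77, 91, 110, 115] :=
  C.stMul (f6836 C) (f6836 C) _ (by decide +kernel)

theorem f14028 : C.T (v4 C) [4, 35, 58, 82, 97, 114] (v18 C) [4, 41, 52, 79, 92, 112] :=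
  C.conv (f7575 C) (f7630 C) (f7630 C) _ [133, 163, 170, 177] _ (by decide +kernel) (by decide +kernel) (by decide +kernel)

theorem f14029 : C.T (v4 C) [26, 37, 59, 80, 106, 109, 120] (v18 C) [24, 42, 60, 76, 91, 109, 120] :=
  C.conv (f10083 C) (f13548 C) (f13810 C) _ [133, 160, 168, 175] _ (by decide +kernel) (by decide +kernel) (by decide +kernel)

theorem f14030 : C.T (v18 C) [24, 42, 60, 76, 91, 109, 120] (v4 C) [26, 37, 59, 80, 106, 109, 120] :=
  C.flip (f14029 C)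

theorem f14031 : C.T (v18 C) [13, 43, 52, 79, 92, 112] (v18 C) [19, 34, 51, 79, 108, 112] :=
  C.closeT (p := (v4 C)) (pu := [4, 35, 58, 82, 97, 114])
    (C.pT (f14028 C)
    (C.pH [12, 35, 50, 83] [13, 43, 52, 79, 92, 112] (by decide +kernel) (C.pNil _ _)))
    (C.pH [12, 35, 50, 83] [24, 42, 60, 76, 91, 109, 120] (by decide +kernel)
    (C.pT (f14030 C)
    (C.pH [12, 35, 50, 83] [4, 35, 58, 82, 97, 114] (by decide +kernel) (C.pNil _ _))))
    (C.loop_of_one (relLoop0 C) _ _)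

theorem f14035 : C.T (v4 C) [20, 48, 50, 76, 101, 110, 112] (v18 C) [18, 46, 53, 70, 96, 122] :=
  C.conv (f7605 C) (f8757 C) (f8757 C) _ [142, 160, 166, 175, 177] _ (by decide +kernel) (by decide +kernel) (by decide +kernel)

theorem f14036 : C.S (v4 C) [10, 27, 56, 84, 93, 109, 113] :=
  C.stMul (f407 C) (f421 C) _ (by decide +kernel)

theorem f14037 : C.S (v4 C) [16, 32, 68, 79, 93, 110, 124] :=
  C.stMul (f407 C) (f14036 C) _ (by decide +kernel)

theorem f14038 : C.S (v4 C) [18, 46, 49, 75, 97, 110, 118] :=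
  C.stMul (f407 C) (f407 C) _ (by decide +kernel)

theorem f14039 : C.S (v4 C) [23, 45, 57, 77, 95, 110, 118] :=
  C.stMul (f407 C) (f14038 C) _ (by decide +kernel)

theorem f14040 : C.S (v4 C) [26, 43, 63, 73, 104, 112] :=
  C.stMul (f421 C) (f14039 C) _ (by decide +kernel)

theorem f14041 : C.S (v4 C) [25, 46, 61, 102, 110, 119] :=
  C.stMul (f407 C) (f14040 C) _ (by decide +kernel)

theorem f14042 : C.T (v4 C) [11, 34, 61, 78, 102, 109, 122] (v18 C) [20, 29, 56, 75, 92, 115] :=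
  C.conv (f10822 C) (f14037 C) (f14041 C) _ [141, 155, 168, 176] _ (by decide +kernel) (by decide +kernel) (by decide +kernel)

theorem f14043 : C.T (v18 C) [20, 29, 56, 75, 92, 115] (v4 C) [11, 34, 61, 78, 102, 109, 122] :=
  C.flip (f14042 C)

theorem f14044 : C.T (v18 C) [18, 33, 54, 99, 116] (v18 C) [11, 38, 54, 89, 105, 109, 113] :=
  C.closeT (p := (v4 C)) (pu := [20, 48, 50, 76, 101, 110, 112])
    (C.pT (f14035 C)
    (C.pH [12, 35, 50, 83] [18, 33, 54, 99, 116] (by decide +kernel) (C.pNil _ _)))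
    (C.pH [12, 35, 50, 83] [20, 29, 56, 75, 92, 115] (by decide +kernel)
    (C.pT (f14043 C)
    (C.pH [12, 35, 50, 83] [20, 48, 50, 76, 101, 110, 112] (by decide +kernel) (C.pNil _ _))))
    (C.loop_of_one (relLoop0 C) _ _)

theorem f14047 : C.T (v4 C) [6, 27, 49, 86, 98, 110] (v18 C) [9, 43, 51, 74, 99, 121] :=
  C.conv (f7605 C) (f8757 C) (f8757 C) _ [128, 155, 173, 177] _ (by decide +kernel) (by decide +kernel) (by decide +kernel)

theorem f14048 : C.S (v4 C) [18, 46, 49, 75, 97, 110, 118] :=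
  C.stMul (f407 C) (f407 C) _ (by decide +kernel)

theorem f14049 : C.S (v4 C) [23, 45, 57, 77, 95, 110, 118] :=
  C.stMul (f407 C) (f14048 C) _ (by decide +kernel)

theorem f14050 : C.T (v4 C) [24, 27, 83, 108, 110, 112] (v18 C) [8, 39, 60, 84, 99, 111] :=
  C.conv (f10153 C) (f11483 C) (f14049 C) _ [129, 151, 170] _ (by decide +kernel) (by decide +kernel) (by decide +kernel)

theorem f14051 : C.T (v18 C) [8, 39, 60, 84, 99, 111] (v4 C) [24, 27, 83, 108, 110, 112] :=
  C.flip (f14050 C)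

theorem f14052 : C.T (v18 C) [17, 45, 52, 70, 109, 113] (v18 C) [21, 28, 61, 84, 93, 110, 122] :=
  C.closeT (p := (v4 C)) (pu := [6, 27, 49, 86, 98, 110])
    (C.pT (f14047 C)
    (C.pH [12, 35, 50, 83] [17, 45, 52, 70, 109, 113] (by decide +kernel) (C.pNil _ _)))
    (C.pH [12, 35, 50, 83] [8, 39, 60, 84, 99, 111] (by decide +kernel)
    (C.pT (f14051 C)
    (C.pH [12, 35, 50, 83] [6, 27, 49, 86, 98, 110] (by decide +kernel) (C.pNil _ _))))
    (C.loop_of_one (relLoop0 C) _ _)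

theorem f14053 : C.T (v18 C) [21, 28, 61, 84, 93, 110, 122] (v18 C) [17, 45, 52, 70, 109, 113] :=
  C.flip (f14052 C)

theorem f14054 : C.T (v4 C) [5, 39, 49, 97, 113] (v18 C) [20, 31, 80, 98, 109, 122] :=
  C.conv (f7891 C) (f8521 C) (f8521 C) _ [145, 158, 164, 175, 178] _ (by decide +kernel) (by decide +kernel) (by decide +kernel)

theorem f14055 : C.T (v4 C) [5, 40, 56, 76, 98, 110, 120] (v18 C) [18, 29, 61, 85, 103, 110, 116] :=
  C.conv (f8235 C) (f8735 C) (f8733 C) _ [142, 152, 178] _ (by decide +kernel) (by decide +kernel) (by decide +kernel)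

theorem f14056 : C.T (v18 C) [18, 29, 61, 85, 103, 110, 116] (v4 C) [5, 40, 56, 76, 98, 110, 120] :=
  C.flip (f14055 C)

theorem f14057 : C.T (v18 C) [22, 45, 60, 74, 102, 109, 123] (v18 C) [18, 45, 65, 72, 91, 112] :=
  C.closeT (p := (v4 C)) (pu := [5, 39, 49, 97, 113])
    (C.pT (f14054 C)
    (C.pH [12, 35, 50, 83] [22, 45, 60, 74, 102, 109, 123] (by decide +kernel) (C.pNil _ _)))
    (C.pH [12, 35, 50, 83] [18, 29, 61, 85, 103, 110, 116] (by decide +kernel)
    (C.pT (f14056 C)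
    (C.pH [12, 35, 50, 83] [5, 39, 49, 97, 113] (by decide +kernel) (C.pNil _ _))))
    (C.loop_of_one (relLoop0 C) _ _)

theorem f14058 : C.T (v18 C) [18, 45, 65, 72, 91, 112] (v18 C) [22, 45, 60, 74, 102, 109, 123] :=
  C.flip (f14057 C)

theorem f14059 : C.T (v4 C) [11, 48, 49, 88, 109, 121] (v18 C) [25, 33, 59, 80, 97, 109, 120] :=
  C.conv (f8053 C) (f8487 C) (f8487 C) _ [126, 154, 167, 171, 177] _ (by decide +kernel) (by decide +kernel) (by decide +kernel)

theorem f14060 : C.T (v4 C) [22, 31, 60, 76, 92, 110, 116] (v18 C) [19, 40, 67, 87, 104, 109] :=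
  C.conv (f7891 C) (f8521 C) (f693 C) _ [139, 156, 168, 174, 178] _ (by decide +kernel) (by decide +kernel) (by decide +kernel)

theorem f14061 : C.T (v18 C) [19, 40, 67, 87, 104, 109] (v4 C) [22, 31, 60, 76, 92, 110, 116] :=
  C.flip (f14060 C)

theorem f14062 : C.T (v18 C) [9, 46, 59, 93, 117] (v18 C) [6, 38, 64, 89, 96, 110, 125] :=
  C.closeT (p := (v4 C)) (pu := [11, 48, 49, 88, 109, 121])
    (C.pT (f14059 C)
    (C.pH [12, 35, 50, 83] [9, 46, 59, 93, 117] (by decide +kernel) (C.pNil _ _)))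
    (C.pH [12, 35, 50, 83] [19, 40, 67, 87, 104, 109] (by decide +kernel)
    (C.pT (f14061 C)
    (C.pH [12, 35, 50, 83] [11, 48, 49, 88, 109, 121] (by decide +kernel) (C.pNil _ _))))
    (C.loop_of_one (relLoop0 C) _ _)

theorem f14063 : C.T (v18 C) [6, 38, 64, 89, 96, 110, 125] (v18 C) [9, 46, 59, 93, 117] :=
  C.flip (f14062 C)

theorem f14064 : C.T (v4 C) [19, 45, 50, 94, 109, 116] (v18 C) [11, 31, 65, 87, 105, 110] :=
  C.conv (f8053 C) (f8487 C) (f8487 C) _ [140, 157, 169, 171, 178] _ (by decide +kernel) (by decide +kernel) (by decide +kernel)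

theorem f14065 : C.T (v4 C) [6, 28, 62, 72, 107, 110, 119] (v18 C) [17, 46, 60, 75, 102, 110, 123] :=
  C.conv (f8246 C) (f8275 C) (f407 C) _ [148, 158, 176] _ (by decide +kernel) (by decide +kernel) (by decide +kernel)

theorem f14066 : C.T (v18 C) [17, 46, 60, 75, 102, 110, 123] (v4 C) [6, 28, 62, 72, 107, 110, 119] :=
  C.flip (f14065 C)

theorem f14067 : C.T (v18 C) [20, 41, 69, 83, 105, 110] (v18 C) [9, 32, 65, 75, 102, 110, 123] :=
  C.closeT (p := (v4 C)) (pu := [19, 45, 50, 94, 109, 116])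
    (C.pT (f14064 C)
    (C.pH [12, 35, 50, 83] [20, 41, 69, 83, 105, 110] (by decide +kernel) (C.pNil _ _)))
    (C.pH [12, 35, 50, 83] [17, 46, 60, 75, 102, 110, 123] (by decide +kernel)
    (C.pT (f14066 C)
    (C.pH [12, 35, 50, 83] [19, 45, 50, 94, 109, 116] (by decide +kernel) (C.pNil _ _))))
    (C.loop_of_one (relLoop0 C) _ _)

theorem f14071 : C.T (v4 C) [12, 37, 64, 84, 105, 110, 119] (v18 C) [15, 44, 57, 85, 91, 109, 114] :=
  C.conv (f8235 C) (f8735 C) (f8735 C) _ [130, 162, 164, 178] _ (by decide +kernel) (by decide +kernel) (by decide +kernel)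

theorem f14072 : C.S (v4 C) [16, 43, 64, 82, 90, 110, 123] :=
  C.stMul (f421 C) (f14048 C) _ (by decide +kernel)

theorem f14073 : C.S (v4 C) [21, 60, 87, 91, 109, 120] :=
  C.stMul (f407 C) (f14072 C) _ (by decide +kernel)

theorem f14074 : C.S (v4 C) [8, 48, 61, 83, 103, 117] :=
  C.stMul (f407 C) (f14073 C) _ (by decide +kernel)

theorem f14075 : C.T (v4 C) [37, 64, 71, 94, 113] (v18 C) [21, 63, 86, 93, 120] :=
  C.conv (f10153 C) (f11483 C) (f14074 C) _ [134, 150, 164, 175] _ (by decide +kernel) (by decide +kernel) (by decide +kernel)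

theorem f14076 : C.T (v18 C) [21, 63, 86, 93, 120] (v4 C) [37, 64, 71, 94, 113] :=
  C.flip (f14075 C)

theorem f14077 : C.T (v18 C) [15, 43, 67, 83, 98, 110, 117] (v18 C) [10, 34, 69, 86, 93, 120] :=
  C.closeT (p := (v4 C)) (pu := [12, 37, 64, 84, 105, 110, 119])
    (C.pT (f14071 C)
    (C.pH [12, 35, 50, 83] [15, 43, 67, 83, 98, 110, 117] (by decide +kernel) (C.pNil _ _)))
    (C.pH [12, 35, 50, 83] [21, 63, 86, 93, 120] (by decide +kernel)
    (C.pT (f14076 C)
    (C.pH [12, 35, 50, 83] [12, 37, 64, 84, 105, 110, 119] (by decide +kernel) (C.pNil _ _))))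
    (C.loop_of_one (relLoop0 C) _ _)

theorem f14078 : C.T (v18 C) [10, 34, 69, 86, 93, 120] (v18 C) [15, 43, 67, 83, 98, 110, 117] :=
  C.flip (f14077 C)

theorem f14079 : C.T (v4 C) [5, 45, 66, 85, 94, 109, 115] (v18 C) [5, 39, 85, 108, 110, 121] :=
  C.conv (f8246 C) (f8275 C) (f8275 C) _ [139, 150, 167, 171, 178] _ (by decide +kernel) (by decide +kernel) (by decide +kernel)

theorem f14080 : C.T (v4 C) [5, 45, 66, 88, 98, 115] (v10 C) [24, 37, 52, 75, 94, 109, 123] :=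
  C.conv (f1798 C) (f1856 C) (f1939 C) _ [141, 153, 164, 172, 177] _ (by decide +kernel) (by decide +kernel) (by decide +kernel)

theorem f14081 : C.T (v10 C) [24, 37, 52, 75, 94, 109, 123] (v4 C) [5, 45, 66, 88, 98, 115] :=
  C.flip (f14080 C)

theorem f14082 : C.T (v18 C) [5, 28, 68, 99, 115] (v10 C) [19, 32, 61, 88, 90, 119] :=
  C.closeT (p := (v4 C)) (pu := [5, 45, 66, 85, 94, 109, 115])
    (C.pT (f14079 C)
    (C.pH [12, 35, 50, 83] [5, 28, 68, 99, 115] (by decide +kernel) (C.pNil _ _)))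
    (C.pH [12, 35, 50, 83] [24, 37, 52, 75, 94, 109, 123] (by decide +kernel)
    (C.pT (f14081 C)
    (C.pH [12, 35, 50, 83] [5, 45, 66, 85, 94, 109, 115] (by decide +kernel) (C.pNil _ _))))
    (C.loop_of_one (relLoop0 C) _ _)

theorem f14083 : C.T (v10 C) [19, 32, 61, 88, 90, 119] (v18 C) [5, 28, 68, 99, 115] :=
  C.flip (f14082 C)

theorem f14084 : C.T (v4 C) [23, 48, 69, 73, 106, 110, 121] (v18 C) [4, 37, 59, 83, 99, 116] :=
  C.conv (f8315 C) (f8537 C) (f8537 C) _ [129, 149, 166, 175, 178] _ (by decide +kernel) (by decide +kernel) (by decide +kernel)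

theorem f14085 : C.S (v4 C) [23, 41, 49, 78, 91, 109] :=
  C.stMul (f693 C) (f421 C) _ (by decide +kernel)

theorem f14086 : C.T (v4 C) [12, 48, 69, 87, 97, 111] (v18 C) [17, 39, 60, 74, 99, 110, 123] :=
  C.conv (f8315 C) (f8537 C) (f14085 C) _ [134, 152, 170, 172] _ (by decide +kernel) (by decide +kernel) (by decide +kernel)

theorem f14087 : C.T (v18 C) [17, 39, 60, 74, 99, 110, 123] (v4 C) [12, 48, 69, 87, 97, 111] :=
  C.flip (f14086 C)

theorem f14088 : C.T (v18 C) [13, 47, 60, 76, 101, 119] (v18 C) [9, 45, 61, 82, 99, 109, 117] :=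
  C.closeT (p := (v4 C)) (pu := [23, 48, 69, 73, 106, 110, 121])
    (C.pT (f14084 C)
    (C.pH [12, 35, 50, 83] [13, 47, 60, 76, 101, 119] (by decide +kernel) (C.pNil _ _)))
    (C.pH [12, 35, 50, 83] [17, 39, 60, 74, 99, 110, 123] (by decide +kernel)
    (C.pT (f14087 C)
    (C.pH [12, 35, 50, 83] [23, 48, 69, 73, 106, 110, 121] (by decide +kernel) (C.pNil _ _))))
    (C.loop_of_one (relLoop0 C) _ _)

theorem f14092 : C.T (v4 C) [9, 31, 61, 109, 118] (v18 C) [14, 45, 55, 78, 99, 109] :=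
  C.conv (f8315 C) (f8537 C) (f8537 C) _ [143, 154, 167, 171, 178] _ (by decide +kernel) (by decide +kernel) (by decide +kernel)

theorem f14093 : C.S (v4 C) [26, 44, 64, 94, 121] :=
  C.stMul (f693 C) (f12192 C) _ (by decide +kernel)

theorem f14094 : C.T (v4 C) [25, 48, 54, 75, 102, 111] (v18 C) [14, 46, 55, 86, 98, 120] :=
  C.conv (f8339 C) (f8769 C) (f14093 C) _ [136, 156, 170, 172, 178] _ (by decide +kernel) (by decide +kernel) (by decide +kernel)

theorem f14095 : C.T (v18 C) [14, 46, 55, 86, 98, 120] (v4 C) [25, 48, 54, 75, 102, 111] :=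
  C.flip (f14094 C)

theorem f14096 : C.T (v18 C) [14, 48, 51, 88, 105, 109, 124] (v18 C) [14, 29, 49, 82, 96, 110, 113] :=
  C.closeT (p := (v4 C)) (pu := [9, 31, 61, 109, 118])
    (C.pT (f14092 C)
    (C.pH [12, 35, 50, 83] [14, 48, 51, 88, 105, 109, 124] (by decide +kernel) (C.pNil _ _)))
    (C.pH [12, 35, 50, 83] [14, 46, 55, 86, 98, 120] (by decide +kernel)
    (C.pT (f14095 C)
    (C.pH [12, 35, 50, 83] [9, 31, 61, 109, 118] (by decide +kernel) (C.pNil _ _))))
    (C.loop_of_one (relLoop0 C) _ _)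

theorem f14097 : C.T (v18 C) [14, 29, 49, 82, 96, 110, 113] (v18 C) [14, 48, 51, 88, 105, 109, 124] :=
  C.flip (f14096 C)

theorem f14098 : C.T (v4 C) [14, 28, 66, 84, 110, 122] (v18 C) [7, 33, 58, 86, 98, 110, 123] :=
  C.conv (f8315 C) (f8537 C) (f8537 C) _ [127, 158, 166, 174] _ (by decide +kernel) (by decide +kernel) (by decide +kernel)

theorem f14099 : C.S (v4 C) [13, 44, 51, 82, 106, 110, 111] :=
  C.stMul (f407 C) (f13458 C) _ (by decide +kernel)

theorem f14100 : C.S (v4 C) [21, 35, 69, 73, 94, 109, 122] :=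
  C.stMul (f421 C) (f14099 C) _ (by decide +kernel)

theorem f14101 : C.S (v4 C) [18, 37, 59, 73, 102, 116] :=
  C.stMul (f693 C) (f14100 C) _ (by decide +kernel)

theorem f14102 : C.S (v4 C) [16, 45, 55, 88, 103, 109, 115] :=
  C.stMul (f421 C) (f14101 C) _ (by decide +kernel)

theorem f14103 : C.T (v4 C) [14, 30, 68, 81, 101, 110, 124] (v18 C) [12, 41, 59, 73, 95, 120] :=
  C.conv (f8315 C) (f8537 C) (f14102 C) _ [137, 154, 169, 173, 178] _ (by decide +kernel) (by decide +kernel) (by decide +kernel)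

theorem f14104 : C.T (v18 C) [12, 41, 59, 73, 95, 120] (v4 C) [14, 30, 68, 81, 101, 110, 124] :=
  C.flip (f14103 C)

theorem f14105 : C.T (v18 C) [7, 46, 56, 70, 91, 110, 122] (v18 C) [42, 57, 70, 115] :=
  C.closeT (p := (v4 C)) (pu := [14, 28, 66, 84, 110, 122])
    (C.pT (f14098 C)
    (C.pH [12, 35, 50, 83] [7, 46, 56, 70, 91, 110, 122] (by decide +kernel) (C.pNil _ _)))
    (C.pH [12, 35, 50, 83] [12, 41, 59, 73, 95, 120] (by decide +kernel)
    (C.pT (f14104 C)
    (C.pH [12, 35, 50, 83] [14, 28, 66, 84, 110, 122] (by decide +kernel) (C.pNil _ _))))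
    (C.loop_of_one (relLoop0 C) _ _)

theorem f14108 : C.T (v4 C) [7, 45, 62, 73, 103, 109] (v18 C) [19, 36, 64, 76, 100, 110, 124] :=
  C.conv (f8441 C) (f421 C) (f421 C) _ [139, 162, 165, 178] _ (by decide +kernel) (by decide +kernel) (by decide +kernel)

theorem f14109 : C.S (v4 C) [8, 31, 60, 85, 98, 110, 125] :=
  C.stMul (f693 C) (f407 C) _ (by decide +kernel)

theorem f14110 : C.T (v4 C) [7, 41, 49, 87, 96, 109] (v18 C) [21, 44, 55, 70, 98, 109, 121] :=
  C.conv (f11160 C) (f13694 C) (f14109 C) _ [129, 151, 166, 171] _ (by decide +kernel) (by decide +kernel) (by decide +kernel)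

theorem f14111 : C.T (v18 C) [21, 44, 55, 70, 98, 109, 121] (v4 C) [7, 41, 49, 87, 96, 109] :=
  C.flip (f14110 C)

theorem f14112 : C.T (v18 C) [24, 45, 69, 84, 104, 123] (v18 C) [10, 40, 66, 98, 115] :=
  C.closeT (p := (v4 C)) (pu := [7, 45, 62, 73, 103, 109])
    (C.pT (f14108 C)
    (C.pH [12, 35, 50, 83] [24, 45, 69, 84, 104, 123] (by decide +kernel) (C.pNil _ _)))
    (C.pH [12, 35, 50, 83] [21, 44, 55, 70, 98, 109, 121] (by decide +kernel)
    (C.pT (f14111 C)
    (C.pH [12, 35, 50, 83] [7, 45, 62, 73, 103, 109] (by decide +kernel) (C.pNil _ _))))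
    (C.loop_of_one (relLoop0 C) _ _)

theorem f14113 : C.T (v18 C) [10, 40, 66, 98, 115] (v18 C) [24, 45, 69, 84, 104, 123] :=
  C.flip (f14112 C)

theorem f14114 : C.T (v4 C) [32, 96, 119] (v18 C) [8, 58, 77, 101, 125] :=
  C.conv (f8441 C) (f421 C) (f421 C) _ [148, 151, 165] _ (by decide +kernel) (by decide +kernel) (by decide +kernel)

theorem f14115 : C.S (v4 C) [25, 47, 59, 76, 103, 109, 113] :=
  C.stMul (f421 C) (f13641 C) _ (by decide +kernel)

theorem f14116 : C.S (v4 C) [13, 41, 65, 83, 103, 110, 118] :=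
  C.stMul (f693 C) (f14115 C) _ (by decide +kernel)

theorem f14117 : C.S (v4 C) [21, 41, 64, 81, 97, 110, 115] :=
  C.stMul (f421 C) (f14116 C) _ (by decide +kernel)

theorem f14118 : C.T (v4 C) [23, 33, 62, 74, 103, 109, 116] (v18 C) [22, 46, 55, 75, 92, 125] :=
  C.conv (f10219 C) (f421 C) (f14117 C) _ [134, 163, 165, 175, 178] _ (by decide +kernel) (by decide +kernel) (by decide +kernel)

theorem f14119 : C.T (v18 C) [22, 46, 55, 75, 92, 125] (v4 C) [23, 33, 62, 74, 103, 109, 116] :=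
  C.flip (f14118 C)

theorem f14120 : C.T (v18 C) [10, 35, 68, 82, 92, 109, 124] (v18 C) [20, 44, 55, 75, 92, 125] :=
  C.closeT (p := (v4 C)) (pu := [32, 96, 119])
    (C.pT (f14114 C)
    (C.pH [12, 35, 50, 83] [10, 35, 68, 82, 92, 109, 124] (by decide +kernel) (C.pNil _ _)))
    (C.pH [12, 35, 50, 83] [22, 46, 55, 75, 92, 125] (by decide +kernel)
    (C.pT (f14119 C)
    (C.pH [12, 35, 50, 83] [32, 96, 119] (by decide +kernel) (C.pNil _ _))))
    (C.loop_of_one (relLoop0 C) _ _)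

theorem f14124 : C.T (v4 C) [19, 38, 49, 84, 104, 121] (v18 C) [10, 43, 65, 76, 107, 109, 114] :=
  C.conv (f8516 C) (f12206 C) (f12206 C) _ [130, 149, 170, 177] _ (by decide +kernel) (by decide +kernel) (by decide +kernel)

theorem f14125 : C.S (v4 C) [17, 41, 87, 92, 116] :=
  C.stMul (f693 C) (f12093 C) _ (by decide +kernel)

theorem f14126 : C.T (v4 C) [6, 43, 66, 79, 107, 125] (v18 C) [5, 32, 54, 73, 105, 109, 115] :=
  C.conv (f7605 C) (f8757 C) (f14125 C) _ [141, 157, 170, 176] _ (by decide +kernel) (by decide +kernel) (by decide +kernel)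

theorem f14127 : C.T (v18 C) [5, 32, 54, 73, 105, 109, 115] (v4 C) [6, 43, 66, 79, 107, 125] :=
  C.flip (f14126 C)

theorem f14128 : C.T (v18 C) [21, 43, 59, 78, 97, 125] (v18 C) [5, 27, 54, 73, 99, 109, 114] :=
  C.closeT (p := (v4 C)) (pu := [19, 38, 49, 84, 104, 121])
    (C.pT (f14124 C)
    (C.pH [12, 35, 50, 83] [21, 43, 59, 78, 97, 125] (by decide +kernel) (C.pNil _ _)))
    (C.pH [12, 35, 50, 83] [5, 32, 54, 73, 105, 109, 115] (by decide +kernel)
    (C.pT (f14127 C)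
    (C.pH [12, 35, 50, 83] [19, 38, 49, 84, 104, 121] (by decide +kernel) (C.pNil _ _))))
    (C.loop_of_one (relLoop0 C) _ _)

theorem f14132 : C.T (v4 C) [40, 55, 75, 110, 117] (v18 C) [6, 43, 61, 70, 95, 122] :=
  C.conv (f8516 C) (f12206 C) (f12206 C) _ [144, 159, 166, 172, 178] _ (by decide +kernel) (by decide +kernel) (by decide +kernel)

theorem f14133 : C.T (v4 C) [23, 42, 55, 79, 91, 116] (v18 C) [15, 45, 57, 89, 91, 109, 117] :=
  C.conv (f10219 C) (f421 C) (f697 C) _ [136, 167, 173, 178] _ (by decide +kernel) (by decide +kernel) (by decide +kernel)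

theorem f14134 : C.T (v18 C) [15, 45, 57, 89, 91, 109, 117] (v4 C) [23, 42, 55, 79, 91, 116] :=
  C.flip (f14133 C)

theorem f14135 : C.T (v18 C) [19, 38, 53, 81, 101, 109, 113] (v18 C) [15, 55, 70, 104, 113] :=
  C.closeT (p := (v4 C)) (pu := [40, 55, 75, 110, 117])
    (C.pT (f14132 C)
    (C.pH [12, 35, 50, 83] [19, 38, 53, 81, 101, 109, 113] (by decide +kernel) (C.pNil _ _)))
    (C.pH [12, 35, 50, 83] [15, 45, 57, 89, 91, 109, 117] (by decide +kernel)
    (C.pT (f14134 C)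
    (C.pH [12, 35, 50, 83] [40, 55, 75, 110, 117] (by decide +kernel) (C.pNil _ _))))
    (C.loop_of_one (relLoop0 C) _ _)

theorem f14136 : C.T (v18 C) [15, 55, 70, 104, 113] (v18 C) [19, 38, 53, 81, 101, 109, 113] :=
  C.flip (f14135 C)

theorem f14137 : C.T (v4 C) [11, 46, 67, 71, 102, 109, 116] (v18 C) [9, 37, 50, 70, 96, 117] :=
  C.conv (f8516 C) (f12206 C) (f12206 C) _ [134, 161, 172] _ (by decide +kernel) (by decide +kernel) (by decide +kernel)

theorem f14138 : C.T (v4 C) [22, 41, 53, 83, 104, 117] (v17 C) [25, 55, 88, 92, 109, 124] :=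
  C.conv (f5526 C) (f407 C) (f8461 C) _ [145, 151, 165, 172, 177] _ (by decide +kernel) (by decide +kernel) (by decide +kernel)

theorem f14139 : C.T (v17 C) [25, 55, 88, 92, 109, 124] (v4 C) [22, 41, 53, 83, 104, 117] :=
  C.flip (f14138 C)

theorem f14140 : C.T (v18 C) [17, 36, 68, 94, 125] (v17 C) [17, 48, 55, 88, 92, 109, 124] :=
  C.closeT (p := (v4 C)) (pu := [11, 46, 67, 71, 102, 109, 116])
    (C.pT (f14137 C)
    (C.pH [12, 35, 50, 83] [17, 36, 68, 94, 125] (by decide +kernel) (C.pNil _ _)))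
    (C.pH [12, 35, 50, 83] [25, 55, 88, 92, 109, 124] (by decide +kernel)
    (C.pT (f14139 C)
    (C.pH [12, 35, 50, 83] [11, 46, 67, 71, 102, 109, 116] (by decide +kernel) (C.pNil _ _))))
    (C.loop_of_one (relLoop0 C) _ _)

theorem f14141 : C.T (v17 C) [17, 48, 55, 88, 92, 109, 124] (v18 C) [17, 36, 68, 94, 125] :=
  C.flip (f14140 C)

theorem f14142 : C.T (v4 C) [16, 43, 63, 82, 95, 110, 117] (v18 C) [40, 55, 74, 90, 121] :=
  C.conv (f10083 C) (f13548 C) (f13548 C) _ [136, 165, 173, 178] _ (by decide +kernel) (by decide +kernel) (by decide +kernel)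

theorem f14143 : C.S (v4 C) [10, 27, 56, 84, 93, 109, 113] :=
  C.stMul (f407 C) (f421 C) _ (by decide +kernel)

theorem f14144 : C.S (v4 C) [16, 32, 68, 79, 93, 110, 124] :=
  C.stMul (f407 C) (f14143 C) _ (by decide +kernel)

theorem f14145 : C.S (v4 C) [18, 44, 51, 79, 106, 114] :=
  C.stMul (f421 C) (f14144 C) _ (by decide +kernel)

theorem f14146 : C.S (v4 C) [10, 44, 68, 74, 91, 110, 116] :=
  C.stMul (f693 C) (f14145 C) _ (by decide +kernel)

theorem f14147 : C.T (v4 C) [16, 41, 57, 72, 94, 109, 122] (v15 C) [17, 46, 49, 77, 97, 123] :=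
  C.conv (f2728 C) (f2857 C) (f14146 C) _ [147, 166, 172, 178] _ (by decide +kernel) (by decide +kernel) (by decide +kernel)

theorem f14148 : C.T (v15 C) [17, 46, 49, 77, 97, 123] (v4 C) [16, 41, 57, 72, 94, 109, 122] :=
  C.flip (f14147 C)

theorem f14149 : C.T (v18 C) [12, 32, 68, 86, 95, 110, 115] (v15 C) [9, 32, 62, 88, 90, 110] :=
  C.closeT (p := (v4 C)) (pu := [16, 43, 63, 82, 95, 110, 117])
    (C.pT (f14142 C)
    (C.pH [12, 35, 50, 83] [12, 32, 68, 86, 95, 110, 115] (by decide +kernel) (C.pNil _ _)))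
    (C.pH [12, 35, 50, 83] [17, 46, 49, 77, 97, 123] (by decide +kernel)
    (C.pT (f14148 C)
    (C.pH [12, 35, 50, 83] [16, 43, 63, 82, 95, 110, 117] (by decide +kernel) (C.pNil _ _))))
    (C.loop_of_one (relLoop0 C) _ _)

theorem f14150 : C.T (v15 C) [9, 32, 62, 88, 90, 110] (v18 C) [12, 32, 68, 86, 95, 110, 115] :=
  C.flip (f14149 C)

theorem f14151 : C.S (v4 C) [17, 35, 66, 70, 95] :=
  C.stMul (f421 C) (f407 C) _ (by decide +kernel)

theorem f14152 : C.S (v4 C) [13, 44, 51, 82, 106, 110, 111] :=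
  C.stMul (f407 C) (f14151 C) _ (by decide +kernel)

theorem f14153 : C.S (v4 C) [21, 35, 69, 73, 94, 109, 122] :=
  C.stMul (f421 C) (f14152 C) _ (by decide +kernel)

theorem f14154 : C.S (v4 C) [18, 37, 59, 73, 102, 116] :=
  C.stMul (f693 C) (f14153 C) _ (by decide +kernel)

theorem f14155 : C.T (v4 C) [8, 48, 55, 88, 94, 109, 116] (v18 C) [10, 42, 49, 98, 109, 114] :=
  C.conv (f10112 C) (f14154 C) (f14154 C) _ [135, 154, 164, 172, 178] _ (by decide +kernel) (by decide +kernel) (by decide +kernel)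

theorem f14156 : C.S (v4 C) [10, 42, 56, 80, 93, 109, 122] :=
  C.stMul (f693 C) (f13590 C) _ (by decide +kernel)

theorem f14157 : C.S (v4 C) [25, 32, 52, 83, 96, 110, 121] :=
  C.stMul (f421 C) (f14156 C) _ (by decide +kernel)

theorem f14158 : C.T (v4 C) [21, 27, 62, 73, 108, 109, 120] (v16 C) [25, 30, 58, 78, 94, 109] :=
  C.conv (f3641 C) (f13592 C) (f14157 C) _ [145, 163, 172, 177] _ (by decide +kernel) (by decide +kernel) (by decide +kernel)

theorem f14159 : C.T (v16 C) [25, 30, 58, 78, 94, 109] (v4 C) [21, 27, 62, 73, 108, 109, 120] :=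
  C.flip (f14158 C)

theorem f14160 : C.T (v18 C) [21, 29, 49, 98, 109, 114] (v16 C) [17, 47, 53, 77, 92, 109, 125] :=
  C.closeT (p := (v4 C)) (pu := [8, 48, 55, 88, 94, 109, 116])
    (C.pT (f14155 C)
    (C.pH [12, 35, 50, 83] [21, 29, 49, 98, 109, 114] (by decide +kernel) (C.pNil _ _)))
    (C.pH [12, 35, 50, 83] [25, 30, 58, 78, 94, 109] (by decide +kernel)
    (C.pT (f14159 C)
    (C.pH [12, 35, 50, 83] [8, 48, 55, 88, 94, 109, 116] (by decide +kernel) (C.pNil _ _))))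
    (C.loop_of_one (relLoop0 C) _ _)

theorem f14161 : C.T (v16 C) [17, 47, 53, 77, 92, 109, 125] (v18 C) [21, 29, 49, 98, 109, 114] :=
  C.flip (f14160 C)

theorem f14162 : C.T (v4 C) [13, 27, 63, 86, 107, 121] (v18 C) [41, 49, 72, 108, 119] :=
  C.conv (f10153 C) (f11483 C) (f11483 C) _ [143, 152, 168, 175] _ (by decide +kernel) (by decide +kernel) (by decide +kernel)

theorem f14163 : C.S (v4 C) [13, 28, 60, 83, 108, 110, 119] :=
  C.stMul (f421 C) (f693 C) _ (by decide +kernel)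

theorem f14164 : C.T (v4 C) [4, 32, 69, 82, 103, 109, 111] (v18 C) [26, 34, 61, 74, 100, 109, 123] :=
  C.conv (f10188 C) (f12045 C) (f14163 C) _ [135, 157, 174, 177] _ (by decide +kernel) (by decide +kernel) (by decide +kernel)

theorem f14165 : C.T (v18 C) [26, 34, 61, 74, 100, 109, 123] (v4 C) [4, 32, 69, 82, 103, 109, 111] :=
  C.flip (f14164 C)

theorem f14166 : C.T (v18 C) [12, 40, 52, 77, 98, 119] (v18 C) [13, 45, 60, 74, 101, 125] :=
  C.closeT (p := (v4 C)) (pu := [13, 27, 63, 86, 107, 121])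
    (C.pT (f14162 C)
    (C.pH [12, 35, 50, 83] [12, 40, 52, 77, 98, 119] (by decide +kernel) (C.pNil _ _)))
    (C.pH [12, 35, 50, 83] [26, 34, 61, 74, 100, 109, 123] (by decide +kernel)
    (C.pT (f14165 C)
    (C.pH [12, 35, 50, 83] [13, 27, 63, 86, 107, 121] (by decide +kernel) (C.pNil _ _))))
    (C.loop_of_one (relLoop0 C) _ _)

theorem f14167 : C.T (v18 C) [13, 45, 60, 74, 101, 125] (v18 C) [12, 40, 52, 77, 98, 119] :=
  C.flip (f14166 C)

theorem f14168 : C.T (v4 C) [13, 32, 60, 75, 90, 109, 111] (v18 C) [17, 38, 66, 75, 92, 109, 118] :=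
  C.conv (f10153 C) (f11483 C) (f11483 C) _ [128, 161, 167, 171, 178] _ (by decide +kernel) (by decide +kernel) (by decide +kernel)

theorem f14169 : C.S (v4 C) [10, 27, 56, 84, 93, 109, 113] :=
  C.stMul (f407 C) (f421 C) _ (by decide +kernel)

theorem f14170 : C.S (v4 C) [25, 47, 59, 76, 103, 109, 113] :=
  C.stMul (f421 C) (f14169 C) _ (by decide +kernel)

theorem f14171 : C.T (v4 C) [4, 40, 52, 82, 107, 109, 125] (v18 C) [26, 41, 62, 74, 102, 110, 120] :=
  C.conv (f10112 C) (f14154 C) (f14170 C) _ [139, 149, 174] _ (by decide +kernel) (by decide +kernel) (by decide +kernel)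

theorem f14172 : C.T (v18 C) [26, 41, 62, 74, 102, 110, 120] (v4 C) [4, 40, 52, 82, 107, 109, 125] :=
  C.flip (f14171 C)

theorem f14173 : C.T (v18 C) [25, 43, 54, 84, 94, 110, 111] (v18 C) [13, 31, 58, 85, 93, 120] :=
  C.closeT (p := (v4 C)) (pu := [13, 32, 60, 75, 90, 109, 111])
    (C.pT (f14168 C)
    (C.pH [12, 35, 50, 83] [25, 43, 54, 84, 94, 110, 111] (by decide +kernel) (C.pNil _ _)))
    (C.pH [12, 35, 50, 83] [26, 41, 62, 74, 102, 110, 120] (by decide +kernel)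
    (C.pT (f14172 C)
    (C.pH [12, 35, 50, 83] [13, 32, 60, 75, 90, 109, 111] (by decide +kernel) (C.pNil _ _))))
    (C.loop_of_one (relLoop0 C) _ _)

theorem f14174 : C.T (v18 C) [13, 31, 58, 85, 93, 120] (v18 C) [25, 43, 54, 84, 94, 110, 111] :=
  C.flip (f14173 C)

theorem f14175 : C.T (v4 C) [25, 32, 59, 79, 98, 109, 123] (v18 C) [21, 43, 63, 70, 106, 110, 116] :=
  C.conv (f10188 C) (f12045 C) (f12045 C) _ [141, 153, 167, 172] _ (by decide +kernel) (by decide +kernel) (by decide +kernel)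

theorem f14176 : C.S (v4 C) [17, 35, 66, 70, 95] :=
  C.stMul (f421 C) (f407 C) _ (by decide +kernel)

theorem f14177 : C.S (v4 C) [13, 44, 51, 82, 106, 110, 111] :=
  C.stMul (f407 C) (f14176 C) _ (by decide +kernel)

theorem f14178 : C.S (v4 C) [17, 29, 60, 75, 100, 110, 113] :=
  C.stMul (f407 C) (f14177 C) _ (by decide +kernel)

theorem f14179 : C.T (v4 C) [17, 59, 79, 98, 109, 123] (v17 C) [6, 41, 62, 83, 104, 109, 112] :=
  C.conv (f4958 C) (f13703 C) (f14178 C) _ [143, 156, 167, 172, 177] _ (by decide +kernel) (by decide +kernel) (by decide +kernel)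

theorem f14180 : C.T (v17 C) [6, 41, 62, 83, 104, 109, 112] (v4 C) [17, 59, 79, 98, 109, 123] :=
  C.flip (f14179 C)

theorem f14181 : C.T (v18 C) [8, 43, 61, 78, 103, 109, 117] (v17 C) [24, 32, 73, 95, 110, 117] :=
  C.closeT (p := (v4 C)) (pu := [25, 32, 59, 79, 98, 109, 123])
    (C.pT (f14175 C)
    (C.pH [12, 35, 50, 83] [8, 43, 61, 78, 103, 109, 117] (by decide +kernel) (C.pNil _ _)))
    (C.pH [12, 35, 50, 83] [6, 41, 62, 83, 104, 109, 112] (by decide +kernel)
    (C.pT (f14180 C)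
    (C.pH [12, 35, 50, 83] [25, 32, 59, 79, 98, 109, 123] (by decide +kernel) (C.pNil _ _))))
    (C.loop_of_one (relLoop0 C) _ _)

theorem f14182 : C.T (v17 C) [24, 32, 73, 95, 110, 117] (v18 C) [8, 43, 61, 78, 103, 109, 117] :=
  C.flip (f14181 C)

theorem f14183 : C.T (v4 C) [8, 35, 59, 76, 98, 109, 121] (v18 C) [19, 30, 83, 107, 109] :=
  C.conv (f10188 C) (f12045 C) (f12045 C) _ [146, 155, 165, 171, 178] _ (by decide +kernel) (by decide +kernel) (by decide +kernel)

theorem f14184 : C.S (v4 C) [18, 37, 59, 73, 102, 116] :=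
  C.stMul (f693 C) (f13575 C) _ (by decide +kernel)

theorem f14185 : C.S (v4 C) [16, 45, 55, 88, 103, 109, 115] :=
  C.stMul (f421 C) (f14184 C) _ (by decide +kernel)

theorem f14186 : C.T (v4 C) [21, 35, 56, 77, 93, 119] (v18 C) [16, 32, 49, 79, 104, 110, 122] :=
  C.conv (f13468 C) (f13575 C) (f14185 C) _ [146, 149, 165, 176, 178] _ (by decide +kernel) (by decide +kernel) (by decide +kernel)

theorem f14187 : C.T (v18 C) [16, 32, 49, 79, 104, 110, 122] (v4 C) [21, 35, 56, 77, 93, 119] :=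
  C.flip (f14186 C)

theorem f14188 : C.T (v18 C) [24, 31, 50, 76, 103, 110, 117] (v18 C) [16, 43, 63, 83, 96, 110, 115] :=
  C.closeT (p := (v4 C)) (pu := [8, 35, 59, 76, 98, 109, 121])
    (C.pT (f14183 C)
    (C.pH [12, 35, 50, 83] [24, 31, 50, 76, 103, 110, 117] (by decide +kernel) (C.pNil _ _)))
    (C.pH [12, 35, 50, 83] [16, 32, 49, 79, 104, 110, 122] (by decide +kernel)
    (C.pT (f14187 C)
    (C.pH [12, 35, 50, 83] [8, 35, 59, 76, 98, 109, 121] (by decide +kernel) (C.pNil _ _))))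
    (C.loop_of_one (relLoop0 C) _ _)

theorem f14189 : C.T (v18 C) [16, 43, 63, 83, 96, 110, 115] (v18 C) [24, 31, 50, 76, 103, 110, 117] :=
  C.flip (f14188 C)

theorem f14190 : C.T (v4 C) [21, 30, 65, 76, 91, 119] (v18 C) [33, 60, 84, 91, 110, 115] :=
  C.conv (f11160 C) (f13694 C) (f13694 C) _ [141, 153, 168, 178] _ (by decide +kernel) (by decide +kernel) (by decide +kernel)

theorem f14191 : C.T (v4 C) [10, 28, 51, 74, 102, 109, 120] (v18 C) [44, 55, 74, 94, 110, 119] :=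
  C.conv (f13456 C) (f421 C) (f407 C) _ [144, 150, 170, 174, 178] _ (by decide +kernel) (by decide +kernel) (by decide +kernel)

theorem f14192 : C.T (v18 C) [44, 55, 74, 94, 110, 119] (v4 C) [10, 28, 51, 74, 102, 109, 120] :=
  C.flip (f14191 C)

theorem f14193 : C.T (v18 C) [12, 42, 70, 107, 110, 125] (v18 C) [23, 44, 55, 80, 91, 110, 116] :=
  C.closeT (p := (v4 C)) (pu := [21, 30, 65, 76, 91, 119])
    (C.pT (f14190 C)
    (C.pH [12, 35, 50, 83] [12, 42, 70, 107, 110, 125] (by decide +kernel) (C.pNil _ _)))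
    (C.pH [12, 35, 50, 83] [44, 55, 74, 94, 110, 119] (by decide +kernel)
    (C.pT (f14192 C)
    (C.pH [12, 35, 50, 83] [21, 30, 65, 76, 91, 119] (by decide +kernel) (C.pNil _ _))))
    (C.loop_of_one (relLoop0 C) _ _)

theorem f14194 : C.T (v18 C) [23, 44, 55, 80, 91, 110, 116] (v18 C) [12, 42, 70, 107, 110, 125] :=
  C.flip (f14193 C)

theorem f14195 : C.T (v4 C) [26, 30, 57, 74, 94, 109, 121] (v18 C) [6, 48, 68, 71, 108, 109, 120] :=
  C.conv (f11160 C) (f13694 C) (f13694 C) _ [145, 156, 168, 171, 177] _ (by decide +kernel) (by decide +kernel) (by decide +kernel)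

theorem f14196 : C.S (v4 C) [23, 41, 49, 78, 91, 109] :=
  C.stMul (f693 C) (f421 C) _ (by decide +kernel)

theorem f14197 : C.S (v4 C) [26, 36, 62, 77, 94, 121] :=
  C.stMul (f421 C) (f14196 C) _ (by decide +kernel)

theorem f14198 : C.S (v4 C) [25, 42, 55, 82, 95, 109] :=
  C.stMul (f407 C) (f14197 C) _ (by decide +kernel)

theorem f14199 : C.T (v4 C) [13, 32, 65, 81, 99, 123] (v18 C) [4, 33, 58, 74, 107] :=
  C.conv (f10112 C) (f14154 C) (f14198 C) _ [146, 154, 167, 171, 178] _ (by decide +kernel) (by decide +kernel) (by decide +kernel)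

theorem f14200 : C.T (v18 C) [4, 33, 58, 74, 107] (v4 C) [13, 32, 65, 81, 99, 123] :=
  C.flip (f14199 C)

theorem f14201 : C.T (v18 C) [19, 43, 67, 85, 99, 116] (v18 C) [26, 40, 67, 85, 121] :=
  C.closeT (p := (v4 C)) (pu := [26, 30, 57, 74, 94, 109, 121])
    (C.pT (f14195 C)
    (C.pH [12, 35, 50, 83] [19, 43, 67, 85, 99, 116] (by decide +kernel) (C.pNil _ _)))
    (C.pH [12, 35, 50, 83] [4, 33, 58, 74, 107] (by decide +kernel)
    (C.pT (f14200 C)
    (C.pH [12, 35, 50, 83] [26, 30, 57, 74, 94, 109, 121] (by decide +kernel) (C.pNil _ _))))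
    (C.loop_of_one (relLoop0 C) _ _)

theorem f14205 : C.T (v4 C) [16, 30, 49, 77, 110, 116] (v18 C) [23, 48, 49, 82, 96, 109, 121] :=
  C.conv (f11160 C) (f13694 C) (f13694 C) _ [135, 156, 167, 172] _ (by decide +kernel) (by decide +kernel) (by decide +kernel)

theorem f14206 : C.S (v4 C) [16, 43, 64, 82, 90, 110, 123] :=
  C.stMul (f421 C) (f10233 C) _ (by decide +kernel)

theorem f14207 : C.S (v4 C) [21, 60, 87, 91, 109, 120] :=
  C.stMul (f407 C) (f14206 C) _ (by decide +kernel)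

theorem f14208 : C.S (v4 C) [8, 48, 61, 83, 103, 117] :=
  C.stMul (f407 C) (f14207 C) _ (by decide +kernel)

theorem f14209 : C.T (v4 C) [16, 50, 90, 115] (v18 C) [12, 44, 69, 78, 90, 109, 111] :=
  C.conv (f8235 C) (f8735 C) (f14208 C) _ [144, 156, 167, 172, 177] _ (by decide +kernel) (by decide +kernel) (by decide +kernel)

theorem f14210 : C.T (v18 C) [12, 44, 69, 78, 90, 109, 111] (v4 C) [16, 50, 90, 115] :=
  C.flip (f14209 C)

theorem f14211 : C.T (v18 C) [45, 50, 86, 103, 110, 116] (v18 C) [27, 69, 74, 93, 109] :=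
  C.closeT (p := (v4 C)) (pu := [16, 30, 49, 77, 110, 116])
    (C.pT (f14205 C)
    (C.pH [12, 35, 50, 83] [45, 50, 86, 103, 110, 116] (by decide +kernel) (C.pNil _ _)))
    (C.pH [12, 35, 50, 83] [12, 44, 69, 78, 90, 109, 111] (by decide +kernel)
    (C.pT (f14210 C)
    (C.pH [12, 35, 50, 83] [16, 30, 49, 77, 110, 116] (by decide +kernel) (C.pNil _ _))))
    (C.loop_of_one (relLoop0 C) _ _)

theorem f14215 : C.T (v4 C) [23, 28, 65, 88, 96, 110, 121] (v4 C) [8, 33, 57, 76, 95, 109, 114] :=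
  C.conv (f658 C) (f700 C) (f700 C) _ [139, 150, 165, 175] _ (by decide +kernel) (by decide +kernel) (by decide +kernel)

theorem f14216 : C.S (v4 C) [8, 48, 61, 83, 103, 117] :=
  C.stMul (f407 C) (f8698 C) _ (by decide +kernel)

theorem f14217 : C.T (v4 C) [41, 62, 82, 107, 109] (v18 C) [4, 35, 63, 85, 103, 114] :=
  C.conv (f6863 C) (f8698 C) (f14216 C) _ [127, 159, 164, 174] _ (by decide +kernel) (by decide +kernel) (by decide +kernel)

theorem f14218 : C.S (v4 C) [17, 41, 87, 92, 116] :=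
  C.stMul (f693 C) (f8342 C) _ (by decide +kernel)

theorem f14219 : C.T (v4 C) [13, 53, 88, 96, 110, 121] (v18 C) [13, 35, 68, 78, 92, 110, 119] :=
  C.conv (f7423 C) (f7483 C) (f14218 C) _ [142, 161, 174] _ (by decide +kernel) (by decide +kernel) (by decide +kernel)

theorem f14220 : C.T (v18 C) [13, 35, 68, 78, 92, 110, 119] (v4 C) [13, 53, 88, 96, 110, 121] :=
  C.flip (f14219 C)

theorem f14221 : C.T (v18 C) [25, 31, 58, 85, 101, 110, 122] (v18 C) [6, 31, 50, 81, 106, 109, 120] :=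
  C.closeT (p := (v4 C)) (pu := [23, 28, 65, 88, 96, 110, 121])
    (C.pT (f14215 C)
    (C.pH [8, 30, 65, 84, 94, 117] [41, 62, 82, 107, 109] (by decide +kernel)
    (C.pT (f14217 C)
    (C.pH [26, 38, 54, 89, 90, 113] [25, 31, 58, 85, 101, 110, 122] (by decide +kernel) (C.pNil _ _)))))
    (C.pH [8, 30, 65, 84, 94, 117] [13, 35, 68, 78, 92, 110, 119] (by decide +kernel)
    (C.pT (f14220 C)
    (C.pH [26, 38, 54, 89, 90, 113] [23, 28, 65, 88, 96, 110, 121] (by decide +kernel) (C.pNil _ _))))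
    (C.loop_of_one (relLoop1 C) _ _)

theorem f14225 : C.T (v4 C) [24, 28, 57, 83, 90, 122] (v4 C) [10, 36, 58, 88, 93] :=
  C.conv (f636 C) (f703 C) (f703 C) _ [139, 154, 176] _ (by decide +kernel) (by decide +kernel) (by decide +kernel)

theorem f14226 : C.S (v4 C) [16, 43, 64, 82, 90, 110, 123] :=
  C.stMul (f421 C) (f9180 C) _ (by decide +kernel)

theorem f14227 : C.S (v4 C) [12, 41, 63, 84, 102, 110, 115] :=
  C.stMul (f693 C) (f14226 C) _ (by decide +kernel)

theorem f14228 : C.T (v4 C) [15, 41, 60, 82, 93, 110, 112] (v18 C) [15, 47, 49, 82, 105, 110, 125] :=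
  C.conv (f8441 C) (f421 C) (f14227 C) _ [138, 154, 169, 173, 178] _ (by decide +kernel) (by decide +kernel) (by decide +kernel)

theorem f14229 : C.S (v4 C) [23, 27, 56, 70, 98, 125] :=
  C.stMul (f421 C) (f13832 C) _ (by decide +kernel)

theorem f14230 : C.T (v4 C) [11, 41, 87, 110, 123] (v18 C) [11, 31, 52, 107, 109, 116] :=
  C.conv (f7520 C) (f8781 C) (f14229 C) _ [139, 150, 169, 171, 178] _ (by decide +kernel) (by decide +kernel) (by decide +kernel)

theorem f14231 : C.T (v18 C) [11, 31, 52, 107, 109, 116] (v4 C) [11, 41, 87, 110, 123] :=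
  C.flip (f14230 C)

theorem f14232 : C.T (v18 C) [9, 57, 72, 98, 114] (v18 C) [13, 37, 53, 74, 99, 120] :=
  C.closeT (p := (v4 C)) (pu := [24, 28, 57, 83, 90, 122])
    (C.pT (f14225 C)
    (C.pH [8, 30, 65, 84, 94, 117] [15, 41, 60, 82, 93, 110, 112] (by decide +kernel)
    (C.pT (f14228 C)
    (C.pH [26, 38, 54, 89, 90, 113] [9, 57, 72, 98, 114] (by decide +kernel) (C.pNil _ _)))))
    (C.pH [8, 30, 65, 84, 94, 117] [11, 31, 52, 107, 109, 116] (by decide +kernel)
    (C.pT (f14231 C)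
    (C.pH [26, 38, 54, 89, 90, 113] [24, 28, 57, 83, 90, 122] (by decide +kernel) (C.pNil _ _))))
    (C.loop_of_one (relLoop1 C) _ _)

theorem f14236 : C.T (v4 C) [5, 30, 61, 89, 91, 109, 122] (v4 C) [8, 30, 56, 75, 102, 109, 122] :=
  C.conv (f636 C) (f703 C) (f703 C) _ [135, 161, 165, 177] _ (by decide +kernel) (by decide +kernel) (by decide +kernel)

theorem f14237 : C.S (v4 C) [18, 46, 49, 75, 97, 110, 118] :=
  C.stMul (f407 C) (f407 C) _ (by decide +kernel)

theorem f14238 : C.S (v4 C) [16, 43, 64, 82, 90, 110, 123] :=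
  C.stMul (f421 C) (f14237 C) _ (by decide +kernel)

theorem f14239 : C.S (v4 C) [21, 60, 87, 91, 109, 120] :=
  C.stMul (f407 C) (f14238 C) _ (by decide +kernel)

theorem f14240 : C.T (v4 C) [31, 59, 86, 102, 109, 121] (v17 C) [16, 33, 60, 72, 98, 124] :=
  C.conv (f6475 C) (f697 C) (f14239 C) _ [150, 176, 177] _ (by decide +kernel) (by decide +kernel) (by decide +kernel)

theorem f14241 : C.T (v4 C) [14, 45, 65, 77, 91, 109, 118] (v18 C) [11, 48, 79, 93, 123] :=
  C.conv (f10219 C) (f421 C) (f421 C) _ [145, 156, 167, 175] _ (by decide +kernel) (by decide +kernel) (by decide +kernel)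

theorem f14242 : C.T (v18 C) [11, 48, 79, 93, 123] (v4 C) [14, 45, 65, 77, 91, 109, 118] :=
  C.flip (f14241 C)

theorem f14243 : C.T (v17 C) [13, 28, 85, 96, 109, 114] (v18 C) [13, 44, 73, 90, 109, 123] :=
  C.closeT (p := (v4 C)) (pu := [5, 30, 61, 89, 91, 109, 122])
    (C.pT (f14236 C)
    (C.pH [8, 30, 65, 84, 94, 117] [31, 59, 86, 102, 109, 121] (by decide +kernel)
    (C.pT (f14240 C)
    (C.pH [26, 38, 54, 89, 90, 113] [13, 28, 85, 96, 109, 114] (by decide +kernel) (C.pNil _ _)))))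
    (C.pH [8, 30, 65, 84, 94, 117] [11, 48, 79, 93, 123] (by decide +kernel)
    (C.pT (f14242 C)
    (C.pH [26, 38, 54, 89, 90, 113] [5, 30, 61, 89, 91, 109, 122] (by decide +kernel) (C.pNil _ _))))
    (C.loop_of_one (relLoop1 C) _ _)

theorem f14244 : C.T (v18 C) [13, 44, 73, 90, 109, 123] (v17 C) [13, 28, 85, 96, 109, 114] :=
  C.flip (f14243 C)

theorem f14245 : C.T (v4 C) [9, 32, 61, 88, 98] (v4 C) [21, 30, 66, 76, 90, 112] :=
  C.conv (f636 C) (f703 C) (f703 C) _ [134, 159, 165, 172, 178] _ (by decide +kernel) (by decide +kernel) (by decide +kernel)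

theorem f14246 : C.S (v4 C) [17, 35, 66, 70, 95] :=
  C.stMul (f421 C) (f407 C) _ (by decide +kernel)

theorem f14247 : C.S (v4 C) [13, 44, 51, 82, 106, 110, 111] :=
  C.stMul (f407 C) (f14246 C) _ (by decide +kernel)

theorem f14248 : C.S (v4 C) [17, 29, 60, 75, 100, 110, 113] :=
  C.stMul (f407 C) (f14247 C) _ (by decide +kernel)

theorem f14249 : C.T (v4 C) [24, 47, 62, 102, 109, 113] (v18 C) [13, 48, 52, 74, 93, 110, 115] :=
  C.conv (f6930 C) (f7494 C) (f14248 C) _ [135, 160, 170, 173, 177] _ (by decide +kernel) (by decide +kernel) (by decide +kernel)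

theorem f14250 : C.S (v4 C) [21, 60, 87, 91, 109, 120] :=
  C.stMul (f407 C) (f14226 C) _ (by decide +kernel)

theorem f14251 : C.S (v4 C) [8, 48, 61, 83, 103, 117] :=
  C.stMul (f407 C) (f14250 C) _ (by decide +kernel)

theorem f14252 : C.S (v4 C) [31, 58, 82, 95, 109, 115] :=
  C.stMul (f421 C) (f14251 C) _ (by decide +kernel)

theorem f14253 : C.T (v4 C) [15, 31, 69, 74, 102, 109, 121] (v18 C) [21, 43, 60, 75, 101, 109, 123] :=
  C.conv (f8441 C) (f421 C) (f14252 C) _ [126, 156, 165, 176, 177] _ (by decide +kernel) (by decide +kernel) (by decide +kernel)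

theorem f14254 : C.T (v18 C) [21, 43, 60, 75, 101, 109, 123] (v4 C) [15, 31, 69, 74, 102, 109, 121] :=
  C.flip (f14253 C)

theorem f14255 : C.T (v18 C) [23, 40, 67, 71, 107, 109, 119] (v18 C) [12, 43, 68, 78, 107, 109, 123] :=
  C.closeT (p := (v4 C)) (pu := [9, 32, 61, 88, 98])
    (C.pT (f14245 C)
    (C.pH [8, 30, 65, 84, 94, 117] [24, 47, 62, 102, 109, 113] (by decide +kernel)
    (C.pT (f14249 C)
    (C.pH [26, 38, 54, 89, 90, 113] [23, 40, 67, 71, 107, 109, 119] (by decide +kernel) (C.pNil _ _)))))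
    (C.pH [8, 30, 65, 84, 94, 117] [21, 43, 60, 75, 101, 109, 123] (by decide +kernel)
    (C.pT (f14254 C)
    (C.pH [26, 38, 54, 89, 90, 113] [9, 32, 61, 88, 98] (by decide +kernel) (C.pNil _ _))))
    (C.loop_of_one (relLoop1 C) _ _)

theorem f14256 : C.T (v18 C) [12, 43, 68, 78, 107, 109, 123] (v18 C) [23, 40, 67, 71, 107, 109, 119] :=
  C.flip (f14255 C)

theorem f14257 : C.T (v4 C) [13, 44, 61, 85, 103, 109, 116] (v4 C) [6, 43, 50, 78, 90, 117] :=
  C.conv (f636 C) (f703 C) (f703 C) _ [139, 167, 177] _ (by decide +kernel) (by decide +kernel) (by decide +kernel)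

theorem f14258 : C.T (v4 C) [13, 49, 88, 109, 116] (v18 C) [26, 38, 52, 81, 104, 116] :=
  C.conv (f8390 C) (f13475 C) (f13858 C) _ [142, 163, 167, 176, 177] _ (by decide +kernel) (by decide +kernel) (by decide +kernel)

theorem f14259 : C.T (v4 C) [16, 27, 56, 76, 104, 116] (v18 C) [8, 32, 66, 88, 100, 110, 123] :=
  C.conv (f7143 C) (f8330 C) (f407 C) _ [130, 164, 176, 177] _ (by decide +kernel) (by decide +kernel) (by decide +kernel)

theorem f14260 : C.T (v18 C) [8, 32, 66, 88, 100, 110, 123] (v4 C) [16, 27, 56, 76, 104, 116] :=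
  C.flip (f14259 C)

theorem f14261 : C.T (v18 C) [16, 39, 58, 70, 104, 110, 116] (v18 C) [41, 69, 88, 108, 115] :=
  C.closeT (p := (v4 C)) (pu := [13, 44, 61, 85, 103, 109, 116])
    (C.pT (f14257 C)
    (C.pH [8, 30, 65, 84, 94, 117] [13, 49, 88, 109, 116] (by decide +kernel)
    (C.pT (f14258 C)
    (C.pH [26, 38, 54, 89, 90, 113] [16, 39, 58, 70, 104, 110, 116] (by decide +kernel) (C.pNil _ _)))))
    (C.pH [8, 30, 65, 84, 94, 117] [8, 32, 66, 88, 100, 110, 123] (by decide +kernel)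
    (C.pT (f14260 C)
    (C.pH [26, 38, 54, 89, 90, 113] [13, 44, 61, 85, 103, 109, 116] (by decide +kernel) (C.pNil _ _))))
    (C.loop_of_one (relLoop1 C) _ _)

theorem f14262 : C.T (v18 C) [41, 69, 88, 108, 115] (v18 C) [16, 39, 58, 70, 104, 110, 116] :=
  C.flip (f14261 C)

theorem f14263 : C.T (v4 C) [19, 47, 63, 83, 103, 109, 118] (v4 C) [17, 49, 80, 97, 110, 118] :=
  C.conv (f636 C) (f703 C) (f703 C) _ [132, 160, 166, 173, 177] _ (by decide +kernel) (by decide +kernel) (by decide +kernel)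

theorem f14264 : C.T (v4 C) [22, 43, 66, 81, 101, 109, 113] (v18 C) [9, 35, 67, 70, 100, 109, 119] :=
  C.conv (f7605 C) (f8757 C) (f12094 C) _ [128, 149, 168, 175, 177] _ (by decide +kernel) (by decide +kernel) (by decide +kernel)

theorem f14265 : C.T (v4 C) [22, 31, 55, 73, 106, 117] (v15 C) [11, 45, 65, 73, 104, 109, 121] :=
  C.conv (f2628 C) (f2666 C) (f2671 C) _ [137, 157, 169, 173] _ (by decide +kernel) (by decide +kernel) (by decide +kernel)

theorem f14266 : C.T (v15 C) [11, 45, 65, 73, 104, 109, 121] (v4 C) [22, 31, 55, 73, 106, 117] :=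
  C.flip (f14265 C)

theorem f14267 : C.T (v18 C) [22, 46, 68, 86, 97, 109, 124] (v15 C) [13, 48, 67, 85, 96, 120] :=
  C.closeT (p := (v4 C)) (pu := [19, 47, 63, 83, 103, 109, 118])
    (C.pT (f14263 C)
    (C.pH [8, 30, 65, 84, 94, 117] [22, 43, 66, 81, 101, 109, 113] (by decide +kernel)
    (C.pT (f14264 C)
    (C.pH [26, 38, 54, 89, 90, 113] [22, 46, 68, 86, 97, 109, 124] (by decide +kernel) (C.pNil _ _)))))
    (C.pH [8, 30, 65, 84, 94, 117] [11, 45, 65, 73, 104, 109, 121] (by decide +kernel)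
    (C.pT (f14266 C)
    (C.pH [26, 38, 54, 89, 90, 113] [19, 47, 63, 83, 103, 109, 118] (by decide +kernel) (C.pNil _ _))))
    (C.loop_of_one (relLoop1 C) _ _)

theorem f14268 : C.T (v15 C) [13, 48, 67, 85, 96, 120] (v18 C) [22, 46, 68, 86, 97, 109, 124] :=
  C.flip (f14267 C)

theorem f14269 : C.T (v4 C) [23, 33, 50, 79, 103, 118] (v4 C) [13, 27, 65, 78, 109, 124] :=
  C.conv (f606 C) (f421 C) (f421 C) _ [126, 150, 168, 174] _ (by decide +kernel) (by decide +kernel) (by decide +kernel)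

theorem f14270 : C.S (v4 C) [8, 31, 60, 85, 98, 110, 125] :=
  C.stMul (f693 C) (f407 C) _ (by decide +kernel)

theorem f14271 : C.S (v4 C) [42, 63, 82, 91, 110, 125] :=
  C.stMul (f421 C) (f14270 C) _ (by decide +kernel)

theorem f14272 : C.S (v4 C) [12, 31, 56, 72, 107, 109, 112] :=
  C.stMul (f407 C) (f14271 C) _ (by decide +kernel)

theorem f14273 : C.T (v4 C) [11, 39, 69, 78, 103, 109, 116] (v18 C) [9, 30, 55, 88, 102, 124] :=
  C.conv (f7446 C) (f7469 C) (f14272 C) _ [128, 150, 170] _ (by decide +kernel) (by decide +kernel) (by decide +kernel)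

theorem f14274 : C.S (v4 C) [13, 28, 60, 83, 108, 110, 119] :=
  C.stMul (f421 C) (f693 C) _ (by decide +kernel)

theorem f14275 : C.S (v4 C) [17, 45, 53, 80, 99, 109, 123] :=
  C.stMul (f407 C) (f14274 C) _ (by decide +kernel)

theorem f14276 : C.T (v4 C) [13, 31, 69, 77, 96, 112] (v18 C) [6, 30, 66, 93, 109] :=
  C.conv (f7446 C) (f7469 C) (f14275 C) _ [147, 152, 164, 178] _ (by decide +kernel) (by decide +kernel) (by decide +kernel)

theorem f14277 : C.T (v18 C) [6, 30, 66, 93, 109] (v4 C) [13, 31, 69, 77, 96, 112] :=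
  C.flip (f14276 C)

theorem f14278 : C.T (v18 C) [22, 47, 53, 73, 92, 112] (v18 C) [22, 47, 58, 79, 103, 110, 112] :=
  C.closeT (p := (v4 C)) (pu := [23, 33, 50, 79, 103, 118])
    (C.pT (f14269 C)
    (C.pH [8, 30, 65, 84, 94, 117] [11, 39, 69, 78, 103, 109, 116] (by decide +kernel)
    (C.pT (f14273 C)
    (C.pH [26, 38, 54, 89, 90, 113] [22, 47, 53, 73, 92, 112] (by decide +kernel) (C.pNil _ _)))))
    (C.pH [8, 30, 65, 84, 94, 117] [6, 30, 66, 93, 109] (by decide +kernel)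
    (C.pT (f14277 C)
    (C.pH [26, 38, 54, 89, 90, 113] [23, 33, 50, 79, 103, 118] (by decide +kernel) (C.pNil _ _))))
    (C.loop_of_one (relLoop1 C) _ _)

theorem f14281 : C.T (v4 C) [20, 42, 68, 86, 93, 110, 124] (v4 C) [4, 44, 69, 81, 92, 120] :=
  C.conv (f606 C) (f421 C) (f421 C) _ [131, 154, 168, 171, 177] _ (by decide +kernel) (by decide +kernel) (by decide +kernel)

theorem f14282 : C.T (v4 C) [25, 45, 86, 98, 109, 124] (v18 C) [11, 48, 61, 88, 102, 125] :=
  C.conv (f8516 C) (f12206 C) (f12207 C) _ [137, 156, 165, 173, 177] _ (by decide +kernel) (by decide +kernel) (by decide +kernel)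

theorem f14283 : C.T (v4 C) [17, 45, 50, 81, 95, 119] (v18 C) [11, 40, 65, 77, 94, 121] :=
  C.conv (f8516 C) (f12206 C) (f12210 C) _ [137, 159, 164, 174, 177] _ (by decide +kernel) (by decide +kernel) (by decide +kernel)

theorem f14284 : C.T (v18 C) [11, 40, 65, 77, 94, 121] (v4 C) [17, 45, 50, 81, 95, 119] :=
  C.flip (f14283 C)

theorem f14285 : C.T (v18 C) [24, 42, 60, 74, 102, 109, 119] (v18 C) [13, 46, 67, 81, 106, 118] :=
  C.closeT (p := (v4 C)) (pu := [20, 42, 68, 86, 93, 110, 124])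
    (C.pT (f14281 C)
    (C.pH [8, 30, 65, 84, 94, 117] [25, 45, 86, 98, 109, 124] (by decide +kernel)
    (C.pT (f14282 C)
    (C.pH [26, 38, 54, 89, 90, 113] [24, 42, 60, 74, 102, 109, 119] (by decide +kernel) (C.pNil _ _)))))
    (C.pH [8, 30, 65, 84, 94, 117] [11, 40, 65, 77, 94, 121] (by decide +kernel)
    (C.pT (f14284 C)
    (C.pH [26, 38, 54, 89, 90, 113] [20, 42, 68, 86, 93, 110, 124] (by decide +kernel) (C.pNil _ _))))
    (C.loop_of_one (relLoop1 C) _ _)

theorem f14288 : C.T (v4 C) [19, 43, 56, 74, 93, 109, 117] (v4 C) [29, 51, 83, 95] :=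
  C.conv (f606 C) (f421 C) (f421 C) _ [140, 157, 165, 172] _ (by decide +kernel) (by decide +kernel) (by decide +kernel)

theorem f14289 : C.S (v4 C) [13, 28, 60, 83, 108, 110, 119] :=
  C.stMul (f421 C) (f693 C) _ (by decide +kernel)

theorem f14290 : C.T (v4 C) [8, 29, 61, 81, 99, 118] (v18 C) [11, 33, 51, 81, 101, 112] :=
  C.conv (f8516 C) (f12206 C) (f14289 C) _ [126, 157, 170, 172, 178] _ (by decide +kernel) (by decide +kernel) (by decide +kernel)

theorem f14291 : C.S (v4 C) [10, 27, 56, 84, 93, 109, 113] :=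
  C.stMul (f407 C) (f421 C) _ (by decide +kernel)

theorem f14292 : C.T (v4 C) [22, 48, 58, 70, 100, 110, 113] (v17 C) [11, 34, 50, 86, 109, 111] :=
  C.conv (f5526 C) (f407 C) (f14291 C) _ [130, 158, 168, 171, 178] _ (by decide +kernel) (by decide +kernel) (by decide +kernel)

theorem f14293 : C.T (v17 C) [11, 34, 50, 86, 109, 111] (v4 C) [22, 48, 58, 70, 100, 110, 113] :=
  C.flip (f14292 C)

theorem f14294 : C.T (v18 C) [24, 46, 54, 74, 97, 115] (v17 C) [13, 42, 60, 78, 105, 110, 116] :=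
  C.closeT (p := (v4 C)) (pu := [19, 43, 56, 74, 93, 109, 117])
    (C.pT (f14288 C)
    (C.pH [8, 30, 65, 84, 94, 117] [8, 29, 61, 81, 99, 118] (by decide +kernel)
    (C.pT (f14290 C)
    (C.pH [26, 38, 54, 89, 90, 113] [24, 46, 54, 74, 97, 115] (by decide +kernel) (C.pNil _ _)))))
    (C.pH [8, 30, 65, 84, 94, 117] [11, 34, 50, 86, 109, 111] (by decide +kernel)
    (C.pT (f14293 C)
    (C.pH [26, 38, 54, 89, 90, 113] [19, 43, 56, 74, 93, 109, 117] (by decide +kernel) (C.pNil _ _))))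
    (C.loop_of_one (relLoop1 C) _ _)

theorem f14295 : C.T (v17 C) [13, 42, 60, 78, 105, 110, 116] (v18 C) [24, 46, 54, 74, 97, 115] :=
  C.flip (f14294 C)

theorem f14296 : C.T (v4 C) [16, 37, 64, 75, 96, 109, 125] (v4 C) [7, 34, 65, 88, 103, 109, 114] :=
  C.conv (f606 C) (f421 C) (f421 C) _ [145, 161, 175, 178] _ (by decide +kernel) (by decide +kernel) (by decide +kernel)

theorem f14297 : C.S (v4 C) [16, 32, 68, 79, 93, 110, 124] :=
  C.stMul (f407 C) (f14169 C) _ (by decide +kernel)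

theorem f14298 : C.S (v4 C) [18, 44, 51, 79, 106, 114] :=
  C.stMul (f421 C) (f14297 C) _ (by decide +kernel)

theorem f14299 : C.T (v4 C) [17, 47, 60, 88, 100, 110, 124] (v18 C) [10, 45, 50, 82, 106, 109, 122] :=
  C.conv (f10112 C) (f14154 C) (f14298 C) _ [131, 157, 168, 174, 178] _ (by decide +kernel) (by decide +kernel) (by decide +kernel)

theorem f14300 : C.S (v4 C) [18, 46, 49, 75, 97, 110, 118] :=
  C.stMul (f407 C) (f407 C) _ (by decide +kernel)

theorem f14301 : C.S (v4 C) [23, 45, 57, 77, 95, 110, 118] :=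
  C.stMul (f407 C) (f14300 C) _ (by decide +kernel)

theorem f14302 : C.S (v4 C) [26, 43, 63, 73, 104, 112] :=
  C.stMul (f421 C) (f14301 C) _ (by decide +kernel)

theorem f14303 : C.S (v4 C) [25, 46, 61, 102, 110, 119] :=
  C.stMul (f407 C) (f14302 C) _ (by decide +kernel)

theorem f14304 : C.S (v4 C) [26, 42, 68, 71, 107, 109, 113] :=
  C.stMul (f407 C) (f14303 C) _ (by decide +kernel)

theorem f14305 : C.T (v4 C) [26, 45, 66, 76, 104, 124] (v18 C) [6, 41, 61, 87, 93, 121] :=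
  C.conv (f10112 C) (f14154 C) (f14304 C) _ [146, 156, 164, 178] _ (by decide +kernel) (by decide +kernel) (by decide +kernel)

theorem f14306 : C.T (v18 C) [6, 41, 61, 87, 93, 121] (v4 C) [26, 45, 66, 76, 104, 124] :=
  C.flip (f14305 C)

theorem f14307 : C.T (v18 C) [21, 48, 64, 84, 97, 109, 124] (v18 C) [22, 37, 58, 89, 97, 110, 120] :=
  C.closeT (p := (v4 C)) (pu := [16, 37, 64, 75, 96, 109, 125])
    (C.pT (f14296 C)
    (C.pH [8, 30, 65, 84, 94, 117] [17, 47, 60, 88, 100, 110, 124] (by decide +kernel)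
    (C.pT (f14299 C)
    (C.pH [26, 38, 54, 89, 90, 113] [21, 48, 64, 84, 97, 109, 124] (by decide +kernel) (C.pNil _ _)))))
    (C.pH [8, 30, 65, 84, 94, 117] [6, 41, 61, 87, 93, 121] (by decide +kernel)
    (C.pT (f14306 C)
    (C.pH [26, 38, 54, 89, 90, 113] [16, 37, 64, 75, 96, 109, 125] (by decide +kernel) (C.pNil _ _))))
    (C.loop_of_one (relLoop1 C) _ _)

theorem f14311 : C.T (v4 C) [11, 29, 57, 76, 108, 114] (v4 C) [7, 40, 53, 76, 96, 114] :=
  C.conv (f563 C) (f715 C) (f715 C) _ [144, 157, 165, 176, 177] _ (by decide +kernel) (by decide +kernel) (by decide +kernel)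

theorem f14312 : C.S (v4 C) [16, 43, 64, 82, 90, 110, 123] :=
  C.stMul (f421 C) (f8755 C) _ (by decide +kernel)

theorem f14313 : C.S (v4 C) [21, 60, 87, 91, 109, 120] :=
  C.stMul (f407 C) (f14312 C) _ (by decide +kernel)

theorem f14314 : C.T (v4 C) [17, 54, 105, 110, 122] (v18 C) [10, 48, 49, 74, 94, 116] :=
  C.conv (f7605 C) (f8757 C) (f14313 C) _ [126, 149, 168, 174] _ (by decide +kernel) (by decide +kernel) (by decide +kernel)

theorem f14315 : C.S (v4 C) [10, 42, 56, 80, 93, 109, 122] :=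
  C.stMul (f693 C) (f14237 C) _ (by decide +kernel)

theorem f14316 : C.S (v4 C) [25, 32, 52, 83, 96, 110, 121] :=
  C.stMul (f421 C) (f14315 C) _ (by decide +kernel)

theorem f14317 : C.T (v4 C) [8, 46, 72, 115] (v17 C) [15, 34, 60, 80, 93, 109, 117] :=
  C.conv (f6475 C) (f697 C) (f14316 C) _ [129, 160, 168, 176, 178] _ (by decide +kernel) (by decide +kernel) (by decide +kernel)

theorem f14318 : C.T (v17 C) [15, 34, 60, 80, 93, 109, 117] (v4 C) [8, 46, 72, 115] :=
  C.flip (f14317 C)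

theorem f14319 : C.T (v18 C) [21, 47, 67, 86, 95, 109, 116] (v17 C) [10, 44, 53, 74, 94, 110, 121] :=
  C.closeT (p := (v4 C)) (pu := [11, 29, 57, 76, 108, 114])
    (C.pT (f14311 C)
    (C.pH [8, 30, 65, 84, 94, 117] [17, 54, 105, 110, 122] (by decide +kernel)
    (C.pT (f14314 C)
    (C.pH [26, 38, 54, 89, 90, 113] [21, 47, 67, 86, 95, 109, 116] (by decide +kernel) (C.pNil _ _)))))
    (C.pH [8, 30, 65, 84, 94, 117] [15, 34, 60, 80, 93, 109, 117] (by decide +kernel)
    (C.pT (f14318 C)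
    (C.pH [26, 38, 54, 89, 90, 113] [11, 29, 57, 76, 108, 114] (by decide +kernel) (C.pNil _ _))))
    (C.loop_of_one (relLoop1 C) _ _)

theorem f14320 : C.T (v17 C) [10, 44, 53, 74, 94, 110, 121] (v18 C) [21, 47, 67, 86, 95, 109, 116] :=
  C.flip (f14319 C)

theorem f14321 : C.T (v4 C) [9, 48, 63, 78, 95, 110, 123] (v4 C) [21, 46, 54, 77, 105, 112] :=
  C.conv (f563 C) (f715 C) (f715 C) _ [146, 149, 164, 171, 178] _ (by decide +kernel) (by decide +kernel) (by decide +kernel)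

theorem f14322 : C.S (v4 C) [17, 45, 53, 80, 99, 109, 123] :=
  C.stMul (f407 C) (f14163 C) _ (by decide +kernel)

theorem f14323 : C.T (v4 C) [24, 39, 50, 82, 97, 110, 119] (v18 C) [17, 28, 89, 94, 109, 123] :=
  C.conv (f10188 C) (f12045 C) (f14322 C) _ [135, 156, 165, 175, 177] _ (by decide +kernel) (by decide +kernel) (by decide +kernel)

theorem f14324 : C.T (v4 C) [15, 44, 66, 83, 102, 110, 123] (v16 C) [12, 45, 62, 70, 105, 109, 114] :=
  C.conv (f3706 C) (f8301 C) (f421 C) _ [132, 149, 165] _ (by decide +kernel) (by decide +kernel) (by decide +kernel)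

theorem f14325 : C.T (v16 C) [12, 45, 62, 70, 105, 109, 114] (v4 C) [15, 44, 66, 83, 102, 110, 123] :=
  C.flip (f14324 C)

theorem f14326 : C.T (v18 C) [20, 37, 66, 82, 91, 110, 116] (v16 C) [5, 59, 96, 115] :=
  C.closeT (p := (v4 C)) (pu := [9, 48, 63, 78, 95, 110, 123])
    (C.pT (f14321 C)
    (C.pH [8, 30, 65, 84, 94, 117] [24, 39, 50, 82, 97, 110, 119] (by decide +kernel)
    (C.pT (f14323 C)
    (C.pH [26, 38, 54, 89, 90, 113] [20, 37, 66, 82, 91, 110, 116] (by decide +kernel) (C.pNil _ _)))))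
    (C.pH [8, 30, 65, 84, 94, 117] [12, 45, 62, 70, 105, 109, 114] (by decide +kernel)
    (C.pT (f14325 C)
    (C.pH [26, 38, 54, 89, 90, 113] [9, 48, 63, 78, 95, 110, 123] (by decide +kernel) (C.pNil _ _))))
    (C.loop_of_one (relLoop1 C) _ _)

theorem f14327 : C.T (v16 C) [5, 59, 96, 115] (v18 C) [20, 37, 66, 82, 91, 110, 116] :=
  C.flip (f14326 C)

theorem f14328 : C.T (v4 C) [24, 30, 63, 89, 108, 110, 125] (v4 C) [5, 27, 63, 72, 95, 110, 117] :=
  C.conv (f517 C) (f723 C) (f723 C) _ [151, 170, 171, 178] _ (by decide +kernel) (by decide +kernel) (by decide +kernel)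

theorem f14329 : C.S (v4 C) [10, 27, 56, 84, 93, 109, 113] :=
  C.stMul (f407 C) (f421 C) _ (by decide +kernel)

theorem f14330 : C.S (v4 C) [16, 32, 68, 79, 93, 110, 124] :=
  C.stMul (f407 C) (f14329 C) _ (by decide +kernel)

theorem f14331 : C.S (v4 C) [18, 44, 51, 79, 106, 114] :=
  C.stMul (f421 C) (f14330 C) _ (by decide +kernel)

theorem f14332 : C.S (v4 C) [23, 52, 80, 95, 123] :=
  C.stMul (f407 C) (f14331 C) _ (by decide +kernel)

theorem f14333 : C.T (v4 C) [12, 47, 53, 88, 101, 123] (v18 C) [23, 42, 61, 82, 97, 122] :=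
  C.conv (f13463 C) (f13841 C) (f14332 C) _ [135, 156, 164, 176, 178] _ (by decide +kernel) (by decide +kernel) (by decide +kernel)

theorem f14334 : C.S (v4 C) [17, 35, 66, 70, 95] :=
  C.stMul (f421 C) (f407 C) _ (by decide +kernel)

theorem f14335 : C.S (v4 C) [13, 44, 51, 82, 106, 110, 111] :=
  C.stMul (f407 C) (f14334 C) _ (by decide +kernel)

theorem f14336 : C.T (v4 C) [11, 47, 53, 81, 99, 116] (v17 C) [25, 30, 55, 84, 96, 109, 111] :=
  C.conv (f5167 C) (f421 C) (f14335 C) _ [137, 153, 164, 175, 178] _ (by decide +kernel) (by decide +kernel) (by decide +kernel)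

theorem f14337 : C.T (v17 C) [25, 30, 55, 84, 96, 109, 111] (v4 C) [11, 47, 53, 81, 99, 116] :=
  C.flip (f14336 C)

theorem f14338 : C.T (v18 C) [7, 28, 63, 70, 90, 109, 124] (v17 C) [4, 48, 49, 75, 96, 110, 121] :=
  C.closeT (p := (v4 C)) (pu := [24, 30, 63, 89, 108, 110, 125])
    (C.pT (f14328 C)
    (C.pH [8, 30, 65, 84, 94, 117] [12, 47, 53, 88, 101, 123] (by decide +kernel)
    (C.pT (f14333 C)
    (C.pH [26, 38, 54, 89, 90, 113] [7, 28, 63, 70, 90, 109, 124] (by decide +kernel) (C.pNil _ _)))))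
    (C.pH [8, 30, 65, 84, 94, 117] [25, 30, 55, 84, 96, 109, 111] (by decide +kernel)
    (C.pT (f14337 C)
    (C.pH [26, 38, 54, 89, 90, 113] [24, 30, 63, 89, 108, 110, 125] (by decide +kernel) (C.pNil _ _))))
    (C.loop_of_one (relLoop1 C) _ _)

theorem f14339 : C.T (v17 C) [4, 48, 49, 75, 96, 110, 121] (v18 C) [7, 28, 63, 70, 90, 109, 124] :=
  C.flip (f14338 C)

theorem f14340 : C.T (v4 C) [21, 31, 60, 82, 101, 110, 120] (v4 C) [43, 52, 70, 99, 123] :=
  C.conv (f517 C) (f723 C) (f723 C) _ [130, 153, 167, 172, 178] _ (by decide +kernel) (by decide +kernel) (by decide +kernel)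

theorem f14341 : C.S (v4 C) [17, 29, 60, 75, 100, 110, 113] :=
  C.stMul (f407 C) (f3029 C) _ (by decide +kernel)

theorem f14342 : C.T (v4 C) [8, 38, 66, 83, 98, 109, 113] (v9 C) [48, 59, 71, 95, 109] :=
  C.conv (f2044 C) (f2809 C) (f14341 C) _ [135, 152, 168, 173, 177] _ (by decide +kernel) (by decide +kernel) (by decide +kernel)

theorem f14343 : C.S (v4 C) [8, 31, 60, 85, 98, 110, 125] :=
  C.stMul (f693 C) (f407 C) _ (by decide +kernel)

theorem f14344 : C.S (v4 C) [42, 63, 82, 91, 110, 125] :=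
  C.stMul (f421 C) (f14343 C) _ (by decide +kernel)

theorem f14345 : C.S (v4 C) [12, 31, 56, 72, 107, 109, 112] :=
  C.stMul (f407 C) (f14344 C) _ (by decide +kernel)

theorem f14346 : C.T (v4 C) [10, 42, 69, 76, 95, 109, 115] (v18 C) [4, 31, 62, 72, 104, 121] :=
  C.conv (f8441 C) (f421 C) (f14345 C) _ [146, 162, 167, 172, 177] _ (by decide +kernel) (by decide +kernel) (by decide +kernel)

theorem f14347 : C.T (v18 C) [4, 31, 62, 72, 104, 121] (v4 C) [10, 42, 69, 76, 95, 109, 115] :=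
  C.flip (f14346 C)

theorem f14348 : C.T (v9 C) [26, 45, 60, 77, 98, 109, 115] (v18 C) [18, 37, 60, 81, 104, 117] :=
  C.closeT (p := (v4 C)) (pu := [21, 31, 60, 82, 101, 110, 120])
    (C.pT (f14340 C)
    (C.pH [8, 30, 65, 84, 94, 117] [8, 38, 66, 83, 98, 109, 113] (by decide +kernel)
    (C.pT (f14342 C)
    (C.pH [26, 38, 54, 89, 90, 113] [26, 45, 60, 77, 98, 109, 115] (by decide +kernel) (C.pNil _ _)))))
    (C.pH [8, 30, 65, 84, 94, 117] [4, 31, 62, 72, 104, 121] (by decide +kernel)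
    (C.pT (f14347 C)
    (C.pH [26, 38, 54, 89, 90, 113] [21, 31, 60, 82, 101, 110, 120] (by decide +kernel) (C.pNil _ _))))
    (C.loop_of_one (relLoop1 C) _ _)

theorem f14349 : C.T (v18 C) [18, 37, 60, 81, 104, 117] (v9 C) [26, 45, 60, 77, 98, 109, 115] :=
  C.flip (f14348 C)

theorem f14350 : C.T (v4 C) [15, 30, 64, 72, 100, 114] (v4 C) [22, 40, 57, 73, 99, 110, 116] :=
  C.conv (f517 C) (f723 C) (f723 C) _ [147, 163, 168, 174] _ (by decide +kernel) (by decide +kernel) (by decide +kernel)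

theorem f14351 : C.S (v4 C) [17, 35, 66, 70, 95] :=
  C.stMul (f421 C) (f407 C) _ (by decide +kernel)

theorem f14352 : C.S (v4 C) [13, 44, 51, 82, 106, 110, 111] :=
  C.stMul (f407 C) (f14351 C) _ (by decide +kernel)

theorem f14353 : C.S (v4 C) [21, 35, 69, 73, 94, 109, 122] :=
  C.stMul (f421 C) (f14352 C) _ (by decide +kernel)

theorem f14354 : C.S (v4 C) [18, 37, 59, 73, 102, 116] :=
  C.stMul (f693 C) (f14353 C) _ (by decide +kernel)

theorem f14355 : C.T (v4 C) [6, 44, 54, 79, 95, 111] (v16 C) [16, 37, 66, 72, 106, 109, 123] :=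
  C.conv (f3641 C) (f13592 C) (f14354 C) _ [144, 149, 169, 178] _ (by decide +kernel) (by decide +kernel) (by decide +kernel)

theorem f14356 : C.T (v4 C) [20, 44, 69, 87, 94, 109, 125] (v18 C) [9, 31, 67, 78, 103, 118] :=
  C.conv (f7575 C) (f7630 C) (f13615 C) _ [138, 159, 168, 176, 178] _ (by decide +kernel) (by decide +kernel) (by decide +kernel)

theorem f14357 : C.T (v18 C) [9, 31, 67, 78, 103, 118] (v4 C) [20, 44, 69, 87, 94, 109, 125] :=
  C.flip (f14356 C)

theorem f14358 : C.T (v16 C) [13, 45, 61, 71, 94, 110, 120] (v18 C) [25, 43, 51, 86, 101, 109, 121] :=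
  C.closeT (p := (v4 C)) (pu := [15, 30, 64, 72, 100, 114])
    (C.pT (f14350 C)
    (C.pH [8, 30, 65, 84, 94, 117] [6, 44, 54, 79, 95, 111] (by decide +kernel)
    (C.pT (f14355 C)
    (C.pH [26, 38, 54, 89, 90, 113] [13, 45, 61, 71, 94, 110, 120] (by decide +kernel) (C.pNil _ _)))))
    (C.pH [8, 30, 65, 84, 94, 117] [9, 31, 67, 78, 103, 118] (by decide +kernel)
    (C.pT (f14357 C)
    (C.pH [26, 38, 54, 89, 90, 113] [15, 30, 64, 72, 100, 114] (by decide +kernel) (C.pNil _ _))))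
    (C.loop_of_one (relLoop1 C) _ _)

theorem f14359 : C.T (v18 C) [25, 43, 51, 86, 101, 109, 121] (v16 C) [13, 45, 61, 71, 94, 110, 120] :=
  C.flip (f14358 C)

theorem f14360 : C.T (v4 C) [11, 44, 54, 92, 110, 118] (v4 C) [18, 35, 58, 89, 93, 110, 118] :=
  C.conv (f462 C) (f737 C) (f737 C) _ [134, 154, 175, 178] _ (by decide +kernel) (by decide +kernel) (by decide +kernel)

theorem f14361 : C.S (v4 C) [13, 44, 51, 82, 106, 110, 111] :=
  C.stMul (f407 C) (f13831 C) _ (by decide +kernel)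

theorem f14362 : C.S (v4 C) [17, 29, 60, 75, 100, 110, 113] :=
  C.stMul (f407 C) (f14361 C) _ (by decide +kernel)

theorem f14363 : C.S (v4 C) [12, 44, 50, 85, 106, 124] :=
  C.stMul (f421 C) (f14362 C) _ (by decide +kernel)

theorem f14364 : C.T (v4 C) [4, 36, 54, 95, 110, 118] (v18 C) [25, 48, 65, 73, 101, 109, 114] :=
  C.conv (f7520 C) (f8781 C) (f14363 C) _ [130, 158, 167, 174, 178] _ (by decide +kernel) (by decide +kernel) (by decide +kernel)

theorem f14365 : C.S (v4 C) [17, 35, 66, 70, 95] :=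
  C.stMul (f421 C) (f407 C) _ (by decide +kernel)

theorem f14366 : C.S (v4 C) [13, 44, 51, 82, 106, 110, 111] :=
  C.stMul (f407 C) (f14365 C) _ (by decide +kernel)

theorem f14367 : C.S (v4 C) [17, 29, 60, 75, 100, 110, 113] :=
  C.stMul (f407 C) (f14366 C) _ (by decide +kernel)

theorem f14368 : C.S (v4 C) [12, 44, 50, 85, 106, 124] :=
  C.stMul (f421 C) (f14367 C) _ (by decide +kernel)

theorem f14369 : C.T (v4 C) [8, 48, 66, 73, 100, 112] (v18 C) [10, 35, 65, 82, 102, 122] :=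
  C.conv (f7605 C) (f8757 C) (f14368 C) _ [146, 149, 165, 172, 178] _ (by decide +kernel) (by decide +kernel) (by decide +kernel)

theorem f14370 : C.T (v18 C) [10, 35, 65, 82, 102, 122] (v4 C) [8, 48, 66, 73, 100, 112] :=
  C.flip (f14369 C)

theorem f14371 : C.T (v18 C) [18, 40, 57, 85, 108, 109, 113] (v18 C) [23, 37, 65, 80, 106, 113] :=
  C.closeT (p := (v4 C)) (pu := [11, 44, 54, 92, 110, 118])
    (C.pT (f14360 C)
    (C.pH [8, 30, 65, 84, 94, 117] [4, 36, 54, 95, 110, 118] (by decide +kernel)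
    (C.pT (f14364 C)
    (C.pH [26, 38, 54, 89, 90, 113] [18, 40, 57, 85, 108, 109, 113] (by decide +kernel) (C.pNil _ _)))))
    (C.pH [8, 30, 65, 84, 94, 117] [10, 35, 65, 82, 102, 122] (by decide +kernel)
    (C.pT (f14370 C)
    (C.pH [26, 38, 54, 89, 90, 113] [11, 44, 54, 92, 110, 118] (by decide +kernel) (C.pNil _ _))))
    (C.loop_of_one (relLoop1 C) _ _)

theorem f14375 : C.T (v4 C) [6, 43, 64, 88, 123] (v4 C) [24, 38, 69, 72, 108, 109, 122] :=
  C.conv (f462 C) (f737 C) (f737 C) _ [147, 164, 176] _ (by decide +kernel) (by decide +kernel) (by decide +kernel)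

theorem f14376 : C.S (v4 C) [16, 43, 64, 82, 90, 110, 123] :=
  C.stMul (f421 C) (f10222 C) _ (by decide +kernel)

theorem f14377 : C.T (v4 C) [16, 46, 49, 104, 109, 112] (v18 C) [4, 28, 62, 73, 102, 109, 118] :=
  C.conv (f7487 C) (f8474 C) (f14376 C) _ [148, 159, 166, 174, 178] _ (by decide +kernel) (by decide +kernel) (by decide +kernel)

theorem f14378 : C.S (v4 C) [17, 35, 66, 70, 95] :=
  C.stMul (f421 C) (f407 C) _ (by decide +kernel)

theorem f14379 : C.S (v4 C) [13, 44, 51, 82, 106, 110, 111] :=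
  C.stMul (f407 C) (f14378 C) _ (by decide +kernel)

theorem f14380 : C.S (v4 C) [17, 29, 60, 75, 100, 110, 113] :=
  C.stMul (f407 C) (f14379 C) _ (by decide +kernel)

theorem f14381 : C.S (v4 C) [21, 35, 69, 73, 94, 109, 122] :=
  C.stMul (f421 C) (f14379 C) _ (by decide +kernel)

theorem f14382 : C.S (v4 C) [18, 37, 59, 73, 102, 116] :=
  C.stMul (f693 C) (f14381 C) _ (by decide +kernel)

theorem f14383 : C.S (v4 C) [16, 45, 55, 88, 103, 109, 115] :=
  C.stMul (f421 C) (f14382 C) _ (by decide +kernel)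

theorem f14384 : C.T (v4 C) [21, 47, 67, 84, 92, 110, 114] (v17 C) [31, 60, 81, 102, 119] :=
  C.conv (f6345 C) (f14380 C) (f14383 C) _ [130, 160] _ (by decide +kernel) (by decide +kernel) (by decide +kernel)

theorem f14385 : C.T (v17 C) [31, 60, 81, 102, 119] (v4 C) [21, 47, 67, 84, 92, 110, 114] :=
  C.flip (f14384 C)

theorem f14386 : C.T (v18 C) [25, 39, 53, 86, 108, 110, 116] (v17 C) [8, 30, 59, 79, 93, 110, 118] :=
  C.closeT (p := (v4 C)) (pu := [6, 43, 64, 88, 123])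
    (C.pT (f14375 C)
    (C.pH [8, 30, 65, 84, 94, 117] [16, 46, 49, 104, 109, 112] (by decide +kernel)
    (C.pT (f14377 C)
    (C.pH [26, 38, 54, 89, 90, 113] [25, 39, 53, 86, 108, 110, 116] (by decide +kernel) (C.pNil _ _)))))
    (C.pH [8, 30, 65, 84, 94, 117] [31, 60, 81, 102, 119] (by decide +kernel)
    (C.pT (f14385 C)
    (C.pH [26, 38, 54, 89, 90, 113] [6, 43, 64, 88, 123] (by decide +kernel) (C.pNil _ _))))
    (C.loop_of_one (relLoop1 C) _ _)

theorem f14387 : C.T (v17 C) [8, 30, 59, 79, 93, 110, 118] (v18 C) [25, 39, 53, 86, 108, 110, 116] :=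
  C.flip (f14386 C)

theorem f14388 : C.T (v4 C) [13, 47, 59, 86, 97, 110, 123] (v4 C) [38, 59, 74, 101, 110, 125] :=
  C.conv (f751 C) (f753 C) (f753 C) _ [147, 159, 167, 176, 177] _ (by decide +kernel) (by decide +kernel) (by decide +kernel)

theorem f14389 : C.S (v4 C) [23, 45, 57, 77, 95, 110, 118] :=
  C.stMul (f407 C) (f13476 C) _ (by decide +kernel)

theorem f14390 : C.S (v4 C) [26, 43, 63, 73, 104, 112] :=
  C.stMul (f421 C) (f14389 C) _ (by decide +kernel)

theorem f14391 : C.S (v4 C) [25, 46, 61, 102, 110, 119] :=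
  C.stMul (f407 C) (f14390 C) _ (by decide +kernel)

theorem f14392 : C.T (v4 C) [8, 47, 56, 80, 99, 109, 115] (v18 C) [18, 33, 54, 95, 110, 122] :=
  C.conv (f8390 C) (f13475 C) (f14391 C) _ [137, 152, 166, 176, 178] _ (by decide +kernel) (by decide +kernel) (by decide +kernel)

theorem f14393 : C.S (v4 C) [17, 35, 66, 70, 95] :=
  C.stMul (f421 C) (f407 C) _ (by decide +kernel)

theorem f14394 : C.S (v4 C) [26, 44, 64, 94, 121] :=
  C.stMul (f693 C) (f14393 C) _ (by decide +kernel)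

theorem f14395 : C.S (v4 C) [23, 27, 56, 70, 98, 125] :=
  C.stMul (f421 C) (f14394 C) _ (by decide +kernel)

theorem f14396 : C.S (v4 C) [33, 61, 77, 108, 110, 112] :=
  C.stMul (f407 C) (f14395 C) _ (by decide +kernel)

theorem f14397 : C.T (v4 C) [16, 45, 81, 99, 110, 122] (v17 C) [18, 30, 53, 72, 94, 110, 124] :=
  C.conv (f5849 C) (f13785 C) (f14396 C) _ [143, 163, 168, 174] _ (by decide +kernel) (by decide +kernel) (by decide +kernel)

theorem f14398 : C.T (v17 C) [18, 30, 53, 72, 94, 110, 124] (v4 C) [16, 45, 81, 99, 110, 122] :=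
  C.flip (f14397 C)

theorem f14399 : C.T (v18 C) [10, 43, 61, 83, 105, 110, 121] (v17 C) [9, 36, 68, 83, 97, 116] :=
  C.closeT (p := (v4 C)) (pu := [13, 47, 59, 86, 97, 110, 123])
    (C.pT (f14388 C)
    (C.pH [8, 30, 65, 84, 94, 117] [8, 47, 56, 80, 99, 109, 115] (by decide +kernel)
    (C.pT (f14392 C)
    (C.pH [26, 38, 54, 89, 90, 113] [10, 43, 61, 83, 105, 110, 121] (by decide +kernel) (C.pNil _ _)))))
    (C.pH [8, 30, 65, 84, 94, 117] [18, 30, 53, 72, 94, 110, 124] (by decide +kernel)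
    (C.pT (f14398 C)
    (C.pH [26, 38, 54, 89, 90, 113] [13, 47, 59, 86, 97, 110, 123] (by decide +kernel) (C.pNil _ _))))
    (C.loop_of_one (relLoop1 C) _ _)

theorem f14400 : C.T (v17 C) [9, 36, 68, 83, 97, 116] (v18 C) [10, 43, 61, 83, 105, 110, 121] :=
  C.flip (f14399 C)

theorem f14401 : C.T (v4 C) [5, 40, 61, 80, 97, 110, 112] (v4 C) [43, 55, 70, 90, 125] :=
  C.conv (f751 C) (f753 C) (f753 C) _ [148, 163, 170, 174, 177] _ (by decide +kernel) (by decide +kernel) (by decide +kernel)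

theorem f14402 : C.S (v4 C) [10, 27, 56, 84, 93, 109, 113] :=
  C.stMul (f407 C) (f421 C) _ (by decide +kernel)

theorem f14403 : C.S (v4 C) [16, 32, 68, 79, 93, 110, 124] :=
  C.stMul (f407 C) (f14402 C) _ (by decide +kernel)

theorem f14404 : C.S (v4 C) [18, 44, 51, 79, 106, 114] :=
  C.stMul (f421 C) (f14403 C) _ (by decide +kernel)

theorem f14405 : C.T (v4 C) [8, 38, 56, 76, 102, 109, 124] (v18 C) [18, 29, 56, 88, 116] :=
  C.conv (f7487 C) (f8474 C) (f14404 C) _ [141, 161, 164, 175, 178] _ (by decide +kernel) (by decide +kernel) (by decide +kernel)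

theorem f14406 : C.S (v4 C) [16, 46, 68, 72, 103, 110, 111] :=
  C.stMul (f693 C) (f13705 C) _ (by decide +kernel)

theorem f14407 : C.S (v4 C) [18, 31, 55, 83, 101, 117] :=
  C.stMul (f421 C) (f14406 C) _ (by decide +kernel)

theorem f14408 : C.T (v4 C) [14, 41, 59, 82, 108, 111] (v18 C) [48, 69, 84, 97, 111] :=
  C.conv (f8441 C) (f421 C) (f14407 C) _ [144, 153, 169, 172, 178] _ (by decide +kernel) (by decide +kernel) (by decide +kernel)

theorem f14409 : C.T (v18 C) [48, 69, 84, 97, 111] (v4 C) [14, 41, 59, 82, 108, 111] :=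
  C.flip (f14408 C)

theorem f14410 : C.T (v18 C) [10, 45, 66, 96, 110, 119] (v18 C) [8, 46, 65, 72, 99, 109, 121] :=
  C.closeT (p := (v4 C)) (pu := [5, 40, 61, 80, 97, 110, 112])
    (C.pT (f14401 C)
    (C.pH [8, 30, 65, 84, 94, 117] [8, 38, 56, 76, 102, 109, 124] (by decide +kernel)
    (C.pT (f14405 C)
    (C.pH [26, 38, 54, 89, 90, 113] [10, 45, 66, 96, 110, 119] (by decide +kernel) (C.pNil _ _)))))
    (C.pH [8, 30, 65, 84, 94, 117] [48, 69, 84, 97, 111] (by decide +kernel)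
    (C.pT (f14409 C)
    (C.pH [26, 38, 54, 89, 90, 113] [5, 40, 61, 80, 97, 110, 112] (by decide +kernel) (C.pNil _ _))))
    (C.loop_of_one (relLoop1 C) _ _)

theorem f14411 : C.T (v18 C) [8, 46, 65, 72, 99, 109, 121] (v18 C) [10, 45, 66, 96, 110, 119] :=
  C.flip (f14410 C)

theorem f14412 : C.T (v4 C) [26, 36, 61, 81, 97, 116] (v4 C) [11, 34, 63, 82, 108, 111] :=
  C.conv (f751 C) (f753 C) (f753 C) _ [130, 152, 170, 172, 178] _ (by decide +kernel) (by decide +kernel) (by decide +kernel)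

theorem f14413 : C.T (v4 C) [7, 38, 67, 89, 105, 109, 117] (v18 C) [4, 34, 57, 89, 108, 111] :=
  C.conv (f10822 C) (f14037 C) (f14037 C) _ [129, 161, 168, 172, 178] _ (by decide +kernel) (by decide +kernel) (by decide +kernel)

theorem f14414 : C.S (v4 C) [18, 46, 49, 75, 97, 110, 118] :=
  C.stMul (f407 C) (f407 C) _ (by decide +kernel)

theorem f14415 : C.S (v4 C) [23, 45, 57, 77, 95, 110, 118] :=
  C.stMul (f407 C) (f14414 C) _ (by decide +kernel)

theorem f14416 : C.S (v4 C) [26, 43, 63, 73, 104, 112] :=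
  C.stMul (f421 C) (f14415 C) _ (by decide +kernel)

theorem f14417 : C.S (v4 C) [25, 46, 61, 102, 110, 119] :=
  C.stMul (f407 C) (f14416 C) _ (by decide +kernel)

theorem f14418 : C.S (v4 C) [10, 38, 55, 71, 94, 110, 113] :=
  C.stMul (f421 C) (f14417 C) _ (by decide +kernel)

theorem f14419 : C.T (v4 C) [34, 59, 72, 92, 109, 113] (v16 C) [18, 29, 58, 82, 100, 109, 117] :=
  C.conv (f3706 C) (f8301 C) (f14418 C) _ [143, 163, 174, 177] _ (by decide +kernel) (by decide +kernel) (by decide +kernel)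

theorem f14420 : C.T (v16 C) [18, 29, 58, 82, 100, 109, 117] (v4 C) [34, 59, 72, 92, 109, 113] :=
  C.flip (f14419 C)

theorem f14421 : C.T (v18 C) [25, 38, 53, 81, 101, 115] (v16 C) [9, 29, 68, 71, 97, 110, 116] :=
  C.closeT (p := (v4 C)) (pu := [26, 36, 61, 81, 97, 116])
    (C.pT (f14412 C)
    (C.pH [8, 30, 65, 84, 94, 117] [7, 38, 67, 89, 105, 109, 117] (by decide +kernel)
    (C.pT (f14413 C)
    (C.pH [26, 38, 54, 89, 90, 113] [25, 38, 53, 81, 101, 115] (by decide +kernel) (C.pNil _ _)))))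
    (C.pH [8, 30, 65, 84, 94, 117] [18, 29, 58, 82, 100, 109, 117] (by decide +kernel)
    (C.pT (f14420 C)
    (C.pH [26, 38, 54, 89, 90, 113] [26, 36, 61, 81, 97, 116] (by decide +kernel) (C.pNil _ _))))
    (C.loop_of_one (relLoop1 C) _ _)

theorem f14422 : C.T (v16 C) [9, 29, 68, 71, 97, 110, 116] (v18 C) [25, 38, 53, 81, 101, 115] :=
  C.flip (f14421 C)

theorem f14423 : C.T (v4 C) [13, 36, 54, 83, 101, 116] (v4 C) [4, 30, 62, 73, 98, 109, 118] :=
  C.conv (f773 C) (f697 C) (f697 C) _ [141, 149, 167, 176, 178] _ (by decide +kernel) (by decide +kernel) (by decide +kernel)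

theorem f14424 : C.T (v4 C) [25, 47, 79, 90, 109, 124] (v10 C) [13, 28, 57, 76, 102, 110, 116] :=
  C.conv (f1798 C) (f1856 C) (f1978 C) _ [144, 158, 168, 175] _ (by decide +kernel) (by decide +kernel) (by decide +kernel)

theorem f14425 : C.S (v4 C) [17, 29, 60, 75, 100, 110, 113] :=
  C.stMul (f407 C) (f13649 C) _ (by decide +kernel)

theorem f14426 : C.S (v4 C) [12, 44, 50, 85, 106, 124] :=
  C.stMul (f421 C) (f14425 C) _ (by decide +kernel)

theorem f14427 : C.S (v4 C) [8, 33, 58, 79, 105, 109, 111] :=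
  C.stMul (f693 C) (f14426 C) _ (by decide +kernel)

theorem f14428 : C.T (v4 C) [16, 36, 64, 85, 94, 109, 116] (v18 C) [8, 30, 51, 73, 107, 109, 123] :=
  C.conv (f8390 C) (f13475 C) (f14427 C) _ [133, 153, 164, 172, 178] _ (by decide +kernel) (by decide +kernel) (by decide +kernel)

theorem f14429 : C.T (v18 C) [8, 30, 51, 73, 107, 109, 123] (v4 C) [16, 36, 64, 85, 94, 109, 116] :=
  C.flip (f14428 C)

theorem f14430 : C.T (v10 C) [23, 31, 51, 102, 109, 113] (v18 C) [57, 71, 107, 110, 123] :=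
  C.closeT (p := (v4 C)) (pu := [13, 36, 54, 83, 101, 116])
    (C.pT (f14423 C)
    (C.pH [8, 30, 65, 84, 94, 117] [25, 47, 79, 90, 109, 124] (by decide +kernel)
    (C.pT (f14424 C)
    (C.pH [26, 38, 54, 89, 90, 113] [23, 31, 51, 102, 109, 113] (by decide +kernel) (C.pNil _ _)))))
    (C.pH [8, 30, 65, 84, 94, 117] [8, 30, 51, 73, 107, 109, 123] (by decide +kernel)
    (C.pT (f14429 C)
    (C.pH [26, 38, 54, 89, 90, 113] [13, 36, 54, 83, 101, 116] (by decide +kernel) (C.pNil _ _))))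
    (C.loop_of_one (relLoop1 C) _ _)

theorem f14431 : C.T (v18 C) [57, 71, 107, 110, 123] (v10 C) [23, 31, 51, 102, 109, 113] :=
  C.flip (f14430 C)

theorem f14432 : C.T (v4 C) [11, 44, 51, 78, 98, 110, 124] (v4 C) [23, 31, 59, 87, 91, 110, 122] :=
  C.conv (f773 C) (f697 C) (f697 C) _ [148, 152, 172, 178] _ (by decide +kernel) (by decide +kernel) (by decide +kernel)

theorem f14433 : C.S (v4 C) [13, 44, 51, 82, 106, 110, 111] :=
  C.stMul (f407 C) (f13554 C) _ (by decide +kernel)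

theorem f14434 : C.S (v4 C) [17, 29, 60, 75, 100, 110, 113] :=
  C.stMul (f407 C) (f14433 C) _ (by decide +kernel)

theorem f14435 : C.T (v4 C) [10, 40, 67, 76, 93, 110, 116] (v18 C) [36, 67, 74, 102, 110] :=
  C.conv (f10153 C) (f11483 C) (f14434 C) _ [146, 162, 164, 174, 177] _ (by decide +kernel) (by decide +kernel) (by decide +kernel)

theorem f14436 : C.S (v4 C) [18, 46, 49, 75, 97, 110, 118] :=
  C.stMul (f407 C) (f407 C) _ (by decide +kernel)

theorem f14437 : C.S (v4 C) [16, 43, 64, 82, 90, 110, 123] :=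
  C.stMul (f421 C) (f14436 C) _ (by decide +kernel)

theorem f14438 : C.S (v4 C) [21, 60, 87, 91, 109, 120] :=
  C.stMul (f407 C) (f14437 C) _ (by decide +kernel)

theorem f14439 : C.S (v4 C) [8, 48, 61, 83, 103, 117] :=
  C.stMul (f407 C) (f14438 C) _ (by decide +kernel)

theorem f14440 : C.S (v4 C) [31, 58, 82, 95, 109, 115] :=
  C.stMul (f421 C) (f14439 C) _ (by decide +kernel)

theorem f14441 : C.T (v4 C) [8, 48, 68, 88, 93, 109, 121] (v17 C) [14, 31, 55, 72, 106, 125] :=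
  C.conv (f6313 C) (f6786 C) (f14440 C) _ [130, 163, 166, 172, 178] _ (by decide +kernel) (by decide +kernel) (by decide +kernel)

theorem f14442 : C.T (v17 C) [14, 31, 55, 72, 106, 125] (v4 C) [8, 48, 68, 88, 93, 109, 121] :=
  C.flip (f14441 C)

theorem f14443 : C.T (v18 C) [26, 41, 62, 80, 93, 109, 116] (v17 C) [26, 30, 61, 83, 103, 110, 113] :=
  C.closeT (p := (v4 C)) (pu := [11, 44, 51, 78, 98, 110, 124])
    (C.pT (f14432 C)
    (C.pH [8, 30, 65, 84, 94, 117] [10, 40, 67, 76, 93, 110, 116] (by decide +kernel)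
    (C.pT (f14435 C)
    (C.pH [26, 38, 54, 89, 90, 113] [26, 41, 62, 80, 93, 109, 116] (by decide +kernel) (C.pNil _ _)))))
    (C.pH [8, 30, 65, 84, 94, 117] [14, 31, 55, 72, 106, 125] (by decide +kernel)
    (C.pT (f14442 C)
    (C.pH [26, 38, 54, 89, 90, 113] [11, 44, 51, 78, 98, 110, 124] (by decide +kernel) (C.pNil _ _))))
    (C.loop_of_one (relLoop1 C) _ _)

theorem f14444 : C.T (v17 C) [26, 30, 61, 83, 103, 110, 113] (v18 C) [26, 41, 62, 80, 93, 109, 116] :=
  C.flip (f14443 C)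

theorem f14445 : C.T (v4 C) [4, 40, 52, 83, 97, 116] (v4 C) [11, 44, 67, 80, 103, 109, 120] :=
  C.conv (f778 C) (f421 C) (f421 C) _ [132, 167, 171] _ (by decide +kernel) (by decide +kernel) (by decide +kernel)

theorem f14446 : C.S (v4 C) [26, 44, 64, 94, 121] :=
  C.stMul (f693 C) (f7627 C) _ (by decide +kernel)

theorem f14447 : C.S (v4 C) [23, 27, 56, 70, 98, 125] :=
  C.stMul (f421 C) (f14446 C) _ (by decide +kernel)

theorem f14448 : C.T (v4 C) [7, 29, 57, 85, 93, 109, 115] (v18 C) [14, 28, 52, 85, 98, 122] :=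
  C.conv (f7575 C) (f7630 C) (f14447 C) _ [143, 161, 165, 174, 178] _ (by decide +kernel) (by decide +kernel) (by decide +kernel)

theorem f14449 : C.T (v4 C) [6, 27, 58, 83, 90, 109, 113] (v18 C) [44, 52, 79, 96, 109, 118] :=
  C.conv (f7575 C) (f7630 C) (f12182 C) _ [128, 160, 167, 175, 177] _ (by decide +kernel) (by decide +kernel) (by decide +kernel)

theorem f14450 : C.T (v18 C) [44, 52, 79, 96, 109, 118] (v4 C) [6, 27, 58, 83, 90, 109, 113] :=
  C.flip (f14449 C)

theorem f14451 : C.T (v18 C) [5, 29, 61, 76, 101, 109, 125] (v18 C) [8, 29, 86, 105, 123] :=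
  C.closeT (p := (v4 C)) (pu := [4, 40, 52, 83, 97, 116])
    (C.pT (f14445 C)
    (C.pH [8, 30, 65, 84, 94, 117] [7, 29, 57, 85, 93, 109, 115] (by decide +kernel)
    (C.pT (f14448 C)
    (C.pH [26, 38, 54, 89, 90, 113] [5, 29, 61, 76, 101, 109, 125] (by decide +kernel) (C.pNil _ _)))))
    (C.pH [8, 30, 65, 84, 94, 117] [44, 52, 79, 96, 109, 118] (by decide +kernel)
    (C.pT (f14450 C)
    (C.pH [26, 38, 54, 89, 90, 113] [4, 40, 52, 83, 97, 116] (by decide +kernel) (C.pNil _ _))))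
    (C.loop_of_one (relLoop1 C) _ _)

theorem f14454 : C.T (v4 C) [24, 29, 59, 78, 107, 109, 112] (v4 C) [8, 38, 82, 101, 109, 125] :=
  C.conv (f778 C) (f421 C) (f421 C) _ [131, 150, 167, 174] _ (by decide +kernel) (by decide +kernel) (by decide +kernel)

theorem f14455 : C.T (v4 C) [38, 51, 74, 121] (v18 C) [5, 41, 53, 75, 99, 124] :=
  C.conv (f7605 C) (f8757 C) (f14020 C) _ [148, 163, 172] _ (by decide +kernel) (by decide +kernel) (by decide +kernel)

theorem f14456 : C.S (v4 C) [16, 32, 68, 79, 93, 110, 124] :=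
  C.stMul (f407 C) (f10048 C) _ (by decide +kernel)

theorem f14457 : C.S (v4 C) [18, 44, 51, 79, 106, 114] :=
  C.stMul (f421 C) (f14456 C) _ (by decide +kernel)

theorem f14458 : C.T (v4 C) [11, 40, 57, 76, 96, 109, 123] (v18 C) [18, 31, 57, 78, 104, 109, 124] :=
  C.conv (f8339 C) (f8769 C) (f14457 C) _ [140, 159, 168, 173] _ (by decide +kernel) (by decide +kernel) (by decide +kernel)

theorem f14459 : C.T (v18 C) [18, 31, 57, 78, 104, 109, 124] (v4 C) [11, 40, 57, 76, 96, 109, 123] :=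
  C.flip (f14458 C)

theorem f14460 : C.T (v18 C) [8, 68, 86, 100, 125] (v18 C) [9, 37, 60, 82, 90, 110, 119] :=
  C.closeT (p := (v4 C)) (pu := [24, 29, 59, 78, 107, 109, 112])
    (C.pT (f14454 C)
    (C.pH [8, 30, 65, 84, 94, 117] [38, 51, 74, 121] (by decide +kernel)
    (C.pT (f14455 C)
    (C.pH [26, 38, 54, 89, 90, 113] [8, 68, 86, 100, 125] (by decide +kernel) (C.pNil _ _)))))
    (C.pH [8, 30, 65, 84, 94, 117] [18, 31, 57, 78, 104, 109, 124] (by decide +kernel)
    (C.pT (f14459 C)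
    (C.pH [26, 38, 54, 89, 90, 113] [24, 29, 59, 78, 107, 109, 112] (by decide +kernel) (C.pNil _ _))))
    (C.loop_of_one (relLoop1 C) _ _)

theorem f14461 : C.T (v18 C) [9, 37, 60, 82, 90, 110, 119] (v18 C) [8, 68, 86, 100, 125] :=
  C.flip (f14460 C)

theorem f14462 : C.T (v4 C) [18, 41, 52, 85, 92, 109] (v4 C) [16, 44, 59, 82, 96, 110, 113] :=
  C.conv (f791 C) (f793 C) (f793 C) _ [128, 157, 173, 178] _ (by decide +kernel) (by decide +kernel) (by decide +kernel)

theorem f14463 : C.S (v4 C) [25, 47, 59, 76, 103, 109, 113] :=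
  C.stMul (f421 C) (f11480 C) _ (by decide +kernel)

theorem f14464 : C.T (v4 C) [20, 30, 52, 83, 108, 109, 112] (v18 C) [6, 33, 58, 88, 106, 109, 121] :=
  C.conv (f10153 C) (f11483 C) (f14463 C) _ [136, 159, 167, 175] _ (by decide +kernel) (by decide +kernel) (by decide +kernel)

theorem f14465 : C.T (v4 C) [25, 46, 65, 88, 96, 123] (v16 C) [6, 37, 68, 78, 110, 123] :=
  C.conv (f3935 C) (f4106 C) (f421 C) _ [142, 149, 165, 176, 177] _ (by decide +kernel) (by decide +kernel) (by decide +kernel)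

theorem f14466 : C.T (v16 C) [6, 37, 68, 78, 110, 123] (v4 C) [25, 46, 65, 88, 96, 123] :=
  C.flip (f14465 C)

theorem f14467 : C.T (v18 C) [4, 31, 58, 76, 94, 122] (v16 C) [22, 44, 54, 84, 107, 110, 113] :=
  C.closeT (p := (v4 C)) (pu := [18, 41, 52, 85, 92, 109])
    (C.pT (f14462 C)
    (C.pH [8, 30, 65, 84, 94, 117] [20, 30, 52, 83, 108, 109, 112] (by decide +kernel)
    (C.pT (f14464 C)
    (C.pH [26, 38, 54, 89, 90, 113] [4, 31, 58, 76, 94, 122] (by decide +kernel) (C.pNil _ _)))))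
    (C.pH [8, 30, 65, 84, 94, 117] [6, 37, 68, 78, 110, 123] (by decide +kernel)
    (C.pT (f14466 C)
    (C.pH [26, 38, 54, 89, 90, 113] [18, 41, 52, 85, 92, 109] (by decide +kernel) (C.pNil _ _))))
    (C.loop_of_one (relLoop1 C) _ _)

theorem f14468 : C.T (v16 C) [22, 44, 54, 84, 107, 110, 113] (v18 C) [4, 31, 58, 76, 94, 122] :=
  C.flip (f14467 C)

theorem f14469 : C.T (v4 C) [4, 48, 51, 78, 100, 110, 125] (v4 C) [21, 39, 62, 81, 99, 110, 116] :=
  C.conv (f798 C) (f421 C) (f421 C) _ [130, 152, 167, 171, 178] _ (by decide +kernel) (by decide +kernel) (by decide +kernel)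

theorem f14470 : C.S (v4 C) [16, 46, 68, 72, 103, 110, 111] :=
  C.stMul (f693 C) (f14389 C) _ (by decide +kernel)

theorem f14471 : C.S (v4 C) [18, 31, 55, 83, 101, 117] :=
  C.stMul (f421 C) (f14470 C) _ (by decide +kernel)

theorem f14472 : C.T (v4 C) [24, 48, 57, 75, 105, 110, 118] (v18 C) [26, 40, 65, 77, 107, 109, 121] :=
  C.conv (f8390 C) (f13475 C) (f14471 C) _ [162, 173, 177] _ (by decide +kernel) (by decide +kernel) (by decide +kernel)

theorem f14473 : C.S (v4 C) [18, 46, 49, 75, 97, 110, 118] :=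
  C.stMul (f407 C) (f407 C) _ (by decide +kernel)

theorem f14474 : C.S (v4 C) [16, 43, 64, 82, 90, 110, 123] :=
  C.stMul (f421 C) (f14473 C) _ (by decide +kernel)

theorem f14475 : C.S (v4 C) [21, 60, 87, 91, 109, 120] :=
  C.stMul (f407 C) (f14474 C) _ (by decide +kernel)

theorem f14476 : C.T (v4 C) [6, 40, 64, 84, 109, 120] (v17 C) [10, 40, 85, 93, 110, 118] :=
  C.conv (f5350 C) (f12155 C) (f14475 C) _ [138, 153, 167, 177] _ (by decide +kernel) (by decide +kernel) (by decide +kernel)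

theorem f14477 : C.T (v17 C) [10, 40, 85, 93, 110, 118] (v4 C) [6, 40, 64, 84, 109, 120] :=
  C.flip (f14476 C)

theorem f14478 : C.T (v18 C) [16, 33, 67, 107, 109, 120] (v17 C) [23, 31, 80, 92, 113] :=
  C.closeT (p := (v4 C)) (pu := [4, 48, 51, 78, 100, 110, 125])
    (C.pT (f14469 C)
    (C.pH [8, 30, 65, 84, 94, 117] [24, 48, 57, 75, 105, 110, 118] (by decide +kernel)
    (C.pT (f14472 C)
    (C.pH [26, 38, 54, 89, 90, 113] [16, 33, 67, 107, 109, 120] (by decide +kernel) (C.pNil _ _)))))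
    (C.pH [8, 30, 65, 84, 94, 117] [10, 40, 85, 93, 110, 118] (by decide +kernel)
    (C.pT (f14477 C)
    (C.pH [26, 38, 54, 89, 90, 113] [4, 48, 51, 78, 100, 110, 125] (by decide +kernel) (C.pNil _ _))))
    (C.loop_of_one (relLoop1 C) _ _)

theorem f14479 : C.T (v17 C) [23, 31, 80, 92, 113] (v18 C) [16, 33, 67, 107, 109, 120] :=
  C.flip (f14478 C)

theorem f14480 : C.T (v4 C) [14, 37, 60, 75, 100, 112] (v3 C) [40, 58, 84, 99, 124] :=
  C.conv (f809 C) (f813 C) (f813 C) _ [139, 157, 164, 176, 178] _ (by decide +kernel) (by decide +kernel) (by decide +kernel)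

theorem f14481 : C.S (v3 C) [13, 42, 59, 86, 99, 123] :=
  C.stMul (f335 C) (f13261 C) _ (by decide +kernel)

theorem f14482 : C.S (v3 C) [8, 35, 61, 80, 93, 109, 122] :=
  C.stMul (f331 C) (f14481 C) _ (by decide +kernel)

theorem f14483 : C.T (v3 C) [8, 39, 61, 89, 105, 110, 124] (v18 C) [15, 48, 67, 80, 107, 109, 113] :=
  C.conv (f8165 C) (f8200 C) (f14482 C) _ [131, 154, 167, 175] _ (by decide +kernel) (by decide +kernel) (by decide +kernel)

theorem f14484 : C.S (v4 C) [25, 46, 61, 102, 110, 119] :=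
  C.stMul (f407 C) (f2954 C) _ (by decide +kernel)

theorem f14485 : C.S (v4 C) [10, 38, 55, 71, 94, 110, 113] :=
  C.stMul (f421 C) (f14484 C) _ (by decide +kernel)

theorem f14486 : C.T (v4 C) [12, 43, 50, 88, 96, 124] (v15 C) [20, 34, 99, 110, 111] :=
  C.conv (f2628 C) (f2666 C) (f14485 C) _ [139, 166, 174] _ (by decide +kernel) (by decide +kernel) (by decide +kernel)

theorem f14487 : C.T (v15 C) [20, 34, 99, 110, 111] (v4 C) [12, 43, 50, 88, 96, 124] :=
  C.flip (f14486 C)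

theorem f14488 : C.T (v18 C) [9, 43, 59, 96, 109, 124] (v15 C) [16, 38, 49, 87, 92, 110, 124] :=
  C.closeT (p := (v4 C)) (pu := [14, 37, 60, 75, 100, 112])
    (C.pT (f14480 C)
    (C.pH [8, 30, 65, 84, 94, 117] [8, 39, 61, 89, 105, 110, 124] (by decide +kernel)
    (C.pT (f14483 C)
    (C.pH [26, 38, 54, 89, 90, 113] [9, 43, 59, 96, 109, 124] (by decide +kernel) (C.pNil _ _)))))
    (C.pH [8, 30, 65, 84, 94, 117] [20, 34, 99, 110, 111] (by decide +kernel)
    (C.pT (f14487 C)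
    (C.pH [26, 38, 54, 89, 90, 113] [14, 37, 60, 75, 100, 112] (by decide +kernel) (C.pNil _ _))))
    (C.loop_of_one (relLoop1 C) _ _)

theorem f14489 : C.T (v15 C) [16, 38, 49, 87, 92, 110, 124] (v18 C) [9, 43, 59, 96, 109, 124] :=
  C.flip (f14488 C)

theorem f14490 : C.T (v4 C) [4, 46, 60, 83, 95, 110, 115] (v4 C) [18, 37, 52, 80, 100, 110, 125] :=
  C.conv (f827 C) (f831 C) (f831 C) _ [132, 149, 170, 175] _ (by decide +kernel) (by decide +kernel) (by decide +kernel)

theorem f14491 : C.S (v4 C) [13, 28, 60, 83, 108, 110, 119] :=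
  C.stMul (f421 C) (f693 C) _ (by decide +kernel)

theorem f14492 : C.T (v4 C) [4, 31, 61, 82, 97, 109, 123] (v18 C) [25, 39, 86, 106, 110, 124] :=
  C.conv (f11160 C) (f13694 C) (f14491 C) _ [145, 163, 176, 178] _ (by decide +kernel) (by decide +kernel) (by decide +kernel)

theorem f14493 : C.T (v4 C) [6, 34, 52, 93, 110, 122] (v18 C) [21, 44, 52, 89, 98, 120] :=
  C.conv (f11160 C) (f13694 C) (f13695 C) _ [129, 151, 168, 174] _ (by decide +kernel) (by decide +kernel) (by decide +kernel)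

theorem f14494 : C.T (v18 C) [21, 44, 52, 89, 98, 120] (v4 C) [6, 34, 52, 93, 110, 122] :=
  C.flip (f14493 C)

theorem f14495 : C.T (v18 C) [18, 35, 54, 76, 100, 115] (v18 C) [12, 45, 60, 78, 94, 112] :=
  C.closeT (p := (v4 C)) (pu := [4, 46, 60, 83, 95, 110, 115])
    (C.pT (f14490 C)
    (C.pH [8, 30, 65, 84, 94, 117] [4, 31, 61, 82, 97, 109, 123] (by decide +kernel)
    (C.pT (f14492 C)
    (C.pH [26, 38, 54, 89, 90, 113] [18, 35, 54, 76, 100, 115] (by decide +kernel) (C.pNil _ _)))))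
    (C.pH [8, 30, 65, 84, 94, 117] [21, 44, 52, 89, 98, 120] (by decide +kernel)
    (C.pT (f14494 C)
    (C.pH [26, 38, 54, 89, 90, 113] [4, 46, 60, 83, 95, 110, 115] (by decide +kernel) (C.pNil _ _))))
    (C.loop_of_one (relLoop1 C) _ _)

theorem f14498 : C.T (v4 C) [7, 48, 54, 89, 108, 110, 116] (v4 C) [15, 46, 54, 76, 105] :=
  C.conv (f827 C) (f831 C) (f831 C) _ [144, 157, 169, 174] _ (by decide +kernel) (by decide +kernel) (by decide +kernel)

theorem f14499 : C.S (v4 C) [16, 43, 64, 82, 90, 110, 123] :=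
  C.stMul (f421 C) (f13582 C) _ (by decide +kernel)

theorem f14500 : C.S (v4 C) [21, 60, 87, 91, 109, 120] :=
  C.stMul (f407 C) (f14499 C) _ (by decide +kernel)

theorem f14501 : C.S (v4 C) [13, 34, 59, 73, 105, 109, 115] :=
  C.stMul (f421 C) (f14500 C) _ (by decide +kernel)

theorem f14502 : C.T (v4 C) [19, 47, 67, 89, 107, 110, 116] (v18 C) [30, 52, 74, 98, 112] :=
  C.conv (f13468 C) (f13575 C) (f14501 C) _ [141, 158] _ (by decide +kernel) (by decide +kernel) (by decide +kernel)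

theorem f14503 : C.S (v4 C) [17, 29, 60, 75, 100, 110, 113] :=
  C.stMul (f407 C) (f12157 C) _ (by decide +kernel)

theorem f14504 : C.S (v4 C) [12, 44, 50, 85, 106, 124] :=
  C.stMul (f421 C) (f14503 C) _ (by decide +kernel)

theorem f14505 : C.S (v4 C) [8, 33, 58, 79, 105, 109, 111] :=
  C.stMul (f693 C) (f14504 C) _ (by decide +kernel)

theorem f14506 : C.T (v4 C) [23, 34, 66, 84, 95, 110, 124] (v17 C) [5, 40, 61, 73, 94, 111] :=
  C.conv (f5350 C) (f12155 C) (f14505 C) _ [143, 159, 164, 172] _ (by decide +kernel) (by decide +kernel) (by decide +kernel)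

theorem f14507 : C.T (v17 C) [5, 40, 61, 73, 94, 111] (v4 C) [23, 34, 66, 84, 95, 110, 124] :=
  C.flip (f14506 C)

theorem f14508 : C.T (v18 C) [26, 43, 60, 82, 103, 110, 111] (v17 C) [14, 42, 50, 88, 96, 110, 117] :=
  C.closeT (p := (v4 C)) (pu := [7, 48, 54, 89, 108, 110, 116])
    (C.pT (f14498 C)
    (C.pH [8, 30, 65, 84, 94, 117] [19, 47, 67, 89, 107, 110, 116] (by decide +kernel)
    (C.pT (f14502 C)
    (C.pH [26, 38, 54, 89, 90, 113] [26, 43, 60, 82, 103, 110, 111] (by decide +kernel) (C.pNil _ _)))))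
    (C.pH [8, 30, 65, 84, 94, 117] [5, 40, 61, 73, 94, 111] (by decide +kernel)
    (C.pT (f14507 C)
    (C.pH [26, 38, 54, 89, 90, 113] [7, 48, 54, 89, 108, 110, 116] (by decide +kernel) (C.pNil _ _))))
    (C.loop_of_one (relLoop1 C) _ _)

theorem f14509 : C.T (v17 C) [14, 42, 50, 88, 96, 110, 117] (v18 C) [26, 43, 60, 82, 103, 110, 111] :=
  C.flip (f14508 C)

theorem f14510 : C.T (v4 C) [5, 47, 68, 76, 108, 110, 118] (v4 C) [20, 28, 65, 70, 105, 109, 115] :=
  C.conv (f827 C) (f831 C) (f831 C) _ [148, 160, 166, 174, 178] _ (by decide +kernel) (by decide +kernel) (by decide +kernel)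

theorem f14511 : C.T (v4 C) [23, 28, 51, 85, 99, 109, 111] (v18 C) [15, 43, 68, 80, 94, 110, 121] :=
  C.conv (f7256 C) (f7503 C) (f7502 C) _ [141, 157, 167, 174, 178] _ (by decide +kernel) (by decide +kernel) (by decide +kernel)

theorem f14512 : C.T (v4 C) [14, 31, 62, 72, 101, 109, 115] (v17 C) [21, 41, 55, 81, 105, 123] :=
  C.conv (f6736 C) (f8944 C) (f8944 C) _ [133, 163, 168, 172] _ (by decide +kernel) (by decide +kernel) (by decide +kernel)

theorem f14513 : C.T (v17 C) [21, 41, 55, 81, 105, 123] (v4 C) [14, 31, 62, 72, 101, 109, 115] :=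
  C.flip (f14512 C)

theorem f14514 : C.T (v18 C) [9, 31, 57, 86, 102, 111] (v17 C) [12, 32, 58, 88, 94, 109, 115] :=
  C.closeT (p := (v4 C)) (pu := [5, 47, 68, 76, 108, 110, 118])
    (C.pT (f14510 C)
    (C.pH [8, 30, 65, 84, 94, 117] [23, 28, 51, 85, 99, 109, 111] (by decide +kernel)
    (C.pT (f14511 C)
    (C.pH [26, 38, 54, 89, 90, 113] [9, 31, 57, 86, 102, 111] (by decide +kernel) (C.pNil _ _)))))
    (C.pH [8, 30, 65, 84, 94, 117] [21, 41, 55, 81, 105, 123] (by decide +kernel)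
    (C.pT (f14513 C)
    (C.pH [26, 38, 54, 89, 90, 113] [5, 47, 68, 76, 108, 110, 118] (by decide +kernel) (C.pNil _ _))))
    (C.loop_of_one (relLoop1 C) _ _)

theorem f14515 : C.T (v17 C) [12, 32, 58, 88, 94, 109, 115] (v18 C) [9, 31, 57, 86, 102, 111] :=
  C.flip (f14514 C)

theorem f14516 : C.T (v4 C) [21, 29, 63, 88, 101, 110] (v4 C) [15, 33, 50, 70, 97, 110, 111] :=
  C.conv (f827 C) (f831 C) (f831 C) _ [132, 162, 169, 173, 177] _ (by decide +kernel) (by decide +kernel) (by decide +kernel)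

theorem f14517 : C.T (v4 C) [19, 31, 49, 75, 93, 109, 112] (v15 C) [24, 28, 57, 74, 95, 125] :=
  C.conv (f2628 C) (f2666 C) (f2673 C) _ [138, 162, 165, 178] _ (by decide +kernel) (by decide +kernel) (by decide +kernel)

theorem f14518 : C.S (v4 C) [26, 44, 64, 94, 121] :=
  C.stMul (f693 C) (f14246 C) _ (by decide +kernel)

theorem f14519 : C.T (v4 C) [10, 27, 59, 71, 100, 120] (v18 C) [14, 33, 67, 73, 92, 109, 123] :=
  C.conv (f6930 C) (f7494 C) (f14518 C) _ [136, 150, 168, 173, 177] _ (by decide +kernel) (by decide +kernel) (by decide +kernel)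

theorem f14520 : C.T (v18 C) [14, 33, 67, 73, 92, 109, 123] (v4 C) [10, 27, 59, 71, 100, 120] :=
  C.flip (f14519 C)

theorem f14521 : C.T (v15 C) [12, 34, 56, 79, 100, 118] (v18 C) [26, 42, 53, 82, 91, 110, 118] :=
  C.closeT (p := (v4 C)) (pu := [21, 29, 63, 88, 101, 110])
    (C.pT (f14516 C)
    (C.pH [8, 30, 65, 84, 94, 117] [19, 31, 49, 75, 93, 109, 112] (by decide +kernel)
    (C.pT (f14517 C)
    (C.pH [26, 38, 54, 89, 90, 113] [12, 34, 56, 79, 100, 118] (by decide +kernel) (C.pNil _ _)))))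
    (C.pH [8, 30, 65, 84, 94, 117] [14, 33, 67, 73, 92, 109, 123] (by decide +kernel)
    (C.pT (f14520 C)
    (C.pH [26, 38, 54, 89, 90, 113] [21, 29, 63, 88, 101, 110] (by decide +kernel) (C.pNil _ _))))
    (C.loop_of_one (relLoop1 C) _ _)

theorem f14522 : C.T (v18 C) [26, 42, 53, 82, 91, 110, 118] (v15 C) [12, 34, 56, 79, 100, 118] :=
  C.flip (f14521 C)

theorem f14523 : C.T (v4 C) [18, 41, 68, 83, 99, 109] (v4 C) [17, 36, 81, 104, 119] :=
  C.conv (f827 C) (f831 C) (f831 C) _ [142, 157, 164, 174] _ (by decide +kernel) (by decide +kernel) (by decide +kernel)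

theorem f14524 : C.S (v4 C) [23, 41, 49, 78, 91, 109] :=
  C.stMul (f693 C) (f421 C) _ (by decide +kernel)

theorem f14525 : C.S (v4 C) [26, 36, 62, 77, 94, 121] :=
  C.stMul (f421 C) (f14524 C) _ (by decide +kernel)

theorem f14526 : C.S (v4 C) [25, 42, 55, 82, 95, 109] :=
  C.stMul (f407 C) (f14525 C) _ (by decide +kernel)

theorem f14527 : C.T (v4 C) [22, 41, 53, 74, 93, 109, 122] (v18 C) [17, 39, 64, 84, 106, 123] :=
  C.conv (f8339 C) (f8769 C) (f14526 C) _ [139, 157, 169, 172] _ (by decide +kernel) (by decide +kernel) (by decide +kernel)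

theorem f14528 : C.T (v4 C) [25, 46, 53, 82, 91, 110, 112] (v18 C) [7, 34, 50, 73, 108, 124] :=
  C.conv (f8339 C) (f8769 C) (f14525 C) _ [129, 162, 169, 172] _ (by decide +kernel) (by decide +kernel) (by decide +kernel)

theorem f14529 : C.T (v18 C) [7, 34, 50, 73, 108, 124] (v4 C) [25, 46, 53, 82, 91, 110, 112] :=
  C.flip (f14528 C)

theorem f14530 : C.T (v18 C) [20, 43, 65, 88, 91, 110, 123] (v18 C) [11, 65, 73, 108, 124] :=
  C.closeT (p := (v4 C)) (pu := [18, 41, 68, 83, 99, 109])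
    (C.pT (f14523 C)
    (C.pH [8, 30, 65, 84, 94, 117] [22, 41, 53, 74, 93, 109, 122] (by decide +kernel)
    (C.pT (f14527 C)
    (C.pH [26, 38, 54, 89, 90, 113] [20, 43, 65, 88, 91, 110, 123] (by decide +kernel) (C.pNil _ _)))))
    (C.pH [8, 30, 65, 84, 94, 117] [7, 34, 50, 73, 108, 124] (by decide +kernel)
    (C.pT (f14529 C)
    (C.pH [26, 38, 54, 89, 90, 113] [18, 41, 68, 83, 99, 109] (by decide +kernel) (C.pNil _ _))))
    (C.loop_of_one (relLoop1 C) _ _)

theorem f14534 : C.T (v4 C) [19, 45, 64, 75, 103, 110, 118] (v2 C) [26, 40, 50, 71, 105, 109, 115] :=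
  C.conv (f858 C) (f860 C) (f860 C) _ [144, 151, 164, 173, 177] _ (by decide +kernel) (by decide +kernel) (by decide +kernel)

theorem f14535 : C.S (v2 C) [23, 43, 59, 79, 108, 110, 120] :=
  C.stMul (f101 C) (f7408 C) _ (by decide +kernel)

theorem f14536 : C.S (v2 C) [21, 36, 56, 85, 97, 110, 117] :=
  C.stMul (f243 C) (f14535 C) _ (by decide +kernel)

theorem f14537 : C.T (v2 C) [14, 36, 62, 74, 90, 118] (v18 C) [47, 58, 89, 93, 110, 124] :=
  C.conv (f6850 C) (f6867 C) (f14536 C) _ [134, 159, 170, 171] _ (by decide +kernel) (by decide +kernel) (by decide +kernel)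

theorem f14538 : C.S (v4 C) [17, 35, 66, 70, 95] :=
  C.stMul (f421 C) (f407 C) _ (by decide +kernel)

theorem f14539 : C.S (v4 C) [26, 44, 64, 94, 121] :=
  C.stMul (f693 C) (f14538 C) _ (by decide +kernel)

theorem f14540 : C.T (v4 C) [22, 30, 59, 87, 91, 110, 120] (v17 C) [5, 27, 52, 73, 100, 109, 111] :=
  C.conv (f6475 C) (f697 C) (f14539 C) _ [144, 158, 166, 172, 177] _ (by decide +kernel) (by decide +kernel) (by decide +kernel)

theorem f14541 : C.T (v17 C) [5, 27, 52, 73, 100, 109, 111] (v4 C) [22, 30, 59, 87, 91, 110, 120] :=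
  C.flip (f14540 C)

theorem f14542 : C.T (v18 C) [26, 46, 53, 81, 104, 109] (v17 C) [14, 38, 108, 109, 116] :=
  C.closeT (p := (v4 C)) (pu := [19, 45, 64, 75, 103, 110, 118])
    (C.pT (f14534 C)
    (C.pH [8, 30, 65, 84, 94, 117] [14, 36, 62, 74, 90, 118] (by decide +kernel)
    (C.pT (f14537 C)
    (C.pH [26, 38, 54, 89, 90, 113] [26, 46, 53, 81, 104, 109] (by decide +kernel) (C.pNil _ _)))))
    (C.pH [8, 30, 65, 84, 94, 117] [5, 27, 52, 73, 100, 109, 111] (by decide +kernel)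
    (C.pT (f14541 C)
    (C.pH [26, 38, 54, 89, 90, 113] [19, 45, 64, 75, 103, 110, 118] (by decide +kernel) (C.pNil _ _))))
    (C.loop_of_one (relLoop1 C) _ _)

theorem f14543 : C.T (v17 C) [14, 38, 108, 109, 116] (v18 C) [26, 46, 53, 81, 104, 109] :=
  C.flip (f14542 C)

theorem f14544 : C.T (v4 C) [24, 29, 64, 89, 101, 110, 118] (v2 C) [10, 37, 52, 79, 99, 109, 123] :=
  C.conv (f858 C) (f860 C) (f860 C) _ [145, 149, 165, 173, 178] _ (by decide +kernel) (by decide +kernel) (by decide +kernel)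

theorem f14545 : C.S (v2 C) [20, 48, 49, 77, 103, 110, 112] :=
  C.stMul (f125 C) (f101 C) _ (by decide +kernel)

theorem f14546 : C.S (v2 C) [10, 43, 65, 81, 98, 110, 117] :=
  C.stMul (f211 C) (f14545 C) _ (by decide +kernel)

theorem f14547 : C.T (v2 C) [15, 27, 66, 73, 91, 112] (v18 C) [20, 40, 58, 70, 96, 109, 120] :=
  C.conv (f6830 C) (f323 C) (f14546 C) _ [142, 149, 167, 173, 177] _ (by decide +kernel) (by decide +kernel) (by decide +kernel)

theorem f14548 : C.T (v4 C) [11, 40, 88, 102, 110, 120] (v16 C) [8, 27, 53, 72, 94, 110] :=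
  C.conv (f3641 C) (f13592 C) (f13592 C) _ [152, 169, 174, 178] _ (by decide +kernel) (by decide +kernel) (by decide +kernel)

theorem f14549 : C.T (v16 C) [8, 27, 53, 72, 94, 110] (v4 C) [11, 40, 88, 102, 110, 120] :=
  C.flip (f14548 C)

theorem f14550 : C.T (v18 C) [15, 37, 49, 84, 91, 110, 124] (v16 C) [45, 53, 85, 91, 124] :=
  C.closeT (p := (v4 C)) (pu := [24, 29, 64, 89, 101, 110, 118])
    (C.pT (f14544 C)
    (C.pH [8, 30, 65, 84, 94, 117] [15, 27, 66, 73, 91, 112] (by decide +kernel)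
    (C.pT (f14547 C)
    (C.pH [26, 38, 54, 89, 90, 113] [15, 37, 49, 84, 91, 110, 124] (by decide +kernel) (C.pNil _ _)))))
    (C.pH [8, 30, 65, 84, 94, 117] [8, 27, 53, 72, 94, 110] (by decide +kernel)
    (C.pT (f14549 C)
    (C.pH [26, 38, 54, 89, 90, 113] [24, 29, 64, 89, 101, 110, 118] (by decide +kernel) (C.pNil _ _))))
    (C.loop_of_one (relLoop1 C) _ _)

theorem f14551 : C.T (v16 C) [45, 53, 85, 91, 124] (v18 C) [15, 37, 49, 84, 91, 110, 124] :=
  C.flip (f14550 C)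

theorem f14552 : C.T (v4 C) [12, 34, 69, 73, 99, 109, 120] (v2 C) [43, 60, 77, 106, 109, 115] :=
  C.conv (f858 C) (f860 C) (f860 C) _ [138, 150, 168] _ (by decide +kernel) (by decide +kernel) (by decide +kernel)

theorem f14553 : C.S (v2 C) [21, 27, 59, 73, 103, 109, 112] :=
  C.stMul (f243 C) (f7158 C) _ (by decide +kernel)

theorem f14554 : C.S (v2 C) [22, 45, 51, 80, 108, 110, 114] :=
  C.stMul (f115 C) (f14553 C) _ (by decide +kernel)

theorem f14555 : C.T (v2 C) [8, 38, 62, 89, 96, 109, 119] (v17 C) [24, 42, 57, 74, 99, 110, 115] :=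
  C.conv (f6632 C) (f6971 C) (f14554 C) _ [130, 153, 165, 174, 177] _ (by decide +kernel) (by decide +kernel) (by decide +kernel)

theorem f14556 : C.S (v4 C) [17, 35, 66, 70, 95] :=
  C.stMul (f421 C) (f407 C) _ (by decide +kernel)

theorem f14557 : C.T (v4 C) [24, 28, 64, 79, 108, 117] (v18 C) [47, 59, 81, 104, 110, 117] :=
  C.conv (f8547 C) (f8550 C) (f14556 C) _ [134, 151, 165, 176] _ (by decide +kernel) (by decide +kernel) (by decide +kernel)

theorem f14558 : C.T (v18 C) [47, 59, 81, 104, 110, 117] (v4 C) [24, 28, 64, 79, 108, 117] :=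
  C.flip (f14557 C)

theorem f14559 : C.T (v17 C) [12, 45, 59, 81, 104, 109, 120] (v18 C) [8, 39, 57, 79, 100, 113] :=
  C.closeT (p := (v4 C)) (pu := [12, 34, 69, 73, 99, 109, 120])
    (C.pT (f14552 C)
    (C.pH [8, 30, 65, 84, 94, 117] [8, 38, 62, 89, 96, 109, 119] (by decide +kernel)
    (C.pT (f14555 C)
    (C.pH [26, 38, 54, 89, 90, 113] [12, 45, 59, 81, 104, 109, 120] (by decide +kernel) (C.pNil _ _)))))
    (C.pH [8, 30, 65, 84, 94, 117] [47, 59, 81, 104, 110, 117] (by decide +kernel)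
    (C.pT (f14558 C)
    (C.pH [26, 38, 54, 89, 90, 113] [12, 34, 69, 73, 99, 109, 120] (by decide +kernel) (C.pNil _ _))))
    (C.loop_of_one (relLoop1 C) _ _)

theorem f14560 : C.T (v18 C) [8, 39, 57, 79, 100, 113] (v17 C) [12, 45, 59, 81, 104, 109, 120] :=
  C.flip (f14559 C)

theorem f14561 : C.T (v4 C) [12, 37, 71, 107, 109, 116] (v4 C) [8, 38, 67, 79, 99, 110, 117] :=
  C.conv (f868 C) (f421 C) (f421 C) _ [146, 149, 171, 178] _ (by decide +kernel) (by decide +kernel) (by decide +kernel)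

theorem f14562 : C.S (v4 C) [23, 45, 57, 77, 95, 110, 118] :=
  C.stMul (f407 C) (f8551 C) _ (by decide +kernel)

theorem f14563 : C.S (v4 C) [16, 46, 68, 72, 103, 110, 111] :=
  C.stMul (f693 C) (f14562 C) _ (by decide +kernel)

theorem f14564 : C.S (v4 C) [18, 31, 55, 83, 101, 117] :=
  C.stMul (f421 C) (f14563 C) _ (by decide +kernel)

theorem f14565 : C.T (v4 C) [38, 65, 89, 93, 109, 114] (v18 C) [6, 67, 78, 91, 110, 113] :=
  C.conv (f8547 C) (f8550 C) (f14564 C) _ [132, 159, 176] _ (by decide +kernel) (by decide +kernel) (by decide +kernel)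

theorem f14566 : C.T (v4 C) [24, 31, 60, 78, 106, 112] (v17 C) [19, 35, 62, 71, 96, 117] :=
  C.conv (f5838 C) (f8414 C) (f8414 C) _ [148, 157, 167, 177] _ (by decide +kernel) (by decide +kernel) (by decide +kernel)

theorem f14567 : C.T (v17 C) [19, 35, 62, 71, 96, 117] (v4 C) [24, 31, 60, 78, 106, 112] :=
  C.flip (f14566 C)

theorem f14568 : C.T (v18 C) [4, 35, 59, 80, 101, 110, 116] (v17 C) [15, 43, 52, 87, 104, 116] :=
  C.closeT (p := (v4 C)) (pu := [12, 37, 71, 107, 109, 116])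
    (C.pT (f14561 C)
    (C.pH [8, 30, 65, 84, 94, 117] [38, 65, 89, 93, 109, 114] (by decide +kernel)
    (C.pT (f14565 C)
    (C.pH [26, 38, 54, 89, 90, 113] [4, 35, 59, 80, 101, 110, 116] (by decide +kernel) (C.pNil _ _)))))
    (C.pH [8, 30, 65, 84, 94, 117] [19, 35, 62, 71, 96, 117] (by decide +kernel)
    (C.pT (f14567 C)
    (C.pH [26, 38, 54, 89, 90, 113] [12, 37, 71, 107, 109, 116] (by decide +kernel) (C.pNil _ _))))
    (C.loop_of_one (relLoop1 C) _ _)

theorem f14569 : C.T (v17 C) [15, 43, 52, 87, 104, 116] (v18 C) [4, 35, 59, 80, 101, 110, 116] :=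
  C.flip (f14568 C)

theorem f14570 : C.S (v4 C) [17, 35, 66, 70, 95] :=
  C.stMul (f421 C) (f407 C) _ (by decide +kernel)

theorem f14571 : C.T (v4 C) [8, 47, 65, 78, 92, 110, 111] (v4 C) [13, 35, 64, 79, 98, 109] :=
  C.conv (f869 C) (f14570 C) (f14570 C) _ [142, 150, 166] _ (by decide +kernel) (by decide +kernel) (by decide +kernel)

theorem f14572 : C.S (v4 C) [10, 42, 56, 80, 93, 109, 122] :=
  C.stMul (f693 C) (f14436 C) _ (by decide +kernel)

theorem f14573 : C.S (v4 C) [25, 32, 52, 83, 96, 110, 121] :=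
  C.stMul (f421 C) (f14572 C) _ (by decide +kernel)

theorem f14574 : C.T (v4 C) [11, 47, 60, 85, 108, 110, 116] (v17 C) [23, 43, 54, 79, 108, 124] :=
  C.conv (f6313 C) (f6786 C) (f14573 C) _ [134, 153, 166, 174, 177] _ (by decide +kernel) (by decide +kernel) (by decide +kernel)

theorem f14575 : C.S (v4 C) [18, 31, 55, 83, 101, 117] :=
  C.stMul (f421 C) (f8784 C) _ (by decide +kernel)

theorem f14576 : C.T (v4 C) [5, 44, 52, 81, 103, 109, 111] (v18 C) [8, 41, 50, 71, 105, 119] :=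
  C.conv (f7520 C) (f8781 C) (f14575 C) _ [147, 152, 170, 178] _ (by decide +kernel) (by decide +kernel) (by decide +kernel)

theorem f14577 : C.T (v18 C) [8, 41, 50, 71, 105, 119] (v4 C) [5, 44, 52, 81, 103, 109, 111] :=
  C.flip (f14576 C)

theorem f14578 : C.T (v17 C) [7, 40, 59, 85, 98, 120] (v18 C) [47, 55, 70, 105, 109, 119] :=
  C.closeT (p := (v4 C)) (pu := [8, 47, 65, 78, 92, 110, 111])
    (C.pT (f14571 C)
    (C.pH [8, 30, 65, 84, 94, 117] [11, 47, 60, 85, 108, 110, 116] (by decide +kernel)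
    (C.pT (f14574 C)
    (C.pH [26, 38, 54, 89, 90, 113] [7, 40, 59, 85, 98, 120] (by decide +kernel) (C.pNil _ _)))))
    (C.pH [8, 30, 65, 84, 94, 117] [8, 41, 50, 71, 105, 119] (by decide +kernel)
    (C.pT (f14577 C)
    (C.pH [26, 38, 54, 89, 90, 113] [8, 47, 65, 78, 92, 110, 111] (by decide +kernel) (C.pNil _ _))))
    (C.loop_of_one (relLoop1 C) _ _)

theorem f14579 : C.T (v18 C) [47, 55, 70, 105, 109, 119] (v17 C) [7, 40, 59, 85, 98, 120] :=
  C.flip (f14578 C)

theorem f14580 : C.T (v4 C) [14, 28, 51, 85, 92, 109, 111] (v4 C) [10, 39, 69, 83, 102, 110, 120] :=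
  C.conv (f882 C) (f407 C) (f407 C) _ [127, 163, 164, 174] _ (by decide +kernel) (by decide +kernel) (by decide +kernel)

theorem f14581 : C.S (v4 C) [16, 43, 64, 82, 90, 110, 123] :=
  C.stMul (f421 C) (f8782 C) _ (by decide +kernel)

theorem f14582 : C.S (v4 C) [21, 60, 87, 91, 109, 120] :=
  C.stMul (f407 C) (f14581 C) _ (by decide +kernel)

theorem f14583 : C.S (v4 C) [8, 48, 61, 83, 103, 117] :=
  C.stMul (f407 C) (f14582 C) _ (by decide +kernel)

theorem f14584 : C.S (v4 C) [31, 58, 82, 95, 109, 115] :=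
  C.stMul (f421 C) (f14583 C) _ (by decide +kernel)

theorem f14585 : C.T (v4 C) [15, 42, 59, 73, 110, 111] (v18 C) [7, 29, 65, 79, 103, 110, 111] :=
  C.conv (f7520 C) (f8781 C) (f14584 C) _ [128, 159, 171, 178] _ (by decide +kernel) (by decide +kernel) (by decide +kernel)

theorem f14586 : C.T (v4 C) [12, 48, 64, 75, 101, 110, 114] (v16 C) [16, 48, 51, 77, 96, 110, 119] :=
  C.conv (f3641 C) (f13592 C) (f13867 C) _ [128, 155, 167, 174, 178] _ (by decide +kernel) (by decide +kernel) (by decide +kernel)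

theorem f14587 : C.T (v16 C) [16, 48, 51, 77, 96, 110, 119] (v4 C) [12, 48, 64, 75, 101, 110, 114] :=
  C.flip (f14586 C)

theorem f14588 : C.T (v18 C) [40, 68, 70, 94, 109, 112] (v16 C) [24, 35, 63, 81, 110, 114] :=
  C.closeT (p := (v4 C)) (pu := [14, 28, 51, 85, 92, 109, 111])
    (C.pT (f14580 C)
    (C.pH [8, 30, 65, 84, 94, 117] [15, 42, 59, 73, 110, 111] (by decide +kernel)
    (C.pT (f14585 C)
    (C.pH [26, 38, 54, 89, 90, 113] [40, 68, 70, 94, 109, 112] (by decide +kernel) (C.pNil _ _)))))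
    (C.pH [8, 30, 65, 84, 94, 117] [16, 48, 51, 77, 96, 110, 119] (by decide +kernel)
    (C.pT (f14587 C)
    (C.pH [26, 38, 54, 89, 90, 113] [14, 28, 51, 85, 92, 109, 111] (by decide +kernel) (C.pNil _ _))))
    (C.loop_of_one (relLoop1 C) _ _)

theorem f14589 : C.T (v16 C) [24, 35, 63, 81, 110, 114] (v18 C) [40, 68, 70, 94, 109, 112] :=
  C.flip (f14588 C)

theorem f14590 : C.T (v4 C) [25, 27, 51, 79, 90, 110, 117] (v4 C) [11, 44, 56, 72, 108, 110, 115] :=
  C.conv (f882 C) (f407 C) (f407 C) _ [143, 154, 169, 173, 178] _ (by decide +kernel) (by decide +kernel) (by decide +kernel)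

theorem f14591 : C.S (v4 C) [18, 46, 49, 75, 97, 110, 118] :=
  C.stMul (f407 C) (f407 C) _ (by decide +kernel)

theorem f14592 : C.S (v4 C) [23, 45, 57, 77, 95, 110, 118] :=
  C.stMul (f407 C) (f14591 C) _ (by decide +kernel)

theorem f14593 : C.S (v4 C) [16, 46, 68, 72, 103, 110, 111] :=
  C.stMul (f693 C) (f14592 C) _ (by decide +kernel)

theorem f14594 : C.T (v4 C) [7, 29, 49, 88, 100, 109, 117] (v15 C) [24, 40, 72, 103] :=
  C.conv (f2744 C) (f2911 C) (f14593 C) _ [132, 150, 165, 173] _ (by decide +kernel) (by decide +kernel) (by decide +kernel)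

theorem f14595 : C.S (v4 C) [18, 46, 49, 75, 97, 110, 118] :=
  C.stMul (f407 C) (f407 C) _ (by decide +kernel)

theorem f14596 : C.S (v4 C) [16, 43, 64, 82, 90, 110, 123] :=
  C.stMul (f421 C) (f14595 C) _ (by decide +kernel)

theorem f14597 : C.S (v4 C) [21, 60, 87, 91, 109, 120] :=
  C.stMul (f407 C) (f14596 C) _ (by decide +kernel)

theorem f14598 : C.S (v4 C) [13, 34, 59, 73, 105, 109, 115] :=
  C.stMul (f421 C) (f14597 C) _ (by decide +kernel)

theorem f14599 : C.T (v4 C) [4, 39, 64, 70, 90, 109, 122] (v18 C) [21, 63, 74, 93, 119] :=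
  C.conv (f7256 C) (f7503 C) (f14598 C) _ [126, 157, 170] _ (by decide +kernel) (by decide +kernel) (by decide +kernel)

theorem f14600 : C.T (v18 C) [21, 63, 74, 93, 119] (v4 C) [4, 39, 64, 70, 90, 109, 122] :=
  C.flip (f14599 C)

theorem f14601 : C.T (v15 C) [12, 31, 64, 81, 100, 109, 120] (v18 C) [12, 37, 62, 70, 106, 119] :=
  C.closeT (p := (v4 C)) (pu := [25, 27, 51, 79, 90, 110, 117])
    (C.pT (f14590 C)
    (C.pH [8, 30, 65, 84, 94, 117] [7, 29, 49, 88, 100, 109, 117] (by decide +kernel)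
    (C.pT (f14594 C)
    (C.pH [26, 38, 54, 89, 90, 113] [12, 31, 64, 81, 100, 109, 120] (by decide +kernel) (C.pNil _ _)))))
    (C.pH [8, 30, 65, 84, 94, 117] [21, 63, 74, 93, 119] (by decide +kernel)
    (C.pT (f14600 C)
    (C.pH [26, 38, 54, 89, 90, 113] [25, 27, 51, 79, 90, 110, 117] (by decide +kernel) (C.pNil _ _))))
    (C.loop_of_one (relLoop1 C) _ _)

theorem f14602 : C.T (v18 C) [12, 37, 62, 70, 106, 119] (v15 C) [12, 31, 64, 81, 100, 109, 120] :=
  C.flip (f14601 C)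

theorem f14603 : C.T (v4 C) [13, 31, 66, 87, 102, 110, 119] (v4 C) [17, 63, 88, 95, 110, 120] :=
  C.conv (f890 C) (f893 C) (f893 C) _ [154, 173, 177] _ (by decide +kernel) (by decide +kernel) (by decide +kernel)

theorem f14604 : C.T (v4 C) [22, 43, 59, 96, 109, 113] (v18 C) [11, 47, 54, 75, 100, 110, 111] :=
  C.conv (f7143 C) (f8330 C) (f407 C) _ [133, 153, 167, 172] _ (by decide +kernel) (by decide +kernel) (by decide +kernel)

theorem f14605 : C.S (v4 C) [17, 35, 66, 70, 95] :=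
  C.stMul (f421 C) (f407 C) _ (by decide +kernel)

theorem f14606 : C.S (v4 C) [26, 44, 64, 94, 121] :=
  C.stMul (f693 C) (f14605 C) _ (by decide +kernel)

theorem f14607 : C.S (v4 C) [23, 27, 56, 70, 98, 125] :=
  C.stMul (f421 C) (f14606 C) _ (by decide +kernel)

theorem f14608 : C.T (v4 C) [16, 40, 62, 72, 108, 109, 115] (v18 C) [20, 43, 67, 71, 105, 120] :=
  C.conv (f10822 C) (f14037 C) (f14607 C) _ [126, 149, 167, 178] _ (by decide +kernel) (by decide +kernel) (by decide +kernel)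

theorem f14609 : C.T (v18 C) [20, 43, 67, 71, 105, 120] (v4 C) [16, 40, 62, 72, 108, 109, 115] :=
  C.flip (f14608 C)

theorem f14610 : C.T (v18 C) [24, 30, 67, 80, 98] (v18 C) [16, 43, 60, 82, 103, 109, 115] :=
  C.closeT (p := (v4 C)) (pu := [13, 31, 66, 87, 102, 110, 119])
    (C.pT (f14603 C)
    (C.pH [8, 30, 65, 84, 94, 117] [22, 43, 59, 96, 109, 113] (by decide +kernel)
    (C.pT (f14604 C)
    (C.pH [26, 38, 54, 89, 90, 113] [24, 30, 67, 80, 98] (by decide +kernel) (C.pNil _ _)))))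
    (C.pH [8, 30, 65, 84, 94, 117] [20, 43, 67, 71, 105, 120] (by decide +kernel)
    (C.pT (f14609 C)
    (C.pH [26, 38, 54, 89, 90, 113] [13, 31, 66, 87, 102, 110, 119] (by decide +kernel) (C.pNil _ _))))
    (C.loop_of_one (relLoop1 C) _ _)

theorem f14611 : C.T (v18 C) [16, 43, 60, 82, 103, 109, 115] (v18 C) [24, 30, 67, 80, 98] :=
  C.flip (f14610 C)

theorem f14612 : C.T (v4 C) [6, 43, 54, 85, 103, 110, 122] (v4 C) [10, 43, 64, 74, 107, 110, 123] :=
  C.conv (f901 C) (f697 C) (f697 C) _ [148, 162, 166, 174, 178] _ (by decide +kernel) (by decide +kernel) (by decide +kernel)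

theorem f14613 : C.S (v4 C) [26, 44, 64, 94, 121] :=
  C.stMul (f693 C) (f13573 C) _ (by decide +kernel)

theorem f14614 : C.S (v4 C) [23, 27, 56, 70, 98, 125] :=
  C.stMul (f421 C) (f14613 C) _ (by decide +kernel)

theorem f14615 : C.S (v4 C) [33, 61, 77, 108, 110, 112] :=
  C.stMul (f407 C) (f14614 C) _ (by decide +kernel)

theorem f14616 : C.T (v4 C) [15, 28, 59, 77, 102, 109] (v18 C) [22, 38, 60, 72, 102, 110, 112] :=
  C.conv (f13468 C) (f13575 C) (f14615 C) _ [126, 159, 171] _ (by decide +kernel) (by decide +kernel) (by decide +kernel)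

theorem f14617 : C.T (v4 C) [21, 47, 49, 74, 101, 109, 123] (v18 C) [24, 48, 49, 76, 105, 110, 113] :=
  C.conv (f6895 C) (f8570 C) (f10247 C) _ [136, 155, 168, 172, 177] _ (by decide +kernel) (by decide +kernel) (by decide +kernel)

theorem f14618 : C.T (v18 C) [24, 48, 49, 76, 105, 110, 113] (v4 C) [21, 47, 49, 74, 101, 109, 123] :=
  C.flip (f14617 C)

theorem f14619 : C.T (v18 C) [19, 44, 61, 79, 99, 110, 120] (v18 C) [21, 39, 65, 77, 104, 109, 125] :=
  C.closeT (p := (v4 C)) (pu := [6, 43, 54, 85, 103, 110, 122])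
    (C.pT (f14612 C)
    (C.pH [8, 30, 65, 84, 94, 117] [15, 28, 59, 77, 102, 109] (by decide +kernel)
    (C.pT (f14616 C)
    (C.pH [26, 38, 54, 89, 90, 113] [19, 44, 61, 79, 99, 110, 120] (by decide +kernel) (C.pNil _ _)))))
    (C.pH [8, 30, 65, 84, 94, 117] [24, 48, 49, 76, 105, 110, 113] (by decide +kernel)
    (C.pT (f14618 C)
    (C.pH [26, 38, 54, 89, 90, 113] [6, 43, 54, 85, 103, 110, 122] (by decide +kernel) (C.pNil _ _))))
    (C.loop_of_one (relLoop1 C) _ _)

theorem f14622 : C.T (v4 C) [10, 28, 60, 74, 107, 109, 124] (v4 C) [17, 31, 54, 73, 103, 109, 115] :=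
  C.conv (f955 C) (f957 C) (f957 C) _ [137, 161, 164, 176, 178] _ (by decide +kernel) (by decide +kernel) (by decide +kernel)

theorem f14623 : C.T (v4 C) [22, 47, 56, 79, 105, 109, 116] (v17 C) [10, 44, 84, 108, 109, 116] :=
  C.conv (f6736 C) (f8944 C) (f407 C) _ [130, 162, 166, 172, 177] _ (by decide +kernel) (by decide +kernel) (by decide +kernel)

theorem f14624 : C.S (v4 C) [16, 43, 64, 82, 90, 110, 123] :=
  C.stMul (f421 C) (f13880 C) _ (by decide +kernel)

theorem f14625 : C.T (v4 C) [18, 47, 65, 70, 99, 117] (v18 C) [26, 44, 53, 79, 107, 110, 119] :=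
  C.conv (f7143 C) (f8330 C) (f14624 C) _ [148, 169, 178] _ (by decide +kernel) (by decide +kernel) (by decide +kernel)

theorem f14626 : C.T (v18 C) [26, 44, 53, 79, 107, 110, 119] (v4 C) [18, 47, 65, 70, 99, 117] :=
  C.flip (f14625 C)

theorem f14627 : C.T (v17 C) [21, 42, 49, 87, 106, 117] (v18 C) [19, 38, 51, 82, 108, 110, 118] :=
  C.closeT (p := (v4 C)) (pu := [10, 28, 60, 74, 107, 109, 124])
    (C.pT (f14622 C)
    (C.pH [8, 30, 65, 84, 94, 117] [22, 47, 56, 79, 105, 109, 116] (by decide +kernel)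
    (C.pT (f14623 C)
    (C.pH [26, 38, 54, 89, 90, 113] [21, 42, 49, 87, 106, 117] (by decide +kernel) (C.pNil _ _)))))
    (C.pH [8, 30, 65, 84, 94, 117] [26, 44, 53, 79, 107, 110, 119] (by decide +kernel)
    (C.pT (f14626 C)
    (C.pH [26, 38, 54, 89, 90, 113] [10, 28, 60, 74, 107, 109, 124] (by decide +kernel) (C.pNil _ _))))
    (C.loop_of_one (relLoop1 C) _ _)

theorem f14628 : C.T (v18 C) [19, 38, 51, 82, 108, 110, 118] (v17 C) [21, 42, 49, 87, 106, 117] :=
  C.flip (f14627 C)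

theorem f14629 : C.T (v4 C) [47, 55, 81, 100, 123] (v4 C) [24, 39, 55, 81, 92, 110, 120] :=
  C.conv (f971 C) (f974 C) (f974 C) _ [146, 164, 174, 177] _ (by decide +kernel) (by decide +kernel) (by decide +kernel)

theorem f14630 : C.S (v4 C) [17, 29, 60, 75, 100, 110, 113] :=
  C.stMul (f407 C) (f14011 C) _ (by decide +kernel)

theorem f14631 : C.T (v4 C) [16, 33, 65, 75, 108, 110, 123] (v18 C) [25, 44, 61, 87, 105, 111] :=
  C.conv (f7487 C) (f8474 C) (f14630 C) _ [138, 149, 167, 173, 178] _ (by decide +kernel) (by decide +kernel) (by decide +kernel)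

theorem f14632 : C.T (v4 C) [7, 41, 66, 77, 100, 109, 112] (v15 C) [27, 66, 86, 101, 110, 112] :=
  C.conv (f2728 C) (f2857 C) (f2858 C) _ [127, 150, 166, 175, 178] _ (by decide +kernel) (by decide +kernel) (by decide +kernel)

theorem f14633 : C.T (v15 C) [27, 66, 86, 101, 110, 112] (v4 C) [7, 41, 66, 77, 100, 109, 112] :=
  C.flip (f14632 C)

theorem f14634 : C.T (v18 C) [18, 30, 58, 81, 98, 109, 115] (v15 C) [8, 35, 61, 81, 101, 110, 123] :=
  C.closeT (p := (v4 C)) (pu := [47, 55, 81, 100, 123])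
    (C.pT (f14629 C)
    (C.pH [8, 30, 65, 84, 94, 117] [16, 33, 65, 75, 108, 110, 123] (by decide +kernel)
    (C.pT (f14631 C)
    (C.pH [26, 38, 54, 89, 90, 113] [18, 30, 58, 81, 98, 109, 115] (by decide +kernel) (C.pNil _ _)))))
    (C.pH [8, 30, 65, 84, 94, 117] [27, 66, 86, 101, 110, 112] (by decide +kernel)
    (C.pT (f14633 C)
    (C.pH [26, 38, 54, 89, 90, 113] [47, 55, 81, 100, 123] (by decide +kernel) (C.pNil _ _))))
    (C.loop_of_one (relLoop1 C) _ _)

theorem f14635 : C.T (v15 C) [8, 35, 61, 81, 101, 110, 123] (v18 C) [18, 30, 58, 81, 98, 109, 115] :=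
  C.flip (f14634 C)

theorem f14636 : C.T (v4 C) [36, 57, 89, 93, 110, 115] (v4 C) [17, 38, 63, 81, 101, 109, 113] :=
  C.conv (f971 C) (f974 C) (f974 C) _ [139, 160, 164, 176] _ (by decide +kernel) (by decide +kernel) (by decide +kernel)

theorem f14637 : C.S (v4 C) [12, 44, 50, 85, 106, 124] :=
  C.stMul (f421 C) (f8331 C) _ (by decide +kernel)

theorem f14638 : C.T (v4 C) [22, 27, 52, 78, 91, 115] (v18 C) [15, 46, 49, 81, 105, 109, 116] :=
  C.conv (f7143 C) (f8330 C) (f14637 C) _ [137, 150, 170, 178] _ (by decide +kernel) (by decide +kernel) (by decide +kernel)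

theorem f14639 : C.T (v4 C) [7, 34, 71, 107, 109, 117] (v18 C) [12, 43, 50, 83, 106, 110, 113] :=
  C.conv (f10822 C) (f14037 C) (f697 C) _ [128, 149, 164, 176, 178] _ (by decide +kernel) (by decide +kernel) (by decide +kernel)

theorem f14640 : C.T (v18 C) [12, 43, 50, 83, 106, 110, 113] (v4 C) [7, 34, 71, 107, 109, 117] :=
  C.flip (f14639 C)

theorem f14641 : C.T (v18 C) [9, 33, 66, 71, 102, 111] (v18 C) [5, 37, 64, 79, 91, 109, 117] :=
  C.closeT (p := (v4 C)) (pu := [36, 57, 89, 93, 110, 115])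
    (C.pT (f14636 C)
    (C.pH [8, 30, 65, 84, 94, 117] [22, 27, 52, 78, 91, 115] (by decide +kernel)
    (C.pT (f14638 C)
    (C.pH [26, 38, 54, 89, 90, 113] [9, 33, 66, 71, 102, 111] (by decide +kernel) (C.pNil _ _)))))
    (C.pH [8, 30, 65, 84, 94, 117] [12, 43, 50, 83, 106, 110, 113] (by decide +kernel)
    (C.pT (f14640 C)
    (C.pH [26, 38, 54, 89, 90, 113] [36, 57, 89, 93, 110, 115] (by decide +kernel) (C.pNil _ _))))
    (C.loop_of_one (relLoop1 C) _ _)

theorem f14644 : C.T (v4 C) [9, 34, 56, 70, 104, 122] (v4 C) [11, 44, 52, 75, 100, 110, 118] :=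
  C.conv (f972 C) (f1194 C) (f1194 C) _ [131, 158, 167, 175, 177] _ (by decide +kernel) (by decide +kernel) (by decide +kernel)

theorem f14645 : C.T (v4 C) [7, 29, 61, 76, 97, 112] (v18 C) [9, 27, 58, 75, 92, 109, 119] :=
  C.conv (f8235 C) (f8735 C) (f8734 C) _ [146, 176] _ (by decide +kernel) (by decide +kernel) (by decide +kernel)

theorem f14646 : C.S (v4 C) [13, 44, 51, 82, 106, 110, 111] :=
  C.stMul (f407 C) (f13695 C) _ (by decide +kernel)

theorem f14647 : C.S (v4 C) [17, 29, 60, 75, 100, 110, 113] :=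
  C.stMul (f407 C) (f14646 C) _ (by decide +kernel)

theorem f14648 : C.T (v4 C) [15, 38, 63, 87, 108, 110, 115] (v18 C) [9, 39, 56, 97, 110, 120] :=
  C.conv (f11160 C) (f13694 C) (f14647 C) _ [141, 155, 165, 171, 178] _ (by decide +kernel) (by decide +kernel) (by decide +kernel)

theorem f14649 : C.T (v18 C) [9, 39, 56, 97, 110, 120] (v4 C) [15, 38, 63, 87, 108, 110, 115] :=
  C.flip (f14648 C)

theorem f14650 : C.T (v18 C) [22, 35, 66, 80, 102, 110, 122] (v18 C) [25, 46, 62, 78, 104, 115] :=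
  C.closeT (p := (v4 C)) (pu := [9, 34, 56, 70, 104, 122])
    (C.pT (f14644 C)
    (C.pH [8, 30, 65, 84, 94, 117] [7, 29, 61, 76, 97, 112] (by decide +kernel)
    (C.pT (f14645 C)
    (C.pH [26, 38, 54, 89, 90, 113] [22, 35, 66, 80, 102, 110, 122] (by decide +kernel) (C.pNil _ _)))))
    (C.pH [8, 30, 65, 84, 94, 117] [9, 39, 56, 97, 110, 120] (by decide +kernel)
    (C.pT (f14649 C)
    (C.pH [26, 38, 54, 89, 90, 113] [9, 34, 56, 70, 104, 122] (by decide +kernel) (C.pNil _ _))))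
    (C.loop_of_one (relLoop1 C) _ _)

theorem f14654 : C.T (v4 C) [21, 29, 66, 81, 101, 110, 120] (v4 C) [15, 34, 52, 83, 90, 119] :=
  C.conv (f972 C) (f1194 C) (f1194 C) _ [143, 159, 165, 173, 177] _ (by decide +kernel) (by decide +kernel) (by decide +kernel)

theorem f14655 : C.T (v4 C) [19, 41, 52, 80, 99, 110, 120] (v17 C) [10, 43, 54, 89, 107, 110, 119] :=
  C.conv (f6121 C) (f10193 C) (f421 C) _ [145, 156, 164, 173, 178] _ (by decide +kernel) (by decide +kernel) (by decide +kernel)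

theorem f14656 : C.S (v4 C) [23, 41, 49, 78, 91, 109] :=
  C.stMul (f693 C) (f421 C) _ (by decide +kernel)

theorem f14657 : C.S (v4 C) [26, 36, 62, 77, 94, 121] :=
  C.stMul (f421 C) (f14656 C) _ (by decide +kernel)

theorem f14658 : C.T (v4 C) [10, 27, 55, 86, 100, 110, 120] (v18 C) [25, 31, 77, 99, 110, 118] :=
  C.conv (f8297 C) (f10274 C) (f14657 C) _ [129, 161, 170, 175, 177] _ (by decide +kernel) (by decide +kernel) (by decide +kernel)

theorem f14659 : C.T (v18 C) [25, 31, 77, 99, 110, 118] (v4 C) [10, 27, 55, 86, 100, 110, 120] :=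
  C.flip (f14658 C)

theorem f14660 : C.T (v17 C) [21, 39, 65, 85, 95, 114] (v18 C) [4, 37, 63, 89, 93, 109, 121] :=
  C.closeT (p := (v4 C)) (pu := [21, 29, 66, 81, 101, 110, 120])
    (C.pT (f14654 C)
    (C.pH [8, 30, 65, 84, 94, 117] [19, 41, 52, 80, 99, 110, 120] (by decide +kernel)
    (C.pT (f14655 C)
    (C.pH [26, 38, 54, 89, 90, 113] [21, 39, 65, 85, 95, 114] (by decide +kernel) (C.pNil _ _)))))
    (C.pH [8, 30, 65, 84, 94, 117] [25, 31, 77, 99, 110, 118] (by decide +kernel)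
    (C.pT (f14659 C)
    (C.pH [26, 38, 54, 89, 90, 113] [21, 29, 66, 81, 101, 110, 120] (by decide +kernel) (C.pNil _ _))))
    (C.loop_of_one (relLoop1 C) _ _)

theorem f14661 : C.T (v18 C) [4, 37, 63, 89, 93, 109, 121] (v17 C) [21, 39, 65, 85, 95, 114] :=
  C.flip (f14660 C)

theorem f14662 : C.T (v4 C) [6, 45, 55, 71, 94, 123] (v4 C) [11, 45, 64, 88, 96, 109, 118] :=
  C.conv (f972 C) (f1194 C) (f1194 C) _ [128, 158, 168, 176] _ (by decide +kernel) (by decide +kernel) (by decide +kernel)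

theorem f14663 : C.T (v4 C) [7, 44, 58, 85, 92, 109, 111] (v18 C) [23, 46, 65, 99, 109, 113] :=
  C.conv (f8441 C) (f421 C) (f9181 C) _ [134, 151, 164, 174, 177] _ (by decide +kernel) (by decide +kernel) (by decide +kernel)

theorem f14664 : C.S (v4 C) [17, 29, 60, 75, 100, 110, 113] :=
  C.stMul (f407 C) (f8700 C) _ (by decide +kernel)

theorem f14665 : C.T (v4 C) [21, 42, 64, 70, 94, 109, 123] (v18 C) [6, 56, 89, 101, 123] :=
  C.conv (f6863 C) (f8698 C) (f14664 C) _ [134, 161, 169, 173] _ (by decide +kernel) (by decide +kernel) (by decide +kernel)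

theorem f14666 : C.T (v18 C) [6, 56, 89, 101, 123] (v4 C) [21, 42, 64, 70, 94, 109, 123] :=
  C.flip (f14665 C)

theorem f14667 : C.T (v18 C) [7, 32, 66, 76, 106, 109, 120] (v18 C) [22, 43, 51, 88, 105, 109, 114] :=
  C.closeT (p := (v4 C)) (pu := [6, 45, 55, 71, 94, 123])
    (C.pT (f14662 C)
    (C.pH [8, 30, 65, 84, 94, 117] [7, 44, 58, 85, 92, 109, 111] (by decide +kernel)
    (C.pT (f14663 C)
    (C.pH [26, 38, 54, 89, 90, 113] [7, 32, 66, 76, 106, 109, 120] (by decide +kernel) (C.pNil _ _)))))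
    (C.pH [8, 30, 65, 84, 94, 117] [6, 56, 89, 101, 123] (by decide +kernel)
    (C.pT (f14666 C)
    (C.pH [26, 38, 54, 89, 90, 113] [6, 45, 55, 71, 94, 123] (by decide +kernel) (C.pNil _ _))))
    (C.loop_of_one (relLoop1 C) _ _)

theorem f14668 : C.T (v18 C) [22, 43, 51, 88, 105, 109, 114] (v18 C) [7, 32, 66, 76, 106, 109, 120] :=
  C.flip (f14667 C)

theorem f14669 : C.T (v4 C) [25, 46, 59, 70, 94, 112] (v4 C) [24, 43, 58, 70, 96, 110, 119] :=
  C.conv (f976 C) (f978 C) (f978 C) _ [132, 163, 172, 177] _ (by decide +kernel) (by decide +kernel) (by decide +kernel)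

theorem f14670 : C.S (v4 C) [10, 27, 56, 84, 93, 109, 113] :=
  C.stMul (f407 C) (f421 C) _ (by decide +kernel)

theorem f14671 : C.S (v4 C) [25, 47, 59, 76, 103, 109, 113] :=
  C.stMul (f421 C) (f14670 C) _ (by decide +kernel)

theorem f14672 : C.T (v4 C) [16, 44, 56, 71, 104, 110, 111] (v17 C) [19, 46, 67, 89, 98, 109, 118] :=
  C.conv (f6121 C) (f10193 C) (f14671 C) _ [146, 161, 176] _ (by decide +kernel) (by decide +kernel) (by decide +kernel)

theorem f14673 : C.S (v4 C) [8, 31, 60, 85, 98, 110, 125] :=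
  C.stMul (f693 C) (f407 C) _ (by decide +kernel)

theorem f14674 : C.S (v4 C) [42, 63, 82, 91, 110, 125] :=
  C.stMul (f421 C) (f14673 C) _ (by decide +kernel)

theorem f14675 : C.S (v4 C) [12, 31, 56, 72, 107, 109, 112] :=
  C.stMul (f407 C) (f14674 C) _ (by decide +kernel)

theorem f14676 : C.T (v4 C) [4, 41, 51, 78, 103, 115] (v18 C) [18, 32, 60, 73, 99, 109, 117] :=
  C.conv (f10083 C) (f13548 C) (f14675 C) _ [136, 150, 173, 177] _ (by decide +kernel) (by decide +kernel) (by decide +kernel)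

theorem f14677 : C.T (v18 C) [18, 32, 60, 73, 99, 109, 117] (v4 C) [4, 41, 51, 78, 103, 115] :=
  C.flip (f14676 C)

theorem f14678 : C.T (v17 C) [17, 28, 64, 74, 101, 111] (v18 C) [9, 27, 62, 73, 101, 113] :=
  C.closeT (p := (v4 C)) (pu := [25, 46, 59, 70, 94, 112])
    (C.pT (f14669 C)
    (C.pH [8, 30, 65, 84, 94, 117] [16, 44, 56, 71, 104, 110, 111] (by decide +kernel)
    (C.pT (f14672 C)
    (C.pH [26, 38, 54, 89, 90, 113] [17, 28, 64, 74, 101, 111] (by decide +kernel) (C.pNil _ _)))))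
    (C.pH [8, 30, 65, 84, 94, 117] [18, 32, 60, 73, 99, 109, 117] (by decide +kernel)
    (C.pT (f14677 C)
    (C.pH [26, 38, 54, 89, 90, 113] [25, 46, 59, 70, 94, 112] (by decide +kernel) (C.pNil _ _))))
    (C.loop_of_one (relLoop1 C) _ _)

theorem f14679 : C.T (v18 C) [9, 27, 62, 73, 101, 113] (v17 C) [17, 28, 64, 74, 101, 111] :=
  C.flip (f14678 C)

theorem f14680 : C.T (v4 C) [21, 43, 64, 72, 107, 117] (v5 C) [13, 47, 62, 87, 90, 110, 118] :=
  C.conv (f1004 C) (f1032 C) (f1032 C) _ [148, 154, 171, 177] _ (by decide +kernel) (by decide +kernel) (by decide +kernel)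

theorem f14681 : C.S (v5 C) [43, 67, 71, 98, 119] :=
  C.stMul (f986 C) (f986 C) _ (by decide +kernel)

theorem f14682 : C.S (v5 C) [43, 67, 79, 93, 109, 124] :=
  C.stMul (f1141 C) (f14681 C) _ (by decide +kernel)

theorem f14683 : C.S (v5 C) [9, 68, 72, 98, 109, 122] :=
  C.stMul (f986 C) (f14682 C) _ (by decide +kernel)

theorem f14684 : C.S (v5 C) [9, 32, 51, 72, 105, 123] :=
  C.stMul (f1008 C) (f14683 C) _ (by decide +kernel)

theorem f14685 : C.T (v5 C) [11, 27, 66, 79, 97, 110] (v15 C) [9, 37, 69, 72, 92, 110, 119] :=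
  C.conv (f2699 C) (f3160 C) (f14684 C) _ [148, 155, 174] _ (by decide +kernel) (by decide +kernel) (by decide +kernel)

theorem f14686 : C.T (v4 C) [10, 46, 64, 79, 102, 110, 112] (v18 C) [18, 47, 69, 88, 106, 124] :=
  C.conv (f7487 C) (f8474 C) (f8473 C) _ [127, 149, 164, 178] _ (by decide +kernel) (by decide +kernel) (by decide +kernel)

theorem f14687 : C.T (v18 C) [18, 47, 69, 88, 106, 124] (v4 C) [10, 46, 64, 79, 102, 110, 112] :=
  C.flip (f14686 C)

theorem f14688 : C.T (v15 C) [22, 30, 54, 73, 91, 110, 115] (v18 C) [9, 30, 66, 70, 104, 111] :=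
  C.closeT (p := (v4 C)) (pu := [21, 43, 64, 72, 107, 117])
    (C.pT (f14680 C)
    (C.pH [8, 30, 65, 84, 94, 117] [11, 27, 66, 79, 97, 110] (by decide +kernel)
    (C.pT (f14685 C)
    (C.pH [26, 38, 54, 89, 90, 113] [22, 30, 54, 73, 91, 110, 115] (by decide +kernel) (C.pNil _ _)))))
    (C.pH [8, 30, 65, 84, 94, 117] [18, 47, 69, 88, 106, 124] (by decide +kernel)
    (C.pT (f14687 C)
    (C.pH [26, 38, 54, 89, 90, 113] [21, 43, 64, 72, 107, 117] (by decide +kernel) (C.pNil _ _))))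
    (C.loop_of_one (relLoop1 C) _ _)

theorem f14689 : C.T (v18 C) [9, 30, 66, 70, 104, 111] (v15 C) [22, 30, 54, 73, 91, 110, 115] :=
  C.flip (f14688 C)

theorem f14690 : C.T (v4 C) [26, 47, 61, 106, 114] (v5 C) [19, 40, 53, 83, 91, 124] :=
  C.conv (f1004 C) (f1032 C) (f1032 C) _ [126, 154, 168, 171, 177] _ (by decide +kernel) (by decide +kernel) (by decide +kernel)

theorem f14691 : C.S (v5 C) [7, 29, 66, 74, 106, 124] :=
  C.stMul (f1141 C) (f986 C) _ (by decide +kernel)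

theorem f14692 : C.T (v5 C) [26, 34, 65, 85, 98, 119] (v17 C) [19, 64, 77, 96, 110] :=
  C.conv (f5187 C) (f5193 C) (f14691 C) _ [142, 150, 165, 178] _ (by decide +kernel) (by decide +kernel) (by decide +kernel)

theorem f14693 : C.S (v4 C) [16, 43, 64, 82, 90, 110, 123] :=
  C.stMul (f421 C) (f10275 C) _ (by decide +kernel)

theorem f14694 : C.S (v4 C) [21, 60, 87, 91, 109, 120] :=
  C.stMul (f407 C) (f14693 C) _ (by decide +kernel)

theorem f14695 : C.S (v4 C) [8, 48, 61, 83, 103, 117] :=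
  C.stMul (f407 C) (f14694 C) _ (by decide +kernel)

theorem f14696 : C.S (v4 C) [31, 58, 82, 95, 109, 115] :=
  C.stMul (f421 C) (f14695 C) _ (by decide +kernel)

theorem f14697 : C.T (v4 C) [35, 62, 80, 101, 122] (v18 C) [13, 32, 52, 83, 97, 109, 115] :=
  C.conv (f8297 C) (f10274 C) (f14696 C) _ [142, 157, 164, 171] _ (by decide +kernel) (by decide +kernel) (by decide +kernel)

theorem f14698 : C.T (v18 C) [13, 32, 52, 83, 97, 109, 115] (v4 C) [35, 62, 80, 101, 122] :=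
  C.flip (f14697 C)

theorem f14699 : C.T (v17 C) [17, 37, 65, 81, 106, 109, 113] (v18 C) [6, 33, 67, 81, 93, 110, 124] :=
  C.closeT (p := (v4 C)) (pu := [26, 47, 61, 106, 114])
    (C.pT (f14690 C)
    (C.pH [8, 30, 65, 84, 94, 117] [26, 34, 65, 85, 98, 119] (by decide +kernel)
    (C.pT (f14692 C)
    (C.pH [26, 38, 54, 89, 90, 113] [17, 37, 65, 81, 106, 109, 113] (by decide +kernel) (C.pNil _ _)))))
    (C.pH [8, 30, 65, 84, 94, 117] [13, 32, 52, 83, 97, 109, 115] (by decide +kernel)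
    (C.pT (f14698 C)
    (C.pH [26, 38, 54, 89, 90, 113] [26, 47, 61, 106, 114] (by decide +kernel) (C.pNil _ _))))
    (C.loop_of_one (relLoop1 C) _ _)

theorem f14700 : C.T (v18 C) [6, 33, 67, 81, 93, 110, 124] (v17 C) [17, 37, 65, 81, 106, 109, 113] :=
  C.flip (f14699 C)

theorem f14701 : C.T (v4 C) [13, 28, 56, 77, 105, 110, 114] (v5 C) [17, 43, 63, 73, 91, 109, 122] :=
  C.conv (f1044 C) (f1279 C) (f1279 C) _ [135, 159, 169, 171, 178] _ (by decide +kernel) (by decide +kernel) (by decide +kernel)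

theorem f14702 : C.S (v5 C) [13, 35, 69, 89, 94, 109, 112] :=
  C.stMul (f1023 C) (f986 C) _ (by decide +kernel)

theorem f14703 : C.S (v5 C) [7, 39, 54, 75, 91, 110, 122] :=
  C.stMul (f1023 C) (f14702 C) _ (by decide +kernel)

theorem f14704 : C.S (v5 C) [10, 28, 60, 80, 95, 109, 121] :=
  C.stMul (f986 C) (f14703 C) _ (by decide +kernel)

theorem f14705 : C.S (v5 C) [11, 46, 69, 85, 102, 117] :=
  C.stMul (f1023 C) (f14704 C) _ (by decide +kernel)

theorem f14706 : C.T (v5 C) [22, 45, 61, 88, 94, 110, 124] (v18 C) [21, 37, 66, 77, 97, 110, 119] :=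
  C.conv (f8600 C) (f10314 C) (f14705 C) _ [146, 166, 173, 177] _ (by decide +kernel) (by decide +kernel) (by decide +kernel)

theorem f14707 : C.T (v4 C) [16, 33, 87, 106, 110, 119] (v18 C) [13, 40, 59, 85, 100, 118] :=
  C.conv (f10188 C) (f12045 C) (f13915 C) _ [136, 156, 169, 172, 178] _ (by decide +kernel) (by decide +kernel) (by decide +kernel)

theorem f14708 : C.T (v18 C) [13, 40, 59, 85, 100, 118] (v4 C) [16, 33, 87, 106, 110, 119] :=
  C.flip (f14707 C)

theorem f14709 : C.T (v18 C) [6, 31, 52, 88, 90, 117] (v18 C) [6, 42, 69, 84, 108, 112] :=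
  C.closeT (p := (v4 C)) (pu := [13, 28, 56, 77, 105, 110, 114])
    (C.pT (f14701 C)
    (C.pH [8, 30, 65, 84, 94, 117] [22, 45, 61, 88, 94, 110, 124] (by decide +kernel)
    (C.pT (f14706 C)
    (C.pH [26, 38, 54, 89, 90, 113] [6, 31, 52, 88, 90, 117] (by decide +kernel) (C.pNil _ _)))))
    (C.pH [8, 30, 65, 84, 94, 117] [13, 40, 59, 85, 100, 118] (by decide +kernel)
    (C.pT (f14708 C)
    (C.pH [26, 38, 54, 89, 90, 113] [13, 28, 56, 77, 105, 110, 114] (by decide +kernel) (C.pNil _ _))))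
    (C.loop_of_one (relLoop1 C) _ _)

theorem f14713 : C.T (v4 C) [9, 27, 55, 77, 102, 114] (v6 C) [9, 46, 65, 83, 90, 109, 116] :=
  C.conv (f1276 C) (f407 C) (f407 C) _ [139, 161, 170, 172, 177] _ (by decide +kernel) (by decide +kernel) (by decide +kernel)

theorem f14714 : C.S (v6 C) [23, 29, 69, 82, 102, 110, 113] :=
  C.stMul (f1266 C) (f1307 C) _ (by decide +kernel)

theorem f14715 : C.S (v6 C) [32, 64, 83, 95, 116] :=
  C.stMul (f1353 C) (f14714 C) _ (by decide +kernel)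

theorem f14716 : C.S (v6 C) [14, 48, 56, 86, 93, 110, 116] :=
  C.stMul (f1291 C) (f14715 C) _ (by decide +kernel)

theorem f14717 : C.S (v6 C) [23, 43, 50, 75, 100, 110, 114] :=
  C.stMul (f1358 C) (f1266 C) _ (by decide +kernel)

theorem f14718 : C.S (v6 C) [48, 68, 70, 96, 114] :=
  C.stMul (f1353 C) (f14717 C) _ (by decide +kernel)

theorem f14719 : C.T (v6 C) [18, 36, 63, 84, 93, 110, 123] (v18 C) [9, 27, 71, 94, 110, 116] :=
  C.conv (f13499 C) (f14716 C) (f14718 C) _ [136, 152, 169, 174] _ (by decide +kernel) (by decide +kernel) (by decide +kernel)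

theorem f14720 : C.S (v4 C) [26, 44, 64, 94, 121] :=
  C.stMul (f693 C) (f13648 C) _ (by decide +kernel)

theorem f14721 : C.S (v4 C) [23, 27, 56, 70, 98, 125] :=
  C.stMul (f421 C) (f14720 C) _ (by decide +kernel)

theorem f14722 : C.T (v4 C) [15, 42, 63, 81, 91, 109, 117] (v18 C) [16, 27, 56, 84, 101, 115] :=
  C.conv (f8390 C) (f13475 C) (f14721 C) _ [129, 150, 168, 175, 178] _ (by decide +kernel) (by decide +kernel) (by decide +kernel)

theorem f14723 : C.T (v18 C) [16, 27, 56, 84, 101, 115] (v4 C) [15, 42, 63, 81, 91, 109, 117] :=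
  C.flip (f14722 C)

theorem f14724 : C.T (v18 C) [22, 35, 64, 83, 101, 110, 124] (v18 C) [24, 36, 61, 72, 104, 123] :=
  C.closeT (p := (v4 C)) (pu := [9, 27, 55, 77, 102, 114])
    (C.pT (f14713 C)
    (C.pH [8, 30, 65, 84, 94, 117] [18, 36, 63, 84, 93, 110, 123] (by decide +kernel)
    (C.pT (f14719 C)
    (C.pH [26, 38, 54, 89, 90, 113] [22, 35, 64, 83, 101, 110, 124] (by decide +kernel) (C.pNil _ _)))))
    (C.pH [8, 30, 65, 84, 94, 117] [16, 27, 56, 84, 101, 115] (by decide +kernel)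
    (C.pT (f14723 C)
    (C.pH [26, 38, 54, 89, 90, 113] [9, 27, 55, 77, 102, 114] (by decide +kernel) (C.pNil _ _))))
    (C.loop_of_one (relLoop1 C) _ _)

theorem f14725 : C.T (v18 C) [24, 36, 61, 72, 104, 123] (v18 C) [22, 35, 64, 83, 101, 110, 124] :=
  C.flip (f14724 C)

theorem f14726 : C.T (v4 C) [13, 35, 69, 84, 98, 110] (v6 C) [12, 45, 56, 87, 106, 115] :=
  C.conv (f1285 C) (f1302 C) (f1302 C) _ [148, 157, 168, 173, 178] _ (by decide +kernel) (by decide +kernel) (by decide +kernel)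

theorem f14727 : C.S (v6 C) [12, 29, 59, 86, 102, 109] :=
  C.stMul (f1270 C) (f1307 C) _ (by decide +kernel)

theorem f14728 : C.T (v6 C) [21, 44, 57, 71, 100, 118] (v9 C) [24, 37, 68, 85, 95, 109] :=
  C.conv (f2099 C) (f3019 C) (f14727 C) _ [136, 156, 176, 178] _ (by decide +kernel) (by decide +kernel) (by decide +kernel)

theorem f14729 : C.T (v4 C) [16, 34, 60, 75, 104, 109, 116] (v18 C) [14, 44, 65, 71, 106, 110, 123] :=
  C.conv (f8235 C) (f8735 C) (f14206 C) _ [148, 157, 164, 176, 177] _ (by decide +kernel) (by decide +kernel) (by decide +kernel)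

theorem f14730 : C.T (v18 C) [14, 44, 65, 71, 106, 110, 123] (v4 C) [16, 34, 60, 75, 104, 109, 116] :=
  C.flip (f14729 C)

theorem f14731 : C.T (v9 C) [12, 28, 64, 88, 102, 122] (v18 C) [26, 38, 64, 77, 92, 110, 119] :=
  C.closeT (p := (v4 C)) (pu := [13, 35, 69, 84, 98, 110])
    (C.pT (f14726 C)
    (C.pH [8, 30, 65, 84, 94, 117] [21, 44, 57, 71, 100, 118] (by decide +kernel)
    (C.pT (f14728 C)
    (C.pH [26, 38, 54, 89, 90, 113] [12, 28, 64, 88, 102, 122] (by decide +kernel) (C.pNil _ _)))))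
    (C.pH [8, 30, 65, 84, 94, 117] [14, 44, 65, 71, 106, 110, 123] (by decide +kernel)
    (C.pT (f14730 C)
    (C.pH [26, 38, 54, 89, 90, 113] [13, 35, 69, 84, 98, 110] (by decide +kernel) (C.pNil _ _))))
    (C.loop_of_one (relLoop1 C) _ _)

theorem f14732 : C.T (v18 C) [26, 38, 64, 77, 92, 110, 119] (v9 C) [12, 28, 64, 88, 102, 122] :=
  C.flip (f14731 C)

theorem f14733 : C.T (v4 C) [22, 35, 59, 80, 105, 109, 113] (v6 C) [24, 39, 59, 73, 92, 109, 123] :=
  C.conv (f1285 C) (f1302 C) (f1302 C) _ [148, 160, 169, 171] _ (by decide +kernel) (by decide +kernel) (by decide +kernel)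

theorem f14734 : C.S (v6 C) [23, 29, 69, 82, 102, 110, 113] :=
  C.stMul (f1266 C) (f1307 C) _ (by decide +kernel)

theorem f14735 : C.S (v6 C) [32, 64, 83, 95, 116] :=
  C.stMul (f1353 C) (f14734 C) _ (by decide +kernel)

theorem f14736 : C.S (v6 C) [9, 31, 56, 88, 95, 117] :=
  C.stMul (f1358 C) (f14735 C) _ (by decide +kernel)

theorem f14737 : C.T (v6 C) [16, 33, 61, 70, 108, 111] (v17 C) [8, 39, 59, 88, 91, 109, 112] :=
  C.conv (f4615 C) (f6604 C) (f14736 C) _ [138, 153, 168, 172, 177] _ (by decide +kernel) (by decide +kernel) (by decide +kernel)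

theorem f14738 : C.S (v4 C) [17, 29, 60, 75, 100, 110, 113] :=
  C.stMul (f407 C) (f14099 C) _ (by decide +kernel)

theorem f14739 : C.T (v4 C) [9, 27, 64, 88, 109, 121] (v18 C) [11, 32, 52, 87, 107, 109, 119] :=
  C.conv (f8315 C) (f8537 C) (f14738 C) _ [128, 154, 165, 178] _ (by decide +kernel) (by decide +kernel) (by decide +kernel)

theorem f14740 : C.T (v18 C) [11, 32, 52, 87, 107, 109, 119] (v4 C) [9, 27, 64, 88, 109, 121] :=
  C.flip (f14739 C)

theorem f14741 : C.T (v17 C) [11, 40, 52, 76, 97, 116] (v18 C) [13, 33, 64, 70, 94, 109, 111] :=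
  C.closeT (p := (v4 C)) (pu := [22, 35, 59, 80, 105, 109, 113])
    (C.pT (f14733 C)
    (C.pH [8, 30, 65, 84, 94, 117] [16, 33, 61, 70, 108, 111] (by decide +kernel)
    (C.pT (f14737 C)
    (C.pH [26, 38, 54, 89, 90, 113] [11, 40, 52, 76, 97, 116] (by decide +kernel) (C.pNil _ _)))))
    (C.pH [8, 30, 65, 84, 94, 117] [11, 32, 52, 87, 107, 109, 119] (by decide +kernel)
    (C.pT (f14740 C)
    (C.pH [26, 38, 54, 89, 90, 113] [22, 35, 59, 80, 105, 109, 113] (by decide +kernel) (C.pNil _ _))))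
    (C.loop_of_one (relLoop1 C) _ _)

theorem f14742 : C.T (v18 C) [13, 33, 64, 70, 94, 109, 111] (v17 C) [11, 40, 52, 76, 97, 116] :=
  C.flip (f14741 C)

theorem f14743 : C.T (v4 C) [5, 46, 58, 74, 95, 115] (v6 C) [24, 48, 53, 106, 109, 111] :=
  C.conv (f1285 C) (f1302 C) (f1302 C) _ [133, 161, 165, 173, 178] _ (by decide +kernel) (by decide +kernel) (by decide +kernel)

theorem f14744 : C.S (v6 C) [6, 48, 74, 102, 123] :=
  C.stMul (f1266 C) (f1358 C) _ (by decide +kernel)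

theorem f14745 : C.S (v6 C) [17, 44, 81, 107, 110, 117] :=
  C.stMul (f1270 C) (f14744 C) _ (by decide +kernel)

theorem f14746 : C.S (v6 C) [14, 28, 69, 78, 110, 125] :=
  C.stMul (f1358 C) (f14745 C) _ (by decide +kernel)

theorem f14747 : C.T (v6 C) [16, 55, 86, 101, 115] (v15 C) [21, 30, 68, 74, 98, 114] :=
  C.conv (f2790 C) (f3388 C) (f14746 C) _ [129, 159, 164, 171, 177] _ (by decide +kernel) (by decide +kernel) (by decide +kernel)

theorem f14748 : C.T (v4 C) [14, 44, 65, 85, 102, 109, 111] (v18 C) [8, 37, 85, 90, 109, 115] :=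
  C.conv (f7487 C) (f8474 C) (f14402 C) _ [142, 158, 166, 171] _ (by decide +kernel) (by decide +kernel) (by decide +kernel)

theorem f14749 : C.T (v18 C) [8, 37, 85, 90, 109, 115] (v4 C) [14, 44, 65, 85, 102, 109, 111] :=
  C.flip (f14748 C)

theorem f14750 : C.T (v15 C) [6, 40, 82, 93, 116] (v18 C) [34, 61, 84, 105] :=
  C.closeT (p := (v4 C)) (pu := [5, 46, 58, 74, 95, 115])
    (C.pT (f14743 C)
    (C.pH [8, 30, 65, 84, 94, 117] [16, 55, 86, 101, 115] (by decide +kernel)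
    (C.pT (f14747 C)
    (C.pH [26, 38, 54, 89, 90, 113] [6, 40, 82, 93, 116] (by decide +kernel) (C.pNil _ _)))))
    (C.pH [8, 30, 65, 84, 94, 117] [8, 37, 85, 90, 109, 115] (by decide +kernel)
    (C.pT (f14749 C)
    (C.pH [26, 38, 54, 89, 90, 113] [5, 46, 58, 74, 95, 115] (by decide +kernel) (C.pNil _ _))))
    (C.loop_of_one (relLoop1 C) _ _)

theorem f14751 : C.T (v18 C) [34, 61, 84, 105] (v15 C) [6, 40, 82, 93, 116] :=
  C.flip (f14750 C)

theorem f14752 : C.T (v4 C) [13, 39, 65, 86, 117] (v6 C) [14, 29, 65, 78, 92, 123] :=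
  C.conv (f1285 C) (f1302 C) (f1302 C) _ [133, 157, 170, 171] _ (by decide +kernel) (by decide +kernel) (by decide +kernel)

theorem f14753 : C.S (v6 C) [48, 68, 83, 93, 121] :=
  C.stMul (f1307 C) (f1266 C) _ (by decide +kernel)

theorem f14754 : C.S (v6 C) [9, 27, 65, 87, 103, 109, 112] :=
  C.stMul (f1358 C) (f14753 C) _ (by decide +kernel)

end CfsgLib.J4Index
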