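import Cfsg.Agent.Lib.J4Index.Facts14

/-!
# Derived equations (generated)
-/

set_option autoImplicit false
set_option maxRecDepth 100000
set_option linter.style.longLine false

namespace CfsgLib.J4Index

variable {G X : Type} [Group G] [MulAction G X] (C : Ctx G X)

theorem f14755 : C.S (v6 C) [7, 62, 72, 94, 109, 117] :=
  C.stMul (f1291 C) (f14754 C) _ (by decide +kernel)

theorem f14756 : C.T (v6 C) [5, 38, 63, 87, 95, 109, 112] (v18 C) [20, 46, 59, 81, 90, 115] :=
  C.conv (f13499 C) (f14716 C) (f14755 C) _ [128, 150, 169, 177] _ (by decide +kernel) (by decide +kernel) (by decide +kernel)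

theorem f14757 : C.T (v4 C) [16, 28, 63, 80, 104, 119] (v18 C) [20, 39, 57, 72, 106, 112] :=
  C.conv (f7143 C) (f8330 C) (f13881 C) _ [142, 156, 170, 175, 177] _ (by decide +kernel) (by decide +kernel) (by decide +kernel)

theorem f14758 : C.T (v18 C) [20, 39, 57, 72, 106, 112] (v4 C) [16, 28, 63, 80, 104, 119] :=
  C.flip (f14757 C)

theorem f14759 : C.T (v18 C) [15, 39, 64, 84, 98, 110, 121] (v18 C) [16, 46, 55, 70, 98, 109, 117] :=
  C.closeT (p := (v4 C)) (pu := [13, 39, 65, 86, 117])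
    (C.pT (f14752 C)
    (C.pH [8, 30, 65, 84, 94, 117] [5, 38, 63, 87, 95, 109, 112] (by decide +kernel)
    (C.pT (f14756 C)
    (C.pH [26, 38, 54, 89, 90, 113] [15, 39, 64, 84, 98, 110, 121] (by decide +kernel) (C.pNil _ _)))))
    (C.pH [8, 30, 65, 84, 94, 117] [20, 39, 57, 72, 106, 112] (by decide +kernel)
    (C.pT (f14758 C)
    (C.pH [26, 38, 54, 89, 90, 113] [13, 39, 65, 86, 117] (by decide +kernel) (C.pNil _ _))))
    (C.loop_of_one (relLoop1 C) _ _)

theorem f14760 : C.T (v18 C) [16, 46, 55, 70, 98, 109, 117] (v18 C) [15, 39, 64, 84, 98, 110, 121] :=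
  C.flip (f14759 C)

theorem f14761 : C.T (v4 C) [7, 35, 64, 88, 108, 110, 116] (v6 C) [13, 45, 50, 85, 94, 121] :=
  C.conv (f1285 C) (f1302 C) (f1302 C) _ [130, 156, 166, 178] _ (by decide +kernel) (by decide +kernel) (by decide +kernel)

theorem f14762 : C.S (v6 C) [24, 27, 64, 104, 118] :=
  C.stMul (f1358 C) (f1307 C) _ (by decide +kernel)

theorem f14763 : C.S (v6 C) [15, 45, 63, 76, 106, 110, 125] :=
  C.stMul (f1270 C) (f14762 C) _ (by decide +kernel)

theorem f14764 : C.T (v6 C) [11, 38, 62, 87, 90, 110, 113] (v17 C) [19, 37, 49, 79, 106, 110, 117] :=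
  C.conv (f4615 C) (f6604 C) (f14763 C) _ [139, 152, 167, 176, 178] _ (by decide +kernel) (by decide +kernel) (by decide +kernel)

theorem f14765 : C.T (v4 C) [23, 44, 52, 71, 103, 110, 121] (v18 C) [19, 48, 65, 79, 107, 110, 115] :=
  C.conv (f8516 C) (f12206 C) (f697 C) _ [142, 153, 168, 173] _ (by decide +kernel) (by decide +kernel) (by decide +kernel)

theorem f14766 : C.T (v18 C) [19, 48, 65, 79, 107, 110, 115] (v4 C) [23, 44, 52, 71, 103, 110, 121] :=
  C.flip (f14765 C)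

theorem f14767 : C.T (v17 C) [17, 40, 64, 74, 101, 114] (v18 C) [15, 64, 76, 90, 122] :=
  C.closeT (p := (v4 C)) (pu := [7, 35, 64, 88, 108, 110, 116])
    (C.pT (f14761 C)
    (C.pH [8, 30, 65, 84, 94, 117] [11, 38, 62, 87, 90, 110, 113] (by decide +kernel)
    (C.pT (f14764 C)
    (C.pH [26, 38, 54, 89, 90, 113] [17, 40, 64, 74, 101, 114] (by decide +kernel) (C.pNil _ _)))))
    (C.pH [8, 30, 65, 84, 94, 117] [19, 48, 65, 79, 107, 110, 115] (by decide +kernel)
    (C.pT (f14766 C)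
    (C.pH [26, 38, 54, 89, 90, 113] [7, 35, 64, 88, 108, 110, 116] (by decide +kernel) (C.pNil _ _))))
    (C.loop_of_one (relLoop1 C) _ _)

theorem f14768 : C.T (v18 C) [15, 64, 76, 90, 122] (v17 C) [17, 40, 64, 74, 101, 114] :=
  C.flip (f14767 C)

theorem f14769 : C.T (v4 C) [16, 44, 54, 82, 101, 110, 119] (v6 C) [6, 37, 63, 87, 94, 109, 113] :=
  C.conv (f1285 C) (f1302 C) (f1302 C) _ [133, 152, 165, 175, 177] _ (by decide +kernel) (by decide +kernel) (by decide +kernel)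

theorem f14770 : C.S (v6 C) [14, 28, 69, 78, 103, 109, 112] :=
  C.stMul (f1307 C) (f1291 C) _ (by decide +kernel)

theorem f14771 : C.S (v6 C) [15, 29, 50, 70, 96, 121] :=
  C.stMul (f1266 C) (f14770 C) _ (by decide +kernel)

theorem f14772 : C.T (v6 C) [13, 38, 50, 73, 94, 119] (v10 C) [8, 32, 53, 78, 92, 110, 114] :=
  C.conv (f1989 C) (f3668 C) (f14771 C) _ [152, 164, 174, 178] _ (by decide +kernel) (by decide +kernel) (by decide +kernel)

theorem f14773 : C.S (v4 C) [13, 44, 51, 82, 106, 110, 111] :=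
  C.stMul (f407 C) (f14556 C) _ (by decide +kernel)

theorem f14774 : C.S (v4 C) [17, 29, 60, 75, 100, 110, 113] :=
  C.stMul (f407 C) (f14773 C) _ (by decide +kernel)

theorem f14775 : C.S (v4 C) [12, 44, 50, 85, 106, 124] :=
  C.stMul (f421 C) (f14774 C) _ (by decide +kernel)

theorem f14776 : C.S (v4 C) [8, 33, 58, 79, 105, 109, 111] :=
  C.stMul (f693 C) (f14775 C) _ (by decide +kernel)

theorem f14777 : C.T (v4 C) [26, 39, 65, 72, 94, 110, 111] (v18 C) [11, 37, 67, 72, 101, 109, 111] :=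
  C.conv (f8547 C) (f8550 C) (f14776 C) _ [140, 159, 166, 175, 177] _ (by decide +kernel) (by decide +kernel) (by decide +kernel)

theorem f14778 : C.T (v18 C) [11, 37, 67, 72, 101, 109, 111] (v4 C) [26, 39, 65, 72, 94, 110, 111] :=
  C.flip (f14777 C)

theorem f14779 : C.T (v10 C) [11, 30, 54, 75, 91, 118] (v18 C) [13, 38, 52, 70, 98, 110, 122] :=
  C.closeT (p := (v4 C)) (pu := [16, 44, 54, 82, 101, 110, 119])
    (C.pT (f14769 C)
    (C.pH [8, 30, 65, 84, 94, 117] [13, 38, 50, 73, 94, 119] (by decide +kernel)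
    (C.pT (f14772 C)
    (C.pH [26, 38, 54, 89, 90, 113] [11, 30, 54, 75, 91, 118] (by decide +kernel) (C.pNil _ _)))))
    (C.pH [8, 30, 65, 84, 94, 117] [11, 37, 67, 72, 101, 109, 111] (by decide +kernel)
    (C.pT (f14778 C)
    (C.pH [26, 38, 54, 89, 90, 113] [16, 44, 54, 82, 101, 110, 119] (by decide +kernel) (C.pNil _ _))))
    (C.loop_of_one (relLoop1 C) _ _)

theorem f14780 : C.T (v18 C) [13, 38, 52, 70, 98, 110, 122] (v10 C) [11, 30, 54, 75, 91, 118] :=
  C.flip (f14779 C)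

theorem f14781 : C.T (v4 C) [4, 38, 54, 82, 90, 110, 124] (v10 C) [9, 31, 51, 87, 90, 109, 119] :=
  C.conv (f1798 C) (f1856 C) (f1856 C) _ [138, 154, 170, 172] _ (by decide +kernel) (by decide +kernel) (by decide +kernel)

theorem f14782 : C.T (v4 C) [6, 30, 69, 89, 105, 110, 117] (v17 C) [9, 42, 49, 71, 108, 110, 119] :=
  C.conv (f6313 C) (f6786 C) (f14573 C) _ [143, 163, 168, 172, 177] _ (by decide +kernel) (by decide +kernel) (by decide +kernel)

theorem f14783 : C.T (v17 C) [9, 42, 49, 71, 108, 110, 119] (v4 C) [6, 30, 69, 89, 105, 110, 117] :=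
  C.flip (f14782 C)

theorem f14784 : C.T (v17 C) [25, 45, 68, 70, 98, 122] (v18 C) [23, 46, 51, 83, 101, 110, 112] :=
  C.conv (f9452 C) (f4132 C) (f4137 C) _ [146, 162, 166, 172] _ (by decide +kernel) (by decide +kernel) (by decide +kernel)

theorem f14785 : C.T (v18 C) [23, 46, 51, 83, 101, 110, 112] (v17 C) [25, 45, 68, 70, 98, 122] :=
  C.flip (f14784 C)

theorem f14786 : C.T (v10 C) [18, 43, 62, 80, 98, 109, 115] (v18 C) [13, 44, 65, 75, 97, 124] :=
  C.closeT (p := (v4 C)) (pu := [4, 38, 54, 82, 90, 110, 124])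
    (C.pT (f14781 C)
    (C.pH [8, 30, 65, 84, 94, 117] [18, 43, 62, 80, 98, 109, 115] (by decide +kernel) (C.pNil _ _)))
    (C.pH [26, 38, 54, 89, 90, 113] [23, 46, 51, 83, 101, 110, 112] (by decide +kernel)
    (C.pT (f14785 C)
    (C.pH [8, 30, 65, 84, 94, 117] [9, 42, 49, 71, 108, 110, 119] (by decide +kernel)
    (C.pT (f14783 C)
    (C.pH [26, 38, 54, 89, 90, 113] [4, 38, 54, 82, 90, 110, 124] (by decide +kernel) (C.pNil _ _))))))
    (C.loop_of_one (relLoop1 C) _ _)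

theorem f14787 : C.T (v18 C) [13, 44, 65, 75, 97, 124] (v10 C) [18, 43, 62, 80, 98, 109, 115] :=
  C.flip (f14786 C)

theorem f14788 : C.T (v4 C) [21, 39, 60, 80, 110, 111] (v10 C) [4, 33, 68, 88, 102, 109, 116] :=
  C.conv (f1798 C) (f1856 C) (f1856 C) _ [148, 161, 169, 178] _ (by decide +kernel) (by decide +kernel) (by decide +kernel)

theorem f14789 : C.S (v10 C) [12, 36, 68, 81, 93, 109, 118] :=
  C.stMul (f1722 C) (f1704 C) _ (by decide +kernel)

theorem f14790 : C.S (v10 C) [11, 44, 52, 84, 94, 109, 118] :=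
  C.stMul (f1709 C) (f14789 C) _ (by decide +kernel)

theorem f14791 : C.S (v10 C) [12, 35, 58, 88, 108, 110, 119] :=
  C.stMul (f1704 C) (f1714 C) _ (by decide +kernel)

theorem f14792 : C.S (v10 C) [11, 31, 62, 77, 107, 109, 115] :=
  C.stMul (f1709 C) (f14791 C) _ (by decide +kernel)

theorem f14793 : C.S (v10 C) [18, 29, 69, 83, 97, 113] :=
  C.stMul (f1722 C) (f14792 C) _ (by decide +kernel)

theorem f14794 : C.T (v10 C) [25, 42, 54, 72, 95, 109, 114] (v18 C) [5, 46, 49, 81, 94, 110, 119] :=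
  C.conv (f11495 C) (f14790 C) (f14793 C) _ [133, 151, 166, 174, 177] _ (by decide +kernel) (by decide +kernel) (by decide +kernel)

theorem f14795 : C.S (v4 C) [8, 31, 60, 85, 98, 110, 125] :=
  C.stMul (f693 C) (f407 C) _ (by decide +kernel)

theorem f14796 : C.S (v4 C) [42, 63, 82, 91, 110, 125] :=
  C.stMul (f421 C) (f14795 C) _ (by decide +kernel)

theorem f14797 : C.S (v4 C) [12, 31, 56, 72, 107, 109, 112] :=
  C.stMul (f407 C) (f14796 C) _ (by decide +kernel)

theorem f14798 : C.T (v4 C) [10, 43, 64, 73, 90, 110, 123] (v18 C) [10, 33, 54, 77, 108, 109, 119] :=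
  C.conv (f8315 C) (f8537 C) (f14797 C) _ [155, 166, 175, 177] _ (by decide +kernel) (by decide +kernel) (by decide +kernel)

theorem f14799 : C.T (v18 C) [10, 33, 54, 77, 108, 109, 119] (v4 C) [10, 43, 64, 73, 90, 110, 123] :=
  C.flip (f14798 C)

theorem f14800 : C.T (v18 C) [8, 46, 64, 85, 109, 122] (v18 C) [23, 32, 50, 71, 97, 109, 119] :=
  C.closeT (p := (v4 C)) (pu := [21, 39, 60, 80, 110, 111])
    (C.pT (f14788 C)
    (C.pH [8, 30, 65, 84, 94, 117] [25, 42, 54, 72, 95, 109, 114] (by decide +kernel)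
    (C.pT (f14794 C)
    (C.pH [26, 38, 54, 89, 90, 113] [8, 46, 64, 85, 109, 122] (by decide +kernel) (C.pNil _ _)))))
    (C.pH [8, 30, 65, 84, 94, 117] [10, 33, 54, 77, 108, 109, 119] (by decide +kernel)
    (C.pT (f14799 C)
    (C.pH [26, 38, 54, 89, 90, 113] [21, 39, 60, 80, 110, 111] (by decide +kernel) (C.pNil _ _))))
    (C.loop_of_one (relLoop1 C) _ _)

theorem f14804 : C.T (v4 C) [15, 47, 69, 78, 90, 109] (v10 C) [16, 45, 64, 85, 104, 110, 117] :=
  C.conv (f1798 C) (f1856 C) (f1856 C) _ [129, 157, 171, 177] _ (by decide +kernel) (by decide +kernel) (by decide +kernel)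

theorem f14805 : C.S (v4 C) [16, 43, 64, 82, 90, 110, 123] :=
  C.stMul (f421 C) (f14300 C) _ (by decide +kernel)

theorem f14806 : C.S (v4 C) [21, 60, 87, 91, 109, 120] :=
  C.stMul (f407 C) (f14805 C) _ (by decide +kernel)

theorem f14807 : C.S (v4 C) [13, 34, 59, 73, 105, 109, 115] :=
  C.stMul (f421 C) (f14806 C) _ (by decide +kernel)

theorem f14808 : C.T (v4 C) [20, 33, 52, 71, 92, 110, 119] (v18 C) [9, 30, 56, 74, 107, 125] :=
  C.conv (f10112 C) (f14154 C) (f14807 C) _ [128, 157, 175] _ (by decide +kernel) (by decide +kernel) (by decide +kernel)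

theorem f14809 : C.T (v18 C) [9, 30, 56, 74, 107, 125] (v4 C) [20, 33, 52, 71, 92, 110, 119] :=
  C.flip (f14808 C)

theorem f14810 : C.T (v18 C) [25, 34, 63, 78, 107, 110, 120] (v18 C) [23, 36, 60, 85, 99, 110, 118] :=
  C.conv (f11694 C) (f6836 C) (f6836 C) _ [141, 162, 168, 172, 178] _ (by decide +kernel) (by decide +kernel) (by decide +kernel)

theorem f14811 : C.T (v18 C) [23, 36, 60, 85, 99, 110, 118] (v18 C) [25, 34, 63, 78, 107, 110, 120] :=
  C.flip (f14810 C)

theorem f14812 : C.T (v10 C) [20, 27, 57, 75, 102, 110] (v18 C) [13, 33, 61, 78, 102, 117] :=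
  C.closeT (p := (v4 C)) (pu := [15, 47, 69, 78, 90, 109])
    (C.pT (f14804 C)
    (C.pH [8, 30, 65, 84, 94, 117] [20, 27, 57, 75, 102, 110] (by decide +kernel) (C.pNil _ _)))
    (C.pH [26, 38, 54, 89, 90, 113] [23, 36, 60, 85, 99, 110, 118] (by decide +kernel)
    (C.pT (f14811 C)
    (C.pH [8, 30, 65, 84, 94, 117] [9, 30, 56, 74, 107, 125] (by decide +kernel)
    (C.pT (f14809 C)
    (C.pH [26, 38, 54, 89, 90, 113] [15, 47, 69, 78, 90, 109] (by decide +kernel) (C.pNil _ _))))))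
    (C.loop_of_one (relLoop1 C) _ _)

theorem f14813 : C.T (v18 C) [13, 33, 61, 78, 102, 117] (v10 C) [20, 27, 57, 75, 102, 110] :=
  C.flip (f14812 C)

theorem f14814 : C.T (v4 C) [7, 45, 65, 78, 107, 109, 113] (v9 C) [26, 38, 73, 94, 109, 125] :=
  C.conv (f2044 C) (f2809 C) (f2809 C) _ [142, 152, 166, 174] _ (by decide +kernel) (by decide +kernel) (by decide +kernel)

theorem f14815 : C.S (v9 C) [25, 29, 50, 71, 91, 114] :=
  C.stMul (f1620 C) (f1624 C) _ (by decide +kernel)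

theorem f14816 : C.S (v9 C) [6, 46, 51, 82, 96, 109, 111] :=
  C.stMul (f1607 C) (f14815 C) _ (by decide +kernel)

theorem f14817 : C.S (v9 C) [47, 79, 100, 110, 114] :=
  C.stMul (f1620 C) (f1615 C) _ (by decide +kernel)

theorem f14818 : C.S (v9 C) [13, 40, 59, 82, 99, 110, 111] :=
  C.stMul (f1615 C) (f14817 C) _ (by decide +kernel)

theorem f14819 : C.S (v9 C) [43, 67, 71, 98, 119] :=
  C.stMul (f1620 C) (f14818 C) _ (by decide +kernel)

theorem f14820 : C.T (v9 C) [14, 44, 60, 71, 101, 114] (v18 C) [15, 31, 57, 77, 101, 110, 119] :=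
  C.conv (f13290 C) (f14816 C) (f14819 C) _ [148, 156, 166, 172, 177] _ (by decide +kernel) (by decide +kernel) (by decide +kernel)

theorem f14821 : C.S (v4 C) [12, 41, 63, 84, 102, 110, 115] :=
  C.stMul (f693 C) (f13670 C) _ (by decide +kernel)

theorem f14822 : C.T (v4 C) [23, 35, 50, 80, 104, 109, 124] (v18 C) [24, 28, 66, 85, 105, 118] :=
  C.conv (f7860 C) (f693 C) (f14821 C) _ [139, 153, 166, 173, 178] _ (by decide +kernel) (by decide +kernel) (by decide +kernel)

theorem f14823 : C.T (v18 C) [24, 28, 66, 85, 105, 118] (v4 C) [23, 35, 50, 80, 104, 109, 124] :=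
  C.flip (f14822 C)

theorem f14824 : C.T (v18 C) [9, 32, 66, 88, 107, 112] (v18 C) [21, 45, 66, 84, 92, 110, 116] :=
  C.closeT (p := (v4 C)) (pu := [7, 45, 65, 78, 107, 109, 113])
    (C.pT (f14814 C)
    (C.pH [8, 30, 65, 84, 94, 117] [14, 44, 60, 71, 101, 114] (by decide +kernel)
    (C.pT (f14820 C)
    (C.pH [26, 38, 54, 89, 90, 113] [9, 32, 66, 88, 107, 112] (by decide +kernel) (C.pNil _ _)))))
    (C.pH [8, 30, 65, 84, 94, 117] [24, 28, 66, 85, 105, 118] (by decide +kernel)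
    (C.pT (f14823 C)
    (C.pH [26, 38, 54, 89, 90, 113] [7, 45, 65, 78, 107, 109, 113] (by decide +kernel) (C.pNil _ _))))
    (C.loop_of_one (relLoop1 C) _ _)

theorem f14828 : C.T (v4 C) [12, 28, 53, 81, 91, 109, 117] (v14 C) [5, 37, 53, 86, 121] :=
  C.conv (f2536 C) (f3041 C) (f3041 C) _ [128, 158, 167, 171, 178] _ (by decide +kernel) (by decide +kernel) (by decide +kernel)

theorem f14829 : C.S (v14 C) [19, 47, 55, 79, 92, 114] :=
  C.stMul (f2445 C) (f2445 C) _ (by decide +kernel)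

theorem f14830 : C.S (v14 C) [19, 37, 49, 80, 92, 110, 125] :=
  C.stMul (f2437 C) (f14829 C) _ (by decide +kernel)

theorem f14831 : C.S (v14 C) [10, 27, 65, 89, 108, 110, 123] :=
  C.stMul (f2437 C) (f2441 C) _ (by decide +kernel)

theorem f14832 : C.S (v14 C) [25, 33, 82, 102, 114] :=
  C.stMul (f2454 C) (f14831 C) _ (by decide +kernel)

theorem f14833 : C.S (v14 C) [17, 48, 50, 84, 100, 110, 115] :=
  C.stMul (f2441 C) (f14832 C) _ (by decide +kernel)

theorem f14834 : C.S (v14 C) [12, 44, 50, 84, 99, 110, 114] :=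
  C.stMul (f2445 C) (f14833 C) _ (by decide +kernel)

theorem f14835 : C.T (v14 C) [12, 43, 56, 86, 93, 109, 114] (v18 C) [22, 36, 49, 79, 90, 113] :=
  C.conv (f13551 C) (f14830 C) (f14834 C) _ [146, 162, 175, 177] _ (by decide +kernel) (by decide +kernel) (by decide +kernel)

theorem f14836 : C.S (v4 C) [17, 35, 66, 70, 95] :=
  C.stMul (f421 C) (f407 C) _ (by decide +kernel)

theorem f14837 : C.S (v4 C) [13, 44, 51, 82, 106, 110, 111] :=
  C.stMul (f407 C) (f14836 C) _ (by decide +kernel)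

theorem f14838 : C.S (v4 C) [17, 29, 60, 75, 100, 110, 113] :=
  C.stMul (f407 C) (f14837 C) _ (by decide +kernel)

theorem f14839 : C.S (v4 C) [12, 44, 50, 85, 106, 124] :=
  C.stMul (f421 C) (f14838 C) _ (by decide +kernel)

theorem f14840 : C.S (v4 C) [8, 33, 58, 79, 105, 109, 111] :=
  C.stMul (f693 C) (f14839 C) _ (by decide +kernel)

theorem f14841 : C.T (v4 C) [24, 37, 55, 71, 104, 109, 115] (v18 C) [6, 34, 53, 71, 101, 118] :=
  C.conv (f7423 C) (f7483 C) (f14840 C) _ [134, 159, 165, 174, 178] _ (by decide +kernel) (by decide +kernel) (by decide +kernel)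

theorem f14842 : C.T (v18 C) [6, 34, 53, 71, 101, 118] (v4 C) [24, 37, 55, 71, 104, 109, 115] :=
  C.flip (f14841 C)

theorem f14843 : C.T (v18 C) [19, 31, 68, 73, 98, 109, 111] (v18 C) [22, 36, 54, 71, 101, 118] :=
  C.closeT (p := (v4 C)) (pu := [12, 28, 53, 81, 91, 109, 117])
    (C.pT (f14828 C)
    (C.pH [8, 30, 65, 84, 94, 117] [12, 43, 56, 86, 93, 109, 114] (by decide +kernel)
    (C.pT (f14835 C)
    (C.pH [26, 38, 54, 89, 90, 113] [19, 31, 68, 73, 98, 109, 111] (by decide +kernel) (C.pNil _ _)))))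
    (C.pH [8, 30, 65, 84, 94, 117] [6, 34, 53, 71, 101, 118] (by decide +kernel)
    (C.pT (f14842 C)
    (C.pH [26, 38, 54, 89, 90, 113] [12, 28, 53, 81, 91, 109, 117] (by decide +kernel) (C.pNil _ _))))
    (C.loop_of_one (relLoop1 C) _ _)

theorem f14844 : C.T (v18 C) [22, 36, 54, 71, 101, 118] (v18 C) [19, 31, 68, 73, 98, 109, 111] :=
  C.flip (f14843 C)

theorem f14845 : C.T (v4 C) [23, 28, 56, 82, 98, 110] (v15 C) [16, 48, 61, 76, 93, 110, 115] :=
  C.conv (f2613 C) (f2621 C) (f2621 C) _ [148, 159, 169, 178] _ (by decide +kernel) (by decide +kernel) (by decide +kernel)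

theorem f14846 : C.S (v15 C) [20, 45, 65, 78, 96, 109, 125] :=
  C.stMul (f2565 C) (f2581 C) _ (by decide +kernel)

theorem f14847 : C.T (v15 C) [20, 35, 62, 81, 93, 109, 111] (v17 C) [22, 39, 54, 72, 108, 110, 114] :=
  C.conv (f4824 C) (f14846 C) (f2565 C) _ [141, 155, 168, 174, 178] _ (by decide +kernel) (by decide +kernel) (by decide +kernel)

theorem f14848 : C.S (v4 C) [18, 37, 59, 73, 102, 116] :=
  C.stMul (f693 C) (f13650 C) _ (by decide +kernel)

theorem f14849 : C.S (v4 C) [16, 45, 55, 88, 103, 109, 115] :=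
  C.stMul (f421 C) (f14848 C) _ (by decide +kernel)

theorem f14850 : C.T (v4 C) [13, 59, 82, 96, 110, 118] (v18 C) [19, 48, 67, 88, 95, 109, 125] :=
  C.conv (f8390 C) (f13475 C) (f14849 C) _ [140, 163, 170, 171, 178] _ (by decide +kernel) (by decide +kernel) (by decide +kernel)

theorem f14851 : C.T (v18 C) [19, 48, 67, 88, 95, 109, 125] (v4 C) [13, 59, 82, 96, 110, 118] :=
  C.flip (f14850 C)

theorem f14852 : C.T (v17 C) [19, 28, 65, 81, 96, 125] (v18 C) [15, 65, 85, 104, 109] :=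
  C.closeT (p := (v4 C)) (pu := [23, 28, 56, 82, 98, 110])
    (C.pT (f14845 C)
    (C.pH [8, 30, 65, 84, 94, 117] [20, 35, 62, 81, 93, 109, 111] (by decide +kernel)
    (C.pT (f14847 C)
    (C.pH [26, 38, 54, 89, 90, 113] [19, 28, 65, 81, 96, 125] (by decide +kernel) (C.pNil _ _)))))
    (C.pH [8, 30, 65, 84, 94, 117] [19, 48, 67, 88, 95, 109, 125] (by decide +kernel)
    (C.pT (f14851 C)
    (C.pH [26, 38, 54, 89, 90, 113] [23, 28, 56, 82, 98, 110] (by decide +kernel) (C.pNil _ _))))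
    (C.loop_of_one (relLoop1 C) _ _)

theorem f14853 : C.T (v18 C) [15, 65, 85, 104, 109] (v17 C) [19, 28, 65, 81, 96, 125] :=
  C.flip (f14852 C)

theorem f14854 : C.T (v4 C) [18, 46, 62, 81, 99, 110, 113] (v15 C) [21, 39, 59, 70, 98, 109] :=
  C.conv (f2613 C) (f2621 C) (f2621 C) _ [128, 155, 170, 174] _ (by decide +kernel) (by decide +kernel) (by decide +kernel)

theorem f14855 : C.S (v15 C) [25, 46, 61, 102, 110, 119] :=
  C.stMul (f2565 C) (f2569 C) _ (by decide +kernel)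

theorem f14856 : C.S (v15 C) [25, 39, 65, 80, 99, 110, 113] :=
  C.stMul (f2581 C) (f14855 C) _ (by decide +kernel)

theorem f14857 : C.T (v15 C) [24, 48, 67, 84, 100, 116] (v18 C) [6, 28, 62, 76, 91, 110, 122] :=
  C.conv (f9213 C) (f2565 C) (f14856 C) _ [134, 161, 167, 178] _ (by decide +kernel) (by decide +kernel) (by decide +kernel)

theorem f14858 : C.S (v4 C) [13, 34, 59, 73, 105, 109, 115] :=
  C.stMul (f421 C) (f13663 C) _ (by decide +kernel)

theorem f14859 : C.T (v4 C) [25, 32, 55, 76, 102, 110] (v18 C) [25, 35, 56, 73, 112] :=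
  C.conv (f10188 C) (f12045 C) (f14858 C) _ [139, 163, 170, 176, 178] _ (by decide +kernel) (by decide +kernel) (by decide +kernel)

theorem f14860 : C.T (v18 C) [25, 35, 56, 73, 112] (v4 C) [25, 32, 55, 76, 102, 110] :=
  C.flip (f14859 C)

theorem f14861 : C.T (v18 C) [4, 43, 61, 89, 107, 110] (v18 C) [4, 46, 53, 87, 105, 109, 118] :=
  C.closeT (p := (v4 C)) (pu := [18, 46, 62, 81, 99, 110, 113])
    (C.pT (f14854 C)
    (C.pH [8, 30, 65, 84, 94, 117] [24, 48, 67, 84, 100, 116] (by decide +kernel)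
    (C.pT (f14857 C)
    (C.pH [26, 38, 54, 89, 90, 113] [4, 43, 61, 89, 107, 110] (by decide +kernel) (C.pNil _ _)))))
    (C.pH [8, 30, 65, 84, 94, 117] [25, 35, 56, 73, 112] (by decide +kernel)
    (C.pT (f14860 C)
    (C.pH [26, 38, 54, 89, 90, 113] [18, 46, 62, 81, 99, 110, 113] (by decide +kernel) (C.pNil _ _))))
    (C.loop_of_one (relLoop1 C) _ _)

theorem f14862 : C.T (v18 C) [4, 46, 53, 87, 105, 109, 118] (v18 C) [4, 43, 61, 89, 107, 110] :=
  C.flip (f14861 C)

theorem f14863 : C.T (v4 C) [7, 64, 72, 104, 109, 118] (v15 C) [19, 47, 57, 89, 104, 110] :=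
  C.conv (f2613 C) (f2621 C) (f2621 C) _ [136, 162, 165] _ (by decide +kernel) (by decide +kernel) (by decide +kernel)

theorem f14864 : C.S (v4 C) [21, 35, 69, 73, 94, 109, 122] :=
  C.stMul (f421 C) (f8700 C) _ (by decide +kernel)

theorem f14865 : C.S (v4 C) [18, 37, 59, 73, 102, 116] :=
  C.stMul (f693 C) (f14864 C) _ (by decide +kernel)

theorem f14866 : C.S (v4 C) [16, 45, 55, 88, 103, 109, 115] :=
  C.stMul (f421 C) (f14865 C) _ (by decide +kernel)

theorem f14867 : C.T (v4 C) [23, 40, 69, 82, 105, 109, 116] (v18 C) [13, 44, 55, 76, 98, 109] :=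
  C.conv (f6863 C) (f8698 C) (f14866 C) _ [145, 161, 169, 171, 178] _ (by decide +kernel) (by decide +kernel) (by decide +kernel)

theorem f14868 : C.T (v18 C) [13, 44, 55, 76, 98, 109] (v4 C) [23, 40, 69, 82, 105, 109, 116] :=
  C.flip (f14867 C)

theorem f14869 : C.T (v18 C) [6, 34, 58, 82, 94, 123] (v18 C) [25, 45, 58, 88, 95, 110, 115] :=
  C.conv (f14024 C) (f14026 C) (f6836 C) _ [132, 149, 176, 177] _ (by decide +kernel) (by decide +kernel) (by decide +kernel)

theorem f14870 : C.T (v18 C) [25, 45, 58, 88, 95, 110, 115] (v18 C) [6, 34, 58, 82, 94, 123] :=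
  C.flip (f14869 C)

theorem f14871 : C.T (v15 C) [26, 30, 55, 85, 94, 110, 117] (v18 C) [4, 46, 54, 92, 117] :=
  C.closeT (p := (v4 C)) (pu := [7, 64, 72, 104, 109, 118])
    (C.pT (f14863 C)
    (C.pH [8, 30, 65, 84, 94, 117] [26, 30, 55, 85, 94, 110, 117] (by decide +kernel) (C.pNil _ _)))
    (C.pH [26, 38, 54, 89, 90, 113] [25, 45, 58, 88, 95, 110, 115] (by decide +kernel)
    (C.pT (f14870 C)
    (C.pH [8, 30, 65, 84, 94, 117] [13, 44, 55, 76, 98, 109] (by decide +kernel)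
    (C.pT (f14868 C)
    (C.pH [26, 38, 54, 89, 90, 113] [7, 64, 72, 104, 109, 118] (by decide +kernel) (C.pNil _ _))))))
    (C.loop_of_one (relLoop1 C) _ _)

theorem f14872 : C.T (v18 C) [4, 46, 54, 92, 117] (v15 C) [26, 30, 55, 85, 94, 110, 117] :=
  C.flip (f14871 C)

theorem f14873 : C.T (v4 C) [6, 28, 49, 80, 102, 120] (v15 C) [9, 29, 67, 74, 92, 109] :=
  C.conv (f2628 C) (f2666 C) (f2666 C) _ [136, 157, 167, 176, 178] _ (by decide +kernel) (by decide +kernel) (by decide +kernel)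

theorem f14874 : C.S (v15 C) [24, 47, 64, 83, 99, 109, 111] :=
  C.stMul (f2581 C) (f2569 C) _ (by decide +kernel)

theorem f14875 : C.S (v15 C) [25, 47, 66, 86, 107, 124] :=
  C.stMul (f2569 C) (f2565 C) _ (by decide +kernel)

theorem f14876 : C.S (v15 C) [24, 44, 51, 82, 106, 110, 112] :=
  C.stMul (f2565 C) (f14875 C) _ (by decide +kernel)

theorem f14877 : C.S (v15 C) [24, 34, 69, 71, 96, 109] :=
  C.stMul (f2581 C) (f14876 C) _ (by decide +kernel)

theorem f14878 : C.T (v15 C) [18, 29, 50, 74, 104, 110, 112] (v18 C) [34, 69, 71, 121] :=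
  C.conv (f10495 C) (f14874 C) (f14877 C) _ [143, 152, 170, 171, 177] _ (by decide +kernel) (by decide +kernel) (by decide +kernel)

theorem f14879 : C.S (v4 C) [16, 32, 68, 79, 93, 110, 124] :=
  C.stMul (f407 C) (f8538 C) _ (by decide +kernel)

theorem f14880 : C.S (v4 C) [18, 44, 51, 79, 106, 114] :=
  C.stMul (f421 C) (f14879 C) _ (by decide +kernel)

theorem f14881 : C.T (v4 C) [21, 27, 68, 80, 92, 109, 121] (v18 C) [10, 34, 51, 78, 90, 110, 115] :=
  C.conv (f8315 C) (f8537 C) (f14880 C) _ [130, 161, 170, 173, 177] _ (by decide +kernel) (by decide +kernel) (by decide +kernel)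

theorem f14882 : C.T (v18 C) [10, 34, 51, 78, 90, 110, 115] (v4 C) [21, 27, 68, 80, 92, 109, 121] :=
  C.flip (f14881 C)

theorem f14883 : C.T (v18 C) [26, 36, 49, 84, 102, 109, 114] (v18 C) [23, 41, 63, 76, 94, 110, 116] :=
  C.closeT (p := (v4 C)) (pu := [6, 28, 49, 80, 102, 120])
    (C.pT (f14873 C)
    (C.pH [8, 30, 65, 84, 94, 117] [18, 29, 50, 74, 104, 110, 112] (by decide +kernel)
    (C.pT (f14878 C)
    (C.pH [26, 38, 54, 89, 90, 113] [26, 36, 49, 84, 102, 109, 114] (by decide +kernel) (C.pNil _ _)))))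
    (C.pH [8, 30, 65, 84, 94, 117] [10, 34, 51, 78, 90, 110, 115] (by decide +kernel)
    (C.pT (f14882 C)
    (C.pH [26, 38, 54, 89, 90, 113] [6, 28, 49, 80, 102, 120] (by decide +kernel) (C.pNil _ _))))
    (C.loop_of_one (relLoop1 C) _ _)

theorem f14887 : C.T (v4 C) [5, 48, 65, 75, 93, 110, 111] (v15 C) [11, 45, 57, 87, 100, 121] :=
  C.conv (f2717 C) (f407 C) (f407 C) _ [143, 150, 173, 178] _ (by decide +kernel) (by decide +kernel) (by decide +kernel)

theorem f14888 : C.S (v15 C) [25, 46, 61, 102, 110, 119] :=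
  C.stMul (f2565 C) (f2569 C) _ (by decide +kernel)

theorem f14889 : C.S (v15 C) [25, 39, 65, 80, 99, 110, 113] :=
  C.stMul (f2581 C) (f14888 C) _ (by decide +kernel)

theorem f14890 : C.S (v15 C) [20, 45, 65, 78, 96, 109, 125] :=
  C.stMul (f2565 C) (f2581 C) _ (by decide +kernel)

theorem f14891 : C.T (v15 C) [7, 44, 66, 79, 100, 120] (v18 C) [6, 28, 68, 87, 98, 109] :=
  C.conv (f12643 C) (f14889 C) (f14890 C) _ [136, 149, 170] _ (by decide +kernel) (by decide +kernel) (by decide +kernel)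

theorem f14892 : C.T (v4 C) [14, 33, 51, 88, 92] (v18 C) [16, 39, 62, 89, 90, 110, 115] :=
  C.conv (f6863 C) (f8698 C) (f8700 C) _ [163, 167, 171, 177] _ (by decide +kernel) (by decide +kernel) (by decide +kernel)

theorem f14893 : C.T (v18 C) [16, 39, 62, 89, 90, 110, 115] (v4 C) [14, 33, 51, 88, 92] :=
  C.flip (f14892 C)

theorem f14894 : C.T (v18 C) [4, 43, 53, 98, 110, 118] (v18 C) [24, 46, 56, 70, 94, 109, 118] :=
  C.closeT (p := (v4 C)) (pu := [5, 48, 65, 75, 93, 110, 111])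
    (C.pT (f14887 C)
    (C.pH [8, 30, 65, 84, 94, 117] [7, 44, 66, 79, 100, 120] (by decide +kernel)
    (C.pT (f14891 C)
    (C.pH [26, 38, 54, 89, 90, 113] [4, 43, 53, 98, 110, 118] (by decide +kernel) (C.pNil _ _)))))
    (C.pH [8, 30, 65, 84, 94, 117] [16, 39, 62, 89, 90, 110, 115] (by decide +kernel)
    (C.pT (f14893 C)
    (C.pH [26, 38, 54, 89, 90, 113] [5, 48, 65, 75, 93, 110, 111] (by decide +kernel) (C.pNil _ _))))
    (C.loop_of_one (relLoop1 C) _ _)

theorem f14895 : C.T (v18 C) [24, 46, 56, 70, 94, 109, 118] (v18 C) [4, 43, 53, 98, 110, 118] :=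
  C.flip (f14894 C)

theorem f14896 : C.T (v4 C) [24, 33, 60, 80, 101, 109, 120] (v15 C) [12, 47, 54, 73, 91, 122] :=
  C.conv (f2728 C) (f2857 C) (f2857 C) _ [138, 158, 168, 171, 178] _ (by decide +kernel) (by decide +kernel) (by decide +kernel)

theorem f14897 : C.S (v15 C) [20, 39, 55, 88, 95, 110, 125] :=
  C.stMul (f2581 C) (f2565 C) _ (by decide +kernel)

theorem f14898 : C.T (v15 C) [21, 47, 60, 85, 107, 112] (v9 C) [21, 38, 61, 89, 90, 110, 113] :=
  C.conv (f3052 C) (f14897 C) (f2581 C) _ [127, 161, 166, 173] _ (by decide +kernel) (by decide +kernel) (by decide +kernel)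

theorem f14899 : C.S (v4 C) [13, 28, 60, 83, 108, 110, 119] :=
  C.stMul (f421 C) (f693 C) _ (by decide +kernel)

theorem f14900 : C.S (v4 C) [17, 45, 53, 80, 99, 109, 123] :=
  C.stMul (f407 C) (f14899 C) _ (by decide +kernel)

theorem f14901 : C.T (v4 C) [11, 30, 69, 72, 97, 120] (v18 C) [12, 35, 49, 83, 94, 109, 113] :=
  C.conv (f6895 C) (f8570 C) (f14900 C) _ [143, 154, 169, 176, 178] _ (by decide +kernel) (by decide +kernel) (by decide +kernel)

theorem f14902 : C.T (v18 C) [12, 35, 49, 83, 94, 109, 113] (v4 C) [11, 30, 69, 72, 97, 120] :=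
  C.flip (f14901 C)

theorem f14903 : C.T (v9 C) [6, 48, 52, 73, 109, 122] (v18 C) [5, 32, 51, 89, 108, 110] :=
  C.closeT (p := (v4 C)) (pu := [24, 33, 60, 80, 101, 109, 120])
    (C.pT (f14896 C)
    (C.pH [8, 30, 65, 84, 94, 117] [21, 47, 60, 85, 107, 112] (by decide +kernel)
    (C.pT (f14898 C)
    (C.pH [26, 38, 54, 89, 90, 113] [6, 48, 52, 73, 109, 122] (by decide +kernel) (C.pNil _ _)))))
    (C.pH [8, 30, 65, 84, 94, 117] [12, 35, 49, 83, 94, 109, 113] (by decide +kernel)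
    (C.pT (f14902 C)
    (C.pH [26, 38, 54, 89, 90, 113] [24, 33, 60, 80, 101, 109, 120] (by decide +kernel) (C.pNil _ _))))
    (C.loop_of_one (relLoop1 C) _ _)

theorem f14904 : C.T (v18 C) [5, 32, 51, 89, 108, 110] (v9 C) [6, 48, 52, 73, 109, 122] :=
  C.flip (f14903 C)

theorem f14905 : C.T (v4 C) [17, 39, 77, 92, 110, 123] (v15 C) [23, 33, 61, 88, 107] :=
  C.conv (f2736 C) (f2885 C) (f2885 C) _ [140, 150, 171, 178] _ (by decide +kernel) (by decide +kernel) (by decide +kernel)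

theorem f14906 : C.S (v15 C) [31, 53, 71, 96, 116] :=
  C.stMul (f2569 C) (f2569 C) _ (by decide +kernel)

theorem f14907 : C.S (v15 C) [25, 47, 66, 86, 107, 124] :=
  C.stMul (f2569 C) (f2565 C) _ (by decide +kernel)

theorem f14908 : C.S (v15 C) [20, 63, 89, 93, 110, 115] :=
  C.stMul (f2569 C) (f14907 C) _ (by decide +kernel)

theorem f14909 : C.T (v15 C) [10, 32, 69, 75, 118] (v18 C) [20, 29, 69, 83, 108, 122] :=
  C.conv (f10398 C) (f14906 C) (f14908 C) _ [130, 161, 166, 173, 178] _ (by decide +kernel) (by decide +kernel) (by decide +kernel)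

theorem f14910 : C.S (v4 C) [8, 31, 60, 85, 98, 110, 125] :=
  C.stMul (f693 C) (f407 C) _ (by decide +kernel)

theorem f14911 : C.S (v4 C) [42, 63, 82, 91, 110, 125] :=
  C.stMul (f421 C) (f14910 C) _ (by decide +kernel)

theorem f14912 : C.S (v4 C) [12, 31, 56, 72, 107, 109, 112] :=
  C.stMul (f407 C) (f14911 C) _ (by decide +kernel)

theorem f14913 : C.T (v4 C) [19, 31, 65, 73, 106, 109] (v17 C) [19, 34, 53, 73, 106, 120] :=
  C.conv (f6736 C) (f8944 C) (f14912 C) _ [140, 157, 167, 175, 178] _ (by decide +kernel) (by decide +kernel) (by decide +kernel)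

theorem f14914 : C.T (v17 C) [19, 34, 53, 73, 106, 120] (v4 C) [19, 31, 65, 73, 106, 109] :=
  C.flip (f14913 C)

theorem f14915 : C.T (v18 C) [15, 43, 58, 89, 92, 109, 118] (v17 C) [15, 31, 66, 86, 93, 123] :=
  C.closeT (p := (v4 C)) (pu := [17, 39, 77, 92, 110, 123])
    (C.pT (f14905 C)
    (C.pH [8, 30, 65, 84, 94, 117] [10, 32, 69, 75, 118] (by decide +kernel)
    (C.pT (f14909 C)
    (C.pH [26, 38, 54, 89, 90, 113] [15, 43, 58, 89, 92, 109, 118] (by decide +kernel) (C.pNil _ _)))))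
    (C.pH [8, 30, 65, 84, 94, 117] [19, 34, 53, 73, 106, 120] (by decide +kernel)
    (C.pT (f14914 C)
    (C.pH [26, 38, 54, 89, 90, 113] [17, 39, 77, 92, 110, 123] (by decide +kernel) (C.pNil _ _))))
    (C.loop_of_one (relLoop1 C) _ _)

theorem f14916 : C.T (v17 C) [15, 31, 66, 86, 93, 123] (v18 C) [15, 43, 58, 89, 92, 109, 118] :=
  C.flip (f14915 C)

theorem f14917 : C.T (v4 C) [13, 46, 68, 80, 103, 109, 114] (v15 C) [16, 27, 57, 70, 103, 124] :=
  C.conv (f2736 C) (f2885 C) (f2885 C) _ [148, 152, 164, 175] _ (by decide +kernel) (by decide +kernel) (by decide +kernel)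

theorem f14918 : C.S (v15 C) [25, 46, 61, 102, 110, 119] :=
  C.stMul (f2565 C) (f2569 C) _ (by decide +kernel)

theorem f14919 : C.S (v15 C) [25, 39, 65, 80, 99, 110, 113] :=
  C.stMul (f2581 C) (f14918 C) _ (by decide +kernel)

theorem f14920 : C.T (v15 C) [20, 38, 66, 86, 103, 110, 115] (v18 C) [25, 41, 62, 88, 104, 109, 115] :=
  C.conv (f14871 C) (f14918 C) (f14919 C) _ [130, 149, 164, 172] _ (by decide +kernel) (by decide +kernel) (by decide +kernel)

theorem f14921 : C.S (v4 C) [10, 27, 56, 84, 93, 109, 113] :=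
  C.stMul (f407 C) (f421 C) _ (by decide +kernel)

theorem f14922 : C.S (v4 C) [16, 32, 68, 79, 93, 110, 124] :=
  C.stMul (f407 C) (f14921 C) _ (by decide +kernel)

theorem f14923 : C.S (v4 C) [18, 44, 51, 79, 106, 114] :=
  C.stMul (f421 C) (f14922 C) _ (by decide +kernel)

theorem f14924 : C.S (v4 C) [10, 44, 68, 74, 91, 110, 116] :=
  C.stMul (f693 C) (f14923 C) _ (by decide +kernel)

theorem f14925 : C.T (v4 C) [16, 32, 54, 82, 94, 109, 119] (v18 C) [37, 61, 71, 98, 114] :=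
  C.conv (f8246 C) (f8275 C) (f14924 C) _ [134, 160, 167, 173] _ (by decide +kernel) (by decide +kernel) (by decide +kernel)

theorem f14926 : C.T (v18 C) [37, 61, 71, 98, 114] (v4 C) [16, 32, 54, 82, 94, 109, 119] :=
  C.flip (f14925 C)

theorem f14927 : C.T (v18 C) [18, 45, 67, 73, 90, 109, 120] (v18 C) [8, 27, 57, 88, 96, 120] :=
  C.closeT (p := (v4 C)) (pu := [13, 46, 68, 80, 103, 109, 114])
    (C.pT (f14917 C)
    (C.pH [8, 30, 65, 84, 94, 117] [20, 38, 66, 86, 103, 110, 115] (by decide +kernel)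
    (C.pT (f14920 C)
    (C.pH [26, 38, 54, 89, 90, 113] [18, 45, 67, 73, 90, 109, 120] (by decide +kernel) (C.pNil _ _)))))
    (C.pH [8, 30, 65, 84, 94, 117] [37, 61, 71, 98, 114] (by decide +kernel)
    (C.pT (f14926 C)
    (C.pH [26, 38, 54, 89, 90, 113] [13, 46, 68, 80, 103, 109, 114] (by decide +kernel) (C.pNil _ _))))
    (C.loop_of_one (relLoop1 C) _ _)

theorem f14930 : C.T (v4 C) [14, 34, 52, 88, 96, 109, 119] (v15 C) [26, 39, 54, 89, 93, 109, 122] :=
  C.conv (f2755 C) (f2758 C) (f2758 C) _ [145, 157, 176, 177] _ (by decide +kernel) (by decide +kernel) (by decide +kernel)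

theorem f14931 : C.S (v15 C) [25, 47, 66, 86, 107, 124] :=
  C.stMul (f2569 C) (f2565 C) _ (by decide +kernel)

theorem f14932 : C.S (v15 C) [24, 44, 51, 82, 106, 110, 112] :=
  C.stMul (f2565 C) (f14931 C) _ (by decide +kernel)

theorem f14933 : C.S (v15 C) [24, 34, 69, 71, 96, 109] :=
  C.stMul (f2581 C) (f14932 C) _ (by decide +kernel)

theorem f14934 : C.S (v15 C) [24, 47, 64, 83, 99, 109, 111] :=
  C.stMul (f2581 C) (f2569 C) _ (by decide +kernel)

theorem f14935 : C.T (v15 C) [14, 47, 56, 83, 100, 115] (v18 C) [25, 29, 52, 84, 106, 109, 117] :=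
  C.conv (f11352 C) (f14933 C) (f14934 C) _ [140, 154, 166, 172, 178] _ (by decide +kernel) (by decide +kernel) (by decide +kernel)

theorem f14936 : C.S (v4 C) [12, 41, 63, 84, 102, 110, 115] :=
  C.stMul (f693 C) (f14206 C) _ (by decide +kernel)

theorem f14937 : C.T (v4 C) [12, 27, 57, 88, 106, 109, 124] (v18 C) [4, 43, 74, 119] :=
  C.conv (f8235 C) (f8735 C) (f14936 C) _ [146, 152, 165, 172] _ (by decide +kernel) (by decide +kernel) (by decide +kernel)

theorem f14938 : C.T (v18 C) [4, 43, 74, 119] (v4 C) [12, 27, 57, 88, 106, 109, 124] :=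
  C.flip (f14937 C)

theorem f14939 : C.T (v18 C) [18, 28, 50, 77, 103, 109, 112] (v18 C) [18, 28, 69, 108, 110, 118] :=
  C.closeT (p := (v4 C)) (pu := [14, 34, 52, 88, 96, 109, 119])
    (C.pT (f14930 C)
    (C.pH [8, 30, 65, 84, 94, 117] [14, 47, 56, 83, 100, 115] (by decide +kernel)
    (C.pT (f14935 C)
    (C.pH [26, 38, 54, 89, 90, 113] [18, 28, 50, 77, 103, 109, 112] (by decide +kernel) (C.pNil _ _)))))
    (C.pH [8, 30, 65, 84, 94, 117] [4, 43, 74, 119] (by decide +kernel)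
    (C.pT (f14938 C)
    (C.pH [26, 38, 54, 89, 90, 113] [14, 34, 52, 88, 96, 109, 119] (by decide +kernel) (C.pNil _ _))))
    (C.loop_of_one (relLoop1 C) _ _)

theorem f14942 : C.T (v4 C) [12, 30, 59, 86, 100, 119] (v15 C) [20, 45, 63, 73, 96, 110, 119] :=
  C.conv (f2755 C) (f2758 C) (f2758 C) _ [126, 163, 164, 174] _ (by decide +kernel) (by decide +kernel) (by decide +kernel)

theorem f14943 : C.S (v15 C) [25, 47, 66, 86, 107, 124] :=
  C.stMul (f2569 C) (f2565 C) _ (by decide +kernel)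

theorem f14944 : C.S (v15 C) [24, 44, 51, 82, 106, 110, 112] :=
  C.stMul (f2565 C) (f14943 C) _ (by decide +kernel)

theorem f14945 : C.S (v15 C) [24, 34, 69, 71, 96, 109] :=
  C.stMul (f2581 C) (f14944 C) _ (by decide +kernel)

theorem f14946 : C.S (v15 C) [20, 39, 55, 88, 95, 110, 125] :=
  C.stMul (f2581 C) (f2565 C) _ (by decide +kernel)

theorem f14947 : C.T (v15 C) [23, 27, 56, 73, 100, 110, 113] (v18 C) [17, 37, 50, 84, 101, 110, 116] :=
  C.conv (f8264 C) (f14945 C) (f14946 C) _ [139, 152, 169, 178] _ (by decide +kernel) (by decide +kernel) (by decide +kernel)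

theorem f14948 : C.S (v4 C) [10, 27, 56, 84, 93, 109, 113] :=
  C.stMul (f407 C) (f421 C) _ (by decide +kernel)

theorem f14949 : C.S (v4 C) [25, 47, 59, 76, 103, 109, 113] :=
  C.stMul (f421 C) (f14948 C) _ (by decide +kernel)

theorem f14950 : C.S (v4 C) [8, 31, 60, 85, 98, 110, 125] :=
  C.stMul (f693 C) (f407 C) _ (by decide +kernel)

theorem f14951 : C.T (v4 C) [24, 35, 56, 83, 95, 110, 121] (v17 C) [22, 30, 57, 79, 107, 121] :=
  C.conv (f5488 C) (f14949 C) (f14950 C) _ [130, 162, 166, 173, 177] _ (by decide +kernel) (by decide +kernel) (by decide +kernel)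

theorem f14952 : C.T (v17 C) [22, 30, 57, 79, 107, 121] (v4 C) [24, 35, 56, 83, 95, 110, 121] :=
  C.flip (f14951 C)

theorem f14953 : C.T (v18 C) [20, 45, 68, 74, 98, 109, 121] (v17 C) [17, 48, 58, 77, 90, 110, 120] :=
  C.closeT (p := (v4 C)) (pu := [12, 30, 59, 86, 100, 119])
    (C.pT (f14942 C)
    (C.pH [8, 30, 65, 84, 94, 117] [23, 27, 56, 73, 100, 110, 113] (by decide +kernel)
    (C.pT (f14947 C)
    (C.pH [26, 38, 54, 89, 90, 113] [20, 45, 68, 74, 98, 109, 121] (by decide +kernel) (C.pNil _ _)))))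
    (C.pH [8, 30, 65, 84, 94, 117] [22, 30, 57, 79, 107, 121] (by decide +kernel)
    (C.pT (f14952 C)
    (C.pH [26, 38, 54, 89, 90, 113] [12, 30, 59, 86, 100, 119] (by decide +kernel) (C.pNil _ _))))
    (C.loop_of_one (relLoop1 C) _ _)

theorem f14954 : C.T (v17 C) [17, 48, 58, 77, 90, 110, 120] (v18 C) [20, 45, 68, 74, 98, 109, 121] :=
  C.flip (f14953 C)

theorem f14955 : C.T (v4 C) [6, 31, 59, 71, 101, 109, 119] (v15 C) [21, 27, 68, 78, 108, 110] :=
  C.conv (f2755 C) (f2758 C) (f2758 C) _ [137, 154, 176, 178] _ (by decide +kernel) (by decide +kernel) (by decide +kernel)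

theorem f14956 : C.S (v15 C) [25, 46, 61, 102, 110, 119] :=
  C.stMul (f2565 C) (f2569 C) _ (by decide +kernel)

theorem f14957 : C.T (v15 C) [24, 43, 56, 71, 102, 110] (v18 C) [24, 31, 52, 79, 94, 119] :=
  C.conv (f11291 C) (f14956 C) (f2565 C) _ [147, 151, 170, 178] _ (by decide +kernel) (by decide +kernel) (by decide +kernel)

theorem f14958 : C.S (v4 C) [18, 46, 49, 75, 97, 110, 118] :=
  C.stMul (f407 C) (f407 C) _ (by decide +kernel)

theorem f14959 : C.S (v4 C) [16, 43, 64, 82, 90, 110, 123] :=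
  C.stMul (f421 C) (f14958 C) _ (by decide +kernel)

theorem f14960 : C.S (v4 C) [21, 60, 87, 91, 109, 120] :=
  C.stMul (f407 C) (f14959 C) _ (by decide +kernel)

theorem f14961 : C.S (v4 C) [8, 48, 61, 83, 103, 117] :=
  C.stMul (f407 C) (f14960 C) _ (by decide +kernel)

theorem f14962 : C.S (v4 C) [31, 58, 82, 95, 109, 115] :=
  C.stMul (f421 C) (f14961 C) _ (by decide +kernel)

theorem f14963 : C.T (v4 C) [21, 37, 63, 77, 93, 109, 115] (v17 C) [8, 36, 50, 72, 97, 110, 112] :=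
  C.conv (f5167 C) (f421 C) (f14962 C) _ [143, 149, 165, 178] _ (by decide +kernel) (by decide +kernel) (by decide +kernel)

theorem f14964 : C.T (v17 C) [8, 36, 50, 72, 97, 110, 112] (v4 C) [21, 37, 63, 77, 93, 109, 115] :=
  C.flip (f14963 C)

theorem f14965 : C.T (v18 C) [12, 37, 65, 84, 95, 109, 118] (v17 C) [28, 65, 70, 98, 110] :=
  C.closeT (p := (v4 C)) (pu := [6, 31, 59, 71, 101, 109, 119])
    (C.pT (f14955 C)
    (C.pH [8, 30, 65, 84, 94, 117] [24, 43, 56, 71, 102, 110] (by decide +kernel)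
    (C.pT (f14957 C)
    (C.pH [26, 38, 54, 89, 90, 113] [12, 37, 65, 84, 95, 109, 118] (by decide +kernel) (C.pNil _ _)))))
    (C.pH [8, 30, 65, 84, 94, 117] [8, 36, 50, 72, 97, 110, 112] (by decide +kernel)
    (C.pT (f14964 C)
    (C.pH [26, 38, 54, 89, 90, 113] [6, 31, 59, 71, 101, 109, 119] (by decide +kernel) (C.pNil _ _))))
    (C.loop_of_one (relLoop1 C) _ _)

theorem f14966 : C.T (v17 C) [28, 65, 70, 98, 110] (v18 C) [12, 37, 65, 84, 95, 109, 118] :=
  C.flip (f14965 C)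

theorem f14967 : C.T (v4 C) [5, 36, 68, 71, 90, 125] (v16 C) [24, 40, 69, 73, 101, 121] :=
  C.conv (f3641 C) (f13592 C) (f13592 C) _ [137, 157, 175, 178] _ (by decide +kernel) (by decide +kernel) (by decide +kernel)

theorem f14968 : C.T (v4 C) [14, 34, 51, 79, 91, 110, 122] (v18 C) [4, 28, 54, 85, 92, 110, 122] :=
  C.conv (f10153 C) (f11483 C) (f11483 C) _ [137, 161, 165, 172, 177] _ (by decide +kernel) (by decide +kernel) (by decide +kernel)

theorem f14969 : C.T (v18 C) [4, 28, 54, 85, 92, 110, 122] (v4 C) [14, 34, 51, 79, 91, 110, 122] :=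
  C.flip (f14968 C)

theorem f14970 : C.S (v18 C) [26, 43, 49, 77, 91, 110, 115] :=
  C.stMul (f6836 C) (f6836 C) _ (by decide +kernel)

theorem f14971 : C.T (v18 C) [18, 44, 63, 71, 94, 110, 121] (v18 C) [45, 85, 91, 109, 115] :=
  C.conv (f13995 C) (f14970 C) (f14970 C) _ [136, 157, 164, 176, 177] _ (by decide +kernel) (by decide +kernel) (by decide +kernel)

theorem f14972 : C.T (v18 C) [45, 85, 91, 109, 115] (v18 C) [18, 44, 63, 71, 94, 110, 121] :=
  C.flip (f14971 C)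

theorem f14973 : C.T (v16 C) [16, 42, 57, 86, 96, 110, 123] (v18 C) [7, 45, 59, 75, 96, 110, 112] :=
  C.closeT (p := (v4 C)) (pu := [5, 36, 68, 71, 90, 125])
    (C.pT (f14967 C)
    (C.pH [8, 30, 65, 84, 94, 117] [16, 42, 57, 86, 96, 110, 123] (by decide +kernel) (C.pNil _ _)))
    (C.pH [26, 38, 54, 89, 90, 113] [45, 85, 91, 109, 115] (by decide +kernel)
    (C.pT (f14972 C)
    (C.pH [8, 30, 65, 84, 94, 117] [4, 28, 54, 85, 92, 110, 122] (by decide +kernel)
    (C.pT (f14969 C)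
    (C.pH [26, 38, 54, 89, 90, 113] [5, 36, 68, 71, 90, 125] (by decide +kernel) (C.pNil _ _))))))
    (C.loop_of_one (relLoop1 C) _ _)

theorem f14974 : C.T (v18 C) [7, 45, 59, 75, 96, 110, 112] (v16 C) [16, 42, 57, 86, 96, 110, 123] :=
  C.flip (f14973 C)

theorem f14975 : C.T (v4 C) [10, 28, 85, 103, 110, 123] (v16 C) [16, 75, 108, 110, 124] :=
  C.conv (f3641 C) (f13592 C) (f13592 C) _ [143, 161, 167, 174, 177] _ (by decide +kernel) (by decide +kernel) (by decide +kernel)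

theorem f14976 : C.S (v4 C) [13, 44, 51, 82, 106, 110, 111] :=
  C.stMul (f407 C) (f8571 C) _ (by decide +kernel)

theorem f14977 : C.S (v4 C) [21, 35, 69, 73, 94, 109, 122] :=
  C.stMul (f421 C) (f14976 C) _ (by decide +kernel)

theorem f14978 : C.S (v4 C) [18, 37, 59, 73, 102, 116] :=
  C.stMul (f693 C) (f14977 C) _ (by decide +kernel)

theorem f14979 : C.T (v4 C) [18, 47, 49, 81, 107, 125] (v18 C) [16, 37, 59, 85, 98, 110, 120] :=
  C.conv (f6895 C) (f8570 C) (f14978 C) _ [131, 167, 172, 178] _ (by decide +kernel) (by decide +kernel) (by decide +kernel)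

theorem f14980 : C.T (v18 C) [16, 37, 59, 85, 98, 110, 120] (v4 C) [18, 47, 49, 81, 107, 125] :=
  C.flip (f14979 C)

theorem f14981 : C.T (v18 C) [24, 34, 59, 88, 93, 109, 124] (v18 C) [16, 40, 58, 88, 97, 110, 119] :=
  C.conv (f11363 C) (f12812 C) (f12812 C) _ [144, 149, 170, 174, 178] _ (by decide +kernel) (by decide +kernel) (by decide +kernel)

theorem f14982 : C.T (v18 C) [16, 40, 58, 88, 97, 110, 119] (v18 C) [24, 34, 59, 88, 93, 109, 124] :=
  C.flip (f14981 C)

theorem f14983 : C.T (v16 C) [20, 48, 64, 77, 92, 110, 121] (v18 C) [26, 48, 56, 70, 91, 110, 111] :=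
  C.closeT (p := (v4 C)) (pu := [10, 28, 85, 103, 110, 123])
    (C.pT (f14975 C)
    (C.pH [8, 30, 65, 84, 94, 117] [20, 48, 64, 77, 92, 110, 121] (by decide +kernel) (C.pNil _ _)))
    (C.pH [26, 38, 54, 89, 90, 113] [16, 40, 58, 88, 97, 110, 119] (by decide +kernel)
    (C.pT (f14982 C)
    (C.pH [8, 30, 65, 84, 94, 117] [16, 37, 59, 85, 98, 110, 120] (by decide +kernel)
    (C.pT (f14980 C)
    (C.pH [26, 38, 54, 89, 90, 113] [10, 28, 85, 103, 110, 123] (by decide +kernel) (C.pNil _ _))))))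
    (C.loop_of_one (relLoop1 C) _ _)

theorem f14984 : C.T (v18 C) [26, 48, 56, 70, 91, 110, 111] (v16 C) [20, 48, 64, 77, 92, 110, 121] :=
  C.flip (f14983 C)

theorem f14985 : C.T (v4 C) [6, 45, 60, 78, 104, 109] (v16 C) [8, 40, 61, 85, 105, 109, 121] :=
  C.conv (f3641 C) (f13592 C) (f13592 C) _ [143, 165, 172, 177] _ (by decide +kernel) (by decide +kernel) (by decide +kernel)

theorem f14986 : C.S (v4 C) [16, 43, 64, 82, 90, 110, 123] :=
  C.stMul (f421 C) (f8522 C) _ (by decide +kernel)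

theorem f14987 : C.S (v4 C) [12, 41, 63, 84, 102, 110, 115] :=
  C.stMul (f693 C) (f14986 C) _ (by decide +kernel)

theorem f14988 : C.T (v4 C) [21, 42, 67, 84, 104, 110, 114] (v18 C) [25, 42, 62, 73, 108, 120] :=
  C.conv (f7891 C) (f8521 C) (f14987 C) _ [126, 162, 168, 173, 177] _ (by decide +kernel) (by decide +kernel) (by decide +kernel)

theorem f14989 : C.T (v18 C) [25, 42, 62, 73, 108, 120] (v4 C) [21, 42, 67, 84, 104, 110, 114] :=
  C.flip (f14988 C)

theorem f14990 : C.S (v18 C) [26, 43, 49, 77, 91, 110, 115] :=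
  C.stMul (f6836 C) (f6836 C) _ (by decide +kernel)

theorem f14991 : C.T (v18 C) [4, 33, 59, 96, 112] (v18 C) [10, 30, 62, 70, 100, 110, 111] :=
  C.conv (f12744 C) (f6836 C) (f14990 C) _ [142, 157, 167, 175] _ (by decide +kernel) (by decide +kernel) (by decide +kernel)

theorem f14992 : C.T (v18 C) [10, 30, 62, 70, 100, 110, 111] (v18 C) [4, 33, 59, 96, 112] :=
  C.flip (f14991 C)

theorem f14993 : C.T (v16 C) [32, 53, 79, 108, 109, 116] (v18 C) [18, 31, 52, 70, 107, 110, 122] :=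
  C.closeT (p := (v4 C)) (pu := [6, 45, 60, 78, 104, 109])
    (C.pT (f14985 C)
    (C.pH [8, 30, 65, 84, 94, 117] [32, 53, 79, 108, 109, 116] (by decide +kernel) (C.pNil _ _)))
    (C.pH [26, 38, 54, 89, 90, 113] [10, 30, 62, 70, 100, 110, 111] (by decide +kernel)
    (C.pT (f14992 C)
    (C.pH [8, 30, 65, 84, 94, 117] [25, 42, 62, 73, 108, 120] (by decide +kernel)
    (C.pT (f14989 C)
    (C.pH [26, 38, 54, 89, 90, 113] [6, 45, 60, 78, 104, 109] (by decide +kernel) (C.pNil _ _))))))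
    (C.loop_of_one (relLoop1 C) _ _)

theorem f14994 : C.T (v18 C) [18, 31, 52, 70, 107, 110, 122] (v16 C) [32, 53, 79, 108, 109, 116] :=
  C.flip (f14993 C)

theorem f14995 : C.T (v4 C) [7, 39, 55, 73, 97, 110, 115] (v16 C) [4, 31, 63, 75, 95, 109, 111] :=
  C.conv (f3706 C) (f8301 C) (f8301 C) _ [133, 157, 170, 171] _ (by decide +kernel) (by decide +kernel) (by decide +kernel)

theorem f14996 : C.S (v4 C) [25, 47, 59, 76, 103, 109, 113] :=
  C.stMul (f421 C) (f6116 C) _ (by decide +kernel)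

theorem f14997 : C.T (v4 C) [23, 30, 53, 85, 104, 110, 125] (v4 C) [5, 43, 60, 102, 110, 119] :=
  C.conv (f901 C) (f697 C) (f14996 C) _ [143, 158, 164, 172, 178] _ (by decide +kernel) (by decide +kernel) (by decide +kernel)

theorem f14998 : C.T (v4 C) [5, 43, 60, 102, 110, 119] (v4 C) [23, 30, 53, 85, 104, 110, 125] :=
  C.flip (f14997 C)

theorem f14999 : C.S (v4 C) [10, 42, 56, 80, 93, 109, 122] :=
  C.stMul (f693 C) (f8551 C) _ (by decide +kernel)

theorem f15000 : C.T (v4 C) [14, 44, 53, 80, 106, 109, 116] (v18 C) [7, 30, 68, 83, 92, 110, 125] :=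
  C.conv (f8547 C) (f8550 C) (f14999 C) _ [134, 153, 166, 173, 178] _ (by decide +kernel) (by decide +kernel) (by decide +kernel)

theorem f15001 : C.T (v18 C) [7, 30, 68, 83, 92, 110, 125] (v4 C) [14, 44, 53, 80, 106, 109, 116] :=
  C.flip (f15000 C)

theorem f15002 : C.T (v16 C) [25, 28, 62, 81, 97, 111] (v18 C) [23, 65, 78, 97, 123] :=
  C.closeT (p := (v4 C)) (pu := [7, 39, 55, 73, 97, 110, 115])
    (C.pT (f14995 C)
    (C.pH [8, 30, 65, 84, 94, 117] [25, 28, 62, 81, 97, 111] (by decide +kernel) (C.pNil _ _)))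
    (C.pH [26, 38, 54, 89, 90, 113] [7, 30, 68, 83, 92, 110, 125] (by decide +kernel)
    (C.pT (f15001 C)
    (C.pH [8, 30, 65, 84, 94, 117] [5, 43, 60, 102, 110, 119] (by decide +kernel)
    (C.pT (f14998 C)
    (C.pH [26, 38, 54, 89, 90, 113] [7, 39, 55, 73, 97, 110, 115] (by decide +kernel) (C.pNil _ _))))))
    (C.loop_of_one (relLoop1 C) _ _)

theorem f15003 : C.T (v18 C) [23, 65, 78, 97, 123] (v16 C) [25, 28, 62, 81, 97, 111] :=
  C.flip (f15002 C)

theorem f15004 : C.T (v4 C) [12, 33, 52, 73, 93, 109, 115] (v16 C) [6, 28, 57, 77, 98, 117] :=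
  C.conv (f3706 C) (f8301 C) (f8301 C) _ [145, 158, 174] _ (by decide +kernel) (by decide +kernel) (by decide +kernel)

theorem f15005 : C.S (v16 C) [28, 55, 71, 105, 109, 119] :=
  C.stMul (f3458 C) (f3451 C) _ (by decide +kernel)

theorem f15006 : C.S (v16 C) [22, 29, 51, 75, 99, 109, 120] :=
  C.stMul (f3468 C) (f15005 C) _ (by decide +kernel)

theorem f15007 : C.T (v16 C) [13, 42, 65, 74, 107, 109, 120] (v17 C) [9, 34, 65, 76, 95, 112] :=
  C.conv (f6668 C) (f6683 C) (f15006 C) _ [148, 156] _ (by decide +kernel) (by decide +kernel) (by decide +kernel)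

theorem f15008 : C.T (v4 C) [24, 47, 52, 72, 104, 110, 123] (v18 C) [7, 42, 54, 70, 96, 109, 123] :=
  C.conv (f8339 C) (f8769 C) (f12193 C) _ [129, 153, 169, 174, 178] _ (by decide +kernel) (by decide +kernel) (by decide +kernel)

theorem f15009 : C.T (v18 C) [7, 42, 54, 70, 96, 109, 123] (v4 C) [24, 47, 52, 72, 104, 110, 123] :=
  C.flip (f15008 C)

theorem f15010 : C.T (v17 C) [22, 32, 56, 85, 106, 109, 123] (v18 C) [11, 29, 62, 108, 109, 122] :=
  C.closeT (p := (v4 C)) (pu := [12, 33, 52, 73, 93, 109, 115])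
    (C.pT (f15004 C)
    (C.pH [8, 30, 65, 84, 94, 117] [13, 42, 65, 74, 107, 109, 120] (by decide +kernel)
    (C.pT (f15007 C)
    (C.pH [26, 38, 54, 89, 90, 113] [22, 32, 56, 85, 106, 109, 123] (by decide +kernel) (C.pNil _ _)))))
    (C.pH [8, 30, 65, 84, 94, 117] [7, 42, 54, 70, 96, 109, 123] (by decide +kernel)
    (C.pT (f15009 C)
    (C.pH [26, 38, 54, 89, 90, 113] [12, 33, 52, 73, 93, 109, 115] (by decide +kernel) (C.pNil _ _))))
    (C.loop_of_one (relLoop1 C) _ _)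

theorem f15011 : C.T (v18 C) [11, 29, 62, 108, 109, 122] (v17 C) [22, 32, 56, 85, 106, 109, 123] :=
  C.flip (f15010 C)

theorem f15012 : C.T (v4 C) [9, 43, 60, 80, 107, 121] (v16 C) [25, 33, 68, 77, 94, 109, 117] :=
  C.conv (f3935 C) (f4106 C) (f4106 C) _ [141, 160, 165, 171, 178] _ (by decide +kernel) (by decide +kernel) (by decide +kernel)

theorem f15013 : C.S (v4 C) [25, 32, 52, 83, 96, 110, 121] :=
  C.stMul (f421 C) (f13736 C) _ (by decide +kernel)

theorem f15014 : C.T (v4 C) [15, 48, 52, 82, 105, 109, 111] (v18 C) [8, 47, 65, 81, 103, 109, 118] :=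
  C.conv (f8516 C) (f12206 C) (f15013 C) _ [131, 161, 165, 178] _ (by decide +kernel) (by decide +kernel) (by decide +kernel)

theorem f15015 : C.T (v18 C) [8, 47, 65, 81, 103, 109, 118] (v4 C) [15, 48, 52, 82, 105, 109, 111] :=
  C.flip (f15014 C)

theorem f15016 : C.S (v18 C) [26, 43, 49, 77, 91, 110, 115] :=
  C.stMul (f6836 C) (f6836 C) _ (by decide +kernel)

theorem f15017 : C.T (v18 C) [38, 67, 79, 98, 114] (v18 C) [8, 47, 64, 79, 90, 110, 125] :=
  C.conv (f13315 C) (f7121 C) (f15016 C) _ [155, 170, 174] _ (by decide +kernel) (by decide +kernel) (by decide +kernel)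

theorem f15018 : C.T (v18 C) [8, 47, 64, 79, 90, 110, 125] (v18 C) [38, 67, 79, 98, 114] :=
  C.flip (f15017 C)

theorem f15019 : C.T (v16 C) [9, 41, 49, 87, 100, 124] (v18 C) [5, 44, 85, 102, 109, 123] :=
  C.closeT (p := (v4 C)) (pu := [9, 43, 60, 80, 107, 121])
    (C.pT (f15012 C)
    (C.pH [8, 30, 65, 84, 94, 117] [9, 41, 49, 87, 100, 124] (by decide +kernel) (C.pNil _ _)))
    (C.pH [26, 38, 54, 89, 90, 113] [8, 47, 64, 79, 90, 110, 125] (by decide +kernel)
    (C.pT (f15018 C)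
    (C.pH [8, 30, 65, 84, 94, 117] [8, 47, 65, 81, 103, 109, 118] (by decide +kernel)
    (C.pT (f15015 C)
    (C.pH [26, 38, 54, 89, 90, 113] [9, 43, 60, 80, 107, 121] (by decide +kernel) (C.pNil _ _))))))
    (C.loop_of_one (relLoop1 C) _ _)

theorem f15020 : C.T (v18 C) [5, 44, 85, 102, 109, 123] (v16 C) [9, 41, 49, 87, 100, 124] :=
  C.flip (f15019 C)

theorem f15021 : C.T (v4 C) [33, 65, 83, 106, 109, 121] (v16 C) [18, 44, 55, 78, 93, 109, 125] :=
  C.conv (f4054 C) (f7459 C) (f7459 C) _ [145, 156, 165, 174, 177] _ (by decide +kernel) (by decide +kernel) (by decide +kernel)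

theorem f15022 : C.S (v16 C) [18, 40, 55, 73, 98, 112] :=
  C.stMul (f3480 C) (f3451 C) _ (by decide +kernel)

theorem f15023 : C.S (v16 C) [11, 40, 62, 81, 115] :=
  C.stMul (f3468 C) (f15022 C) _ (by decide +kernel)

theorem f15024 : C.S (v16 C) [23, 29, 61, 89, 109, 115] :=
  C.stMul (f3468 C) (f3480 C) _ (by decide +kernel)

theorem f15025 : C.T (v16 C) [4, 28, 50, 89, 108, 109, 124] (v15 C) [25, 47, 64, 82, 93, 109, 125] :=
  C.conv (f3504 C) (f15023 C) (f15024 C) _ [140, 156, 166, 173, 177] _ (by decide +kernel) (by decide +kernel) (by decide +kernel)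

theorem f15026 : C.S (v4 C) [17, 35, 66, 70, 95] :=
  C.stMul (f421 C) (f407 C) _ (by decide +kernel)

theorem f15027 : C.S (v4 C) [13, 44, 51, 82, 106, 110, 111] :=
  C.stMul (f407 C) (f15026 C) _ (by decide +kernel)

theorem f15028 : C.S (v4 C) [21, 35, 69, 73, 94, 109, 122] :=
  C.stMul (f421 C) (f15027 C) _ (by decide +kernel)

theorem f15029 : C.S (v4 C) [18, 37, 59, 73, 102, 116] :=
  C.stMul (f693 C) (f15028 C) _ (by decide +kernel)

theorem f15030 : C.T (v4 C) [7, 30, 66, 87, 94, 109, 116] (v18 C) [15, 41, 58, 92, 109, 122] :=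
  C.conv (f8441 C) (f421 C) (f15029 C) _ [127, 152, 165, 175, 178] _ (by decide +kernel) (by decide +kernel) (by decide +kernel)

theorem f15031 : C.T (v18 C) [15, 41, 58, 92, 109, 122] (v4 C) [7, 30, 66, 87, 94, 109, 116] :=
  C.flip (f15030 C)

theorem f15032 : C.T (v15 C) [18, 39, 49, 99, 109, 123] (v18 C) [10, 36, 66, 80, 98, 123] :=
  C.closeT (p := (v4 C)) (pu := [33, 65, 83, 106, 109, 121])
    (C.pT (f15021 C)
    (C.pH [8, 30, 65, 84, 94, 117] [4, 28, 50, 89, 108, 109, 124] (by decide +kernel)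
    (C.pT (f15025 C)
    (C.pH [26, 38, 54, 89, 90, 113] [18, 39, 49, 99, 109, 123] (by decide +kernel) (C.pNil _ _)))))
    (C.pH [8, 30, 65, 84, 94, 117] [15, 41, 58, 92, 109, 122] (by decide +kernel)
    (C.pT (f15031 C)
    (C.pH [26, 38, 54, 89, 90, 113] [33, 65, 83, 106, 109, 121] (by decide +kernel) (C.pNil _ _))))
    (C.loop_of_one (relLoop1 C) _ _)

theorem f15033 : C.T (v18 C) [10, 36, 66, 80, 98, 123] (v15 C) [18, 39, 49, 99, 109, 123] :=
  C.flip (f15032 C)

theorem f15034 : C.T (v4 C) [11, 28, 55, 88, 110, 121] (v16 C) [7, 29, 50, 70, 97, 110, 123] :=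
  C.conv (f4054 C) (f7459 C) (f7459 C) _ [140, 167, 174, 178] _ (by decide +kernel) (by decide +kernel) (by decide +kernel)

theorem f15035 : C.S (v16 C) [20, 44, 68, 81, 93, 115] :=
  C.stMul (f3468 C) (f3451 C) _ (by decide +kernel)

theorem f15036 : C.S (v16 C) [28, 55, 71, 105, 109, 119] :=
  C.stMul (f3458 C) (f3451 C) _ (by decide +kernel)

theorem f15037 : C.T (v16 C) [17, 42, 50, 80, 102, 115] (v18 C) [14, 28, 73, 105, 114] :=
  C.conv (f13659 C) (f15035 C) (f15036 C) _ [143, 159, 174, 177] _ (by decide +kernel) (by decide +kernel) (by decide +kernel)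

theorem f15038 : C.S (v4 C) [8, 31, 60, 85, 98, 110, 125] :=
  C.stMul (f693 C) (f407 C) _ (by decide +kernel)

theorem f15039 : C.T (v4 C) [8, 38, 49, 88, 105, 114] (v17 C) [21, 38, 60, 71, 97, 119] :=
  C.conv (f5849 C) (f13785 C) (f15038 C) _ [139, 162, 166, 173] _ (by decide +kernel) (by decide +kernel) (by decide +kernel)

theorem f15040 : C.T (v17 C) [21, 38, 60, 71, 97, 119] (v4 C) [8, 38, 49, 88, 105, 114] :=
  C.flip (f15039 C)

theorem f15041 : C.T (v18 C) [5, 29, 53, 83, 92, 115] (v17 C) [12, 71, 97, 119] :=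
  C.closeT (p := (v4 C)) (pu := [11, 28, 55, 88, 110, 121])
    (C.pT (f15034 C)
    (C.pH [8, 30, 65, 84, 94, 117] [17, 42, 50, 80, 102, 115] (by decide +kernel)
    (C.pT (f15037 C)
    (C.pH [26, 38, 54, 89, 90, 113] [5, 29, 53, 83, 92, 115] (by decide +kernel) (C.pNil _ _)))))
    (C.pH [8, 30, 65, 84, 94, 117] [21, 38, 60, 71, 97, 119] (by decide +kernel)
    (C.pT (f15040 C)
    (C.pH [26, 38, 54, 89, 90, 113] [11, 28, 55, 88, 110, 121] (by decide +kernel) (C.pNil _ _))))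
    (C.loop_of_one (relLoop1 C) _ _)

theorem f15042 : C.T (v17 C) [12, 71, 97, 119] (v18 C) [5, 29, 53, 83, 92, 115] :=
  C.flip (f15041 C)

theorem f15043 : C.T (v4 C) [13, 43, 49, 76, 105, 109, 118] (v17 C) [24, 32, 58, 80, 101, 110] :=
  C.conv (f4648 C) (f13689 C) (f13689 C) _ [130, 150, 166, 171] _ (by decide +kernel) (by decide +kernel) (by decide +kernel)

theorem f15044 : C.T (v17 C) [16, 40, 54, 70, 99, 112] (v18 C) [8, 32, 68, 79, 103, 110, 119] :=
  C.conv (f13722 C) (f4132 C) (f4132 C) _ [136, 168, 173, 177] _ (by decide +kernel) (by decide +kernel) (by decide +kernel)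

theorem f15045 : C.S (v4 C) [18, 46, 49, 75, 97, 110, 118] :=
  C.stMul (f407 C) (f407 C) _ (by decide +kernel)

theorem f15046 : C.S (v4 C) [23, 45, 57, 77, 95, 110, 118] :=
  C.stMul (f407 C) (f15045 C) _ (by decide +kernel)

theorem f15047 : C.S (v4 C) [26, 43, 63, 73, 104, 112] :=
  C.stMul (f421 C) (f15046 C) _ (by decide +kernel)

theorem f15048 : C.T (v4 C) [16, 41, 65, 81, 96, 110, 113] (v17 C) [14, 44, 65, 78, 103] :=
  C.conv (f6345 C) (f14380 C) (f15047 C) _ [144, 162, 169, 171, 178] _ (by decide +kernel) (by decide +kernel) (by decide +kernel)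

theorem f15049 : C.T (v17 C) [14, 44, 65, 78, 103] (v4 C) [16, 41, 65, 81, 96, 110, 113] :=
  C.flip (f15048 C)

theorem f15050 : C.T (v18 C) [11, 30, 52, 79, 102, 117] (v17 C) [26, 38, 64, 80, 105, 110, 120] :=
  C.closeT (p := (v4 C)) (pu := [13, 43, 49, 76, 105, 109, 118])
    (C.pT (f15043 C)
    (C.pH [8, 30, 65, 84, 94, 117] [16, 40, 54, 70, 99, 112] (by decide +kernel)
    (C.pT (f15044 C)
    (C.pH [26, 38, 54, 89, 90, 113] [11, 30, 52, 79, 102, 117] (by decide +kernel) (C.pNil _ _)))))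
    (C.pH [8, 30, 65, 84, 94, 117] [14, 44, 65, 78, 103] (by decide +kernel)
    (C.pT (f15049 C)
    (C.pH [26, 38, 54, 89, 90, 113] [13, 43, 49, 76, 105, 109, 118] (by decide +kernel) (C.pNil _ _))))
    (C.loop_of_one (relLoop1 C) _ _)

theorem f15051 : C.T (v17 C) [26, 38, 64, 80, 105, 110, 120] (v18 C) [11, 30, 52, 79, 102, 117] :=
  C.flip (f15050 C)

theorem f15052 : C.T (v4 C) [20, 48, 58, 87, 106, 109, 116] (v17 C) [15, 41, 65, 80, 92, 109, 112] :=
  C.conv (f4790 C) (f407 C) (f407 C) _ [141, 150, 170, 171, 177] _ (by decide +kernel) (by decide +kernel) (by decide +kernel)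

theorem f15053 : C.S (v17 C) [51, 81, 96, 109, 125] :=
  C.stMul (f4132 C) (f4137 C) _ (by decide +kernel)

theorem f15054 : C.T (v17 C) [19, 45, 68, 72, 103, 109, 112] (v9 C) [13, 47, 67, 82, 106, 121] :=
  C.conv (f4664 C) (f4137 C) (f15053 C) _ [136, 157, 166, 175] _ (by decide +kernel) (by decide +kernel) (by decide +kernel)

theorem f15055 : C.S (v4 C) [10, 27, 56, 84, 93, 109, 113] :=
  C.stMul (f407 C) (f421 C) _ (by decide +kernel)

theorem f15056 : C.S (v4 C) [16, 32, 68, 79, 93, 110, 124] :=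
  C.stMul (f407 C) (f15055 C) _ (by decide +kernel)

theorem f15057 : C.S (v4 C) [18, 44, 51, 79, 106, 114] :=
  C.stMul (f421 C) (f15056 C) _ (by decide +kernel)

theorem f15058 : C.S (v4 C) [10, 44, 68, 74, 91, 110, 116] :=
  C.stMul (f693 C) (f15057 C) _ (by decide +kernel)

theorem f15059 : C.T (v4 C) [17, 47, 67, 86, 94, 114] (v18 C) [11, 43, 82, 99, 109, 118] :=
  C.conv (f7605 C) (f8757 C) (f15058 C) _ [142, 163, 169, 172, 177] _ (by decide +kernel) (by decide +kernel) (by decide +kernel)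

theorem f15060 : C.T (v18 C) [11, 43, 82, 99, 109, 118] (v4 C) [17, 47, 67, 86, 94, 114] :=
  C.flip (f15059 C)

theorem f15061 : C.T (v9 C) [23, 41, 60, 77, 90, 116] (v18 C) [13, 68, 83, 96, 117] :=
  C.closeT (p := (v4 C)) (pu := [20, 48, 58, 87, 106, 109, 116])
    (C.pT (f15052 C)
    (C.pH [8, 30, 65, 84, 94, 117] [19, 45, 68, 72, 103, 109, 112] (by decide +kernel)
    (C.pT (f15054 C)
    (C.pH [26, 38, 54, 89, 90, 113] [23, 41, 60, 77, 90, 116] (by decide +kernel) (C.pNil _ _)))))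
    (C.pH [8, 30, 65, 84, 94, 117] [11, 43, 82, 99, 109, 118] (by decide +kernel)
    (C.pT (f15060 C)
    (C.pH [26, 38, 54, 89, 90, 113] [20, 48, 58, 87, 106, 109, 116] (by decide +kernel) (C.pNil _ _))))
    (C.loop_of_one (relLoop1 C) _ _)

theorem f15062 : C.T (v18 C) [13, 68, 83, 96, 117] (v9 C) [23, 41, 60, 77, 90, 116] :=
  C.flip (f15061 C)

theorem f15063 : C.T (v4 C) [19, 33, 49, 72, 100, 109, 120] (v17 C) [9, 42, 50, 85, 90, 111] :=
  C.conv (f4790 C) (f407 C) (f407 C) _ [143] _ (by decide +kernel) (by decide +kernel) (by decide +kernel)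

theorem f15064 : C.T (v4 C) [22, 28, 69, 87, 107, 109, 117] (v15 C) [13, 48, 63, 78, 103, 110, 117] :=
  C.conv (f2613 C) (f2621 C) (f2957 C) _ [143, 153, 170, 174, 177] _ (by decide +kernel) (by decide +kernel) (by decide +kernel)

theorem f15065 : C.T (v15 C) [13, 48, 63, 78, 103, 110, 117] (v4 C) [22, 28, 69, 87, 107, 109, 117] :=
  C.flip (f15064 C)

theorem f15066 : C.S (v15 C) [25, 46, 61, 102, 110, 119] :=
  C.stMul (f2565 C) (f2569 C) _ (by decide +kernel)

theorem f15067 : C.S (v15 C) [25, 39, 65, 80, 99, 110, 113] :=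
  C.stMul (f2581 C) (f15066 C) _ (by decide +kernel)

theorem f15068 : C.T (v15 C) [6, 27, 49, 79, 93, 109, 118] (v18 C) [13, 27, 65, 72, 110, 125] :=
  C.conv (f11906 C) (f15067 C) (f2565 C) _ [131, 154, 168, 175, 178] _ (by decide +kernel) (by decide +kernel) (by decide +kernel)

theorem f15069 : C.T (v18 C) [13, 27, 65, 72, 110, 125] (v15 C) [6, 27, 49, 79, 93, 109, 118] :=
  C.flip (f15068 C)

theorem f15070 : C.T (v17 C) [18, 28, 53, 83, 92, 109, 118] (v18 C) [16, 47, 57, 79, 102, 110, 121] :=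
  C.closeT (p := (v4 C)) (pu := [19, 33, 49, 72, 100, 109, 120])
    (C.pT (f15063 C)
    (C.pH [8, 30, 65, 84, 94, 117] [18, 28, 53, 83, 92, 109, 118] (by decide +kernel) (C.pNil _ _)))
    (C.pH [26, 38, 54, 89, 90, 113] [13, 27, 65, 72, 110, 125] (by decide +kernel)
    (C.pT (f15069 C)
    (C.pH [8, 30, 65, 84, 94, 117] [13, 48, 63, 78, 103, 110, 117] (by decide +kernel)
    (C.pT (f15065 C)
    (C.pH [26, 38, 54, 89, 90, 113] [19, 33, 49, 72, 100, 109, 120] (by decide +kernel) (C.pNil _ _))))))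
    (C.loop_of_one (relLoop1 C) _ _)

theorem f15071 : C.T (v18 C) [16, 47, 57, 79, 102, 110, 121] (v17 C) [18, 28, 53, 83, 92, 109, 118] :=
  C.flip (f15070 C)

theorem f15072 : C.T (v4 C) [24, 62, 83, 91, 110, 111] (v17 C) [6, 31, 65, 74, 105, 110, 121] :=
  C.conv (f4958 C) (f13703 C) (f13703 C) _ [126, 159, 173] _ (by decide +kernel) (by decide +kernel) (by decide +kernel)

theorem f15073 : C.S (v4 C) [18, 46, 49, 75, 97, 110, 118] :=
  C.stMul (f407 C) (f407 C) _ (by decide +kernel)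

theorem f15074 : C.T (v4 C) [11, 46, 57, 78, 104, 110, 116] (v4 C) [8, 30, 57, 78, 108, 110, 118] :=
  C.conv (f971 C) (f974 C) (f15073 C) _ [130, 155, 169] _ (by decide +kernel) (by decide +kernel) (by decide +kernel)

theorem f15075 : C.T (v4 C) [8, 30, 57, 78, 108, 110, 118] (v4 C) [11, 46, 57, 78, 104, 110, 116] :=
  C.flip (f15074 C)

theorem f15076 : C.T (v4 C) [51, 76, 94, 109, 122] (v18 C) [10, 42, 69, 82, 106, 115] :=
  C.conv (f8315 C) (f8537 C) (f13459 C) _ [148, 157, 167, 172, 177] _ (by decide +kernel) (by decide +kernel) (by decide +kernel)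

theorem f15077 : C.T (v18 C) [10, 42, 69, 82, 106, 115] (v4 C) [51, 76, 94, 109, 122] :=
  C.flip (f15076 C)

theorem f15078 : C.T (v17 C) [13, 35, 65, 81, 96, 125] (v18 C) [18, 30, 54, 84, 96, 113] :=
  C.closeT (p := (v4 C)) (pu := [24, 62, 83, 91, 110, 111])
    (C.pT (f15072 C)
    (C.pH [8, 30, 65, 84, 94, 117] [13, 35, 65, 81, 96, 125] (by decide +kernel) (C.pNil _ _)))
    (C.pH [26, 38, 54, 89, 90, 113] [10, 42, 69, 82, 106, 115] (by decide +kernel)
    (C.pT (f15077 C)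
    (C.pH [8, 30, 65, 84, 94, 117] [8, 30, 57, 78, 108, 110, 118] (by decide +kernel)
    (C.pT (f15075 C)
    (C.pH [26, 38, 54, 89, 90, 113] [24, 62, 83, 91, 110, 111] (by decide +kernel) (C.pNil _ _))))))
    (C.loop_of_one (relLoop1 C) _ _)

theorem f15079 : C.T (v18 C) [18, 30, 54, 84, 96, 113] (v17 C) [13, 35, 65, 81, 96, 125] :=
  C.flip (f15078 C)

theorem f15080 : C.T (v4 C) [14, 31, 55, 82, 106, 122] (v17 C) [15, 42, 51, 101, 110, 121] :=
  C.conv (f4958 C) (f13703 C) (f13703 C) _ [130, 170, 172] _ (by decide +kernel) (by decide +kernel) (by decide +kernel)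

theorem f15081 : C.T (v4 C) [12, 30, 62, 73, 110] (v17 C) [24, 28, 51, 76, 95] :=
  C.conv (f4648 C) (f13689 C) (f407 C) _ [134, 157, 164, 175] _ (by decide +kernel) (by decide +kernel) (by decide +kernel)

theorem f15082 : C.T (v17 C) [24, 28, 51, 76, 95] (v4 C) [12, 30, 62, 73, 110] :=
  C.flip (f15081 C)

theorem f15083 : C.S (v17 C) [51, 81, 96, 109, 125] :=
  C.stMul (f4132 C) (f4137 C) _ (by decide +kernel)

theorem f15084 : C.S (v17 C) [23, 31, 49, 84, 96, 117] :=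
  C.stMul (f4137 C) (f4137 C) _ (by decide +kernel)

theorem f15085 : C.T (v17 C) [21, 45, 55, 84, 100, 110, 117] (v18 C) [23, 38, 58, 71, 108, 110, 124] :=
  C.conv (f14699 C) (f15083 C) (f15084 C) _ [131, 159, 174] _ (by decide +kernel) (by decide +kernel) (by decide +kernel)

theorem f15086 : C.T (v18 C) [23, 38, 58, 71, 108, 110, 124] (v17 C) [21, 45, 55, 84, 100, 110, 117] :=
  C.flip (f15085 C)

theorem f15087 : C.T (v17 C) [19, 60, 73, 98, 110, 120] (v18 C) [13, 46, 58, 87, 90, 110, 113] :=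
  C.closeT (p := (v4 C)) (pu := [14, 31, 55, 82, 106, 122])
    (C.pT (f15080 C)
    (C.pH [8, 30, 65, 84, 94, 117] [19, 60, 73, 98, 110, 120] (by decide +kernel) (C.pNil _ _)))
    (C.pH [26, 38, 54, 89, 90, 113] [23, 38, 58, 71, 108, 110, 124] (by decide +kernel)
    (C.pT (f15086 C)
    (C.pH [8, 30, 65, 84, 94, 117] [24, 28, 51, 76, 95] (by decide +kernel)
    (C.pT (f15082 C)
    (C.pH [26, 38, 54, 89, 90, 113] [14, 31, 55, 82, 106, 122] (by decide +kernel) (C.pNil _ _))))))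
    (C.loop_of_one (relLoop1 C) _ _)

theorem f15088 : C.T (v18 C) [13, 46, 58, 87, 90, 110, 113] (v17 C) [19, 60, 73, 98, 110, 120] :=
  C.flip (f15087 C)

theorem f15089 : C.T (v4 C) [25, 65, 88, 90, 111] (v17 C) [9, 38, 50, 72, 92, 109, 114] :=
  C.conv (f4958 C) (f13703 C) (f13703 C) _ [135, 162, 168, 176, 177] _ (by decide +kernel) (by decide +kernel) (by decide +kernel)

theorem f15090 : C.S (v17 C) [51, 81, 96, 109, 125] :=
  C.stMul (f4132 C) (f4137 C) _ (by decide +kernel)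

theorem f15091 : C.T (v17 C) [18, 44, 50, 72, 92, 109, 114] (v17 C) [8, 36, 65, 75, 91, 109, 125] :=
  C.conv (f6427 C) (f6429 C) (f15090 C) _ [144, 153, 167, 171, 178] _ (by decide +kernel) (by decide +kernel) (by decide +kernel)

theorem f15092 : C.S (v4 C) [17, 35, 66, 70, 95] :=
  C.stMul (f421 C) (f407 C) _ (by decide +kernel)

theorem f15093 : C.S (v4 C) [26, 44, 64, 94, 121] :=
  C.stMul (f693 C) (f15092 C) _ (by decide +kernel)

theorem f15094 : C.T (v4 C) [4, 27, 62, 79, 91] (v18 C) [5, 34, 56, 72, 106, 115] :=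
  C.conv (f8297 C) (f10274 C) (f15093 C) _ [143, 159, 165, 171] _ (by decide +kernel) (by decide +kernel) (by decide +kernel)

theorem f15095 : C.T (v18 C) [5, 34, 56, 72, 106, 115] (v4 C) [4, 27, 62, 79, 91] :=
  C.flip (f15094 C)

theorem f15096 : C.T (v17 C) [11, 42, 51, 76, 105, 124] (v18 C) [14, 46, 59, 82, 104, 118] :=
  C.closeT (p := (v4 C)) (pu := [25, 65, 88, 90, 111])
    (C.pT (f15089 C)
    (C.pH [8, 30, 65, 84, 94, 117] [18, 44, 50, 72, 92, 109, 114] (by decide +kernel)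
    (C.pT (f15091 C)
    (C.pH [26, 38, 54, 89, 90, 113] [11, 42, 51, 76, 105, 124] (by decide +kernel) (C.pNil _ _)))))
    (C.pH [8, 30, 65, 84, 94, 117] [5, 34, 56, 72, 106, 115] (by decide +kernel)
    (C.pT (f15095 C)
    (C.pH [26, 38, 54, 89, 90, 113] [25, 65, 88, 90, 111] (by decide +kernel) (C.pNil _ _))))
    (C.loop_of_one (relLoop1 C) _ _)

theorem f15097 : C.T (v18 C) [14, 46, 59, 82, 104, 118] (v17 C) [11, 42, 51, 76, 105, 124] :=
  C.flip (f15096 C)

theorem f15098 : C.T (v4 C) [9, 35, 65, 101, 112] (v17 C) [8, 30, 65, 75, 105, 121] :=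
  C.conv (f5167 C) (f421 C) (f421 C) _ [128, 152, 170, 176, 178] _ (by decide +kernel) (by decide +kernel) (by decide +kernel)

theorem f15099 : C.S (v17 C) [23, 31, 49, 84, 96, 117] :=
  C.stMul (f4137 C) (f4137 C) _ (by decide +kernel)

theorem f15100 : C.T (v17 C) [31, 64, 78, 90, 109, 120] (v18 C) [16, 33, 55, 81, 102, 115] :=
  C.conv (f12135 C) (f15099 C) (f4132 C) _ [133, 150, 168, 172, 177] _ (by decide +kernel) (by decide +kernel) (by decide +kernel)

theorem f15101 : C.S (v4 C) [13, 34, 59, 73, 105, 109, 115] :=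
  C.stMul (f421 C) (f12209 C) _ (by decide +kernel)

theorem f15102 : C.T (v4 C) [15, 41, 59, 89, 102, 110, 125] (v18 C) [16, 39, 64, 72, 105] :=
  C.conv (f8516 C) (f12206 C) (f15101 C) _ [135, 149, 165, 171, 178] _ (by decide +kernel) (by decide +kernel) (by decide +kernel)

theorem f15103 : C.T (v18 C) [16, 39, 64, 72, 105] (v4 C) [15, 41, 59, 89, 102, 110, 125] :=
  C.flip (f15102 C)

theorem f15104 : C.T (v18 C) [13, 28, 67, 83, 102, 110, 114] (v18 C) [24, 46, 50, 83, 108, 109, 124] :=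
  C.closeT (p := (v4 C)) (pu := [9, 35, 65, 101, 112])
    (C.pT (f15098 C)
    (C.pH [8, 30, 65, 84, 94, 117] [31, 64, 78, 90, 109, 120] (by decide +kernel)
    (C.pT (f15100 C)
    (C.pH [26, 38, 54, 89, 90, 113] [13, 28, 67, 83, 102, 110, 114] (by decide +kernel) (C.pNil _ _)))))
    (C.pH [8, 30, 65, 84, 94, 117] [16, 39, 64, 72, 105] (by decide +kernel)
    (C.pT (f15103 C)
    (C.pH [26, 38, 54, 89, 90, 113] [9, 35, 65, 101, 112] (by decide +kernel) (C.pNil _ _))))
    (C.loop_of_one (relLoop1 C) _ _)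

theorem f15105 : C.T (v18 C) [24, 46, 50, 83, 108, 109, 124] (v18 C) [13, 28, 67, 83, 102, 110, 114] :=
  C.flip (f15104 C)

theorem f15106 : C.T (v4 C) [25, 40, 57, 84, 103, 110] (v17 C) [24, 30, 64, 74, 106, 109, 115] :=
  C.conv (f5213 C) (f13726 C) (f13726 C) _ [133, 158, 165, 172, 177] _ (by decide +kernel) (by decide +kernel) (by decide +kernel)

theorem f15107 : C.S (v17 C) [23, 31, 49, 84, 96, 117] :=
  C.stMul (f4137 C) (f4137 C) _ (by decide +kernel)

theorem f15108 : C.S (v17 C) [23, 31, 75, 92, 109, 116] :=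
  C.stMul (f4137 C) (f4132 C) _ (by decide +kernel)

theorem f15109 : C.T (v17 C) [16, 41, 57, 84, 90, 115] (v18 C) [12, 44, 49, 83, 101, 109, 119] :=
  C.conv (f13828 C) (f15107 C) (f15108 C) _ [129, 159, 170, 174, 177] _ (by decide +kernel) (by decide +kernel) (by decide +kernel)

theorem f15110 : C.S (v4 C) [17, 35, 66, 70, 95] :=
  C.stMul (f421 C) (f407 C) _ (by decide +kernel)

theorem f15111 : C.S (v4 C) [13, 44, 51, 82, 106, 110, 111] :=
  C.stMul (f407 C) (f15110 C) _ (by decide +kernel)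

theorem f15112 : C.S (v4 C) [17, 29, 60, 75, 100, 110, 113] :=
  C.stMul (f407 C) (f15111 C) _ (by decide +kernel)

theorem f15113 : C.T (v4 C) [4, 47, 49, 78, 108, 119] (v18 C) [29, 56, 77, 103, 110, 112] :=
  C.conv (f10083 C) (f13548 C) (f15112 C) _ [138, 157, 164, 172, 177] _ (by decide +kernel) (by decide +kernel) (by decide +kernel)

theorem f15114 : C.T (v18 C) [29, 56, 77, 103, 110, 112] (v4 C) [4, 47, 49, 78, 108, 119] :=
  C.flip (f15113 C)

theorem f15115 : C.T (v18 C) [14, 45, 67, 79, 98, 113] (v18 C) [8, 45, 67, 71, 92, 110, 117] :=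
  C.closeT (p := (v4 C)) (pu := [25, 40, 57, 84, 103, 110])
    (C.pT (f15106 C)
    (C.pH [8, 30, 65, 84, 94, 117] [16, 41, 57, 84, 90, 115] (by decide +kernel)
    (C.pT (f15109 C)
    (C.pH [26, 38, 54, 89, 90, 113] [14, 45, 67, 79, 98, 113] (by decide +kernel) (C.pNil _ _)))))
    (C.pH [8, 30, 65, 84, 94, 117] [29, 56, 77, 103, 110, 112] (by decide +kernel)
    (C.pT (f15114 C)
    (C.pH [26, 38, 54, 89, 90, 113] [25, 40, 57, 84, 103, 110] (by decide +kernel) (C.pNil _ _))))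
    (C.loop_of_one (relLoop1 C) _ _)

theorem f15119 : C.T (v4 C) [26, 29, 59, 84, 98, 110, 121] (v17 C) [19, 43, 55, 71, 105, 109, 121] :=
  C.conv (f5213 C) (f13726 C) (f13726 C) _ [142, 155, 166, 173, 177] _ (by decide +kernel) (by decide +kernel) (by decide +kernel)

theorem f15120 : C.S (v17 C) [51, 81, 96, 109, 125] :=
  C.stMul (f4132 C) (f4137 C) _ (by decide +kernel)

theorem f15121 : C.T (v17 C) [26, 32, 55, 70, 104, 110] (v18 C) [15, 34, 56, 71, 91, 109, 124] :=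
  C.conv (f10675 C) (f15120 C) (f4300 C) _ [129, 150, 165, 173, 178] _ (by decide +kernel) (by decide +kernel) (by decide +kernel)

theorem f15122 : C.S (v4 C) [18, 46, 49, 75, 97, 110, 118] :=
  C.stMul (f407 C) (f407 C) _ (by decide +kernel)

theorem f15123 : C.S (v4 C) [23, 45, 57, 77, 95, 110, 118] :=
  C.stMul (f407 C) (f15122 C) _ (by decide +kernel)

theorem f15124 : C.S (v4 C) [26, 43, 63, 73, 104, 112] :=
  C.stMul (f421 C) (f15123 C) _ (by decide +kernel)

theorem f15125 : C.S (v4 C) [25, 46, 61, 102, 110, 119] :=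
  C.stMul (f407 C) (f15124 C) _ (by decide +kernel)

theorem f15126 : C.S (v4 C) [26, 42, 68, 71, 107, 109, 113] :=
  C.stMul (f407 C) (f15125 C) _ (by decide +kernel)

theorem f15127 : C.T (v4 C) [37, 63, 80, 108, 110, 119] (v18 C) [11, 44, 52, 81, 94, 120] :=
  C.conv (f13473 C) (f13984 C) (f15126 C) _ [136, 156, 168, 174] _ (by decide +kernel) (by decide +kernel) (by decide +kernel)

theorem f15128 : C.T (v18 C) [11, 44, 52, 81, 94, 120] (v4 C) [37, 63, 80, 108, 110, 119] :=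
  C.flip (f15127 C)

theorem f15129 : C.T (v18 C) [9, 44, 64, 76, 99, 110, 114] (v18 C) [13, 40, 55, 87, 105, 114] :=
  C.closeT (p := (v4 C)) (pu := [26, 29, 59, 84, 98, 110, 121])
    (C.pT (f15119 C)
    (C.pH [8, 30, 65, 84, 94, 117] [26, 32, 55, 70, 104, 110] (by decide +kernel)
    (C.pT (f15121 C)
    (C.pH [26, 38, 54, 89, 90, 113] [9, 44, 64, 76, 99, 110, 114] (by decide +kernel) (C.pNil _ _)))))
    (C.pH [8, 30, 65, 84, 94, 117] [11, 44, 52, 81, 94, 120] (by decide +kernel)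
    (C.pT (f15128 C)
    (C.pH [26, 38, 54, 89, 90, 113] [26, 29, 59, 84, 98, 110, 121] (by decide +kernel) (C.pNil _ _))))
    (C.loop_of_one (relLoop1 C) _ _)

theorem f15133 : C.T (v4 C) [10, 39, 64, 84, 90, 110, 111] (v17 C) [14, 38, 67, 81, 105, 115] :=
  C.conv (f5488 C) (f14949 C) (f14949 C) _ [142, 162, 166, 173, 178] _ (by decide +kernel) (by decide +kernel) (by decide +kernel)

theorem f15134 : C.T (v17 C) [5, 27, 66, 82, 108, 125] (v18 C) [17, 35, 57, 82, 98, 109, 121] :=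
  C.conv (f7993 C) (f4132 C) (f4132 C) _ [133, 155, 166, 174, 177] _ (by decide +kernel) (by decide +kernel) (by decide +kernel)

theorem f15135 : C.S (v4 C) [26, 44, 64, 94, 121] :=
  C.stMul (f693 C) (f7502 C) _ (by decide +kernel)

theorem f15136 : C.S (v4 C) [23, 27, 56, 70, 98, 125] :=
  C.stMul (f421 C) (f15135 C) _ (by decide +kernel)

theorem f15137 : C.S (v4 C) [33, 61, 77, 108, 110, 112] :=
  C.stMul (f407 C) (f15136 C) _ (by decide +kernel)

theorem f15138 : C.T (v4 C) [18, 39, 61, 88, 99, 110, 122] (v18 C) [9, 51, 85, 98, 123] :=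
  C.conv (f7256 C) (f7503 C) (f15137 C) _ [132, 159, 166, 173] _ (by decide +kernel) (by decide +kernel) (by decide +kernel)

theorem f15139 : C.T (v18 C) [9, 51, 85, 98, 123] (v4 C) [18, 39, 61, 88, 99, 110, 122] :=
  C.flip (f15138 C)

theorem f15140 : C.T (v18 C) [20, 41, 51, 70, 99, 118] (v18 C) [25, 28, 59, 78, 99, 109, 123] :=
  C.closeT (p := (v4 C)) (pu := [10, 39, 64, 84, 90, 110, 111])
    (C.pT (f15133 C)
    (C.pH [8, 30, 65, 84, 94, 117] [5, 27, 66, 82, 108, 125] (by decide +kernel)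
    (C.pT (f15134 C)
    (C.pH [26, 38, 54, 89, 90, 113] [20, 41, 51, 70, 99, 118] (by decide +kernel) (C.pNil _ _)))))
    (C.pH [8, 30, 65, 84, 94, 117] [9, 51, 85, 98, 123] (by decide +kernel)
    (C.pT (f15139 C)
    (C.pH [26, 38, 54, 89, 90, 113] [10, 39, 64, 84, 90, 110, 111] (by decide +kernel) (C.pNil _ _))))
    (C.loop_of_one (relLoop1 C) _ _)

theorem f15144 : C.T (v4 C) [19, 45, 55, 89, 93, 109, 116] (v17 C) [12, 37, 88, 105, 109, 122] :=
  C.conv (f5488 C) (f14949 C) (f14949 C) _ [131, 149, 164] _ (by decide +kernel) (by decide +kernel) (by decide +kernel)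

theorem f15145 : C.S (v4 C) [18, 46, 49, 75, 97, 110, 118] :=
  C.stMul (f407 C) (f407 C) _ (by decide +kernel)

theorem f15146 : C.S (v4 C) [23, 45, 57, 77, 95, 110, 118] :=
  C.stMul (f407 C) (f15145 C) _ (by decide +kernel)

theorem f15147 : C.T (v4 C) [22, 30, 55, 72, 98, 110, 119] (v4 C) [16, 35, 62, 73, 103, 109, 117] :=
  C.conv (f462 C) (f737 C) (f15146 C) _ [127, 149, 165, 174, 177] _ (by decide +kernel) (by decide +kernel) (by decide +kernel)

theorem f15148 : C.T (v4 C) [16, 35, 62, 73, 103, 109, 117] (v4 C) [22, 30, 55, 72, 98, 110, 119] :=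
  C.flip (f15147 C)

theorem f15149 : C.T (v4 C) [24, 42, 62, 75, 103, 109, 120] (v18 C) [13, 33, 59, 88, 102, 109, 111] :=
  C.conv (f7256 C) (f7503 C) (f15136 C) _ [146, 160, 170, 171] _ (by decide +kernel) (by decide +kernel) (by decide +kernel)

theorem f15150 : C.T (v18 C) [13, 33, 59, 88, 102, 109, 111] (v4 C) [24, 42, 62, 75, 103, 109, 120] :=
  C.flip (f15149 C)

theorem f15151 : C.T (v17 C) [21, 67, 78, 105, 119] (v18 C) [16, 46, 56, 83, 90, 114] :=
  C.closeT (p := (v4 C)) (pu := [19, 45, 55, 89, 93, 109, 116])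
    (C.pT (f15144 C)
    (C.pH [8, 30, 65, 84, 94, 117] [21, 67, 78, 105, 119] (by decide +kernel) (C.pNil _ _)))
    (C.pH [26, 38, 54, 89, 90, 113] [13, 33, 59, 88, 102, 109, 111] (by decide +kernel)
    (C.pT (f15150 C)
    (C.pH [8, 30, 65, 84, 94, 117] [16, 35, 62, 73, 103, 109, 117] (by decide +kernel)
    (C.pT (f15148 C)
    (C.pH [26, 38, 54, 89, 90, 113] [19, 45, 55, 89, 93, 109, 116] (by decide +kernel) (C.pNil _ _))))))
    (C.loop_of_one (relLoop1 C) _ _)

theorem f15152 : C.T (v18 C) [16, 46, 56, 83, 90, 114] (v17 C) [21, 67, 78, 105, 119] :=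
  C.flip (f15151 C)

theorem f15153 : C.T (v4 C) [17, 39, 50, 84, 106, 110, 123] (v17 C) [20, 46, 58, 85, 109, 111] :=
  C.conv (f5526 C) (f407 C) (f407 C) _ [130, 158, 171] _ (by decide +kernel) (by decide +kernel) (by decide +kernel)

theorem f15154 : C.T (v4 C) [19, 31, 51, 84, 90, 110, 124] (v15 C) [16, 30, 64, 73, 123] :=
  C.conv (f2613 C) (f2621 C) (f2620 C) _ [127, 152, 170] _ (by decide +kernel) (by decide +kernel) (by decide +kernel)

theorem f15155 : C.T (v15 C) [16, 30, 64, 73, 123] (v4 C) [19, 31, 51, 84, 90, 110, 124] :=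
  C.flip (f15154 C)

theorem f15156 : C.S (v15 C) [25, 47, 66, 86, 107, 124] :=
  C.stMul (f2569 C) (f2565 C) _ (by decide +kernel)

theorem f15157 : C.S (v15 C) [20, 63, 89, 93, 110, 115] :=
  C.stMul (f2569 C) (f15156 C) _ (by decide +kernel)

theorem f15158 : C.T (v15 C) [24, 33, 61, 97, 125] (v18 C) [8, 38, 62, 70, 102, 110, 117] :=
  C.conv (f10976 C) (f12385 C) (f15157 C) _ [151, 170, 176, 177] _ (by decide +kernel) (by decide +kernel) (by decide +kernel)

theorem f15159 : C.T (v18 C) [8, 38, 62, 70, 102, 110, 117] (v15 C) [24, 33, 61, 97, 125] :=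
  C.flip (f15158 C)

theorem f15160 : C.T (v17 C) [23, 42, 57, 106, 110, 125] (v18 C) [5, 30, 68, 86, 95, 109, 112] :=
  C.closeT (p := (v4 C)) (pu := [17, 39, 50, 84, 106, 110, 123])
    (C.pT (f15153 C)
    (C.pH [8, 30, 65, 84, 94, 117] [23, 42, 57, 106, 110, 125] (by decide +kernel) (C.pNil _ _)))
    (C.pH [26, 38, 54, 89, 90, 113] [8, 38, 62, 70, 102, 110, 117] (by decide +kernel)
    (C.pT (f15159 C)
    (C.pH [8, 30, 65, 84, 94, 117] [16, 30, 64, 73, 123] (by decide +kernel)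
    (C.pT (f15155 C)
    (C.pH [26, 38, 54, 89, 90, 113] [17, 39, 50, 84, 106, 110, 123] (by decide +kernel) (C.pNil _ _))))))
    (C.loop_of_one (relLoop1 C) _ _)

theorem f15161 : C.T (v18 C) [5, 30, 68, 86, 95, 109, 112] (v17 C) [23, 42, 57, 106, 110, 125] :=
  C.flip (f15160 C)

theorem f15162 : C.T (v4 C) [31, 69, 89, 107, 109, 122] (v17 C) [24, 40, 68, 78, 106, 109, 118] :=
  C.conv (f5743 C) (f7641 C) (f7641 C) _ [136, 161, 175, 177] _ (by decide +kernel) (by decide +kernel) (by decide +kernel)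

theorem f15163 : C.S (v17 C) [23, 31, 49, 84, 96, 117] :=
  C.stMul (f4137 C) (f4137 C) _ (by decide +kernel)

theorem f15164 : C.S (v17 C) [51, 81, 96, 109, 125] :=
  C.stMul (f4132 C) (f4137 C) _ (by decide +kernel)

theorem f15165 : C.T (v17 C) [16, 42, 67, 84, 98, 110, 112] (v18 C) [26, 30, 60, 78, 101, 125] :=
  C.conv (f10603 C) (f15163 C) (f15164 C) _ [131, 157, 168, 175, 177] _ (by decide +kernel) (by decide +kernel) (by decide +kernel)

theorem f15166 : C.T (v4 C) [7, 35, 66, 86, 101, 109, 113] (v17 C) [13, 48, 60, 102, 110, 125] :=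
  C.conv (f5838 C) (f8414 C) (f8414 C) _ [146, 155, 165, 171, 178] _ (by decide +kernel) (by decide +kernel) (by decide +kernel)

theorem f15167 : C.T (v17 C) [13, 48, 60, 102, 110, 125] (v4 C) [7, 35, 66, 86, 101, 109, 113] :=
  C.flip (f15166 C)

theorem f15168 : C.T (v18 C) [16, 32, 54, 72, 101, 123] (v17 C) [6, 27, 51, 83, 97, 110] :=
  C.closeT (p := (v4 C)) (pu := [31, 69, 89, 107, 109, 122])
    (C.pT (f15162 C)
    (C.pH [8, 30, 65, 84, 94, 117] [16, 42, 67, 84, 98, 110, 112] (by decide +kernel)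
    (C.pT (f15165 C)
    (C.pH [26, 38, 54, 89, 90, 113] [16, 32, 54, 72, 101, 123] (by decide +kernel) (C.pNil _ _)))))
    (C.pH [8, 30, 65, 84, 94, 117] [13, 48, 60, 102, 110, 125] (by decide +kernel)
    (C.pT (f15167 C)
    (C.pH [26, 38, 54, 89, 90, 113] [31, 69, 89, 107, 109, 122] (by decide +kernel) (C.pNil _ _))))
    (C.loop_of_one (relLoop1 C) _ _)

theorem f15169 : C.T (v17 C) [6, 27, 51, 83, 97, 110] (v18 C) [16, 32, 54, 72, 101, 123] :=
  C.flip (f15168 C)

theorem f15170 : C.T (v4 C) [14, 37, 65, 82, 95, 118] (v17 C) [4, 40, 64, 71, 98, 110, 118] :=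
  C.conv (f5790 C) (f407 C) (f407 C) _ [133, 170, 176, 177] _ (by decide +kernel) (by decide +kernel) (by decide +kernel)

theorem f15171 : C.T (v17 C) [25, 29, 50, 89, 104, 120] (v18 C) [11, 38, 67, 73, 110, 113] :=
  C.conv (f9439 C) (f4132 C) (f4137 C) _ [129, 149, 165, 174, 177] _ (by decide +kernel) (by decide +kernel) (by decide +kernel)

theorem f15172 : C.S (v4 C) [21, 35, 69, 73, 94, 109, 122] :=
  C.stMul (f421 C) (f14433 C) _ (by decide +kernel)

theorem f15173 : C.S (v4 C) [18, 37, 59, 73, 102, 116] :=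
  C.stMul (f693 C) (f15172 C) _ (by decide +kernel)

theorem f15174 : C.S (v4 C) [16, 45, 55, 88, 103, 109, 115] :=
  C.stMul (f421 C) (f15173 C) _ (by decide +kernel)

theorem f15175 : C.T (v4 C) [12, 43, 49, 88, 90, 114] (v18 C) [15, 38, 68, 70, 105, 109, 121] :=
  C.conv (f10153 C) (f11483 C) (f15174 C) _ [135, 151, 166, 175] _ (by decide +kernel) (by decide +kernel) (by decide +kernel)

theorem f15176 : C.T (v18 C) [15, 38, 68, 70, 105, 109, 121] (v4 C) [12, 43, 49, 88, 90, 114] :=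
  C.flip (f15175 C)

theorem f15177 : C.T (v18 C) [24, 37, 51, 71, 94, 109, 115] (v18 C) [10, 35, 63, 78, 103, 109, 111] :=
  C.closeT (p := (v4 C)) (pu := [14, 37, 65, 82, 95, 118])
    (C.pT (f15170 C)
    (C.pH [8, 30, 65, 84, 94, 117] [25, 29, 50, 89, 104, 120] (by decide +kernel)
    (C.pT (f15171 C)
    (C.pH [26, 38, 54, 89, 90, 113] [24, 37, 51, 71, 94, 109, 115] (by decide +kernel) (C.pNil _ _)))))
    (C.pH [8, 30, 65, 84, 94, 117] [15, 38, 68, 70, 105, 109, 121] (by decide +kernel)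
    (C.pT (f15176 C)
    (C.pH [26, 38, 54, 89, 90, 113] [14, 37, 65, 82, 95, 118] (by decide +kernel) (C.pNil _ _))))
    (C.loop_of_one (relLoop1 C) _ _)

theorem f15181 : C.T (v4 C) [18, 28, 66, 71, 107, 109, 113] (v17 C) [9, 41, 51, 81, 92, 110, 125] :=
  C.conv (f5790 C) (f407 C) (f407 C) _ [148, 153, 164, 171, 178] _ (by decide +kernel) (by decide +kernel) (by decide +kernel)

theorem f15182 : C.S (v4 C) [17, 29, 60, 75, 100, 110, 113] :=
  C.stMul (f407 C) (f14335 C) _ (by decide +kernel)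

theorem f15183 : C.S (v4 C) [12, 44, 50, 85, 106, 124] :=
  C.stMul (f421 C) (f15182 C) _ (by decide +kernel)

theorem f15184 : C.T (v4 C) [25, 29, 63, 76, 105, 112] (v17 C) [36, 58, 70, 98, 109] :=
  C.conv (f5167 C) (f421 C) (f15183 C) _ [141, 155, 174] _ (by decide +kernel) (by decide +kernel) (by decide +kernel)

theorem f15185 : C.T (v17 C) [36, 58, 70, 98, 109] (v4 C) [25, 29, 63, 76, 105, 112] :=
  C.flip (f15184 C)

theorem f15186 : C.T (v17 C) [8, 32, 66, 72, 94, 110, 111] (v18 C) [19, 48, 55, 82, 103, 122] :=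
  C.conv (f14243 C) (f4137 C) (f4132 C) _ [143, 157, 170, 176, 177] _ (by decide +kernel) (by decide +kernel) (by decide +kernel)

theorem f15187 : C.T (v18 C) [19, 48, 55, 82, 103, 122] (v17 C) [8, 32, 66, 72, 94, 110, 111] :=
  C.flip (f15186 C)

theorem f15188 : C.T (v17 C) [18, 48, 53, 77, 92, 109, 121] (v18 C) [22, 27, 69, 70, 106, 109, 118] :=
  C.closeT (p := (v4 C)) (pu := [18, 28, 66, 71, 107, 109, 113])
    (C.pT (f15181 C)
    (C.pH [8, 30, 65, 84, 94, 117] [18, 48, 53, 77, 92, 109, 121] (by decide +kernel) (C.pNil _ _)))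
    (C.pH [26, 38, 54, 89, 90, 113] [19, 48, 55, 82, 103, 122] (by decide +kernel)
    (C.pT (f15187 C)
    (C.pH [8, 30, 65, 84, 94, 117] [36, 58, 70, 98, 109] (by decide +kernel)
    (C.pT (f15185 C)
    (C.pH [26, 38, 54, 89, 90, 113] [18, 28, 66, 71, 107, 109, 113] (by decide +kernel) (C.pNil _ _))))))
    (C.loop_of_one (relLoop1 C) _ _)

theorem f15189 : C.T (v18 C) [22, 27, 69, 70, 106, 109, 118] (v17 C) [18, 48, 53, 77, 92, 109, 121] :=
  C.flip (f15188 C)

theorem f15190 : C.T (v4 C) [7, 69, 82, 93, 122] (v17 C) [9, 46, 63, 109, 115] :=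
  C.conv (f5838 C) (f8414 C) (f8414 C) _ [128, 167, 176, 177] _ (by decide +kernel) (by decide +kernel) (by decide +kernel)

theorem f15191 : C.T (v17 C) [18, 36, 58, 70, 101, 109, 115] (v18 C) [23, 36, 52, 83, 106, 121] :=
  C.conv (f9237 C) (f4137 C) (f4300 C) _ [141, 163, 164, 172] _ (by decide +kernel) (by decide +kernel) (by decide +kernel)

theorem f15192 : C.S (v4 C) [26, 43, 63, 73, 104, 112] :=
  C.stMul (f421 C) (f10223 C) _ (by decide +kernel)

theorem f15193 : C.S (v4 C) [25, 46, 61, 102, 110, 119] :=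
  C.stMul (f407 C) (f15192 C) _ (by decide +kernel)

theorem f15194 : C.S (v4 C) [10, 38, 55, 71, 94, 110, 113] :=
  C.stMul (f421 C) (f15193 C) _ (by decide +kernel)

theorem f15195 : C.T (v4 C) [23, 40, 62, 77, 97, 121] (v18 C) [7, 45, 56, 73, 93, 110, 113] :=
  C.conv (f7487 C) (f8474 C) (f15194 C) _ [148, 160, 169, 173, 178] _ (by decide +kernel) (by decide +kernel) (by decide +kernel)

theorem f15196 : C.T (v18 C) [7, 45, 56, 73, 93, 110, 113] (v4 C) [23, 40, 62, 77, 97, 121] :=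
  C.flip (f15195 C)

theorem f15197 : C.T (v18 C) [7, 44, 61, 79, 107, 110, 113] (v18 C) [11, 48, 49, 78, 106, 109, 117] :=
  C.closeT (p := (v4 C)) (pu := [7, 69, 82, 93, 122])
    (C.pT (f15190 C)
    (C.pH [8, 30, 65, 84, 94, 117] [18, 36, 58, 70, 101, 109, 115] (by decide +kernel)
    (C.pT (f15191 C)
    (C.pH [26, 38, 54, 89, 90, 113] [7, 44, 61, 79, 107, 110, 113] (by decide +kernel) (C.pNil _ _)))))
    (C.pH [8, 30, 65, 84, 94, 117] [7, 45, 56, 73, 93, 110, 113] (by decide +kernel)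
    (C.pT (f15196 C)
    (C.pH [26, 38, 54, 89, 90, 113] [7, 69, 82, 93, 122] (by decide +kernel) (C.pNil _ _))))
    (C.loop_of_one (relLoop1 C) _ _)

theorem f15201 : C.T (v4 C) [11, 48, 49, 83, 99, 110, 112] (v17 C) [11, 31, 67, 104, 110, 121] :=
  C.conv (f5849 C) (f13785 C) (f13785 C) _ [126, 152, 171, 177] _ (by decide +kernel) (by decide +kernel) (by decide +kernel)

theorem f15202 : C.S (v17 C) [23, 31, 75, 92, 109, 116] :=
  C.stMul (f4137 C) (f4132 C) _ (by decide +kernel)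

theorem f15203 : C.T (v17 C) [7, 48, 64, 84, 102, 109, 116] (v9 C) [20, 30, 65, 80, 122] :=
  C.conv (f4202 C) (f15202 C) (f4132 C) _ [139, 163, 170, 173, 178] _ (by decide +kernel) (by decide +kernel) (by decide +kernel)

theorem f15204 : C.T (v4 C) [8, 37, 86, 90, 110, 122] (v18 C) [7, 47, 55, 87, 104, 110, 119] :=
  C.conv (f7446 C) (f7469 C) (f14270 C) _ [142, 155, 165, 174, 178] _ (by decide +kernel) (by decide +kernel) (by decide +kernel)

theorem f15205 : C.T (v18 C) [7, 47, 55, 87, 104, 110, 119] (v4 C) [8, 37, 86, 90, 110, 122] :=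
  C.flip (f15204 C)

theorem f15206 : C.T (v9 C) [15, 38, 66, 79, 103, 110, 122] (v18 C) [11, 37, 68, 73, 93, 110, 124] :=
  C.closeT (p := (v4 C)) (pu := [11, 48, 49, 83, 99, 110, 112])
    (C.pT (f15201 C)
    (C.pH [8, 30, 65, 84, 94, 117] [7, 48, 64, 84, 102, 109, 116] (by decide +kernel)
    (C.pT (f15203 C)
    (C.pH [26, 38, 54, 89, 90, 113] [15, 38, 66, 79, 103, 110, 122] (by decide +kernel) (C.pNil _ _)))))
    (C.pH [8, 30, 65, 84, 94, 117] [7, 47, 55, 87, 104, 110, 119] (by decide +kernel)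
    (C.pT (f15205 C)
    (C.pH [26, 38, 54, 89, 90, 113] [11, 48, 49, 83, 99, 110, 112] (by decide +kernel) (C.pNil _ _))))
    (C.loop_of_one (relLoop1 C) _ _)

theorem f15207 : C.T (v18 C) [11, 37, 68, 73, 93, 110, 124] (v9 C) [15, 38, 66, 79, 103, 110, 122] :=
  C.flip (f15206 C)

theorem f15208 : C.T (v4 C) [24, 44, 49, 72, 94, 109, 119] (v17 C) [24, 48, 55, 70, 101, 109] :=
  C.conv (f5849 C) (f13785 C) (f13785 C) _ [142, 152, 170, 171, 177] _ (by decide +kernel) (by decide +kernel) (by decide +kernel)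

theorem f15209 : C.T (v17 C) [16, 63, 77, 100, 110, 124] (v18 C) [15, 43, 52, 103, 110, 114] :=
  C.conv (f14966 C) (f4137 C) (f4137 C) _ [138, 159, 166, 176] _ (by decide +kernel) (by decide +kernel) (by decide +kernel)

theorem f15210 : C.S (v4 C) [8, 31, 60, 85, 98, 110, 125] :=
  C.stMul (f693 C) (f407 C) _ (by decide +kernel)

theorem f15211 : C.T (v4 C) [11, 42, 67, 73, 99, 110, 121] (v15 C) [25, 44, 67, 83, 95, 110, 118] :=
  C.conv (f2728 C) (f2857 C) (f15210 C) _ [142, 151, 175, 178] _ (by decide +kernel) (by decide +kernel) (by decide +kernel)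

theorem f15212 : C.T (v15 C) [25, 44, 67, 83, 95, 110, 118] (v4 C) [11, 42, 67, 73, 99, 110, 121] :=
  C.flip (f15211 C)

theorem f15213 : C.T (v18 C) [9, 31, 71, 102, 122] (v15 C) [4, 29, 66, 79, 106, 113] :=
  C.closeT (p := (v4 C)) (pu := [24, 44, 49, 72, 94, 109, 119])
    (C.pT (f15208 C)
    (C.pH [8, 30, 65, 84, 94, 117] [16, 63, 77, 100, 110, 124] (by decide +kernel)
    (C.pT (f15209 C)
    (C.pH [26, 38, 54, 89, 90, 113] [9, 31, 71, 102, 122] (by decide +kernel) (C.pNil _ _)))))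
    (C.pH [8, 30, 65, 84, 94, 117] [25, 44, 67, 83, 95, 110, 118] (by decide +kernel)
    (C.pT (f15212 C)
    (C.pH [26, 38, 54, 89, 90, 113] [24, 44, 49, 72, 94, 109, 119] (by decide +kernel) (C.pNil _ _))))
    (C.loop_of_one (relLoop1 C) _ _)

theorem f15214 : C.T (v15 C) [4, 29, 66, 79, 106, 113] (v18 C) [9, 31, 71, 102, 122] :=
  C.flip (f15213 C)

theorem f15215 : C.T (v4 C) [8, 44, 62, 88, 100, 110, 117] (v17 C) [8, 36, 50, 82, 101, 109, 116] :=
  C.conv (f5849 C) (f13785 C) (f13785 C) _ [134, 162, 166, 174, 178] _ (by decide +kernel) (by decide +kernel) (by decide +kernel)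

theorem f15216 : C.T (v17 C) [33, 51, 70, 90, 109, 121] (v18 C) [24, 28, 52, 81, 104, 110, 111] :=
  C.conv (f15078 C) (f4300 C) (f4132 C) _ [147, 162, 167, 171, 177] _ (by decide +kernel) (by decide +kernel) (by decide +kernel)

theorem f15217 : C.T (v4 C) [5, 35, 60, 84, 91, 109, 111] (v18 C) [11, 47, 60, 77, 104, 111] :=
  C.conv (f10083 C) (f13548 C) (f15110 C) _ [136, 160, 166] _ (by decide +kernel) (by decide +kernel) (by decide +kernel)

theorem f15218 : C.T (v18 C) [11, 47, 60, 77, 104, 111] (v4 C) [5, 35, 60, 84, 91, 109, 111] :=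
  C.flip (f15217 C)

theorem f15219 : C.T (v18 C) [12, 34, 64, 81, 107, 125] (v18 C) [13, 35, 64, 77, 90, 115] :=
  C.closeT (p := (v4 C)) (pu := [8, 44, 62, 88, 100, 110, 117])
    (C.pT (f15215 C)
    (C.pH [8, 30, 65, 84, 94, 117] [33, 51, 70, 90, 109, 121] (by decide +kernel)
    (C.pT (f15216 C)
    (C.pH [26, 38, 54, 89, 90, 113] [12, 34, 64, 81, 107, 125] (by decide +kernel) (C.pNil _ _)))))
    (C.pH [8, 30, 65, 84, 94, 117] [11, 47, 60, 77, 104, 111] (by decide +kernel)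
    (C.pT (f15218 C)
    (C.pH [26, 38, 54, 89, 90, 113] [8, 44, 62, 88, 100, 110, 117] (by decide +kernel) (C.pNil _ _))))
    (C.loop_of_one (relLoop1 C) _ _)

theorem f15222 : C.T (v4 C) [24, 32, 55, 70, 102, 110, 112] (v17 C) [17, 45, 54, 77, 106, 112] :=
  C.conv (f6736 C) (f8944 C) (f8944 C) _ [145, 150, 164, 175, 177] _ (by decide +kernel) (by decide +kernel) (by decide +kernel)

theorem f15223 : C.S (v4 C) [26, 43, 63, 73, 104, 112] :=
  C.stMul (f421 C) (f7429 C) _ (by decide +kernel)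

theorem f15224 : C.S (v4 C) [25, 46, 61, 102, 110, 119] :=
  C.stMul (f407 C) (f15223 C) _ (by decide +kernel)

theorem f15225 : C.T (v4 C) [11, 32, 56, 75, 106, 118] (v18 C) [23, 33, 53, 84, 94, 121] :=
  C.conv (f6924 C) (f7427 C) (f15224 C) _ [145, 149, 169, 174, 177] _ (by decide +kernel) (by decide +kernel) (by decide +kernel)

theorem f15226 : C.T (v18 C) [23, 33, 53, 84, 94, 121] (v4 C) [11, 32, 56, 75, 106, 118] :=
  C.flip (f15225 C)

theorem f15227 : C.T (v18 C) [20, 36, 56, 74, 93, 110, 123] (v18 C) [6, 36, 59, 86, 102, 109, 124] :=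
  C.conv (f14000 C) (f6836 C) (f6836 C) _ [137, 159, 164, 172] _ (by decide +kernel) (by decide +kernel) (by decide +kernel)

theorem f15228 : C.T (v18 C) [6, 36, 59, 86, 102, 109, 124] (v18 C) [20, 36, 56, 74, 93, 110, 123] :=
  C.flip (f15227 C)

theorem f15229 : C.T (v17 C) [22, 54, 77, 103, 119] (v18 C) [21, 28, 61, 86, 92, 117] :=
  C.closeT (p := (v4 C)) (pu := [24, 32, 55, 70, 102, 110, 112])
    (C.pT (f15222 C)
    (C.pH [8, 30, 65, 84, 94, 117] [22, 54, 77, 103, 119] (by decide +kernel) (C.pNil _ _)))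
    (C.pH [26, 38, 54, 89, 90, 113] [6, 36, 59, 86, 102, 109, 124] (by decide +kernel)
    (C.pT (f15228 C)
    (C.pH [8, 30, 65, 84, 94, 117] [23, 33, 53, 84, 94, 121] (by decide +kernel)
    (C.pT (f15226 C)
    (C.pH [26, 38, 54, 89, 90, 113] [24, 32, 55, 70, 102, 110, 112] (by decide +kernel) (C.pNil _ _))))))
    (C.loop_of_one (relLoop1 C) _ _)

theorem f15230 : C.T (v18 C) [21, 28, 61, 86, 92, 117] (v17 C) [22, 54, 77, 103, 119] :=
  C.flip (f15229 C)

theorem f15231 : C.T (v4 C) [19, 39, 60, 80, 103, 110, 119] (v18 C) [6, 45, 64, 72, 93, 110] :=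
  C.conv (f6881 C) (f13597 C) (f13597 C) _ [144, 150, 164, 175, 177] _ (by decide +kernel) (by decide +kernel) (by decide +kernel)

theorem f15232 : C.S (v4 C) [26, 43, 63, 73, 104, 112] :=
  C.stMul (f421 C) (f11405 C) _ (by decide +kernel)

theorem f15233 : C.S (v4 C) [17, 41, 87, 92, 116] :=
  C.stMul (f693 C) (f15232 C) _ (by decide +kernel)

theorem f15234 : C.T (v4 C) [22, 42, 65, 70, 103, 124] (v18 C) [7, 29, 53, 72, 105, 110, 111] :=
  C.conv (f6895 C) (f8570 C) (f15233 C) _ [135, 154, 167, 171, 178] _ (by decide +kernel) (by decide +kernel) (by decide +kernel)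

theorem f15235 : C.T (v18 C) [7, 29, 53, 72, 105, 110, 111] (v4 C) [22, 42, 65, 70, 103, 124] :=
  C.flip (f15234 C)

theorem f15236 : C.T (v18 C) [11, 44, 64, 99, 115] (v16 C) [20, 47, 55, 95, 123] :=
  C.conv (f12383 C) (f13067 C) (f7121 C) _ [150, 177] _ (by decide +kernel) (by decide +kernel) (by decide +kernel)

theorem f15237 : C.T (v16 C) [20, 47, 55, 95, 123] (v18 C) [11, 44, 64, 99, 115] :=
  C.flip (f15236 C)

theorem f15238 : C.T (v18 C) [13, 46, 51, 78, 106, 124] (v16 C) [17, 41, 53, 89, 101, 110, 117] :=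
  C.closeT (p := (v4 C)) (pu := [19, 39, 60, 80, 103, 110, 119])
    (C.pT (f15231 C)
    (C.pH [8, 30, 65, 84, 94, 117] [13, 46, 51, 78, 106, 124] (by decide +kernel) (C.pNil _ _)))
    (C.pH [26, 38, 54, 89, 90, 113] [20, 47, 55, 95, 123] (by decide +kernel)
    (C.pT (f15237 C)
    (C.pH [8, 30, 65, 84, 94, 117] [7, 29, 53, 72, 105, 110, 111] (by decide +kernel)
    (C.pT (f15235 C)
    (C.pH [26, 38, 54, 89, 90, 113] [19, 39, 60, 80, 103, 110, 119] (by decide +kernel) (C.pNil _ _))))))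
    (C.loop_of_one (relLoop1 C) _ _)

theorem f15239 : C.T (v16 C) [17, 41, 53, 89, 101, 110, 117] (v18 C) [13, 46, 51, 78, 106, 124] :=
  C.flip (f15238 C)

theorem f15240 : C.T (v4 C) [7, 33, 52, 88, 99, 115] (v18 C) [17, 42, 85, 105, 111] :=
  C.conv (f6895 C) (f8570 C) (f8570 C) _ [135, 156, 165, 171, 177] _ (by decide +kernel) (by decide +kernel) (by decide +kernel)

theorem f15241 : C.S (v4 C) [10, 27, 56, 84, 93, 109, 113] :=
  C.stMul (f407 C) (f421 C) _ (by decide +kernel)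

theorem f15242 : C.S (v4 C) [25, 47, 59, 76, 103, 109, 113] :=
  C.stMul (f421 C) (f15241 C) _ (by decide +kernel)

theorem f15243 : C.S (v4 C) [13, 41, 65, 83, 103, 110, 118] :=
  C.stMul (f693 C) (f15242 C) _ (by decide +kernel)

theorem f15244 : C.T (v4 C) [23, 33, 66, 76, 90, 111] (v15 C) [18, 29, 49, 72, 103, 109, 125] :=
  C.conv (f2644 C) (f693 C) (f15243 C) _ [145, 158, 169, 176] _ (by decide +kernel) (by decide +kernel) (by decide +kernel)

theorem f15245 : C.T (v15 C) [18, 29, 49, 72, 103, 109, 125] (v4 C) [23, 33, 66, 76, 90, 111] :=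
  C.flip (f15244 C)

theorem f15246 : C.T (v15 C) [9, 29, 52, 84, 91, 109, 125] (v18 C) [20, 38, 60, 81, 105, 118] :=
  C.conv (f11195 C) (f12282 C) (f2581 C) _ [137, 151, 169, 176, 178] _ (by decide +kernel) (by decide +kernel) (by decide +kernel)

theorem f15247 : C.T (v18 C) [20, 38, 60, 81, 105, 118] (v15 C) [9, 29, 52, 84, 91, 109, 125] :=
  C.flip (f15246 C)

theorem f15248 : C.T (v18 C) [22, 37, 54, 77, 90, 109, 118] (v18 C) [17, 46, 64, 105, 110, 119] :=
  C.closeT (p := (v4 C)) (pu := [7, 33, 52, 88, 99, 115])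
    (C.pT (f15240 C)
    (C.pH [8, 30, 65, 84, 94, 117] [22, 37, 54, 77, 90, 109, 118] (by decide +kernel) (C.pNil _ _)))
    (C.pH [26, 38, 54, 89, 90, 113] [20, 38, 60, 81, 105, 118] (by decide +kernel)
    (C.pT (f15247 C)
    (C.pH [8, 30, 65, 84, 94, 117] [18, 29, 49, 72, 103, 109, 125] (by decide +kernel)
    (C.pT (f15245 C)
    (C.pH [26, 38, 54, 89, 90, 113] [7, 33, 52, 88, 99, 115] (by decide +kernel) (C.pNil _ _))))))
    (C.loop_of_one (relLoop1 C) _ _)

theorem f15252 : C.T (v4 C) [14, 46, 67, 84, 100, 109, 122] (v18 C) [9, 29, 54, 83, 98, 110, 120] :=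
  C.conv (f6895 C) (f8570 C) (f8570 C) _ [144, 149, 164, 171] _ (by decide +kernel) (by decide +kernel) (by decide +kernel)

theorem f15253 : C.S (v18 C) [26, 43, 49, 77, 91, 110, 115] :=
  C.stMul (f6836 C) (f6836 C) _ (by decide +kernel)

theorem f15254 : C.T (v18 C) [18, 29, 69, 77, 104, 123] (v18 C) [10, 35, 56, 81, 106, 110, 119] :=
  C.conv (f7932 C) (f15253 C) (f7121 C) _ [131, 149, 169, 176, 177] _ (by decide +kernel) (by decide +kernel) (by decide +kernel)

theorem f15255 : C.T (v4 C) [12, 41, 56, 78, 90, 110, 113] (v18 C) [20, 27, 67, 77, 103, 110, 113] :=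
  C.conv (f8390 C) (f13475 C) (f14721 C) _ [132, 158, 166, 171, 177] _ (by decide +kernel) (by decide +kernel) (by decide +kernel)

theorem f15256 : C.T (v18 C) [20, 27, 67, 77, 103, 110, 113] (v4 C) [12, 41, 56, 78, 90, 110, 113] :=
  C.flip (f15255 C)

theorem f15257 : C.T (v18 C) [21, 27, 56, 80, 92, 121] (v18 C) [16, 45, 67, 89, 101, 119] :=
  C.closeT (p := (v4 C)) (pu := [14, 46, 67, 84, 100, 109, 122])
    (C.pT (f15252 C)
    (C.pH [8, 30, 65, 84, 94, 117] [18, 29, 69, 77, 104, 123] (by decide +kernel)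
    (C.pT (f15254 C)
    (C.pH [26, 38, 54, 89, 90, 113] [21, 27, 56, 80, 92, 121] (by decide +kernel) (C.pNil _ _)))))
    (C.pH [8, 30, 65, 84, 94, 117] [20, 27, 67, 77, 103, 110, 113] (by decide +kernel)
    (C.pT (f15256 C)
    (C.pH [26, 38, 54, 89, 90, 113] [14, 46, 67, 84, 100, 109, 122] (by decide +kernel) (C.pNil _ _))))
    (C.loop_of_one (relLoop1 C) _ _)

theorem f15258 : C.T (v18 C) [16, 45, 67, 89, 101, 119] (v18 C) [21, 27, 56, 80, 92, 121] :=
  C.flip (f15257 C)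

theorem f15259 : C.T (v4 C) [23, 27, 51, 87, 99, 110, 111] (v18 C) [25, 57, 81, 94, 109, 123] :=
  C.conv (f6895 C) (f8570 C) (f8570 C) _ [138, 162, 164, 178] _ (by decide +kernel) (by decide +kernel) (by decide +kernel)

theorem f15260 : C.S (v4 C) [8, 31, 60, 85, 98, 110, 125] :=
  C.stMul (f693 C) (f407 C) _ (by decide +kernel)

theorem f15261 : C.S (v4 C) [42, 63, 82, 91, 110, 125] :=
  C.stMul (f421 C) (f15260 C) _ (by decide +kernel)

theorem f15262 : C.S (v4 C) [12, 31, 56, 72, 107, 109, 112] :=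
  C.stMul (f407 C) (f15261 C) _ (by decide +kernel)

theorem f15263 : C.T (v4 C) [13, 45, 60, 73, 106, 109, 123] (v16 C) [9, 35, 66, 70, 93, 109, 115] :=
  C.conv (f3641 C) (f13592 C) (f15262 C) _ [129, 163, 165, 176, 177] _ (by decide +kernel) (by decide +kernel) (by decide +kernel)

theorem f15264 : C.T (v16 C) [9, 35, 66, 70, 93, 109, 115] (v4 C) [13, 45, 60, 73, 106, 109, 123] :=
  C.flip (f15263 C)

theorem f15265 : C.T (v16 C) [25, 39, 61, 75, 98, 109] (v17 C) [5, 33, 53, 106, 110] :=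
  C.conv (f5699 C) (f5702 C) (f3468 C) _ [145, 153, 169, 173, 177] _ (by decide +kernel) (by decide +kernel) (by decide +kernel)

theorem f15266 : C.T (v17 C) [5, 33, 53, 106, 110] (v16 C) [25, 39, 61, 75, 98, 109] :=
  C.flip (f15265 C)

theorem f15267 : C.T (v18 C) [9, 47, 65, 76, 107, 109, 112] (v17 C) [14, 32, 50, 80, 101, 120] :=
  C.closeT (p := (v4 C)) (pu := [23, 27, 51, 87, 99, 110, 111])
    (C.pT (f15259 C)
    (C.pH [8, 30, 65, 84, 94, 117] [9, 47, 65, 76, 107, 109, 112] (by decide +kernel) (C.pNil _ _)))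
    (C.pH [26, 38, 54, 89, 90, 113] [5, 33, 53, 106, 110] (by decide +kernel)
    (C.pT (f15266 C)
    (C.pH [8, 30, 65, 84, 94, 117] [9, 35, 66, 70, 93, 109, 115] (by decide +kernel)
    (C.pT (f15264 C)
    (C.pH [26, 38, 54, 89, 90, 113] [23, 27, 51, 87, 99, 110, 111] (by decide +kernel) (C.pNil _ _))))))
    (C.loop_of_one (relLoop1 C) _ _)

theorem f15268 : C.T (v17 C) [14, 32, 50, 80, 101, 120] (v18 C) [9, 47, 65, 76, 107, 109, 112] :=
  C.flip (f15267 C)

theorem f15269 : C.T (v4 C) [6, 36, 58, 87, 102, 110, 123] (v18 C) [25, 41, 69, 81, 101, 110] :=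
  C.conv (f6924 C) (f7427 C) (f7427 C) _ [147, 162, 164, 171, 178] _ (by decide +kernel) (by decide +kernel) (by decide +kernel)

theorem f15270 : C.S (v18 C) [26, 43, 49, 77, 91, 110, 115] :=
  C.stMul (f6836 C) (f6836 C) _ (by decide +kernel)

theorem f15271 : C.T (v18 C) [9, 48, 60, 72, 94, 115] (v18 C) [8, 46, 56, 86, 109, 125] :=
  C.conv (f14411 C) (f15270 C) (f7121 C) _ [144, 162, 170, 172, 177] _ (by decide +kernel) (by decide +kernel) (by decide +kernel)

theorem f15272 : C.T (v4 C) [21, 28, 55, 81, 90, 110, 118] (v16 C) [15, 40, 50, 82, 92, 120] :=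
  C.conv (f4074 C) (f8908 C) (f11896 C) _ [135, 164, 178] _ (by decide +kernel) (by decide +kernel) (by decide +kernel)

theorem f15273 : C.T (v16 C) [15, 40, 50, 82, 92, 120] (v4 C) [21, 28, 55, 81, 90, 110, 118] :=
  C.flip (f15272 C)

theorem f15274 : C.T (v18 C) [11, 29, 53, 80, 93, 110, 113] (v16 C) [10, 28, 59, 70, 100, 109, 117] :=
  C.closeT (p := (v4 C)) (pu := [6, 36, 58, 87, 102, 110, 123])
    (C.pT (f15269 C)
    (C.pH [8, 30, 65, 84, 94, 117] [9, 48, 60, 72, 94, 115] (by decide +kernel)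
    (C.pT (f15271 C)
    (C.pH [26, 38, 54, 89, 90, 113] [11, 29, 53, 80, 93, 110, 113] (by decide +kernel) (C.pNil _ _)))))
    (C.pH [8, 30, 65, 84, 94, 117] [15, 40, 50, 82, 92, 120] (by decide +kernel)
    (C.pT (f15273 C)
    (C.pH [26, 38, 54, 89, 90, 113] [6, 36, 58, 87, 102, 110, 123] (by decide +kernel) (C.pNil _ _))))
    (C.loop_of_one (relLoop1 C) _ _)

theorem f15275 : C.T (v16 C) [10, 28, 59, 70, 100, 109, 117] (v18 C) [11, 29, 53, 80, 93, 110, 113] :=
  C.flip (f15274 C)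

theorem f15276 : C.T (v4 C) [20, 34, 61, 73, 102, 110] (v18 C) [7, 39, 60, 76, 105, 110, 114] :=
  C.conv (f6924 C) (f7427 C) (f7427 C) _ [129, 154, 164, 171, 178] _ (by decide +kernel) (by decide +kernel) (by decide +kernel)

theorem f15277 : C.S (v18 C) [26, 43, 49, 77, 91, 110, 115] :=
  C.stMul (f6836 C) (f6836 C) _ (by decide +kernel)

theorem f15278 : C.T (v18 C) [17, 43, 56, 77, 95, 110, 119] (v16 C) [16, 40, 54, 82, 107, 109, 121] :=
  C.conv (f13249 C) (f15277 C) (f7121 C) _ [142, 160, 177] _ (by decide +kernel) (by decide +kernel) (by decide +kernel)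

theorem f15279 : C.S (v4 C) [18, 46, 49, 75, 97, 110, 118] :=
  C.stMul (f407 C) (f407 C) _ (by decide +kernel)

theorem f15280 : C.T (v4 C) [17, 38, 67, 85, 106, 122] (v18 C) [13, 30, 65, 81, 98, 110, 124] :=
  C.conv (f10219 C) (f421 C) (f15279 C) _ [146, 153, 169, 175, 178] _ (by decide +kernel) (by decide +kernel) (by decide +kernel)

theorem f15281 : C.T (v18 C) [13, 30, 65, 81, 98, 110, 124] (v4 C) [17, 38, 67, 85, 106, 122] :=
  C.flip (f15280 C)

theorem f15282 : C.T (v16 C) [13, 31, 49, 81, 104, 110, 113] (v18 C) [6, 39, 66, 75, 91, 109, 121] :=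
  C.closeT (p := (v4 C)) (pu := [20, 34, 61, 73, 102, 110])
    (C.pT (f15276 C)
    (C.pH [8, 30, 65, 84, 94, 117] [17, 43, 56, 77, 95, 110, 119] (by decide +kernel)
    (C.pT (f15278 C)
    (C.pH [26, 38, 54, 89, 90, 113] [13, 31, 49, 81, 104, 110, 113] (by decide +kernel) (C.pNil _ _)))))
    (C.pH [8, 30, 65, 84, 94, 117] [13, 30, 65, 81, 98, 110, 124] (by decide +kernel)
    (C.pT (f15281 C)
    (C.pH [26, 38, 54, 89, 90, 113] [20, 34, 61, 73, 102, 110] (by decide +kernel) (C.pNil _ _))))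
    (C.loop_of_one (relLoop1 C) _ _)

theorem f15283 : C.T (v18 C) [6, 39, 66, 75, 91, 109, 121] (v16 C) [13, 31, 49, 81, 104, 110, 113] :=
  C.flip (f15282 C)

theorem f15284 : C.T (v4 C) [25, 41, 57, 85, 108, 110, 124] (v18 C) [16, 38, 59, 73, 104, 110, 119] :=
  C.conv (f7256 C) (f7503 C) (f7503 C) _ [130, 163, 164, 173, 178] _ (by decide +kernel) (by decide +kernel) (by decide +kernel)

theorem f15285 : C.S (v4 C) [23, 41, 49, 78, 91, 109] :=
  C.stMul (f693 C) (f421 C) _ (by decide +kernel)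

theorem f15286 : C.T (v4 C) [4, 43, 61, 83, 104, 109, 125] (v4 C) [7, 28, 52, 80, 103, 124] :=
  C.conv (f882 C) (f407 C) (f15285 C) _ [143, 161, 167, 171, 178] _ (by decide +kernel) (by decide +kernel) (by decide +kernel)

theorem f15287 : C.T (v4 C) [7, 28, 52, 80, 103, 124] (v4 C) [4, 43, 61, 83, 104, 109, 125] :=
  C.flip (f15286 C)

theorem f15288 : C.S (v4 C) [25, 47, 59, 76, 103, 109, 113] :=
  C.stMul (f421 C) (f12075 C) _ (by decide +kernel)

theorem f15289 : C.S (v4 C) [13, 41, 65, 83, 103, 110, 118] :=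
  C.stMul (f693 C) (f15288 C) _ (by decide +kernel)

theorem f15290 : C.S (v4 C) [21, 41, 64, 81, 97, 110, 115] :=
  C.stMul (f421 C) (f15289 C) _ (by decide +kernel)

theorem f15291 : C.T (v4 C) [11, 42, 50, 72, 104, 109, 117] (v18 C) [54, 79, 92, 109, 115] :=
  C.conv (f6924 C) (f7427 C) (f15290 C) _ [154, 169, 176] _ (by decide +kernel) (by decide +kernel) (by decide +kernel)

theorem f15292 : C.T (v18 C) [54, 79, 92, 109, 115] (v4 C) [11, 42, 50, 72, 104, 109, 117] :=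
  C.flip (f15291 C)

theorem f15293 : C.T (v18 C) [20, 34, 68, 70, 90, 110, 118] (v18 C) [7, 39, 56, 84, 105, 113] :=
  C.closeT (p := (v4 C)) (pu := [25, 41, 57, 85, 108, 110, 124])
    (C.pT (f15284 C)
    (C.pH [8, 30, 65, 84, 94, 117] [20, 34, 68, 70, 90, 110, 118] (by decide +kernel) (C.pNil _ _)))
    (C.pH [26, 38, 54, 89, 90, 113] [54, 79, 92, 109, 115] (by decide +kernel)
    (C.pT (f15292 C)
    (C.pH [8, 30, 65, 84, 94, 117] [7, 28, 52, 80, 103, 124] (by decide +kernel)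
    (C.pT (f15287 C)
    (C.pH [26, 38, 54, 89, 90, 113] [25, 41, 57, 85, 108, 110, 124] (by decide +kernel) (C.pNil _ _))))))
    (C.loop_of_one (relLoop1 C) _ _)

theorem f15297 : C.T (v4 C) [5, 37, 53, 86, 109, 115] (v18 C) [24, 39, 62, 106, 111] :=
  C.conv (f7423 C) (f7483 C) (f7483 C) _ [148, 151, 170, 172, 178] _ (by decide +kernel) (by decide +kernel) (by decide +kernel)

theorem f15298 : C.T (v18 C) [16, 33, 66, 76, 101, 115] (v18 C) [11, 32, 55, 79, 101, 124] :=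
  C.conv (f14411 C) (f15270 C) (f7121 C) _ [146, 160, 166, 176] _ (by decide +kernel) (by decide +kernel) (by decide +kernel)

theorem f15299 : C.S (v4 C) [13, 41, 65, 83, 103, 110, 118] :=
  C.stMul (f693 C) (f14170 C) _ (by decide +kernel)

theorem f15300 : C.S (v4 C) [21, 41, 64, 81, 97, 110, 115] :=
  C.stMul (f421 C) (f15299 C) _ (by decide +kernel)

theorem f15301 : C.T (v4 C) [14, 43, 67, 85, 107, 110, 111] (v18 C) [21, 44, 55, 79, 100, 110, 124] :=
  C.conv (f10112 C) (f14154 C) (f15300 C) _ [147, 161, 166, 177] _ (by decide +kernel) (by decide +kernel) (by decide +kernel)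

theorem f15302 : C.T (v18 C) [21, 44, 55, 79, 100, 110, 124] (v4 C) [14, 43, 67, 85, 107, 110, 111] :=
  C.flip (f15301 C)

theorem f15303 : C.T (v18 C) [24, 32, 66, 88, 110, 122] (v18 C) [12, 45, 61, 89, 90, 120] :=
  C.closeT (p := (v4 C)) (pu := [5, 37, 53, 86, 109, 115])
    (C.pT (f15297 C)
    (C.pH [8, 30, 65, 84, 94, 117] [16, 33, 66, 76, 101, 115] (by decide +kernel)
    (C.pT (f15298 C)
    (C.pH [26, 38, 54, 89, 90, 113] [24, 32, 66, 88, 110, 122] (by decide +kernel) (C.pNil _ _)))))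
    (C.pH [8, 30, 65, 84, 94, 117] [21, 44, 55, 79, 100, 110, 124] (by decide +kernel)
    (C.pT (f15302 C)
    (C.pH [26, 38, 54, 89, 90, 113] [5, 37, 53, 86, 109, 115] (by decide +kernel) (C.pNil _ _))))
    (C.loop_of_one (relLoop1 C) _ _)

theorem f15304 : C.T (v18 C) [12, 45, 61, 89, 90, 120] (v18 C) [24, 32, 66, 88, 110, 122] :=
  C.flip (f15303 C)

theorem f15305 : C.T (v4 C) [20, 40, 64, 87, 104, 109, 112] (v18 C) [17, 27, 82, 110, 115] :=
  C.conv (f7423 C) (f7483 C) (f7483 C) _ [129, 165, 173, 178] _ (by decide +kernel) (by decide +kernel) (by decide +kernel)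

theorem f15306 : C.S (v4 C) [16, 43, 64, 82, 90, 110, 123] :=
  C.stMul (f421 C) (f13724 C) _ (by decide +kernel)

theorem f15307 : C.T (v4 C) [17, 36, 67, 83, 92, 109, 123] (v17 C) [25, 33, 68, 86, 102, 110, 119] :=
  C.conv (f5213 C) (f13726 C) (f15306 C) _ [136, 160, 167, 171, 178] _ (by decide +kernel) (by decide +kernel) (by decide +kernel)

theorem f15308 : C.T (v17 C) [25, 33, 68, 86, 102, 110, 119] (v4 C) [17, 36, 67, 83, 92, 109, 123] :=
  C.flip (f15307 C)

theorem f15309 : C.S (v17 C) [23, 31, 49, 84, 96, 117] :=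
  C.stMul (f4137 C) (f4137 C) _ (by decide +kernel)

theorem f15310 : C.T (v17 C) [4, 45, 59, 87, 110, 114] (v18 C) [8, 29, 62, 74, 98, 109] :=
  C.conv (f11333 C) (f15309 C) (f4132 C) _ [130, 149, 168, 174, 177] _ (by decide +kernel) (by decide +kernel) (by decide +kernel)

theorem f15311 : C.T (v18 C) [8, 29, 62, 74, 98, 109] (v17 C) [4, 45, 59, 87, 110, 114] :=
  C.flip (f15310 C)

theorem f15312 : C.T (v18 C) [22, 28, 63, 85, 107, 109] (v18 C) [5, 42, 51, 83, 95, 109, 118] :=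
  C.closeT (p := (v4 C)) (pu := [20, 40, 64, 87, 104, 109, 112])
    (C.pT (f15305 C)
    (C.pH [8, 30, 65, 84, 94, 117] [22, 28, 63, 85, 107, 109] (by decide +kernel) (C.pNil _ _)))
    (C.pH [26, 38, 54, 89, 90, 113] [8, 29, 62, 74, 98, 109] (by decide +kernel)
    (C.pT (f15311 C)
    (C.pH [8, 30, 65, 84, 94, 117] [25, 33, 68, 86, 102, 110, 119] (by decide +kernel)
    (C.pT (f15308 C)
    (C.pH [26, 38, 54, 89, 90, 113] [20, 40, 64, 87, 104, 109, 112] (by decide +kernel) (C.pNil _ _))))))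
    (C.loop_of_one (relLoop1 C) _ _)

theorem f15313 : C.T (v18 C) [5, 42, 51, 83, 95, 109, 118] (v18 C) [22, 28, 63, 85, 107, 109] :=
  C.flip (f15312 C)

theorem f15314 : C.T (v4 C) [9, 38, 57, 76, 97, 110, 112] (v18 C) [25, 27, 55, 87, 105, 109, 121] :=
  C.conv (f7446 C) (f7469 C) (f7469 C) _ [131, 150, 167, 174, 177] _ (by decide +kernel) (by decide +kernel) (by decide +kernel)

theorem f15315 : C.S (v4 C) [23, 45, 57, 77, 95, 110, 118] :=
  C.stMul (f407 C) (f14958 C) _ (by decide +kernel)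

theorem f15316 : C.T (v4 C) [15, 53, 75, 106, 109, 125] (v17 C) [46, 59, 84, 95, 110] :=
  C.conv (f5167 C) (f421 C) (f15315 C) _ [135, 152, 164, 175, 177] _ (by decide +kernel) (by decide +kernel) (by decide +kernel)

theorem f15317 : C.T (v17 C) [46, 59, 84, 95, 110] (v4 C) [15, 53, 75, 106, 109, 125] :=
  C.flip (f15316 C)

theorem f15318 : C.S (v17 C) [23, 31, 49, 84, 96, 117] :=
  C.stMul (f4137 C) (f4137 C) _ (by decide +kernel)

theorem f15319 : C.T (v17 C) [8, 37, 51, 78, 106, 122] (v18 C) [17, 44, 56, 83, 95, 110, 125] :=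
  C.conv (f10730 C) (f15318 C) (f4300 C) _ [133, 169, 176, 178] _ (by decide +kernel) (by decide +kernel) (by decide +kernel)

theorem f15320 : C.T (v18 C) [17, 44, 56, 83, 95, 110, 125] (v17 C) [8, 37, 51, 78, 106, 122] :=
  C.flip (f15319 C)

theorem f15321 : C.T (v18 C) [9, 38, 52, 87, 108, 115] (v18 C) [19, 28, 55, 85, 104, 110, 113] :=
  C.closeT (p := (v4 C)) (pu := [9, 38, 57, 76, 97, 110, 112])
    (C.pT (f15314 C)
    (C.pH [8, 30, 65, 84, 94, 117] [9, 38, 52, 87, 108, 115] (by decide +kernel) (C.pNil _ _)))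
    (C.pH [26, 38, 54, 89, 90, 113] [17, 44, 56, 83, 95, 110, 125] (by decide +kernel)
    (C.pT (f15320 C)
    (C.pH [8, 30, 65, 84, 94, 117] [46, 59, 84, 95, 110] (by decide +kernel)
    (C.pT (f15317 C)
    (C.pH [26, 38, 54, 89, 90, 113] [9, 38, 57, 76, 97, 110, 112] (by decide +kernel) (C.pNil _ _))))))
    (C.loop_of_one (relLoop1 C) _ _)

theorem f15325 : C.T (v4 C) [17, 34, 60, 84, 110, 124] (v18 C) [5, 36, 59, 89, 103, 109, 120] :=
  C.conv (f7487 C) (f8474 C) (f8474 C) _ [128, 151, 173, 178] _ (by decide +kernel) (by decide +kernel) (by decide +kernel)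

theorem f15326 : C.T (v18 C) [12, 38, 65, 84, 95, 109] (v17 C) [9, 48, 54, 82, 98, 110, 116] :=
  C.conv (f11546 C) (f11610 C) (f7121 C) _ [141, 168, 176, 178] _ (by decide +kernel) (by decide +kernel) (by decide +kernel)

theorem f15327 : C.S (v4 C) [23, 45, 57, 77, 95, 110, 118] :=
  C.stMul (f407 C) (f15279 C) _ (by decide +kernel)

theorem f15328 : C.S (v4 C) [16, 46, 68, 72, 103, 110, 111] :=
  C.stMul (f693 C) (f15327 C) _ (by decide +kernel)

theorem f15329 : C.T (v4 C) [19, 33, 68, 81, 96, 110, 116] (v18 C) [5, 39, 61, 70, 110, 117] :=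
  C.conv (f10219 C) (f421 C) (f15328 C) _ [148, 149, 164, 176] _ (by decide +kernel) (by decide +kernel) (by decide +kernel)

theorem f15330 : C.T (v18 C) [5, 39, 61, 70, 110, 117] (v4 C) [19, 33, 68, 81, 96, 110, 116] :=
  C.flip (f15329 C)

theorem f15331 : C.T (v17 C) [22, 29, 50, 75, 91, 110, 114] (v18 C) [14, 33, 54, 86, 90, 110, 121] :=
  C.closeT (p := (v4 C)) (pu := [17, 34, 60, 84, 110, 124])
    (C.pT (f15325 C)
    (C.pH [8, 30, 65, 84, 94, 117] [12, 38, 65, 84, 95, 109] (by decide +kernel)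
    (C.pT (f15326 C)
    (C.pH [26, 38, 54, 89, 90, 113] [22, 29, 50, 75, 91, 110, 114] (by decide +kernel) (C.pNil _ _)))))
    (C.pH [8, 30, 65, 84, 94, 117] [5, 39, 61, 70, 110, 117] (by decide +kernel)
    (C.pT (f15330 C)
    (C.pH [26, 38, 54, 89, 90, 113] [17, 34, 60, 84, 110, 124] (by decide +kernel) (C.pNil _ _))))
    (C.loop_of_one (relLoop1 C) _ _)

theorem f15332 : C.T (v18 C) [14, 33, 54, 86, 90, 110, 121] (v17 C) [22, 29, 50, 75, 91, 110, 114] :=
  C.flip (f15331 C)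

theorem f15333 : C.T (v4 C) [19, 30, 58, 109, 112] (v18 C) [21, 47, 55, 86, 100, 110] :=
  C.conv (f7520 C) (f8781 C) (f8781 C) _ [129, 153, 170, 177] _ (by decide +kernel) (by decide +kernel) (by decide +kernel)

theorem f15334 : C.T (v4 C) [22, 35, 69, 88, 91, 110, 111] (v15 C) [14, 35, 60, 79, 97, 112] :=
  C.conv (f2662 C) (f2712 C) (f2905 C) _ [126, 150, 170, 175, 177] _ (by decide +kernel) (by decide +kernel) (by decide +kernel)

theorem f15335 : C.T (v15 C) [14, 35, 60, 79, 97, 112] (v4 C) [22, 35, 69, 88, 91, 110, 111] :=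
  C.flip (f15334 C)

theorem f15336 : C.S (v15 C) [20, 39, 55, 88, 95, 110, 125] :=
  C.stMul (f2581 C) (f2565 C) _ (by decide +kernel)

theorem f15337 : C.S (v15 C) [34, 69, 79, 92, 114] :=
  C.stMul (f2565 C) (f15336 C) _ (by decide +kernel)

theorem f15338 : C.T (v15 C) [26, 29, 57, 82, 105, 115] (v18 C) [21, 34, 55, 88, 98, 109, 116] :=
  C.conv (f11906 C) (f15067 C) (f15337 C) _ [147, 158, 166, 173, 177] _ (by decide +kernel) (by decide +kernel) (by decide +kernel)

theorem f15339 : C.T (v18 C) [21, 34, 55, 88, 98, 109, 116] (v15 C) [26, 29, 57, 82, 105, 115] :=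
  C.flip (f15338 C)

theorem f15340 : C.T (v18 C) [24, 40, 72, 96, 109, 115] (v18 C) [10, 47, 57, 72, 110, 116] :=
  C.closeT (p := (v4 C)) (pu := [19, 30, 58, 109, 112])
    (C.pT (f15333 C)
    (C.pH [8, 30, 65, 84, 94, 117] [24, 40, 72, 96, 109, 115] (by decide +kernel) (C.pNil _ _)))
    (C.pH [26, 38, 54, 89, 90, 113] [21, 34, 55, 88, 98, 109, 116] (by decide +kernel)
    (C.pT (f15339 C)
    (C.pH [8, 30, 65, 84, 94, 117] [14, 35, 60, 79, 97, 112] (by decide +kernel)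
    (C.pT (f15335 C)
    (C.pH [26, 38, 54, 89, 90, 113] [19, 30, 58, 109, 112] (by decide +kernel) (C.pNil _ _))))))
    (C.loop_of_one (relLoop1 C) _ _)

theorem f15343 : C.T (v4 C) [22, 35, 60, 87, 108, 110, 125] (v18 C) [22, 45, 49, 74, 102, 110, 111] :=
  C.conv (f7575 C) (f7630 C) (f7630 C) _ [128, 152, 167, 176] _ (by decide +kernel) (by decide +kernel) (by decide +kernel)

theorem f15344 : C.T (v4 C) [9, 27, 61, 74, 99, 110, 114] (v15 C) [20, 41, 55, 73, 94, 110, 111] :=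
  C.conv (f2613 C) (f2621 C) (f2872 C) _ [140, 155, 164, 175] _ (by decide +kernel) (by decide +kernel) (by decide +kernel)

theorem f15345 : C.T (v15 C) [20, 41, 55, 73, 94, 110, 111] (v4 C) [9, 27, 61, 74, 99, 110, 114] :=
  C.flip (f15344 C)

theorem f15346 : C.T (v15 C) [16, 33, 61, 71, 97, 110, 114] (v18 C) [9, 36, 53, 73, 101, 121] :=
  C.conv (f10495 C) (f14874 C) (f2652 C) _ [161, 173, 177] _ (by decide +kernel) (by decide +kernel) (by decide +kernel)

theorem f15347 : C.T (v18 C) [9, 36, 53, 73, 101, 121] (v15 C) [16, 33, 61, 71, 97, 110, 114] :=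
  C.flip (f15346 C)

theorem f15348 : C.T (v18 C) [6, 40, 61, 75, 106, 109] (v18 C) [15, 30, 52, 75, 102, 111] :=
  C.closeT (p := (v4 C)) (pu := [22, 35, 60, 87, 108, 110, 125])
    (C.pT (f15343 C)
    (C.pH [8, 30, 65, 84, 94, 117] [6, 40, 61, 75, 106, 109] (by decide +kernel) (C.pNil _ _)))
    (C.pH [26, 38, 54, 89, 90, 113] [9, 36, 53, 73, 101, 121] (by decide +kernel)
    (C.pT (f15347 C)
    (C.pH [8, 30, 65, 84, 94, 117] [20, 41, 55, 73, 94, 110, 111] (by decide +kernel)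
    (C.pT (f15345 C)
    (C.pH [26, 38, 54, 89, 90, 113] [22, 35, 60, 87, 108, 110, 125] (by decide +kernel) (C.pNil _ _))))))
    (C.loop_of_one (relLoop1 C) _ _)

theorem f15349 : C.T (v18 C) [15, 30, 52, 75, 102, 111] (v18 C) [6, 40, 61, 75, 106, 109] :=
  C.flip (f15348 C)

theorem f15350 : C.T (v4 C) [24, 38, 52, 75, 106, 110, 120] (v18 C) [24, 34, 57, 83, 104, 109, 125] :=
  C.conv (f7575 C) (f7630 C) (f7630 C) _ [163, 169, 175] _ (by decide +kernel) (by decide +kernel) (by decide +kernel)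

theorem f15351 : C.S (v4 C) [25, 47, 59, 76, 103, 109, 113] :=
  C.stMul (f421 C) (f14291 C) _ (by decide +kernel)

theorem f15352 : C.S (v4 C) [13, 41, 65, 83, 103, 110, 118] :=
  C.stMul (f693 C) (f15351 C) _ (by decide +kernel)

theorem f15353 : C.S (v4 C) [21, 41, 64, 81, 97, 110, 115] :=
  C.stMul (f421 C) (f15352 C) _ (by decide +kernel)

theorem f15354 : C.T (v4 C) [11, 28, 53, 77, 106, 110] (v17 C) [19, 41, 62, 88, 107] :=
  C.conv (f5526 C) (f407 C) (f15353 C) _ [134, 165, 176, 178] _ (by decide +kernel) (by decide +kernel) (by decide +kernel)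

theorem f15355 : C.T (v17 C) [19, 41, 62, 88, 107] (v4 C) [11, 28, 53, 77, 106, 110] :=
  C.flip (f15354 C)

theorem f15356 : C.S (v17 C) [23, 31, 49, 84, 96, 117] :=
  C.stMul (f4137 C) (f4137 C) _ (by decide +kernel)

theorem f15357 : C.T (v17 C) [15, 34, 67, 75, 93, 112] (v18 C) [15, 48, 58, 78, 109, 115] :=
  C.conv (f9888 C) (f4132 C) (f15356 C) _ [146, 156, 168, 173] _ (by decide +kernel) (by decide +kernel) (by decide +kernel)

theorem f15358 : C.T (v18 C) [15, 48, 58, 78, 109, 115] (v17 C) [15, 34, 67, 75, 93, 112] :=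
  C.flip (f15357 C)

theorem f15359 : C.T (v18 C) [16, 37, 49, 73, 96, 110, 116] (v18 C) [20, 41, 54, 73, 106, 109, 121] :=
  C.closeT (p := (v4 C)) (pu := [24, 38, 52, 75, 106, 110, 120])
    (C.pT (f15350 C)
    (C.pH [8, 30, 65, 84, 94, 117] [16, 37, 49, 73, 96, 110, 116] (by decide +kernel) (C.pNil _ _)))
    (C.pH [26, 38, 54, 89, 90, 113] [15, 48, 58, 78, 109, 115] (by decide +kernel)
    (C.pT (f15358 C)
    (C.pH [8, 30, 65, 84, 94, 117] [19, 41, 62, 88, 107] (by decide +kernel)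
    (C.pT (f15355 C)
    (C.pH [26, 38, 54, 89, 90, 113] [24, 38, 52, 75, 106, 110, 120] (by decide +kernel) (C.pNil _ _))))))
    (C.loop_of_one (relLoop1 C) _ _)

theorem f15363 : C.T (v4 C) [9, 33, 56, 78, 103, 109, 120] (v18 C) [21, 46, 59, 76, 95, 113] :=
  C.conv (f7605 C) (f8757 C) (f8757 C) _ [131, 156, 168, 174] _ (by decide +kernel) (by decide +kernel) (by decide +kernel)

theorem f15364 : C.S (v4 C) [17, 35, 66, 70, 95] :=
  C.stMul (f421 C) (f407 C) _ (by decide +kernel)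

theorem f15365 : C.S (v4 C) [26, 44, 64, 94, 121] :=
  C.stMul (f693 C) (f15364 C) _ (by decide +kernel)

theorem f15366 : C.S (v4 C) [23, 27, 56, 70, 98, 125] :=
  C.stMul (f421 C) (f15365 C) _ (by decide +kernel)

theorem f15367 : C.T (v4 C) [15, 46, 65, 79, 90, 109] (v18 C) [8, 42, 65, 87, 107, 113] :=
  C.conv (f13463 C) (f13841 C) (f15366 C) _ [126, 156, 170, 174, 178] _ (by decide +kernel) (by decide +kernel) (by decide +kernel)

theorem f15368 : C.T (v18 C) [8, 42, 65, 87, 107, 113] (v4 C) [15, 46, 65, 79, 90, 109] :=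
  C.flip (f15367 C)

theorem f15369 : C.S (v18 C) [26, 43, 49, 77, 91, 110, 115] :=
  C.stMul (f6836 C) (f6836 C) _ (by decide +kernel)

theorem f15370 : C.T (v18 C) [46, 55, 85, 90, 110, 117] (v18 C) [23, 55, 94, 109, 118] :=
  C.conv (f11914 C) (f15369 C) (f7121 C) _ [140, 159, 167, 171] _ (by decide +kernel) (by decide +kernel) (by decide +kernel)

theorem f15371 : C.T (v18 C) [23, 55, 94, 109, 118] (v18 C) [46, 55, 85, 90, 110, 117] :=
  C.flip (f15370 C)

theorem f15372 : C.T (v18 C) [24, 39, 58, 74, 99, 109] (v18 C) [13, 30, 55, 78, 108, 114] :=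
  C.closeT (p := (v4 C)) (pu := [9, 33, 56, 78, 103, 109, 120])
    (C.pT (f15363 C)
    (C.pH [8, 30, 65, 84, 94, 117] [24, 39, 58, 74, 99, 109] (by decide +kernel) (C.pNil _ _)))
    (C.pH [26, 38, 54, 89, 90, 113] [23, 55, 94, 109, 118] (by decide +kernel)
    (C.pT (f15371 C)
    (C.pH [8, 30, 65, 84, 94, 117] [8, 42, 65, 87, 107, 113] (by decide +kernel)
    (C.pT (f15368 C)
    (C.pH [26, 38, 54, 89, 90, 113] [9, 33, 56, 78, 103, 109, 120] (by decide +kernel) (C.pNil _ _))))))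
    (C.loop_of_one (relLoop1 C) _ _)

theorem f15376 : C.T (v4 C) [25, 35, 51, 86, 99, 110, 111] (v18 C) [13, 34, 61, 73, 95, 110, 120] :=
  C.conv (f7605 C) (f8757 C) (f8757 C) _ [147, 150, 168, 172] _ (by decide +kernel) (by decide +kernel) (by decide +kernel)

theorem f15377 : C.S (v4 C) [8, 31, 60, 85, 98, 110, 125] :=
  C.stMul (f693 C) (f407 C) _ (by decide +kernel)

theorem f15378 : C.T (v4 C) [4, 45, 63, 89, 95, 110, 122] (v18 C) [16, 36, 65, 87, 96, 109, 122] :=
  C.conv (f13456 C) (f421 C) (f15377 C) _ [130, 159, 165, 175, 178] _ (by decide +kernel) (by decide +kernel) (by decide +kernel)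

theorem f15379 : C.T (v18 C) [16, 36, 65, 87, 96, 109, 122] (v4 C) [4, 45, 63, 89, 95, 110, 122] :=
  C.flip (f15378 C)

theorem f15380 : C.S (v18 C) [26, 43, 49, 77, 91, 110, 115] :=
  C.stMul (f6836 C) (f6836 C) _ (by decide +kernel)

theorem f15381 : C.T (v18 C) [24, 28, 67, 75, 95, 110, 115] (v18 C) [21, 29, 49, 71, 94, 110, 124] :=
  C.conv (f13152 C) (f15380 C) (f6836 C) _ [129, 153, 165, 176, 177] _ (by decide +kernel) (by decide +kernel) (by decide +kernel)

theorem f15382 : C.T (v18 C) [21, 29, 49, 71, 94, 110, 124] (v18 C) [24, 28, 67, 75, 95, 110, 115] :=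
  C.flip (f15381 C)

theorem f15383 : C.T (v18 C) [11, 29, 55] (v18 C) [10, 27, 54, 88, 107, 110, 115] :=
  C.closeT (p := (v4 C)) (pu := [25, 35, 51, 86, 99, 110, 111])
    (C.pT (f15376 C)
    (C.pH [8, 30, 65, 84, 94, 117] [11, 29, 55] (by decide +kernel) (C.pNil _ _)))
    (C.pH [26, 38, 54, 89, 90, 113] [21, 29, 49, 71, 94, 110, 124] (by decide +kernel)
    (C.pT (f15382 C)
    (C.pH [8, 30, 65, 84, 94, 117] [16, 36, 65, 87, 96, 109, 122] (by decide +kernel)
    (C.pT (f15379 C)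
    (C.pH [26, 38, 54, 89, 90, 113] [25, 35, 51, 86, 99, 110, 111] (by decide +kernel) (C.pNil _ _))))))
    (C.loop_of_one (relLoop1 C) _ _)

theorem f15384 : C.T (v18 C) [10, 27, 54, 88, 107, 110, 115] (v18 C) [11, 29, 55] :=
  C.flip (f15383 C)

theorem f15385 : C.T (v4 C) [21, 69, 89, 105, 109, 125] (v18 C) [24, 32, 66, 98, 123] :=
  C.conv (f7860 C) (f693 C) (f693 C) _ [129, 158, 165, 175, 177] _ (by decide +kernel) (by decide +kernel) (by decide +kernel)

theorem f15386 : C.S (v4 C) [10, 42, 56, 80, 93, 109, 122] :=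
  C.stMul (f693 C) (f14473 C) _ (by decide +kernel)

theorem f15387 : C.T (v4 C) [10, 66, 89, 103, 123] (v17 C) [20, 38, 76, 104, 109, 122] :=
  C.conv (f5350 C) (f12155 C) (f15386 C) _ [136, 152, 170, 176] _ (by decide +kernel) (by decide +kernel) (by decide +kernel)

theorem f15388 : C.T (v17 C) [20, 38, 76, 104, 109, 122] (v4 C) [10, 66, 89, 103, 123] :=
  C.flip (f15387 C)

theorem f15389 : C.S (v17 C) [51, 81, 96, 109, 125] :=
  C.stMul (f4132 C) (f4137 C) _ (by decide +kernel)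

theorem f15390 : C.T (v17 C) [16, 27, 63, 82, 100, 110, 113] (v18 C) [21, 33, 65, 79, 100, 110, 123] :=
  C.conv (f9317 C) (f15389 C) (f4137 C) _ [131, 155, 167, 171] _ (by decide +kernel) (by decide +kernel) (by decide +kernel)

theorem f15391 : C.T (v18 C) [21, 33, 65, 79, 100, 110, 123] (v17 C) [16, 27, 63, 82, 100, 110, 113] :=
  C.flip (f15390 C)

theorem f15392 : C.T (v18 C) [16, 40, 57, 82, 104, 109, 112] (v18 C) [10, 31, 60, 83, 100, 112] :=
  C.closeT (p := (v4 C)) (pu := [21, 69, 89, 105, 109, 125])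
    (C.pT (f15385 C)
    (C.pH [8, 30, 65, 84, 94, 117] [16, 40, 57, 82, 104, 109, 112] (by decide +kernel) (C.pNil _ _)))
    (C.pH [26, 38, 54, 89, 90, 113] [21, 33, 65, 79, 100, 110, 123] (by decide +kernel)
    (C.pT (f15391 C)
    (C.pH [8, 30, 65, 84, 94, 117] [20, 38, 76, 104, 109, 122] (by decide +kernel)
    (C.pT (f15388 C)
    (C.pH [26, 38, 54, 89, 90, 113] [21, 69, 89, 105, 109, 125] (by decide +kernel) (C.pNil _ _))))))
    (C.loop_of_one (relLoop1 C) _ _)

theorem f15395 : C.T (v4 C) [5, 35, 54, 71, 103, 109, 118] (v18 C) [25, 32, 65, 106, 110, 121] :=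
  C.conv (f8339 C) (f8769 C) (f8769 C) _ [147, 162, 166, 175, 178] _ (by decide +kernel) (by decide +kernel) (by decide +kernel)

theorem f15396 : C.T (v18 C) [9, 45, 51, 74, 91] (v18 C) [23, 29, 50, 91, 112] :=
  C.conv (f10331 C) (f11809 C) (f7121 C) _ [147, 162, 166, 174] _ (by decide +kernel) (by decide +kernel) (by decide +kernel)

theorem f15397 : C.T (v4 C) [14, 30, 55, 82, 107, 110, 117] (v17 C) [24, 45, 62, 71, 105, 109, 113] :=
  C.conv (f5838 C) (f8414 C) (f407 C) _ [132, 155, 165, 171] _ (by decide +kernel) (by decide +kernel) (by decide +kernel)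

theorem f15398 : C.T (v17 C) [24, 45, 62, 71, 105, 109, 113] (v4 C) [14, 30, 55, 82, 107, 110, 117] :=
  C.flip (f15397 C)

theorem f15399 : C.T (v18 C) [7, 38, 57, 82, 90, 111] (v17 C) [21, 36, 65, 79, 91, 109, 113] :=
  C.closeT (p := (v4 C)) (pu := [5, 35, 54, 71, 103, 109, 118])
    (C.pT (f15395 C)
    (C.pH [8, 30, 65, 84, 94, 117] [9, 45, 51, 74, 91] (by decide +kernel)
    (C.pT (f15396 C)
    (C.pH [26, 38, 54, 89, 90, 113] [7, 38, 57, 82, 90, 111] (by decide +kernel) (C.pNil _ _)))))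
    (C.pH [8, 30, 65, 84, 94, 117] [24, 45, 62, 71, 105, 109, 113] (by decide +kernel)
    (C.pT (f15398 C)
    (C.pH [26, 38, 54, 89, 90, 113] [5, 35, 54, 71, 103, 109, 118] (by decide +kernel) (C.pNil _ _))))
    (C.loop_of_one (relLoop1 C) _ _)

theorem f15400 : C.T (v17 C) [21, 36, 65, 79, 91, 109, 113] (v18 C) [7, 38, 57, 82, 90, 111] :=
  C.flip (f15399 C)

theorem f15401 : C.T (v4 C) [18, 42, 68, 71, 105, 110, 125] (v18 C) [4, 43, 61, 82, 106, 112] :=
  C.conv (f8390 C) (f13475 C) (f13475 C) _ [156, 175, 178] _ (by decide +kernel) (by decide +kernel) (by decide +kernel)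

theorem f15402 : C.T (v4 C) [25, 35, 49, 89, 98, 114] (v17 C) [13, 40, 64, 88, 106, 109, 118] :=
  C.conv (f5849 C) (f13785 C) (f14393 C) _ [136, 152, 165, 175, 178] _ (by decide +kernel) (by decide +kernel) (by decide +kernel)

theorem f15403 : C.T (v17 C) [13, 40, 64, 88, 106, 109, 118] (v4 C) [25, 35, 49, 89, 98, 114] :=
  C.flip (f15402 C)

theorem f15404 : C.S (v17 C) [23, 31, 49, 84, 96, 117] :=
  C.stMul (f4137 C) (f4137 C) _ (by decide +kernel)

theorem f15405 : C.T (v17 C) [6, 42, 65, 81, 106, 120] (v18 C) [6, 34, 54, 85, 106, 112] :=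
  C.conv (f7068 C) (f15404 C) (f4300 C) _ [143, 156, 178] _ (by decide +kernel) (by decide +kernel) (by decide +kernel)

theorem f15406 : C.T (v18 C) [6, 34, 54, 85, 106, 112] (v17 C) [6, 42, 65, 81, 106, 120] :=
  C.flip (f15405 C)

theorem f15407 : C.T (v18 C) [25, 41, 62, 75, 98, 110, 123] (v18 C) [21, 57, 84, 103, 109, 120] :=
  C.closeT (p := (v4 C)) (pu := [18, 42, 68, 71, 105, 110, 125])
    (C.pT (f15401 C)
    (C.pH [8, 30, 65, 84, 94, 117] [25, 41, 62, 75, 98, 110, 123] (by decide +kernel) (C.pNil _ _)))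
    (C.pH [26, 38, 54, 89, 90, 113] [6, 34, 54, 85, 106, 112] (by decide +kernel)
    (C.pT (f15406 C)
    (C.pH [8, 30, 65, 84, 94, 117] [13, 40, 64, 88, 106, 109, 118] (by decide +kernel)
    (C.pT (f15403 C)
    (C.pH [26, 38, 54, 89, 90, 113] [18, 42, 68, 71, 105, 110, 125] (by decide +kernel) (C.pNil _ _))))))
    (C.loop_of_one (relLoop1 C) _ _)

theorem f15411 : C.T (v4 C) [13, 47, 63, 82, 93, 110, 119] (v18 C) [22, 32, 56, 70, 107, 119] :=
  C.conv (f8390 C) (f13475 C) (f13475 C) _ [146, 149, 170, 175] _ (by decide +kernel) (by decide +kernel) (by decide +kernel)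

theorem f15412 : C.S (v4 C) [10, 27, 56, 84, 93, 109, 113] :=
  C.stMul (f407 C) (f421 C) _ (by decide +kernel)

theorem f15413 : C.S (v4 C) [25, 47, 59, 76, 103, 109, 113] :=
  C.stMul (f421 C) (f15412 C) _ (by decide +kernel)

theorem f15414 : C.S (v4 C) [13, 41, 65, 83, 103, 110, 118] :=
  C.stMul (f693 C) (f15413 C) _ (by decide +kernel)

theorem f15415 : C.S (v4 C) [21, 41, 64, 81, 97, 110, 115] :=
  C.stMul (f421 C) (f15414 C) _ (by decide +kernel)

theorem f15416 : C.T (v4 C) [16, 45, 49, 88, 95, 110, 123] (v18 C) [24, 46, 57, 70, 105, 110, 115] :=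
  C.conv (f7575 C) (f7630 C) (f15415 C) _ [127, 153, 166, 175, 178] _ (by decide +kernel) (by decide +kernel) (by decide +kernel)

theorem f15417 : C.T (v18 C) [24, 46, 57, 70, 105, 110, 115] (v4 C) [16, 45, 49, 88, 95, 110, 123] :=
  C.flip (f15416 C)

theorem f15418 : C.S (v18 C) [26, 43, 49, 77, 91, 110, 115] :=
  C.stMul (f6836 C) (f6836 C) _ (by decide +kernel)

theorem f15419 : C.T (v18 C) [21, 42, 63, 76, 103, 110, 122] (v18 C) [13, 47, 75, 97, 114] :=
  C.conv (f9519 C) (f15418 C) (f15418 C) _ [141, 152, 170, 172] _ (by decide +kernel) (by decide +kernel) (by decide +kernel)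

theorem f15420 : C.T (v18 C) [13, 47, 75, 97, 114] (v18 C) [21, 42, 63, 76, 103, 110, 122] :=
  C.flip (f15419 C)

theorem f15421 : C.T (v18 C) [6, 47, 56, 85, 106, 113] (v18 C) [16, 45, 66, 85, 108, 125] :=
  C.closeT (p := (v4 C)) (pu := [13, 47, 63, 82, 93, 110, 119])
    (C.pT (f15411 C)
    (C.pH [8, 30, 65, 84, 94, 117] [6, 47, 56, 85, 106, 113] (by decide +kernel) (C.pNil _ _)))
    (C.pH [26, 38, 54, 89, 90, 113] [13, 47, 75, 97, 114] (by decide +kernel)
    (C.pT (f15420 C)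
    (C.pH [8, 30, 65, 84, 94, 117] [24, 46, 57, 70, 105, 110, 115] (by decide +kernel)
    (C.pT (f15417 C)
    (C.pH [26, 38, 54, 89, 90, 113] [13, 47, 63, 82, 93, 110, 119] (by decide +kernel) (C.pNil _ _))))))
    (C.loop_of_one (relLoop1 C) _ _)

theorem f15425 : C.T (v4 C) [25, 45, 60, 85, 104, 109, 123] (v18 C) [15, 44, 53, 80, 94, 109, 113] :=
  C.conv (f8547 C) (f8550 C) (f8550 C) _ [130, 153, 167, 174, 178] _ (by decide +kernel) (by decide +kernel) (by decide +kernel)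

theorem f15426 : C.S (v4 C) [10, 27, 56, 84, 93, 109, 113] :=
  C.stMul (f407 C) (f421 C) _ (by decide +kernel)

theorem f15427 : C.S (v4 C) [16, 32, 68, 79, 93, 110, 124] :=
  C.stMul (f407 C) (f15426 C) _ (by decide +kernel)

theorem f15428 : C.S (v4 C) [18, 44, 51, 79, 106, 114] :=
  C.stMul (f421 C) (f15427 C) _ (by decide +kernel)

theorem f15429 : C.T (v4 C) [4, 46, 65, 82, 92, 109, 121] (v18 C) [10, 27, 62, 88, 91, 119] :=
  C.conv (f7520 C) (f8781 C) (f15428 C) _ [148, 153, 167, 172] _ (by decide +kernel) (by decide +kernel) (by decide +kernel)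

theorem f15430 : C.T (v18 C) [10, 27, 62, 88, 91, 119] (v4 C) [4, 46, 65, 82, 92, 109, 121] :=
  C.flip (f15429 C)

theorem f15431 : C.T (v18 C) [23, 45, 63, 79, 106, 109, 121] (v18 C) [18, 27, 52, 72, 105, 110, 116] :=
  C.conv (f14894 C) (f7121 C) (f6836 C) _ [139, 153, 166, 174, 177] _ (by decide +kernel) (by decide +kernel) (by decide +kernel)

theorem f15432 : C.T (v18 C) [18, 27, 52, 72, 105, 110, 116] (v18 C) [23, 45, 63, 79, 106, 109, 121] :=
  C.flip (f15431 C)

theorem f15433 : C.T (v18 C) [19, 29, 65, 80, 98, 125] (v18 C) [25, 31, 59, 79, 99, 122] :=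
  C.closeT (p := (v4 C)) (pu := [25, 45, 60, 85, 104, 109, 123])
    (C.pT (f15425 C)
    (C.pH [8, 30, 65, 84, 94, 117] [19, 29, 65, 80, 98, 125] (by decide +kernel) (C.pNil _ _)))
    (C.pH [26, 38, 54, 89, 90, 113] [18, 27, 52, 72, 105, 110, 116] (by decide +kernel)
    (C.pT (f15432 C)
    (C.pH [8, 30, 65, 84, 94, 117] [10, 27, 62, 88, 91, 119] (by decide +kernel)
    (C.pT (f15430 C)
    (C.pH [26, 38, 54, 89, 90, 113] [25, 45, 60, 85, 104, 109, 123] (by decide +kernel) (C.pNil _ _))))))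
    (C.loop_of_one (relLoop1 C) _ _)

theorem f15434 : C.T (v18 C) [25, 31, 59, 79, 99, 122] (v18 C) [19, 29, 65, 80, 98, 125] :=
  C.flip (f15433 C)

theorem f15435 : C.T (v4 C) [21, 27, 57, 74, 104, 124] (v18 C) [30, 69, 79, 104, 109, 121] :=
  C.conv (f10219 C) (f421 C) (f421 C) _ [129, 150, 165, 173, 177] _ (by decide +kernel) (by decide +kernel) (by decide +kernel)

theorem f15436 : C.S (v4 C) [18, 46, 49, 75, 97, 110, 118] :=
  C.stMul (f407 C) (f407 C) _ (by decide +kernel)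

theorem f15437 : C.S (v4 C) [10, 42, 56, 80, 93, 109, 122] :=
  C.stMul (f693 C) (f15436 C) _ (by decide +kernel)

theorem f15438 : C.T (v4 C) [10, 35, 68, 88, 94, 109, 122] (v4 C) [22, 31, 51, 88, 103, 109, 116] :=
  C.conv (f517 C) (f723 C) (f15437 C) _ [136, 162, 170, 173, 177] _ (by decide +kernel) (by decide +kernel) (by decide +kernel)

theorem f15439 : C.T (v4 C) [22, 31, 51, 88, 103, 109, 116] (v4 C) [10, 35, 68, 88, 94, 109, 122] :=
  C.flip (f15438 C)

theorem f15440 : C.S (v4 C) [8, 31, 60, 85, 98, 110, 125] :=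
  C.stMul (f693 C) (f407 C) _ (by decide +kernel)

theorem f15441 : C.S (v4 C) [42, 63, 82, 91, 110, 125] :=
  C.stMul (f421 C) (f15440 C) _ (by decide +kernel)

theorem f15442 : C.T (v4 C) [17, 47, 83, 102, 118] (v18 C) [5, 39, 56, 87, 104, 109, 115] :=
  C.conv (f10822 C) (f14037 C) (f15441 C) _ [140, 152, 168, 172, 177] _ (by decide +kernel) (by decide +kernel) (by decide +kernel)

theorem f15443 : C.T (v18 C) [5, 39, 56, 87, 104, 109, 115] (v4 C) [17, 47, 83, 102, 118] :=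
  C.flip (f15442 C)

theorem f15444 : C.T (v18 C) [8, 28, 66, 71, 95, 109, 116] (v18 C) [14, 35, 65, 88, 105, 110, 119] :=
  C.closeT (p := (v4 C)) (pu := [21, 27, 57, 74, 104, 124])
    (C.pT (f15435 C)
    (C.pH [8, 30, 65, 84, 94, 117] [8, 28, 66, 71, 95, 109, 116] (by decide +kernel) (C.pNil _ _)))
    (C.pH [26, 38, 54, 89, 90, 113] [5, 39, 56, 87, 104, 109, 115] (by decide +kernel)
    (C.pT (f15443 C)
    (C.pH [8, 30, 65, 84, 94, 117] [22, 31, 51, 88, 103, 109, 116] (by decide +kernel)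
    (C.pT (f15439 C)
    (C.pH [26, 38, 54, 89, 90, 113] [21, 27, 57, 74, 104, 124] (by decide +kernel) (C.pNil _ _))))))
    (C.loop_of_one (relLoop1 C) _ _)

theorem f15447 : C.T (v4 C) [19, 43, 52, 83, 98, 109, 116] (v18 C) [13, 27, 85, 108, 110, 118] :=
  C.conv (f11160 C) (f13694 C) (f13694 C) _ [129, 159, 166, 175, 177] _ (by decide +kernel) (by decide +kernel) (by decide +kernel)

theorem f15448 : C.T (v4 C) [22, 48, 69, 82, 106, 110, 119] (v17 C) [24, 33, 54, 81, 105, 113] :=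
  C.conv (f4958 C) (f13703 C) (f14176 C) _ [126, 149, 169, 174, 178] _ (by decide +kernel) (by decide +kernel) (by decide +kernel)

theorem f15449 : C.T (v17 C) [24, 33, 54, 81, 105, 113] (v4 C) [22, 48, 69, 82, 106, 110, 119] :=
  C.flip (f15448 C)

theorem f15450 : C.T (v17 C) [21, 48, 52, 84, 96, 115] (v18 C) [11, 44, 64, 80, 108, 109, 112] :=
  C.conv (f7746 C) (f13046 C) (f13047 C) _ [140, 156, 173] _ (by decide +kernel) (by decide +kernel) (by decide +kernel)

theorem f15451 : C.T (v18 C) [11, 44, 64, 80, 108, 109, 112] (v17 C) [21, 48, 52, 84, 96, 115] :=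
  C.flip (f15450 C)

theorem f15452 : C.T (v18 C) [11, 39, 67, 73, 95, 109, 125] (v18 C) [8, 48, 65, 80, 103, 110, 116] :=
  C.closeT (p := (v4 C)) (pu := [19, 43, 52, 83, 98, 109, 116])
    (C.pT (f15447 C)
    (C.pH [8, 30, 65, 84, 94, 117] [11, 39, 67, 73, 95, 109, 125] (by decide +kernel) (C.pNil _ _)))
    (C.pH [26, 38, 54, 89, 90, 113] [11, 44, 64, 80, 108, 109, 112] (by decide +kernel)
    (C.pT (f15451 C)
    (C.pH [8, 30, 65, 84, 94, 117] [24, 33, 54, 81, 105, 113] (by decide +kernel)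
    (C.pT (f15449 C)
    (C.pH [26, 38, 54, 89, 90, 113] [19, 43, 52, 83, 98, 109, 116] (by decide +kernel) (C.pNil _ _))))))
    (C.loop_of_one (relLoop1 C) _ _)

theorem f15455 : C.T (v4 C) [22, 35, 52, 73, 108, 110, 119] (v4 C) [20, 34, 50, 86, 92, 110, 122] :=
  C.conv (f563 C) (f715 C) (f715 C) _ [145, 152, 169, 172, 177] _ (by decide +kernel) (by decide +kernel) (by decide +kernel)

theorem f15456 : C.S (v4 C) [26, 43, 63, 73, 104, 112] :=
  C.stMul (f421 C) (f13583 C) _ (by decide +kernel)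

theorem f15457 : C.S (v4 C) [25, 46, 61, 102, 110, 119] :=
  C.stMul (f407 C) (f15456 C) _ (by decide +kernel)

theorem f15458 : C.S (v4 C) [26, 42, 68, 71, 107, 109, 113] :=
  C.stMul (f407 C) (f15457 C) _ (by decide +kernel)

theorem f15459 : C.T (v4 C) [15, 40, 51, 76, 99, 116] (v18 C) [21, 33, 65, 71, 101, 109, 112] :=
  C.conv (f13468 C) (f13575 C) (f15458 C) _ [139, 151, 175, 177] _ (by decide +kernel) (by decide +kernel) (by decide +kernel)

theorem f15460 : C.T (v4 C) [17, 40, 62, 84, 92, 110, 120] (v18 C) [4, 50, 80, 108, 109, 114] :=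
  C.conv (f13468 C) (f13575 C) (f14614 C) _ [139, 151, 167, 173, 177] _ (by decide +kernel) (by decide +kernel) (by decide +kernel)

theorem f15461 : C.T (v18 C) [4, 50, 80, 108, 109, 114] (v4 C) [17, 40, 62, 84, 92, 110, 120] :=
  C.flip (f15460 C)

theorem f15462 : C.T (v18 C) [24, 52, 76, 107, 110, 115] (v18 C) [6, 29, 63, 70, 99, 110, 117] :=
  C.closeT (p := (v4 C)) (pu := [22, 35, 52, 73, 108, 110, 119])
    (C.pT (f15455 C)
    (C.pH [26, 38, 54, 89, 90, 113] [15, 40, 51, 76, 99, 116] (by decide +kernel)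
    (C.pT (f15459 C)
    (C.pH [8, 30, 65, 84, 94, 117] [24, 52, 76, 107, 110, 115] (by decide +kernel) (C.pNil _ _)))))
    (C.pH [26, 38, 54, 89, 90, 113] [4, 50, 80, 108, 109, 114] (by decide +kernel)
    (C.pT (f15461 C)
    (C.pH [8, 30, 65, 84, 94, 117] [22, 35, 52, 73, 108, 110, 119] (by decide +kernel) (C.pNil _ _))))
    (C.loop_of_one (relLoop2 C) _ _)

theorem f15465 : C.T (v4 C) [20, 34, 58, 85, 100, 110] (v4 C) [26, 31, 68, 108, 110, 121] :=
  C.conv (f955 C) (f957 C) (f957 C) _ [137, 157, 170, 178] _ (by decide +kernel) (by decide +kernel) (by decide +kernel)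

theorem f15466 : C.S (v4 C) [10, 44, 68, 74, 91, 110, 116] :=
  C.stMul (f693 C) (f14004 C) _ (by decide +kernel)

theorem f15467 : C.T (v4 C) [16, 35, 49, 78, 96, 109, 111] (v18 C) [17, 38, 77, 96, 109, 112] :=
  C.conv (f8516 C) (f12206 C) (f15466 C) _ [147, 152, 169, 177] _ (by decide +kernel) (by decide +kernel) (by decide +kernel)

theorem f15468 : C.T (v4 C) [16, 38, 69, 88, 90, 110, 120] (v18 C) [17, 30, 67, 73, 106, 110] :=
  C.conv (f8516 C) (f12206 C) (f693 C) _ [128, 169, 176, 177] _ (by decide +kernel) (by decide +kernel) (by decide +kernel)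

theorem f15469 : C.T (v18 C) [17, 30, 67, 73, 106, 110] (v4 C) [16, 38, 69, 88, 90, 110, 120] :=
  C.flip (f15468 C)

theorem f15470 : C.T (v18 C) [22, 27, 53, 79, 92, 109, 125] (v18 C) [19, 35, 68, 89, 90, 109, 117] :=
  C.closeT (p := (v4 C)) (pu := [20, 34, 58, 85, 100, 110])
    (C.pT (f15465 C)
    (C.pH [26, 38, 54, 89, 90, 113] [16, 35, 49, 78, 96, 109, 111] (by decide +kernel)
    (C.pT (f15467 C)
    (C.pH [8, 30, 65, 84, 94, 117] [22, 27, 53, 79, 92, 109, 125] (by decide +kernel) (C.pNil _ _)))))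
    (C.pH [26, 38, 54, 89, 90, 113] [17, 30, 67, 73, 106, 110] (by decide +kernel)
    (C.pT (f15469 C)
    (C.pH [8, 30, 65, 84, 94, 117] [20, 34, 58, 85, 100, 110] (by decide +kernel) (C.pNil _ _))))
    (C.loop_of_one (relLoop2 C) _ _)

theorem f15473 : C.T (v4 C) [13, 38, 67, 75, 98, 111] (v4 C) [18, 46, 50, 72, 92, 115] :=
  C.conv (f972 C) (f1194 C) (f1194 C) _ [135, 161, 164, 176] _ (by decide +kernel) (by decide +kernel) (by decide +kernel)

theorem f15474 : C.T (v4 C) [10, 40, 62, 81, 99, 116] (v18 C) [25, 29, 66, 72, 95] :=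
  C.conv (f10822 C) (f14037 C) (f697 C) _ [127, 155, 170, 174, 177] _ (by decide +kernel) (by decide +kernel) (by decide +kernel)

theorem f15475 : C.T (v4 C) [6, 37, 60, 89, 94, 109, 111] (v18 C) [24, 36, 51, 84, 99, 110, 113] :=
  C.conv (f7143 C) (f8330 C) (f13713 C) _ [146, 156, 165, 172] _ (by decide +kernel) (by decide +kernel) (by decide +kernel)

theorem f15476 : C.T (v18 C) [24, 36, 51, 84, 99, 110, 113] (v4 C) [6, 37, 60, 89, 94, 109, 111] :=
  C.flip (f15475 C)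

theorem f15477 : C.T (v18 C) [9, 33, 63, 86, 97, 112] (v18 C) [11, 44, 64, 76, 92, 110, 118] :=
  C.closeT (p := (v4 C)) (pu := [13, 38, 67, 75, 98, 111])
    (C.pT (f15473 C)
    (C.pH [26, 38, 54, 89, 90, 113] [10, 40, 62, 81, 99, 116] (by decide +kernel)
    (C.pT (f15474 C)
    (C.pH [8, 30, 65, 84, 94, 117] [9, 33, 63, 86, 97, 112] (by decide +kernel) (C.pNil _ _)))))
    (C.pH [26, 38, 54, 89, 90, 113] [24, 36, 51, 84, 99, 110, 113] (by decide +kernel)
    (C.pT (f15476 C)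
    (C.pH [8, 30, 65, 84, 94, 117] [13, 38, 67, 75, 98, 111] (by decide +kernel) (C.pNil _ _))))
    (C.loop_of_one (relLoop2 C) _ _)

theorem f15480 : C.T (v4 C) [10, 44, 49, 76, 98, 109] (v15 C) [16, 39, 50, 81, 108, 112] :=
  C.conv (f2728 C) (f2857 C) (f2857 C) _ [140, 152, 170, 175, 177] _ (by decide +kernel) (by decide +kernel) (by decide +kernel)

theorem f15481 : C.S (v15 C) [24, 47, 64, 83, 99, 109, 111] :=
  C.stMul (f2581 C) (f2569 C) _ (by decide +kernel)

theorem f15482 : C.S (v15 C) [31, 53, 71, 96, 116] :=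
  C.stMul (f2569 C) (f2569 C) _ (by decide +kernel)

theorem f15483 : C.T (v15 C) [13, 32, 69, 79, 103, 121] (v18 C) [8, 44, 53, 88, 105, 110, 115] :=
  C.conv (f11253 C) (f15481 C) (f15482 C) _ [142, 155, 170, 174, 177] _ (by decide +kernel) (by decide +kernel) (by decide +kernel)

theorem f15484 : C.S (v4 C) [23, 41, 49, 78, 91, 109] :=
  C.stMul (f693 C) (f421 C) _ (by decide +kernel)

theorem f15485 : C.S (v4 C) [26, 36, 62, 77, 94, 121] :=
  C.stMul (f421 C) (f15484 C) _ (by decide +kernel)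

theorem f15486 : C.S (v4 C) [25, 42, 55, 82, 95, 109] :=
  C.stMul (f407 C) (f15485 C) _ (by decide +kernel)

theorem f15487 : C.T (v4 C) [23, 42, 51, 89, 103, 122] (v18 C) [6, 44, 67, 85, 109, 119] :=
  C.conv (f6863 C) (f8698 C) (f15486 C) _ [130, 151, 164, 178] _ (by decide +kernel) (by decide +kernel) (by decide +kernel)

theorem f15488 : C.T (v18 C) [6, 44, 67, 85, 109, 119] (v4 C) [23, 42, 51, 89, 103, 122] :=
  C.flip (f15487 C)

theorem f15489 : C.T (v18 C) [39, 56, 86, 92, 110, 121] (v18 C) [21, 31, 61, 86, 103, 109, 123] :=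
  C.closeT (p := (v4 C)) (pu := [10, 44, 49, 76, 98, 109])
    (C.pT (f15480 C)
    (C.pH [26, 38, 54, 89, 90, 113] [13, 32, 69, 79, 103, 121] (by decide +kernel)
    (C.pT (f15483 C)
    (C.pH [8, 30, 65, 84, 94, 117] [39, 56, 86, 92, 110, 121] (by decide +kernel) (C.pNil _ _)))))
    (C.pH [26, 38, 54, 89, 90, 113] [6, 44, 67, 85, 109, 119] (by decide +kernel)
    (C.pT (f15488 C)
    (C.pH [8, 30, 65, 84, 94, 117] [10, 44, 49, 76, 98, 109] (by decide +kernel) (C.pNil _ _))))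
    (C.loop_of_one (relLoop2 C) _ _)

theorem f15492 : C.T (v4 C) [4, 35, 69, 92, 109, 113] (v17 C) [26, 30, 66, 70, 124] :=
  C.conv (f6475 C) (f697 C) (f697 C) _ [145, 152, 169, 172] _ (by decide +kernel) (by decide +kernel) (by decide +kernel)

theorem f15493 : C.S (v17 C) [23, 31, 49, 84, 96, 117] :=
  C.stMul (f4137 C) (f4137 C) _ (by decide +kernel)

theorem f15494 : C.T (v17 C) [16, 32, 69, 78, 105, 109, 113] (v15 C) [14, 42, 63, 95, 110, 119] :=
  C.conv (f6483 C) (f4137 C) (f15493 C) _ [133, 158, 164, 175, 178] _ (by decide +kernel) (by decide +kernel) (by decide +kernel)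

theorem f15495 : C.T (v4 C) [18, 29, 57, 77, 105, 110, 112] (v18 C) [7, 33, 53, 78, 101, 109, 119] :=
  C.conv (f13463 C) (f13841 C) (f14332 C) _ [148, 150, 174, 177] _ (by decide +kernel) (by decide +kernel) (by decide +kernel)

theorem f15496 : C.T (v18 C) [7, 33, 53, 78, 101, 109, 119] (v4 C) [18, 29, 57, 77, 105, 110, 112] :=
  C.flip (f15495 C)

theorem f15497 : C.T (v15 C) [5, 40, 62, 77, 106, 109, 125] (v18 C) [23, 33, 52, 74, 107, 118] :=
  C.closeT (p := (v4 C)) (pu := [4, 35, 69, 92, 109, 113])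
    (C.pT (f15492 C)
    (C.pH [26, 38, 54, 89, 90, 113] [16, 32, 69, 78, 105, 109, 113] (by decide +kernel)
    (C.pT (f15494 C)
    (C.pH [8, 30, 65, 84, 94, 117] [5, 40, 62, 77, 106, 109, 125] (by decide +kernel) (C.pNil _ _)))))
    (C.pH [26, 38, 54, 89, 90, 113] [7, 33, 53, 78, 101, 109, 119] (by decide +kernel)
    (C.pT (f15496 C)
    (C.pH [8, 30, 65, 84, 94, 117] [4, 35, 69, 92, 109, 113] (by decide +kernel) (C.pNil _ _))))
    (C.loop_of_one (relLoop2 C) _ _)

theorem f15498 : C.T (v18 C) [23, 33, 52, 74, 107, 118] (v15 C) [5, 40, 62, 77, 106, 109, 125] :=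
  C.flip (f15497 C)

theorem f15499 : C.T (v4 C) [7, 40, 73, 95, 109, 111] (v18 C) [16, 44, 67, 82, 95, 110, 111] :=
  C.conv (f8441 C) (f421 C) (f421 C) _ [127, 154, 169, 173, 178] _ (by decide +kernel) (by decide +kernel) (by decide +kernel)

theorem f15500 : C.T (v18 C) [13, 37, 50, 86, 107, 118] (v18 C) [18, 28, 69, 76, 105] :=
  C.conv (f13026 C) (f6836 C) (f6836 C) _ [143, 155, 175, 178] _ (by decide +kernel) (by decide +kernel) (by decide +kernel)

theorem f15501 : C.T (v4 C) [11, 28, 54, 87, 100, 109, 114] (v18 C) [4, 36, 86, 98, 121] :=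
  C.conv (f11160 C) (f13694 C) (f13958 C) _ [142, 153, 164, 173] _ (by decide +kernel) (by decide +kernel) (by decide +kernel)

theorem f15502 : C.T (v18 C) [4, 36, 86, 98, 121] (v4 C) [11, 28, 54, 87, 100, 109, 114] :=
  C.flip (f15501 C)

theorem f15503 : C.T (v18 C) [4, 43, 78, 94, 110, 112] (v18 C) [6, 35, 53, 72, 108, 110, 117] :=
  C.closeT (p := (v4 C)) (pu := [7, 40, 73, 95, 109, 111])
    (C.pT (f15499 C)
    (C.pH [26, 38, 54, 89, 90, 113] [13, 37, 50, 86, 107, 118] (by decide +kernel)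
    (C.pT (f15500 C)
    (C.pH [8, 30, 65, 84, 94, 117] [4, 43, 78, 94, 110, 112] (by decide +kernel) (C.pNil _ _)))))
    (C.pH [26, 38, 54, 89, 90, 113] [4, 36, 86, 98, 121] (by decide +kernel)
    (C.pT (f15502 C)
    (C.pH [8, 30, 65, 84, 94, 117] [7, 40, 73, 95, 109, 111] (by decide +kernel) (C.pNil _ _))))
    (C.loop_of_one (relLoop2 C) _ _)

theorem f15507 : C.T (v4 C) [5, 39, 59, 82, 103, 110, 124] (v18 C) [22, 41, 62, 74, 106, 110, 125] :=
  C.conv (f10083 C) (f13548 C) (f13548 C) _ [138, 151, 165, 174, 178] _ (by decide +kernel) (by decide +kernel) (by decide +kernel)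

theorem f15508 : C.T (v4 C) [14, 33, 49, 89, 94, 110, 112] (v17 C) [19, 32, 52, 72, 103, 117] :=
  C.conv (f4648 C) (f13689 C) (f697 C) _ [126, 163, 167, 174] _ (by decide +kernel) (by decide +kernel) (by decide +kernel)

theorem f15509 : C.T (v17 C) [19, 32, 52, 72, 103, 117] (v4 C) [14, 33, 49, 89, 94, 110, 112] :=
  C.flip (f15508 C)

theorem f15510 : C.S (v17 C) [23, 31, 49, 84, 96, 117] :=
  C.stMul (f4137 C) (f4137 C) _ (by decide +kernel)

theorem f15511 : C.T (v17 C) [22, 37, 57, 71, 104, 114] (v9 C) [17, 41, 51, 85, 92, 122] :=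
  C.conv (f5261 C) (f4132 C) (f15510 C) _ [133, 150, 168, 174, 177] _ (by decide +kernel) (by decide +kernel) (by decide +kernel)

theorem f15512 : C.T (v9 C) [17, 41, 51, 85, 92, 122] (v17 C) [22, 37, 57, 71, 104, 114] :=
  C.flip (f15511 C)

theorem f15513 : C.T (v18 C) [19, 38, 84, 101, 110, 125] (v9 C) [7, 35, 57, 72, 105, 110, 123] :=
  C.closeT (p := (v4 C)) (pu := [5, 39, 59, 82, 103, 110, 124])
    (C.pT (f15507 C)
    (C.pH [26, 38, 54, 89, 90, 113] [19, 38, 84, 101, 110, 125] (by decide +kernel) (C.pNil _ _)))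
    (C.pH [8, 30, 65, 84, 94, 117] [17, 41, 51, 85, 92, 122] (by decide +kernel)
    (C.pT (f15512 C)
    (C.pH [26, 38, 54, 89, 90, 113] [19, 32, 52, 72, 103, 117] (by decide +kernel)
    (C.pT (f15509 C)
    (C.pH [8, 30, 65, 84, 94, 117] [5, 39, 59, 82, 103, 110, 124] (by decide +kernel) (C.pNil _ _))))))
    (C.loop_of_one (relLoop2 C) _ _)

theorem f15514 : C.T (v9 C) [7, 35, 57, 72, 105, 110, 123] (v18 C) [19, 38, 84, 101, 110, 125] :=
  C.flip (f15513 C)

theorem f15515 : C.T (v4 C) [26, 33, 61, 84, 90, 121] (v18 C) [5, 38, 51, 75, 102, 109, 118] :=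
  C.conv (f10188 C) (f12045 C) (f12045 C) _ [133, 156, 166, 171] _ (by decide +kernel) (by decide +kernel) (by decide +kernel)

theorem f15516 : C.S (v4 C) [10, 38, 55, 71, 94, 110, 113] :=
  C.stMul (f421 C) (f14041 C) _ (by decide +kernel)

theorem f15517 : C.T (v4 C) [19, 31, 63, 84, 95, 110] (v18 C) [10, 28, 60, 74, 98, 109, 115] :=
  C.conv (f10822 C) (f14037 C) (f15516 C) _ [136, 158, 164, 172, 178] _ (by decide +kernel) (by decide +kernel) (by decide +kernel)

theorem f15518 : C.T (v18 C) [10, 28, 60, 74, 98, 109, 115] (v4 C) [19, 31, 63, 84, 95, 110] :=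
  C.flip (f15517 C)

theorem f15519 : C.T (v18 C) [18, 47, 65, 70, 95, 110, 121] (v18 C) [20, 48, 62, 82, 98, 110, 121] :=
  C.conv (f8372 C) (f6836 C) (f6836 C) _ [158, 165, 174] _ (by decide +kernel) (by decide +kernel) (by decide +kernel)

theorem f15520 : C.T (v18 C) [20, 48, 62, 82, 98, 110, 121] (v18 C) [18, 47, 65, 70, 95, 110, 121] :=
  C.flip (f15519 C)

theorem f15521 : C.T (v18 C) [8, 40, 54, 76, 100, 122] (v18 C) [16, 68, 75, 93, 109, 124] :=
  C.closeT (p := (v4 C)) (pu := [26, 33, 61, 84, 90, 121])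
    (C.pT (f15515 C)
    (C.pH [26, 38, 54, 89, 90, 113] [8, 40, 54, 76, 100, 122] (by decide +kernel) (C.pNil _ _)))
    (C.pH [8, 30, 65, 84, 94, 117] [20, 48, 62, 82, 98, 110, 121] (by decide +kernel)
    (C.pT (f15520 C)
    (C.pH [26, 38, 54, 89, 90, 113] [10, 28, 60, 74, 98, 109, 115] (by decide +kernel)
    (C.pT (f15518 C)
    (C.pH [8, 30, 65, 84, 94, 117] [26, 33, 61, 84, 90, 121] (by decide +kernel) (C.pNil _ _))))))
    (C.loop_of_one (relLoop2 C) _ _)

theorem f15525 : C.T (v10 C) [22, 34, 67, 106, 115] (v12 C) [17, 46, 61, 88, 97, 111] :=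
  C.conv (f2210 C) (f2213 C) (f2213 C) _ [138, 160, 170, 178] _ (by decide +kernel) (by decide +kernel) (by decide +kernel)

theorem f15526 : C.S (v10 C) [12, 36, 63, 82, 101, 109, 123] :=
  C.stMul (f1714 C) (f1699 C) _ (by decide +kernel)

theorem f15527 : C.S (v10 C) [20, 47, 60, 84] :=
  C.stMul (f1704 C) (f15526 C) _ (by decide +kernel)

theorem f15528 : C.S (v10 C) [22, 34, 56, 72, 106, 110, 125] :=
  C.stMul (f1704 C) (f1699 C) _ (by decide +kernel)

theorem f15529 : C.S (v10 C) [7, 41, 65, 80, 117] :=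
  C.stMul (f1722 C) (f15528 C) _ (by decide +kernel)

theorem f15530 : C.T (v10 C) [20, 46, 67, 100, 118] (v18 C) [21, 45, 53, 70, 106, 110, 122] :=
  C.conv (f13518 C) (f15527 C) (f15529 C) _ [143, 157, 170, 174] _ (by decide +kernel) (by decide +kernel) (by decide +kernel)

theorem f15531 : C.T (v18 C) [21, 45, 53, 70, 106, 110, 122] (v10 C) [20, 46, 67, 100, 118] :=
  C.flip (f15530 C)

theorem f15532 : C.T (v12 C) [25, 31, 67, 75, 107, 110, 118] (v18 C) [10, 45, 53, 84, 97, 110, 113] :=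
  C.closeT (p := (v10 C)) (pu := [22, 34, 67, 106, 115])
    (C.pT (f15525 C)
    (C.pH [12, 35, 50, 83] [25, 31, 67, 75, 107, 110, 118] (by decide +kernel) (C.pNil _ _)))
    (C.pH [12, 35, 50, 83] [21, 45, 53, 70, 106, 110, 122] (by decide +kernel)
    (C.pT (f15531 C)
    (C.pH [12, 35, 50, 83] [22, 34, 67, 106, 115] (by decide +kernel) (C.pNil _ _))))
    (C.loop_of_one (relLoop0 C) _ _)

theorem f15533 : C.T (v18 C) [10, 45, 53, 84, 97, 110, 113] (v12 C) [25, 31, 67, 75, 107, 110, 118] :=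
  C.flip (f15532 C)

theorem f15534 : C.T (v4 C) [23, 46, 56, 83, 103, 124] (v19 C) [] :=
  C.defn _ _

theorem f15535 : C.S (v4 C) [17, 35, 66, 70, 95] :=
  C.stMul (f421 C) (f407 C) _ (by decide +kernel)

theorem f15536 : C.S (v4 C) [13, 44, 51, 82, 106, 110, 111] :=
  C.stMul (f407 C) (f15535 C) _ (by decide +kernel)

theorem f15537 : C.S (v4 C) [23, 41, 49, 78, 91, 109] :=
  C.stMul (f693 C) (f421 C) _ (by decide +kernel)

theorem f15538 : C.S (v4 C) [25, 32, 52, 83, 96, 110, 121] :=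
  C.stInv (f15537 C) _ (by decide +kernel)

theorem f15539 : C.S (v4 C) [10, 44, 68, 74, 91, 110, 116] :=
  C.stMul (f15538 C) (f15536 C) _ (by decide +kernel)

theorem f15540 : C.S (v19 C) [12, 29, 63, 103, 119] :=
  C.transfer (f15534 C) (f15539 C) [134, 150, 168, 173] _ (by decide +kernel) (by decide +kernel) (by decide +kernel)

theorem f15541 : C.T (v19 C) [] (v4 C) [23, 46, 56, 83, 103, 124] :=
  C.flip (f15534 C)

theorem f15542 : C.T (v2 C) [6, 47, 59, 83, 90, 110, 120] (v4 C) [7, 27, 60, 76, 90, 125] :=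
  C.conv (f450 C) (f109 C) (f109 C) _ [132, 152, 167, 178] _ (by decide +kernel) (by decide +kernel) (by decide +kernel)

theorem f15543 : C.S (v4 C) [18, 46, 49, 75, 97, 110, 118] :=
  C.stMul (f407 C) (f407 C) _ (by decide +kernel)

theorem f15544 : C.S (v4 C) [16, 43, 64, 82, 90, 110, 123] :=
  C.stMul (f421 C) (f15543 C) _ (by decide +kernel)

theorem f15545 : C.S (v4 C) [12, 41, 63, 84, 102, 110, 115] :=
  C.stMul (f693 C) (f15544 C) _ (by decide +kernel)

theorem f15546 : C.T (v4 C) [17, 39, 60, 76, 90, 125] (v19 C) [11, 30, 67, 75, 92, 110, 118] :=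
  C.conv (f15534 C) (f697 C) (f15545 C) _ [133, 156, 165, 174] _ (by decide +kernel) (by decide +kernel) (by decide +kernel)

theorem f15547 : C.S (v2 C) [23, 47, 60, 84, 98, 111] :=
  C.stMul (f109 C) (f101 C) _ (by decide +kernel)

theorem f15548 : C.T (v2 C) [21, 32, 51, 110, 121] (v18 C) [6, 39, 58, 87, 100, 118] :=
  C.conv (f9873 C) (f9878 C) (f15547 C) _ [140, 158, 169, 174, 178] _ (by decide +kernel) (by decide +kernel) (by decide +kernel)

theorem f15549 : C.T (v18 C) [6, 39, 58, 87, 100, 118] (v2 C) [21, 32, 51, 110, 121] :=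
  C.flip (f15548 C)

theorem f15550 : C.T (v19 C) [24, 33, 50, 74, 94, 109, 123] (v18 C) [22, 42, 54, 78, 93, 110, 119] :=
  C.closeT (p := (v2 C)) (pu := [6, 47, 59, 83, 90, 110, 120])
    (C.pT (f15542 C)
    (C.pH [8, 30, 65, 84, 94, 117] [17, 39, 60, 76, 90, 125] (by decide +kernel)
    (C.pT (f15546 C)
    (C.pH [26, 38, 54, 89, 90, 113] [24, 33, 50, 74, 94, 109, 123] (by decide +kernel) (C.pNil _ _)))))
    (C.pH [8, 30, 65, 84, 94, 117] [6, 39, 58, 87, 100, 118] (by decide +kernel)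
    (C.pT (f15549 C)
    (C.pH [26, 38, 54, 89, 90, 113] [6, 47, 59, 83, 90, 110, 120] (by decide +kernel) (C.pNil _ _))))
    (C.loop_of_one (relLoop1 C) _ _)

theorem f15551 : C.T (v18 C) [22, 42, 54, 78, 93, 110, 119] (v19 C) [24, 33, 50, 74, 94, 109, 123] :=
  C.flip (f15550 C)

theorem f15552 : C.T (v2 C) [26, 43, 53, 80, 98, 113] (v18 C) [6, 57, 83, 102, 110, 125] :=
  C.conv (f6830 C) (f323 C) (f323 C) _ [128, 157, 166, 171] _ (by decide +kernel) (by decide +kernel) (by decide +kernel)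

theorem f15553 : C.T (v18 C) [13, 45, 59, 70, 101, 110, 117] (v19 C) [7, 36, 61, 74, 96, 110, 113] :=
  C.conv (f15551 C) (f6836 C) (f7121 C) _ [148, 151, 176, 177] _ (by decide +kernel) (by decide +kernel) (by decide +kernel)

theorem f15554 : C.S (v2 C) [6, 60, 83, 99, 110, 118] :=
  C.stMul (f115 C) (f8056 C) _ (by decide +kernel)

theorem f15555 : C.S (v2 C) [23, 47, 55, 81, 105, 109, 117] :=
  C.stMul (f125 C) (f15554 C) _ (by decide +kernel)

theorem f15556 : C.T (v2 C) [30, 61, 81, 95, 110, 120] (v18 C) [22, 29, 52, 82, 101, 109, 118] :=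
  C.conv (f6850 C) (f6867 C) (f15555 C) _ [142, 157, 165, 174, 178] _ (by decide +kernel) (by decide +kernel) (by decide +kernel)

theorem f15557 : C.T (v18 C) [22, 29, 52, 82, 101, 109, 118] (v2 C) [30, 61, 81, 95, 110, 120] :=
  C.flip (f15556 C)

theorem f15558 : C.T (v19 C) [32, 49, 79, 97, 109, 111] (v18 C) [17, 39, 58, 76, 90, 109, 120] :=
  C.closeT (p := (v2 C)) (pu := [26, 43, 53, 80, 98, 113])
    (C.pT (f15552 C)
    (C.pH [8, 30, 65, 84, 94, 117] [13, 45, 59, 70, 101, 110, 117] (by decide +kernel)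
    (C.pT (f15553 C)
    (C.pH [26, 38, 54, 89, 90, 113] [32, 49, 79, 97, 109, 111] (by decide +kernel) (C.pNil _ _)))))
    (C.pH [8, 30, 65, 84, 94, 117] [22, 29, 52, 82, 101, 109, 118] (by decide +kernel)
    (C.pT (f15557 C)
    (C.pH [26, 38, 54, 89, 90, 113] [26, 43, 53, 80, 98, 113] (by decide +kernel) (C.pNil _ _))))
    (C.loop_of_one (relLoop1 C) _ _)

theorem f15559 : C.T (v18 C) [17, 39, 58, 76, 90, 109, 120] (v19 C) [32, 49, 79, 97, 109, 111] :=
  C.flip (f15558 C)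

theorem f15560 : C.T (v2 C) [17, 30, 56, 78, 99, 115] (v18 C) [39, 61, 86, 102, 109, 124] :=
  C.conv (f9873 C) (f9878 C) (f9878 C) _ [146, 160, 168, 176, 177] _ (by decide +kernel) (by decide +kernel) (by decide +kernel)

theorem f15561 : C.S (v2 C) [22, 45, 64, 80, 102, 110, 121] :=
  C.stMul (f243 C) (f7766 C) _ (by decide +kernel)

theorem f15562 : C.S (v2 C) [14, 41, 88, 98, 110, 118] :=
  C.stMul (f211 C) (f15561 C) _ (by decide +kernel)

theorem f15563 : C.T (v2 C) [19, 35, 58, 71, 92, 109, 120] (v4 C) [26, 40, 58, 81, 105, 109, 115] :=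
  C.conv (f450 C) (f109 C) (f15562 C) _ [140, 161, 164, 172] _ (by decide +kernel) (by decide +kernel) (by decide +kernel)

theorem f15564 : C.T (v4 C) [26, 40, 58, 81, 105, 109, 115] (v2 C) [19, 35, 58, 71, 92, 109, 120] :=
  C.flip (f15563 C)

theorem f15565 : C.S (v4 C) [8, 31, 60, 85, 98, 110, 125] :=
  C.stMul (f693 C) (f407 C) _ (by decide +kernel)

theorem f15566 : C.S (v4 C) [42, 63, 82, 91, 110, 125] :=
  C.stMul (f421 C) (f15565 C) _ (by decide +kernel)

theorem f15567 : C.S (v4 C) [12, 31, 56, 72, 107, 109, 112] :=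
  C.stMul (f407 C) (f15566 C) _ (by decide +kernel)

theorem f15568 : C.T (v4 C) [19, 45, 55, 78, 100, 110, 125] (v19 C) [11, 39, 49, 73, 100, 109] :=
  C.conv (f15534 C) (f697 C) (f15567 C) _ [133, 152, 164, 173, 177] _ (by decide +kernel) (by decide +kernel) (by decide +kernel)

theorem f15569 : C.T (v19 C) [11, 39, 49, 73, 100, 109] (v4 C) [19, 45, 55, 78, 100, 110, 125] :=
  C.flip (f15568 C)

theorem f15570 : C.T (v18 C) [8, 53, 92, 111] (v19 C) [8, 33, 67, 77, 92, 110] :=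
  C.closeT (p := (v2 C)) (pu := [17, 30, 56, 78, 99, 115])
    (C.pT (f15560 C)
    (C.pH [8, 30, 65, 84, 94, 117] [8, 53, 92, 111] (by decide +kernel) (C.pNil _ _)))
    (C.pH [26, 38, 54, 89, 90, 113] [11, 39, 49, 73, 100, 109] (by decide +kernel)
    (C.pT (f15569 C)
    (C.pH [8, 30, 65, 84, 94, 117] [26, 40, 58, 81, 105, 109, 115] (by decide +kernel)
    (C.pT (f15564 C)
    (C.pH [26, 38, 54, 89, 90, 113] [17, 30, 56, 78, 99, 115] (by decide +kernel) (C.pNil _ _))))))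
    (C.loop_of_one (relLoop1 C) _ _)

theorem f15571 : C.T (v19 C) [8, 33, 67, 77, 92, 110] (v18 C) [8, 53, 92, 111] :=
  C.flip (f15570 C)

theorem f15572 : C.T (v2 C) [21, 47, 63, 73, 90, 109, 123] (v18 C) [23, 30, 61, 96, 109, 112] :=
  C.conv (f9873 C) (f9878 C) (f9878 C) _ [139, 152, 169, 175, 178] _ (by decide +kernel) (by decide +kernel) (by decide +kernel)

theorem f15573 : C.T (v18 C) [7, 39, 57, 86, 97, 110, 118] (v19 C) [7, 33, 68, 75, 108, 113] :=
  C.conv (f15570 C) (f6836 C) (f6836 C) _ [147, 152, 172] _ (by decide +kernel) (by decide +kernel) (by decide +kernel)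

theorem f15574 : C.S (v2 C) [28, 58, 124] :=
  C.stMul (f243 C) (f8346 C) _ (by decide +kernel)

theorem f15575 : C.T (v2 C) [12, 47, 69, 89, 94, 125] (v17 C) [23, 34, 57, 82, 96, 110, 122] :=
  C.conv (f6632 C) (f6971 C) (f15574 C) _ [128, 153, 170, 175, 177] _ (by decide +kernel) (by decide +kernel) (by decide +kernel)

theorem f15576 : C.T (v17 C) [23, 34, 57, 82, 96, 110, 122] (v2 C) [12, 47, 69, 89, 94, 125] :=
  C.flip (f15575 C)

theorem f15577 : C.T (v19 C) [17, 32, 61, 85, 90, 121] (v17 C) [13, 34, 63, 89, 104, 110, 119] :=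
  C.closeT (p := (v2 C)) (pu := [21, 47, 63, 73, 90, 109, 123])
    (C.pT (f15572 C)
    (C.pH [26, 38, 54, 89, 90, 113] [7, 39, 57, 86, 97, 110, 118] (by decide +kernel)
    (C.pT (f15573 C)
    (C.pH [8, 30, 65, 84, 94, 117] [17, 32, 61, 85, 90, 121] (by decide +kernel) (C.pNil _ _)))))
    (C.pH [26, 38, 54, 89, 90, 113] [23, 34, 57, 82, 96, 110, 122] (by decide +kernel)
    (C.pT (f15576 C)
    (C.pH [8, 30, 65, 84, 94, 117] [21, 47, 63, 73, 90, 109, 123] (by decide +kernel) (C.pNil _ _))))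
    (C.loop_of_one (relLoop2 C) _ _)

theorem f15578 : C.T (v17 C) [13, 34, 63, 89, 104, 110, 119] (v19 C) [17, 32, 61, 85, 90, 121] :=
  C.flip (f15577 C)

theorem f15579 : C.T (v3 C) [9, 38, 57, 75, 97, 110, 116] (v4 C) [15, 62, 88, 108, 109] :=
  C.conv (f808 C) (f938 C) (f938 C) _ [148, 149, 164, 171, 177] _ (by decide +kernel) (by decide +kernel) (by decide +kernel)

theorem f15580 : C.T (v4 C) [19, 48, 61, 86, 102, 109] (v19 C) [19, 47, 55, 72, 106, 109, 112] :=
  C.conv (f15534 C) (f697 C) (f407 C) _ [141, 159, 167, 172] _ (by decide +kernel) (by decide +kernel) (by decide +kernel)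

theorem f15581 : C.S (v3 C) [14, 36, 68, 75, 101, 109, 114] :=
  C.stMul (f353 C) (f12944 C) _ (by decide +kernel)

theorem f15582 : C.S (v3 C) [19, 29, 58, 86, 90, 110, 125] :=
  C.stMul (f335 C) (f15581 C) _ (by decide +kernel)

theorem f15583 : C.T (v3 C) [15, 53, 72, 96, 109, 123] (v17 C) [25, 48, 66, 85, 102, 109, 125] :=
  C.conv (f6269 C) (f7309 C) (f15582 C) _ [148, 153, 165, 178] _ (by decide +kernel) (by decide +kernel) (by decide +kernel)

theorem f15584 : C.T (v17 C) [25, 48, 66, 85, 102, 109, 125] (v3 C) [15, 53, 72, 96, 109, 123] :=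
  C.flip (f15583 C)

theorem f15585 : C.T (v19 C) [17, 45, 62, 87, 100, 109, 118] (v17 C) [4, 66, 100, 123] :=
  C.closeT (p := (v3 C)) (pu := [9, 38, 57, 75, 97, 110, 116])
    (C.pT (f15579 C)
    (C.pH [8, 30, 65, 84, 94, 117] [19, 48, 61, 86, 102, 109] (by decide +kernel)
    (C.pT (f15580 C)
    (C.pH [26, 38, 54, 89, 90, 113] [17, 45, 62, 87, 100, 109, 118] (by decide +kernel) (C.pNil _ _)))))
    (C.pH [8, 30, 65, 84, 94, 117] [25, 48, 66, 85, 102, 109, 125] (by decide +kernel)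
    (C.pT (f15584 C)
    (C.pH [26, 38, 54, 89, 90, 113] [9, 38, 57, 75, 97, 110, 116] (by decide +kernel) (C.pNil _ _))))
    (C.loop_of_one (relLoop1 C) _ _)

theorem f15586 : C.T (v17 C) [4, 66, 100, 123] (v19 C) [17, 45, 62, 87, 100, 109, 118] :=
  C.flip (f15585 C)

theorem f15587 : C.T (v3 C) [4, 44, 67, 83, 106, 125] (v17 C) [10, 32, 68, 74, 108, 114] :=
  C.conv (f6808 C) (f9290 C) (f9290 C) _ [144, 155, 170, 178] _ (by decide +kernel) (by decide +kernel) (by decide +kernel)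

theorem f15588 : C.T (v17 C) [15, 33, 56, 83, 106] (v18 C) [7, 47, 67, 81, 107, 112] :=
  C.conv (f11333 C) (f15309 C) (f4132 C) _ [129, 151, 164, 171, 177] _ (by decide +kernel) (by decide +kernel) (by decide +kernel)

theorem f15589 : C.S (v18 C) [26, 43, 49, 77, 91, 110, 115] :=
  C.stMul (f6836 C) (f6836 C) _ (by decide +kernel)

theorem f15590 : C.T (v18 C) [48, 62, 75, 101, 117] (v19 C) [6, 38, 62, 81, 101, 110, 124] :=
  C.conv (f15551 C) (f6836 C) (f15589 C) _ [139, 157, 176, 178] _ (by decide +kernel) (by decide +kernel) (by decide +kernel)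

theorem f15591 : C.T (v19 C) [13, 41, 52, 81, 95, 110, 124] (v3 C) [6, 45, 53, 74, 93, 110, 116] :=
  C.closeT (p := (v3 C)) (pu := [4, 44, 67, 83, 106, 125])
    (C.pT (f15587 C)
    (C.pH [8, 30, 65, 84, 94, 117] [15, 33, 56, 83, 106] (by decide +kernel)
    (C.pT (f15588 C)
    (C.pH [26, 38, 54, 89, 90, 113] [48, 62, 75, 101, 117] (by decide +kernel)
    (C.pT (f15590 C)
    (C.pH [8, 30, 65, 84, 94, 117] [13, 41, 52, 81, 95, 110, 124] (by decide +kernel) (C.pNil _ _)))))))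
    (C.pH [26, 38, 54, 89, 90, 113] [4, 44, 67, 83, 106, 125] (by decide +kernel) (C.pNil _ _))
    (C.loop_of_one (relLoop1 C) _ _)

theorem f15592 : C.T (v3 C) [6, 45, 53, 74, 93, 110, 116] (v19 C) [13, 41, 52, 81, 95, 110, 124] :=
  C.flip (f15591 C)

theorem f15593 : C.T (v3 C) [10, 38, 52, 87, 104, 119] (v17 C) [23, 44, 64, 77, 94, 110] :=
  C.conv (f6828 C) (f9427 C) (f9427 C) _ [157, 166, 176] _ (by decide +kernel) (by decide +kernel) (by decide +kernel)

theorem f15594 : C.S (v17 C) [23, 31, 49, 84, 96, 117] :=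
  C.stMul (f4137 C) (f4137 C) _ (by decide +kernel)

theorem f15595 : C.T (v17 C) [10, 43, 63, 84, 94, 110, 120] (v18 C) [20, 44, 69, 85, 95, 114] :=
  C.conv (f12524 C) (f4137 C) (f15594 C) _ [127, 156, 169, 175] _ (by decide +kernel) (by decide +kernel) (by decide +kernel)

theorem f15596 : C.S (v3 C) [23, 29, 57, 87, 91, 110, 120] :=
  C.stMul (f331 C) (f328 C) _ (by decide +kernel)

theorem f15597 : C.S (v3 C) [23, 35, 58, 78, 94, 110, 123] :=
  C.stMul (f328 C) (f15596 C) _ (by decide +kernel)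

theorem f15598 : C.S (v3 C) [21, 46, 68, 75, 95] :=
  C.stMul (f335 C) (f15597 C) _ (by decide +kernel)

theorem f15599 : C.S (v3 C) [14, 46, 79, 106, 123] :=
  C.stMul (f353 C) (f15598 C) _ (by decide +kernel)

theorem f15600 : C.S (v3 C) [19, 34, 68, 75, 94, 111] :=
  C.stMul (f335 C) (f15599 C) _ (by decide +kernel)

theorem f15601 : C.T (v3 C) [18, 32, 57, 71, 92, 109, 111] (v19 C) [21, 36, 51, 75, 107, 110, 121] :=
  C.conv (f15592 C) (f15600 C) (f15599 C) _ [129, 169, 172] _ (by decide +kernel) (by decide +kernel) (by decide +kernel)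

theorem f15602 : C.T (v19 C) [21, 36, 51, 75, 107, 110, 121] (v3 C) [18, 32, 57, 71, 92, 109, 111] :=
  C.flip (f15601 C)

theorem f15603 : C.T (v18 C) [15, 30, 64, 71, 107, 110, 121] (v19 C) [12, 28, 59, 82, 99, 109, 112] :=
  C.closeT (p := (v3 C)) (pu := [10, 38, 52, 87, 104, 119])
    (C.pT (f15593 C)
    (C.pH [8, 30, 65, 84, 94, 117] [10, 43, 63, 84, 94, 110, 120] (by decide +kernel)
    (C.pT (f15595 C)
    (C.pH [26, 38, 54, 89, 90, 113] [15, 30, 64, 71, 107, 110, 121] (by decide +kernel) (C.pNil _ _)))))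
    (C.pH [8, 30, 65, 84, 94, 117] [21, 36, 51, 75, 107, 110, 121] (by decide +kernel)
    (C.pT (f15602 C)
    (C.pH [26, 38, 54, 89, 90, 113] [10, 38, 52, 87, 104, 119] (by decide +kernel) (C.pNil _ _))))
    (C.loop_of_one (relLoop1 C) _ _)

theorem f15604 : C.T (v19 C) [12, 28, 59, 82, 99, 109, 112] (v18 C) [15, 30, 64, 71, 107, 110, 121] :=
  C.flip (f15603 C)

theorem f15605 : C.T (v3 C) [20, 46, 49, 76, 93, 109, 111] (v17 C) [17, 41, 57, 77, 104, 109, 112] :=
  C.conv (f6828 C) (f9427 C) (f9427 C) _ [136, 149, 166, 173, 178] _ (by decide +kernel) (by decide +kernel) (by decide +kernel)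

theorem f15606 : C.S (v17 C) [23, 31, 49, 84, 96, 117] :=
  C.stMul (f4137 C) (f4137 C) _ (by decide +kernel)

theorem f15607 : C.T (v17 C) [22, 32, 63, 103, 109, 123] (v17 C) [23, 47, 55, 83, 102, 109, 125] :=
  C.conv (f6613 C) (f4137 C) (f15606 C) _ [143, 158, 168] _ (by decide +kernel) (by decide +kernel) (by decide +kernel)

theorem f15608 : C.S (v3 C) [9, 29, 68, 75, 108, 110, 124] :=
  C.stMul (f335 C) (f328 C) _ (by decide +kernel)

theorem f15609 : C.S (v3 C) [15, 38, 55, 77, 98, 114] :=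
  C.stMul (f331 C) (f15608 C) _ (by decide +kernel)

theorem f15610 : C.S (v3 C) [8, 27, 64, 80, 97, 109, 113] :=
  C.stMul (f353 C) (f15609 C) _ (by decide +kernel)

theorem f15611 : C.S (v3 C) [10, 41, 49, 74, 98, 110, 117] :=
  C.stMul (f331 C) (f15610 C) _ (by decide +kernel)

theorem f15612 : C.T (v3 C) [17, 33, 81, 101, 117] (v19 C) [14, 28, 53, 85, 95, 110, 119] :=
  C.conv (f15592 C) (f15600 C) (f15611 C) _ [142, 152, 164, 173, 177] _ (by decide +kernel) (by decide +kernel) (by decide +kernel)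

theorem f15613 : C.T (v19 C) [14, 28, 53, 85, 95, 110, 119] (v3 C) [17, 33, 81, 101, 117] :=
  C.flip (f15612 C)

theorem f15614 : C.T (v17 C) [7, 42, 61, 81, 108, 114] (v19 C) [26, 44, 56, 74, 96, 110, 122] :=
  C.closeT (p := (v3 C)) (pu := [20, 46, 49, 76, 93, 109, 111])
    (C.pT (f15605 C)
    (C.pH [8, 30, 65, 84, 94, 117] [22, 32, 63, 103, 109, 123] (by decide +kernel)
    (C.pT (f15607 C)
    (C.pH [26, 38, 54, 89, 90, 113] [7, 42, 61, 81, 108, 114] (by decide +kernel) (C.pNil _ _)))))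
    (C.pH [8, 30, 65, 84, 94, 117] [14, 28, 53, 85, 95, 110, 119] (by decide +kernel)
    (C.pT (f15613 C)
    (C.pH [26, 38, 54, 89, 90, 113] [20, 46, 49, 76, 93, 109, 111] (by decide +kernel) (C.pNil _ _))))
    (C.loop_of_one (relLoop1 C) _ _)

theorem f15615 : C.T (v19 C) [26, 44, 56, 74, 96, 110, 122] (v17 C) [7, 42, 61, 81, 108, 114] :=
  C.flip (f15614 C)

theorem f15616 : C.T (v3 C) [15, 47, 58, 87, 118] (v17 C) [12, 48, 61, 73, 90, 110, 122] :=
  C.conv (f6828 C) (f9427 C) (f9427 C) _ [133, 150, 167, 173, 177] _ (by decide +kernel) (by decide +kernel) (by decide +kernel)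

theorem f15617 : C.S (v17 C) [51, 81, 96, 109, 125] :=
  C.stMul (f4132 C) (f4137 C) _ (by decide +kernel)

theorem f15618 : C.T (v17 C) [21, 45, 68, 70, 100, 110, 115] (v18 C) [17, 35, 50, 75, 108, 109, 121] :=
  C.conv (f15070 C) (f15617 C) (f4300 C) _ [135, 150, 166, 172, 178] _ (by decide +kernel) (by decide +kernel) (by decide +kernel)

theorem f15619 : C.S (v3 C) [22, 29, 89, 96, 109, 125] :=
  C.stMul (f328 C) (f331 C) _ (by decide +kernel)

theorem f15620 : C.S (v3 C) [18, 43, 59, 78, 90, 110, 111] :=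
  C.stMul (f353 C) (f15619 C) _ (by decide +kernel)

theorem f15621 : C.S (v3 C) [38, 66, 70, 98, 110, 116] :=
  C.stMul (f331 C) (f15620 C) _ (by decide +kernel)

theorem f15622 : C.S (v3 C) [9, 39, 64, 82, 92, 109, 114] :=
  C.stMul (f353 C) (f15621 C) _ (by decide +kernel)

theorem f15623 : C.T (v3 C) [20, 33, 55, 73, 99, 109, 116] (v19 C) [21, 44, 61, 84, 92, 109, 111] :=
  C.conv (f15592 C) (f15600 C) (f15622 C) _ [145, 154, 175, 177] _ (by decide +kernel) (by decide +kernel) (by decide +kernel)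

theorem f15624 : C.T (v19 C) [21, 44, 61, 84, 92, 109, 111] (v3 C) [20, 33, 55, 73, 99, 109, 116] :=
  C.flip (f15623 C)

theorem f15625 : C.T (v18 C) [20, 41, 59, 71, 101, 110, 118] (v19 C) [12, 45, 69, 73, 90, 112] :=
  C.closeT (p := (v3 C)) (pu := [15, 47, 58, 87, 118])
    (C.pT (f15616 C)
    (C.pH [8, 30, 65, 84, 94, 117] [21, 45, 68, 70, 100, 110, 115] (by decide +kernel)
    (C.pT (f15618 C)
    (C.pH [26, 38, 54, 89, 90, 113] [20, 41, 59, 71, 101, 110, 118] (by decide +kernel) (C.pNil _ _)))))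
    (C.pH [8, 30, 65, 84, 94, 117] [21, 44, 61, 84, 92, 109, 111] (by decide +kernel)
    (C.pT (f15624 C)
    (C.pH [26, 38, 54, 89, 90, 113] [15, 47, 58, 87, 118] (by decide +kernel) (C.pNil _ _))))
    (C.loop_of_one (relLoop1 C) _ _)

theorem f15626 : C.T (v19 C) [12, 45, 69, 73, 90, 112] (v18 C) [20, 41, 59, 71, 101, 110, 118] :=
  C.flip (f15625 C)

theorem f15627 : C.T (v3 C) [25, 44, 65, 71, 92, 109, 123] (v17 C) [14, 40, 68, 82, 94, 109, 124] :=
  C.conv (f6828 C) (f9427 C) (f9427 C) _ [130, 152, 168, 178] _ (by decide +kernel) (by decide +kernel) (by decide +kernel)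

theorem f15628 : C.S (v17 C) [23, 31, 75, 92, 109, 116] :=
  C.stMul (f4137 C) (f4132 C) _ (by decide +kernel)

theorem f15629 : C.T (v17 C) [5, 36, 63, 83, 95, 109, 123] (v16 C) [21, 28, 51, 72, 96, 123] :=
  C.conv (f4257 C) (f4132 C) (f15628 C) _ [142, 160, 176, 178] _ (by decide +kernel) (by decide +kernel) (by decide +kernel)

theorem f15630 : C.S (v3 C) [11, 28, 50, 85, 94, 124] :=
  C.stMul (f353 C) (f15608 C) _ (by decide +kernel)

theorem f15631 : C.S (v3 C) [23, 36, 66, 83, 90, 109, 121] :=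
  C.stMul (f331 C) (f15630 C) _ (by decide +kernel)

theorem f15632 : C.T (v3 C) [4, 32, 82, 92, 110, 112] (v19 C) [22, 44, 49, 87, 100, 109, 123] :=
  C.conv (f15592 C) (f15600 C) (f15631 C) _ [131, 151, 164, 173] _ (by decide +kernel) (by decide +kernel) (by decide +kernel)

theorem f15633 : C.T (v19 C) [22, 44, 49, 87, 100, 109, 123] (v3 C) [4, 32, 82, 92, 110, 112] :=
  C.flip (f15632 C)

theorem f15634 : C.T (v16 C) [6, 36, 55, 78, 100, 110, 115] (v19 C) [17, 37, 51, 78, 107, 110, 114] :=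
  C.closeT (p := (v3 C)) (pu := [25, 44, 65, 71, 92, 109, 123])
    (C.pT (f15627 C)
    (C.pH [8, 30, 65, 84, 94, 117] [5, 36, 63, 83, 95, 109, 123] (by decide +kernel)
    (C.pT (f15629 C)
    (C.pH [26, 38, 54, 89, 90, 113] [6, 36, 55, 78, 100, 110, 115] (by decide +kernel) (C.pNil _ _)))))
    (C.pH [8, 30, 65, 84, 94, 117] [22, 44, 49, 87, 100, 109, 123] (by decide +kernel)
    (C.pT (f15633 C)
    (C.pH [26, 38, 54, 89, 90, 113] [25, 44, 65, 71, 92, 109, 123] (by decide +kernel) (C.pNil _ _))))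
    (C.loop_of_one (relLoop1 C) _ _)

theorem f15635 : C.T (v19 C) [17, 37, 51, 78, 107, 110, 114] (v16 C) [6, 36, 55, 78, 100, 110, 115] :=
  C.flip (f15634 C)

theorem f15636 : C.T (v3 C) [6, 34, 63, 81, 103, 114] (v18 C) [15, 28, 49, 87, 95, 110, 113] :=
  C.conv (f6902 C) (f7285 C) (f7285 C) _ [142, 169, 171, 177] _ (by decide +kernel) (by decide +kernel) (by decide +kernel)

theorem f15637 : C.S (v18 C) [26, 43, 49, 77, 91, 110, 115] :=
  C.stMul (f6836 C) (f6836 C) _ (by decide +kernel)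

theorem f15638 : C.T (v18 C) [19, 38, 58, 71, 95, 115] (v18 C) [18, 38, 64, 102, 110, 118] :=
  C.conv (f11212 C) (f15637 C) (f6836 C) _ [128, 150, 167, 174, 178] _ (by decide +kernel) (by decide +kernel) (by decide +kernel)

theorem f15639 : C.S (v3 C) [4, 35, 66, 84, 105, 109, 115] :=
  C.stMul (f335 C) (f331 C) _ (by decide +kernel)

theorem f15640 : C.S (v3 C) [12, 47, 57, 74, 97, 110] :=
  C.stMul (f335 C) (f15639 C) _ (by decide +kernel)

theorem f15641 : C.T (v3 C) [21, 62, 98, 109, 120] (v19 C) [25, 31, 81, 106, 109, 125] :=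
  C.conv (f15592 C) (f15600 C) (f15640 C) _ [144, 155, 168, 173, 178] _ (by decide +kernel) (by decide +kernel) (by decide +kernel)

theorem f15642 : C.T (v19 C) [25, 31, 81, 106, 109, 125] (v3 C) [21, 62, 98, 109, 120] :=
  C.flip (f15641 C)

theorem f15643 : C.T (v18 C) [10, 41, 58, 72, 97, 123] (v19 C) [4, 37, 63, 86, 97, 109, 116] :=
  C.closeT (p := (v3 C)) (pu := [6, 34, 63, 81, 103, 114])
    (C.pT (f15636 C)
    (C.pH [8, 30, 65, 84, 94, 117] [19, 38, 58, 71, 95, 115] (by decide +kernel)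
    (C.pT (f15638 C)
    (C.pH [26, 38, 54, 89, 90, 113] [10, 41, 58, 72, 97, 123] (by decide +kernel) (C.pNil _ _)))))
    (C.pH [8, 30, 65, 84, 94, 117] [25, 31, 81, 106, 109, 125] (by decide +kernel)
    (C.pT (f15642 C)
    (C.pH [26, 38, 54, 89, 90, 113] [6, 34, 63, 81, 103, 114] (by decide +kernel) (C.pNil _ _))))
    (C.loop_of_one (relLoop1 C) _ _)

theorem f15644 : C.T (v19 C) [4, 37, 63, 86, 97, 109, 116] (v18 C) [10, 41, 58, 72, 97, 123] :=
  C.flip (f15643 C)

theorem f15645 : C.T (v3 C) [12, 63, 85, 91, 110, 112] (v18 C) [24, 41, 58, 89, 91, 109, 111] :=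
  C.conv (f6902 C) (f7285 C) (f7285 C) _ [138, 152, 170, 175] _ (by decide +kernel) (by decide +kernel) (by decide +kernel)

theorem f15646 : C.S (v18 C) [26, 43, 49, 77, 91, 110, 115] :=
  C.stMul (f6836 C) (f6836 C) _ (by decide +kernel)

theorem f15647 : C.T (v18 C) [16, 32, 54, 79, 91, 109, 117] (v9 C) [26, 36, 64, 86, 101, 109, 121] :=
  C.conv (f13538 C) (f15646 C) (f15646 C) _ [126, 157, 169, 174, 177] _ (by decide +kernel) (by decide +kernel) (by decide +kernel)

theorem f15648 : C.S (v3 C) [4, 67, 86, 105, 116] :=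
  C.stMul (f335 C) (f15619 C) _ (by decide +kernel)

theorem f15649 : C.S (v3 C) [16, 46, 65, 76, 99, 109, 118] :=
  C.stMul (f353 C) (f15648 C) _ (by decide +kernel)

theorem f15650 : C.S (v3 C) [5, 44, 52, 88, 93, 109, 113] :=
  C.stMul (f335 C) (f15649 C) _ (by decide +kernel)

theorem f15651 : C.T (v3 C) [24, 30, 69, 80, 108, 109, 115] (v19 C) [10, 45, 60, 87, 100, 113] :=
  C.conv (f15592 C) (f15600 C) (f15650 C) _ [134, 168, 173, 178] _ (by decide +kernel) (by decide +kernel) (by decide +kernel)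

theorem f15652 : C.T (v19 C) [10, 45, 60, 87, 100, 113] (v3 C) [24, 30, 69, 80, 108, 109, 115] :=
  C.flip (f15651 C)

theorem f15653 : C.T (v9 C) [16, 46, 61, 74, 91, 110, 121] (v19 C) [23, 48, 55, 70, 107, 119] :=
  C.closeT (p := (v3 C)) (pu := [12, 63, 85, 91, 110, 112])
    (C.pT (f15645 C)
    (C.pH [8, 30, 65, 84, 94, 117] [16, 32, 54, 79, 91, 109, 117] (by decide +kernel)
    (C.pT (f15647 C)
    (C.pH [26, 38, 54, 89, 90, 113] [16, 46, 61, 74, 91, 110, 121] (by decide +kernel) (C.pNil _ _)))))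
    (C.pH [8, 30, 65, 84, 94, 117] [10, 45, 60, 87, 100, 113] (by decide +kernel)
    (C.pT (f15652 C)
    (C.pH [26, 38, 54, 89, 90, 113] [12, 63, 85, 91, 110, 112] (by decide +kernel) (C.pNil _ _))))
    (C.loop_of_one (relLoop1 C) _ _)

theorem f15654 : C.T (v19 C) [23, 48, 55, 70, 107, 119] (v9 C) [16, 46, 61, 74, 91, 110, 121] :=
  C.flip (f15653 C)

theorem f15655 : C.T (v3 C) [26, 64, 85, 93, 113] (v18 C) [16, 37, 62, 71, 98, 109, 116] :=
  C.conv (f6911 C) (f8231 C) (f8231 C) _ [126, 162, 164, 175, 177] _ (by decide +kernel) (by decide +kernel) (by decide +kernel)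

theorem f15656 : C.T (v3 C) [45, 62, 84, 108] (v18 C) [12, 35, 68, 81, 94, 109, 119] :=
  C.conv (f9184 C) (f9232 C) (f9382 C) _ [133, 151, 168, 173, 177] _ (by decide +kernel) (by decide +kernel) (by decide +kernel)

theorem f15657 : C.T (v18 C) [12, 35, 68, 81, 94, 109, 119] (v3 C) [45, 62, 84, 108] :=
  C.flip (f15656 C)

theorem f15658 : C.S (v18 C) [26, 43, 49, 77, 91, 110, 115] :=
  C.stMul (f6836 C) (f6836 C) _ (by decide +kernel)

theorem f15659 : C.T (v18 C) [5, 32, 58, 78, 100, 110, 122] (v19 C) [13, 45, 63, 72, 94, 109, 121] :=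
  C.conv (f15603 C) (f15658 C) (f15658 C) _ [147, 149, 164, 172, 178] _ (by decide +kernel) (by decide +kernel) (by decide +kernel)

theorem f15660 : C.T (v19 C) [13, 45, 63, 72, 94, 109, 121] (v18 C) [5, 32, 58, 78, 100, 110, 122] :=
  C.flip (f15659 C)

theorem f15661 : C.T (v18 C) [20, 45, 54, 71, 106, 121] (v19 C) [16, 37, 61, 75, 107, 109, 125] :=
  C.closeT (p := (v3 C)) (pu := [26, 64, 85, 93, 113])
    (C.pT (f15655 C)
    (C.pH [8, 30, 65, 84, 94, 117] [20, 45, 54, 71, 106, 121] (by decide +kernel) (C.pNil _ _)))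
    (C.pH [26, 38, 54, 89, 90, 113] [13, 45, 63, 72, 94, 109, 121] (by decide +kernel)
    (C.pT (f15660 C)
    (C.pH [8, 30, 65, 84, 94, 117] [12, 35, 68, 81, 94, 109, 119] (by decide +kernel)
    (C.pT (f15657 C)
    (C.pH [26, 38, 54, 89, 90, 113] [26, 64, 85, 93, 113] (by decide +kernel) (C.pNil _ _))))))
    (C.loop_of_one (relLoop1 C) _ _)

theorem f15662 : C.T (v19 C) [16, 37, 61, 75, 107, 109, 125] (v18 C) [20, 45, 54, 71, 106, 121] :=
  C.flip (f15661 C)

theorem f15663 : C.T (v3 C) [13, 36, 55, 72, 107, 116] (v18 C) [21, 46, 65, 83, 91, 110, 117] :=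
  C.conv (f6911 C) (f8231 C) (f8231 C) _ [148, 153, 165, 171] _ (by decide +kernel) (by decide +kernel) (by decide +kernel)

theorem f15664 : C.T (v18 C) [24, 39, 54, 73, 93, 109, 112] (v18 C) [13, 41, 55, 70, 96, 109, 118] :=
  C.conv (f8924 C) (f7121 C) (f6836 C) _ [137, 149, 170, 175, 178] _ (by decide +kernel) (by decide +kernel) (by decide +kernel)

theorem f15665 : C.S (v3 C) [10, 28, 62, 78, 98, 110, 120] :=
  C.stMul (f328 C) (f335 C) _ (by decide +kernel)

theorem f15666 : C.S (v3 C) [20, 30, 59, 75, 96, 110, 111] :=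
  C.stMul (f353 C) (f15665 C) _ (by decide +kernel)

theorem f15667 : C.T (v3 C) [16, 36, 50, 87, 121] (v19 C) [5, 29, 52, 86, 94, 109, 122] :=
  C.conv (f15592 C) (f15600 C) (f15666 C) _ [133, 157, 168, 171, 177] _ (by decide +kernel) (by decide +kernel) (by decide +kernel)

theorem f15668 : C.T (v19 C) [5, 29, 52, 86, 94, 109, 122] (v3 C) [16, 36, 50, 87, 121] :=
  C.flip (f15667 C)

theorem f15669 : C.T (v18 C) [23, 48, 66, 86, 103, 109, 113] (v19 C) [14, 31, 60, 87, 108, 110, 112] :=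
  C.closeT (p := (v3 C)) (pu := [13, 36, 55, 72, 107, 116])
    (C.pT (f15663 C)
    (C.pH [8, 30, 65, 84, 94, 117] [24, 39, 54, 73, 93, 109, 112] (by decide +kernel)
    (C.pT (f15664 C)
    (C.pH [26, 38, 54, 89, 90, 113] [23, 48, 66, 86, 103, 109, 113] (by decide +kernel) (C.pNil _ _)))))
    (C.pH [8, 30, 65, 84, 94, 117] [5, 29, 52, 86, 94, 109, 122] (by decide +kernel)
    (C.pT (f15668 C)
    (C.pH [26, 38, 54, 89, 90, 113] [13, 36, 55, 72, 107, 116] (by decide +kernel) (C.pNil _ _))))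
    (C.loop_of_one (relLoop1 C) _ _)

theorem f15670 : C.T (v19 C) [14, 31, 60, 87, 108, 110, 112] (v18 C) [23, 48, 66, 86, 103, 109, 113] :=
  C.flip (f15669 C)

theorem f15671 : C.T (v3 C) [13, 44, 55, 74, 120] (v18 C) [21, 29, 65, 94, 109, 116] :=
  C.conv (f6911 C) (f8231 C) (f8231 C) _ [130, 159, 169, 174, 178] _ (by decide +kernel) (by decide +kernel) (by decide +kernel)

theorem f15672 : C.T (v18 C) [24, 41, 69, 86, 99, 110, 118] (v18 C) [4, 65, 75, 98, 110, 121] :=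
  C.conv (f7089 C) (f7121 C) (f7121 C) _ [143, 151, 170, 173, 178] _ (by decide +kernel) (by decide +kernel) (by decide +kernel)

theorem f15673 : C.T (v3 C) [16, 27, 49, 86, 97, 110, 124] (v19 C) [20, 30, 69, 83, 107, 115] :=
  C.conv (f15592 C) (f15600 C) (f15610 C) _ [127, 152, 168, 171] _ (by decide +kernel) (by decide +kernel) (by decide +kernel)

theorem f15674 : C.T (v19 C) [20, 30, 69, 83, 107, 115] (v3 C) [16, 27, 49, 86, 97, 110, 124] :=
  C.flip (f15673 C)

theorem f15675 : C.T (v18 C) [25, 28, 60, 86, 104, 109, 124] (v19 C) [16, 44, 64, 82, 90, 109, 115] :=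
  C.closeT (p := (v3 C)) (pu := [13, 44, 55, 74, 120])
    (C.pT (f15671 C)
    (C.pH [8, 30, 65, 84, 94, 117] [24, 41, 69, 86, 99, 110, 118] (by decide +kernel)
    (C.pT (f15672 C)
    (C.pH [26, 38, 54, 89, 90, 113] [25, 28, 60, 86, 104, 109, 124] (by decide +kernel) (C.pNil _ _)))))
    (C.pH [8, 30, 65, 84, 94, 117] [20, 30, 69, 83, 107, 115] (by decide +kernel)
    (C.pT (f15674 C)
    (C.pH [26, 38, 54, 89, 90, 113] [13, 44, 55, 74, 120] (by decide +kernel) (C.pNil _ _))))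
    (C.loop_of_one (relLoop1 C) _ _)

theorem f15676 : C.T (v19 C) [16, 44, 64, 82, 90, 109, 115] (v18 C) [25, 28, 60, 86, 104, 109, 124] :=
  C.flip (f15675 C)

theorem f15677 : C.T (v3 C) [16, 38, 61, 89, 92, 110, 114] (v18 C) [26, 28, 82, 116] :=
  C.conv (f6911 C) (f8231 C) (f8231 C) _ [135, 156, 168, 171, 177] _ (by decide +kernel) (by decide +kernel) (by decide +kernel)

theorem f15678 : C.T (v18 C) [14, 30, 54, 88, 101, 110, 116] (v18 C) [10, 48, 52, 78, 107, 121] :=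
  C.conv (f10984 C) (f6836 C) (f6836 C) _ [138, 158, 165, 172, 177] _ (by decide +kernel) (by decide +kernel) (by decide +kernel)

theorem f15679 : C.T (v18 C) [21, 47, 64, 73, 108, 110, 115] (v19 C) [18, 30, 58, 74, 104, 110, 115] :=
  C.conv (f15603 C) (f15658 C) (f15658 C) _ [145, 157, 169, 176] _ (by decide +kernel) (by decide +kernel) (by decide +kernel)

theorem f15680 : C.T (v19 C) [4, 50, 81, 104, 109, 123] (v3 C) [26, 35, 56, 80, 110] :=
  C.closeT (p := (v3 C)) (pu := [16, 38, 61, 89, 92, 110, 114])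
    (C.pT (f15677 C)
    (C.pH [8, 30, 65, 84, 94, 117] [14, 30, 54, 88, 101, 110, 116] (by decide +kernel)
    (C.pT (f15678 C)
    (C.pH [26, 38, 54, 89, 90, 113] [21, 47, 64, 73, 108, 110, 115] (by decide +kernel)
    (C.pT (f15679 C)
    (C.pH [8, 30, 65, 84, 94, 117] [4, 50, 81, 104, 109, 123] (by decide +kernel) (C.pNil _ _)))))))
    (C.pH [26, 38, 54, 89, 90, 113] [16, 38, 61, 89, 92, 110, 114] (by decide +kernel) (C.pNil _ _))
    (C.loop_of_one (relLoop1 C) _ _)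

theorem f15681 : C.T (v3 C) [26, 35, 56, 80, 110] (v19 C) [4, 50, 81, 104, 109, 123] :=
  C.flip (f15680 C)

theorem f15682 : C.S (v3 C) [16, 36, 62, 79, 96, 109, 125] :=
  C.stMul (f353 C) (f15639 C) _ (by decide +kernel)

theorem f15683 : C.T (v3 C) [26, 35, 56, 80, 110] (v19 C) [8, 31, 65, 88, 99, 109, 111] :=
  C.conv (f15592 C) (f15600 C) (f15682 C) _ [126, 160, 165, 173, 178] _ (by decide +kernel) (by decide +kernel) (by decide +kernel)

theorem f15684 : C.E (v19 C) [8, 31, 65, 88, 99, 109, 111] (v19 C) [4, 50, 81, 104, 109, 123] :=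
  C.sameSrc (f15683 C) (f15681 C)

theorem f15685 : C.S (v19 C) [15, 43, 63, 73, 105, 109, 112] :=
  C.stEq (f15684 C) _ (by decide +kernel)

theorem f15695 : C.T (v3 C) [14, 34, 69, 71, 107, 109, 116] (v18 C) [18, 47, 57, 86, 91, 109, 115] :=
  C.conv (f6916 C) (f7402 C) (f7402 C) _ [130, 158, 167, 175, 178] _ (by decide +kernel) (by decide +kernel) (by decide +kernel)

theorem f15696 : C.S (v18 C) [26, 43, 49, 77, 91, 110, 115] :=
  C.stMul (f6836 C) (f6836 C) _ (by decide +kernel)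

theorem f15697 : C.T (v18 C) [4, 29, 82, 93] (v18 C) [21, 31, 61, 89, 105, 109, 121] :=
  C.conv (f13220 C) (f6836 C) (f15696 C) _ [148, 152, 167, 171, 177] _ (by decide +kernel) (by decide +kernel) (by decide +kernel)

theorem f15698 : C.S (v18 C) [26, 43, 49, 77, 91, 110, 115] :=
  C.stMul (f6836 C) (f6836 C) _ (by decide +kernel)

theorem f15699 : C.T (v18 C) [6, 44, 67, 106, 116] (v19 C) [7, 45, 68, 84, 108, 109, 119] :=
  C.conv (f15625 C) (f15698 C) (f6836 C) _ [133, 152, 170, 172, 178] _ (by decide +kernel) (by decide +kernel) (by decide +kernel)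

theorem f15700 : C.T (v19 C) [17, 35, 54, 73, 93, 109, 111] (v3 C) [12, 27, 62, 76, 92, 109, 111] :=
  C.closeT (p := (v3 C)) (pu := [14, 34, 69, 71, 107, 109, 116])
    (C.pT (f15695 C)
    (C.pH [8, 30, 65, 84, 94, 117] [4, 29, 82, 93] (by decide +kernel)
    (C.pT (f15697 C)
    (C.pH [26, 38, 54, 89, 90, 113] [6, 44, 67, 106, 116] (by decide +kernel)
    (C.pT (f15699 C)
    (C.pH [8, 30, 65, 84, 94, 117] [17, 35, 54, 73, 93, 109, 111] (by decide +kernel) (C.pNil _ _)))))))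
    (C.pH [26, 38, 54, 89, 90, 113] [14, 34, 69, 71, 107, 109, 116] (by decide +kernel) (C.pNil _ _))
    (C.loop_of_one (relLoop1 C) _ _)

theorem f15701 : C.T (v3 C) [12, 27, 62, 76, 92, 109, 111] (v19 C) [17, 35, 54, 73, 93, 109, 111] :=
  C.flip (f15700 C)

theorem f15702 : C.T (v3 C) [16, 41, 66, 75, 91, 123] (v18 C) [24, 39, 65, 86, 105, 110, 119] :=
  C.conv (f6916 C) (f7402 C) (f7402 C) _ [139, 152, 165, 171, 178] _ (by decide +kernel) (by decide +kernel) (by decide +kernel)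

theorem f15703 : C.S (v18 C) [26, 43, 49, 77, 91, 110, 115] :=
  C.stMul (f6836 C) (f6836 C) _ (by decide +kernel)

theorem f15704 : C.T (v18 C) [16, 33, 67, 123] (v18 C) [15, 35, 50, 80, 91, 109, 120] :=
  C.conv (f15104 C) (f15703 C) (f7121 C) _ [134, 163, 165, 171, 178] _ (by decide +kernel) (by decide +kernel) (by decide +kernel)

theorem f15705 : C.S (v3 C) [12, 28, 65, 85, 98, 110, 116] :=
  C.stMul (f353 C) (f15597 C) _ (by decide +kernel)

theorem f15706 : C.S (v3 C) [11, 43, 53, 80, 104, 110] :=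
  C.stMul (f331 C) (f15705 C) _ (by decide +kernel)

theorem f15707 : C.S (v3 C) [13, 46, 69, 87, 104, 109, 118] :=
  C.stMul (f353 C) (f15706 C) _ (by decide +kernel)

theorem f15708 : C.T (v3 C) [26, 27, 61, 73, 103, 109, 118] (v19 C) [21, 42, 69, 86, 95, 124] :=
  C.conv (f15592 C) (f15600 C) (f15707 C) _ [136, 158, 170] _ (by decide +kernel) (by decide +kernel) (by decide +kernel)

theorem f15709 : C.T (v19 C) [21, 42, 69, 86, 95, 124] (v3 C) [26, 27, 61, 73, 103, 109, 118] :=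
  C.flip (f15708 C)

theorem f15710 : C.T (v18 C) [9, 45, 51, 79, 101, 109, 123] (v19 C) [12, 29, 69, 81, 100, 109, 113] :=
  C.closeT (p := (v3 C)) (pu := [16, 41, 66, 75, 91, 123])
    (C.pT (f15702 C)
    (C.pH [8, 30, 65, 84, 94, 117] [16, 33, 67, 123] (by decide +kernel)
    (C.pT (f15704 C)
    (C.pH [26, 38, 54, 89, 90, 113] [9, 45, 51, 79, 101, 109, 123] (by decide +kernel) (C.pNil _ _)))))
    (C.pH [8, 30, 65, 84, 94, 117] [21, 42, 69, 86, 95, 124] (by decide +kernel)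
    (C.pT (f15709 C)
    (C.pH [26, 38, 54, 89, 90, 113] [16, 41, 66, 75, 91, 123] (by decide +kernel) (C.pNil _ _))))
    (C.loop_of_one (relLoop1 C) _ _)

theorem f15711 : C.T (v19 C) [12, 29, 69, 81, 100, 109, 113] (v18 C) [9, 45, 51, 79, 101, 109, 123] :=
  C.flip (f15710 C)

theorem f15712 : C.T (v3 C) [21, 42, 53, 85, 99, 114] (v18 C) [5, 36, 58, 82, 96, 109, 111] :=
  C.conv (f6916 C) (f7402 C) (f7402 C) _ [146, 169, 178] _ (by decide +kernel) (by decide +kernel) (by decide +kernel)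

theorem f15713 : C.T (v18 C) [12, 38, 68, 87, 101, 117] (v18 C) [23, 36, 50, 81, 95, 109] :=
  C.conv (f7437 C) (f6836 C) (f7121 C) _ [147, 150, 174, 178] _ (by decide +kernel) (by decide +kernel) (by decide +kernel)

theorem f15714 : C.S (v3 C) [13, 29, 60, 92, 109, 121] :=
  C.stMul (f353 C) (f328 C) _ (by decide +kernel)

theorem f15715 : C.S (v3 C) [9, 29, 68, 75, 108, 110, 124] :=
  C.stMul (f335 C) (f328 C) _ (by decide +kernel)

theorem f15716 : C.S (v3 C) [15, 38, 55, 77, 98, 114] :=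
  C.stMul (f331 C) (f15715 C) _ (by decide +kernel)

theorem f15717 : C.S (v3 C) [16, 37, 62, 81, 101, 109, 123] :=
  C.stMul (f335 C) (f15716 C) _ (by decide +kernel)

theorem f15718 : C.T (v3 C) [10, 44, 66, 87, 91, 110, 113] (v19 C) [11, 39, 63, 75, 106, 116] :=
  C.conv (f15701 C) (f15714 C) (f15717 C) _ [147, 162, 167, 172, 178] _ (by decide +kernel) (by decide +kernel) (by decide +kernel)

theorem f15719 : C.T (v19 C) [11, 39, 63, 75, 106, 116] (v3 C) [10, 44, 66, 87, 91, 110, 113] :=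
  C.flip (f15718 C)

theorem f15720 : C.T (v18 C) [7, 44, 62, 78, 93, 109, 111] (v19 C) [13, 27, 59, 79, 98, 109, 125] :=
  C.closeT (p := (v3 C)) (pu := [21, 42, 53, 85, 99, 114])
    (C.pT (f15712 C)
    (C.pH [8, 30, 65, 84, 94, 117] [12, 38, 68, 87, 101, 117] (by decide +kernel)
    (C.pT (f15713 C)
    (C.pH [26, 38, 54, 89, 90, 113] [7, 44, 62, 78, 93, 109, 111] (by decide +kernel) (C.pNil _ _)))))
    (C.pH [8, 30, 65, 84, 94, 117] [11, 39, 63, 75, 106, 116] (by decide +kernel)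
    (C.pT (f15719 C)
    (C.pH [26, 38, 54, 89, 90, 113] [21, 42, 53, 85, 99, 114] (by decide +kernel) (C.pNil _ _))))
    (C.loop_of_one (relLoop1 C) _ _)

theorem f15721 : C.T (v19 C) [13, 27, 59, 79, 98, 109, 125] (v18 C) [7, 44, 62, 78, 93, 109, 111] :=
  C.flip (f15720 C)

theorem f15722 : C.T (v3 C) [10, 27, 56, 76, 107, 109, 124] (v18 C) [12, 50, 84, 92, 110, 114] :=
  C.conv (f7327 C) (f7806 C) (f7806 C) _ [135, 149, 166, 172, 177] _ (by decide +kernel) (by decide +kernel) (by decide +kernel)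

theorem f15723 : C.T (v18 C) [21, 38, 53, 84, 92, 110, 114] (v17 C) [23, 34, 62, 77, 97, 109, 118] :=
  C.conv (f10660 C) (f7121 C) (f6836 C) _ [141, 162, 168, 176, 178] _ (by decide +kernel) (by decide +kernel) (by decide +kernel)

theorem f15724 : C.S (v3 C) [13, 29, 60, 92, 109, 121] :=
  C.stMul (f353 C) (f328 C) _ (by decide +kernel)

theorem f15725 : C.S (v3 C) [8, 48, 63, 86, 90, 110, 123] :=
  C.stMul (f331 C) (f15724 C) _ (by decide +kernel)

theorem f15726 : C.T (v3 C) [18, 27, 67, 88, 106, 109, 119] (v19 C) [19, 38, 79, 93, 110, 124] :=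
  C.conv (f15592 C) (f15600 C) (f15725 C) _ [142, 162, 165, 173] _ (by decide +kernel) (by decide +kernel) (by decide +kernel)

theorem f15727 : C.T (v19 C) [19, 38, 79, 93, 110, 124] (v3 C) [18, 27, 67, 88, 106, 109, 119] :=
  C.flip (f15726 C)

theorem f15728 : C.T (v17 C) [7, 48, 67, 74, 97, 110, 119] (v19 C) [15, 28, 58, 83, 103, 120] :=
  C.closeT (p := (v3 C)) (pu := [10, 27, 56, 76, 107, 109, 124])
    (C.pT (f15722 C)
    (C.pH [8, 30, 65, 84, 94, 117] [21, 38, 53, 84, 92, 110, 114] (by decide +kernel)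
    (C.pT (f15723 C)
    (C.pH [26, 38, 54, 89, 90, 113] [7, 48, 67, 74, 97, 110, 119] (by decide +kernel) (C.pNil _ _)))))
    (C.pH [8, 30, 65, 84, 94, 117] [19, 38, 79, 93, 110, 124] (by decide +kernel)
    (C.pT (f15727 C)
    (C.pH [26, 38, 54, 89, 90, 113] [10, 27, 56, 76, 107, 109, 124] (by decide +kernel) (C.pNil _ _))))
    (C.loop_of_one (relLoop1 C) _ _)

theorem f15729 : C.T (v19 C) [15, 28, 58, 83, 103, 120] (v17 C) [7, 48, 67, 74, 97, 110, 119] :=
  C.flip (f15728 C)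

theorem f15730 : C.T (v3 C) [12, 40, 58, 73, 97, 125] (v18 C) [17, 32, 67, 81, 93, 109, 123] :=
  C.conv (f7327 C) (f7806 C) (f7806 C) _ [145, 153, 164, 174, 178] _ (by decide +kernel) (by decide +kernel) (by decide +kernel)

theorem f15731 : C.T (v18 C) [22, 34, 56, 89, 95, 109, 115] (v18 C) [15, 27, 54, 74, 90, 123] :=
  C.conv (f11683 C) (f12593 C) (f12593 C) _ [128, 154, 168, 174] _ (by decide +kernel) (by decide +kernel) (by decide +kernel)

theorem f15732 : C.S (v3 C) [30, 69, 79, 91] :=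
  C.stMul (f335 C) (f15724 C) _ (by decide +kernel)

theorem f15733 : C.S (v3 C) [9, 35, 69, 77, 96, 110, 118] :=
  C.stMul (f353 C) (f15732 C) _ (by decide +kernel)

theorem f15734 : C.S (v3 C) [20, 43, 61, 80, 107, 110, 114] :=
  C.stMul (f335 C) (f15733 C) _ (by decide +kernel)

theorem f15735 : C.T (v3 C) [24, 45, 58, 71, 96, 110] (v19 C) [44, 66, 82, 92, 110, 118] :=
  C.conv (f15592 C) (f15600 C) (f15734 C) _ [135, 152, 166, 173, 178] _ (by decide +kernel) (by decide +kernel) (by decide +kernel)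

theorem f15736 : C.T (v19 C) [44, 66, 82, 92, 110, 118] (v3 C) [24, 45, 58, 71, 96, 110] :=
  C.flip (f15735 C)

end CfsgLib.J4Index
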