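import Cfsg.Agent.Lib.J4Index.Facts15

/-!
# Derived equations (generated)
-/

set_option autoImplicit false
set_option maxRecDepth 100000
set_option linter.style.longLine false

namespace CfsgLib.J4Index

variable {G X : Type} [Group G] [MulAction G X] (C : Ctx G X)

theorem f15737 : C.T (v18 C) [9, 47, 69, 71, 96, 110, 113] (v19 C) [8, 29, 58, 87, 100, 109, 124] :=
  C.closeT (p := (v3 C)) (pu := [12, 40, 58, 73, 97, 125])
    (C.pT (f15730 C)
    (C.pH [8, 30, 65, 84, 94, 117] [22, 34, 56, 89, 95, 109, 115] (by decide +kernel)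
    (C.pT (f15731 C)
    (C.pH [26, 38, 54, 89, 90, 113] [9, 47, 69, 71, 96, 110, 113] (by decide +kernel) (C.pNil _ _)))))
    (C.pH [8, 30, 65, 84, 94, 117] [44, 66, 82, 92, 110, 118] (by decide +kernel)
    (C.pT (f15736 C)
    (C.pH [26, 38, 54, 89, 90, 113] [12, 40, 58, 73, 97, 125] (by decide +kernel) (C.pNil _ _))))
    (C.loop_of_one (relLoop1 C) _ _)

theorem f15738 : C.T (v19 C) [8, 29, 58, 87, 100, 109, 124] (v18 C) [9, 47, 69, 71, 96, 110, 113] :=
  C.flip (f15737 C)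

theorem f15739 : C.T (v3 C) [21, 35, 58, 82, 102, 115] (v18 C) [25, 48, 81, 90, 110, 118] :=
  C.conv (f8165 C) (f8200 C) (f8200 C) _ [145, 150, 165, 173] _ (by decide +kernel) (by decide +kernel) (by decide +kernel)

theorem f15740 : C.T (v18 C) [9, 43, 52, 89, 96, 109] (v16 C) [11, 38, 65, 73, 91, 110, 124] :=
  C.conv (f14160 C) (f6836 C) (f7121 C) _ [139, 158, 168, 172] _ (by decide +kernel) (by decide +kernel) (by decide +kernel)

theorem f15741 : C.S (v3 C) [17, 52, 88, 94, 110, 125] :=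
  C.stMul (f331 C) (f15639 C) _ (by decide +kernel)

theorem f15742 : C.S (v3 C) [21, 39, 65, 74, 103, 110, 122] :=
  C.stMul (f353 C) (f15741 C) _ (by decide +kernel)

theorem f15743 : C.T (v3 C) [10, 28, 69, 70, 91, 110] (v19 C) [10, 33, 57, 72, 107, 109, 121] :=
  C.conv (f15592 C) (f15600 C) (f15742 C) _ [162, 170, 174, 177] _ (by decide +kernel) (by decide +kernel) (by decide +kernel)

theorem f15744 : C.T (v19 C) [10, 33, 57, 72, 107, 109, 121] (v3 C) [10, 28, 69, 70, 91, 110] :=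
  C.flip (f15743 C)

theorem f15745 : C.T (v16 C) [24, 37, 65, 75, 108, 110, 112] (v19 C) [23, 32, 54, 89, 94, 109, 120] :=
  C.closeT (p := (v3 C)) (pu := [21, 35, 58, 82, 102, 115])
    (C.pT (f15739 C)
    (C.pH [8, 30, 65, 84, 94, 117] [9, 43, 52, 89, 96, 109] (by decide +kernel)
    (C.pT (f15740 C)
    (C.pH [26, 38, 54, 89, 90, 113] [24, 37, 65, 75, 108, 110, 112] (by decide +kernel) (C.pNil _ _)))))
    (C.pH [8, 30, 65, 84, 94, 117] [10, 33, 57, 72, 107, 109, 121] (by decide +kernel)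
    (C.pT (f15744 C)
    (C.pH [26, 38, 54, 89, 90, 113] [21, 35, 58, 82, 102, 115] (by decide +kernel) (C.pNil _ _))))
    (C.loop_of_one (relLoop1 C) _ _)

theorem f15746 : C.T (v19 C) [23, 32, 54, 89, 94, 109, 120] (v16 C) [24, 37, 65, 75, 108, 110, 112] :=
  C.flip (f15745 C)

theorem f15747 : C.T (v3 C) [13, 33, 62, 89, 108, 119] (v18 C) [21, 28, 64, 88, 90, 109, 117] :=
  C.conv (f8165 C) (f8200 C) (f8200 C) _ [144, 159, 166, 174, 178] _ (by decide +kernel) (by decide +kernel) (by decide +kernel)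

theorem f15748 : C.T (v18 C) [24, 38, 50, 70, 99, 109, 120] (v18 C) [19, 28, 50, 83, 96, 109, 116] :=
  C.conv (f9107 C) (f11200 C) (f11200 C) _ [127, 157, 172, 178] _ (by decide +kernel) (by decide +kernel) (by decide +kernel)

theorem f15749 : C.T (v3 C) [16, 46, 58, 86, 105, 110, 124] (v19 C) [7, 37, 49, 80, 96, 122] :=
  C.conv (f15592 C) (f15600 C) (f335 C) _ [138, 163, 169, 173, 178] _ (by decide +kernel) (by decide +kernel) (by decide +kernel)

theorem f15750 : C.T (v19 C) [7, 37, 49, 80, 96, 122] (v3 C) [16, 46, 58, 86, 105, 110, 124] :=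
  C.flip (f15749 C)

theorem f15751 : C.T (v18 C) [17, 44, 63, 80, 90, 110, 122] (v19 C) [11, 47, 50, 89, 104, 109, 122] :=
  C.closeT (p := (v3 C)) (pu := [13, 33, 62, 89, 108, 119])
    (C.pT (f15747 C)
    (C.pH [8, 30, 65, 84, 94, 117] [24, 38, 50, 70, 99, 109, 120] (by decide +kernel)
    (C.pT (f15748 C)
    (C.pH [26, 38, 54, 89, 90, 113] [17, 44, 63, 80, 90, 110, 122] (by decide +kernel) (C.pNil _ _)))))
    (C.pH [8, 30, 65, 84, 94, 117] [7, 37, 49, 80, 96, 122] (by decide +kernel)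
    (C.pT (f15750 C)
    (C.pH [26, 38, 54, 89, 90, 113] [13, 33, 62, 89, 108, 119] (by decide +kernel) (C.pNil _ _))))
    (C.loop_of_one (relLoop1 C) _ _)

theorem f15752 : C.T (v19 C) [11, 47, 50, 89, 104, 109, 122] (v18 C) [17, 44, 63, 80, 90, 110, 122] :=
  C.flip (f15751 C)

theorem f15753 : C.T (v3 C) [14, 43, 65, 89, 107, 117] (v18 C) [15, 48, 65, 70, 104, 109, 113] :=
  C.conv (f8165 C) (f8200 C) (f8200 C) _ [128, 161, 164, 171] _ (by decide +kernel) (by decide +kernel) (by decide +kernel)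

theorem f15754 : C.S (v18 C) [26, 43, 49, 77, 91, 110, 115] :=
  C.stMul (f6836 C) (f6836 C) _ (by decide +kernel)

theorem f15755 : C.T (v18 C) [19, 43, 84, 105, 111] (v18 C) [8, 45, 57, 88, 92, 113] :=
  C.conv (f9795 C) (f15754 C) (f7121 C) _ [145, 155, 169, 175] _ (by decide +kernel) (by decide +kernel) (by decide +kernel)

theorem f15756 : C.S (v3 C) [20, 42, 68, 89, 99] :=
  C.stMul (f335 C) (f353 C) _ (by decide +kernel)

theorem f15757 : C.S (v3 C) [7, 59, 76, 107, 120] :=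
  C.stMul (f328 C) (f15756 C) _ (by decide +kernel)

theorem f15758 : C.S (v3 C) [12, 35, 65, 93, 109, 125] :=
  C.stMul (f331 C) (f15757 C) _ (by decide +kernel)

theorem f15759 : C.T (v3 C) [12, 38, 60, 77, 95, 124] (v19 C) [24, 38, 51, 86, 95, 122] :=
  C.conv (f15701 C) (f15714 C) (f15758 C) _ [127, 161, 165, 177] _ (by decide +kernel) (by decide +kernel) (by decide +kernel)

theorem f15760 : C.T (v19 C) [24, 38, 51, 86, 95, 122] (v3 C) [12, 38, 60, 77, 95, 124] :=
  C.flip (f15759 C)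

theorem f15761 : C.T (v18 C) [11, 34, 54, 84, 95, 110, 120] (v19 C) [21, 28, 55, 72, 106, 114] :=
  C.closeT (p := (v3 C)) (pu := [14, 43, 65, 89, 107, 117])
    (C.pT (f15753 C)
    (C.pH [8, 30, 65, 84, 94, 117] [19, 43, 84, 105, 111] (by decide +kernel)
    (C.pT (f15755 C)
    (C.pH [26, 38, 54, 89, 90, 113] [11, 34, 54, 84, 95, 110, 120] (by decide +kernel) (C.pNil _ _)))))
    (C.pH [8, 30, 65, 84, 94, 117] [24, 38, 51, 86, 95, 122] (by decide +kernel)
    (C.pT (f15760 C)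
    (C.pH [26, 38, 54, 89, 90, 113] [14, 43, 65, 89, 107, 117] (by decide +kernel) (C.pNil _ _))))
    (C.loop_of_one (relLoop1 C) _ _)

theorem f15762 : C.T (v19 C) [21, 28, 55, 72, 106, 114] (v18 C) [11, 34, 54, 84, 95, 110, 120] :=
  C.flip (f15761 C)

theorem f15763 : C.T (v3 C) [20, 40, 52, 81, 95, 110, 124] (v18 C) [7, 28, 68, 80, 107, 109, 123] :=
  C.conv (f8165 C) (f8200 C) (f8200 C) _ [130, 152, 167, 176, 177] _ (by decide +kernel) (by decide +kernel) (by decide +kernel)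

theorem f15764 : C.S (v18 C) [26, 43, 49, 77, 91, 110, 115] :=
  C.stMul (f6836 C) (f6836 C) _ (by decide +kernel)

theorem f15765 : C.T (v18 C) [17, 33, 68, 84, 97, 109, 115] (v17 C) [7, 48, 55, 75, 100, 110, 119] :=
  C.conv (f7789 C) (f6836 C) (f15764 C) _ [134, 160, 171, 177] _ (by decide +kernel) (by decide +kernel) (by decide +kernel)

theorem f15766 : C.S (v3 C) [18, 35, 57, 82, 93, 110, 115] :=
  C.stMul (f353 C) (f331 C) _ (by decide +kernel)

theorem f15767 : C.S (v3 C) [6, 45, 53, 79, 94, 110, 115] :=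
  C.stMul (f335 C) (f15766 C) _ (by decide +kernel)

theorem f15768 : C.S (v3 C) [26, 34, 52, 84, 93, 110, 125] :=
  C.stMul (f331 C) (f15767 C) _ (by decide +kernel)

theorem f15769 : C.S (v3 C) [4, 41, 69, 89, 93, 110, 125] :=
  C.stMul (f353 C) (f15768 C) _ (by decide +kernel)

theorem f15770 : C.T (v3 C) [17, 36, 66, 77, 100, 111] (v19 C) [22, 41, 59, 71, 102, 117] :=
  C.conv (f15592 C) (f15600 C) (f15769 C) _ [135, 154, 172, 178] _ (by decide +kernel) (by decide +kernel) (by decide +kernel)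

theorem f15771 : C.T (v19 C) [22, 41, 59, 71, 102, 117] (v3 C) [17, 36, 66, 77, 100, 111] :=
  C.flip (f15770 C)

theorem f15772 : C.T (v17 C) [38, 60, 70, 107, 109, 123] (v19 C) [17, 36, 66, 75, 110, 124] :=
  C.closeT (p := (v3 C)) (pu := [20, 40, 52, 81, 95, 110, 124])
    (C.pT (f15763 C)
    (C.pH [8, 30, 65, 84, 94, 117] [17, 33, 68, 84, 97, 109, 115] (by decide +kernel)
    (C.pT (f15765 C)
    (C.pH [26, 38, 54, 89, 90, 113] [38, 60, 70, 107, 109, 123] (by decide +kernel) (C.pNil _ _)))))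
    (C.pH [8, 30, 65, 84, 94, 117] [22, 41, 59, 71, 102, 117] (by decide +kernel)
    (C.pT (f15771 C)
    (C.pH [26, 38, 54, 89, 90, 113] [20, 40, 52, 81, 95, 110, 124] (by decide +kernel) (C.pNil _ _))))
    (C.loop_of_one (relLoop1 C) _ _)

theorem f15773 : C.T (v19 C) [17, 36, 66, 75, 110, 124] (v17 C) [38, 60, 70, 107, 109, 123] :=
  C.flip (f15772 C)

theorem f15774 : C.T (v3 C) [15, 42, 68, 72, 90, 110, 125] (v18 C) [18, 48, 64, 79, 100, 123] :=
  C.conv (f8216 C) (f8435 C) (f8435 C) _ [153, 164, 174] _ (by decide +kernel) (by decide +kernel) (by decide +kernel)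

theorem f15775 : C.T (v18 C) [4, 27, 64, 85, 102, 109, 118] (v18 C) [4, 41, 54, 80, 109, 111] :=
  C.conv (f13335 C) (f7121 C) (f6836 C) _ [132, 151, 165, 173, 177] _ (by decide +kernel) (by decide +kernel) (by decide +kernel)

theorem f15776 : C.S (v3 C) [23, 29, 57, 87, 91, 110, 120] :=
  C.stMul (f331 C) (f328 C) _ (by decide +kernel)

theorem f15777 : C.S (v3 C) [12, 29, 49, 79, 92, 110, 117] :=
  C.stMul (f353 C) (f15776 C) _ (by decide +kernel)

theorem f15778 : C.S (v3 C) [25, 34, 84, 93, 109, 116] :=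
  C.stMul (f335 C) (f15777 C) _ (by decide +kernel)

theorem f15779 : C.T (v3 C) [20, 39, 67, 88, 105, 110, 113] (v19 C) [5, 31, 54, 75, 95, 119] :=
  C.conv (f15701 C) (f15714 C) (f15778 C) _ [128, 159, 164, 176] _ (by decide +kernel) (by decide +kernel) (by decide +kernel)

theorem f15780 : C.T (v19 C) [5, 31, 54, 75, 95, 119] (v3 C) [20, 39, 67, 88, 105, 110, 113] :=
  C.flip (f15779 C)

theorem f15781 : C.T (v18 C) [25, 46, 57, 79, 93] (v19 C) [14, 57, 76, 105, 110, 124] :=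
  C.closeT (p := (v3 C)) (pu := [15, 42, 68, 72, 90, 110, 125])
    (C.pT (f15774 C)
    (C.pH [8, 30, 65, 84, 94, 117] [4, 27, 64, 85, 102, 109, 118] (by decide +kernel)
    (C.pT (f15775 C)
    (C.pH [26, 38, 54, 89, 90, 113] [25, 46, 57, 79, 93] (by decide +kernel) (C.pNil _ _)))))
    (C.pH [8, 30, 65, 84, 94, 117] [5, 31, 54, 75, 95, 119] (by decide +kernel)
    (C.pT (f15780 C)
    (C.pH [26, 38, 54, 89, 90, 113] [15, 42, 68, 72, 90, 110, 125] (by decide +kernel) (C.pNil _ _))))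
    (C.loop_of_one (relLoop1 C) _ _)

theorem f15782 : C.T (v19 C) [14, 57, 76, 105, 110, 124] (v18 C) [25, 46, 57, 79, 93] :=
  C.flip (f15781 C)

theorem f15783 : C.T (v3 C) [25, 42, 54, 77, 98, 110, 125] (v18 C) [15, 47, 51, 88, 92, 110, 125] :=
  C.conv (f8216 C) (f8435 C) (f8435 C) _ [130, 152, 166, 176, 178] _ (by decide +kernel) (by decide +kernel) (by decide +kernel)

theorem f15784 : C.S (v18 C) [26, 43, 49, 77, 91, 110, 115] :=
  C.stMul (f6836 C) (f6836 C) _ (by decide +kernel)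

theorem f15785 : C.T (v18 C) [19, 33, 50, 76, 95, 110, 122] (v19 C) [20, 31, 53, 80, 103, 110, 119] :=
  C.conv (f15720 C) (f15784 C) (f15784 C) _ [127, 160, 168, 171] _ (by decide +kernel) (by decide +kernel) (by decide +kernel)

theorem f15786 : C.S (v3 C) [15, 34, 56, 71, 106, 109, 117] :=
  C.stMul (f331 C) (f353 C) _ (by decide +kernel)

theorem f15787 : C.S (v3 C) [16, 65, 76, 94, 125] :=
  C.stMul (f335 C) (f15786 C) _ (by decide +kernel)

theorem f15788 : C.T (v3 C) [4, 30, 68, 74, 93, 123] (v18 C) [13, 31, 66, 72, 108, 110, 116] :=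
  C.conv (f8216 C) (f8435 C) (f15787 C) _ [131, 158, 168, 173, 178] _ (by decide +kernel) (by decide +kernel) (by decide +kernel)

theorem f15789 : C.T (v18 C) [13, 31, 66, 72, 108, 110, 116] (v3 C) [4, 30, 68, 74, 93, 123] :=
  C.flip (f15788 C)

theorem f15790 : C.T (v19 C) [15, 31, 50, 86, 97, 109, 116] (v18 C) [6, 47, 67, 100, 111] :=
  C.closeT (p := (v3 C)) (pu := [25, 42, 54, 77, 98, 110, 125])
    (C.pT (f15783 C)
    (C.pH [8, 30, 65, 84, 94, 117] [19, 33, 50, 76, 95, 110, 122] (by decide +kernel)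
    (C.pT (f15785 C)
    (C.pH [26, 38, 54, 89, 90, 113] [15, 31, 50, 86, 97, 109, 116] (by decide +kernel) (C.pNil _ _)))))
    (C.pH [8, 30, 65, 84, 94, 117] [13, 31, 66, 72, 108, 110, 116] (by decide +kernel)
    (C.pT (f15789 C)
    (C.pH [26, 38, 54, 89, 90, 113] [25, 42, 54, 77, 98, 110, 125] (by decide +kernel) (C.pNil _ _))))
    (C.loop_of_one (relLoop1 C) _ _)

theorem f15791 : C.T (v18 C) [6, 47, 67, 100, 111] (v19 C) [15, 31, 50, 86, 97, 109, 116] :=
  C.flip (f15790 C)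

theorem f15792 : C.T (v3 C) [19, 39, 69, 87, 100, 110, 122] (v18 C) [12, 36, 55, 88, 91, 109, 120] :=
  C.conv (f8216 C) (f8435 C) (f8435 C) _ [160, 170, 178] _ (by decide +kernel) (by decide +kernel) (by decide +kernel)

theorem f15793 : C.T (v18 C) [21, 46, 87, 99, 109, 112] (v18 C) [10, 36, 72, 99, 110, 112] :=
  C.conv (f8131 C) (f11027 C) (f7121 C) _ [136, 162, 164, 176] _ (by decide +kernel) (by decide +kernel) (by decide +kernel)

theorem f15794 : C.S (v3 C) [23, 35, 58, 78, 94, 110, 123] :=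
  C.stMul (f328 C) (f15776 C) _ (by decide +kernel)

theorem f15795 : C.S (v3 C) [21, 46, 68, 75, 95] :=
  C.stMul (f335 C) (f15794 C) _ (by decide +kernel)

theorem f15796 : C.T (v3 C) [22, 42, 52, 70, 110, 115] (v19 C) [21, 32, 61, 84, 93, 110, 122] :=
  C.conv (f15701 C) (f15714 C) (f15795 C) _ [140, 150, 167, 174, 177] _ (by decide +kernel) (by decide +kernel) (by decide +kernel)

theorem f15797 : C.T (v19 C) [21, 32, 61, 84, 93, 110, 122] (v3 C) [22, 42, 52, 70, 110, 115] :=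
  C.flip (f15796 C)

theorem f15798 : C.T (v18 C) [21, 36, 79, 105, 116] (v19 C) [12, 44, 58, 75, 103, 110, 122] :=
  C.closeT (p := (v3 C)) (pu := [19, 39, 69, 87, 100, 110, 122])
    (C.pT (f15792 C)
    (C.pH [8, 30, 65, 84, 94, 117] [21, 46, 87, 99, 109, 112] (by decide +kernel)
    (C.pT (f15793 C)
    (C.pH [26, 38, 54, 89, 90, 113] [21, 36, 79, 105, 116] (by decide +kernel) (C.pNil _ _)))))
    (C.pH [8, 30, 65, 84, 94, 117] [21, 32, 61, 84, 93, 110, 122] (by decide +kernel)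
    (C.pT (f15797 C)
    (C.pH [26, 38, 54, 89, 90, 113] [19, 39, 69, 87, 100, 110, 122] (by decide +kernel) (C.pNil _ _))))
    (C.loop_of_one (relLoop1 C) _ _)

theorem f15799 : C.T (v19 C) [12, 44, 58, 75, 103, 110, 122] (v18 C) [21, 36, 79, 105, 116] :=
  C.flip (f15798 C)

theorem f15800 : C.T (v3 C) [4, 36, 49, 76, 92, 109, 113] (v18 C) [15, 45, 68, 82, 90, 112] :=
  C.conv (f8216 C) (f8435 C) (f8435 C) _ [136, 160, 167, 172, 177] _ (by decide +kernel) (by decide +kernel) (by decide +kernel)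

theorem f15801 : C.S (v18 C) [26, 43, 49, 77, 91, 110, 115] :=
  C.stMul (f6836 C) (f6836 C) _ (by decide +kernel)

theorem f15802 : C.T (v18 C) [19, 30, 66, 70, 91, 125] (v19 C) [4, 29, 68, 70, 99, 110, 118] :=
  C.conv (f15559 C) (f15801 C) (f6836 C) _ [126, 160, 168, 173, 177] _ (by decide +kernel) (by decide +kernel) (by decide +kernel)

theorem f15803 : C.S (v3 C) [13, 29, 60, 92, 109, 121] :=
  C.stMul (f353 C) (f328 C) _ (by decide +kernel)

theorem f15804 : C.S (v3 C) [30, 69, 79, 91] :=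
  C.stMul (f335 C) (f15803 C) _ (by decide +kernel)

theorem f15805 : C.S (v3 C) [22, 48, 51, 106, 122] :=
  C.stMul (f331 C) (f15804 C) _ (by decide +kernel)

theorem f15806 : C.T (v3 C) [6, 35, 54, 70, 121] (v17 C) [11, 48, 54, 73, 100, 122] :=
  C.conv (f6269 C) (f7309 C) (f15805 C) _ [128, 155, 167] _ (by decide +kernel) (by decide +kernel) (by decide +kernel)

theorem f15807 : C.T (v17 C) [11, 48, 54, 73, 100, 122] (v3 C) [6, 35, 54, 70, 121] :=
  C.flip (f15806 C)

theorem f15808 : C.T (v19 C) [25, 37, 63, 88, 101, 110, 119] (v17 C) [13, 44, 66, 74, 107, 110, 120] :=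
  C.closeT (p := (v3 C)) (pu := [4, 36, 49, 76, 92, 109, 113])
    (C.pT (f15800 C)
    (C.pH [8, 30, 65, 84, 94, 117] [19, 30, 66, 70, 91, 125] (by decide +kernel)
    (C.pT (f15802 C)
    (C.pH [26, 38, 54, 89, 90, 113] [25, 37, 63, 88, 101, 110, 119] (by decide +kernel) (C.pNil _ _)))))
    (C.pH [8, 30, 65, 84, 94, 117] [11, 48, 54, 73, 100, 122] (by decide +kernel)
    (C.pT (f15807 C)
    (C.pH [26, 38, 54, 89, 90, 113] [4, 36, 49, 76, 92, 109, 113] (by decide +kernel) (C.pNil _ _))))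
    (C.loop_of_one (relLoop1 C) _ _)

theorem f15809 : C.T (v17 C) [13, 44, 66, 74, 107, 110, 120] (v19 C) [25, 37, 63, 88, 101, 110, 119] :=
  C.flip (f15808 C)

theorem f15810 : C.T (v3 C) [20, 27, 65, 75, 108, 125] (v18 C) [18, 41, 61, 86, 93, 123] :=
  C.conv (f8223 C) (f8361 C) (f8361 C) _ [130, 156, 166, 174, 178] _ (by decide +kernel) (by decide +kernel) (by decide +kernel)

theorem f15811 : C.S (v18 C) [26, 43, 49, 77, 91, 110, 115] :=
  C.stMul (f6836 C) (f6836 C) _ (by decide +kernel)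

theorem f15812 : C.T (v18 C) [4, 34, 59, 78, 110] (v18 C) [15, 37, 55, 71, 91, 121] :=
  C.conv (f13124 C) (f15811 C) (f15811 C) _ [138, 168, 174, 178] _ (by decide +kernel) (by decide +kernel) (by decide +kernel)

theorem f15813 : C.S (v3 C) [19, 30, 60, 72, 107, 110, 116] :=
  C.stMul (f331 C) (f335 C) _ (by decide +kernel)

theorem f15814 : C.S (v3 C) [26, 29, 49, 97, 123] :=
  C.stMul (f335 C) (f15813 C) _ (by decide +kernel)

theorem f15815 : C.S (v3 C) [4, 30, 49, 89, 105, 125] :=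
  C.stMul (f353 C) (f15814 C) _ (by decide +kernel)

theorem f15816 : C.T (v3 C) [17, 31, 54, 88, 90, 125] (v19 C) [9, 27, 52, 72, 90, 109, 125] :=
  C.conv (f15701 C) (f15714 C) (f15815 C) _ [136, 153, 164, 172] _ (by decide +kernel) (by decide +kernel) (by decide +kernel)

theorem f15817 : C.T (v19 C) [9, 27, 52, 72, 90, 109, 125] (v3 C) [17, 31, 54, 88, 90, 125] :=
  C.flip (f15816 C)

theorem f15818 : C.T (v18 C) [9, 41, 66, 81, 103, 109, 123] (v19 C) [25, 40, 65, 74, 106, 122] :=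
  C.closeT (p := (v3 C)) (pu := [20, 27, 65, 75, 108, 125])
    (C.pT (f15810 C)
    (C.pH [8, 30, 65, 84, 94, 117] [4, 34, 59, 78, 110] (by decide +kernel)
    (C.pT (f15812 C)
    (C.pH [26, 38, 54, 89, 90, 113] [9, 41, 66, 81, 103, 109, 123] (by decide +kernel) (C.pNil _ _)))))
    (C.pH [8, 30, 65, 84, 94, 117] [9, 27, 52, 72, 90, 109, 125] (by decide +kernel)
    (C.pT (f15817 C)
    (C.pH [26, 38, 54, 89, 90, 113] [20, 27, 65, 75, 108, 125] (by decide +kernel) (C.pNil _ _))))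
    (C.loop_of_one (relLoop1 C) _ _)

theorem f15819 : C.T (v19 C) [25, 40, 65, 74, 106, 122] (v18 C) [9, 41, 66, 81, 103, 109, 123] :=
  C.flip (f15818 C)

theorem f15820 : C.T (v3 C) [47, 51, 86, 100, 110, 119] (v18 C) [20, 44, 52, 74, 102, 116] :=
  C.conv (f8223 C) (f8361 C) (f8361 C) _ [132, 149, 168, 173, 177] _ (by decide +kernel) (by decide +kernel) (by decide +kernel)

theorem f15821 : C.T (v18 C) [23, 47, 56, 89, 105, 113] (v18 C) [15, 42, 58, 70, 91, 109, 120] :=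
  C.conv (f8113 C) (f8115 C) (f7121 C) _ [148, 154, 167, 173, 177] _ (by decide +kernel) (by decide +kernel) (by decide +kernel)

theorem f15822 : C.S (v3 C) [21, 45, 66, 81, 102, 110] :=
  C.stMul (f335 C) (f15776 C) _ (by decide +kernel)

theorem f15823 : C.T (v3 C) [7, 41, 55, 80, 94, 109, 122] (v19 C) [12, 36, 59, 72, 107, 115] :=
  C.conv (f15701 C) (f15714 C) (f15822 C) _ [127, 157, 167, 177] _ (by decide +kernel) (by decide +kernel) (by decide +kernel)

theorem f15824 : C.T (v19 C) [12, 36, 59, 72, 107, 115] (v3 C) [7, 41, 55, 80, 94, 109, 122] :=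
  C.flip (f15823 C)

theorem f15825 : C.T (v18 C) [9, 27, 87, 94, 110, 119] (v19 C) [5, 34, 55, 72, 102] :=
  C.closeT (p := (v3 C)) (pu := [47, 51, 86, 100, 110, 119])
    (C.pT (f15820 C)
    (C.pH [8, 30, 65, 84, 94, 117] [23, 47, 56, 89, 105, 113] (by decide +kernel)
    (C.pT (f15821 C)
    (C.pH [26, 38, 54, 89, 90, 113] [9, 27, 87, 94, 110, 119] (by decide +kernel) (C.pNil _ _)))))
    (C.pH [8, 30, 65, 84, 94, 117] [12, 36, 59, 72, 107, 115] (by decide +kernel)
    (C.pT (f15824 C)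
    (C.pH [26, 38, 54, 89, 90, 113] [47, 51, 86, 100, 110, 119] (by decide +kernel) (C.pNil _ _))))
    (C.loop_of_one (relLoop1 C) _ _)

theorem f15826 : C.T (v19 C) [5, 34, 55, 72, 102] (v18 C) [9, 27, 87, 94, 110, 119] :=
  C.flip (f15825 C)

theorem f15827 : C.T (v3 C) [4, 46, 58, 83, 94, 109, 123] (v18 C) [6, 50, 83, 90, 110, 113] :=
  C.conv (f8223 C) (f8361 C) (f8361 C) _ [129, 163, 169, 175, 177] _ (by decide +kernel) (by decide +kernel) (by decide +kernel)

theorem f15828 : C.T (v18 C) [13, 45, 56, 79, 90, 116] (v18 C) [11, 29, 69, 87, 121] :=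
  C.conv (f12456 C) (f7121 C) (f7121 C) _ [139, 159, 170, 171, 177] _ (by decide +kernel) (by decide +kernel) (by decide +kernel)

theorem f15829 : C.S (v3 C) [22, 29, 89, 96, 109, 125] :=
  C.stMul (f328 C) (f331 C) _ (by decide +kernel)

theorem f15830 : C.S (v3 C) [4, 67, 86, 105, 116] :=
  C.stMul (f335 C) (f15829 C) _ (by decide +kernel)

theorem f15831 : C.S (v3 C) [17, 42, 51, 85, 96, 109, 120] :=
  C.stMul (f331 C) (f15830 C) _ (by decide +kernel)

theorem f15832 : C.T (v3 C) [6, 34, 65, 70, 96, 125] (v19 C) [4, 28, 50, 71, 100, 110, 113] :=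
  C.conv (f15701 C) (f15714 C) (f15831 C) _ [155, 168, 174] _ (by decide +kernel) (by decide +kernel) (by decide +kernel)

theorem f15833 : C.T (v19 C) [4, 28, 50, 71, 100, 110, 113] (v3 C) [6, 34, 65, 70, 96, 125] :=
  C.flip (f15832 C)

theorem f15834 : C.T (v18 C) [24, 31, 64, 84, 90, 110, 122] (v19 C) [18, 44, 55, 84, 98, 110, 112] :=
  C.closeT (p := (v3 C)) (pu := [4, 46, 58, 83, 94, 109, 123])
    (C.pT (f15827 C)
    (C.pH [8, 30, 65, 84, 94, 117] [13, 45, 56, 79, 90, 116] (by decide +kernel)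
    (C.pT (f15828 C)
    (C.pH [26, 38, 54, 89, 90, 113] [24, 31, 64, 84, 90, 110, 122] (by decide +kernel) (C.pNil _ _)))))
    (C.pH [8, 30, 65, 84, 94, 117] [4, 28, 50, 71, 100, 110, 113] (by decide +kernel)
    (C.pT (f15833 C)
    (C.pH [26, 38, 54, 89, 90, 113] [4, 46, 58, 83, 94, 109, 123] (by decide +kernel) (C.pNil _ _))))
    (C.loop_of_one (relLoop1 C) _ _)

theorem f15835 : C.T (v19 C) [18, 44, 55, 84, 98, 110, 112] (v18 C) [24, 31, 64, 84, 90, 110, 122] :=
  C.flip (f15834 C)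

theorem f15836 : C.T (v3 C) [8, 37, 56, 87, 107, 109, 119] (v18 C) [17, 47, 60, 76, 97, 120] :=
  C.conv (f8223 C) (f8361 C) (f8361 C) _ [126, 159, 165, 176] _ (by decide +kernel) (by decide +kernel) (by decide +kernel)

theorem f15837 : C.T (v18 C) [22, 31, 68, 87, 103, 115] (v18 C) [7, 48, 62, 71, 94, 110, 124] :=
  C.conv (f9619 C) (f6836 C) (f6836 C) _ [128, 153, 165, 175] _ (by decide +kernel) (by decide +kernel) (by decide +kernel)

theorem f15838 : C.T (v18 C) [38, 59, 83, 96, 110, 122] (v19 C) [15, 28, 67, 88, 108, 109, 119] :=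
  C.conv (f15675 C) (f6836 C) (f6836 C) _ [147, 151, 166, 174] _ (by decide +kernel) (by decide +kernel) (by decide +kernel)

theorem f15839 : C.T (v19 C) [19, 38, 69, 73, 100, 123] (v3 C) [5, 39, 53, 89, 103, 109, 113] :=
  C.closeT (p := (v3 C)) (pu := [8, 37, 56, 87, 107, 109, 119])
    (C.pT (f15836 C)
    (C.pH [8, 30, 65, 84, 94, 117] [22, 31, 68, 87, 103, 115] (by decide +kernel)
    (C.pT (f15837 C)
    (C.pH [26, 38, 54, 89, 90, 113] [38, 59, 83, 96, 110, 122] (by decide +kernel)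
    (C.pT (f15838 C)
    (C.pH [8, 30, 65, 84, 94, 117] [19, 38, 69, 73, 100, 123] (by decide +kernel) (C.pNil _ _)))))))
    (C.pH [26, 38, 54, 89, 90, 113] [8, 37, 56, 87, 107, 109, 119] (by decide +kernel) (C.pNil _ _))
    (C.loop_of_one (relLoop1 C) _ _)

theorem f15840 : C.T (v3 C) [5, 39, 53, 89, 103, 109, 113] (v19 C) [19, 38, 69, 73, 100, 123] :=
  C.flip (f15839 C)

theorem f15841 : C.T (v3 C) [5, 39, 53, 89, 103, 109, 113] (v19 C) [34, 58, 76, 98, 115] :=
  C.conv (f15592 C) (f15600 C) (f15610 C) _ [130, 165, 177] _ (by decide +kernel) (by decide +kernel) (by decide +kernel)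

theorem f15842 : C.E (v19 C) [34, 58, 76, 98, 115] (v19 C) [19, 38, 69, 73, 100, 123] :=
  C.sameSrc (f15841 C) (f15840 C)

theorem f15843 : C.S (v19 C) [12, 45, 53, 87, 97, 109, 124] :=
  C.stEq (f15842 C) _ (by decide +kernel)

theorem f15857 : C.T (v3 C) [17, 35, 65, 82, 93, 109, 114] (v18 C) [5, 30, 64, 86, 93, 110, 125] :=
  C.conv (f8223 C) (f8361 C) (f8361 C) _ [140, 159, 170, 171] _ (by decide +kernel) (by decide +kernel) (by decide +kernel)

theorem f15858 : C.S (v3 C) [23, 29, 57, 87, 91, 110, 120] :=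
  C.stMul (f331 C) (f328 C) _ (by decide +kernel)

theorem f15859 : C.S (v3 C) [7, 39, 56, 89, 103, 119] :=
  C.stMul (f331 C) (f15858 C) _ (by decide +kernel)

theorem f15860 : C.S (v3 C) [12, 34, 51, 89, 101, 111] :=
  C.stMul (f331 C) (f15859 C) _ (by decide +kernel)

theorem f15861 : C.S (v3 C) [23, 31, 52, 82, 100, 112] :=
  C.stMul (f353 C) (f15860 C) _ (by decide +kernel)

theorem f15862 : C.S (v3 C) [7, 32, 55, 86, 103, 110, 119] :=
  C.stMul (f331 C) (f15861 C) _ (by decide +kernel)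

theorem f15863 : C.T (v3 C) [19, 40, 58, 81, 103, 121] (v17 C) [21, 29, 67, 89, 103, 110, 118] :=
  C.conv (f6822 C) (f7297 C) (f15862 C) _ [147, 156, 168, 172, 177] _ (by decide +kernel) (by decide +kernel) (by decide +kernel)

theorem f15864 : C.T (v17 C) [21, 29, 67, 89, 103, 110, 118] (v3 C) [19, 40, 58, 81, 103, 121] :=
  C.flip (f15863 C)

theorem f15865 : C.T (v17 C) [12, 31, 59, 75, 95, 109, 123] (v19 C) [19, 28, 97, 122] :=
  C.conv (f15614 C) (f4132 C) (f4300 C) _ [142, 163, 174, 178] _ (by decide +kernel) (by decide +kernel) (by decide +kernel)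

theorem f15866 : C.T (v19 C) [19, 28, 97, 122] (v17 C) [12, 31, 59, 75, 95, 109, 123] :=
  C.flip (f15865 C)

theorem f15867 : C.T (v18 C) [12, 31, 69, 105, 109, 111] (v19 C) [22, 39, 53, 80, 92, 116] :=
  C.closeT (p := (v3 C)) (pu := [17, 35, 65, 82, 93, 109, 114])
    (C.pT (f15857 C)
    (C.pH [8, 30, 65, 84, 94, 117] [12, 31, 69, 105, 109, 111] (by decide +kernel) (C.pNil _ _)))
    (C.pH [26, 38, 54, 89, 90, 113] [19, 28, 97, 122] (by decide +kernel)
    (C.pT (f15866 C)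
    (C.pH [8, 30, 65, 84, 94, 117] [21, 29, 67, 89, 103, 110, 118] (by decide +kernel)
    (C.pT (f15864 C)
    (C.pH [26, 38, 54, 89, 90, 113] [17, 35, 65, 82, 93, 109, 114] (by decide +kernel) (C.pNil _ _))))))
    (C.loop_of_one (relLoop1 C) _ _)

theorem f15868 : C.T (v19 C) [22, 39, 53, 80, 92, 116] (v18 C) [12, 31, 69, 105, 109, 111] :=
  C.flip (f15867 C)

theorem f15869 : C.T (v3 C) [19, 44, 53, 77, 100, 110] (v18 C) [16, 32, 49, 72, 92, 109, 122] :=
  C.conv (f8223 C) (f8361 C) (f8361 C) _ [143, 150, 169, 175, 177] _ (by decide +kernel) (by decide +kernel) (by decide +kernel)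

theorem f15870 : C.T (v18 C) [20, 40, 60, 73, 108, 122] (v18 C) [11, 39, 58, 87, 96, 117] :=
  C.conv (f9717 C) (f6836 C) (f6836 C) _ [131, 149, 170, 174] _ (by decide +kernel) (by decide +kernel) (by decide +kernel)

theorem f15871 : C.S (v3 C) [7, 39, 56, 89, 103, 119] :=
  C.stMul (f331 C) (f15776 C) _ (by decide +kernel)

theorem f15872 : C.S (v3 C) [12, 34, 51, 89, 101, 111] :=
  C.stMul (f331 C) (f15871 C) _ (by decide +kernel)

theorem f15873 : C.T (v3 C) [22, 38, 61, 81, 95, 110, 122] (v19 C) [10, 47, 66, 73, 96, 110, 112] :=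
  C.conv (f15701 C) (f15714 C) (f15872 C) _ [133, 158, 165, 176] _ (by decide +kernel) (by decide +kernel) (by decide +kernel)

theorem f15874 : C.T (v19 C) [10, 47, 66, 73, 96, 110, 112] (v3 C) [22, 38, 61, 81, 95, 110, 122] :=
  C.flip (f15873 C)

theorem f15875 : C.T (v18 C) [24, 41, 49, 87, 94, 109, 123] (v19 C) [23, 47, 84, 91, 110, 112] :=
  C.closeT (p := (v3 C)) (pu := [19, 44, 53, 77, 100, 110])
    (C.pT (f15869 C)
    (C.pH [8, 30, 65, 84, 94, 117] [20, 40, 60, 73, 108, 122] (by decide +kernel)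
    (C.pT (f15870 C)
    (C.pH [26, 38, 54, 89, 90, 113] [24, 41, 49, 87, 94, 109, 123] (by decide +kernel) (C.pNil _ _)))))
    (C.pH [8, 30, 65, 84, 94, 117] [10, 47, 66, 73, 96, 110, 112] (by decide +kernel)
    (C.pT (f15874 C)
    (C.pH [26, 38, 54, 89, 90, 113] [19, 44, 53, 77, 100, 110] (by decide +kernel) (C.pNil _ _))))
    (C.loop_of_one (relLoop1 C) _ _)

theorem f15876 : C.T (v19 C) [23, 47, 84, 91, 110, 112] (v18 C) [24, 41, 49, 87, 94, 109, 123] :=
  C.flip (f15875 C)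

theorem f15877 : C.T (v3 C) [10, 37, 75, 102, 110, 111] (v18 C) [7, 32, 54, 78, 93, 116] :=
  C.conv (f9184 C) (f9232 C) (f9232 C) _ [144, 159, 165, 176] _ (by decide +kernel) (by decide +kernel) (by decide +kernel)

theorem f15878 : C.S (v18 C) [26, 43, 49, 77, 91, 110, 115] :=
  C.stMul (f6836 C) (f6836 C) _ (by decide +kernel)

theorem f15879 : C.T (v18 C) [17, 31, 66, 81, 93, 119] (v18 C) [6, 31, 52, 87, 91, 110, 115] :=
  C.conv (f11204 C) (f15878 C) (f15878 C) _ [141, 159, 166, 173] _ (by decide +kernel) (by decide +kernel) (by decide +kernel)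

theorem f15880 : C.S (v3 C) [8, 48, 63, 86, 90, 110, 123] :=
  C.stMul (f331 C) (f15714 C) _ (by decide +kernel)

theorem f15881 : C.S (v3 C) [8, 39, 58, 72, 107, 109, 119] :=
  C.stMul (f328 C) (f15880 C) _ (by decide +kernel)

theorem f15882 : C.T (v3 C) [18, 49, 72, 96, 121] (v19 C) [18, 63, 84, 104, 110, 123] :=
  C.conv (f15701 C) (f15714 C) (f15881 C) _ [137, 160, 168, 171, 177] _ (by decide +kernel) (by decide +kernel) (by decide +kernel)

theorem f15883 : C.T (v19 C) [18, 63, 84, 104, 110, 123] (v3 C) [18, 49, 72, 96, 121] :=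
  C.flip (f15882 C)

theorem f15884 : C.T (v18 C) [4, 47, 53, 80, 97, 109, 125] (v19 C) [9, 43, 54, 84, 91, 118] :=
  C.closeT (p := (v3 C)) (pu := [10, 37, 75, 102, 110, 111])
    (C.pT (f15877 C)
    (C.pH [8, 30, 65, 84, 94, 117] [17, 31, 66, 81, 93, 119] (by decide +kernel)
    (C.pT (f15879 C)
    (C.pH [26, 38, 54, 89, 90, 113] [4, 47, 53, 80, 97, 109, 125] (by decide +kernel) (C.pNil _ _)))))
    (C.pH [8, 30, 65, 84, 94, 117] [18, 63, 84, 104, 110, 123] (by decide +kernel)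
    (C.pT (f15883 C)
    (C.pH [26, 38, 54, 89, 90, 113] [10, 37, 75, 102, 110, 111] (by decide +kernel) (C.pNil _ _))))
    (C.loop_of_one (relLoop1 C) _ _)

theorem f15885 : C.T (v19 C) [9, 43, 54, 84, 91, 118] (v18 C) [4, 47, 53, 80, 97, 109, 125] :=
  C.flip (f15884 C)

theorem f15886 : C.T (v3 C) [25, 30, 56, 72, 105, 109, 124] (v18 C) [23, 35, 69, 74, 93, 118] :=
  C.conv (f9184 C) (f9232 C) (f9232 C) _ [142, 159, 171] _ (by decide +kernel) (by decide +kernel) (by decide +kernel)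

theorem f15887 : C.S (v18 C) [26, 43, 49, 77, 91, 110, 115] :=
  C.stMul (f6836 C) (f6836 C) _ (by decide +kernel)

theorem f15888 : C.T (v18 C) [10, 31, 62, 76, 101, 114] (v15 C) [9, 29, 52, 87, 102, 110, 121] :=
  C.conv (f12465 C) (f7121 C) (f15887 C) _ [142, 151, 167, 177] _ (by decide +kernel) (by decide +kernel) (by decide +kernel)

theorem f15889 : C.T (v3 C) [4, 42, 63, 70, 92, 125] (v19 C) [22, 41, 69, 82, 95, 109] :=
  C.conv (f15592 C) (f15600 C) (f15610 C) _ [128, 151, 165, 178] _ (by decide +kernel) (by decide +kernel) (by decide +kernel)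

theorem f15890 : C.T (v19 C) [22, 41, 69, 82, 95, 109] (v3 C) [4, 42, 63, 70, 92, 125] :=
  C.flip (f15889 C)

theorem f15891 : C.T (v15 C) [22, 36, 68, 73, 91, 109, 119] (v19 C) [17, 36, 52, 82, 97, 110, 113] :=
  C.closeT (p := (v3 C)) (pu := [25, 30, 56, 72, 105, 109, 124])
    (C.pT (f15886 C)
    (C.pH [8, 30, 65, 84, 94, 117] [10, 31, 62, 76, 101, 114] (by decide +kernel)
    (C.pT (f15888 C)
    (C.pH [26, 38, 54, 89, 90, 113] [22, 36, 68, 73, 91, 109, 119] (by decide +kernel) (C.pNil _ _)))))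
    (C.pH [8, 30, 65, 84, 94, 117] [22, 41, 69, 82, 95, 109] (by decide +kernel)
    (C.pT (f15890 C)
    (C.pH [26, 38, 54, 89, 90, 113] [25, 30, 56, 72, 105, 109, 124] (by decide +kernel) (C.pNil _ _))))
    (C.loop_of_one (relLoop1 C) _ _)

theorem f15892 : C.T (v19 C) [17, 36, 52, 82, 97, 110, 113] (v15 C) [22, 36, 68, 73, 91, 109, 119] :=
  C.flip (f15891 C)

theorem f15893 : C.T (v3 C) [21, 30, 63, 70, 106, 110, 123] (v18 C) [26, 61, 84, 95, 109, 119] :=
  C.conv (f9184 C) (f9232 C) (f9232 C) _ [136, 163, 166, 174] _ (by decide +kernel) (by decide +kernel) (by decide +kernel)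

theorem f15894 : C.T (v18 C) [14, 34, 67, 83, 100, 109, 117] (v18 C) [10, 47, 66, 75, 93, 117] :=
  C.conv (f13897 C) (f7121 C) (f6836 C) _ [143, 152, 168, 175, 178] _ (by decide +kernel) (by decide +kernel) (by decide +kernel)

theorem f15895 : C.S (v3 C) [13, 45, 62, 78, 97, 110, 120] :=
  C.stMul (f328 C) (f15715 C) _ (by decide +kernel)

theorem f15896 : C.S (v3 C) [34, 56, 82, 103, 109, 119] :=
  C.stMul (f353 C) (f15895 C) _ (by decide +kernel)

theorem f15897 : C.T (v3 C) [10, 33, 50, 82, 100, 109, 112] (v19 C) [26, 42, 53, 78, 92, 109, 111] :=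
  C.conv (f15701 C) (f15714 C) (f15896 C) _ [140, 149, 176, 177] _ (by decide +kernel) (by decide +kernel) (by decide +kernel)

theorem f15898 : C.T (v19 C) [26, 42, 53, 78, 92, 109, 111] (v3 C) [10, 33, 50, 82, 100, 109, 112] :=
  C.flip (f15897 C)

theorem f15899 : C.T (v18 C) [21, 34, 69, 71, 99, 115] (v19 C) [19, 29, 68, 70, 107, 119] :=
  C.closeT (p := (v3 C)) (pu := [21, 30, 63, 70, 106, 110, 123])
    (C.pT (f15893 C)
    (C.pH [8, 30, 65, 84, 94, 117] [14, 34, 67, 83, 100, 109, 117] (by decide +kernel)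
    (C.pT (f15894 C)
    (C.pH [26, 38, 54, 89, 90, 113] [21, 34, 69, 71, 99, 115] (by decide +kernel) (C.pNil _ _)))))
    (C.pH [8, 30, 65, 84, 94, 117] [26, 42, 53, 78, 92, 109, 111] (by decide +kernel)
    (C.pT (f15898 C)
    (C.pH [26, 38, 54, 89, 90, 113] [21, 30, 63, 70, 106, 110, 123] (by decide +kernel) (C.pNil _ _))))
    (C.loop_of_one (relLoop1 C) _ _)

theorem f15900 : C.T (v19 C) [19, 29, 68, 70, 107, 119] (v18 C) [21, 34, 69, 71, 99, 115] :=
  C.flip (f15899 C)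

theorem f15901 : C.T (v3 C) [15, 46, 54, 72, 106, 110, 116] (v18 C) [12, 34, 61, 77, 100, 109, 123] :=
  C.conv (f9221 C) (f9279 C) (f9279 C) _ [141, 159, 164, 171, 177] _ (by decide +kernel) (by decide +kernel) (by decide +kernel)

theorem f15902 : C.T (v18 C) [21, 35, 54, 99, 110, 121] (v16 C) [19, 38, 49, 76, 109, 125] :=
  C.conv (f14467 C) (f7121 C) (f7121 C) _ [137, 153] _ (by decide +kernel) (by decide +kernel) (by decide +kernel)

theorem f15903 : C.S (v3 C) [7, 39, 56, 89, 103, 119] :=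
  C.stMul (f331 C) (f15596 C) _ (by decide +kernel)

theorem f15904 : C.S (v3 C) [12, 34, 51, 89, 101, 111] :=
  C.stMul (f331 C) (f15903 C) _ (by decide +kernel)

theorem f15905 : C.T (v3 C) [20, 37, 52, 78, 93, 110] (v19 C) [19, 38, 62, 81, 96, 110, 112] :=
  C.conv (f15592 C) (f15600 C) (f15904 C) _ [163, 168, 173, 178] _ (by decide +kernel) (by decide +kernel) (by decide +kernel)

theorem f15906 : C.T (v19 C) [19, 38, 62, 81, 96, 110, 112] (v3 C) [20, 37, 52, 78, 93, 110] :=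
  C.flip (f15905 C)

theorem f15907 : C.T (v16 C) [17, 42, 64, 88, 107, 109, 113] (v19 C) [15, 28, 53, 84, 102, 109, 114] :=
  C.closeT (p := (v3 C)) (pu := [15, 46, 54, 72, 106, 110, 116])
    (C.pT (f15901 C)
    (C.pH [8, 30, 65, 84, 94, 117] [21, 35, 54, 99, 110, 121] (by decide +kernel)
    (C.pT (f15902 C)
    (C.pH [26, 38, 54, 89, 90, 113] [17, 42, 64, 88, 107, 109, 113] (by decide +kernel) (C.pNil _ _)))))
    (C.pH [8, 30, 65, 84, 94, 117] [19, 38, 62, 81, 96, 110, 112] (by decide +kernel)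
    (C.pT (f15906 C)
    (C.pH [26, 38, 54, 89, 90, 113] [15, 46, 54, 72, 106, 110, 116] (by decide +kernel) (C.pNil _ _))))
    (C.loop_of_one (relLoop1 C) _ _)

theorem f15908 : C.T (v19 C) [15, 28, 53, 84, 102, 109, 114] (v16 C) [17, 42, 64, 88, 107, 109, 113] :=
  C.flip (f15907 C)

theorem f15909 : C.T (v3 C) [26, 33, 62, 79, 96, 109, 114] (v18 C) [9, 42, 57, 88, 91, 109, 116] :=
  C.conv (f9221 C) (f9279 C) (f9279 C) _ [127, 149, 170, 173] _ (by decide +kernel) (by decide +kernel) (by decide +kernel)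

theorem f15910 : C.S (v18 C) [26, 43, 49, 77, 91, 110, 115] :=
  C.stMul (f6836 C) (f6836 C) _ (by decide +kernel)

theorem f15911 : C.T (v18 C) [18, 28, 59, 88, 94, 123] (v19 C) [8, 35, 50, 81, 96, 109, 123] :=
  C.conv (f15737 C) (f15910 C) (f15910 C) _ [131, 156, 170, 173] _ (by decide +kernel) (by decide +kernel) (by decide +kernel)

theorem f15912 : C.S (v3 C) [15, 40, 50, 78, 92, 118] :=
  C.stMul (f328 C) (f9541 C) _ (by decide +kernel)

theorem f15913 : C.S (v3 C) [16, 39, 64, 74, 93, 112] :=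
  C.stMul (f335 C) (f15912 C) _ (by decide +kernel)

theorem f15914 : C.T (v3 C) [27, 51, 70, 104, 109, 113] (v17 C) [9, 43, 55, 88, 107, 110, 114] :=
  C.conv (f6269 C) (f7309 C) (f15913 C) _ [136, 157, 176, 177] _ (by decide +kernel) (by decide +kernel) (by decide +kernel)

theorem f15915 : C.T (v17 C) [9, 43, 55, 88, 107, 110, 114] (v3 C) [27, 51, 70, 104, 109, 113] :=
  C.flip (f15914 C)

theorem f15916 : C.T (v19 C) [11, 53, 75, 98, 113] (v17 C) [25, 48, 50, 77, 97, 109] :=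
  C.closeT (p := (v3 C)) (pu := [26, 33, 62, 79, 96, 109, 114])
    (C.pT (f15909 C)
    (C.pH [8, 30, 65, 84, 94, 117] [18, 28, 59, 88, 94, 123] (by decide +kernel)
    (C.pT (f15911 C)
    (C.pH [26, 38, 54, 89, 90, 113] [11, 53, 75, 98, 113] (by decide +kernel) (C.pNil _ _)))))
    (C.pH [8, 30, 65, 84, 94, 117] [9, 43, 55, 88, 107, 110, 114] (by decide +kernel)
    (C.pT (f15915 C)
    (C.pH [26, 38, 54, 89, 90, 113] [26, 33, 62, 79, 96, 109, 114] (by decide +kernel) (C.pNil _ _))))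
    (C.loop_of_one (relLoop1 C) _ _)

theorem f15917 : C.T (v17 C) [25, 48, 50, 77, 97, 109] (v19 C) [11, 53, 75, 98, 113] :=
  C.flip (f15916 C)

theorem f15918 : C.T (v3 C) [40, 54, 82, 108, 110, 124] (v18 C) [20, 30, 67, 88, 106, 120] :=
  C.conv (f9432 C) (f9640 C) (f9640 C) _ [148, 149, 164, 175, 178] _ (by decide +kernel) (by decide +kernel) (by decide +kernel)

theorem f15919 : C.S (v18 C) [26, 43, 49, 77, 91, 110, 115] :=
  C.stMul (f6836 C) (f6836 C) _ (by decide +kernel)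

theorem f15920 : C.T (v18 C) [23, 43, 57, 89, 105, 109, 115] (v15 C) [15, 36, 52, 78, 105, 110, 119] :=
  C.conv (f12909 C) (f15919 C) (f7121 C) _ [141, 149, 164, 172, 177] _ (by decide +kernel) (by decide +kernel) (by decide +kernel)

theorem f15921 : C.S (v3 C) [11, 28, 50, 85, 94, 124] :=
  C.stMul (f353 C) (f15715 C) _ (by decide +kernel)

theorem f15922 : C.S (v3 C) [23, 36, 66, 83, 90, 109, 121] :=
  C.stMul (f331 C) (f15921 C) _ (by decide +kernel)

theorem f15923 : C.S (v3 C) [23, 34, 61, 84, 123] :=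
  C.stMul (f328 C) (f15922 C) _ (by decide +kernel)

theorem f15924 : C.T (v3 C) [7, 29, 66, 73, 92, 110, 125] (v19 C) [9, 41, 63, 77, 96] :=
  C.conv (f15701 C) (f15714 C) (f15923 C) _ [144, 152, 168, 172] _ (by decide +kernel) (by decide +kernel) (by decide +kernel)

theorem f15925 : C.T (v19 C) [9, 41, 63, 77, 96] (v3 C) [7, 29, 66, 73, 92, 110, 125] :=
  C.flip (f15924 C)

theorem f15926 : C.T (v15 C) [9, 28, 61, 74, 108, 110, 113] (v19 C) [25, 33, 69, 73, 100, 110, 111] :=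
  C.closeT (p := (v3 C)) (pu := [40, 54, 82, 108, 110, 124])
    (C.pT (f15918 C)
    (C.pH [8, 30, 65, 84, 94, 117] [23, 43, 57, 89, 105, 109, 115] (by decide +kernel)
    (C.pT (f15920 C)
    (C.pH [26, 38, 54, 89, 90, 113] [9, 28, 61, 74, 108, 110, 113] (by decide +kernel) (C.pNil _ _)))))
    (C.pH [8, 30, 65, 84, 94, 117] [9, 41, 63, 77, 96] (by decide +kernel)
    (C.pT (f15925 C)
    (C.pH [26, 38, 54, 89, 90, 113] [40, 54, 82, 108, 110, 124] (by decide +kernel) (C.pNil _ _))))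
    (C.loop_of_one (relLoop1 C) _ _)

theorem f15927 : C.T (v19 C) [25, 33, 69, 73, 100, 110, 111] (v15 C) [9, 28, 61, 74, 108, 110, 113] :=
  C.flip (f15926 C)

theorem f15928 : C.T (v3 C) [45, 63, 79, 95, 119] (v18 C) [18, 31, 53, 88, 94, 110, 118] :=
  C.conv (f9432 C) (f9640 C) (f9640 C) _ [128, 155, 169] _ (by decide +kernel) (by decide +kernel) (by decide +kernel)

theorem f15929 : C.T (v18 C) [4, 38, 59, 71, 91, 109, 113] (v16 C) [7, 29, 69, 83, 94, 110, 122] :=
  C.conv (f12546 C) (f7121 C) (f6836 C) _ [134, 158, 169, 176, 178] _ (by decide +kernel) (by decide +kernel) (by decide +kernel)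

theorem f15930 : C.T (v3 C) [7, 45, 62, 75, 100, 110, 116] (v19 C) [16, 47, 65, 87, 93, 123] :=
  C.conv (f15701 C) (f15714 C) (f15871 C) _ [146, 150, 165, 174] _ (by decide +kernel) (by decide +kernel) (by decide +kernel)

theorem f15931 : C.T (v19 C) [16, 47, 65, 87, 93, 123] (v3 C) [7, 45, 62, 75, 100, 110, 116] :=
  C.flip (f15930 C)

theorem f15932 : C.T (v16 C) [40, 70, 98, 110, 117] (v19 C) [24, 29, 59, 83, 108, 120] :=
  C.closeT (p := (v3 C)) (pu := [45, 63, 79, 95, 119])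
    (C.pT (f15928 C)
    (C.pH [8, 30, 65, 84, 94, 117] [4, 38, 59, 71, 91, 109, 113] (by decide +kernel)
    (C.pT (f15929 C)
    (C.pH [26, 38, 54, 89, 90, 113] [40, 70, 98, 110, 117] (by decide +kernel) (C.pNil _ _)))))
    (C.pH [8, 30, 65, 84, 94, 117] [16, 47, 65, 87, 93, 123] (by decide +kernel)
    (C.pT (f15931 C)
    (C.pH [26, 38, 54, 89, 90, 113] [45, 63, 79, 95, 119] (by decide +kernel) (C.pNil _ _))))
    (C.loop_of_one (relLoop1 C) _ _)

theorem f15933 : C.T (v19 C) [24, 29, 59, 83, 108, 120] (v16 C) [40, 70, 98, 110, 117] :=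
  C.flip (f15932 C)

theorem f15934 : C.T (v3 C) [23, 45, 64, 72, 103, 115] (v2 C) [17, 31, 60, 83, 101, 109, 125] :=
  C.conv (f346 C) (f391 C) (f391 C) _ [154, 167, 177] _ (by decide +kernel) (by decide +kernel) (by decide +kernel)

theorem f15935 : C.S (v2 C) [7, 34, 64, 72, 94, 110, 113] :=
  C.stMul (f243 C) (f8203 C) _ (by decide +kernel)

theorem f15936 : C.S (v2 C) [17, 33, 69, 75, 91, 109] :=
  C.stMul (f211 C) (f15935 C) _ (by decide +kernel)

theorem f15937 : C.T (v2 C) [20, 27, 59, 80, 102, 122] (v18 C) [23, 47, 64, 70, 96, 110, 119] :=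
  C.conv (f8124 C) (f8182 C) (f15936 C) _ [140, 162, 170, 172, 178] _ (by decide +kernel) (by decide +kernel) (by decide +kernel)

theorem f15938 : C.S (v3 C) [7, 37, 53, 78, 98, 118] :=
  C.stMul (f353 C) (f335 C) _ (by decide +kernel)

theorem f15939 : C.T (v3 C) [20, 34, 58, 82, 90, 109, 118] (v19 C) [16, 28, 67, 74, 93, 113] :=
  C.conv (f15592 C) (f15600 C) (f15938 C) _ [147, 161, 164, 174] _ (by decide +kernel) (by decide +kernel) (by decide +kernel)

theorem f15940 : C.T (v19 C) [16, 28, 67, 74, 93, 113] (v3 C) [20, 34, 58, 82, 90, 109, 118] :=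
  C.flip (f15939 C)

theorem f15941 : C.T (v18 C) [10, 47, 49, 85, 105, 117] (v19 C) [26, 44, 50, 89, 102, 114] :=
  C.closeT (p := (v3 C)) (pu := [23, 45, 64, 72, 103, 115])
    (C.pT (f15934 C)
    (C.pH [26, 38, 54, 89, 90, 113] [20, 27, 59, 80, 102, 122] (by decide +kernel)
    (C.pT (f15937 C)
    (C.pH [8, 30, 65, 84, 94, 117] [10, 47, 49, 85, 105, 117] (by decide +kernel) (C.pNil _ _)))))
    (C.pH [26, 38, 54, 89, 90, 113] [16, 28, 67, 74, 93, 113] (by decide +kernel)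
    (C.pT (f15940 C)
    (C.pH [8, 30, 65, 84, 94, 117] [23, 45, 64, 72, 103, 115] (by decide +kernel) (C.pNil _ _))))
    (C.loop_of_one (relLoop2 C) _ _)

theorem f15942 : C.T (v19 C) [26, 44, 50, 89, 102, 114] (v18 C) [10, 47, 49, 85, 105, 117] :=
  C.flip (f15941 C)

theorem f15943 : C.T (v3 C) [39, 60, 85, 108, 122] (v2 C) [26, 43, 67, 86, 94, 109, 120] :=
  C.conv (f346 C) (f391 C) (f391 C) _ [142, 151, 168, 173, 178] _ (by decide +kernel) (by decide +kernel) (by decide +kernel)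

theorem f15944 : C.S (v2 C) [5, 33, 82, 107, 111] :=
  C.stMul (f211 C) (f243 C) _ (by decide +kernel)

theorem f15945 : C.S (v2 C) [8, 42, 56, 84, 97, 110, 118] :=
  C.stMul (f109 C) (f15944 C) _ (by decide +kernel)

theorem f15946 : C.S (v2 C) [26, 44, 53, 78, 92, 110, 125] :=
  C.stMul (f243 C) (f15945 C) _ (by decide +kernel)

theorem f15947 : C.T (v2 C) [16, 43, 57, 71, 97, 110] (v17 C) [11, 28, 58, 85, 95, 109, 119] :=
  C.conv (f6632 C) (f6971 C) (f15946 C) _ [148, 152, 167, 173, 178] _ (by decide +kernel) (by decide +kernel) (by decide +kernel)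

theorem f15948 : C.S (v3 C) [4, 35, 66, 84, 105, 109, 115] :=
  C.stMul (f335 C) (f331 C) _ (by decide +kernel)

theorem f15949 : C.S (v3 C) [6, 43, 52, 78, 106, 118] :=
  C.stMul (f328 C) (f15948 C) _ (by decide +kernel)

theorem f15950 : C.S (v3 C) [26, 33, 69, 81, 108, 110, 118] :=
  C.stMul (f353 C) (f15949 C) _ (by decide +kernel)

theorem f15951 : C.T (v3 C) [8, 44, 49, 80, 102, 121] (v19 C) [13, 48, 56, 73, 90, 109, 113] :=
  C.conv (f15701 C) (f15714 C) (f15950 C) _ [140, 153, 172, 177] _ (by decide +kernel) (by decide +kernel) (by decide +kernel)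

theorem f15952 : C.T (v19 C) [13, 48, 56, 73, 90, 109, 113] (v3 C) [8, 44, 49, 80, 102, 121] :=
  C.flip (f15951 C)

theorem f15953 : C.T (v17 C) [7, 40, 58, 86, 98, 116] (v19 C) [16, 43, 60, 80, 107, 109, 112] :=
  C.closeT (p := (v3 C)) (pu := [39, 60, 85, 108, 122])
    (C.pT (f15943 C)
    (C.pH [26, 38, 54, 89, 90, 113] [16, 43, 57, 71, 97, 110] (by decide +kernel)
    (C.pT (f15947 C)
    (C.pH [8, 30, 65, 84, 94, 117] [7, 40, 58, 86, 98, 116] (by decide +kernel) (C.pNil _ _)))))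
    (C.pH [26, 38, 54, 89, 90, 113] [13, 48, 56, 73, 90, 109, 113] (by decide +kernel)
    (C.pT (f15952 C)
    (C.pH [8, 30, 65, 84, 94, 117] [39, 60, 85, 108, 122] (by decide +kernel) (C.pNil _ _))))
    (C.loop_of_one (relLoop2 C) _ _)

theorem f15954 : C.T (v19 C) [16, 43, 60, 80, 107, 109, 112] (v17 C) [7, 40, 58, 86, 98, 116] :=
  C.flip (f15953 C)

theorem f15955 : C.T (v3 C) [23, 43, 56, 88, 106, 115] (v2 C) [45, 56, 88, 99, 119] :=
  C.conv (f368 C) (f376 C) (f376 C) _ [141, 163, 165, 172] _ (by decide +kernel) (by decide +kernel) (by decide +kernel)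

theorem f15956 : C.S (v2 C) [28, 68, 84, 103, 109, 121] :=
  C.stMul (f109 C) (f7408 C) _ (by decide +kernel)

theorem f15957 : C.S (v2 C) [9, 29, 64, 86, 103, 110, 120] :=
  C.stMul (f211 C) (f15956 C) _ (by decide +kernel)

theorem f15958 : C.T (v2 C) [26, 52, 72, 99, 109, 119] (v18 C) [11, 40, 58, 85, 101, 109, 122] :=
  C.conv (f6850 C) (f6867 C) (f15957 C) _ [142, 153, 168, 176, 178] _ (by decide +kernel) (by decide +kernel) (by decide +kernel)

theorem f15959 : C.S (v3 C) [18, 35, 57, 82, 93, 110, 115] :=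
  C.stMul (f353 C) (f331 C) _ (by decide +kernel)

theorem f15960 : C.S (v3 C) [6, 45, 53, 79, 94, 110, 115] :=
  C.stMul (f335 C) (f15959 C) _ (by decide +kernel)

theorem f15961 : C.S (v3 C) [26, 34, 52, 84, 93, 110, 125] :=
  C.stMul (f331 C) (f15960 C) _ (by decide +kernel)

theorem f15962 : C.S (v3 C) [4, 41, 69, 89, 93, 110, 125] :=
  C.stMul (f353 C) (f15961 C) _ (by decide +kernel)

theorem f15963 : C.T (v3 C) [20, 30, 60, 81, 91, 123] (v19 C) [26, 28, 50, 88, 101, 109, 119] :=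
  C.conv (f15701 C) (f15714 C) (f15962 C) _ [126, 151, 164, 172] _ (by decide +kernel) (by decide +kernel) (by decide +kernel)

theorem f15964 : C.T (v19 C) [26, 28, 50, 88, 101, 109, 119] (v3 C) [20, 30, 60, 81, 91, 123] :=
  C.flip (f15963 C)

theorem f15965 : C.T (v18 C) [7, 31, 58, 72, 103, 125] (v19 C) [43, 56, 75, 104, 109, 113] :=
  C.closeT (p := (v3 C)) (pu := [23, 43, 56, 88, 106, 115])
    (C.pT (f15955 C)
    (C.pH [26, 38, 54, 89, 90, 113] [26, 52, 72, 99, 109, 119] (by decide +kernel)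
    (C.pT (f15958 C)
    (C.pH [8, 30, 65, 84, 94, 117] [7, 31, 58, 72, 103, 125] (by decide +kernel) (C.pNil _ _)))))
    (C.pH [26, 38, 54, 89, 90, 113] [26, 28, 50, 88, 101, 109, 119] (by decide +kernel)
    (C.pT (f15964 C)
    (C.pH [8, 30, 65, 84, 94, 117] [23, 43, 56, 88, 106, 115] (by decide +kernel) (C.pNil _ _))))
    (C.loop_of_one (relLoop2 C) _ _)

theorem f15966 : C.T (v19 C) [43, 56, 75, 104, 109, 113] (v18 C) [7, 31, 58, 72, 103, 125] :=
  C.flip (f15965 C)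

theorem f15967 : C.T (v3 C) [19, 44, 64, 82, 104, 109, 113] (v2 C) [14, 46, 69, 77, 102, 123] :=
  C.conv (f368 C) (f376 C) (f376 C) _ [145, 155, 177] _ (by decide +kernel) (by decide +kernel) (by decide +kernel)

theorem f15968 : C.S (v2 C) [18, 44, 68, 81, 106, 109, 118] :=
  C.stMul (f138 C) (f115 C) _ (by decide +kernel)

theorem f15969 : C.S (v2 C) [25, 42, 51, 81, 102, 109, 116] :=
  C.stMul (f243 C) (f15968 C) _ (by decide +kernel)

theorem f15970 : C.S (v2 C) [26, 45, 61, 75, 95, 124] :=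
  C.stMul (f211 C) (f15969 C) _ (by decide +kernel)

theorem f15971 : C.T (v2 C) [5, 44, 53, 79, 92, 110, 117] (v18 C) [21, 43, 68, 74, 104, 110, 114] :=
  C.conv (f6830 C) (f323 C) (f15970 C) _ [143, 150, 170, 174] _ (by decide +kernel) (by decide +kernel) (by decide +kernel)

theorem f15972 : C.S (v3 C) [13, 45, 62, 78, 97, 110, 120] :=
  C.stMul (f328 C) (f15608 C) _ (by decide +kernel)

theorem f15973 : C.S (v3 C) [34, 56, 82, 103, 109, 119] :=
  C.stMul (f353 C) (f15972 C) _ (by decide +kernel)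

theorem f15974 : C.T (v3 C) [15, 39, 60, 89, 104, 110, 117] (v19 C) [11, 32, 51, 106, 114] :=
  C.conv (f15592 C) (f15600 C) (f15973 C) _ [128, 151, 165, 174, 178] _ (by decide +kernel) (by decide +kernel) (by decide +kernel)

theorem f15975 : C.T (v19 C) [11, 32, 51, 106, 114] (v3 C) [15, 39, 60, 89, 104, 110, 117] :=
  C.flip (f15974 C)

theorem f15976 : C.T (v18 C) [24, 35, 57, 86, 103, 119] (v19 C) [8, 44, 62, 73, 96, 109, 115] :=
  C.closeT (p := (v3 C)) (pu := [19, 44, 64, 82, 104, 109, 113])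
    (C.pT (f15967 C)
    (C.pH [26, 38, 54, 89, 90, 113] [5, 44, 53, 79, 92, 110, 117] (by decide +kernel)
    (C.pT (f15971 C)
    (C.pH [8, 30, 65, 84, 94, 117] [24, 35, 57, 86, 103, 119] (by decide +kernel) (C.pNil _ _)))))
    (C.pH [26, 38, 54, 89, 90, 113] [11, 32, 51, 106, 114] (by decide +kernel)
    (C.pT (f15975 C)
    (C.pH [8, 30, 65, 84, 94, 117] [19, 44, 64, 82, 104, 109, 113] (by decide +kernel) (C.pNil _ _))))
    (C.loop_of_one (relLoop2 C) _ _)

theorem f15977 : C.T (v19 C) [8, 44, 62, 73, 96, 109, 115] (v18 C) [24, 35, 57, 86, 103, 119] :=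
  C.flip (f15976 C)

theorem f15978 : C.T (v3 C) [19, 44, 57, 70, 106, 109, 114] (v3 C) [17, 48, 69, 71, 94, 109, 116] :=
  C.conv (f374 C) (f376 C) (f376 C) _ [158, 165, 172, 177] _ (by decide +kernel) (by decide +kernel) (by decide +kernel)

theorem f15979 : C.T (v3 C) [20, 51, 85, 103, 110, 119] (v19 C) [17, 30, 61, 82, 102, 114] :=
  C.conv (f15701 C) (f15714 C) (f15795 C) _ [144, 151, 165, 171, 178] _ (by decide +kernel) (by decide +kernel) (by decide +kernel)

theorem f15980 : C.T (v3 C) [15, 39, 55, 81, 98, 115] (v18 C) [19, 45, 58, 89, 93, 110, 121] :=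
  C.conv (f9221 C) (f9279 C) (f12521 C) _ [134, 163, 176, 177] _ (by decide +kernel) (by decide +kernel) (by decide +kernel)

theorem f15981 : C.T (v18 C) [19, 45, 58, 89, 93, 110, 121] (v3 C) [15, 39, 55, 81, 98, 115] :=
  C.flip (f15980 C)

theorem f15982 : C.T (v19 C) [22, 48, 67, 77, 100, 109, 114] (v18 C) [22, 30, 50, 78, 98, 110, 125] :=
  C.closeT (p := (v3 C)) (pu := [19, 44, 57, 70, 106, 109, 114])
    (C.pT (f15978 C)
    (C.pH [26, 38, 54, 89, 90, 113] [20, 51, 85, 103, 110, 119] (by decide +kernel)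
    (C.pT (f15979 C)
    (C.pH [8, 30, 65, 84, 94, 117] [22, 48, 67, 77, 100, 109, 114] (by decide +kernel) (C.pNil _ _)))))
    (C.pH [26, 38, 54, 89, 90, 113] [19, 45, 58, 89, 93, 110, 121] (by decide +kernel)
    (C.pT (f15981 C)
    (C.pH [8, 30, 65, 84, 94, 117] [19, 44, 57, 70, 106, 109, 114] (by decide +kernel) (C.pNil _ _))))
    (C.loop_of_one (relLoop2 C) _ _)

theorem f15983 : C.T (v18 C) [22, 30, 50, 78, 98, 110, 125] (v19 C) [22, 48, 67, 77, 100, 109, 114] :=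
  C.flip (f15982 C)

theorem f15984 : C.T (v3 C) [9, 48, 50, 74, 109, 121] (v3 C) [5, 30, 61, 70, 90, 119] :=
  C.conv (f383 C) (f386 C) (f386 C) _ [142, 152, 170, 177] _ (by decide +kernel) (by decide +kernel) (by decide +kernel)

theorem f15985 : C.S (v3 C) [12, 28, 65, 85, 98, 110, 116] :=
  C.stMul (f353 C) (f15794 C) _ (by decide +kernel)

theorem f15986 : C.T (v3 C) [8, 38, 56, 70, 106, 114] (v19 C) [18, 28, 74, 92, 118] :=
  C.conv (f15701 C) (f15714 C) (f15985 C) _ [141, 152, 165, 175, 178] _ (by decide +kernel) (by decide +kernel) (by decide +kernel)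

theorem f15987 : C.T (v3 C) [25, 41, 68, 70, 91, 110, 116] (v19 C) [23, 33, 53, 82, 96, 124] :=
  C.conv (f15701 C) (f15714 C) (f328 C) _ [139, 159, 164, 171, 178] _ (by decide +kernel) (by decide +kernel) (by decide +kernel)

theorem f15988 : C.T (v19 C) [23, 33, 53, 82, 96, 124] (v3 C) [25, 41, 68, 70, 91, 110, 116] :=
  C.flip (f15987 C)

theorem f15989 : C.T (v19 C) [4, 43, 49, 93, 110, 116] (v19 C) [13, 31, 64, 82, 95, 124] :=
  C.closeT (p := (v3 C)) (pu := [9, 48, 50, 74, 109, 121])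
    (C.pT (f15984 C)
    (C.pH [26, 38, 54, 89, 90, 113] [8, 38, 56, 70, 106, 114] (by decide +kernel)
    (C.pT (f15986 C)
    (C.pH [8, 30, 65, 84, 94, 117] [4, 43, 49, 93, 110, 116] (by decide +kernel) (C.pNil _ _)))))
    (C.pH [26, 38, 54, 89, 90, 113] [23, 33, 53, 82, 96, 124] (by decide +kernel)
    (C.pT (f15988 C)
    (C.pH [8, 30, 65, 84, 94, 117] [9, 48, 50, 74, 109, 121] (by decide +kernel) (C.pNil _ _))))
    (C.loop_of_one (relLoop2 C) _ _)

theorem f15993 : C.T (v3 C) [7, 47, 49, 73, 98, 109] (v4 C) [13, 40, 54, 80, 107, 109, 120] :=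
  C.conv (f808 C) (f938 C) (f938 C) _ [126, 150, 170, 178] _ (by decide +kernel) (by decide +kernel) (by decide +kernel)

theorem f15994 : C.S (v4 C) [26, 42, 68, 71, 107, 109, 113] :=
  C.stMul (f407 C) (f15193 C) _ (by decide +kernel)

theorem f15995 : C.T (v4 C) [23, 43, 57, 84, 102, 110, 116] (v18 C) [19, 33, 62, 78, 102, 110, 117] :=
  C.conv (f7487 C) (f8474 C) (f15994 C) _ [146, 152, 170, 177] _ (by decide +kernel) (by decide +kernel) (by decide +kernel)

theorem f15996 : C.S (v3 C) [20, 42, 68, 89, 99] :=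
  C.stMul (f335 C) (f353 C) _ (by decide +kernel)

theorem f15997 : C.S (v3 C) [18, 33, 63, 86, 90, 124] :=
  C.stMul (f331 C) (f15996 C) _ (by decide +kernel)

theorem f15998 : C.S (v3 C) [22, 44, 63, 70, 99, 110, 123] :=
  C.stMul (f353 C) (f15997 C) _ (by decide +kernel)

theorem f15999 : C.S (v3 C) [4, 36, 66, 75, 93, 109, 117] :=
  C.stMul (f335 C) (f15998 C) _ (by decide +kernel)

theorem f16000 : C.T (v3 C) [11, 37, 54, 89, 93, 109, 116] (v19 C) [9, 39, 67, 85, 92, 119] :=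
  C.conv (f15592 C) (f15600 C) (f15999 C) _ [140, 155, 170, 171, 178] _ (by decide +kernel) (by decide +kernel) (by decide +kernel)

theorem f16001 : C.T (v19 C) [9, 39, 67, 85, 92, 119] (v3 C) [11, 37, 54, 89, 93, 109, 116] :=
  C.flip (f16000 C)

theorem f16002 : C.T (v18 C) [26, 31, 62, 89, 100, 109, 121] (v19 C) [15, 40, 57, 79, 107, 110, 121] :=
  C.closeT (p := (v3 C)) (pu := [7, 47, 49, 73, 98, 109])
    (C.pT (f15993 C)
    (C.pH [26, 38, 54, 89, 90, 113] [23, 43, 57, 84, 102, 110, 116] (by decide +kernel)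
    (C.pT (f15995 C)
    (C.pH [8, 30, 65, 84, 94, 117] [26, 31, 62, 89, 100, 109, 121] (by decide +kernel) (C.pNil _ _)))))
    (C.pH [26, 38, 54, 89, 90, 113] [9, 39, 67, 85, 92, 119] (by decide +kernel)
    (C.pT (f16001 C)
    (C.pH [8, 30, 65, 84, 94, 117] [7, 47, 49, 73, 98, 109] (by decide +kernel) (C.pNil _ _))))
    (C.loop_of_one (relLoop2 C) _ _)

theorem f16003 : C.T (v19 C) [15, 40, 57, 79, 107, 110, 121] (v18 C) [26, 31, 62, 89, 100, 109, 121] :=
  C.flip (f16002 C)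

theorem f16004 : C.T (v3 C) [23, 48, 66, 81, 105, 109, 125] (v2 C) [13, 32, 64, 76, 106, 112] :=
  C.conv (f818 C) (f10121 C) (f10121 C) _ [143, 174] _ (by decide +kernel) (by decide +kernel) (by decide +kernel)

theorem f16005 : C.S (v2 C) [20, 48, 60, 70, 100, 110, 111] :=
  C.stMul (f125 C) (f149 C) _ (by decide +kernel)

theorem f16006 : C.S (v2 C) [7, 34, 63, 110, 121] :=
  C.stMul (f243 C) (f16005 C) _ (by decide +kernel)

theorem f16007 : C.S (v2 C) [17, 33, 61, 89, 99, 109, 115] :=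
  C.stMul (f211 C) (f16006 C) _ (by decide +kernel)

theorem f16008 : C.T (v2 C) [23, 30, 67, 87, 96, 109, 123] (v18 C) [19, 46, 65, 78, 91, 109, 125] :=
  C.conv (f9873 C) (f9878 C) (f16007 C) _ [140, 154, 169, 171, 177] _ (by decide +kernel) (by decide +kernel) (by decide +kernel)

theorem f16009 : C.T (v3 C) [20, 42, 62, 89, 93, 110, 121] (v19 C) [26, 46, 59, 80, 96, 118] :=
  C.conv (f15701 C) (f15714 C) (f15872 C) _ [133, 160, 166, 173] _ (by decide +kernel) (by decide +kernel) (by decide +kernel)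

theorem f16010 : C.T (v19 C) [26, 46, 59, 80, 96, 118] (v3 C) [20, 42, 62, 89, 93, 110, 121] :=
  C.flip (f16009 C)

theorem f16011 : C.T (v18 C) [26, 45, 58, 86, 95, 119] (v19 C) [47, 54, 72, 99, 109, 125] :=
  C.closeT (p := (v3 C)) (pu := [23, 48, 66, 81, 105, 109, 125])
    (C.pT (f16004 C)
    (C.pH [26, 38, 54, 89, 90, 113] [23, 30, 67, 87, 96, 109, 123] (by decide +kernel)
    (C.pT (f16008 C)
    (C.pH [8, 30, 65, 84, 94, 117] [26, 45, 58, 86, 95, 119] (by decide +kernel) (C.pNil _ _)))))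
    (C.pH [26, 38, 54, 89, 90, 113] [26, 46, 59, 80, 96, 118] (by decide +kernel)
    (C.pT (f16010 C)
    (C.pH [8, 30, 65, 84, 94, 117] [23, 48, 66, 81, 105, 109, 125] (by decide +kernel) (C.pNil _ _))))
    (C.loop_of_one (relLoop2 C) _ _)

theorem f16012 : C.T (v19 C) [47, 54, 72, 99, 109, 125] (v18 C) [26, 45, 58, 86, 95, 119] :=
  C.flip (f16011 C)

theorem f16013 : C.T (v3 C) [21, 41, 66, 81, 107, 109, 112] (v2 C) [14, 36, 63, 85, 100, 110, 111] :=
  C.conv (f818 C) (f10121 C) (f10121 C) _ [138, 152, 170, 176] _ (by decide +kernel) (by decide +kernel) (by decide +kernel)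

theorem f16014 : C.S (v2 C) [6, 46, 63, 80, 102, 110, 123] :=
  C.stMul (f211 C) (f8260 C) _ (by decide +kernel)

theorem f16015 : C.T (v2 C) [5, 41, 55, 86, 103, 110, 118] (v18 C) [30, 67, 72, 108, 110, 112] :=
  C.conv (f6850 C) (f6867 C) (f16014 C) _ [140, 156, 167, 178] _ (by decide +kernel) (by decide +kernel) (by decide +kernel)

theorem f16016 : C.S (v3 C) [11, 40, 64, 79, 95, 109, 116] :=
  C.stMul (f335 C) (f15665 C) _ (by decide +kernel)

theorem f16017 : C.S (v3 C) [13, 43, 69, 71, 110, 123] :=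
  C.stMul (f353 C) (f16016 C) _ (by decide +kernel)

theorem f16018 : C.S (v3 C) [37, 60, 81, 96, 112] :=
  C.stMul (f335 C) (f16017 C) _ (by decide +kernel)

theorem f16019 : C.T (v3 C) [12, 32, 69, 82, 100, 109, 115] (v19 C) [9, 30, 62, 79, 100, 109, 117] :=
  C.conv (f15592 C) (f15600 C) (f16018 C) _ [137, 152, 167, 174, 178] _ (by decide +kernel) (by decide +kernel) (by decide +kernel)

theorem f16020 : C.T (v19 C) [9, 30, 62, 79, 100, 109, 117] (v3 C) [12, 32, 69, 82, 100, 109, 115] :=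
  C.flip (f16019 C)

theorem f16021 : C.T (v18 C) [8, 28, 53, 74, 106, 118] (v19 C) [15, 28, 68, 84, 100, 117] :=
  C.closeT (p := (v3 C)) (pu := [21, 41, 66, 81, 107, 109, 112])
    (C.pT (f16013 C)
    (C.pH [26, 38, 54, 89, 90, 113] [5, 41, 55, 86, 103, 110, 118] (by decide +kernel)
    (C.pT (f16015 C)
    (C.pH [8, 30, 65, 84, 94, 117] [8, 28, 53, 74, 106, 118] (by decide +kernel) (C.pNil _ _)))))
    (C.pH [26, 38, 54, 89, 90, 113] [9, 30, 62, 79, 100, 109, 117] (by decide +kernel)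
    (C.pT (f16020 C)
    (C.pH [8, 30, 65, 84, 94, 117] [21, 41, 66, 81, 107, 109, 112] (by decide +kernel) (C.pNil _ _))))
    (C.loop_of_one (relLoop2 C) _ _)

theorem f16022 : C.T (v19 C) [15, 28, 68, 84, 100, 117] (v18 C) [8, 28, 53, 74, 106, 118] :=
  C.flip (f16021 C)

theorem f16023 : C.T (v3 C) [4, 33, 69, 76, 93, 110, 116] (v4 C) [4, 45, 53, 81, 94, 110] :=
  C.conv (f841 C) (f926 C) (f926 C) _ [138, 157, 168, 175] _ (by decide +kernel) (by decide +kernel) (by decide +kernel)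

theorem f16024 : C.S (v4 C) [23, 45, 57, 77, 95, 110, 118] :=
  C.stMul (f407 C) (f15543 C) _ (by decide +kernel)

theorem f16025 : C.S (v4 C) [16, 46, 68, 72, 103, 110, 111] :=
  C.stMul (f693 C) (f16024 C) _ (by decide +kernel)

theorem f16026 : C.T (v4 C) [25, 35, 63, 85, 102, 109, 123] (v19 C) [21, 29, 63, 86, 94, 110, 111] :=
  C.conv (f15534 C) (f697 C) (f16025 C) _ [143, 163, 164, 176] _ (by decide +kernel) (by decide +kernel) (by decide +kernel)

theorem f16027 : C.T (v3 C) [18, 32, 51, 85, 107, 110, 113] (v17 C) [12, 45, 68, 82, 104, 110, 122] :=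
  C.conv (f6269 C) (f7309 C) (f7307 C) _ [147, 151, 167, 175, 178] _ (by decide +kernel) (by decide +kernel) (by decide +kernel)

theorem f16028 : C.T (v17 C) [12, 45, 68, 82, 104, 110, 122] (v3 C) [18, 32, 51, 85, 107, 110, 113] :=
  C.flip (f16027 C)

theorem f16029 : C.T (v19 C) [24, 41, 56, 82, 107, 110, 112] (v17 C) [24, 42, 51, 78, 91, 121] :=
  C.closeT (p := (v3 C)) (pu := [4, 33, 69, 76, 93, 110, 116])
    (C.pT (f16023 C)
    (C.pH [26, 38, 54, 89, 90, 113] [25, 35, 63, 85, 102, 109, 123] (by decide +kernel)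
    (C.pT (f16026 C)
    (C.pH [8, 30, 65, 84, 94, 117] [24, 41, 56, 82, 107, 110, 112] (by decide +kernel) (C.pNil _ _)))))
    (C.pH [26, 38, 54, 89, 90, 113] [12, 45, 68, 82, 104, 110, 122] (by decide +kernel)
    (C.pT (f16028 C)
    (C.pH [8, 30, 65, 84, 94, 117] [4, 33, 69, 76, 93, 110, 116] (by decide +kernel) (C.pNil _ _))))
    (C.loop_of_one (relLoop2 C) _ _)

theorem f16030 : C.T (v17 C) [24, 42, 51, 78, 91, 121] (v19 C) [24, 41, 56, 82, 107, 110, 112] :=
  C.flip (f16029 C)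

theorem f16031 : C.T (v3 C) [21, 27, 54, 92, 109, 123] (v4 C) [21, 34, 56, 75, 105, 110, 116] :=
  C.conv (f841 C) (f926 C) (f926 C) _ [139, 161, 164, 175, 178] _ (by decide +kernel) (by decide +kernel) (by decide +kernel)

theorem f16032 : C.T (v4 C) [6, 38, 64, 79, 105, 109, 122] (v18 C) [22, 33, 53, 86, 107, 123] :=
  C.conv (f10112 C) (f14154 C) (f697 C) _ [133, 149, 172, 177] _ (by decide +kernel) (by decide +kernel) (by decide +kernel)

theorem f16033 : C.S (v3 C) [10, 28, 62, 78, 98, 110, 120] :=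
  C.stMul (f328 C) (f335 C) _ (by decide +kernel)

theorem f16034 : C.S (v3 C) [20, 30, 59, 75, 96, 110, 111] :=
  C.stMul (f353 C) (f16033 C) _ (by decide +kernel)

theorem f16035 : C.S (v3 C) [18, 42, 59, 74, 99, 110, 112] :=
  C.stMul (f331 C) (f16034 C) _ (by decide +kernel)

theorem f16036 : C.S (v3 C) [6, 30, 52, 70, 107, 110, 116] :=
  C.stMul (f335 C) (f16035 C) _ (by decide +kernel)

theorem f16037 : C.T (v3 C) [12, 33, 89, 103, 112] (v19 C) [11, 35, 61, 94, 110, 113] :=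
  C.conv (f15701 C) (f15714 C) (f16036 C) _ [137, 162, 168, 173] _ (by decide +kernel) (by decide +kernel) (by decide +kernel)

theorem f16038 : C.T (v19 C) [11, 35, 61, 94, 110, 113] (v3 C) [12, 33, 89, 103, 112] :=
  C.flip (f16037 C)

theorem f16039 : C.T (v18 C) [6, 48, 60, 87, 94, 109] (v19 C) [8, 43, 66, 80, 101, 110, 117] :=
  C.closeT (p := (v3 C)) (pu := [21, 27, 54, 92, 109, 123])
    (C.pT (f16031 C)
    (C.pH [26, 38, 54, 89, 90, 113] [6, 38, 64, 79, 105, 109, 122] (by decide +kernel)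
    (C.pT (f16032 C)
    (C.pH [8, 30, 65, 84, 94, 117] [6, 48, 60, 87, 94, 109] (by decide +kernel) (C.pNil _ _)))))
    (C.pH [26, 38, 54, 89, 90, 113] [11, 35, 61, 94, 110, 113] (by decide +kernel)
    (C.pT (f16038 C)
    (C.pH [8, 30, 65, 84, 94, 117] [21, 27, 54, 92, 109, 123] (by decide +kernel) (C.pNil _ _))))
    (C.loop_of_one (relLoop2 C) _ _)

theorem f16040 : C.T (v19 C) [8, 43, 66, 80, 101, 110, 117] (v18 C) [6, 48, 60, 87, 94, 109] :=
  C.flip (f16039 C)

theorem f16041 : C.T (v3 C) [25, 36, 52, 71, 101, 110, 124] (v4 C) [25, 32, 65, 70, 103, 109, 114] :=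
  C.conv (f841 C) (f926 C) (f926 C) _ [134, 159, 169, 171] _ (by decide +kernel) (by decide +kernel) (by decide +kernel)

theorem f16042 : C.T (v4 C) [18, 46, 56, 73, 102, 110, 120] (v10 C) [20, 36, 50, 82, 101, 109, 125] :=
  C.conv (f1798 C) (f1856 C) (f1938 C) _ [137, 159, 167, 174] _ (by decide +kernel) (by decide +kernel) (by decide +kernel)

theorem f16043 : C.T (v3 C) [4, 47, 66, 71, 105, 109, 116] (v19 C) [14, 28, 63, 85, 108, 110, 125] :=
  C.conv (f15592 C) (f15600 C) (f15767 C) _ [145, 159, 169, 176] _ (by decide +kernel) (by decide +kernel) (by decide +kernel)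

theorem f16044 : C.T (v19 C) [14, 28, 63, 85, 108, 110, 125] (v3 C) [4, 47, 66, 71, 105, 109, 116] :=
  C.flip (f16043 C)

theorem f16045 : C.T (v10 C) [23, 33, 61, 85, 91, 125] (v19 C) [12, 48, 50, 76, 105, 125] :=
  C.closeT (p := (v3 C)) (pu := [25, 36, 52, 71, 101, 110, 124])
    (C.pT (f16041 C)
    (C.pH [26, 38, 54, 89, 90, 113] [18, 46, 56, 73, 102, 110, 120] (by decide +kernel)
    (C.pT (f16042 C)
    (C.pH [8, 30, 65, 84, 94, 117] [23, 33, 61, 85, 91, 125] (by decide +kernel) (C.pNil _ _)))))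
    (C.pH [26, 38, 54, 89, 90, 113] [14, 28, 63, 85, 108, 110, 125] (by decide +kernel)
    (C.pT (f16044 C)
    (C.pH [8, 30, 65, 84, 94, 117] [25, 36, 52, 71, 101, 110, 124] (by decide +kernel) (C.pNil _ _))))
    (C.loop_of_one (relLoop2 C) _ _)

theorem f16046 : C.T (v19 C) [12, 48, 50, 76, 105, 125] (v10 C) [23, 33, 61, 85, 91, 125] :=
  C.flip (f16045 C)

theorem f16047 : C.T (v3 C) [8, 44, 52, 89, 91, 112] (v15 C) [18, 43, 59, 84, 108, 109, 116] :=
  C.conv (f2902 C) (f2981 C) (f2981 C) _ [144, 156, 165, 176, 177] _ (by decide +kernel) (by decide +kernel) (by decide +kernel)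

theorem f16048 : C.T (v3 C) [33, 53, 80, 90, 110, 124] (v18 C) [14, 48, 51, 75, 95, 109, 116] :=
  C.conv (f9184 C) (f9232 C) (f11831 C) _ [127, 152, 168, 171, 178] _ (by decide +kernel) (by decide +kernel) (by decide +kernel)

theorem f16049 : C.T (v18 C) [14, 48, 51, 75, 95, 109, 116] (v3 C) [33, 53, 80, 90, 110, 124] :=
  C.flip (f16048 C)

theorem f16050 : C.S (v18 C) [26, 43, 49, 77, 91, 110, 115] :=
  C.stMul (f6836 C) (f6836 C) _ (by decide +kernel)

theorem f16051 : C.T (v18 C) [12, 32, 69, 78, 94, 110, 113] (v19 C) [28, 56, 89, 92, 109, 121] :=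
  C.conv (f15781 C) (f7121 C) (f16050 C) _ [130, 163, 168, 176] _ (by decide +kernel) (by decide +kernel) (by decide +kernel)

theorem f16052 : C.T (v19 C) [28, 56, 89, 92, 109, 121] (v18 C) [12, 32, 69, 78, 94, 110, 113] :=
  C.flip (f16051 C)

theorem f16053 : C.T (v15 C) [10, 47, 69, 80, 108, 124] (v19 C) [8, 66, 83, 101, 110, 117] :=
  C.closeT (p := (v3 C)) (pu := [8, 44, 52, 89, 91, 112])
    (C.pT (f16047 C)
    (C.pH [26, 38, 54, 89, 90, 113] [10, 47, 69, 80, 108, 124] (by decide +kernel) (C.pNil _ _)))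
    (C.pH [8, 30, 65, 84, 94, 117] [28, 56, 89, 92, 109, 121] (by decide +kernel)
    (C.pT (f16052 C)
    (C.pH [26, 38, 54, 89, 90, 113] [14, 48, 51, 75, 95, 109, 116] (by decide +kernel)
    (C.pT (f16049 C)
    (C.pH [8, 30, 65, 84, 94, 117] [8, 44, 52, 89, 91, 112] (by decide +kernel) (C.pNil _ _))))))
    (C.loop_of_one (relLoop2 C) _ _)

theorem f16054 : C.T (v19 C) [8, 66, 83, 101, 110, 117] (v15 C) [10, 47, 69, 80, 108, 124] :=
  C.flip (f16053 C)

theorem f16055 : C.T (v3 C) [10, 39, 54, 82, 100, 117] (v15 C) [14, 47, 58, 85, 93, 109, 122] :=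
  C.conv (f2902 C) (f2981 C) (f2981 C) _ [127, 150, 168, 174, 178] _ (by decide +kernel) (by decide +kernel) (by decide +kernel)

theorem f16056 : C.S (v15 C) [25, 47, 66, 86, 107, 124] :=
  C.stMul (f2569 C) (f2565 C) _ (by decide +kernel)

theorem f16057 : C.S (v15 C) [20, 63, 89, 93, 110, 115] :=
  C.stMul (f2569 C) (f16056 C) _ (by decide +kernel)

theorem f16058 : C.T (v15 C) [5, 42, 62, 85, 96, 110, 124] (v18 C) [20, 42, 52, 84, 91, 109, 120] :=
  C.conv (f13182 C) (f2565 C) (f16057 C) _ [143, 150, 166] _ (by decide +kernel) (by decide +kernel) (by decide +kernel)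

theorem f16059 : C.S (v3 C) [10, 27, 53, 86, 103, 122] :=
  C.stMul (f353 C) (f15757 C) _ (by decide +kernel)

theorem f16060 : C.T (v3 C) [23, 46, 58, 70, 92, 110, 114] (v19 C) [8, 34, 63, 73, 101, 109, 115] :=
  C.conv (f15701 C) (f15714 C) (f16059 C) _ [133, 152, 166, 173, 177] _ (by decide +kernel) (by decide +kernel) (by decide +kernel)

theorem f16061 : C.T (v19 C) [8, 34, 63, 73, 101, 109, 115] (v3 C) [23, 46, 58, 70, 92, 110, 114] :=
  C.flip (f16060 C)

theorem f16062 : C.T (v18 C) [23, 48, 50, 74, 103, 123] (v19 C) [5, 31, 58, 72, 93, 110, 124] :=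
  C.closeT (p := (v3 C)) (pu := [10, 39, 54, 82, 100, 117])
    (C.pT (f16055 C)
    (C.pH [26, 38, 54, 89, 90, 113] [5, 42, 62, 85, 96, 110, 124] (by decide +kernel)
    (C.pT (f16058 C)
    (C.pH [8, 30, 65, 84, 94, 117] [23, 48, 50, 74, 103, 123] (by decide +kernel) (C.pNil _ _)))))
    (C.pH [26, 38, 54, 89, 90, 113] [8, 34, 63, 73, 101, 109, 115] (by decide +kernel)
    (C.pT (f16061 C)
    (C.pH [8, 30, 65, 84, 94, 117] [10, 39, 54, 82, 100, 117] (by decide +kernel) (C.pNil _ _))))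
    (C.loop_of_one (relLoop2 C) _ _)

theorem f16063 : C.T (v19 C) [5, 31, 58, 72, 93, 110, 124] (v18 C) [23, 48, 50, 74, 103, 123] :=
  C.flip (f16062 C)

theorem f16064 : C.T (v3 C) [8, 46, 60, 90, 109, 116] (v15 C) [16, 28, 69, 72, 91, 116] :=
  C.conv (f3166 C) (f3236 C) (f3236 C) _ [143, 158, 170, 171] _ (by decide +kernel) (by decide +kernel) (by decide +kernel)

theorem f16065 : C.S (v15 C) [25, 46, 61, 102, 110, 119] :=
  C.stMul (f2565 C) (f2569 C) _ (by decide +kernel)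

theorem f16066 : C.S (v15 C) [25, 47, 66, 86, 107, 124] :=
  C.stMul (f2569 C) (f2565 C) _ (by decide +kernel)

theorem f16067 : C.S (v15 C) [20, 63, 89, 93, 110, 115] :=
  C.stMul (f2569 C) (f16066 C) _ (by decide +kernel)

theorem f16068 : C.T (v15 C) [13, 39, 49, 80, 100, 109, 119] (v17 C) [8, 38, 63, 88, 104, 110] :=
  C.conv (f4700 C) (f16065 C) (f16067 C) _ [138, 152, 166, 175, 177] _ (by decide +kernel) (by decide +kernel) (by decide +kernel)

theorem f16069 : C.S (v3 C) [6, 44, 60, 85, 94, 120] :=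
  C.stMul (f328 C) (f15830 C) _ (by decide +kernel)

theorem f16070 : C.S (v3 C) [26, 41, 49, 77, 105, 123] :=
  C.stMul (f353 C) (f16069 C) _ (by decide +kernel)

theorem f16071 : C.T (v3 C) [37, 49, 101, 122] (v19 C) [20, 27, 66, 71, 93, 109, 119] :=
  C.conv (f15701 C) (f15714 C) (f16070 C) _ [130, 163, 173] _ (by decide +kernel) (by decide +kernel) (by decide +kernel)

theorem f16072 : C.T (v19 C) [20, 27, 66, 71, 93, 109, 119] (v3 C) [37, 49, 101, 122] :=
  C.flip (f16071 C)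

theorem f16073 : C.T (v17 C) [38, 56, 80, 95, 110, 121] (v19 C) [17, 31, 64, 81, 109, 123] :=
  C.closeT (p := (v3 C)) (pu := [8, 46, 60, 90, 109, 116])
    (C.pT (f16064 C)
    (C.pH [26, 38, 54, 89, 90, 113] [13, 39, 49, 80, 100, 109, 119] (by decide +kernel)
    (C.pT (f16068 C)
    (C.pH [8, 30, 65, 84, 94, 117] [38, 56, 80, 95, 110, 121] (by decide +kernel) (C.pNil _ _)))))
    (C.pH [26, 38, 54, 89, 90, 113] [20, 27, 66, 71, 93, 109, 119] (by decide +kernel)
    (C.pT (f16072 C)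
    (C.pH [8, 30, 65, 84, 94, 117] [8, 46, 60, 90, 109, 116] (by decide +kernel) (C.pNil _ _))))
    (C.loop_of_one (relLoop2 C) _ _)

theorem f16074 : C.T (v19 C) [17, 31, 64, 81, 109, 123] (v17 C) [38, 56, 80, 95, 110, 121] :=
  C.flip (f16073 C)

theorem f16075 : C.T (v3 C) [12, 41, 69, 75, 92, 113] (v15 C) [7, 47, 49, 85, 94, 115] :=
  C.conv (f3166 C) (f3236 C) (f3236 C) _ [143, 152, 164, 172] _ (by decide +kernel) (by decide +kernel) (by decide +kernel)

theorem f16076 : C.S (v15 C) [20, 39, 55, 88, 95, 110, 125] :=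
  C.stMul (f2581 C) (f2565 C) _ (by decide +kernel)

theorem f16077 : C.T (v15 C) [48, 66, 89, 92, 110, 116] (v18 C) [23, 27, 68, 77, 101, 109, 116] :=
  C.conv (f12910 C) (f16076 C) (f16076 C) _ [145, 158, 164, 171] _ (by decide +kernel) (by decide +kernel) (by decide +kernel)

theorem f16078 : C.S (v3 C) [13, 42, 59, 86, 99, 123] :=
  C.stMul (f335 C) (f15938 C) _ (by decide +kernel)

theorem f16079 : C.T (v3 C) [5, 44, 50, 73] (v19 C) [10, 40, 59, 77, 103, 110, 122] :=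
  C.conv (f15592 C) (f15600 C) (f16078 C) _ [136, 158, 170, 171] _ (by decide +kernel) (by decide +kernel) (by decide +kernel)

theorem f16080 : C.T (v19 C) [10, 40, 59, 77, 103, 110, 122] (v3 C) [5, 44, 50, 73] :=
  C.flip (f16079 C)

theorem f16081 : C.T (v18 C) [10, 48, 59, 78, 101, 119] (v19 C) [18, 46, 51, 74, 107, 110, 111] :=
  C.closeT (p := (v3 C)) (pu := [12, 41, 69, 75, 92, 113])
    (C.pT (f16075 C)
    (C.pH [26, 38, 54, 89, 90, 113] [48, 66, 89, 92, 110, 116] (by decide +kernel)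
    (C.pT (f16077 C)
    (C.pH [8, 30, 65, 84, 94, 117] [10, 48, 59, 78, 101, 119] (by decide +kernel) (C.pNil _ _)))))
    (C.pH [26, 38, 54, 89, 90, 113] [10, 40, 59, 77, 103, 110, 122] (by decide +kernel)
    (C.pT (f16080 C)
    (C.pH [8, 30, 65, 84, 94, 117] [12, 41, 69, 75, 92, 113] (by decide +kernel) (C.pNil _ _))))
    (C.loop_of_one (relLoop2 C) _ _)

theorem f16082 : C.T (v19 C) [18, 46, 51, 74, 107, 110, 111] (v18 C) [10, 48, 59, 78, 101, 119] :=
  C.flip (f16081 C)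

theorem f16083 : C.T (v3 C) [6, 43, 54, 87, 99, 113] (v17 C) [7, 38, 65, 72, 106, 112] :=
  C.conv (f6269 C) (f7309 C) (f7309 C) _ [138, 156, 172, 178] _ (by decide +kernel) (by decide +kernel) (by decide +kernel)

theorem f16084 : C.S (v3 C) [20, 56, 88, 105, 110, 120] :=
  C.stMul (f331 C) (f331 C) _ (by decide +kernel)

theorem f16085 : C.S (v3 C) [18, 48, 67, 88, 96, 109, 120] :=
  C.stMul (f331 C) (f16084 C) _ (by decide +kernel)

theorem f16086 : C.S (v3 C) [22, 38, 52, 99, 110, 111] :=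
  C.stMul (f353 C) (f16085 C) _ (by decide +kernel)

theorem f16087 : C.T (v3 C) [22, 48, 61, 87, 99, 110, 116] (v17 C) [19, 31, 59, 73, 97, 115] :=
  C.conv (f6822 C) (f7297 C) (f16086 C) _ [138, 153, 174, 177] _ (by decide +kernel) (by decide +kernel) (by decide +kernel)

theorem f16088 : C.T (v17 C) [19, 31, 59, 73, 97, 115] (v3 C) [22, 48, 61, 87, 99, 110, 116] :=
  C.flip (f16087 C)

theorem f16089 : C.S (v17 C) [51, 81, 96, 109, 125] :=
  C.stMul (f4132 C) (f4137 C) _ (by decide +kernel)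

theorem f16090 : C.T (v17 C) [22, 36, 58, 82, 110, 115] (v19 C) [16, 46, 68, 81, 100, 118] :=
  C.conv (f15614 C) (f4132 C) (f16089 C) _ [133, 153, 170, 171, 177] _ (by decide +kernel) (by decide +kernel) (by decide +kernel)

theorem f16091 : C.T (v19 C) [16, 46, 68, 81, 100, 118] (v17 C) [22, 36, 58, 82, 110, 115] :=
  C.flip (f16090 C)

theorem f16092 : C.T (v17 C) [35, 50, 79, 99, 109, 120] (v19 C) [24, 38, 50, 77, 97, 118] :=
  C.closeT (p := (v3 C)) (pu := [6, 43, 54, 87, 99, 113])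
    (C.pT (f16083 C)
    (C.pH [26, 38, 54, 89, 90, 113] [35, 50, 79, 99, 109, 120] (by decide +kernel) (C.pNil _ _)))
    (C.pH [8, 30, 65, 84, 94, 117] [16, 46, 68, 81, 100, 118] (by decide +kernel)
    (C.pT (f16091 C)
    (C.pH [26, 38, 54, 89, 90, 113] [19, 31, 59, 73, 97, 115] (by decide +kernel)
    (C.pT (f16088 C)
    (C.pH [8, 30, 65, 84, 94, 117] [6, 43, 54, 87, 99, 113] (by decide +kernel) (C.pNil _ _))))))
    (C.loop_of_one (relLoop2 C) _ _)

theorem f16093 : C.T (v19 C) [24, 38, 50, 77, 97, 118] (v17 C) [35, 50, 79, 99, 109, 120] :=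
  C.flip (f16092 C)

theorem f16094 : C.T (v3 C) [23, 29, 64, 88, 107, 120] (v17 C) [9, 37, 49, 85, 106, 109, 124] :=
  C.conv (f6269 C) (f7309 C) (f7309 C) _ [138, 162, 165, 171, 178] _ (by decide +kernel) (by decide +kernel) (by decide +kernel)

theorem f16095 : C.S (v17 C) [23, 31, 75, 92, 109, 116] :=
  C.stMul (f4137 C) (f4132 C) _ (by decide +kernel)

theorem f16096 : C.T (v17 C) [22, 30, 59, 88, 103, 122] (v18 C) [14, 40, 87, 103, 109, 122] :=
  C.conv (f7968 C) (f4137 C) (f16095 C) _ [139, 157, 170, 174, 178] _ (by decide +kernel) (by decide +kernel) (by decide +kernel)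

theorem f16097 : C.S (v3 C) [6, 43, 52, 78, 106, 118] :=
  C.stMul (f328 C) (f15639 C) _ (by decide +kernel)

theorem f16098 : C.S (v3 C) [26, 33, 69, 81, 108, 110, 118] :=
  C.stMul (f353 C) (f16097 C) _ (by decide +kernel)

theorem f16099 : C.T (v3 C) [20, 27, 58, 80, 105, 109, 111] (v19 C) [15, 29, 58, 82, 97, 109, 123] :=
  C.conv (f15592 C) (f15600 C) (f16098 C) _ [131, 150, 168, 173] _ (by decide +kernel) (by decide +kernel) (by decide +kernel)

theorem f16100 : C.T (v19 C) [15, 29, 58, 82, 97, 109, 123] (v3 C) [20, 27, 58, 80, 105, 109, 111] :=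
  C.flip (f16099 C)

theorem f16101 : C.T (v18 C) [5, 36, 51, 83, 108, 109, 121] (v19 C) [20, 36, 50, 83, 100, 110, 121] :=
  C.closeT (p := (v3 C)) (pu := [23, 29, 64, 88, 107, 120])
    (C.pT (f16094 C)
    (C.pH [26, 38, 54, 89, 90, 113] [22, 30, 59, 88, 103, 122] (by decide +kernel)
    (C.pT (f16096 C)
    (C.pH [8, 30, 65, 84, 94, 117] [5, 36, 51, 83, 108, 109, 121] (by decide +kernel) (C.pNil _ _)))))
    (C.pH [26, 38, 54, 89, 90, 113] [15, 29, 58, 82, 97, 109, 123] (by decide +kernel)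
    (C.pT (f16100 C)
    (C.pH [8, 30, 65, 84, 94, 117] [23, 29, 64, 88, 107, 120] (by decide +kernel) (C.pNil _ _))))
    (C.loop_of_one (relLoop2 C) _ _)

theorem f16102 : C.T (v19 C) [20, 36, 50, 83, 100, 110, 121] (v18 C) [5, 36, 51, 83, 108, 109, 121] :=
  C.flip (f16101 C)

theorem f16103 : C.T (v3 C) [15, 31, 67, 79, 92, 121] (v17 C) [19, 35, 68, 78, 98, 109, 117] :=
  C.conv (f6808 C) (f9290 C) (f9290 C) _ [146, 159, 165, 175, 177] _ (by decide +kernel) (by decide +kernel) (by decide +kernel)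

theorem f16104 : C.S (v3 C) [11, 33, 69, 85, 97, 109, 117] :=
  C.stMul (f335 C) (f9959 C) _ (by decide +kernel)

theorem f16105 : C.T (v3 C) [10, 30, 59, 76, 104, 110, 122] (v18 C) [5, 48, 57, 84, 106, 110, 119] :=
  C.conv (f6888 C) (f7333 C) (f16104 C) _ [130, 163, 167, 173, 178] _ (by decide +kernel) (by decide +kernel) (by decide +kernel)

theorem f16106 : C.T (v18 C) [5, 48, 57, 84, 106, 110, 119] (v3 C) [10, 30, 59, 76, 104, 110, 122] :=
  C.flip (f16105 C)

theorem f16107 : C.S (v18 C) [26, 43, 49, 77, 91, 110, 115] :=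
  C.stMul (f6836 C) (f6836 C) _ (by decide +kernel)

theorem f16108 : C.T (v18 C) [14, 33, 60, 80, 106, 117] (v19 C) [12, 37, 63, 80, 104, 123] :=
  C.conv (f15675 C) (f6836 C) (f16107 C) _ [139, 155, 167, 175] _ (by decide +kernel) (by decide +kernel) (by decide +kernel)

theorem f16109 : C.T (v19 C) [12, 37, 63, 80, 104, 123] (v18 C) [14, 33, 60, 80, 106, 117] :=
  C.flip (f16108 C)

theorem f16110 : C.T (v17 C) [17, 30, 67, 82, 104, 109, 120] (v19 C) [5, 39, 52, 78, 92, 109, 125] :=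
  C.closeT (p := (v3 C)) (pu := [15, 31, 67, 79, 92, 121])
    (C.pT (f16103 C)
    (C.pH [26, 38, 54, 89, 90, 113] [17, 30, 67, 82, 104, 109, 120] (by decide +kernel) (C.pNil _ _)))
    (C.pH [8, 30, 65, 84, 94, 117] [12, 37, 63, 80, 104, 123] (by decide +kernel)
    (C.pT (f16109 C)
    (C.pH [26, 38, 54, 89, 90, 113] [5, 48, 57, 84, 106, 110, 119] (by decide +kernel)
    (C.pT (f16106 C)
    (C.pH [8, 30, 65, 84, 94, 117] [15, 31, 67, 79, 92, 121] (by decide +kernel) (C.pNil _ _))))))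
    (C.loop_of_one (relLoop2 C) _ _)

theorem f16111 : C.T (v19 C) [5, 39, 52, 78, 92, 109, 125] (v17 C) [17, 30, 67, 82, 104, 109, 120] :=
  C.flip (f16110 C)

theorem f16112 : C.T (v3 C) [19, 34, 51, 77, 104, 124] (v17 C) [24, 32, 58, 81, 104, 110, 112] :=
  C.conv (f6814 C) (f7361 C) (f7361 C) _ [143, 159, 164, 172, 177] _ (by decide +kernel) (by decide +kernel) (by decide +kernel)

theorem f16113 : C.T (v17 C) [12, 47, 54, 86, 94, 109, 112] (v17 C) [8, 46, 58, 78, 107, 110, 117] :=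
  C.conv (f4943 C) (f6110 C) (f4132 C) _ [132, 162, 167, 172] _ (by decide +kernel) (by decide +kernel) (by decide +kernel)

theorem f16114 : C.T (v3 C) [15, 31, 62, 88, 97, 110, 125] (v19 C) [21, 42, 59, 80, 104, 113] :=
  C.conv (f15592 C) (f15600 C) (f16018 C) _ [133, 152, 166, 172, 178] _ (by decide +kernel) (by decide +kernel) (by decide +kernel)

theorem f16115 : C.T (v19 C) [21, 42, 59, 80, 104, 113] (v3 C) [15, 31, 62, 88, 97, 110, 125] :=
  C.flip (f16114 C)

theorem f16116 : C.T (v17 C) [48, 52, 71, 100, 119] (v19 C) [10, 44, 54, 82, 108, 109, 124] :=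
  C.closeT (p := (v3 C)) (pu := [19, 34, 51, 77, 104, 124])
    (C.pT (f16112 C)
    (C.pH [26, 38, 54, 89, 90, 113] [12, 47, 54, 86, 94, 109, 112] (by decide +kernel)
    (C.pT (f16113 C)
    (C.pH [8, 30, 65, 84, 94, 117] [48, 52, 71, 100, 119] (by decide +kernel) (C.pNil _ _)))))
    (C.pH [26, 38, 54, 89, 90, 113] [21, 42, 59, 80, 104, 113] (by decide +kernel)
    (C.pT (f16115 C)
    (C.pH [8, 30, 65, 84, 94, 117] [19, 34, 51, 77, 104, 124] (by decide +kernel) (C.pNil _ _))))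
    (C.loop_of_one (relLoop2 C) _ _)

theorem f16117 : C.T (v19 C) [10, 44, 54, 82, 108, 109, 124] (v17 C) [48, 52, 71, 100, 119] :=
  C.flip (f16116 C)

theorem f16118 : C.T (v3 C) [6, 31, 65, 86, 93, 124] (v17 C) [20, 41, 51, 79, 96] :=
  C.conv (f6814 C) (f7361 C) (f7361 C) _ [145, 154, 164, 178] _ (by decide +kernel) (by decide +kernel) (by decide +kernel)

theorem f16119 : C.S (v3 C) [15, 38, 55, 77, 98, 114] :=
  C.stMul (f331 C) (f9637 C) _ (by decide +kernel)

theorem f16120 : C.S (v3 C) [8, 27, 64, 80, 97, 109, 113] :=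
  C.stMul (f353 C) (f16119 C) _ (by decide +kernel)

theorem f16121 : C.S (v3 C) [10, 41, 49, 74, 98, 110, 117] :=
  C.stMul (f331 C) (f16120 C) _ (by decide +kernel)

theorem f16122 : C.T (v3 C) [22, 38, 64, 74, 106, 110, 115] (v18 C) [5, 45, 61, 81, 90, 110, 119] :=
  C.conv (f9432 C) (f9640 C) (f16121 C) _ [142, 154, 170, 177] _ (by decide +kernel) (by decide +kernel) (by decide +kernel)

theorem f16123 : C.T (v18 C) [5, 45, 61, 81, 90, 110, 119] (v3 C) [22, 38, 64, 74, 106, 110, 115] :=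
  C.flip (f16122 C)

theorem f16124 : C.S (v18 C) [26, 43, 49, 77, 91, 110, 115] :=
  C.stMul (f6836 C) (f6836 C) _ (by decide +kernel)

theorem f16125 : C.T (v18 C) [14, 27, 50, 83, 98, 116] (v19 C) [19, 30, 68, 71, 93, 109, 122] :=
  C.conv (f15965 C) (f16124 C) (f16124 C) _ [141, 163, 170] _ (by decide +kernel) (by decide +kernel) (by decide +kernel)

theorem f16126 : C.T (v19 C) [19, 30, 68, 71, 93, 109, 122] (v18 C) [14, 27, 50, 83, 98, 116] :=
  C.flip (f16125 C)

theorem f16127 : C.T (v17 C) [15, 48, 61, 109, 123] (v19 C) [15, 45, 66, 70, 101, 110, 113] :=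
  C.closeT (p := (v3 C)) (pu := [6, 31, 65, 86, 93, 124])
    (C.pT (f16118 C)
    (C.pH [26, 38, 54, 89, 90, 113] [15, 48, 61, 109, 123] (by decide +kernel) (C.pNil _ _)))
    (C.pH [8, 30, 65, 84, 94, 117] [19, 30, 68, 71, 93, 109, 122] (by decide +kernel)
    (C.pT (f16126 C)
    (C.pH [26, 38, 54, 89, 90, 113] [5, 45, 61, 81, 90, 110, 119] (by decide +kernel)
    (C.pT (f16123 C)
    (C.pH [8, 30, 65, 84, 94, 117] [6, 31, 65, 86, 93, 124] (by decide +kernel) (C.pNil _ _))))))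
    (C.loop_of_one (relLoop2 C) _ _)

theorem f16128 : C.T (v19 C) [15, 45, 66, 70, 101, 110, 113] (v17 C) [15, 48, 61, 109, 123] :=
  C.flip (f16127 C)

theorem f16129 : C.T (v3 C) [23, 42, 52, 80, 94, 109, 120] (v17 C) [24, 29, 65, 70, 93, 109, 111] :=
  C.conv (f6814 C) (f7361 C) (f7361 C) _ [147, 156, 167, 174, 177] _ (by decide +kernel) (by decide +kernel) (by decide +kernel)

theorem f16130 : C.S (v17 C) [23, 31, 49, 84, 96, 117] :=
  C.stMul (f4137 C) (f4137 C) _ (by decide +kernel)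

theorem f16131 : C.T (v17 C) [12, 46, 51, 76, 96, 110, 116] (v17 C) [4, 31, 57, 71, 97, 110, 114] :=
  C.conv (f6551 C) (f4300 C) (f16130 C) _ [137, 161, 167, 171] _ (by decide +kernel) (by decide +kernel) (by decide +kernel)

theorem f16132 : C.S (v3 C) [19, 30, 60, 72, 107, 110, 116] :=
  C.stMul (f331 C) (f335 C) _ (by decide +kernel)

theorem f16133 : C.S (v3 C) [26, 29, 49, 97, 123] :=
  C.stMul (f335 C) (f16132 C) _ (by decide +kernel)

theorem f16134 : C.S (v3 C) [8, 47, 49, 72, 107, 110, 116] :=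
  C.stMul (f335 C) (f16133 C) _ (by decide +kernel)

theorem f16135 : C.T (v3 C) [20, 46, 66, 83, 91, 121] (v19 C) [6, 38, 55, 84, 91, 110] :=
  C.conv (f15592 C) (f15600 C) (f16134 C) _ [130, 151, 165] _ (by decide +kernel) (by decide +kernel) (by decide +kernel)

theorem f16136 : C.T (v19 C) [6, 38, 55, 84, 91, 110] (v3 C) [20, 46, 66, 83, 91, 121] :=
  C.flip (f16135 C)

theorem f16137 : C.T (v17 C) [25, 28, 76, 102, 109, 111] (v19 C) [21, 34, 50, 73, 99, 124] :=
  C.closeT (p := (v3 C)) (pu := [23, 42, 52, 80, 94, 109, 120])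
    (C.pT (f16129 C)
    (C.pH [26, 38, 54, 89, 90, 113] [12, 46, 51, 76, 96, 110, 116] (by decide +kernel)
    (C.pT (f16131 C)
    (C.pH [8, 30, 65, 84, 94, 117] [25, 28, 76, 102, 109, 111] (by decide +kernel) (C.pNil _ _)))))
    (C.pH [26, 38, 54, 89, 90, 113] [6, 38, 55, 84, 91, 110] (by decide +kernel)
    (C.pT (f16136 C)
    (C.pH [8, 30, 65, 84, 94, 117] [23, 42, 52, 80, 94, 109, 120] (by decide +kernel) (C.pNil _ _))))
    (C.loop_of_one (relLoop2 C) _ _)

theorem f16138 : C.T (v19 C) [21, 34, 50, 73, 99, 124] (v17 C) [25, 28, 76, 102, 109, 111] :=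
  C.flip (f16137 C)

theorem f16139 : C.T (v3 C) [5, 32, 49, 75, 94, 112] (v17 C) [26, 29, 52, 79, 104, 109, 122] :=
  C.conv (f6822 C) (f7297 C) (f7297 C) _ [127, 162, 168, 173, 178] _ (by decide +kernel) (by decide +kernel) (by decide +kernel)

theorem f16140 : C.T (v17 C) [16, 57, 80, 103, 110, 112] (v16 C) [17, 36, 60, 84, 99, 110, 111] :=
  C.conv (f6364 C) (f11240 C) (f11772 C) _ [141, 160, 167, 173, 178] _ (by decide +kernel) (by decide +kernel) (by decide +kernel)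

theorem f16141 : C.T (v3 C) [14, 47, 50, 80, 102, 110, 124] (v19 C) [17, 37, 61, 74, 97, 109, 125] :=
  C.conv (f15592 C) (f15600 C) (f15608 C) _ [145, 157, 166, 171, 178] _ (by decide +kernel) (by decide +kernel) (by decide +kernel)

theorem f16142 : C.T (v19 C) [17, 37, 61, 74, 97, 109, 125] (v3 C) [14, 47, 50, 80, 102, 110, 124] :=
  C.flip (f16141 C)

theorem f16143 : C.T (v16 C) [22, 41, 58, 81, 95, 109, 121] (v19 C) [19, 63, 75, 106, 110, 125] :=
  C.closeT (p := (v3 C)) (pu := [5, 32, 49, 75, 94, 112])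
    (C.pT (f16139 C)
    (C.pH [26, 38, 54, 89, 90, 113] [16, 57, 80, 103, 110, 112] (by decide +kernel)
    (C.pT (f16140 C)
    (C.pH [8, 30, 65, 84, 94, 117] [22, 41, 58, 81, 95, 109, 121] (by decide +kernel) (C.pNil _ _)))))
    (C.pH [26, 38, 54, 89, 90, 113] [17, 37, 61, 74, 97, 109, 125] (by decide +kernel)
    (C.pT (f16142 C)
    (C.pH [8, 30, 65, 84, 94, 117] [5, 32, 49, 75, 94, 112] (by decide +kernel) (C.pNil _ _))))
    (C.loop_of_one (relLoop2 C) _ _)

theorem f16144 : C.T (v19 C) [19, 63, 75, 106, 110, 125] (v16 C) [22, 41, 58, 81, 95, 109, 121] :=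
  C.flip (f16143 C)

theorem f16145 : C.T (v3 C) [6, 43, 65, 77, 93, 109, 116] (v17 C) [25, 38, 81, 105, 111] :=
  C.conv (f6822 C) (f7297 C) (f7297 C) _ [128, 149, 168, 172] _ (by decide +kernel) (by decide +kernel) (by decide +kernel)

theorem f16146 : C.S (v17 C) [51, 81, 96, 109, 125] :=
  C.stMul (f4132 C) (f4137 C) _ (by decide +kernel)

theorem f16147 : C.S (v17 C) [23, 31, 49, 84, 96, 117] :=
  C.stMul (f4137 C) (f4137 C) _ (by decide +kernel)

theorem f16148 : C.T (v17 C) [18, 33, 67, 73, 100, 110, 123] (v15 C) [8, 47, 58, 84, 107, 110, 120] :=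
  C.conv (f6409 C) (f16146 C) (f16147 C) _ [138, 161, 168, 172] _ (by decide +kernel) (by decide +kernel) (by decide +kernel)

theorem f16149 : C.S (v3 C) [26, 32, 53, 86, 108, 110, 118] :=
  C.stMul (f331 C) (f16097 C) _ (by decide +kernel)

theorem f16150 : C.T (v3 C) [22, 48, 69, 83, 92, 110, 111] (v19 C) [23, 42, 61, 86, 91, 125] :=
  C.conv (f15592 C) (f15600 C) (f16149 C) _ [132, 153, 164, 176, 177] _ (by decide +kernel) (by decide +kernel) (by decide +kernel)

theorem f16151 : C.T (v19 C) [23, 42, 61, 86, 91, 125] (v3 C) [22, 48, 69, 83, 92, 110, 111] :=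
  C.flip (f16150 C)

theorem f16152 : C.T (v15 C) [45, 82, 102, 110] (v19 C) [13, 27, 68, 104, 109, 124] :=
  C.closeT (p := (v3 C)) (pu := [6, 43, 65, 77, 93, 109, 116])
    (C.pT (f16145 C)
    (C.pH [26, 38, 54, 89, 90, 113] [18, 33, 67, 73, 100, 110, 123] (by decide +kernel)
    (C.pT (f16148 C)
    (C.pH [8, 30, 65, 84, 94, 117] [45, 82, 102, 110] (by decide +kernel) (C.pNil _ _)))))
    (C.pH [26, 38, 54, 89, 90, 113] [23, 42, 61, 86, 91, 125] (by decide +kernel)
    (C.pT (f16151 C)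
    (C.pH [8, 30, 65, 84, 94, 117] [6, 43, 65, 77, 93, 109, 116] (by decide +kernel) (C.pNil _ _))))
    (C.loop_of_one (relLoop2 C) _ _)

theorem f16153 : C.T (v19 C) [13, 27, 68, 104, 109, 124] (v15 C) [45, 82, 102, 110] :=
  C.flip (f16152 C)

theorem f16154 : C.T (v3 C) [8, 60, 85, 104, 111] (v17 C) [26, 54, 79, 90, 113] :=
  C.conv (f6822 C) (f7297 C) (f7297 C) _ [130, 149, 164, 171, 178] _ (by decide +kernel) (by decide +kernel) (by decide +kernel)

theorem f16155 : C.T (v17 C) [16, 48, 50, 76, 91, 109, 123] (v9 C) [9, 38, 57, 75, 104, 125] :=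
  C.conv (f4202 C) (f15202 C) (f4300 C) _ [129, 159, 170] _ (by decide +kernel) (by decide +kernel) (by decide +kernel)

theorem f16156 : C.T (v3 C) [39, 66, 71, 94] (v19 C) [9, 30, 67, 84, 103, 109, 114] :=
  C.conv (f15592 C) (f15600 C) (f15767 C) _ [137, 161, 165, 175] _ (by decide +kernel) (by decide +kernel) (by decide +kernel)

theorem f16157 : C.T (v19 C) [9, 30, 67, 84, 103, 109, 114] (v3 C) [39, 66, 71, 94] :=
  C.flip (f16156 C)

theorem f16158 : C.T (v9 C) [18, 44, 57, 75, 104, 125] (v19 C) [15, 28, 54, 89, 93, 110, 119] :=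
  C.closeT (p := (v3 C)) (pu := [8, 60, 85, 104, 111])
    (C.pT (f16154 C)
    (C.pH [26, 38, 54, 89, 90, 113] [16, 48, 50, 76, 91, 109, 123] (by decide +kernel)
    (C.pT (f16155 C)
    (C.pH [8, 30, 65, 84, 94, 117] [18, 44, 57, 75, 104, 125] (by decide +kernel) (C.pNil _ _)))))
    (C.pH [26, 38, 54, 89, 90, 113] [9, 30, 67, 84, 103, 109, 114] (by decide +kernel)
    (C.pT (f16157 C)
    (C.pH [8, 30, 65, 84, 94, 117] [8, 60, 85, 104, 111] (by decide +kernel) (C.pNil _ _))))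
    (C.loop_of_one (relLoop2 C) _ _)

theorem f16159 : C.T (v19 C) [15, 28, 54, 89, 93, 110, 119] (v9 C) [18, 44, 57, 75, 104, 125] :=
  C.flip (f16158 C)

theorem f16160 : C.T (v3 C) [26, 31, 50, 70, 100, 112] (v17 C) [8, 41, 79, 106, 110, 125] :=
  C.conv (f6822 C) (f7297 C) (f7297 C) _ [148, 158, 167, 175, 178] _ (by decide +kernel) (by decide +kernel) (by decide +kernel)

theorem f16161 : C.S (v17 C) [51, 81, 96, 109, 125] :=
  C.stMul (f4132 C) (f4137 C) _ (by decide +kernel)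

theorem f16162 : C.T (v17 C) [11, 46, 64, 74, 94, 121] (v19 C) [23, 29, 64, 81, 101, 109, 120] :=
  C.conv (f15728 C) (f16161 C) (f4137 C) _ [135, 157, 178] _ (by decide +kernel) (by decide +kernel) (by decide +kernel)

theorem f16163 : C.S (v3 C) [4, 30, 49, 89, 105, 125] :=
  C.stMul (f353 C) (f16133 C) _ (by decide +kernel)

theorem f16164 : C.S (v3 C) [12, 54, 72, 97, 111] :=
  C.stMul (f335 C) (f16163 C) _ (by decide +kernel)

theorem f16165 : C.T (v3 C) [19, 33, 55, 77, 95, 113] (v19 C) [23, 48, 60, 79, 92, 110] :=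
  C.conv (f15592 C) (f15600 C) (f16164 C) _ [127, 161, 168, 176, 178] _ (by decide +kernel) (by decide +kernel) (by decide +kernel)

theorem f16166 : C.T (v19 C) [23, 48, 60, 79, 92, 110] (v3 C) [19, 33, 55, 77, 95, 113] :=
  C.flip (f16165 C)

theorem f16167 : C.T (v19 C) [10, 38, 58, 73, 106, 123] (v19 C) [13, 41, 59, 80, 96, 117] :=
  C.closeT (p := (v3 C)) (pu := [26, 31, 50, 70, 100, 112])
    (C.pT (f16160 C)
    (C.pH [26, 38, 54, 89, 90, 113] [11, 46, 64, 74, 94, 121] (by decide +kernel)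
    (C.pT (f16162 C)
    (C.pH [8, 30, 65, 84, 94, 117] [10, 38, 58, 73, 106, 123] (by decide +kernel) (C.pNil _ _)))))
    (C.pH [26, 38, 54, 89, 90, 113] [23, 48, 60, 79, 92, 110] (by decide +kernel)
    (C.pT (f16166 C)
    (C.pH [8, 30, 65, 84, 94, 117] [26, 31, 50, 70, 100, 112] (by decide +kernel) (C.pNil _ _))))
    (C.loop_of_one (relLoop2 C) _ _)

theorem f16168 : C.T (v19 C) [13, 41, 59, 80, 96, 117] (v19 C) [10, 38, 58, 73, 106, 123] :=
  C.flip (f16167 C)

theorem f16169 : C.T (v3 C) [12, 37, 57, 100, 109, 113] (v17 C) [20, 42, 52, 80, 101, 110, 116] :=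
  C.conv (f6822 C) (f7297 C) (f7297 C) _ [134, 162, 164, 174, 178] _ (by decide +kernel) (by decide +kernel) (by decide +kernel)

theorem f16170 : C.S (v17 C) [51, 81, 96, 109, 125] :=
  C.stMul (f4132 C) (f4137 C) _ (by decide +kernel)

theorem f16171 : C.T (v17 C) [15, 33, 60, 70, 90, 109, 112] (v18 C) [7, 30, 64, 76, 94, 109, 122] :=
  C.conv (f13746 C) (f16170 C) (f4137 C) _ [138, 156, 164, 173, 177] _ (by decide +kernel) (by decide +kernel) (by decide +kernel)

theorem f16172 : C.S (v3 C) [15, 34, 56, 71, 106, 109, 117] :=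
  C.stMul (f331 C) (f353 C) _ (by decide +kernel)

theorem f16173 : C.S (v3 C) [8, 29, 61, 75, 96, 110, 111] :=
  C.stMul (f353 C) (f16172 C) _ (by decide +kernel)

theorem f16174 : C.S (v3 C) [10, 44, 65, 75, 90, 110, 114] :=
  C.stMul (f331 C) (f16173 C) _ (by decide +kernel)

theorem f16175 : C.T (v3 C) [5, 39, 63, 89, 105, 122] (v19 C) [19, 32, 57, 89, 104, 109, 125] :=
  C.conv (f15701 C) (f15714 C) (f16174 C) _ [126, 155, 169, 175] _ (by decide +kernel) (by decide +kernel) (by decide +kernel)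

theorem f16176 : C.T (v19 C) [19, 32, 57, 89, 104, 109, 125] (v3 C) [5, 39, 63, 89, 105, 122] :=
  C.flip (f16175 C)

theorem f16177 : C.T (v18 C) [17, 40, 88, 94, 109, 112] (v19 C) [22, 37, 49, 103, 109] :=
  C.closeT (p := (v3 C)) (pu := [12, 37, 57, 100, 109, 113])
    (C.pT (f16169 C)
    (C.pH [26, 38, 54, 89, 90, 113] [15, 33, 60, 70, 90, 109, 112] (by decide +kernel)
    (C.pT (f16171 C)
    (C.pH [8, 30, 65, 84, 94, 117] [17, 40, 88, 94, 109, 112] (by decide +kernel) (C.pNil _ _)))))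
    (C.pH [26, 38, 54, 89, 90, 113] [19, 32, 57, 89, 104, 109, 125] (by decide +kernel)
    (C.pT (f16176 C)
    (C.pH [8, 30, 65, 84, 94, 117] [12, 37, 57, 100, 109, 113] (by decide +kernel) (C.pNil _ _))))
    (C.loop_of_one (relLoop2 C) _ _)

theorem f16178 : C.T (v19 C) [22, 37, 49, 103, 109] (v18 C) [17, 40, 88, 94, 109, 112] :=
  C.flip (f16177 C)

theorem f16179 : C.T (v3 C) [11, 31, 69, 86, 96, 124] (v17 C) [23, 57, 72, 104, 109, 114] :=
  C.conv (f6822 C) (f7297 C) (f7297 C) _ [133, 161, 170, 173] _ (by decide +kernel) (by decide +kernel) (by decide +kernel)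

theorem f16180 : C.S (v17 C) [51, 81, 96, 109, 125] :=
  C.stMul (f4132 C) (f4137 C) _ (by decide +kernel)

theorem f16181 : C.T (v17 C) [7, 30, 59, 104, 123] (v17 C) [5, 31, 61, 71, 108, 110, 114] :=
  C.conv (f6087 C) (f4137 C) (f16180 C) _ [127, 160, 171, 177] _ (by decide +kernel) (by decide +kernel) (by decide +kernel)

theorem f16182 : C.S (v3 C) [22, 48, 51, 106, 122] :=
  C.stMul (f331 C) (f15732 C) _ (by decide +kernel)

theorem f16183 : C.S (v3 C) [18, 31, 49, 83, 100, 110, 111] :=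
  C.stMul (f353 C) (f16182 C) _ (by decide +kernel)

theorem f16184 : C.T (v3 C) [13, 37, 69, 84, 103, 116] (v19 C) [22, 36, 59, 89, 105, 110, 112] :=
  C.conv (f15592 C) (f15600 C) (f16183 C) _ [141, 163, 166, 176] _ (by decide +kernel) (by decide +kernel) (by decide +kernel)

theorem f16185 : C.T (v19 C) [22, 36, 59, 89, 105, 110, 112] (v3 C) [13, 37, 69, 84, 103, 116] :=
  C.flip (f16184 C)

theorem f16186 : C.T (v17 C) [12, 56, 82, 104, 109, 118] (v19 C) [9, 29, 57, 70, 115] :=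
  C.closeT (p := (v3 C)) (pu := [11, 31, 69, 86, 96, 124])
    (C.pT (f16179 C)
    (C.pH [26, 38, 54, 89, 90, 113] [7, 30, 59, 104, 123] (by decide +kernel)
    (C.pT (f16181 C)
    (C.pH [8, 30, 65, 84, 94, 117] [12, 56, 82, 104, 109, 118] (by decide +kernel) (C.pNil _ _)))))
    (C.pH [26, 38, 54, 89, 90, 113] [22, 36, 59, 89, 105, 110, 112] (by decide +kernel)
    (C.pT (f16185 C)
    (C.pH [8, 30, 65, 84, 94, 117] [11, 31, 69, 86, 96, 124] (by decide +kernel) (C.pNil _ _))))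
    (C.loop_of_one (relLoop2 C) _ _)

theorem f16187 : C.T (v19 C) [9, 29, 57, 70, 115] (v17 C) [12, 56, 82, 104, 109, 118] :=
  C.flip (f16186 C)

theorem f16188 : C.T (v3 C) [19, 36, 69, 71, 105, 109, 114] (v17 C) [5, 30, 60, 89, 95, 109, 111] :=
  C.conv (f6822 C) (f7297 C) (f7297 C) _ [141, 150, 167, 177] _ (by decide +kernel) (by decide +kernel) (by decide +kernel)

theorem f16189 : C.T (v17 C) [8, 38, 50, 71, 94, 112] (v18 C) [12, 44, 63, 79, 93, 110, 120] :=
  C.conv (f7018 C) (f4137 C) (f7826 C) _ [134, 160, 173, 177] _ (by decide +kernel) (by decide +kernel) (by decide +kernel)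

theorem f16190 : C.S (v3 C) [24, 63, 83, 91, 110, 113] :=
  C.stMul (f353 C) (f15756 C) _ (by decide +kernel)

theorem f16191 : C.S (v3 C) [7, 48, 57, 84, 104, 109, 123] :=
  C.stMul (f335 C) (f16190 C) _ (by decide +kernel)

theorem f16192 : C.T (v3 C) [15, 32, 66, 72, 101, 119] (v19 C) [10, 31, 67, 81, 103, 109, 118] :=
  C.conv (f15701 C) (f15714 C) (f16191 C) _ [140, 168, 175] _ (by decide +kernel) (by decide +kernel) (by decide +kernel)

theorem f16193 : C.T (v19 C) [10, 31, 67, 81, 103, 109, 118] (v3 C) [15, 32, 66, 72, 101, 119] :=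
  C.flip (f16192 C)

theorem f16194 : C.T (v18 C) [21, 32, 65, 85, 97, 125] (v19 C) [18, 48, 65, 70, 95, 109, 124] :=
  C.closeT (p := (v3 C)) (pu := [19, 36, 69, 71, 105, 109, 114])
    (C.pT (f16188 C)
    (C.pH [26, 38, 54, 89, 90, 113] [8, 38, 50, 71, 94, 112] (by decide +kernel)
    (C.pT (f16189 C)
    (C.pH [8, 30, 65, 84, 94, 117] [21, 32, 65, 85, 97, 125] (by decide +kernel) (C.pNil _ _)))))
    (C.pH [26, 38, 54, 89, 90, 113] [10, 31, 67, 81, 103, 109, 118] (by decide +kernel)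
    (C.pT (f16193 C)
    (C.pH [8, 30, 65, 84, 94, 117] [19, 36, 69, 71, 105, 109, 114] (by decide +kernel) (C.pNil _ _))))
    (C.loop_of_one (relLoop2 C) _ _)

theorem f16195 : C.T (v19 C) [18, 48, 65, 70, 95, 109, 124] (v18 C) [21, 32, 65, 85, 97, 125] :=
  C.flip (f16194 C)

theorem f16196 : C.T (v3 C) [22, 48, 68, 75, 94, 112] (v17 C) [20, 48, 54, 70, 102, 110, 112] :=
  C.conv (f6822 C) (f7297 C) (f7297 C) _ [144, 161, 164, 172, 177] _ (by decide +kernel) (by decide +kernel) (by decide +kernel)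

theorem f16197 : C.S (v3 C) [6, 43, 52, 78, 106, 118] :=
  C.stMul (f328 C) (f10459 C) _ (by decide +kernel)

theorem f16198 : C.S (v3 C) [26, 32, 53, 86, 108, 110, 118] :=
  C.stMul (f331 C) (f16197 C) _ (by decide +kernel)

theorem f16199 : C.S (v3 C) [4, 31, 55, 75, 100, 109, 112] :=
  C.stMul (f353 C) (f16198 C) _ (by decide +kernel)

theorem f16200 : C.T (v3 C) [17, 30, 74, 91, 109, 125] (v17 C) [22, 43, 80, 99, 110, 123] :=
  C.conv (f6808 C) (f9290 C) (f16199 C) _ [136, 161, 169, 175] _ (by decide +kernel) (by decide +kernel) (by decide +kernel)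

theorem f16201 : C.T (v17 C) [22, 43, 80, 99, 110, 123] (v3 C) [17, 30, 74, 91, 109, 125] :=
  C.flip (f16200 C)

theorem f16202 : C.S (v17 C) [23, 31, 49, 84, 96, 117] :=
  C.stMul (f4137 C) (f4137 C) _ (by decide +kernel)

theorem f16203 : C.T (v17 C) [9, 47, 52, 83, 95, 109, 122] (v19 C) [18, 30, 63, 71, 103, 109, 118] :=
  C.conv (f15917 C) (f4137 C) (f16202 C) _ [134, 153, 169, 173, 178] _ (by decide +kernel) (by decide +kernel) (by decide +kernel)

theorem f16204 : C.T (v19 C) [18, 30, 63, 71, 103, 109, 118] (v17 C) [9, 47, 52, 83, 95, 109, 122] :=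
  C.flip (f16203 C)

theorem f16205 : C.T (v17 C) [15, 52, 78, 106, 110, 118] (v19 C) [9, 36, 62, 83, 95, 110, 115] :=
  C.closeT (p := (v3 C)) (pu := [22, 48, 68, 75, 94, 112])
    (C.pT (f16196 C)
    (C.pH [26, 38, 54, 89, 90, 113] [15, 52, 78, 106, 110, 118] (by decide +kernel) (C.pNil _ _)))
    (C.pH [8, 30, 65, 84, 94, 117] [18, 30, 63, 71, 103, 109, 118] (by decide +kernel)
    (C.pT (f16204 C)
    (C.pH [26, 38, 54, 89, 90, 113] [22, 43, 80, 99, 110, 123] (by decide +kernel)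
    (C.pT (f16201 C)
    (C.pH [8, 30, 65, 84, 94, 117] [22, 48, 68, 75, 94, 112] (by decide +kernel) (C.pNil _ _))))))
    (C.loop_of_one (relLoop2 C) _ _)

theorem f16206 : C.T (v19 C) [9, 36, 62, 83, 95, 110, 115] (v17 C) [15, 52, 78, 106, 110, 118] :=
  C.flip (f16205 C)

theorem f16207 : C.T (v3 C) [7, 38, 63, 71, 96] (v17 C) [4, 45, 74, 106, 119] :=
  C.conv (f6828 C) (f9427 C) (f9427 C) _ [132, 163, 168, 177] _ (by decide +kernel) (by decide +kernel) (by decide +kernel)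

theorem f16208 : C.T (v17 C) [25, 35, 61, 75, 92, 109, 122] (v19 C) [25, 28, 50, 74, 105, 115] :=
  C.conv (f16127 C) (f4137 C) (f4137 C) _ [133, 156, 168, 178] _ (by decide +kernel) (by decide +kernel) (by decide +kernel)

theorem f16209 : C.T (v3 C) [11, 34, 54, 87, 106, 109, 119] (v18 C) [13, 34, 54, 81, 98, 110, 114] :=
  C.conv (f6911 C) (f8231 C) (f11996 C) _ [144, 158, 165, 176] _ (by decide +kernel) (by decide +kernel) (by decide +kernel)

theorem f16210 : C.T (v18 C) [13, 34, 54, 81, 98, 110, 114] (v3 C) [11, 34, 54, 87, 106, 109, 119] :=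
  C.flip (f16209 C)

theorem f16211 : C.T (v19 C) [9, 63, 78, 98, 118] (v18 C) [16, 38, 57, 75, 93, 110] :=
  C.closeT (p := (v3 C)) (pu := [7, 38, 63, 71, 96])
    (C.pT (f16207 C)
    (C.pH [26, 38, 54, 89, 90, 113] [25, 35, 61, 75, 92, 109, 122] (by decide +kernel)
    (C.pT (f16208 C)
    (C.pH [8, 30, 65, 84, 94, 117] [9, 63, 78, 98, 118] (by decide +kernel) (C.pNil _ _)))))
    (C.pH [26, 38, 54, 89, 90, 113] [13, 34, 54, 81, 98, 110, 114] (by decide +kernel)
    (C.pT (f16210 C)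
    (C.pH [8, 30, 65, 84, 94, 117] [7, 38, 63, 71, 96] (by decide +kernel) (C.pNil _ _))))
    (C.loop_of_one (relLoop2 C) _ _)

theorem f16212 : C.T (v18 C) [16, 38, 57, 75, 93, 110] (v19 C) [9, 63, 78, 98, 118] :=
  C.flip (f16211 C)

theorem f16213 : C.T (v3 C) [24, 48, 53, 81, 108, 110, 121] (v17 C) [12, 41, 57, 70, 107, 109, 125] :=
  C.conv (f6828 C) (f9427 C) (f9427 C) _ [140, 150, 167, 174] _ (by decide +kernel) (by decide +kernel) (by decide +kernel)

theorem f16214 : C.S (v3 C) [10, 48, 60, 84, 100, 110, 123] :=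
  C.stMul (f353 C) (f8168 C) _ (by decide +kernel)

theorem f16215 : C.S (v3 C) [11, 33, 69, 85, 97, 109, 117] :=
  C.stMul (f335 C) (f16214 C) _ (by decide +kernel)

theorem f16216 : C.T (v3 C) [21, 39, 52, 78, 109, 116] (v17 C) [17, 38, 55, 88, 91, 119] :=
  C.conv (f6814 C) (f7361 C) (f16215 C) _ [136, 161, 167, 175] _ (by decide +kernel) (by decide +kernel) (by decide +kernel)

theorem f16217 : C.T (v17 C) [17, 38, 55, 88, 91, 119] (v3 C) [21, 39, 52, 78, 109, 116] :=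
  C.flip (f16216 C)

theorem f16218 : C.S (v17 C) [23, 31, 75, 92, 109, 116] :=
  C.stMul (f4137 C) (f4132 C) _ (by decide +kernel)

theorem f16219 : C.T (v17 C) [19, 48, 50, 79, 92, 110] (v19 C) [18, 47, 63, 75, 100, 110, 124] :=
  C.conv (f15917 C) (f4137 C) (f16218 C) _ [129, 159, 166, 176] _ (by decide +kernel) (by decide +kernel) (by decide +kernel)

theorem f16220 : C.T (v19 C) [18, 47, 63, 75, 100, 110, 124] (v17 C) [19, 48, 50, 79, 92, 110] :=
  C.flip (f16219 C)

theorem f16221 : C.T (v17 C) [14, 46, 62, 76, 106, 110, 118] (v19 C) [9, 30, 67, 77, 105, 109, 111] :=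
  C.closeT (p := (v3 C)) (pu := [24, 48, 53, 81, 108, 110, 121])
    (C.pT (f16213 C)
    (C.pH [26, 38, 54, 89, 90, 113] [14, 46, 62, 76, 106, 110, 118] (by decide +kernel) (C.pNil _ _)))
    (C.pH [8, 30, 65, 84, 94, 117] [18, 47, 63, 75, 100, 110, 124] (by decide +kernel)
    (C.pT (f16220 C)
    (C.pH [26, 38, 54, 89, 90, 113] [17, 38, 55, 88, 91, 119] (by decide +kernel)
    (C.pT (f16217 C)
    (C.pH [8, 30, 65, 84, 94, 117] [24, 48, 53, 81, 108, 110, 121] (by decide +kernel) (C.pNil _ _))))))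
    (C.loop_of_one (relLoop2 C) _ _)

theorem f16222 : C.T (v19 C) [9, 30, 67, 77, 105, 109, 111] (v17 C) [14, 46, 62, 76, 106, 110, 118] :=
  C.flip (f16221 C)

theorem f16223 : C.T (v3 C) [25, 27, 56, 71, 96, 110, 124] (v18 C) [15, 44, 61, 75, 90, 110, 123] :=
  C.conv (f6888 C) (f7333 C) (f7333 C) _ [148, 157, 164, 174, 178] _ (by decide +kernel) (by decide +kernel) (by decide +kernel)

theorem f16224 : C.T (v18 C) [9, 48, 55, 83, 103, 115] (v19 C) [12, 48, 64, 70, 98, 120] :=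
  C.conv (f16101 C) (f7121 C) (f7121 C) _ [158, 170, 178] _ (by decide +kernel) (by decide +kernel) (by decide +kernel)

theorem f16225 : C.S (v3 C) [21, 46, 68, 75, 95] :=
  C.stMul (f335 C) (f12868 C) _ (by decide +kernel)

theorem f16226 : C.S (v3 C) [14, 46, 79, 106, 123] :=
  C.stMul (f353 C) (f16225 C) _ (by decide +kernel)

theorem f16227 : C.T (v3 C) [4, 28, 57, 74, 103, 110, 124] (v17 C) [23, 47, 66, 77, 99, 110, 125] :=
  C.conv (f6808 C) (f9290 C) (f16226 C) _ [128, 158, 175, 178] _ (by decide +kernel) (by decide +kernel) (by decide +kernel)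

theorem f16228 : C.T (v17 C) [23, 47, 66, 77, 99, 110, 125] (v3 C) [4, 28, 57, 74, 103, 110, 124] :=
  C.flip (f16227 C)

theorem f16229 : C.T (v19 C) [21, 45, 64, 81, 103] (v17 C) [13, 37, 60, 96, 111] :=
  C.closeT (p := (v3 C)) (pu := [25, 27, 56, 71, 96, 110, 124])
    (C.pT (f16223 C)
    (C.pH [26, 38, 54, 89, 90, 113] [9, 48, 55, 83, 103, 115] (by decide +kernel)
    (C.pT (f16224 C)
    (C.pH [8, 30, 65, 84, 94, 117] [21, 45, 64, 81, 103] (by decide +kernel) (C.pNil _ _)))))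
    (C.pH [26, 38, 54, 89, 90, 113] [23, 47, 66, 77, 99, 110, 125] (by decide +kernel)
    (C.pT (f16228 C)
    (C.pH [8, 30, 65, 84, 94, 117] [25, 27, 56, 71, 96, 110, 124] (by decide +kernel) (C.pNil _ _))))
    (C.loop_of_one (relLoop2 C) _ _)

theorem f16230 : C.T (v17 C) [13, 37, 60, 96, 111] (v19 C) [21, 45, 64, 81, 103] :=
  C.flip (f16229 C)

theorem f16231 : C.T (v3 C) [10, 31, 67, 76, 93, 109, 116] (v18 C) [22, 27, 57, 72, 94, 109, 113] :=
  C.conv (f6902 C) (f7285 C) (f7285 C) _ [136, 153, 167, 172, 178] _ (by decide +kernel) (by decide +kernel) (by decide +kernel)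

theorem f16232 : C.S (v3 C) [15, 38, 55, 77, 98, 114] :=
  C.stMul (f331 C) (f9200 C) _ (by decide +kernel)

theorem f16233 : C.S (v3 C) [15, 41, 51, 77, 100, 110, 113] :=
  C.stMul (f328 C) (f16232 C) _ (by decide +kernel)

theorem f16234 : C.T (v3 C) [23, 35, 53, 81, 107, 109] (v18 C) [5, 31, 58, 87, 108, 109, 125] :=
  C.conv (f6916 C) (f7402 C) (f16233 C) _ [129, 161, 177] _ (by decide +kernel) (by decide +kernel) (by decide +kernel)

theorem f16235 : C.T (v18 C) [5, 31, 58, 87, 108, 109, 125] (v3 C) [23, 35, 53, 81, 107, 109] :=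
  C.flip (f16234 C)

theorem f16236 : C.T (v18 C) [14, 64, 75, 91, 123] (v19 C) [13, 41, 60, 85, 94, 109, 123] :=
  C.conv (f15737 C) (f15910 C) (f15910 C) _ [140, 152, 164, 174, 178] _ (by decide +kernel) (by decide +kernel) (by decide +kernel)

theorem f16237 : C.T (v19 C) [13, 41, 60, 85, 94, 109, 123] (v18 C) [14, 64, 75, 91, 123] :=
  C.flip (f16236 C)

theorem f16238 : C.T (v18 C) [19, 48, 68, 89, 90, 110, 116] (v19 C) [6, 38, 57, 74, 98, 124] :=
  C.closeT (p := (v3 C)) (pu := [10, 31, 67, 76, 93, 109, 116])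
    (C.pT (f16231 C)
    (C.pH [26, 38, 54, 89, 90, 113] [19, 48, 68, 89, 90, 110, 116] (by decide +kernel) (C.pNil _ _)))
    (C.pH [8, 30, 65, 84, 94, 117] [13, 41, 60, 85, 94, 109, 123] (by decide +kernel)
    (C.pT (f16237 C)
    (C.pH [26, 38, 54, 89, 90, 113] [5, 31, 58, 87, 108, 109, 125] (by decide +kernel)
    (C.pT (f16235 C)
    (C.pH [8, 30, 65, 84, 94, 117] [10, 31, 67, 76, 93, 109, 116] (by decide +kernel) (C.pNil _ _))))))
    (C.loop_of_one (relLoop2 C) _ _)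

theorem f16239 : C.T (v19 C) [6, 38, 57, 74, 98, 124] (v18 C) [19, 48, 68, 89, 90, 110, 116] :=
  C.flip (f16238 C)

theorem f16240 : C.T (v3 C) [25, 48, 88, 95, 110, 116] (v18 C) [17, 47, 66, 84, 95, 109, 111] :=
  C.conv (f6902 C) (f7285 C) (f7285 C) _ [134, 158, 168, 174, 178] _ (by decide +kernel) (by decide +kernel) (by decide +kernel)

theorem f16241 : C.T (v18 C) [20, 48, 49, 89, 96, 109, 125] (v17 C) [11, 44, 49, 82, 98, 109, 115] :=
  C.conv (f10244 C) (f7121 C) (f7121 C) _ [132, 163, 168, 172, 178] _ (by decide +kernel) (by decide +kernel) (by decide +kernel)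

theorem f16242 : C.S (v3 C) [30, 69, 79, 91] :=
  C.stMul (f335 C) (f15714 C) _ (by decide +kernel)

theorem f16243 : C.T (v3 C) [4, 59, 89, 91, 117] (v19 C) [5, 48, 67, 87, 99, 121] :=
  C.conv (f15701 C) (f15714 C) (f16242 C) _ [164, 171, 177] _ (by decide +kernel) (by decide +kernel) (by decide +kernel)

theorem f16244 : C.T (v19 C) [5, 48, 67, 87, 99, 121] (v3 C) [4, 59, 89, 91, 117] :=
  C.flip (f16243 C)

theorem f16245 : C.T (v17 C) [7, 29, 50, 82, 102, 109, 115] (v19 C) [14, 33, 61, 70, 94, 110, 111] :=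
  C.closeT (p := (v3 C)) (pu := [25, 48, 88, 95, 110, 116])
    (C.pT (f16240 C)
    (C.pH [26, 38, 54, 89, 90, 113] [20, 48, 49, 89, 96, 109, 125] (by decide +kernel)
    (C.pT (f16241 C)
    (C.pH [8, 30, 65, 84, 94, 117] [7, 29, 50, 82, 102, 109, 115] (by decide +kernel) (C.pNil _ _)))))
    (C.pH [26, 38, 54, 89, 90, 113] [5, 48, 67, 87, 99, 121] (by decide +kernel)
    (C.pT (f16244 C)
    (C.pH [8, 30, 65, 84, 94, 117] [25, 48, 88, 95, 110, 116] (by decide +kernel) (C.pNil _ _))))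
    (C.loop_of_one (relLoop2 C) _ _)

theorem f16246 : C.T (v19 C) [14, 33, 61, 70, 94, 110, 111] (v17 C) [7, 29, 50, 82, 102, 109, 115] :=
  C.flip (f16245 C)

theorem f16247 : C.T (v3 C) [12, 39, 56, 79, 96, 115] (v18 C) [26, 27, 54, 75, 95, 119] :=
  C.conv (f6902 C) (f7285 C) (f7285 C) _ [147, 161, 165, 172, 177] _ (by decide +kernel) (by decide +kernel) (by decide +kernel)

theorem f16248 : C.T (v18 C) [16, 41, 62, 86, 99, 109, 115] (v19 C) [24, 31, 50, 88, 106, 109, 121] :=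
  C.conv (f15710 C) (f7121 C) (f6836 C) _ [143, 169, 177] _ (by decide +kernel) (by decide +kernel) (by decide +kernel)

theorem f16249 : C.T (v3 C) [5, 48, 64, 83, 102, 109, 122] (v5 C) [18, 28, 85, 104, 117] :=
  C.conv (f1048 C) (f1093 C) (f13411 C) _ [148, 151, 171, 178] _ (by decide +kernel) (by decide +kernel) (by decide +kernel)

theorem f16250 : C.T (v5 C) [18, 28, 85, 104, 117] (v3 C) [5, 48, 64, 83, 102, 109, 122] :=
  C.flip (f16249 C)

theorem f16251 : C.T (v19 C) [16, 38, 55, 72, 103, 112] (v5 C) [25, 29, 51, 76, 100, 110] :=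
  C.closeT (p := (v3 C)) (pu := [12, 39, 56, 79, 96, 115])
    (C.pT (f16247 C)
    (C.pH [26, 38, 54, 89, 90, 113] [16, 41, 62, 86, 99, 109, 115] (by decide +kernel)
    (C.pT (f16248 C)
    (C.pH [8, 30, 65, 84, 94, 117] [16, 38, 55, 72, 103, 112] (by decide +kernel) (C.pNil _ _)))))
    (C.pH [26, 38, 54, 89, 90, 113] [18, 28, 85, 104, 117] (by decide +kernel)
    (C.pT (f16250 C)
    (C.pH [8, 30, 65, 84, 94, 117] [12, 39, 56, 79, 96, 115] (by decide +kernel) (C.pNil _ _))))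
    (C.loop_of_one (relLoop2 C) _ _)

theorem f16252 : C.T (v5 C) [25, 29, 51, 76, 100, 110] (v19 C) [16, 38, 55, 72, 103, 112] :=
  C.flip (f16251 C)

theorem f16253 : C.T (v3 C) [20, 44, 62, 81, 93, 109, 121] (v18 C) [23, 46, 64, 79, 94, 109, 125] :=
  C.conv (f6911 C) (f8231 C) (f8231 C) _ [139, 162, 166, 172, 178] _ (by decide +kernel) (by decide +kernel) (by decide +kernel)

theorem f16254 : C.S (v18 C) [26, 43, 49, 77, 91, 110, 115] :=
  C.stMul (f6836 C) (f6836 C) _ (by decide +kernel)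

theorem f16255 : C.T (v18 C) [7, 32, 58, 87, 93, 109, 125] (v19 C) [11, 46, 59, 106, 109, 111] :=
  C.conv (f15643 C) (f16254 C) (f16254 C) _ [135, 150, 170, 171, 178] _ (by decide +kernel) (by decide +kernel) (by decide +kernel)

theorem f16256 : C.T (v3 C) [16, 47, 55, 73, 94, 120] (v18 C) [25, 28, 60, 79, 92, 110] :=
  C.conv (f6888 C) (f7333 C) (f9781 C) _ [131, 155, 174, 177] _ (by decide +kernel) (by decide +kernel) (by decide +kernel)

theorem f16257 : C.T (v18 C) [25, 28, 60, 79, 92, 110] (v3 C) [16, 47, 55, 73, 94, 120] :=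
  C.flip (f16256 C)

theorem f16258 : C.T (v19 C) [7, 39, 55, 76, 101, 114] (v18 C) [4, 65, 73, 97, 109] :=
  C.closeT (p := (v3 C)) (pu := [20, 44, 62, 81, 93, 109, 121])
    (C.pT (f16253 C)
    (C.pH [26, 38, 54, 89, 90, 113] [7, 32, 58, 87, 93, 109, 125] (by decide +kernel)
    (C.pT (f16255 C)
    (C.pH [8, 30, 65, 84, 94, 117] [7, 39, 55, 76, 101, 114] (by decide +kernel) (C.pNil _ _)))))
    (C.pH [26, 38, 54, 89, 90, 113] [25, 28, 60, 79, 92, 110] (by decide +kernel)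
    (C.pT (f16257 C)
    (C.pH [8, 30, 65, 84, 94, 117] [20, 44, 62, 81, 93, 109, 121] (by decide +kernel) (C.pNil _ _))))
    (C.loop_of_one (relLoop2 C) _ _)

theorem f16259 : C.T (v18 C) [4, 65, 73, 97, 109] (v19 C) [7, 39, 55, 76, 101, 114] :=
  C.flip (f16258 C)

theorem f16260 : C.T (v3 C) [20, 31, 58, 85, 109, 124] (v18 C) [4, 68, 76, 96, 110, 112] :=
  C.conv (f6916 C) (f7402 C) (f7402 C) _ [129, 159, 164, 177] _ (by decide +kernel) (by decide +kernel) (by decide +kernel)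

theorem f16261 : C.T (v18 C) [25, 28, 61, 77, 96, 110, 125] (v17 C) [4, 36, 56, 83, 100, 121] :=
  C.conv (f12555 C) (f6836 C) (f6836 C) _ [147, 160, 167, 178] _ (by decide +kernel) (by decide +kernel) (by decide +kernel)

theorem f16262 : C.S (v3 C) [7, 29, 51, 83, 103, 109, 117] :=
  C.stMul (f335 C) (f335 C) _ (by decide +kernel)

theorem f16263 : C.S (v3 C) [10, 48, 60, 84, 100, 110, 123] :=
  C.stMul (f353 C) (f16262 C) _ (by decide +kernel)

theorem f16264 : C.S (v3 C) [5, 60, 81, 94, 109, 125] :=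
  C.stMul (f331 C) (f16263 C) _ (by decide +kernel)

theorem f16265 : C.T (v3 C) [16, 28, 59, 81, 112] (v19 C) [22, 45, 54, 82, 98, 123] :=
  C.conv (f15592 C) (f15600 C) (f16264 C) _ [126, 149, 168, 175, 177] _ (by decide +kernel) (by decide +kernel) (by decide +kernel)

theorem f16266 : C.T (v19 C) [22, 45, 54, 82, 98, 123] (v3 C) [16, 28, 59, 81, 112] :=
  C.flip (f16265 C)

theorem f16267 : C.T (v17 C) [25, 38, 52, 88, 97, 121] (v19 C) [9, 33, 70, 90, 124] :=
  C.closeT (p := (v3 C)) (pu := [20, 31, 58, 85, 109, 124])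
    (C.pT (f16260 C)
    (C.pH [26, 38, 54, 89, 90, 113] [25, 28, 61, 77, 96, 110, 125] (by decide +kernel)
    (C.pT (f16261 C)
    (C.pH [8, 30, 65, 84, 94, 117] [25, 38, 52, 88, 97, 121] (by decide +kernel) (C.pNil _ _)))))
    (C.pH [26, 38, 54, 89, 90, 113] [22, 45, 54, 82, 98, 123] (by decide +kernel)
    (C.pT (f16266 C)
    (C.pH [8, 30, 65, 84, 94, 117] [20, 31, 58, 85, 109, 124] (by decide +kernel) (C.pNil _ _))))
    (C.loop_of_one (relLoop2 C) _ _)

theorem f16268 : C.T (v19 C) [9, 33, 70, 90, 124] (v17 C) [25, 38, 52, 88, 97, 121] :=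
  C.flip (f16267 C)

theorem f16269 : C.T (v3 C) [7, 46, 56, 81, 105, 109, 115] (v18 C) [16, 47, 52, 86, 96, 109, 121] :=
  C.conv (f6916 C) (f7402 C) (f7402 C) _ [144, 155, 168, 174, 177] _ (by decide +kernel) (by decide +kernel) (by decide +kernel)

theorem f16270 : C.T (v18 C) [13, 27, 62, 80, 108, 109, 120] (v18 C) [14, 42, 67, 83, 100, 110, 121] :=
  C.conv (f9673 C) (f6836 C) (f7121 C) _ [140, 150, 168, 171] _ (by decide +kernel) (by decide +kernel) (by decide +kernel)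

theorem f16271 : C.T (v3 C) [11, 30, 69, 89, 91, 109, 123] (v19 C) [6, 28, 62, 75, 102, 111] :=
  C.conv (f15701 C) (f15714 C) (f15815 C) _ [142, 162, 173, 178] _ (by decide +kernel) (by decide +kernel) (by decide +kernel)

theorem f16272 : C.T (v19 C) [6, 28, 62, 75, 102, 111] (v3 C) [11, 30, 69, 89, 91, 109, 123] :=
  C.flip (f16271 C)

theorem f16273 : C.T (v18 C) [5, 40, 50, 93, 110] (v19 C) [21, 27, 53, 77, 102, 109, 124] :=
  C.closeT (p := (v3 C)) (pu := [7, 46, 56, 81, 105, 109, 115])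
    (C.pT (f16269 C)
    (C.pH [26, 38, 54, 89, 90, 113] [13, 27, 62, 80, 108, 109, 120] (by decide +kernel)
    (C.pT (f16270 C)
    (C.pH [8, 30, 65, 84, 94, 117] [5, 40, 50, 93, 110] (by decide +kernel) (C.pNil _ _)))))
    (C.pH [26, 38, 54, 89, 90, 113] [6, 28, 62, 75, 102, 111] (by decide +kernel)
    (C.pT (f16272 C)
    (C.pH [8, 30, 65, 84, 94, 117] [7, 46, 56, 81, 105, 109, 115] (by decide +kernel) (C.pNil _ _))))
    (C.loop_of_one (relLoop2 C) _ _)

theorem f16274 : C.T (v19 C) [21, 27, 53, 77, 102, 109, 124] (v18 C) [5, 40, 50, 93, 110] :=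
  C.flip (f16273 C)

theorem f16275 : C.T (v3 C) [4, 43, 66, 87, 108, 110, 118] (v18 C) [12, 40, 50, 85, 107, 109, 115] :=
  C.conv (f7327 C) (f7806 C) (f7806 C) _ [128, 154, 170, 174, 177] _ (by decide +kernel) (by decide +kernel) (by decide +kernel)

theorem f16276 : C.T (v18 C) [14, 32, 49, 86, 100, 117] (v17 C) [14, 29, 68, 80, 102, 120] :=
  C.conv (f9296 C) (f6836 C) (f7121 C) _ [130, 161, 165, 173] _ (by decide +kernel) (by decide +kernel) (by decide +kernel)

theorem f16277 : C.T (v3 C) [18, 28, 63, 83, 110, 117] (v19 C) [20, 39, 50, 79, 108, 109, 114] :=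
  C.conv (f15592 C) (f15600 C) (f16097 C) _ [139, 162, 164, 174, 177] _ (by decide +kernel) (by decide +kernel) (by decide +kernel)

theorem f16278 : C.T (v19 C) [20, 39, 50, 79, 108, 109, 114] (v3 C) [18, 28, 63, 83, 110, 117] :=
  C.flip (f16277 C)

theorem f16279 : C.T (v17 C) [5, 38, 60, 70, 101, 110, 124] (v19 C) [17, 69, 72, 90, 109, 118] :=
  C.closeT (p := (v3 C)) (pu := [4, 43, 66, 87, 108, 110, 118])
    (C.pT (f16275 C)
    (C.pH [26, 38, 54, 89, 90, 113] [14, 32, 49, 86, 100, 117] (by decide +kernel)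
    (C.pT (f16276 C)
    (C.pH [8, 30, 65, 84, 94, 117] [5, 38, 60, 70, 101, 110, 124] (by decide +kernel) (C.pNil _ _)))))
    (C.pH [26, 38, 54, 89, 90, 113] [20, 39, 50, 79, 108, 109, 114] (by decide +kernel)
    (C.pT (f16278 C)
    (C.pH [8, 30, 65, 84, 94, 117] [4, 43, 66, 87, 108, 110, 118] (by decide +kernel) (C.pNil _ _))))
    (C.loop_of_one (relLoop2 C) _ _)

theorem f16280 : C.T (v19 C) [17, 69, 72, 90, 109, 118] (v17 C) [5, 38, 60, 70, 101, 110, 124] :=
  C.flip (f16279 C)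

theorem f16281 : C.T (v3 C) [7, 44, 51, 79, 97, 122] (v18 C) [19, 36, 60, 83, 99, 117] :=
  C.conv (f7327 C) (f7806 C) (f7806 C) _ [142, 151, 167, 174, 177] _ (by decide +kernel) (by decide +kernel) (by decide +kernel)

theorem f16282 : C.S (v3 C) [17, 42, 51, 85, 96, 109, 120] :=
  C.stMul (f331 C) (f9572 C) _ (by decide +kernel)

theorem f16283 : C.T (v3 C) [11, 45, 58, 72, 109, 121] (v18 C) [16, 43, 52, 89, 101, 115] :=
  C.conv (f8216 C) (f8435 C) (f16282 C) _ [148, 155, 169, 172] _ (by decide +kernel) (by decide +kernel) (by decide +kernel)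

theorem f16284 : C.T (v18 C) [16, 43, 52, 89, 101, 115] (v3 C) [11, 45, 58, 72, 109, 121] :=
  C.flip (f16283 C)

theorem f16285 : C.S (v18 C) [26, 43, 49, 77, 91, 110, 115] :=
  C.stMul (f6836 C) (f6836 C) _ (by decide +kernel)

theorem f16286 : C.T (v18 C) [26, 43, 69, 81, 100, 113] (v19 C) [5, 35, 65, 79, 106, 109, 119] :=
  C.conv (f15761 C) (f6836 C) (f16285 C) _ [132, 151, 167, 175, 177] _ (by decide +kernel) (by decide +kernel) (by decide +kernel)

theorem f16287 : C.T (v19 C) [5, 35, 65, 79, 106, 109, 119] (v18 C) [26, 43, 69, 81, 100, 113] :=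
  C.flip (f16286 C)

theorem f16288 : C.T (v18 C) [17, 41, 65, 84, 98, 122] (v19 C) [14, 27, 51, 73, 93, 110, 112] :=
  C.closeT (p := (v3 C)) (pu := [7, 44, 51, 79, 97, 122])
    (C.pT (f16281 C)
    (C.pH [26, 38, 54, 89, 90, 113] [17, 41, 65, 84, 98, 122] (by decide +kernel) (C.pNil _ _)))
    (C.pH [8, 30, 65, 84, 94, 117] [5, 35, 65, 79, 106, 109, 119] (by decide +kernel)
    (C.pT (f16287 C)
    (C.pH [26, 38, 54, 89, 90, 113] [16, 43, 52, 89, 101, 115] (by decide +kernel)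
    (C.pT (f16284 C)
    (C.pH [8, 30, 65, 84, 94, 117] [7, 44, 51, 79, 97, 122] (by decide +kernel) (C.pNil _ _))))))
    (C.loop_of_one (relLoop2 C) _ _)

theorem f16289 : C.T (v19 C) [14, 27, 51, 73, 93, 110, 112] (v18 C) [17, 41, 65, 84, 98, 122] :=
  C.flip (f16288 C)

theorem f16290 : C.T (v3 C) [26, 30, 65, 78, 94, 109, 125] (v18 C) [23, 40, 59, 72, 90, 110, 124] :=
  C.conv (f7327 C) (f7806 C) (f7806 C) _ [137, 160, 165] _ (by decide +kernel) (by decide +kernel) (by decide +kernel)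

theorem f16291 : C.T (v18 C) [7, 51, 88, 103, 120] (v19 C) [9, 29, 70, 99, 110, 124] :=
  C.conv (f15625 C) (f15698 C) (f6836 C) _ [126, 158, 167, 175, 178] _ (by decide +kernel) (by decide +kernel) (by decide +kernel)

theorem f16292 : C.S (v3 C) [20, 30, 59, 75, 96, 110, 111] :=
  C.stMul (f353 C) (f12025 C) _ (by decide +kernel)

theorem f16293 : C.S (v3 C) [18, 42, 59, 74, 99, 110, 112] :=
  C.stMul (f331 C) (f16292 C) _ (by decide +kernel)

theorem f16294 : C.T (v3 C) [19, 47, 55, 74, 95, 109, 122] (v17 C) [16, 42, 66, 72, 92, 109, 117] :=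
  C.conv (f6822 C) (f7297 C) (f16293 C) _ [139, 161, 166, 172, 178] _ (by decide +kernel) (by decide +kernel) (by decide +kernel)

theorem f16295 : C.T (v17 C) [16, 42, 66, 72, 92, 109, 117] (v3 C) [19, 47, 55, 74, 95, 109, 122] :=
  C.flip (f16294 C)

theorem f16296 : C.T (v19 C) [18, 29, 55, 88, 97, 123] (v17 C) [26, 46, 51, 85, 100, 110, 111] :=
  C.closeT (p := (v3 C)) (pu := [26, 30, 65, 78, 94, 109, 125])
    (C.pT (f16290 C)
    (C.pH [26, 38, 54, 89, 90, 113] [7, 51, 88, 103, 120] (by decide +kernel)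
    (C.pT (f16291 C)
    (C.pH [8, 30, 65, 84, 94, 117] [18, 29, 55, 88, 97, 123] (by decide +kernel) (C.pNil _ _)))))
    (C.pH [26, 38, 54, 89, 90, 113] [16, 42, 66, 72, 92, 109, 117] (by decide +kernel)
    (C.pT (f16295 C)
    (C.pH [8, 30, 65, 84, 94, 117] [26, 30, 65, 78, 94, 109, 125] (by decide +kernel) (C.pNil _ _))))
    (C.loop_of_one (relLoop2 C) _ _)

theorem f16297 : C.T (v17 C) [26, 46, 51, 85, 100, 110, 111] (v19 C) [18, 29, 55, 88, 97, 123] :=
  C.flip (f16296 C)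

theorem f16298 : C.T (v3 C) [8, 28, 62, 83, 107, 110, 116] (v18 C) [9, 42, 58, 104, 109, 119] :=
  C.conv (f7327 C) (f7806 C) (f7806 C) _ [148, 158, 169, 177] _ (by decide +kernel) (by decide +kernel) (by decide +kernel)

theorem f16299 : C.S (v3 C) [15, 34, 56, 71, 106, 109, 117] :=
  C.stMul (f331 C) (f353 C) _ (by decide +kernel)

theorem f16300 : C.T (v3 C) [30, 65, 72, 97] (v18 C) [8, 36, 61, 75, 93, 110] :=
  C.conv (f7327 C) (f7806 C) (f16299 C) _ [131, 156, 166, 171, 177] _ (by decide +kernel) (by decide +kernel) (by decide +kernel)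

theorem f16301 : C.T (v18 C) [8, 36, 61, 75, 93, 110] (v3 C) [30, 65, 72, 97] :=
  C.flip (f16300 C)

theorem f16302 : C.S (v18 C) [26, 43, 49, 77, 91, 110, 115] :=
  C.stMul (f6836 C) (f6836 C) _ (by decide +kernel)

theorem f16303 : C.T (v18 C) [5, 29, 66, 71, 102, 110, 115] (v19 C) [8, 27, 51, 76, 108, 122] :=
  C.conv (f15834 C) (f6836 C) (f16302 C) _ [139, 158, 165, 171, 177] _ (by decide +kernel) (by decide +kernel) (by decide +kernel)

theorem f16304 : C.T (v19 C) [8, 27, 51, 76, 108, 122] (v18 C) [5, 29, 66, 71, 102, 110, 115] :=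
  C.flip (f16303 C)

theorem f16305 : C.T (v18 C) [22, 34, 58, 86, 105, 109, 123] (v19 C) [45, 68, 80, 103, 110] :=
  C.closeT (p := (v3 C)) (pu := [8, 28, 62, 83, 107, 110, 116])
    (C.pT (f16298 C)
    (C.pH [26, 38, 54, 89, 90, 113] [22, 34, 58, 86, 105, 109, 123] (by decide +kernel) (C.pNil _ _)))
    (C.pH [8, 30, 65, 84, 94, 117] [8, 27, 51, 76, 108, 122] (by decide +kernel)
    (C.pT (f16304 C)
    (C.pH [26, 38, 54, 89, 90, 113] [8, 36, 61, 75, 93, 110] (by decide +kernel)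
    (C.pT (f16301 C)
    (C.pH [8, 30, 65, 84, 94, 117] [8, 28, 62, 83, 107, 110, 116] (by decide +kernel) (C.pNil _ _))))))
    (C.loop_of_one (relLoop2 C) _ _)

theorem f16306 : C.T (v19 C) [45, 68, 80, 103, 110] (v18 C) [22, 34, 58, 86, 105, 109, 123] :=
  C.flip (f16305 C)

theorem f16307 : C.T (v3 C) [5, 30, 61, 87, 90, 109, 123] (v18 C) [6, 39, 57, 80, 98, 119] :=
  C.conv (f7327 C) (f7806 C) (f7806 C) _ [141, 163, 169, 175] _ (by decide +kernel) (by decide +kernel) (by decide +kernel)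

theorem f16308 : C.T (v18 C) [4, 29, 79, 98, 116] (v15 C) [23, 38, 63, 85, 107, 124] :=
  C.conv (f14488 C) (f6836 C) (f7121 C) _ [146, 149, 165, 176, 177] _ (by decide +kernel) (by decide +kernel) (by decide +kernel)

theorem f16309 : C.S (v3 C) [8, 27, 64, 80, 97, 109, 113] :=
  C.stMul (f353 C) (f15716 C) _ (by decide +kernel)

theorem f16310 : C.T (v3 C) [14, 30, 54, 81, 101, 110, 113] (v19 C) [24, 43, 59, 85, 106, 111] :=
  C.conv (f15701 C) (f15714 C) (f16309 C) _ [137, 159, 169, 174, 178] _ (by decide +kernel) (by decide +kernel) (by decide +kernel)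

theorem f16311 : C.T (v19 C) [24, 43, 59, 85, 106, 111] (v3 C) [14, 30, 54, 81, 101, 110, 113] :=
  C.flip (f16310 C)

theorem f16312 : C.T (v15 C) [10, 42, 67, 87, 108, 109, 120] (v19 C) [11, 43, 66, 80, 91, 109, 121] :=
  C.closeT (p := (v3 C)) (pu := [5, 30, 61, 87, 90, 109, 123])
    (C.pT (f16307 C)
    (C.pH [26, 38, 54, 89, 90, 113] [4, 29, 79, 98, 116] (by decide +kernel)
    (C.pT (f16308 C)
    (C.pH [8, 30, 65, 84, 94, 117] [10, 42, 67, 87, 108, 109, 120] (by decide +kernel) (C.pNil _ _)))))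
    (C.pH [26, 38, 54, 89, 90, 113] [24, 43, 59, 85, 106, 111] (by decide +kernel)
    (C.pT (f16311 C)
    (C.pH [8, 30, 65, 84, 94, 117] [5, 30, 61, 87, 90, 109, 123] (by decide +kernel) (C.pNil _ _))))
    (C.loop_of_one (relLoop2 C) _ _)

theorem f16313 : C.T (v19 C) [11, 43, 66, 80, 91, 109, 121] (v15 C) [10, 42, 67, 87, 108, 109, 120] :=
  C.flip (f16312 C)

theorem f16314 : C.T (v3 C) [4, 46, 50, 72, 91, 110, 124] (v18 C) [21, 39, 64, 78, 105, 115] :=
  C.conv (f8165 C) (f8200 C) (f8200 C) _ [139, 163, 165, 176] _ (by decide +kernel) (by decide +kernel) (by decide +kernel)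

theorem f16315 : C.S (v18 C) [26, 43, 49, 77, 91, 110, 115] :=
  C.stMul (f6836 C) (f6836 C) _ (by decide +kernel)

theorem f16316 : C.T (v18 C) [6, 46, 59, 70, 108, 113] (v15 C) [21, 33, 57, 87, 98, 114] :=
  C.conv (f7558 C) (f16315 C) (f6836 C) _ [146, 150, 165, 173, 178] _ (by decide +kernel) (by decide +kernel) (by decide +kernel)

theorem f16317 : C.S (v3 C) [20, 29, 56, 72, 109, 121] :=
  C.stMul (f335 C) (f15608 C) _ (by decide +kernel)

theorem f16318 : C.S (v3 C) [10, 47, 54, 88, 107, 109, 117] :=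
  C.stMul (f335 C) (f16317 C) _ (by decide +kernel)

theorem f16319 : C.T (v3 C) [18, 40, 56, 78, 91, 118] (v19 C) [25, 27, 54, 82, 91, 110, 117] :=
  C.conv (f15592 C) (f15600 C) (f16318 C) _ [144, 149, 170, 176, 178] _ (by decide +kernel) (by decide +kernel) (by decide +kernel)

theorem f16320 : C.T (v19 C) [25, 27, 54, 82, 91, 110, 117] (v3 C) [18, 40, 56, 78, 91, 118] :=
  C.flip (f16319 C)

theorem f16321 : C.T (v15 C) [24, 64, 82, 98, 109, 111] (v19 C) [4, 39, 63, 85, 93, 109, 117] :=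
  C.closeT (p := (v3 C)) (pu := [4, 46, 50, 72, 91, 110, 124])
    (C.pT (f16314 C)
    (C.pH [26, 38, 54, 89, 90, 113] [6, 46, 59, 70, 108, 113] (by decide +kernel)
    (C.pT (f16316 C)
    (C.pH [8, 30, 65, 84, 94, 117] [24, 64, 82, 98, 109, 111] (by decide +kernel) (C.pNil _ _)))))
    (C.pH [26, 38, 54, 89, 90, 113] [25, 27, 54, 82, 91, 110, 117] (by decide +kernel)
    (C.pT (f16320 C)
    (C.pH [8, 30, 65, 84, 94, 117] [4, 46, 50, 72, 91, 110, 124] (by decide +kernel) (C.pNil _ _))))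
    (C.loop_of_one (relLoop2 C) _ _)

theorem f16322 : C.T (v19 C) [4, 39, 63, 85, 93, 109, 117] (v15 C) [24, 64, 82, 98, 109, 111] :=
  C.flip (f16321 C)

theorem f16323 : C.T (v3 C) [11, 45, 56, 72, 98, 110, 115] (v18 C) [7, 40, 64, 73, 108, 110, 123] :=
  C.conv (f8223 C) (f8361 C) (f8361 C) _ [135, 158, 168, 172] _ (by decide +kernel) (by decide +kernel) (by decide +kernel)

theorem f16324 : C.T (v18 C) [28, 64, 74, 106, 110, 122] (v18 C) [18, 53, 81, 94, 110] :=
  C.conv (f8083 C) (f6836 C) (f7121 C) _ [134, 163, 167, 173, 178] _ (by decide +kernel) (by decide +kernel) (by decide +kernel)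

theorem f16325 : C.S (v3 C) [7, 37, 53, 78, 98, 118] :=
  C.stMul (f353 C) (f335 C) _ (by decide +kernel)

theorem f16326 : C.S (v3 C) [12, 31, 63, 83, 106, 121] :=
  C.stMul (f331 C) (f16325 C) _ (by decide +kernel)

theorem f16327 : C.S (v3 C) [23, 43, 66, 72, 98, 125] :=
  C.stMul (f353 C) (f16326 C) _ (by decide +kernel)

theorem f16328 : C.T (v3 C) [13, 48, 54, 79, 95, 113] (v19 C) [21, 35, 54, 84, 102, 109, 124] :=
  C.conv (f15701 C) (f15714 C) (f16327 C) _ [130, 152, 165, 175, 177] _ (by decide +kernel) (by decide +kernel) (by decide +kernel)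

theorem f16329 : C.T (v19 C) [21, 35, 54, 84, 102, 109, 124] (v3 C) [13, 48, 54, 79, 95, 113] :=
  C.flip (f16328 C)

theorem f16330 : C.T (v18 C) [4, 47, 61, 85, 91, 110, 117] (v19 C) [10, 28, 60, 81, 104, 111] :=
  C.closeT (p := (v3 C)) (pu := [11, 45, 56, 72, 98, 110, 115])
    (C.pT (f16323 C)
    (C.pH [26, 38, 54, 89, 90, 113] [28, 64, 74, 106, 110, 122] (by decide +kernel)
    (C.pT (f16324 C)
    (C.pH [8, 30, 65, 84, 94, 117] [4, 47, 61, 85, 91, 110, 117] (by decide +kernel) (C.pNil _ _)))))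
    (C.pH [26, 38, 54, 89, 90, 113] [21, 35, 54, 84, 102, 109, 124] (by decide +kernel)
    (C.pT (f16329 C)
    (C.pH [8, 30, 65, 84, 94, 117] [11, 45, 56, 72, 98, 110, 115] (by decide +kernel) (C.pNil _ _))))
    (C.loop_of_one (relLoop2 C) _ _)

theorem f16331 : C.T (v19 C) [10, 28, 60, 81, 104, 111] (v18 C) [4, 47, 61, 85, 91, 110, 117] :=
  C.flip (f16330 C)

theorem f16332 : C.T (v3 C) [4, 46, 54, 76, 105, 109] (v18 C) [13, 39, 51, 73, 95, 109, 115] :=
  C.conv (f8223 C) (f8361 C) (f8361 C) _ [140, 153, 170, 176] _ (by decide +kernel) (by decide +kernel) (by decide +kernel)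

theorem f16333 : C.T (v18 C) [23, 45, 55, 72, 107, 109, 121] (v18 C) [5, 45, 50, 72, 90, 109, 123] :=
  C.conv (f11931 C) (f6836 C) (f7121 C) _ [136, 158, 166, 174] _ (by decide +kernel) (by decide +kernel) (by decide +kernel)

theorem f16334 : C.T (v3 C) [18, 40, 52, 84, 102, 125] (v19 C) [23, 28, 59, 84, 102, 110, 112] :=
  C.conv (f15701 C) (f15714 C) (f335 C) _ [136, 151, 170, 173, 178] _ (by decide +kernel) (by decide +kernel) (by decide +kernel)

theorem f16335 : C.T (v19 C) [23, 28, 59, 84, 102, 110, 112] (v3 C) [18, 40, 52, 84, 102, 125] :=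
  C.flip (f16334 C)

theorem f16336 : C.T (v18 C) [12, 27, 51, 72, 97, 109] (v19 C) [13, 55, 80, 105, 110, 123] :=
  C.closeT (p := (v3 C)) (pu := [4, 46, 54, 76, 105, 109])
    (C.pT (f16332 C)
    (C.pH [26, 38, 54, 89, 90, 113] [23, 45, 55, 72, 107, 109, 121] (by decide +kernel)
    (C.pT (f16333 C)
    (C.pH [8, 30, 65, 84, 94, 117] [12, 27, 51, 72, 97, 109] (by decide +kernel) (C.pNil _ _)))))
    (C.pH [26, 38, 54, 89, 90, 113] [23, 28, 59, 84, 102, 110, 112] (by decide +kernel)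
    (C.pT (f16335 C)
    (C.pH [8, 30, 65, 84, 94, 117] [4, 46, 54, 76, 105, 109] (by decide +kernel) (C.pNil _ _))))
    (C.loop_of_one (relLoop2 C) _ _)

theorem f16337 : C.T (v19 C) [13, 55, 80, 105, 110, 123] (v18 C) [12, 27, 51, 72, 97, 109] :=
  C.flip (f16336 C)

theorem f16338 : C.T (v3 C) [8, 45, 53, 74, 95, 110, 125] (v18 C) [14, 37, 50, 86, 97, 109, 113] :=
  C.conv (f8223 C) (f8361 C) (f8361 C) _ [140, 158, 178] _ (by decide +kernel) (by decide +kernel) (by decide +kernel)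

theorem f16339 : C.S (v18 C) [26, 43, 49, 77, 91, 110, 115] :=
  C.stMul (f6836 C) (f6836 C) _ (by decide +kernel)

theorem f16340 : C.T (v18 C) [5, 27, 54, 77, 99, 110, 120] (v17 C) [24, 61, 87, 92, 109, 111] :=
  C.conv (f7992 C) (f16339 C) (f7121 C) _ [145, 170, 171, 177] _ (by decide +kernel) (by decide +kernel) (by decide +kernel)

theorem f16341 : C.S (v3 C) [15, 34, 56, 71, 106, 109, 117] :=
  C.stMul (f331 C) (f353 C) _ (by decide +kernel)

theorem f16342 : C.T (v3 C) [35, 54, 78, 94, 114] (v19 C) [13, 46, 50, 89, 100, 110, 115] :=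
  C.conv (f15592 C) (f15600 C) (f16341 C) _ [134, 160, 164, 175, 177] _ (by decide +kernel) (by decide +kernel) (by decide +kernel)

theorem f16343 : C.T (v19 C) [13, 46, 50, 89, 100, 110, 115] (v3 C) [35, 54, 78, 94, 114] :=
  C.flip (f16342 C)

theorem f16344 : C.T (v17 C) [16, 34, 106, 110, 124] (v19 C) [16, 32, 61, 89, 105, 109, 119] :=
  C.closeT (p := (v3 C)) (pu := [8, 45, 53, 74, 95, 110, 125])
    (C.pT (f16338 C)
    (C.pH [26, 38, 54, 89, 90, 113] [5, 27, 54, 77, 99, 110, 120] (by decide +kernel)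
    (C.pT (f16340 C)
    (C.pH [8, 30, 65, 84, 94, 117] [16, 34, 106, 110, 124] (by decide +kernel) (C.pNil _ _)))))
    (C.pH [26, 38, 54, 89, 90, 113] [13, 46, 50, 89, 100, 110, 115] (by decide +kernel)
    (C.pT (f16343 C)
    (C.pH [8, 30, 65, 84, 94, 117] [8, 45, 53, 74, 95, 110, 125] (by decide +kernel) (C.pNil _ _))))
    (C.loop_of_one (relLoop2 C) _ _)

theorem f16345 : C.T (v19 C) [16, 32, 61, 89, 105, 109, 119] (v17 C) [16, 34, 106, 110, 124] :=
  C.flip (f16344 C)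

theorem f16346 : C.T (v3 C) [23, 37, 66, 80, 104, 110, 119] (v18 C) [17, 46, 60, 71, 90, 110, 118] :=
  C.conv (f9184 C) (f9232 C) (f9232 C) _ [136, 162, 166, 173, 178] _ (by decide +kernel) (by decide +kernel) (by decide +kernel)

theorem f16347 : C.T (v18 C) [20, 38, 51, 87, 94, 118] (v18 C) [26, 43, 70, 100, 112] :=
  C.conv (f13026 C) (f6836 C) (f7121 C) _ [128, 163, 165, 173, 178] _ (by decide +kernel) (by decide +kernel) (by decide +kernel)

theorem f16348 : C.S (v3 C) [18, 33, 63, 86, 90, 124] :=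
  C.stMul (f331 C) (f15756 C) _ (by decide +kernel)

theorem f16349 : C.T (v3 C) [20, 48, 64, 75, 99, 118] (v19 C) [19, 48, 71, 93, 110, 114] :=
  C.conv (f15701 C) (f15714 C) (f16348 C) _ [135, 161, 171, 177] _ (by decide +kernel) (by decide +kernel) (by decide +kernel)

theorem f16350 : C.T (v19 C) [19, 48, 71, 93, 110, 114] (v3 C) [20, 48, 64, 75, 99, 118] :=
  C.flip (f16349 C)

theorem f16351 : C.T (v18 C) [14, 43, 50, 89, 94, 110, 124] (v19 C) [22, 27, 64, 78, 99, 109, 114] :=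
  C.closeT (p := (v3 C)) (pu := [23, 37, 66, 80, 104, 110, 119])
    (C.pT (f16346 C)
    (C.pH [26, 38, 54, 89, 90, 113] [20, 38, 51, 87, 94, 118] (by decide +kernel)
    (C.pT (f16347 C)
    (C.pH [8, 30, 65, 84, 94, 117] [14, 43, 50, 89, 94, 110, 124] (by decide +kernel) (C.pNil _ _)))))
    (C.pH [26, 38, 54, 89, 90, 113] [19, 48, 71, 93, 110, 114] (by decide +kernel)
    (C.pT (f16350 C)
    (C.pH [8, 30, 65, 84, 94, 117] [23, 37, 66, 80, 104, 110, 119] (by decide +kernel) (C.pNil _ _))))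
    (C.loop_of_one (relLoop2 C) _ _)

theorem f16352 : C.T (v19 C) [22, 27, 64, 78, 99, 109, 114] (v18 C) [14, 43, 50, 89, 94, 110, 124] :=
  C.flip (f16351 C)

theorem f16353 : C.T (v3 C) [25, 47, 60, 77, 97, 123] (v18 C) [19, 30, 63, 71, 105, 109, 115] :=
  C.conv (f9184 C) (f9232 C) (f9232 C) _ [136, 159, 165, 172] _ (by decide +kernel) (by decide +kernel) (by decide +kernel)

theorem f16354 : C.S (v18 C) [26, 43, 49, 77, 91, 110, 115] :=
  C.stMul (f6836 C) (f6836 C) _ (by decide +kernel)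

theorem f16355 : C.T (v18 C) [17, 68, 84, 90, 114] (v18 C) [26, 35, 66, 75, 99, 117] :=
  C.conv (f9655 C) (f6836 C) (f16354 C) _ [130, 163, 172] _ (by decide +kernel) (by decide +kernel) (by decide +kernel)

theorem f16356 : C.S (v3 C) [16, 30, 89, 95, 109, 121] :=
  C.stMul (f331 C) (f15778 C) _ (by decide +kernel)

theorem f16357 : C.T (v3 C) [4, 30, 63, 81, 108, 110, 117] (v19 C) [15, 45, 69, 83, 91, 110, 114] :=
  C.conv (f15701 C) (f15714 C) (f16356 C) _ [147, 155, 164] _ (by decide +kernel) (by decide +kernel) (by decide +kernel)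

theorem f16358 : C.T (v19 C) [15, 45, 69, 83, 91, 110, 114] (v3 C) [4, 30, 63, 81, 108, 110, 117] :=
  C.flip (f16357 C)

theorem f16359 : C.T (v18 C) [14, 37, 68, 70, 98, 110, 111] (v19 C) [20, 43, 59, 76, 99, 110, 112] :=
  C.closeT (p := (v3 C)) (pu := [25, 47, 60, 77, 97, 123])
    (C.pT (f16353 C)
    (C.pH [26, 38, 54, 89, 90, 113] [17, 68, 84, 90, 114] (by decide +kernel)
    (C.pT (f16355 C)
    (C.pH [8, 30, 65, 84, 94, 117] [14, 37, 68, 70, 98, 110, 111] (by decide +kernel) (C.pNil _ _)))))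
    (C.pH [26, 38, 54, 89, 90, 113] [15, 45, 69, 83, 91, 110, 114] (by decide +kernel)
    (C.pT (f16358 C)
    (C.pH [8, 30, 65, 84, 94, 117] [25, 47, 60, 77, 97, 123] (by decide +kernel) (C.pNil _ _))))
    (C.loop_of_one (relLoop2 C) _ _)

theorem f16360 : C.T (v19 C) [20, 43, 59, 76, 99, 110, 112] (v18 C) [14, 37, 68, 70, 98, 110, 111] :=
  C.flip (f16359 C)

theorem f16361 : C.T (v3 C) [11, 40, 61, 79, 92, 123] (v18 C) [16, 42, 67, 78, 98, 115] :=
  C.conv (f9184 C) (f9232 C) (f9232 C) _ [141, 157, 164, 175] _ (by decide +kernel) (by decide +kernel) (by decide +kernel)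

theorem f16362 : C.S (v18 C) [26, 43, 49, 77, 91, 110, 115] :=
  C.stMul (f6836 C) (f6836 C) _ (by decide +kernel)

theorem f16363 : C.T (v18 C) [13, 42, 49, 77, 96, 122] (v17 C) [25, 55, 81, 102, 110, 117] :=
  C.conv (f9418 C) (f6836 C) (f16362 C) _ [141, 165, 171] _ (by decide +kernel) (by decide +kernel) (by decide +kernel)

theorem f16364 : C.S (v3 C) [15, 41, 51, 77, 100, 110, 113] :=
  C.stMul (f328 C) (f15716 C) _ (by decide +kernel)

theorem f16365 : C.S (v3 C) [8, 38, 72, 99, 119] :=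
  C.stMul (f353 C) (f16364 C) _ (by decide +kernel)

theorem f16366 : C.T (v3 C) [13, 46, 63, 76, 95, 110, 112] (v19 C) [19, 27, 69, 82, 98, 110, 121] :=
  C.conv (f15701 C) (f15714 C) (f16365 C) _ [134, 162, 164, 175] _ (by decide +kernel) (by decide +kernel) (by decide +kernel)

theorem f16367 : C.T (v19 C) [19, 27, 69, 82, 98, 110, 121] (v3 C) [13, 46, 63, 76, 95, 110, 112] :=
  C.flip (f16366 C)

theorem f16368 : C.T (v17 C) [9, 47, 49, 81, 100, 110, 112] (v19 C) [22, 34, 50, 87, 99, 109, 111] :=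
  C.closeT (p := (v3 C)) (pu := [11, 40, 61, 79, 92, 123])
    (C.pT (f16361 C)
    (C.pH [26, 38, 54, 89, 90, 113] [13, 42, 49, 77, 96, 122] (by decide +kernel)
    (C.pT (f16363 C)
    (C.pH [8, 30, 65, 84, 94, 117] [9, 47, 49, 81, 100, 110, 112] (by decide +kernel) (C.pNil _ _)))))
    (C.pH [26, 38, 54, 89, 90, 113] [19, 27, 69, 82, 98, 110, 121] (by decide +kernel)
    (C.pT (f16367 C)
    (C.pH [8, 30, 65, 84, 94, 117] [11, 40, 61, 79, 92, 123] (by decide +kernel) (C.pNil _ _))))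
    (C.loop_of_one (relLoop2 C) _ _)

theorem f16369 : C.T (v19 C) [22, 34, 50, 87, 99, 109, 111] (v17 C) [9, 47, 49, 81, 100, 110, 112] :=
  C.flip (f16368 C)

theorem f16370 : C.T (v3 C) [21, 35, 65, 79, 95, 119] (v18 C) [12, 44, 59, 74, 108, 109, 117] :=
  C.conv (f9184 C) (f9232 C) (f9232 C) _ [142, 163, 169, 175, 177] _ (by decide +kernel) (by decide +kernel) (by decide +kernel)

theorem f16371 : C.T (v18 C) [14, 45, 65, 70, 104, 110, 114] (v19 C) [10, 43, 53, 74, 123] :=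
  C.conv (f15661 C) (f6836 C) (f6836 C) _ [139, 162, 169, 175] _ (by decide +kernel) (by decide +kernel) (by decide +kernel)

theorem f16372 : C.S (v3 C) [4, 28, 64, 75, 93, 109, 113] :=
  C.stMul (f328 C) (f9989 C) _ (by decide +kernel)

theorem f16373 : C.T (v3 C) [12, 34, 69, 85, 103, 109, 111] (v18 C) [17, 28, 54, 84, 97, 125] :=
  C.conv (f6902 C) (f7285 C) (f16372 C) _ [146, 157, 165, 172, 177] _ (by decide +kernel) (by decide +kernel) (by decide +kernel)

theorem f16374 : C.T (v18 C) [17, 28, 54, 84, 97, 125] (v3 C) [12, 34, 69, 85, 103, 109, 111] :=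
  C.flip (f16373 C)

theorem f16375 : C.T (v19 C) [15, 28, 65, 75, 95, 110, 122] (v18 C) [19, 46, 63, 84, 92, 119] :=
  C.closeT (p := (v3 C)) (pu := [21, 35, 65, 79, 95, 119])
    (C.pT (f16370 C)
    (C.pH [26, 38, 54, 89, 90, 113] [14, 45, 65, 70, 104, 110, 114] (by decide +kernel)
    (C.pT (f16371 C)
    (C.pH [8, 30, 65, 84, 94, 117] [15, 28, 65, 75, 95, 110, 122] (by decide +kernel) (C.pNil _ _)))))
    (C.pH [26, 38, 54, 89, 90, 113] [17, 28, 54, 84, 97, 125] (by decide +kernel)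
    (C.pT (f16374 C)
    (C.pH [8, 30, 65, 84, 94, 117] [21, 35, 65, 79, 95, 119] (by decide +kernel) (C.pNil _ _))))
    (C.loop_of_one (relLoop2 C) _ _)

theorem f16376 : C.T (v18 C) [19, 46, 63, 84, 92, 119] (v19 C) [15, 28, 65, 75, 95, 110, 122] :=
  C.flip (f16375 C)

theorem f16377 : C.T (v3 C) [27, 68, 77, 109, 125] (v18 C) [24, 30, 51, 74, 105, 123] :=
  C.conv (f9184 C) (f9232 C) (f9232 C) _ [131, 163, 169, 175] _ (by decide +kernel) (by decide +kernel) (by decide +kernel)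

theorem f16378 : C.T (v18 C) [12, 58, 73, 101, 110] (v19 C) [26, 44, 50, 74, 100, 109, 115] :=
  C.conv (f15720 C) (f15784 C) (f6836 C) _ [144, 152, 170, 174, 178] _ (by decide +kernel) (by decide +kernel) (by decide +kernel)

theorem f16379 : C.S (v3 C) [4, 67, 86, 105, 116] :=
  C.stMul (f335 C) (f13384 C) _ (by decide +kernel)

theorem f16380 : C.S (v3 C) [17, 42, 51, 85, 96, 109, 120] :=
  C.stMul (f331 C) (f16379 C) _ (by decide +kernel)

theorem f16381 : C.T (v3 C) [8, 35, 50, 105, 110, 123] (v15 C) [7, 45, 57, 73, 95, 109, 111] :=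
  C.conv (f2902 C) (f2981 C) (f16380 C) _ [145, 162, 169, 172, 177] _ (by decide +kernel) (by decide +kernel) (by decide +kernel)

theorem f16382 : C.T (v15 C) [7, 45, 57, 73, 95, 109, 111] (v3 C) [8, 35, 50, 105, 110, 123] :=
  C.flip (f16381 C)

theorem f16383 : C.T (v19 C) [14, 28, 66, 82, 110, 118] (v15 C) [23, 35, 62, 76, 91, 109, 121] :=
  C.closeT (p := (v3 C)) (pu := [27, 68, 77, 109, 125])
    (C.pT (f16377 C)
    (C.pH [26, 38, 54, 89, 90, 113] [12, 58, 73, 101, 110] (by decide +kernel)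
    (C.pT (f16378 C)
    (C.pH [8, 30, 65, 84, 94, 117] [14, 28, 66, 82, 110, 118] (by decide +kernel) (C.pNil _ _)))))
    (C.pH [26, 38, 54, 89, 90, 113] [7, 45, 57, 73, 95, 109, 111] (by decide +kernel)
    (C.pT (f16382 C)
    (C.pH [8, 30, 65, 84, 94, 117] [27, 68, 77, 109, 125] (by decide +kernel) (C.pNil _ _))))
    (C.loop_of_one (relLoop2 C) _ _)

theorem f16384 : C.T (v15 C) [23, 35, 62, 76, 91, 109, 121] (v19 C) [14, 28, 66, 82, 110, 118] :=
  C.flip (f16383 C)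

theorem f16385 : C.T (v3 C) [13, 29, 51, 76, 105, 110, 116] (v18 C) [7, 52, 70, 93, 110, 113] :=
  C.conv (f9184 C) (f9232 C) (f9232 C) _ [144, 151, 164, 176, 178] _ (by decide +kernel) (by decide +kernel) (by decide +kernel)

theorem f16386 : C.T (v18 C) [30, 59, 79, 100, 114] (v16 C) [12, 38, 49, 91, 112] :=
  C.conv (f8325 C) (f6836 C) (f6836 C) _ [148, 152, 169, 177] _ (by decide +kernel) (by decide +kernel) (by decide +kernel)

theorem f16387 : C.T (v3 C) [6, 44, 56, 79, 99, 109, 111] (v19 C) [13, 38, 60, 84, 97, 117] :=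
  C.conv (f15701 C) (f15714 C) (f16036 C) _ [145, 149, 165, 173, 178] _ (by decide +kernel) (by decide +kernel) (by decide +kernel)

theorem f16388 : C.T (v19 C) [13, 38, 60, 84, 97, 117] (v3 C) [6, 44, 56, 79, 99, 109, 111] :=
  C.flip (f16387 C)

theorem f16389 : C.T (v16 C) [21, 34, 60, 91, 112] (v19 C) [16, 31, 57, 103, 109, 119] :=
  C.closeT (p := (v3 C)) (pu := [13, 29, 51, 76, 105, 110, 116])
    (C.pT (f16385 C)
    (C.pH [26, 38, 54, 89, 90, 113] [30, 59, 79, 100, 114] (by decide +kernel)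
    (C.pT (f16386 C)
    (C.pH [8, 30, 65, 84, 94, 117] [21, 34, 60, 91, 112] (by decide +kernel) (C.pNil _ _)))))
    (C.pH [26, 38, 54, 89, 90, 113] [13, 38, 60, 84, 97, 117] (by decide +kernel)
    (C.pT (f16388 C)
    (C.pH [8, 30, 65, 84, 94, 117] [13, 29, 51, 76, 105, 110, 116] (by decide +kernel) (C.pNil _ _))))
    (C.loop_of_one (relLoop2 C) _ _)

theorem f16390 : C.T (v19 C) [16, 31, 57, 103, 109, 119] (v16 C) [21, 34, 60, 91, 112] :=
  C.flip (f16389 C)

theorem f16391 : C.T (v3 C) [26, 42, 60, 75, 106, 123] (v18 C) [21, 32, 51, 82, 90, 109, 116] :=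
  C.conv (f9184 C) (f9232 C) (f9232 C) _ [146, 149, 170, 175, 178] _ (by decide +kernel) (by decide +kernel) (by decide +kernel)

theorem f16392 : C.T (v18 C) [6, 47, 59, 78, 91, 122] (v18 C) [12, 45, 58, 84, 103, 110, 122] :=
  C.conv (f9787 C) (f7121 C) (f7121 C) _ [139, 154, 168, 175, 178] _ (by decide +kernel) (by decide +kernel) (by decide +kernel)

theorem f16393 : C.S (v3 C) [15, 40, 50, 78, 92, 118] :=
  C.stMul (f328 C) (f16341 C) _ (by decide +kernel)

theorem f16394 : C.S (v3 C) [16, 39, 64, 74, 93, 112] :=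
  C.stMul (f335 C) (f16393 C) _ (by decide +kernel)

theorem f16395 : C.S (v3 C) [25, 29, 76, 106, 113] :=
  C.stMul (f331 C) (f16394 C) _ (by decide +kernel)

theorem f16396 : C.T (v3 C) [19, 29, 62, 84, 97, 109, 117] (v19 C) [44, 80, 108, 110, 125] :=
  C.conv (f15592 C) (f15600 C) (f16395 C) _ [128, 155, 167, 176, 177] _ (by decide +kernel) (by decide +kernel) (by decide +kernel)

theorem f16397 : C.T (v19 C) [44, 80, 108, 110, 125] (v3 C) [19, 29, 62, 84, 97, 109, 117] :=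
  C.flip (f16396 C)

theorem f16398 : C.T (v18 C) [21, 44, 68, 73, 106, 110, 122] (v19 C) [7, 31, 64, 86, 101, 109, 120] :=
  C.closeT (p := (v3 C)) (pu := [26, 42, 60, 75, 106, 123])
    (C.pT (f16391 C)
    (C.pH [26, 38, 54, 89, 90, 113] [6, 47, 59, 78, 91, 122] (by decide +kernel)
    (C.pT (f16392 C)
    (C.pH [8, 30, 65, 84, 94, 117] [21, 44, 68, 73, 106, 110, 122] (by decide +kernel) (C.pNil _ _)))))
    (C.pH [26, 38, 54, 89, 90, 113] [44, 80, 108, 110, 125] (by decide +kernel)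
    (C.pT (f16397 C)
    (C.pH [8, 30, 65, 84, 94, 117] [26, 42, 60, 75, 106, 123] (by decide +kernel) (C.pNil _ _))))
    (C.loop_of_one (relLoop2 C) _ _)

theorem f16399 : C.T (v19 C) [7, 31, 64, 86, 101, 109, 120] (v18 C) [21, 44, 68, 73, 106, 110, 122] :=
  C.flip (f16398 C)

theorem f16400 : C.T (v3 C) [25, 27, 57, 89, 97, 109, 111] (v18 C) [15, 43, 89, 105, 117] :=
  C.conv (f9221 C) (f9279 C) (f9279 C) _ [131, 152, 170, 175, 177] _ (by decide +kernel) (by decide +kernel) (by decide +kernel)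

theorem f16401 : C.T (v18 C) [9, 31, 55, 72, 97, 117] (v18 C) [9, 29, 59, 86, 105, 110] :=
  C.conv (f10293 C) (f7121 C) (f11508 C) _ [127, 169] _ (by decide +kernel) (by decide +kernel) (by decide +kernel)

theorem f16402 : C.S (v3 C) [21, 32, 61, 77, 107, 110, 118] :=
  C.stMul (f328 C) (f15778 C) _ (by decide +kernel)

theorem f16403 : C.T (v3 C) [4, 28, 53, 87, 90, 110, 121] (v19 C) [4, 43, 61, 78, 105, 110, 119] :=
  C.conv (f15701 C) (f15714 C) (f16402 C) _ [141, 157, 168, 172, 178] _ (by decide +kernel) (by decide +kernel) (by decide +kernel)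

theorem f16404 : C.T (v19 C) [4, 43, 61, 78, 105, 110, 119] (v3 C) [4, 28, 53, 87, 90, 110, 121] :=
  C.flip (f16403 C)

theorem f16405 : C.T (v18 C) [18, 29, 88, 91, 109, 117] (v19 C) [6, 28, 62, 82, 95, 109, 112] :=
  C.closeT (p := (v3 C)) (pu := [25, 27, 57, 89, 97, 109, 111])
    (C.pT (f16400 C)
    (C.pH [26, 38, 54, 89, 90, 113] [9, 31, 55, 72, 97, 117] (by decide +kernel)
    (C.pT (f16401 C)
    (C.pH [8, 30, 65, 84, 94, 117] [18, 29, 88, 91, 109, 117] (by decide +kernel) (C.pNil _ _)))))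
    (C.pH [26, 38, 54, 89, 90, 113] [4, 43, 61, 78, 105, 110, 119] (by decide +kernel)
    (C.pT (f16404 C)
    (C.pH [8, 30, 65, 84, 94, 117] [25, 27, 57, 89, 97, 109, 111] (by decide +kernel) (C.pNil _ _))))
    (C.loop_of_one (relLoop2 C) _ _)

theorem f16406 : C.T (v19 C) [6, 28, 62, 82, 95, 109, 112] (v18 C) [18, 29, 88, 91, 109, 117] :=
  C.flip (f16405 C)

theorem f16407 : C.T (v3 C) [13, 47, 62, 78, 92, 110, 123] (v18 C) [17, 47, 68, 74, 107, 109, 111] :=
  C.conv (f9221 C) (f9279 C) (f9279 C) _ [132, 163, 170, 174, 178] _ (by decide +kernel) (by decide +kernel) (by decide +kernel)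

theorem f16408 : C.S (v3 C) [12, 31, 63, 83, 106, 121] :=
  C.stMul (f331 C) (f13261 C) _ (by decide +kernel)

theorem f16409 : C.T (v3 C) [6, 32, 57, 73, 107, 110, 122] (v18 C) [20, 29, 55, 88, 106, 121] :=
  C.conv (f8165 C) (f8200 C) (f16408 C) _ [130, 152, 165, 178] _ (by decide +kernel) (by decide +kernel) (by decide +kernel)

theorem f16410 : C.T (v18 C) [20, 29, 55, 88, 106, 121] (v3 C) [6, 32, 57, 73, 107, 110, 122] :=
  C.flip (f16409 C)

theorem f16411 : C.T (v18 C) [17, 34, 63, 84, 90, 122] (v19 C) [19, 48, 66, 70, 101, 109] :=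
  C.conv (f16330 C) (f6836 C) (f7121 C) _ [126, 164, 174, 177] _ (by decide +kernel) (by decide +kernel) (by decide +kernel)

theorem f16412 : C.T (v19 C) [19, 48, 66, 70, 101, 109] (v18 C) [17, 34, 63, 84, 90, 122] :=
  C.flip (f16411 C)

theorem f16413 : C.T (v18 C) [20, 48, 57, 80, 93, 125] (v19 C) [15, 68, 85, 110, 123] :=
  C.closeT (p := (v3 C)) (pu := [13, 47, 62, 78, 92, 110, 123])
    (C.pT (f16407 C)
    (C.pH [26, 38, 54, 89, 90, 113] [20, 48, 57, 80, 93, 125] (by decide +kernel) (C.pNil _ _)))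
    (C.pH [8, 30, 65, 84, 94, 117] [19, 48, 66, 70, 101, 109] (by decide +kernel)
    (C.pT (f16412 C)
    (C.pH [26, 38, 54, 89, 90, 113] [20, 29, 55, 88, 106, 121] (by decide +kernel)
    (C.pT (f16410 C)
    (C.pH [8, 30, 65, 84, 94, 117] [13, 47, 62, 78, 92, 110, 123] (by decide +kernel) (C.pNil _ _))))))
    (C.loop_of_one (relLoop2 C) _ _)

theorem f16414 : C.T (v19 C) [15, 68, 85, 110, 123] (v18 C) [20, 48, 57, 80, 93, 125] :=
  C.flip (f16413 C)

theorem f16415 : C.T (v3 C) [9, 28, 62, 79, 97, 110, 122] (v18 C) [19, 35, 68, 87, 108, 114] :=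
  C.conv (f9221 C) (f9279 C) (f9279 C) _ [128, 150, 166, 177] _ (by decide +kernel) (by decide +kernel) (by decide +kernel)

theorem f16416 : C.T (v18 C) [17, 30, 67, 75, 92, 111] (v19 C) [24, 67, 97, 109, 124] :=
  C.conv (f15761 C) (f6836 C) (f7121 C) _ [145, 165, 174, 178] _ (by decide +kernel) (by decide +kernel) (by decide +kernel)

theorem f16417 : C.S (v3 C) [16, 42, 51, 85, 105, 109, 116] :=
  C.stMul (f331 C) (f12945 C) _ (by decide +kernel)

theorem f16418 : C.T (v3 C) [25, 36, 62, 70, 109, 116] (v17 C) [10, 38, 58, 108, 109, 115] :=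
  C.conv (f6269 C) (f7309 C) (f16417 C) _ [136, 151, 164, 173, 177] _ (by decide +kernel) (by decide +kernel) (by decide +kernel)

theorem f16419 : C.T (v17 C) [10, 38, 58, 108, 109, 115] (v3 C) [25, 36, 62, 70, 109, 116] :=
  C.flip (f16418 C)

theorem f16420 : C.T (v19 C) [16, 34, 49, 72, 102, 109, 121] (v17 C) [18, 32, 59, 73, 100, 109, 111] :=
  C.closeT (p := (v3 C)) (pu := [9, 28, 62, 79, 97, 110, 122])
    (C.pT (f16415 C)
    (C.pH [26, 38, 54, 89, 90, 113] [17, 30, 67, 75, 92, 111] (by decide +kernel)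
    (C.pT (f16416 C)
    (C.pH [8, 30, 65, 84, 94, 117] [16, 34, 49, 72, 102, 109, 121] (by decide +kernel) (C.pNil _ _)))))
    (C.pH [26, 38, 54, 89, 90, 113] [10, 38, 58, 108, 109, 115] (by decide +kernel)
    (C.pT (f16419 C)
    (C.pH [8, 30, 65, 84, 94, 117] [9, 28, 62, 79, 97, 110, 122] (by decide +kernel) (C.pNil _ _))))
    (C.loop_of_one (relLoop2 C) _ _)

theorem f16421 : C.T (v17 C) [18, 32, 59, 73, 100, 109, 111] (v19 C) [16, 34, 49, 72, 102, 109, 121] :=
  C.flip (f16420 C)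

theorem f16422 : C.T (v3 C) [15, 32, 52, 84, 94, 120] (v18 C) [9, 43, 68, 70, 91, 109, 121] :=
  C.conv (f9221 C) (f9279 C) (f9279 C) _ [138, 161, 169, 174, 178] _ (by decide +kernel) (by decide +kernel) (by decide +kernel)

theorem f16423 : C.S (v18 C) [26, 43, 49, 77, 91, 110, 115] :=
  C.stMul (f6836 C) (f6836 C) _ (by decide +kernel)

theorem f16424 : C.T (v18 C) [22, 61, 83, 101, 114] (v17 C) [8, 36, 57, 78, 90, 110, 113] :=
  C.conv (f9341 C) (f6836 C) (f16423 C) _ [136, 154, 164, 177] _ (by decide +kernel) (by decide +kernel) (by decide +kernel)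

theorem f16425 : C.S (v3 C) [36, 68, 80, 97, 109, 111] :=
  C.stMul (f331 C) (f15959 C) _ (by decide +kernel)

theorem f16426 : C.T (v3 C) [10, 46, 60, 79, 94, 110, 124] (v19 C) [37, 59, 77, 110, 113] :=
  C.conv (f15701 C) (f15714 C) (f16425 C) _ [139, 159, 169, 174, 178] _ (by decide +kernel) (by decide +kernel) (by decide +kernel)

theorem f16427 : C.T (v19 C) [37, 59, 77, 110, 113] (v3 C) [10, 46, 60, 79, 94, 110, 124] :=
  C.flip (f16426 C)

theorem f16428 : C.T (v17 C) [33, 65, 86, 102, 109, 119] (v19 C) [7, 46, 51, 81, 101, 114] :=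
  C.closeT (p := (v3 C)) (pu := [15, 32, 52, 84, 94, 120])
    (C.pT (f16422 C)
    (C.pH [26, 38, 54, 89, 90, 113] [22, 61, 83, 101, 114] (by decide +kernel)
    (C.pT (f16424 C)
    (C.pH [8, 30, 65, 84, 94, 117] [33, 65, 86, 102, 109, 119] (by decide +kernel) (C.pNil _ _)))))
    (C.pH [26, 38, 54, 89, 90, 113] [37, 59, 77, 110, 113] (by decide +kernel)
    (C.pT (f16427 C)
    (C.pH [8, 30, 65, 84, 94, 117] [15, 32, 52, 84, 94, 120] (by decide +kernel) (C.pNil _ _))))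
    (C.loop_of_one (relLoop2 C) _ _)

theorem f16429 : C.T (v19 C) [7, 46, 51, 81, 101, 114] (v17 C) [33, 65, 86, 102, 109, 119] :=
  C.flip (f16428 C)

theorem f16430 : C.T (v3 C) [9, 39, 69, 86, 100, 110, 116] (v18 C) [23, 31, 65, 86, 96, 123] :=
  C.conv (f9221 C) (f9279 C) (f9279 C) _ [147, 163, 165, 176] _ (by decide +kernel) (by decide +kernel) (by decide +kernel)

theorem f16431 : C.S (v18 C) [26, 43, 49, 77, 91, 110, 115] :=
  C.stMul (f6836 C) (f6836 C) _ (by decide +kernel)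

theorem f16432 : C.T (v18 C) [7, 29, 66, 71, 90, 110, 123] (v19 C) [8, 38, 51, 89, 97, 110, 121] :=
  C.conv (f16413 C) (f6836 C) (f16431 C) _ [142, 158, 166, 176] _ (by decide +kernel) (by decide +kernel) (by decide +kernel)

theorem f16433 : C.S (v3 C) [6, 46, 54, 70, 103, 125] :=
  C.stMul (f335 C) (f9514 C) _ (by decide +kernel)

theorem f16434 : C.T (v3 C) [25, 46, 53, 77, 96, 109, 123] (v18 C) [25, 47, 57, 103, 111] :=
  C.conv (f9221 C) (f9279 C) (f16433 C) _ [162, 172, 178] _ (by decide +kernel) (by decide +kernel) (by decide +kernel)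

theorem f16435 : C.T (v18 C) [25, 47, 57, 103, 111] (v3 C) [25, 46, 53, 77, 96, 109, 123] :=
  C.flip (f16434 C)

theorem f16436 : C.T (v19 C) [38, 54, 87, 108, 111] (v18 C) [4, 38, 58, 87, 98, 114] :=
  C.closeT (p := (v3 C)) (pu := [9, 39, 69, 86, 100, 110, 116])
    (C.pT (f16430 C)
    (C.pH [26, 38, 54, 89, 90, 113] [7, 29, 66, 71, 90, 110, 123] (by decide +kernel)
    (C.pT (f16432 C)
    (C.pH [8, 30, 65, 84, 94, 117] [38, 54, 87, 108, 111] (by decide +kernel) (C.pNil _ _)))))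
    (C.pH [26, 38, 54, 89, 90, 113] [25, 47, 57, 103, 111] (by decide +kernel)
    (C.pT (f16435 C)
    (C.pH [8, 30, 65, 84, 94, 117] [9, 39, 69, 86, 100, 110, 116] (by decide +kernel) (C.pNil _ _))))
    (C.loop_of_one (relLoop2 C) _ _)

theorem f16437 : C.T (v18 C) [4, 38, 58, 87, 98, 114] (v19 C) [38, 54, 87, 108, 111] :=
  C.flip (f16436 C)

theorem f16438 : C.T (v3 C) [19, 31, 65, 86, 106, 109, 125] (v19 C) [26, 41, 73, 108, 113] :=
  C.conv (f15592 C) (f15600 C) (f15600 C) _ [133, 155, 169, 171] _ (by decide +kernel) (by decide +kernel) (by decide +kernel)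

theorem f16439 : C.T (v3 C) [15, 33, 60, 87, 94, 109, 120] (v17 C) [22, 40, 55, 79, 96, 123] :=
  C.conv (f6822 C) (f7297 C) (f12098 C) _ [154, 171, 178] _ (by decide +kernel) (by decide +kernel) (by decide +kernel)

theorem f16440 : C.T (v17 C) [22, 40, 55, 79, 96, 123] (v3 C) [15, 33, 60, 87, 94, 109, 120] :=
  C.flip (f16439 C)

theorem f16441 : C.S (v17 C) [51, 81, 96, 109, 125] :=
  C.stMul (f4132 C) (f4137 C) _ (by decide +kernel)

theorem f16442 : C.T (v17 C) [9, 46, 59, 83, 107, 110, 113] (v17 C) [12, 36, 67, 81, 91, 110, 118] :=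
  C.conv (f5682 C) (f4132 C) (f16441 C) _ [132, 161, 166, 175] _ (by decide +kernel) (by decide +kernel) (by decide +kernel)

theorem f16443 : C.T (v17 C) [12, 36, 67, 81, 91, 110, 118] (v17 C) [9, 46, 59, 83, 107, 110, 113] :=
  C.flip (f16442 C)

theorem f16444 : C.T (v19 C) [16, 36, 54, 70, 103, 121] (v17 C) [5, 34, 50, 74, 102, 110, 112] :=
  C.closeT (p := (v3 C)) (pu := [19, 31, 65, 86, 106, 109, 125])
    (C.pT (f16438 C)
    (C.pH [26, 38, 54, 89, 90, 113] [16, 36, 54, 70, 103, 121] (by decide +kernel) (C.pNil _ _)))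
    (C.pH [8, 30, 65, 84, 94, 117] [12, 36, 67, 81, 91, 110, 118] (by decide +kernel)
    (C.pT (f16443 C)
    (C.pH [26, 38, 54, 89, 90, 113] [22, 40, 55, 79, 96, 123] (by decide +kernel)
    (C.pT (f16440 C)
    (C.pH [8, 30, 65, 84, 94, 117] [19, 31, 65, 86, 106, 109, 125] (by decide +kernel) (C.pNil _ _))))))
    (C.loop_of_one (relLoop2 C) _ _)

theorem f16445 : C.T (v17 C) [5, 34, 50, 74, 102, 110, 112] (v19 C) [16, 36, 54, 70, 103, 121] :=
  C.flip (f16444 C)

theorem f16446 : C.T (v3 C) [23, 45, 67, 70, 96, 110, 120] (v19 C) [22, 45, 57, 72, 98] :=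
  C.conv (f15592 C) (f15600 C) (f15600 C) _ [130, 152, 169, 178] _ (by decide +kernel) (by decide +kernel) (by decide +kernel)

theorem f16447 : C.S (v3 C) [18, 35, 57, 82, 93, 110, 115] :=
  C.stMul (f353 C) (f331 C) _ (by decide +kernel)

theorem f16448 : C.S (v3 C) [36, 68, 80, 97, 109, 111] :=
  C.stMul (f331 C) (f16447 C) _ (by decide +kernel)

theorem f16449 : C.T (v3 C) [20, 34, 60, 73, 101, 109, 119] (v4 C) [23, 34, 51, 71, 108, 109, 116] :=
  C.conv (f841 C) (f926 C) (f16448 C) _ [143, 159, 164, 171, 178] _ (by decide +kernel) (by decide +kernel) (by decide +kernel)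

theorem f16450 : C.T (v4 C) [23, 34, 51, 71, 108, 109, 116] (v3 C) [20, 34, 60, 73, 101, 109, 119] :=
  C.flip (f16449 C)

theorem f16451 : C.S (v4 C) [26, 43, 63, 73, 104, 112] :=
  C.stMul (f421 C) (f12043 C) _ (by decide +kernel)

theorem f16452 : C.S (v4 C) [25, 46, 61, 102, 110, 119] :=
  C.stMul (f407 C) (f16451 C) _ (by decide +kernel)

theorem f16453 : C.S (v4 C) [10, 38, 55, 71, 94, 110, 113] :=
  C.stMul (f421 C) (f16452 C) _ (by decide +kernel)

theorem f16454 : C.T (v4 C) [13, 34, 52, 84, 105, 110, 120] (v18 C) [19, 45, 66, 86, 100, 109, 119] :=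
  C.conv (f10188 C) (f12045 C) (f16453 C) _ [147, 176, 177] _ (by decide +kernel) (by decide +kernel) (by decide +kernel)

theorem f16455 : C.T (v18 C) [19, 45, 66, 86, 100, 109, 119] (v4 C) [13, 34, 52, 84, 105, 110, 120] :=
  C.flip (f16454 C)

theorem f16456 : C.T (v19 C) [19, 46, 52, 75, 95, 109, 115] (v18 C) [15, 41, 56, 85, 104, 116] :=
  C.closeT (p := (v3 C)) (pu := [23, 45, 67, 70, 96, 110, 120])
    (C.pT (f16446 C)
    (C.pH [26, 38, 54, 89, 90, 113] [19, 46, 52, 75, 95, 109, 115] (by decide +kernel) (C.pNil _ _)))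
    (C.pH [8, 30, 65, 84, 94, 117] [19, 45, 66, 86, 100, 109, 119] (by decide +kernel)
    (C.pT (f16455 C)
    (C.pH [26, 38, 54, 89, 90, 113] [23, 34, 51, 71, 108, 109, 116] (by decide +kernel)
    (C.pT (f16450 C)
    (C.pH [8, 30, 65, 84, 94, 117] [23, 45, 67, 70, 96, 110, 120] (by decide +kernel) (C.pNil _ _))))))
    (C.loop_of_one (relLoop2 C) _ _)

theorem f16457 : C.T (v18 C) [15, 41, 56, 85, 104, 116] (v19 C) [19, 46, 52, 75, 95, 109, 115] :=
  C.flip (f16456 C)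

theorem f16458 : C.T (v3 C) [15, 27, 64, 84, 97, 110, 116] (v19 C) [19, 28, 51, 83, 103, 110] :=
  C.conv (f15592 C) (f15600 C) (f15600 C) _ [140, 161, 168, 172] _ (by decide +kernel) (by decide +kernel) (by decide +kernel)

theorem f16459 : C.T (v3 C) [10, 37, 60, 84, 103, 122] (v17 C) [11, 31, 67, 75, 103, 117] :=
  C.conv (f6808 C) (f9290 C) (f12718 C) _ [137, 159, 167, 172, 177] _ (by decide +kernel) (by decide +kernel) (by decide +kernel)

theorem f16460 : C.T (v17 C) [11, 31, 67, 75, 103, 117] (v3 C) [10, 37, 60, 84, 103, 122] :=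
  C.flip (f16459 C)

theorem f16461 : C.S (v17 C) [23, 31, 75, 92, 109, 116] :=
  C.stMul (f4137 C) (f4132 C) _ (by decide +kernel)

theorem f16462 : C.T (v17 C) [8, 66, 83, 93, 110, 113] (v18 C) [26, 46, 60, 72, 96, 109, 113] :=
  C.conv (f13835 C) (f16461 C) (f4132 C) _ [132, 166, 174] _ (by decide +kernel) (by decide +kernel) (by decide +kernel)

theorem f16463 : C.T (v18 C) [26, 46, 60, 72, 96, 109, 113] (v17 C) [8, 66, 83, 93, 110, 113] :=
  C.flip (f16462 C)

theorem f16464 : C.T (v19 C) [17, 44, 52, 71, 118] (v18 C) [19, 41, 51, 81, 103, 110, 112] :=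
  C.closeT (p := (v3 C)) (pu := [15, 27, 64, 84, 97, 110, 116])
    (C.pT (f16458 C)
    (C.pH [26, 38, 54, 89, 90, 113] [17, 44, 52, 71, 118] (by decide +kernel) (C.pNil _ _)))
    (C.pH [8, 30, 65, 84, 94, 117] [26, 46, 60, 72, 96, 109, 113] (by decide +kernel)
    (C.pT (f16463 C)
    (C.pH [26, 38, 54, 89, 90, 113] [11, 31, 67, 75, 103, 117] (by decide +kernel)
    (C.pT (f16460 C)
    (C.pH [8, 30, 65, 84, 94, 117] [15, 27, 64, 84, 97, 110, 116] (by decide +kernel) (C.pNil _ _))))))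
    (C.loop_of_one (relLoop2 C) _ _)

theorem f16465 : C.T (v18 C) [19, 41, 51, 81, 103, 110, 112] (v19 C) [17, 44, 52, 71, 118] :=
  C.flip (f16464 C)

theorem f16466 : C.T (v3 C) [19, 42, 57, 87, 105, 109, 112] (v19 C) [17, 44, 60, 75, 100, 125] :=
  C.conv (f15592 C) (f15600 C) (f15600 C) _ [147, 160, 169, 171, 177] _ (by decide +kernel) (by decide +kernel) (by decide +kernel)

theorem f16467 : C.S (v3 C) [23, 36, 66, 83, 90, 109, 121] :=
  C.stMul (f331 C) (f10608 C) _ (by decide +kernel)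

theorem f16468 : C.S (v3 C) [23, 34, 61, 84, 123] :=
  C.stMul (f328 C) (f16467 C) _ (by decide +kernel)

theorem f16469 : C.T (v3 C) [15, 30, 60, 88, 106, 109, 125] (v18 C) [6, 46, 64, 72, 93, 110, 125] :=
  C.conv (f6902 C) (f7285 C) (f16468 C) _ [137, 150, 170, 172, 177] _ (by decide +kernel) (by decide +kernel) (by decide +kernel)

theorem f16470 : C.T (v18 C) [6, 46, 64, 72, 93, 110, 125] (v3 C) [15, 30, 60, 88, 106, 109, 125] :=
  C.flip (f16469 C)

theorem f16471 : C.T (v18 C) [21, 39, 66, 89, 94, 110] (v5 C) [8, 37, 54, 75, 107, 120] :=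
  C.conv (f11167 C) (f6836 C) (f7121 C) _ [139, 153, 164, 176, 178] _ (by decide +kernel) (by decide +kernel) (by decide +kernel)

theorem f16472 : C.T (v5 C) [8, 37, 54, 75, 107, 120] (v18 C) [21, 39, 66, 89, 94, 110] :=
  C.flip (f16471 C)

theorem f16473 : C.T (v19 C) [20, 35, 51, 88, 101, 109, 119] (v5 C) [34, 65, 84, 98, 118] :=
  C.closeT (p := (v3 C)) (pu := [19, 42, 57, 87, 105, 109, 112])
    (C.pT (f16466 C)
    (C.pH [26, 38, 54, 89, 90, 113] [20, 35, 51, 88, 101, 109, 119] (by decide +kernel) (C.pNil _ _)))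
    (C.pH [8, 30, 65, 84, 94, 117] [8, 37, 54, 75, 107, 120] (by decide +kernel)
    (C.pT (f16472 C)
    (C.pH [26, 38, 54, 89, 90, 113] [6, 46, 64, 72, 93, 110, 125] (by decide +kernel)
    (C.pT (f16470 C)
    (C.pH [8, 30, 65, 84, 94, 117] [19, 42, 57, 87, 105, 109, 112] (by decide +kernel) (C.pNil _ _))))))
    (C.loop_of_one (relLoop2 C) _ _)

theorem f16474 : C.T (v5 C) [34, 65, 84, 98, 118] (v19 C) [20, 35, 51, 88, 101, 109, 119] :=
  C.flip (f16473 C)

theorem f16475 : C.T (v3 C) [13, 45, 57, 86, 108, 116] (v19 C) [4, 41, 68, 81, 91, 124] :=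
  C.conv (f15592 C) (f15600 C) (f15600 C) _ [140, 157, 166, 173] _ (by decide +kernel) (by decide +kernel) (by decide +kernel)

theorem f16476 : C.S (v3 C) [16, 46, 65, 76, 99, 109, 118] :=
  C.stMul (f353 C) (f9572 C) _ (by decide +kernel)

theorem f16477 : C.S (v3 C) [5, 44, 52, 88, 93, 109, 113] :=
  C.stMul (f335 C) (f16476 C) _ (by decide +kernel)

theorem f16478 : C.T (v3 C) [6, 53, 83, 105, 125] (v18 C) [19, 43, 64, 76, 105, 110] :=
  C.conv (f8216 C) (f8435 C) (f16477 C) _ [136, 170, 172, 178] _ (by decide +kernel) (by decide +kernel) (by decide +kernel)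

theorem f16479 : C.T (v18 C) [19, 43, 64, 76, 105, 110] (v3 C) [6, 53, 83, 105, 125] :=
  C.flip (f16478 C)

theorem f16480 : C.T (v18 C) [22, 48, 64, 89, 91, 120] (v17 C) [12, 42, 59, 85, 90, 110, 123] :=
  C.conv (f11334 C) (f6836 C) (f7121 C) _ [141, 155, 170, 176, 177] _ (by decide +kernel) (by decide +kernel) (by decide +kernel)

theorem f16481 : C.T (v17 C) [12, 42, 59, 85, 90, 110, 123] (v18 C) [22, 48, 64, 89, 91, 120] :=
  C.flip (f16480 C)

theorem f16482 : C.T (v19 C) [25, 46, 55, 70, 113] (v17 C) [5, 29, 50, 88, 109, 120] :=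
  C.closeT (p := (v3 C)) (pu := [13, 45, 57, 86, 108, 116])
    (C.pT (f16475 C)
    (C.pH [26, 38, 54, 89, 90, 113] [25, 46, 55, 70, 113] (by decide +kernel) (C.pNil _ _)))
    (C.pH [8, 30, 65, 84, 94, 117] [12, 42, 59, 85, 90, 110, 123] (by decide +kernel)
    (C.pT (f16481 C)
    (C.pH [26, 38, 54, 89, 90, 113] [19, 43, 64, 76, 105, 110] (by decide +kernel)
    (C.pT (f16479 C)
    (C.pH [8, 30, 65, 84, 94, 117] [13, 45, 57, 86, 108, 116] (by decide +kernel) (C.pNil _ _))))))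
    (C.loop_of_one (relLoop2 C) _ _)

theorem f16483 : C.T (v17 C) [5, 29, 50, 88, 109, 120] (v19 C) [25, 46, 55, 70, 113] :=
  C.flip (f16482 C)

theorem f16484 : C.T (v3 C) [24, 41, 60, 71, 107, 109, 113] (v19 C) [6, 30, 64, 71, 94, 124] :=
  C.conv (f15592 C) (f15600 C) (f15600 C) _ [145, 152, 164, 171] _ (by decide +kernel) (by decide +kernel) (by decide +kernel)

theorem f16485 : C.S (v3 C) [9, 29, 68, 75, 108, 110, 124] :=
  C.stMul (f335 C) (f328 C) _ (by decide +kernel)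

theorem f16486 : C.S (v3 C) [13, 45, 62, 78, 97, 110, 120] :=
  C.stMul (f328 C) (f16485 C) _ (by decide +kernel)

theorem f16487 : C.S (v3 C) [43, 67, 71, 98, 119] :=
  C.stMul (f335 C) (f16486 C) _ (by decide +kernel)

theorem f16488 : C.T (v3 C) [21, 29, 49, 77, 97, 110, 113] (v17 C) [21, 37, 51, 86, 95, 109, 118] :=
  C.conv (f6814 C) (f7361 C) (f16487 C) _ [147, 157, 167, 171, 177] _ (by decide +kernel) (by decide +kernel) (by decide +kernel)

theorem f16489 : C.T (v17 C) [21, 37, 51, 86, 95, 109, 118] (v3 C) [21, 29, 49, 77, 97, 110, 113] :=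
  C.flip (f16488 C)

theorem f16490 : C.S (v17 C) [23, 31, 75, 92, 109, 116] :=
  C.stMul (f4137 C) (f4132 C) _ (by decide +kernel)

theorem f16491 : C.S (v17 C) [23, 31, 49, 84, 96, 117] :=
  C.stMul (f4137 C) (f4137 C) _ (by decide +kernel)

theorem f16492 : C.T (v17 C) [10, 37, 66, 70, 107, 116] (v18 C) [4, 34, 68, 86, 95, 118] :=
  C.conv (f6993 C) (f16490 C) (f16491 C) _ [127, 161, 165, 171, 178] _ (by decide +kernel) (by decide +kernel) (by decide +kernel)

theorem f16493 : C.T (v18 C) [4, 34, 68, 86, 95, 118] (v17 C) [10, 37, 66, 70, 107, 116] :=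
  C.flip (f16492 C)

theorem f16494 : C.T (v19 C) [4, 38, 66, 86, 99, 109, 125] (v18 C) [18, 41, 64, 85, 90, 125] :=
  C.closeT (p := (v3 C)) (pu := [24, 41, 60, 71, 107, 109, 113])
    (C.pT (f16484 C)
    (C.pH [26, 38, 54, 89, 90, 113] [4, 38, 66, 86, 99, 109, 125] (by decide +kernel) (C.pNil _ _)))
    (C.pH [8, 30, 65, 84, 94, 117] [4, 34, 68, 86, 95, 118] (by decide +kernel)
    (C.pT (f16493 C)
    (C.pH [26, 38, 54, 89, 90, 113] [21, 37, 51, 86, 95, 109, 118] (by decide +kernel)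
    (C.pT (f16489 C)
    (C.pH [8, 30, 65, 84, 94, 117] [24, 41, 60, 71, 107, 109, 113] (by decide +kernel) (C.pNil _ _))))))
    (C.loop_of_one (relLoop2 C) _ _)

theorem f16495 : C.T (v18 C) [18, 41, 64, 85, 90, 125] (v19 C) [4, 38, 66, 86, 99, 109, 125] :=
  C.flip (f16494 C)

theorem f16496 : C.T (v3 C) [8, 30, 54, 76, 97, 114] (v19 C) [26, 37, 59, 76, 101, 110, 114] :=
  C.conv (f15592 C) (f15600 C) (f15600 C) _ [126, 152, 169, 173, 178] _ (by decide +kernel) (by decide +kernel) (by decide +kernel)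

theorem f16497 : C.S (v3 C) [13, 44, 69, 73, 100, 119] :=
  C.stMul (f335 C) (f10018 C) _ (by decide +kernel)

theorem f16498 : C.S (v3 C) [40, 53, 76, 108, 110, 116] :=
  C.stMul (f353 C) (f16497 C) _ (by decide +kernel)

theorem f16499 : C.T (v3 C) [53, 77, 90, 125] (v18 C) [12, 39, 56, 79, 104, 110, 112] :=
  C.conv (f6902 C) (f7285 C) (f16498 C) _ [143, 153, 175, 178] _ (by decide +kernel) (by decide +kernel) (by decide +kernel)

theorem f16500 : C.T (v18 C) [12, 39, 56, 79, 104, 110, 112] (v3 C) [53, 77, 90, 125] :=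
  C.flip (f16499 C)

theorem f16501 : C.S (v18 C) [26, 43, 49, 77, 91, 110, 115] :=
  C.stMul (f6836 C) (f6836 C) _ (by decide +kernel)

theorem f16502 : C.T (v18 C) [24, 56, 80, 90, 110, 112] (v19 C) [5, 35, 63, 88, 106, 110, 117] :=
  C.conv (f16437 C) (f16501 C) (f16501 C) _ [127, 157, 165, 172, 177] _ (by decide +kernel) (by decide +kernel) (by decide +kernel)

theorem f16503 : C.T (v19 C) [5, 35, 63, 88, 106, 110, 117] (v18 C) [24, 56, 80, 90, 110, 112] :=
  C.flip (f16502 C)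

theorem f16504 : C.T (v19 C) [16, 27, 53, 86, 101, 110, 115] (v19 C) [14, 27, 65, 94, 120] :=
  C.closeT (p := (v3 C)) (pu := [8, 30, 54, 76, 97, 114])
    (C.pT (f16496 C)
    (C.pH [26, 38, 54, 89, 90, 113] [16, 27, 53, 86, 101, 110, 115] (by decide +kernel) (C.pNil _ _)))
    (C.pH [8, 30, 65, 84, 94, 117] [5, 35, 63, 88, 106, 110, 117] (by decide +kernel)
    (C.pT (f16503 C)
    (C.pH [26, 38, 54, 89, 90, 113] [12, 39, 56, 79, 104, 110, 112] (by decide +kernel)
    (C.pT (f16500 C)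
    (C.pH [8, 30, 65, 84, 94, 117] [8, 30, 54, 76, 97, 114] (by decide +kernel) (C.pNil _ _))))))
    (C.loop_of_one (relLoop2 C) _ _)

theorem f16505 : C.T (v19 C) [14, 27, 65, 94, 120] (v19 C) [16, 27, 53, 86, 101, 110, 115] :=
  C.flip (f16504 C)

theorem f16506 : C.T (v3 C) [6, 28, 84, 94, 112] (v19 C) [4, 41, 52, 85, 97, 111] :=
  C.conv (f15592 C) (f15600 C) (f15600 C) _ [153, 170, 172] _ (by decide +kernel) (by decide +kernel) (by decide +kernel)

theorem f16507 : C.T (v3 C) [22, 49, 86, 109, 112] (v18 C) [5, 38, 50, 76, 98, 121] :=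
  C.conv (f6888 C) (f7333 C) (f328 C) _ [137, 151, 170, 175] _ (by decide +kernel) (by decide +kernel) (by decide +kernel)

theorem f16508 : C.T (v18 C) [5, 38, 50, 76, 98, 121] (v3 C) [22, 49, 86, 109, 112] :=
  C.flip (f16507 C)

theorem f16509 : C.T (v18 C) [14, 40, 53, 84, 107, 122] (v15 C) [8, 29, 57, 84, 97, 109, 125] :=
  C.conv (f7528 C) (f7121 C) (f7121 C) _ [139, 160, 168, 173, 177] _ (by decide +kernel) (by decide +kernel) (by decide +kernel)

theorem f16510 : C.T (v15 C) [8, 29, 57, 84, 97, 109, 125] (v18 C) [14, 40, 53, 84, 107, 122] :=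
  C.flip (f16509 C)

theorem f16511 : C.T (v19 C) [25, 46, 58, 83, 97, 109, 111] (v15 C) [29, 53, 87, 96, 110, 111] :=
  C.closeT (p := (v3 C)) (pu := [6, 28, 84, 94, 112])
    (C.pT (f16506 C)
    (C.pH [26, 38, 54, 89, 90, 113] [25, 46, 58, 83, 97, 109, 111] (by decide +kernel) (C.pNil _ _)))
    (C.pH [8, 30, 65, 84, 94, 117] [8, 29, 57, 84, 97, 109, 125] (by decide +kernel)
    (C.pT (f16510 C)
    (C.pH [26, 38, 54, 89, 90, 113] [5, 38, 50, 76, 98, 121] (by decide +kernel)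
    (C.pT (f16508 C)
    (C.pH [8, 30, 65, 84, 94, 117] [6, 28, 84, 94, 112] (by decide +kernel) (C.pNil _ _))))))
    (C.loop_of_one (relLoop2 C) _ _)

theorem f16512 : C.T (v15 C) [29, 53, 87, 96, 110, 111] (v19 C) [25, 46, 58, 83, 97, 109, 111] :=
  C.flip (f16511 C)

theorem f16513 : C.T (v3 C) [25, 28, 57, 88, 93, 110, 118] (v19 C) [10, 34, 56, 74, 94, 119] :=
  C.conv (f15592 C) (f15600 C) (f15600 C) _ [137, 162, 170, 175, 177] _ (by decide +kernel) (by decide +kernel) (by decide +kernel)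

theorem f16514 : C.S (v3 C) [12, 47, 57, 74, 97, 110] :=
  C.stMul (f335 C) (f8436 C) _ (by decide +kernel)

theorem f16515 : C.S (v3 C) [25, 41, 58, 92, 119] :=
  C.stMul (f335 C) (f16514 C) _ (by decide +kernel)

theorem f16516 : C.T (v3 C) [4, 31, 56, 85, 99, 109, 119] (v18 C) [22, 38, 63, 71, 95, 110, 118] :=
  C.conv (f8216 C) (f8435 C) (f16515 C) _ [149, 165, 171] _ (by decide +kernel) (by decide +kernel) (by decide +kernel)

theorem f16517 : C.T (v18 C) [22, 38, 63, 71, 95, 110, 118] (v3 C) [4, 31, 56, 85, 99, 109, 119] :=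
  C.flip (f16516 C)

theorem f16518 : C.S (v18 C) [26, 43, 49, 77, 91, 110, 115] :=
  C.stMul (f6836 C) (f6836 C) _ (by decide +kernel)

theorem f16519 : C.T (v18 C) [9, 36, 55, 74, 107, 109, 119] (v16 C) [18, 48, 61, 89, 90, 119] :=
  C.conv (f8914 C) (f16518 C) (f16518 C) _ [135, 149, 173, 178] _ (by decide +kernel) (by decide +kernel) (by decide +kernel)

theorem f16520 : C.T (v16 C) [18, 48, 61, 89, 90, 119] (v18 C) [9, 36, 55, 74, 107, 109, 119] :=
  C.flip (f16519 C)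

theorem f16521 : C.T (v19 C) [21, 41, 68, 73, 104, 110, 125] (v16 C) [9, 41, 68, 73, 99, 109, 114] :=
  C.closeT (p := (v3 C)) (pu := [25, 28, 57, 88, 93, 110, 118])
    (C.pT (f16513 C)
    (C.pH [26, 38, 54, 89, 90, 113] [21, 41, 68, 73, 104, 110, 125] (by decide +kernel) (C.pNil _ _)))
    (C.pH [8, 30, 65, 84, 94, 117] [18, 48, 61, 89, 90, 119] (by decide +kernel)
    (C.pT (f16520 C)
    (C.pH [26, 38, 54, 89, 90, 113] [22, 38, 63, 71, 95, 110, 118] (by decide +kernel)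
    (C.pT (f16517 C)
    (C.pH [8, 30, 65, 84, 94, 117] [25, 28, 57, 88, 93, 110, 118] (by decide +kernel) (C.pNil _ _))))))
    (C.loop_of_one (relLoop2 C) _ _)

theorem f16522 : C.T (v16 C) [9, 41, 68, 73, 99, 109, 114] (v19 C) [21, 41, 68, 73, 104, 110, 125] :=
  C.flip (f16521 C)

theorem f16523 : C.T (v3 C) [21, 45, 68, 108, 109, 122] (v19 C) [25, 31, 64, 83, 110, 112] :=
  C.conv (f15592 C) (f15600 C) (f15600 C) _ [141, 150, 164, 174, 178] _ (by decide +kernel) (by decide +kernel) (by decide +kernel)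

theorem f16524 : C.S (v3 C) [9, 29, 68, 75, 108, 110, 124] :=
  C.stMul (f335 C) (f328 C) _ (by decide +kernel)

theorem f16525 : C.S (v3 C) [15, 38, 55, 77, 98, 114] :=
  C.stMul (f331 C) (f16524 C) _ (by decide +kernel)

theorem f16526 : C.S (v3 C) [8, 27, 64, 80, 97, 109, 113] :=
  C.stMul (f353 C) (f16525 C) _ (by decide +kernel)

theorem f16527 : C.T (v3 C) [12, 48, 61, 70, 120] (v4 C) [17, 37, 52, 87, 103, 110, 114] :=
  C.conv (f841 C) (f926 C) (f16526 C) _ [142, 158, 164] _ (by decide +kernel) (by decide +kernel) (by decide +kernel)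

theorem f16528 : C.T (v4 C) [17, 37, 52, 87, 103, 110, 114] (v3 C) [12, 48, 61, 70, 120] :=
  C.flip (f16527 C)

theorem f16529 : C.T (v4 C) [19, 59, 78, 101, 109, 119] (v18 C) [11, 47, 69, 88, 99, 109, 117] :=
  C.conv (f8315 C) (f8537 C) (f13817 C) _ [132, 157, 169, 172, 178] _ (by decide +kernel) (by decide +kernel) (by decide +kernel)

theorem f16530 : C.T (v18 C) [11, 47, 69, 88, 99, 109, 117] (v4 C) [19, 59, 78, 101, 109, 119] :=
  C.flip (f16529 C)

theorem f16531 : C.T (v19 C) [18, 27, 60, 70, 105, 109, 117] (v18 C) [13, 35, 59, 84, 96, 110, 114] :=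
  C.closeT (p := (v3 C)) (pu := [21, 45, 68, 108, 109, 122])
    (C.pT (f16523 C)
    (C.pH [26, 38, 54, 89, 90, 113] [18, 27, 60, 70, 105, 109, 117] (by decide +kernel) (C.pNil _ _)))
    (C.pH [8, 30, 65, 84, 94, 117] [11, 47, 69, 88, 99, 109, 117] (by decide +kernel)
    (C.pT (f16530 C)
    (C.pH [26, 38, 54, 89, 90, 113] [17, 37, 52, 87, 103, 110, 114] (by decide +kernel)
    (C.pT (f16528 C)
    (C.pH [8, 30, 65, 84, 94, 117] [21, 45, 68, 108, 109, 122] (by decide +kernel) (C.pNil _ _))))))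
    (C.loop_of_one (relLoop2 C) _ _)

theorem f16532 : C.T (v18 C) [13, 35, 59, 84, 96, 110, 114] (v19 C) [18, 27, 60, 70, 105, 109, 117] :=
  C.flip (f16531 C)

theorem f16533 : C.T (v3 C) [18, 88, 102, 119] (v19 C) [12, 41, 59, 89, 94] :=
  C.conv (f15592 C) (f15600 C) (f15600 C) _ [139, 150, 172, 177] _ (by decide +kernel) (by decide +kernel) (by decide +kernel)

theorem f16534 : C.S (v3 C) [20, 30, 59, 75, 96, 110, 111] :=
  C.stMul (f353 C) (f12368 C) _ (by decide +kernel)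

theorem f16535 : C.S (v3 C) [18, 42, 59, 74, 99, 110, 112] :=
  C.stMul (f331 C) (f16534 C) _ (by decide +kernel)

theorem f16536 : C.S (v3 C) [6, 30, 52, 70, 107, 110, 116] :=
  C.stMul (f335 C) (f16535 C) _ (by decide +kernel)

theorem f16537 : C.T (v3 C) [9, 43, 49, 94, 109, 114] (v18 C) [12, 32, 56, 80, 102, 109, 116] :=
  C.conv (f9432 C) (f9640 C) (f16536 C) _ [143, 150, 170, 175, 178] _ (by decide +kernel) (by decide +kernel) (by decide +kernel)

theorem f16538 : C.T (v18 C) [12, 32, 56, 80, 102, 109, 116] (v3 C) [9, 43, 49, 94, 109, 114] :=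
  C.flip (f16537 C)

theorem f16539 : C.T (v18 C) [24, 36, 61, 84, 110, 114] (v18 C) [20, 48, 51, 77, 104, 110, 123] :=
  C.conv (f7244 C) (f6836 C) (f7121 C) _ [147, 161, 174, 177] _ (by decide +kernel) (by decide +kernel) (by decide +kernel)

theorem f16540 : C.T (v18 C) [20, 48, 51, 77, 104, 110, 123] (v18 C) [24, 36, 61, 84, 110, 114] :=
  C.flip (f16539 C)

theorem f16541 : C.T (v19 C) [14, 46, 54, 86, 100, 111] (v18 C) [16, 52, 78, 110, 121] :=
  C.closeT (p := (v3 C)) (pu := [18, 88, 102, 119])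
    (C.pT (f16533 C)
    (C.pH [26, 38, 54, 89, 90, 113] [14, 46, 54, 86, 100, 111] (by decide +kernel) (C.pNil _ _)))
    (C.pH [8, 30, 65, 84, 94, 117] [20, 48, 51, 77, 104, 110, 123] (by decide +kernel)
    (C.pT (f16540 C)
    (C.pH [26, 38, 54, 89, 90, 113] [12, 32, 56, 80, 102, 109, 116] (by decide +kernel)
    (C.pT (f16538 C)
    (C.pH [8, 30, 65, 84, 94, 117] [18, 88, 102, 119] (by decide +kernel) (C.pNil _ _))))))
    (C.loop_of_one (relLoop2 C) _ _)

theorem f16542 : C.T (v18 C) [16, 52, 78, 110, 121] (v19 C) [14, 46, 54, 86, 100, 111] :=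
  C.flip (f16541 C)

theorem f16543 : C.T (v3 C) [5, 43, 55, 80, 101, 122] (v19 C) [8, 32, 65, 80, 101, 110, 125] :=
  C.conv (f15592 C) (f15600 C) (f15600 C) _ [144, 152, 167, 171, 178] _ (by decide +kernel) (by decide +kernel) (by decide +kernel)

theorem f16544 : C.T (v3 C) [14, 44, 62, 72, 105, 122] (v18 C) [16, 44, 59, 72, 99, 114] :=
  C.conv (f6888 C) (f7333 C) (f11581 C) _ [148, 150, 167, 176, 177] _ (by decide +kernel) (by decide +kernel) (by decide +kernel)

theorem f16545 : C.T (v18 C) [16, 44, 59, 72, 99, 114] (v3 C) [14, 44, 62, 72, 105, 122] :=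
  C.flip (f16544 C)

theorem f16546 : C.T (v18 C) [26, 39, 60, 99, 110, 116] (v16 C) [9, 50, 71, 95, 109, 125] :=
  C.conv (f13687 C) (f6836 C) (f6836 C) _ [163, 168, 173] _ (by decide +kernel) (by decide +kernel) (by decide +kernel)

theorem f16547 : C.T (v16 C) [9, 50, 71, 95, 109, 125] (v18 C) [26, 39, 60, 99, 110, 116] :=
  C.flip (f16546 C)

theorem f16548 : C.T (v19 C) [11, 30, 53, 89, 96, 110] (v16 C) [25, 28, 64, 86, 97, 109, 125] :=
  C.closeT (p := (v3 C)) (pu := [5, 43, 55, 80, 101, 122])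
    (C.pT (f16543 C)
    (C.pH [26, 38, 54, 89, 90, 113] [11, 30, 53, 89, 96, 110] (by decide +kernel) (C.pNil _ _)))
    (C.pH [8, 30, 65, 84, 94, 117] [9, 50, 71, 95, 109, 125] (by decide +kernel)
    (C.pT (f16547 C)
    (C.pH [26, 38, 54, 89, 90, 113] [16, 44, 59, 72, 99, 114] (by decide +kernel)
    (C.pT (f16545 C)
    (C.pH [8, 30, 65, 84, 94, 117] [5, 43, 55, 80, 101, 122] (by decide +kernel) (C.pNil _ _))))))
    (C.loop_of_one (relLoop2 C) _ _)

theorem f16549 : C.T (v16 C) [25, 28, 64, 86, 97, 109, 125] (v19 C) [11, 30, 53, 89, 96, 110] :=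
  C.flip (f16548 C)

theorem f16550 : C.T (v3 C) [23, 46, 52, 76, 109, 119] (v19 C) [7, 36, 54, 87, 97, 109, 122] :=
  C.conv (f15592 C) (f15600 C) (f15600 C) _ [137, 151, 168, 176, 178] _ (by decide +kernel) (by decide +kernel) (by decide +kernel)

theorem f16551 : C.T (v3 C) [20, 33, 67, 87, 91, 122] (v17 C) [19, 42, 58, 71, 106, 109, 124] :=
  C.conv (f6814 C) (f7361 C) (f13192 C) _ [130, 157, 165, 172, 177] _ (by decide +kernel) (by decide +kernel) (by decide +kernel)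

theorem f16552 : C.T (v17 C) [19, 42, 58, 71, 106, 109, 124] (v3 C) [20, 33, 67, 87, 91, 122] :=
  C.flip (f16551 C)

theorem f16553 : C.S (v17 C) [51, 81, 96, 109, 125] :=
  C.stMul (f4132 C) (f4137 C) _ (by decide +kernel)

theorem f16554 : C.S (v17 C) [23, 31, 49, 84, 96, 117] :=
  C.stMul (f4137 C) (f4137 C) _ (by decide +kernel)

theorem f16555 : C.T (v17 C) [22, 47, 58, 75, 100, 109, 121] (v18 C) [20, 40, 50, 70, 106, 109, 122] :=
  C.conv (f9587 C) (f16553 C) (f16554 C) _ [147, 156, 165, 178] _ (by decide +kernel) (by decide +kernel) (by decide +kernel)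

theorem f16556 : C.T (v18 C) [20, 40, 50, 70, 106, 109, 122] (v17 C) [22, 47, 58, 75, 100, 109, 121] :=
  C.flip (f16555 C)

theorem f16557 : C.T (v19 C) [32, 66, 71, 97, 110, 111] (v18 C) [16, 32, 75, 108, 109, 124] :=
  C.closeT (p := (v3 C)) (pu := [23, 46, 52, 76, 109, 119])
    (C.pT (f16550 C)
    (C.pH [26, 38, 54, 89, 90, 113] [32, 66, 71, 97, 110, 111] (by decide +kernel) (C.pNil _ _)))
    (C.pH [8, 30, 65, 84, 94, 117] [20, 40, 50, 70, 106, 109, 122] (by decide +kernel)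
    (C.pT (f16556 C)
    (C.pH [26, 38, 54, 89, 90, 113] [19, 42, 58, 71, 106, 109, 124] (by decide +kernel)
    (C.pT (f16552 C)
    (C.pH [8, 30, 65, 84, 94, 117] [23, 46, 52, 76, 109, 119] (by decide +kernel) (C.pNil _ _))))))
    (C.loop_of_one (relLoop2 C) _ _)

theorem f16558 : C.T (v18 C) [16, 32, 75, 108, 109, 124] (v19 C) [32, 66, 71, 97, 110, 111] :=
  C.flip (f16557 C)

theorem f16559 : C.T (v3 C) [4, 60, 83, 101, 119] (v19 C) [24, 34, 49, 80, 107, 111] :=
  C.conv (f15592 C) (f15600 C) (f15600 C) _ [137, 162, 164, 175, 177] _ (by decide +kernel) (by decide +kernel) (by decide +kernel)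

theorem f16560 : C.S (v3 C) [19, 30, 60, 72, 107, 110, 116] :=
  C.stMul (f331 C) (f335 C) _ (by decide +kernel)

theorem f16561 : C.S (v3 C) [26, 29, 49, 97, 123] :=
  C.stMul (f335 C) (f16560 C) _ (by decide +kernel)

theorem f16562 : C.S (v3 C) [4, 30, 49, 89, 105, 125] :=
  C.stMul (f353 C) (f16561 C) _ (by decide +kernel)

theorem f16563 : C.T (v3 C) [18, 30, 52, 73, 101, 109, 119] (v18 C) [16, 67, 74, 95, 124] :=
  C.conv (f6902 C) (f7285 C) (f16562 C) _ [147, 160, 167, 171, 177] _ (by decide +kernel) (by decide +kernel) (by decide +kernel)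

theorem f16564 : C.T (v18 C) [16, 67, 74, 95, 124] (v3 C) [18, 30, 52, 73, 101, 109, 119] :=
  C.flip (f16563 C)

theorem f16565 : C.S (v18 C) [26, 43, 49, 77, 91, 110, 115] :=
  C.stMul (f6836 C) (f6836 C) _ (by decide +kernel)

theorem f16566 : C.T (v18 C) [26, 29, 55, 80, 115] (v16 C) [22, 27, 56, 77, 106, 109, 122] :=
  C.conv (f11244 C) (f16565 C) (f7121 C) _ [128, 158, 166, 175] _ (by decide +kernel) (by decide +kernel) (by decide +kernel)

theorem f16567 : C.T (v16 C) [22, 27, 56, 77, 106, 109, 122] (v18 C) [26, 29, 55, 80, 115] :=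
  C.flip (f16566 C)

theorem f16568 : C.T (v19 C) [12, 29, 55, 72, 98, 110] (v16 C) [17, 38, 57, 84, 94, 117] :=
  C.closeT (p := (v3 C)) (pu := [4, 60, 83, 101, 119])
    (C.pT (f16559 C)
    (C.pH [26, 38, 54, 89, 90, 113] [12, 29, 55, 72, 98, 110] (by decide +kernel) (C.pNil _ _)))
    (C.pH [8, 30, 65, 84, 94, 117] [22, 27, 56, 77, 106, 109, 122] (by decide +kernel)
    (C.pT (f16567 C)
    (C.pH [26, 38, 54, 89, 90, 113] [16, 67, 74, 95, 124] (by decide +kernel)
    (C.pT (f16564 C)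
    (C.pH [8, 30, 65, 84, 94, 117] [4, 60, 83, 101, 119] (by decide +kernel) (C.pNil _ _))))))
    (C.loop_of_one (relLoop2 C) _ _)

theorem f16569 : C.T (v16 C) [17, 38, 57, 84, 94, 117] (v19 C) [12, 29, 55, 72, 98, 110] :=
  C.flip (f16568 C)

theorem f16570 : C.T (v3 C) [17, 27, 68, 76, 94, 110, 116] (v19 C) [9, 33, 61, 82, 102, 110, 125] :=
  C.conv (f15701 C) (f15714 C) (f15714 C) _ [141, 157, 168, 178] _ (by decide +kernel) (by decide +kernel) (by decide +kernel)

theorem f16571 : C.S (v19 C) [15, 28, 51, 80, 97, 111] :=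
  C.stMul (f15540 C) (f15685 C) _ (by decide +kernel)

theorem f16572 : C.S (v19 C) [14, 48, 63, 79, 95, 109, 112] :=
  C.stMul (f15843 C) (f15843 C) _ (by decide +kernel)

theorem f16573 : C.S (v19 C) [14, 41, 56, 81, 94, 110, 124] :=
  C.stMul (f15685 C) (f16572 C) _ (by decide +kernel)

theorem f16574 : C.T (v19 C) [22, 45, 59, 88, 107, 109, 116] (v18 C) [8, 53, 89, 97, 109, 111] :=
  C.conv (f16258 C) (f16571 C) (f16573 C) _ [135, 158, 164, 175, 177] _ (by decide +kernel) (by decide +kernel) (by decide +kernel)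

theorem f16575 : C.T (v3 C) [7, 36, 62, 87, 104, 110, 119] (v19 C) [18, 42, 64, 73, 100, 110, 116] :=
  C.conv (f15592 C) (f15600 C) (f16016 C) _ [130, 150, 168, 178] _ (by decide +kernel) (by decide +kernel) (by decide +kernel)

theorem f16576 : C.T (v19 C) [18, 42, 64, 73, 100, 110, 116] (v3 C) [7, 36, 62, 87, 104, 110, 119] :=
  C.flip (f16575 C)

theorem f16577 : C.T (v18 C) [28, 60, 84, 102, 117] (v19 C) [25, 35, 57, 73, 103, 110, 112] :=
  C.closeT (p := (v3 C)) (pu := [17, 27, 68, 76, 94, 110, 116])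
    (C.pT (f16570 C)
    (C.pH [26, 38, 54, 89, 90, 113] [22, 45, 59, 88, 107, 109, 116] (by decide +kernel)
    (C.pT (f16574 C)
    (C.pH [8, 30, 65, 84, 94, 117] [28, 60, 84, 102, 117] (by decide +kernel) (C.pNil _ _)))))
    (C.pH [26, 38, 54, 89, 90, 113] [18, 42, 64, 73, 100, 110, 116] (by decide +kernel)
    (C.pT (f16576 C)
    (C.pH [8, 30, 65, 84, 94, 117] [17, 27, 68, 76, 94, 110, 116] (by decide +kernel) (C.pNil _ _))))
    (C.loop_of_one (relLoop2 C) _ _)

theorem f16578 : C.T (v19 C) [25, 35, 57, 73, 103, 110, 112] (v18 C) [28, 60, 84, 102, 117] :=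
  C.flip (f16577 C)

theorem f16579 : C.T (v3 C) [8, 44, 63, 80, 105, 110, 115] (v19 C) [22, 42, 55, 71, 98, 109, 113] :=
  C.conv (f15701 C) (f15714 C) (f15714 C) _ [139, 159, 166, 172] _ (by decide +kernel) (by decide +kernel) (by decide +kernel)

theorem f16580 : C.S (v3 C) [6, 48, 60, 87, 90, 109, 119] :=
  C.stMul (f331 C) (f8438 C) _ (by decide +kernel)

theorem f16581 : C.T (v3 C) [33, 58, 107, 118] (v18 C) [26, 31, 59, 75, 100, 115] :=
  C.conv (f8216 C) (f8435 C) (f16580 C) _ [127, 160, 173, 177] _ (by decide +kernel) (by decide +kernel) (by decide +kernel)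

theorem f16582 : C.T (v18 C) [26, 31, 59, 75, 100, 115] (v3 C) [33, 58, 107, 118] :=
  C.flip (f16581 C)

theorem f16583 : C.T (v18 C) [28, 58, 87, 96, 110, 115] (v18 C) [5, 48, 52, 85, 105, 110, 111] :=
  C.conv (f9844 C) (f6836 C) (f7121 C) _ [142, 159, 169, 174] _ (by decide +kernel) (by decide +kernel) (by decide +kernel)

theorem f16584 : C.T (v18 C) [5, 48, 52, 85, 105, 110, 111] (v18 C) [28, 58, 87, 96, 110, 115] :=
  C.flip (f16583 C)

theorem f16585 : C.T (v19 C) [19, 39, 57, 75, 90, 109, 118] (v18 C) [14, 37, 59, 82, 110, 120] :=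
  C.closeT (p := (v3 C)) (pu := [8, 44, 63, 80, 105, 110, 115])
    (C.pT (f16579 C)
    (C.pH [26, 38, 54, 89, 90, 113] [19, 39, 57, 75, 90, 109, 118] (by decide +kernel) (C.pNil _ _)))
    (C.pH [8, 30, 65, 84, 94, 117] [5, 48, 52, 85, 105, 110, 111] (by decide +kernel)
    (C.pT (f16584 C)
    (C.pH [26, 38, 54, 89, 90, 113] [26, 31, 59, 75, 100, 115] (by decide +kernel)
    (C.pT (f16582 C)
    (C.pH [8, 30, 65, 84, 94, 117] [8, 44, 63, 80, 105, 110, 115] (by decide +kernel) (C.pNil _ _))))))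
    (C.loop_of_one (relLoop2 C) _ _)

theorem f16586 : C.T (v18 C) [14, 37, 59, 82, 110, 120] (v19 C) [19, 39, 57, 75, 90, 109, 118] :=
  C.flip (f16585 C)

theorem f16587 : C.T (v3 C) [18, 40, 65, 86, 105, 109, 117] (v19 C) [5, 48, 55, 84, 108, 109, 123] :=
  C.conv (f15701 C) (f15714 C) (f15714 C) _ [133, 153, 164, 174] _ (by decide +kernel) (by decide +kernel) (by decide +kernel)

theorem f16588 : C.T (v3 C) [9, 28, 49, 82, 105, 109, 115] (v17 C) [10, 28, 55, 87, 97, 110, 114] :=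
  C.conv (f6814 C) (f7361 C) (f13074 C) _ [126, 159, 165, 172, 178] _ (by decide +kernel) (by decide +kernel) (by decide +kernel)

theorem f16589 : C.T (v17 C) [10, 28, 55, 87, 97, 110, 114] (v3 C) [9, 28, 49, 82, 105, 109, 115] :=
  C.flip (f16588 C)

theorem f16590 : C.T (v17 C) [18, 47, 68, 75, 93, 116] (v17 C) [10, 28, 62, 89, 105, 110, 123] :=
  C.conv (f6499 C) (f4300 C) (f4132 C) _ [142, 163, 167, 176, 178] _ (by decide +kernel) (by decide +kernel) (by decide +kernel)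

theorem f16591 : C.T (v17 C) [10, 28, 62, 89, 105, 110, 123] (v17 C) [18, 47, 68, 75, 93, 116] :=
  C.flip (f16590 C)

theorem f16592 : C.T (v19 C) [8, 28, 50, 70, 105, 110, 119] (v17 C) [23, 50, 84, 93, 109, 124] :=
  C.closeT (p := (v3 C)) (pu := [18, 40, 65, 86, 105, 109, 117])
    (C.pT (f16587 C)
    (C.pH [26, 38, 54, 89, 90, 113] [8, 28, 50, 70, 105, 110, 119] (by decide +kernel) (C.pNil _ _)))
    (C.pH [8, 30, 65, 84, 94, 117] [10, 28, 62, 89, 105, 110, 123] (by decide +kernel)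
    (C.pT (f16591 C)
    (C.pH [26, 38, 54, 89, 90, 113] [10, 28, 55, 87, 97, 110, 114] (by decide +kernel)
    (C.pT (f16589 C)
    (C.pH [8, 30, 65, 84, 94, 117] [18, 40, 65, 86, 105, 109, 117] (by decide +kernel) (C.pNil _ _))))))
    (C.loop_of_one (relLoop2 C) _ _)

theorem f16593 : C.T (v17 C) [23, 50, 84, 93, 109, 124] (v19 C) [8, 28, 50, 70, 105, 110, 119] :=
  C.flip (f16592 C)

theorem f16594 : C.T (v3 C) [21, 35, 50, 80, 100, 110, 114] (v19 C) [16, 47, 65, 80, 93, 109, 118] :=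
  C.conv (f15701 C) (f15714 C) (f15714 C) _ [146, 160, 164, 174, 177] _ (by decide +kernel) (by decide +kernel) (by decide +kernel)

theorem f16595 : C.S (v3 C) [22, 48, 51, 106, 122] :=
  C.stMul (f331 C) (f9192 C) _ (by decide +kernel)

theorem f16596 : C.S (v3 C) [22, 31, 56, 81, 104, 113] :=
  C.stMul (f328 C) (f16595 C) _ (by decide +kernel)

theorem f16597 : C.T (v3 C) [12, 34, 66, 78, 99, 109] (v18 C) [13, 43, 69, 76, 110, 123] :=
  C.conv (f8216 C) (f8435 C) (f16596 C) _ [132, 152, 165, 172, 178] _ (by decide +kernel) (by decide +kernel) (by decide +kernel)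

theorem f16598 : C.T (v18 C) [13, 43, 69, 76, 110, 123] (v3 C) [12, 34, 66, 78, 99, 109] :=
  C.flip (f16597 C)

theorem f16599 : C.S (v18 C) [26, 43, 49, 77, 91, 110, 115] :=
  C.stMul (f6836 C) (f6836 C) _ (by decide +kernel)

theorem f16600 : C.T (v18 C) [16, 41, 49, 77, 107, 109, 114] (v18 C) [10, 33, 68, 76, 98, 110, 111] :=
  C.conv (f12353 C) (f16599 C) (f6836 C) _ [143, 152, 166, 171, 177] _ (by decide +kernel) (by decide +kernel) (by decide +kernel)

theorem f16601 : C.T (v18 C) [10, 33, 68, 76, 98, 110, 111] (v18 C) [16, 41, 49, 77, 107, 109, 114] :=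
  C.flip (f16600 C)

theorem f16602 : C.T (v19 C) [13, 27, 68, 75, 96, 110, 122] (v18 C) [23, 32, 61, 70, 98, 110, 120] :=
  C.closeT (p := (v3 C)) (pu := [21, 35, 50, 80, 100, 110, 114])
    (C.pT (f16594 C)
    (C.pH [26, 38, 54, 89, 90, 113] [13, 27, 68, 75, 96, 110, 122] (by decide +kernel) (C.pNil _ _)))
    (C.pH [8, 30, 65, 84, 94, 117] [10, 33, 68, 76, 98, 110, 111] (by decide +kernel)
    (C.pT (f16601 C)
    (C.pH [26, 38, 54, 89, 90, 113] [13, 43, 69, 76, 110, 123] (by decide +kernel)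
    (C.pT (f16598 C)
    (C.pH [8, 30, 65, 84, 94, 117] [21, 35, 50, 80, 100, 110, 114] (by decide +kernel) (C.pNil _ _))))))
    (C.loop_of_one (relLoop2 C) _ _)

theorem f16603 : C.T (v18 C) [23, 32, 61, 70, 98, 110, 120] (v19 C) [13, 27, 68, 75, 96, 110, 122] :=
  C.flip (f16602 C)

theorem f16604 : C.T (v3 C) [5, 27, 54, 84, 90, 110, 112] (v19 C) [21, 40, 57, 86, 91, 109, 124] :=
  C.conv (f15701 C) (f15714 C) (f15714 C) _ [136, 162, 170, 173] _ (by decide +kernel) (by decide +kernel) (by decide +kernel)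

theorem f16605 : C.S (v3 C) [10, 28, 62, 78, 98, 110, 120] :=
  C.stMul (f328 C) (f335 C) _ (by decide +kernel)

theorem f16606 : C.S (v3 C) [20, 30, 59, 75, 96, 110, 111] :=
  C.stMul (f353 C) (f16605 C) _ (by decide +kernel)

theorem f16607 : C.T (v3 C) [14, 38, 69, 71, 101, 114] (v4 C) [20, 32, 61, 70, 95, 109, 118] :=
  C.conv (f808 C) (f938 C) (f16606 C) _ [145, 154, 170, 176] _ (by decide +kernel) (by decide +kernel) (by decide +kernel)

theorem f16608 : C.T (v4 C) [20, 32, 61, 70, 95, 109, 118] (v3 C) [14, 38, 69, 71, 101, 114] :=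
  C.flip (f16607 C)

theorem f16609 : C.T (v4 C) [17, 40, 67, 77, 96, 109, 115] (v18 C) [13, 39, 64, 89, 107, 109, 118] :=
  C.conv (f7487 C) (f8474 C) (f693 C) _ [139, 160, 166, 178] _ (by decide +kernel) (by decide +kernel) (by decide +kernel)

theorem f16610 : C.T (v18 C) [13, 39, 64, 89, 107, 109, 118] (v4 C) [17, 40, 67, 77, 96, 109, 115] :=
  C.flip (f16609 C)

theorem f16611 : C.T (v19 C) [6, 30, 56, 78, 103, 110, 116] (v18 C) [6, 36, 62, 80, 92, 111] :=
  C.closeT (p := (v3 C)) (pu := [5, 27, 54, 84, 90, 110, 112])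
    (C.pT (f16604 C)
    (C.pH [26, 38, 54, 89, 90, 113] [6, 30, 56, 78, 103, 110, 116] (by decide +kernel) (C.pNil _ _)))
    (C.pH [8, 30, 65, 84, 94, 117] [13, 39, 64, 89, 107, 109, 118] (by decide +kernel)
    (C.pT (f16610 C)
    (C.pH [26, 38, 54, 89, 90, 113] [20, 32, 61, 70, 95, 109, 118] (by decide +kernel)
    (C.pT (f16608 C)
    (C.pH [8, 30, 65, 84, 94, 117] [5, 27, 54, 84, 90, 110, 112] (by decide +kernel) (C.pNil _ _))))))
    (C.loop_of_one (relLoop2 C) _ _)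

theorem f16612 : C.T (v18 C) [6, 36, 62, 80, 92, 111] (v19 C) [6, 30, 56, 78, 103, 110, 116] :=
  C.flip (f16611 C)

theorem f16613 : C.T (v3 C) [13, 40, 60, 70, 118] (v19 C) [22, 38, 52, 71, 92, 113] :=
  C.conv (f15701 C) (f15714 C) (f15714 C) _ [132, 151, 172] _ (by decide +kernel) (by decide +kernel) (by decide +kernel)

theorem f16614 : C.T (v3 C) [6, 42, 61, 80, 94, 110, 120] (v18 C) [21, 47, 66, 83, 95, 118] :=
  C.conv (f6916 C) (f7402 C) (f12857 C) _ [137, 156, 168, 175, 178] _ (by decide +kernel) (by decide +kernel) (by decide +kernel)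

theorem f16615 : C.T (v18 C) [21, 47, 66, 83, 95, 118] (v3 C) [6, 42, 61, 80, 94, 110, 120] :=
  C.flip (f16614 C)

theorem f16616 : C.T (v18 C) [10, 48, 63, 79, 93, 109, 118] (v17 C) [12, 48, 50, 79, 108, 123] :=
  C.conv (f13131 C) (f7121 C) (f7121 C) _ [131, 161, 167, 178] _ (by decide +kernel) (by decide +kernel) (by decide +kernel)

theorem f16617 : C.T (v17 C) [12, 48, 50, 79, 108, 123] (v18 C) [10, 48, 63, 79, 93, 109, 118] :=
  C.flip (f16616 C)

theorem f16618 : C.T (v19 C) [19, 44, 58, 82, 90, 109, 120] (v17 C) [5, 40, 67, 81, 105, 109, 112] :=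
  C.closeT (p := (v3 C)) (pu := [13, 40, 60, 70, 118])
    (C.pT (f16613 C)
    (C.pH [26, 38, 54, 89, 90, 113] [19, 44, 58, 82, 90, 109, 120] (by decide +kernel) (C.pNil _ _)))
    (C.pH [8, 30, 65, 84, 94, 117] [12, 48, 50, 79, 108, 123] (by decide +kernel)
    (C.pT (f16617 C)
    (C.pH [26, 38, 54, 89, 90, 113] [21, 47, 66, 83, 95, 118] (by decide +kernel)
    (C.pT (f16615 C)
    (C.pH [8, 30, 65, 84, 94, 117] [13, 40, 60, 70, 118] (by decide +kernel) (C.pNil _ _))))))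
    (C.loop_of_one (relLoop2 C) _ _)

theorem f16619 : C.T (v17 C) [5, 40, 67, 81, 105, 109, 112] (v19 C) [19, 44, 58, 82, 90, 109, 120] :=
  C.flip (f16618 C)

theorem f16620 : C.T (v3 C) [18, 46, 63, 100, 109, 124] (v19 C) [6, 46, 52, 82, 100, 122] :=
  C.conv (f15701 C) (f15714 C) (f15714 C) _ [129, 158, 168, 173, 178] _ (by decide +kernel) (by decide +kernel) (by decide +kernel)

theorem f16621 : C.S (v3 C) [23, 36, 66, 83, 90, 109, 121] :=
  C.stMul (f331 C) (f10735 C) _ (by decide +kernel)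

theorem f16622 : C.S (v3 C) [21, 44, 64, 87, 90, 109, 119] :=
  C.stMul (f335 C) (f16621 C) _ (by decide +kernel)

theorem f16623 : C.T (v3 C) [9, 44, 63, 78, 96, 110, 122] (v15 C) [20, 38, 54, 78, 93, 110, 121] :=
  C.conv (f3166 C) (f3236 C) (f16622 C) _ [147, 163, 166, 175, 177] _ (by decide +kernel) (by decide +kernel) (by decide +kernel)

theorem f16624 : C.T (v15 C) [20, 38, 54, 78, 93, 110, 121] (v3 C) [9, 44, 63, 78, 96, 110, 122] :=
  C.flip (f16623 C)

theorem f16625 : C.T (v15 C) [17, 46, 66, 87, 107, 118] (v10 C) [4, 47, 61, 82, 96, 110, 116] :=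
  C.conv (f3117 C) (f2652 C) (f2569 C) _ [138, 162, 165, 178] _ (by decide +kernel) (by decide +kernel) (by decide +kernel)

theorem f16626 : C.T (v10 C) [4, 47, 61, 82, 96, 110, 116] (v15 C) [17, 46, 66, 87, 107, 118] :=
  C.flip (f16625 C)

theorem f16627 : C.T (v19 C) [4, 34, 53, 73, 97, 110, 115] (v10 C) [18, 53, 72, 90, 109, 125] :=
  C.closeT (p := (v3 C)) (pu := [18, 46, 63, 100, 109, 124])
    (C.pT (f16620 C)
    (C.pH [26, 38, 54, 89, 90, 113] [4, 34, 53, 73, 97, 110, 115] (by decide +kernel) (C.pNil _ _)))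
    (C.pH [8, 30, 65, 84, 94, 117] [4, 47, 61, 82, 96, 110, 116] (by decide +kernel)
    (C.pT (f16626 C)
    (C.pH [26, 38, 54, 89, 90, 113] [20, 38, 54, 78, 93, 110, 121] (by decide +kernel)
    (C.pT (f16624 C)
    (C.pH [8, 30, 65, 84, 94, 117] [18, 46, 63, 100, 109, 124] (by decide +kernel) (C.pNil _ _))))))
    (C.loop_of_one (relLoop2 C) _ _)

theorem f16628 : C.T (v10 C) [18, 53, 72, 90, 109, 125] (v19 C) [4, 34, 53, 73, 97, 110, 115] :=
  C.flip (f16627 C)

theorem f16629 : C.T (v3 C) [13, 38, 52, 74, 120] (v19 C) [11, 45, 49, 77, 103, 109, 115] :=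
  C.conv (f15701 C) (f15714 C) (f15714 C) _ [147, 154, 168, 176, 178] _ (by decide +kernel) (by decide +kernel) (by decide +kernel)

theorem f16630 : C.T (v3 C) [6, 37, 68, 85, 104, 110, 117] (v18 C) [8, 39, 65, 79, 103, 110, 119] :=
  C.conv (f8216 C) (f8435 C) (f9434 C) _ [141, 149, 170, 175, 177] _ (by decide +kernel) (by decide +kernel) (by decide +kernel)

theorem f16631 : C.T (v18 C) [8, 39, 65, 79, 103, 110, 119] (v3 C) [6, 37, 68, 85, 104, 110, 117] :=
  C.flip (f16630 C)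

theorem f16632 : C.S (v18 C) [26, 43, 49, 77, 91, 110, 115] :=
  C.stMul (f6836 C) (f6836 C) _ (by decide +kernel)

theorem f16633 : C.T (v18 C) [5, 32, 68, 72, 106, 109, 111] (v19 C) [11, 41, 52, 71, 90, 109] :=
  C.conv (f15941 C) (f16632 C) (f6836 C) _ [143, 151, 164, 173, 178] _ (by decide +kernel) (by decide +kernel) (by decide +kernel)

theorem f16634 : C.T (v19 C) [11, 41, 52, 71, 90, 109] (v18 C) [5, 32, 68, 72, 106, 109, 111] :=
  C.flip (f16633 C)

theorem f16635 : C.T (v19 C) [24, 34, 52, 72, 96, 110, 121] (v19 C) [13, 36, 65, 72, 93, 120] :=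
  C.closeT (p := (v3 C)) (pu := [13, 38, 52, 74, 120])
    (C.pT (f16629 C)
    (C.pH [26, 38, 54, 89, 90, 113] [24, 34, 52, 72, 96, 110, 121] (by decide +kernel) (C.pNil _ _)))
    (C.pH [8, 30, 65, 84, 94, 117] [11, 41, 52, 71, 90, 109] (by decide +kernel)
    (C.pT (f16634 C)
    (C.pH [26, 38, 54, 89, 90, 113] [8, 39, 65, 79, 103, 110, 119] (by decide +kernel)
    (C.pT (f16631 C)
    (C.pH [8, 30, 65, 84, 94, 117] [13, 38, 52, 74, 120] (by decide +kernel) (C.pNil _ _))))))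
    (C.loop_of_one (relLoop2 C) _ _)

theorem f16639 : C.T (v3 C) [38, 49, 85, 98, 109, 115] (v19 C) [26, 42, 52, 79, 107, 115] :=
  C.conv (f15701 C) (f15714 C) (f15714 C) _ [145, 160, 168] _ (by decide +kernel) (by decide +kernel) (by decide +kernel)

theorem f16640 : C.T (v3 C) [8, 38, 52, 83, 105, 112] (v18 C) [20, 42, 69, 77, 97, 122] :=
  C.conv (f7327 C) (f7806 C) (f7807 C) _ [148, 152, 169, 173, 177] _ (by decide +kernel) (by decide +kernel) (by decide +kernel)

theorem f16641 : C.T (v18 C) [20, 42, 69, 77, 97, 122] (v3 C) [8, 38, 52, 83, 105, 112] :=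
  C.flip (f16640 C)

theorem f16642 : C.T (v18 C) [17, 45, 59, 85, 94, 111] (v19 C) [20, 33, 63, 83, 96, 109, 117] :=
  C.conv (f16336 C) (f6836 C) (f7121 C) _ [146, 161, 166, 176] _ (by decide +kernel) (by decide +kernel) (by decide +kernel)

theorem f16643 : C.T (v19 C) [20, 33, 63, 83, 96, 109, 117] (v18 C) [17, 45, 59, 85, 94, 111] :=
  C.flip (f16642 C)

theorem f16644 : C.T (v19 C) [16, 45, 68, 71, 91, 109, 115] (v19 C) [16, 42, 51, 79, 104, 109, 111] :=
  C.closeT (p := (v3 C)) (pu := [38, 49, 85, 98, 109, 115])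
    (C.pT (f16639 C)
    (C.pH [26, 38, 54, 89, 90, 113] [16, 45, 68, 71, 91, 109, 115] (by decide +kernel) (C.pNil _ _)))
    (C.pH [8, 30, 65, 84, 94, 117] [20, 33, 63, 83, 96, 109, 117] (by decide +kernel)
    (C.pT (f16643 C)
    (C.pH [26, 38, 54, 89, 90, 113] [20, 42, 69, 77, 97, 122] (by decide +kernel)
    (C.pT (f16641 C)
    (C.pH [8, 30, 65, 84, 94, 117] [38, 49, 85, 98, 109, 115] (by decide +kernel) (C.pNil _ _))))))
    (C.loop_of_one (relLoop2 C) _ _)

theorem f16649 : C.T (v4 C) [25, 44, 50, 75, 95, 111] (v4 C) [10, 35, 64, 82, 94, 109, 115] :=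
  C.conv (f798 C) (f421 C) (f421 C) _ [130, 154, 164, 172, 178] _ (by decide +kernel) (by decide +kernel) (by decide +kernel)

theorem f16650 : C.S (v4 C) [23, 41, 49, 78, 91, 109] :=
  C.stMul (f693 C) (f421 C) _ (by decide +kernel)

theorem f16651 : C.S (v4 C) [26, 36, 62, 77, 94, 121] :=
  C.stMul (f421 C) (f16650 C) _ (by decide +kernel)

theorem f16652 : C.T (v4 C) [21, 47, 64, 79, 109, 121] (v19 C) [11, 45, 62, 81, 109, 119] :=
  C.conv (f15534 C) (f697 C) (f16651 C) _ [133, 162, 165] _ (by decide +kernel) (by decide +kernel) (by decide +kernel)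

theorem f16653 : C.T (v19 C) [20, 35, 64, 77, 99, 110, 118] (v4 C) [17, 35, 67, 89, 99, 109, 112] :=
  C.closeT (p := (v4 C)) (pu := [25, 44, 50, 75, 95, 111])
    (C.pT (f16649 C)
    (C.pH [12, 35, 50, 83] [21, 47, 64, 79, 109, 121] (by decide +kernel)
    (C.pT (f16652 C)
    (C.pH [12, 35, 50, 83] [20, 35, 64, 77, 99, 110, 118] (by decide +kernel) (C.pNil _ _)))))
    (C.pH [12, 35, 50, 83] [25, 44, 50, 75, 95, 111] (by decide +kernel) (C.pNil _ _))
    (C.loop_of_one (relLoop0 C) _ _)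

theorem f16654 : C.T (v4 C) [17, 35, 67, 89, 99, 109, 112] (v19 C) [20, 35, 64, 77, 99, 110, 118] :=
  C.flip (f16653 C)

theorem f16655 : C.T (v4 C) [4, 34, 65, 85, 110, 115] (v10 C) [6, 41, 69, 78, 100, 109, 118] :=
  C.conv (f1798 C) (f1856 C) (f1856 C) _ [129, 160, 170, 174, 178] _ (by decide +kernel) (by decide +kernel) (by decide +kernel)

theorem f16656 : C.S (v10 C) [12, 29, 59, 82, 105, 117] :=
  C.stMul (f1709 C) (f1699 C) _ (by decide +kernel)

theorem f16657 : C.S (v10 C) [11, 38, 67, 74, 101, 109, 111] :=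
  C.stMul (f1714 C) (f16656 C) _ (by decide +kernel)

theorem f16658 : C.S (v10 C) [12, 39, 51, 75, 99, 110, 118] :=
  C.stMul (f1709 C) (f16657 C) _ (by decide +kernel)

theorem f16659 : C.S (v10 C) [18, 35, 59, 78, 91, 110, 122] :=
  C.stMul (f1722 C) (f1699 C) _ (by decide +kernel)

end CfsgLib.J4Index
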