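import Cfsg.Agent.Lib.J4Index.Facts16

/-!
# Derived equations (generated)
-/

set_option autoImplicit false
set_option maxRecDepth 100000
set_option linter.style.longLine false

namespace CfsgLib.J4Index

variable {G X : Type} [Group G] [MulAction G X] (C : Ctx G X)

theorem f16660 : C.S (v10 C) [22, 40, 59, 86, 103, 110, 122] :=
  C.stMul (f1709 C) (f16659 C) _ (by decide +kernel)

theorem f16661 : C.T (v10 C) [19, 35, 57, 86, 107, 109, 121] (v19 C) [26, 33, 54, 71, 93, 109, 124] :=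
  C.conv (f16045 C) (f16658 C) (f16660 C) _ [130, 163, 164] _ (by decide +kernel) (by decide +kernel) (by decide +kernel)

theorem f16662 : C.T (v19 C) [4, 44, 66, 87, 91, 110, 117] (v4 C) [26, 35, 56, 86, 108, 109, 122] :=
  C.closeT (p := (v4 C)) (pu := [4, 34, 65, 85, 110, 115])
    (C.pT (f16655 C)
    (C.pH [12, 35, 50, 83] [19, 35, 57, 86, 107, 109, 121] (by decide +kernel)
    (C.pT (f16661 C)
    (C.pH [12, 35, 50, 83] [4, 44, 66, 87, 91, 110, 117] (by decide +kernel) (C.pNil _ _)))))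
    (C.pH [12, 35, 50, 83] [4, 34, 65, 85, 110, 115] (by decide +kernel) (C.pNil _ _))
    (C.loop_of_one (relLoop0 C) _ _)

theorem f16663 : C.T (v4 C) [26, 35, 56, 86, 108, 109, 122] (v19 C) [4, 44, 66, 87, 91, 110, 117] :=
  C.flip (f16662 C)

theorem f16664 : C.T (v4 C) [25, 30, 54, 85, 99, 109, 124] (v9 C) [12, 36, 83, 104, 122] :=
  C.conv (f2044 C) (f2809 C) (f2809 C) _ [131, 158, 170] _ (by decide +kernel) (by decide +kernel) (by decide +kernel)

theorem f16665 : C.S (v4 C) [18, 46, 49, 75, 97, 110, 118] :=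
  C.stMul (f407 C) (f407 C) _ (by decide +kernel)

theorem f16666 : C.S (v4 C) [10, 42, 56, 80, 93, 109, 122] :=
  C.stMul (f693 C) (f16665 C) _ (by decide +kernel)

theorem f16667 : C.S (v4 C) [25, 32, 52, 83, 96, 110, 121] :=
  C.stMul (f421 C) (f16666 C) _ (by decide +kernel)

theorem f16668 : C.S (v4 C) [16, 43, 64, 82, 90, 110, 123] :=
  C.stMul (f421 C) (f16665 C) _ (by decide +kernel)

theorem f16669 : C.S (v4 C) [21, 60, 87, 91, 109, 120] :=
  C.stMul (f407 C) (f16668 C) _ (by decide +kernel)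

theorem f16670 : C.S (v4 C) [13, 34, 59, 73, 105, 109, 115] :=
  C.stMul (f421 C) (f16669 C) _ (by decide +kernel)

theorem f16671 : C.T (v4 C) [17, 47, 67, 77, 106, 110, 114] (v19 C) [19, 49, 77, 106, 120] :=
  C.conv (f16663 C) (f16667 C) (f16670 C) _ [147, 154, 170, 173] _ (by decide +kernel) (by decide +kernel) (by decide +kernel)

theorem f16672 : C.T (v19 C) [19, 49, 77, 106, 120] (v4 C) [17, 47, 67, 77, 106, 110, 114] :=
  C.flip (f16671 C)

theorem f16673 : C.T (v9 C) [23, 40, 50, 77, 91, 110, 111] (v19 C) [6, 27, 77, 97, 109, 120] :=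
  C.closeT (p := (v4 C)) (pu := [25, 30, 54, 85, 99, 109, 124])
    (C.pT (f16664 C)
    (C.pH [12, 35, 50, 83] [23, 40, 50, 77, 91, 110, 111] (by decide +kernel) (C.pNil _ _)))
    (C.pH [12, 35, 50, 83] [19, 49, 77, 106, 120] (by decide +kernel)
    (C.pT (f16672 C)
    (C.pH [12, 35, 50, 83] [25, 30, 54, 85, 99, 109, 124] (by decide +kernel) (C.pNil _ _))))
    (C.loop_of_one (relLoop0 C) _ _)

theorem f16674 : C.T (v19 C) [6, 27, 77, 97, 109, 120] (v9 C) [23, 40, 50, 77, 91, 110, 111] :=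
  C.flip (f16673 C)

theorem f16675 : C.T (v4 C) [18, 61, 83, 92, 116] (v15 C) [15, 45, 56, 70, 107, 109, 124] :=
  C.conv (f2764 C) (f693 C) (f693 C) _ [129, 153, 173] _ (by decide +kernel) (by decide +kernel) (by decide +kernel)

theorem f16676 : C.S (v4 C) [8, 48, 61, 83, 103, 117] :=
  C.stMul (f407 C) (f16669 C) _ (by decide +kernel)

theorem f16677 : C.S (v4 C) [31, 58, 82, 95, 109, 115] :=
  C.stMul (f421 C) (f16676 C) _ (by decide +kernel)

theorem f16678 : C.T (v4 C) [18, 61, 84, 106, 110, 111] (v19 C) [18, 36, 62, 86, 106, 110, 118] :=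
  C.conv (f16663 C) (f16667 C) (f16677 C) _ [131, 151, 164, 176, 177] _ (by decide +kernel) (by decide +kernel) (by decide +kernel)

theorem f16679 : C.T (v19 C) [18, 36, 62, 86, 106, 110, 118] (v4 C) [18, 61, 84, 106, 110, 111] :=
  C.flip (f16678 C)

theorem f16680 : C.T (v15 C) [15, 29, 62, 70, 100, 117] (v19 C) [18, 32, 67, 85, 94, 110, 118] :=
  C.closeT (p := (v4 C)) (pu := [18, 61, 83, 92, 116])
    (C.pT (f16675 C)
    (C.pH [12, 35, 50, 83] [15, 29, 62, 70, 100, 117] (by decide +kernel) (C.pNil _ _)))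
    (C.pH [12, 35, 50, 83] [18, 36, 62, 86, 106, 110, 118] (by decide +kernel)
    (C.pT (f16679 C)
    (C.pH [12, 35, 50, 83] [18, 61, 83, 92, 116] (by decide +kernel) (C.pNil _ _))))
    (C.loop_of_one (relLoop0 C) _ _)

theorem f16681 : C.T (v19 C) [18, 32, 67, 85, 94, 110, 118] (v15 C) [15, 29, 62, 70, 100, 117] :=
  C.flip (f16680 C)

theorem f16682 : C.T (v4 C) [13, 27, 64, 73, 107, 109, 119] (v16 C) [21, 31, 51, 89, 106, 123] :=
  C.conv (f4054 C) (f7459 C) (f7459 C) _ [132, 149, 170, 176, 177] _ (by decide +kernel) (by decide +kernel) (by decide +kernel)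

theorem f16683 : C.S (v4 C) [13, 28, 60, 83, 108, 110, 119] :=
  C.stMul (f421 C) (f693 C) _ (by decide +kernel)

theorem f16684 : C.S (v4 C) [17, 45, 53, 80, 99, 109, 123] :=
  C.stMul (f407 C) (f16683 C) _ (by decide +kernel)

theorem f16685 : C.T (v4 C) [4, 32, 56, 73, 101, 110, 115] (v19 C) [20, 63, 87, 91, 110, 112] :=
  C.conv (f15534 C) (f697 C) (f16684 C) _ [142, 163, 166, 171] _ (by decide +kernel) (by decide +kernel) (by decide +kernel)

theorem f16686 : C.T (v19 C) [20, 63, 87, 91, 110, 112] (v4 C) [4, 32, 56, 73, 101, 110, 115] :=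
  C.flip (f16685 C)

theorem f16687 : C.T (v16 C) [8, 45, 56, 72, 100, 109] (v19 C) [11, 43, 65, 84, 106, 112] :=
  C.closeT (p := (v4 C)) (pu := [13, 27, 64, 73, 107, 109, 119])
    (C.pT (f16682 C)
    (C.pH [12, 35, 50, 83] [8, 45, 56, 72, 100, 109] (by decide +kernel) (C.pNil _ _)))
    (C.pH [12, 35, 50, 83] [20, 63, 87, 91, 110, 112] (by decide +kernel)
    (C.pT (f16686 C)
    (C.pH [12, 35, 50, 83] [13, 27, 64, 73, 107, 109, 119] (by decide +kernel) (C.pNil _ _))))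
    (C.loop_of_one (relLoop0 C) _ _)

theorem f16688 : C.T (v19 C) [11, 43, 65, 84, 106, 112] (v16 C) [8, 45, 56, 72, 100, 109] :=
  C.flip (f16687 C)

theorem f16689 : C.T (v4 C) [24, 27, 57, 72, 98, 109, 112] (v17 C) [4, 40, 67, 77, 106, 110, 117] :=
  C.conv (f4648 C) (f13689 C) (f13689 C) _ [148, 156, 169, 177] _ (by decide +kernel) (by decide +kernel) (by decide +kernel)

theorem f16690 : C.S (v4 C) [13, 28, 60, 83, 108, 110, 119] :=
  C.stMul (f421 C) (f693 C) _ (by decide +kernel)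

theorem f16691 : C.S (v4 C) [17, 45, 53, 80, 99, 109, 123] :=
  C.stMul (f407 C) (f16690 C) _ (by decide +kernel)

theorem f16692 : C.S (v4 C) [17, 35, 66, 70, 95] :=
  C.stMul (f421 C) (f407 C) _ (by decide +kernel)

theorem f16693 : C.S (v4 C) [26, 44, 64, 94, 121] :=
  C.stMul (f693 C) (f16692 C) _ (by decide +kernel)

theorem f16694 : C.S (v4 C) [23, 27, 56, 70, 98, 125] :=
  C.stMul (f421 C) (f16693 C) _ (by decide +kernel)

theorem f16695 : C.T (v4 C) [19, 53, 70, 108, 109, 115] (v19 C) [23, 31, 64, 78, 95, 121] :=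
  C.conv (f16654 C) (f16691 C) (f16694 C) _ [134, 163, 164, 174, 177] _ (by decide +kernel) (by decide +kernel) (by decide +kernel)

theorem f16696 : C.T (v19 C) [23, 31, 64, 78, 95, 121] (v4 C) [19, 53, 70, 108, 109, 115] :=
  C.flip (f16695 C)

theorem f16697 : C.T (v17 C) [13, 32, 57, 86, 103, 120] (v19 C) [12, 34, 64, 84, 100, 110, 115] :=
  C.closeT (p := (v4 C)) (pu := [24, 27, 57, 72, 98, 109, 112])
    (C.pT (f16689 C)
    (C.pH [12, 35, 50, 83] [13, 32, 57, 86, 103, 120] (by decide +kernel) (C.pNil _ _)))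
    (C.pH [12, 35, 50, 83] [23, 31, 64, 78, 95, 121] (by decide +kernel)
    (C.pT (f16696 C)
    (C.pH [12, 35, 50, 83] [24, 27, 57, 72, 98, 109, 112] (by decide +kernel) (C.pNil _ _))))
    (C.loop_of_one (relLoop0 C) _ _)

theorem f16698 : C.T (v19 C) [12, 34, 64, 84, 100, 110, 115] (v17 C) [13, 32, 57, 86, 103, 120] :=
  C.flip (f16697 C)

theorem f16699 : C.T (v4 C) [34, 58, 89, 103, 110, 113] (v17 C) [16, 42, 56, 76, 98, 110, 113] :=
  C.conv (f5526 C) (f407 C) (f407 C) _ [142, 158, 170, 175, 177] _ (by decide +kernel) (by decide +kernel) (by decide +kernel)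

theorem f16700 : C.S (v4 C) [10, 27, 56, 84, 93, 109, 113] :=
  C.stMul (f407 C) (f421 C) _ (by decide +kernel)

theorem f16701 : C.T (v4 C) [23, 34, 62, 87, 91, 110, 124] (v19 C) [22, 41, 63, 76, 90, 109] :=
  C.conv (f16663 C) (f16667 C) (f16700 C) _ [147, 156, 166, 176, 177] _ (by decide +kernel) (by decide +kernel) (by decide +kernel)

theorem f16702 : C.T (v19 C) [22, 41, 63, 76, 90, 109] (v4 C) [23, 34, 62, 87, 91, 110, 124] :=
  C.flip (f16701 C)

theorem f16703 : C.T (v17 C) [16, 33, 53, 77, 98, 119] (v19 C) [20, 45, 56, 74, 105] :=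
  C.closeT (p := (v4 C)) (pu := [34, 58, 89, 103, 110, 113])
    (C.pT (f16699 C)
    (C.pH [12, 35, 50, 83] [16, 33, 53, 77, 98, 119] (by decide +kernel) (C.pNil _ _)))
    (C.pH [12, 35, 50, 83] [22, 41, 63, 76, 90, 109] (by decide +kernel)
    (C.pT (f16702 C)
    (C.pH [12, 35, 50, 83] [34, 58, 89, 103, 110, 113] (by decide +kernel) (C.pNil _ _))))
    (C.loop_of_one (relLoop0 C) _ _)

theorem f16704 : C.T (v19 C) [20, 45, 56, 74, 105] (v17 C) [16, 33, 53, 77, 98, 119] :=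
  C.flip (f16703 C)

theorem f16705 : C.S (v4 C) [18, 46, 49, 75, 97, 110, 118] :=
  C.stMul (f407 C) (f407 C) _ (by decide +kernel)

theorem f16706 : C.T (v4 C) [24, 47, 53, 81, 95, 109, 125] (v17 C) [7, 35, 62, 81, 101, 115] :=
  C.conv (f6113 C) (f16705 C) (f16705 C) _ [147, 154, 168, 173] _ (by decide +kernel) (by decide +kernel) (by decide +kernel)

theorem f16707 : C.T (v4 C) [19, 40, 68, 75, 104, 116] (v19 C) [46, 50, 84, 94, 110, 120] :=
  C.conv (f16654 C) (f16691 C) (f16694 C) _ [144, 170, 176, 177] _ (by decide +kernel) (by decide +kernel) (by decide +kernel)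

theorem f16708 : C.T (v19 C) [46, 50, 84, 94, 110, 120] (v4 C) [19, 40, 68, 75, 104, 116] :=
  C.flip (f16707 C)

theorem f16709 : C.T (v17 C) [7, 35, 50, 74, 90, 109, 125] (v19 C) [23, 46, 84, 93, 116] :=
  C.closeT (p := (v4 C)) (pu := [24, 47, 53, 81, 95, 109, 125])
    (C.pT (f16706 C)
    (C.pH [12, 35, 50, 83] [7, 35, 50, 74, 90, 109, 125] (by decide +kernel) (C.pNil _ _)))
    (C.pH [12, 35, 50, 83] [46, 50, 84, 94, 110, 120] (by decide +kernel)
    (C.pT (f16708 C)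
    (C.pH [12, 35, 50, 83] [24, 47, 53, 81, 95, 109, 125] (by decide +kernel) (C.pNil _ _))))
    (C.loop_of_one (relLoop0 C) _ _)

theorem f16710 : C.T (v19 C) [23, 46, 84, 93, 116] (v17 C) [7, 35, 50, 74, 90, 109, 125] :=
  C.flip (f16709 C)

theorem f16711 : C.T (v4 C) [9, 37, 65, 72, 96, 114] (v17 C) [14, 38, 67, 86, 99, 124] :=
  C.conv (f6475 C) (f697 C) (f697 C) _ [129, 160, 167, 176, 178] _ (by decide +kernel) (by decide +kernel) (by decide +kernel)

theorem f16712 : C.T (v4 C) [25, 38, 50, 81, 105, 120] (v19 C) [24, 35, 51, 77, 98, 109, 124] :=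
  C.conv (f16654 C) (f16691 C) (f697 C) _ [126, 163, 170] _ (by decide +kernel) (by decide +kernel) (by decide +kernel)

theorem f16713 : C.T (v19 C) [24, 35, 51, 77, 98, 109, 124] (v4 C) [25, 38, 50, 81, 105, 120] :=
  C.flip (f16712 C)

theorem f16714 : C.T (v17 C) [14, 45, 56, 80, 93, 110, 116] (v19 C) [19, 43, 52, 72, 98, 119] :=
  C.closeT (p := (v4 C)) (pu := [9, 37, 65, 72, 96, 114])
    (C.pT (f16711 C)
    (C.pH [12, 35, 50, 83] [14, 45, 56, 80, 93, 110, 116] (by decide +kernel) (C.pNil _ _)))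
    (C.pH [12, 35, 50, 83] [24, 35, 51, 77, 98, 109, 124] (by decide +kernel)
    (C.pT (f16713 C)
    (C.pH [12, 35, 50, 83] [9, 37, 65, 72, 96, 114] (by decide +kernel) (C.pNil _ _))))
    (C.loop_of_one (relLoop0 C) _ _)

theorem f16715 : C.T (v19 C) [19, 43, 52, 72, 98, 119] (v17 C) [14, 45, 56, 80, 93, 110, 116] :=
  C.flip (f16714 C)

theorem f16716 : C.T (v4 C) [19, 33, 50, 84, 95, 110, 125] (v18 C) [16, 29, 53, 88, 105, 110, 116] :=
  C.conv (f6924 C) (f7427 C) (f7427 C) _ [138, 159, 173, 177] _ (by decide +kernel) (by decide +kernel) (by decide +kernel)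

theorem f16717 : C.S (v4 C) [18, 46, 49, 75, 97, 110, 118] :=
  C.stMul (f407 C) (f407 C) _ (by decide +kernel)

theorem f16718 : C.S (v4 C) [23, 45, 57, 77, 95, 110, 118] :=
  C.stMul (f407 C) (f16717 C) _ (by decide +kernel)

theorem f16719 : C.S (v4 C) [16, 46, 68, 72, 103, 110, 111] :=
  C.stMul (f693 C) (f16718 C) _ (by decide +kernel)

theorem f16720 : C.T (v4 C) [6, 45, 67, 89, 108, 109, 114] (v19 C) [10, 30, 50, 83, 90, 110, 122] :=
  C.conv (f16654 C) (f16691 C) (f16719 C) _ [146, 161, 166, 171, 178] _ (by decide +kernel) (by decide +kernel) (by decide +kernel)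

theorem f16721 : C.T (v19 C) [10, 30, 50, 83, 90, 110, 122] (v4 C) [6, 45, 67, 89, 108, 109, 114] :=
  C.flip (f16720 C)

theorem f16722 : C.T (v18 C) [16, 38, 58, 77, 103, 110] (v19 C) [8, 33, 68, 91, 109, 115] :=
  C.closeT (p := (v4 C)) (pu := [19, 33, 50, 84, 95, 110, 125])
    (C.pT (f16716 C)
    (C.pH [12, 35, 50, 83] [16, 38, 58, 77, 103, 110] (by decide +kernel) (C.pNil _ _)))
    (C.pH [12, 35, 50, 83] [10, 30, 50, 83, 90, 110, 122] (by decide +kernel)
    (C.pT (f16721 C)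
    (C.pH [12, 35, 50, 83] [19, 33, 50, 84, 95, 110, 125] (by decide +kernel) (C.pNil _ _))))
    (C.loop_of_one (relLoop0 C) _ _)

theorem f16723 : C.T (v19 C) [8, 33, 68, 91, 109, 115] (v18 C) [16, 38, 58, 77, 103, 110] :=
  C.flip (f16722 C)

theorem f16724 : C.T (v4 C) [10, 37, 62, 86, 91, 110, 117] (v18 C) [12, 31, 50, 77, 103, 123] :=
  C.conv (f7891 C) (f8521 C) (f8521 C) _ [142, 159, 165, 172, 178] _ (by decide +kernel) (by decide +kernel) (by decide +kernel)

theorem f16725 : C.T (v4 C) [8, 37, 61, 89, 110, 116] (v19 C) [39, 61, 75, 100, 109, 122] :=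
  C.conv (f16654 C) (f16691 C) (f421 C) _ [142, 157, 166, 174, 178] _ (by decide +kernel) (by decide +kernel) (by decide +kernel)

theorem f16726 : C.T (v19 C) [39, 61, 75, 100, 109, 122] (v4 C) [8, 37, 61, 89, 110, 116] :=
  C.flip (f16725 C)

theorem f16727 : C.T (v18 C) [23, 27, 51, 80, 90, 109, 120] (v19 C) [23, 47, 53, 84, 106, 109, 113] :=
  C.closeT (p := (v4 C)) (pu := [10, 37, 62, 86, 91, 110, 117])
    (C.pT (f16724 C)
    (C.pH [12, 35, 50, 83] [23, 27, 51, 80, 90, 109, 120] (by decide +kernel) (C.pNil _ _)))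
    (C.pH [12, 35, 50, 83] [39, 61, 75, 100, 109, 122] (by decide +kernel)
    (C.pT (f16726 C)
    (C.pH [12, 35, 50, 83] [10, 37, 62, 86, 91, 110, 117] (by decide +kernel) (C.pNil _ _))))
    (C.loop_of_one (relLoop0 C) _ _)

theorem f16728 : C.T (v19 C) [23, 47, 53, 84, 106, 109, 113] (v18 C) [23, 27, 51, 80, 90, 109, 120] :=
  C.flip (f16727 C)

theorem f16729 : C.T (v4 C) [19, 39, 62, 81, 92, 110, 116] (v18 C) [14, 32, 67, 70, 94, 110, 123] :=
  C.conv (f10188 C) (f12045 C) (f12045 C) _ [132, 151, 166, 176] _ (by decide +kernel) (by decide +kernel) (by decide +kernel)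

theorem f16730 : C.S (v4 C) [10, 42, 56, 80, 93, 109, 122] :=
  C.stMul (f693 C) (f15543 C) _ (by decide +kernel)

theorem f16731 : C.T (v4 C) [6, 42, 50, 76, 91, 109, 123] (v19 C) [8, 36, 68, 70, 109, 118] :=
  C.conv (f15534 C) (f697 C) (f16730 C) _ [130, 151, 164, 178] _ (by decide +kernel) (by decide +kernel) (by decide +kernel)

theorem f16732 : C.T (v19 C) [8, 36, 68, 70, 109, 118] (v4 C) [6, 42, 50, 76, 91, 109, 123] :=
  C.flip (f16731 C)

theorem f16733 : C.T (v18 C) [14, 33, 50, 83, 98, 114] (v19 C) [21, 41, 65, 80, 102, 109, 114] :=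
  C.closeT (p := (v4 C)) (pu := [19, 39, 62, 81, 92, 110, 116])
    (C.pT (f16729 C)
    (C.pH [12, 35, 50, 83] [14, 33, 50, 83, 98, 114] (by decide +kernel) (C.pNil _ _)))
    (C.pH [12, 35, 50, 83] [8, 36, 68, 70, 109, 118] (by decide +kernel)
    (C.pT (f16732 C)
    (C.pH [12, 35, 50, 83] [19, 39, 62, 81, 92, 110, 116] (by decide +kernel) (C.pNil _ _))))
    (C.loop_of_one (relLoop0 C) _ _)

theorem f16734 : C.T (v19 C) [21, 41, 65, 80, 102, 109, 114] (v18 C) [14, 33, 50, 83, 98, 114] :=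
  C.flip (f16733 C)

theorem f16735 : C.T (v4 C) [18, 39, 66, 75, 101, 109] (v18 C) [8, 30, 52, 87, 95, 110, 114] :=
  C.conv (f10219 C) (f421 C) (f421 C) _ [148, 151, 168, 172, 178] _ (by decide +kernel) (by decide +kernel) (by decide +kernel)

theorem f16736 : C.T (v4 C) [18, 36, 66, 85, 107, 114] (v19 C) [12, 30, 69, 84, 98, 115] :=
  C.conv (f16663 C) (f16667 C) (f16700 C) _ [127, 160, 165, 177] _ (by decide +kernel) (by decide +kernel) (by decide +kernel)

theorem f16737 : C.T (v19 C) [12, 30, 69, 84, 98, 115] (v4 C) [18, 36, 66, 85, 107, 114] :=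
  C.flip (f16736 C)

theorem f16738 : C.T (v18 C) [10, 42, 61, 87, 105] (v19 C) [44, 59, 71, 96, 109, 116] :=
  C.closeT (p := (v4 C)) (pu := [18, 39, 66, 75, 101, 109])
    (C.pT (f16735 C)
    (C.pH [12, 35, 50, 83] [10, 42, 61, 87, 105] (by decide +kernel) (C.pNil _ _)))
    (C.pH [12, 35, 50, 83] [12, 30, 69, 84, 98, 115] (by decide +kernel)
    (C.pT (f16737 C)
    (C.pH [12, 35, 50, 83] [18, 39, 66, 75, 101, 109] (by decide +kernel) (C.pNil _ _))))
    (C.loop_of_one (relLoop0 C) _ _)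

theorem f16739 : C.T (v19 C) [44, 59, 71, 96, 109, 116] (v18 C) [10, 42, 61, 87, 105] :=
  C.flip (f16738 C)

theorem f16740 : C.T (v4 C) [15, 47, 65, 76, 95, 110, 125] (v18 C) [24, 34, 68, 84, 95, 121] :=
  C.conv (f13456 C) (f421 C) (f421 C) _ [128, 164, 176, 177] _ (by decide +kernel) (by decide +kernel) (by decide +kernel)

theorem f16741 : C.S (v4 C) [26, 43, 63, 73, 104, 112] :=
  C.stMul (f421 C) (f16718 C) _ (by decide +kernel)

theorem f16742 : C.T (v4 C) [15, 34, 54, 70, 95, 117] (v19 C) [12, 49, 72, 94, 110, 124] :=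
  C.conv (f16654 C) (f16691 C) (f16741 C) _ [142, 154, 174, 177] _ (by decide +kernel) (by decide +kernel) (by decide +kernel)

theorem f16743 : C.T (v19 C) [12, 49, 72, 94, 110, 124] (v4 C) [15, 34, 54, 70, 95, 117] :=
  C.flip (f16742 C)

theorem f16744 : C.T (v18 C) [6, 44, 66, 73, 99, 114] (v19 C) [47, 60, 72, 94, 110, 124] :=
  C.closeT (p := (v4 C)) (pu := [15, 47, 65, 76, 95, 110, 125])
    (C.pT (f16740 C)
    (C.pH [12, 35, 50, 83] [6, 44, 66, 73, 99, 114] (by decide +kernel) (C.pNil _ _)))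
    (C.pH [12, 35, 50, 83] [12, 49, 72, 94, 110, 124] (by decide +kernel)
    (C.pT (f16743 C)
    (C.pH [12, 35, 50, 83] [15, 47, 65, 76, 95, 110, 125] (by decide +kernel) (C.pNil _ _))))
    (C.loop_of_one (relLoop0 C) _ _)

theorem f16745 : C.T (v19 C) [47, 60, 72, 94, 110, 124] (v18 C) [6, 44, 66, 73, 99, 114] :=
  C.flip (f16744 C)

theorem f16746 : C.T (v4 C) [16, 34, 52, 85, 108, 121] (v18 C) [19, 53, 85, 101, 110, 120] :=
  C.conv (f13463 C) (f13841 C) (f13841 C) _ [140, 157, 170, 172] _ (by decide +kernel) (by decide +kernel) (by decide +kernel)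

theorem f16747 : C.S (v4 C) [17, 35, 66, 70, 95] :=
  C.stMul (f421 C) (f407 C) _ (by decide +kernel)

theorem f16748 : C.S (v4 C) [13, 44, 51, 82, 106, 110, 111] :=
  C.stMul (f407 C) (f16747 C) _ (by decide +kernel)

theorem f16749 : C.S (v4 C) [21, 35, 69, 73, 94, 109, 122] :=
  C.stMul (f421 C) (f16748 C) _ (by decide +kernel)

theorem f16750 : C.T (v4 C) [16, 37, 67, 77, 93, 109, 124] (v19 C) [21, 27, 58, 82, 102, 116] :=
  C.conv (f16663 C) (f16667 C) (f16749 C) _ [142, 155, 170, 172, 177] _ (by decide +kernel) (by decide +kernel) (by decide +kernel)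

theorem f16751 : C.T (v19 C) [21, 27, 58, 82, 102, 116] (v4 C) [16, 37, 67, 77, 93, 109, 124] :=
  C.flip (f16750 C)

theorem f16752 : C.T (v18 C) [24, 27, 57, 85, 92, 119] (v19 C) [10, 27, 50, 79, 103, 110, 111] :=
  C.closeT (p := (v4 C)) (pu := [16, 34, 52, 85, 108, 121])
    (C.pT (f16746 C)
    (C.pH [12, 35, 50, 83] [24, 27, 57, 85, 92, 119] (by decide +kernel) (C.pNil _ _)))
    (C.pH [12, 35, 50, 83] [21, 27, 58, 82, 102, 116] (by decide +kernel)
    (C.pT (f16751 C)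
    (C.pH [12, 35, 50, 83] [16, 34, 52, 85, 108, 121] (by decide +kernel) (C.pNil _ _))))
    (C.loop_of_one (relLoop0 C) _ _)

theorem f16753 : C.T (v19 C) [10, 27, 50, 79, 103, 110, 111] (v18 C) [24, 27, 57, 85, 92, 119] :=
  C.flip (f16752 C)

theorem f16754 : C.T (v4 C) [13, 38, 51, 72, 97, 125] (v19 C) [4, 40, 60, 75, 93, 109, 121] :=
  C.conv (f15534 C) (f697 C) (f697 C) _ [126, 154, 164, 176, 177] _ (by decide +kernel) (by decide +kernel) (by decide +kernel)

theorem f16755 : C.S (v4 C) [17, 29, 60, 75, 100, 110, 113] :=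
  C.stMul (f407 C) (f15027 C) _ (by decide +kernel)

theorem f16756 : C.S (v4 C) [12, 44, 50, 85, 106, 124] :=
  C.stMul (f421 C) (f16755 C) _ (by decide +kernel)

theorem f16757 : C.T (v4 C) [4, 38, 63, 83, 104, 110, 117] (v18 C) [21, 35, 68, 83, 90, 124] :=
  C.conv (f8441 C) (f421 C) (f16756 C) _ [126, 162, 170, 173] _ (by decide +kernel) (by decide +kernel) (by decide +kernel)

theorem f16758 : C.T (v18 C) [21, 35, 68, 83, 90, 124] (v4 C) [4, 38, 63, 83, 104, 110, 117] :=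
  C.flip (f16757 C)

theorem f16759 : C.T (v19 C) [13, 32, 56, 70, 105, 113] (v18 C) [10, 38, 55, 76, 102, 117] :=
  C.closeT (p := (v4 C)) (pu := [13, 38, 51, 72, 97, 125])
    (C.pT (f16754 C)
    (C.pH [12, 35, 50, 83] [13, 32, 56, 70, 105, 113] (by decide +kernel) (C.pNil _ _)))
    (C.pH [12, 35, 50, 83] [21, 35, 68, 83, 90, 124] (by decide +kernel)
    (C.pT (f16758 C)
    (C.pH [12, 35, 50, 83] [13, 38, 51, 72, 97, 125] (by decide +kernel) (C.pNil _ _))))
    (C.loop_of_one (relLoop0 C) _ _)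

theorem f16760 : C.T (v18 C) [10, 38, 55, 76, 102, 117] (v19 C) [13, 32, 56, 70, 105, 113] :=
  C.flip (f16759 C)

theorem f16761 : C.T (v4 C) [4, 38, 65, 81, 90, 112] (v19 C) [21, 46, 58, 97, 109, 115] :=
  C.conv (f15534 C) (f697 C) (f697 C) _ [143, 157, 165, 173, 177] _ (by decide +kernel) (by decide +kernel) (by decide +kernel)

theorem f16762 : C.S (v4 C) [8, 31, 60, 85, 98, 110, 125] :=
  C.stMul (f693 C) (f407 C) _ (by decide +kernel)

theorem f16763 : C.S (v4 C) [42, 63, 82, 91, 110, 125] :=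
  C.stMul (f421 C) (f16762 C) _ (by decide +kernel)

theorem f16764 : C.T (v4 C) [26, 48, 53, 86, 110, 117] (v15 C) [24, 57, 87, 98, 110, 111] :=
  C.conv (f2951 C) (f2971 C) (f16763 C) _ [131, 150, 166, 172] _ (by decide +kernel) (by decide +kernel) (by decide +kernel)

theorem f16765 : C.T (v15 C) [24, 57, 87, 98, 110, 111] (v4 C) [26, 48, 53, 86, 110, 117] :=
  C.flip (f16764 C)

theorem f16766 : C.T (v19 C) [8, 31, 55, 74, 103, 110, 112] (v15 C) [19, 44, 54, 72, 99, 113] :=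
  C.closeT (p := (v4 C)) (pu := [4, 38, 65, 81, 90, 112])
    (C.pT (f16761 C)
    (C.pH [12, 35, 50, 83] [8, 31, 55, 74, 103, 110, 112] (by decide +kernel) (C.pNil _ _)))
    (C.pH [12, 35, 50, 83] [24, 57, 87, 98, 110, 111] (by decide +kernel)
    (C.pT (f16765 C)
    (C.pH [12, 35, 50, 83] [4, 38, 65, 81, 90, 112] (by decide +kernel) (C.pNil _ _))))
    (C.loop_of_one (relLoop0 C) _ _)

theorem f16767 : C.T (v15 C) [19, 44, 54, 72, 99, 113] (v19 C) [8, 31, 55, 74, 103, 110, 112] :=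
  C.flip (f16766 C)

theorem f16768 : C.T (v4 C) [25, 43, 60, 82, 102, 110, 124] (v19 C) [6, 47, 59, 85, 94, 110, 125] :=
  C.conv (f15534 C) (f697 C) (f697 C) _ [128, 167, 176, 177] _ (by decide +kernel) (by decide +kernel) (by decide +kernel)

theorem f16769 : C.T (v4 C) [17, 38, 65, 73, 105, 110, 120] (v18 C) [7, 27, 56, 85, 97, 109, 117] :=
  C.conv (f10153 C) (f11483 C) (f13556 C) _ [143, 154, 168, 175, 178] _ (by decide +kernel) (by decide +kernel) (by decide +kernel)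

theorem f16770 : C.T (v18 C) [7, 27, 56, 85, 97, 109, 117] (v4 C) [17, 38, 65, 73, 105, 110, 120] :=
  C.flip (f16769 C)

theorem f16771 : C.T (v19 C) [19, 28, 60, 86, 104, 110, 113] (v18 C) [7, 39, 52, 86, 97, 115] :=
  C.closeT (p := (v4 C)) (pu := [25, 43, 60, 82, 102, 110, 124])
    (C.pT (f16768 C)
    (C.pH [12, 35, 50, 83] [19, 28, 60, 86, 104, 110, 113] (by decide +kernel) (C.pNil _ _)))
    (C.pH [12, 35, 50, 83] [7, 27, 56, 85, 97, 109, 117] (by decide +kernel)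
    (C.pT (f16770 C)
    (C.pH [12, 35, 50, 83] [25, 43, 60, 82, 102, 110, 124] (by decide +kernel) (C.pNil _ _))))
    (C.loop_of_one (relLoop0 C) _ _)

theorem f16772 : C.T (v18 C) [7, 39, 52, 86, 97, 115] (v19 C) [19, 28, 60, 86, 104, 110, 113] :=
  C.flip (f16771 C)

theorem f16773 : C.T (v4 C) [22, 34, 58, 76, 101, 110, 118] (v19 C) [12, 45, 68, 77, 105, 109, 117] :=
  C.conv (f15534 C) (f697 C) (f697 C) _ [134, 152, 165, 178] _ (by decide +kernel) (by decide +kernel) (by decide +kernel)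

theorem f16774 : C.T (v4 C) [20, 46, 66, 89, 102, 110, 117] (v19 C) [18, 35, 58, 92, 109, 123] :=
  C.conv (f16654 C) (f16691 C) (f16718 C) _ [145, 149, 176, 178] _ (by decide +kernel) (by decide +kernel) (by decide +kernel)

theorem f16775 : C.T (v19 C) [18, 35, 58, 92, 109, 123] (v4 C) [20, 46, 66, 89, 102, 110, 117] :=
  C.flip (f16774 C)

theorem f16776 : C.T (v19 C) [23, 47, 59, 70, 96, 110, 111] (v19 C) [18, 29, 52, 83, 97, 112] :=
  C.closeT (p := (v4 C)) (pu := [22, 34, 58, 76, 101, 110, 118])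
    (C.pT (f16773 C)
    (C.pH [12, 35, 50, 83] [23, 47, 59, 70, 96, 110, 111] (by decide +kernel) (C.pNil _ _)))
    (C.pH [12, 35, 50, 83] [18, 35, 58, 92, 109, 123] (by decide +kernel)
    (C.pT (f16775 C)
    (C.pH [12, 35, 50, 83] [22, 34, 58, 76, 101, 110, 118] (by decide +kernel) (C.pNil _ _))))
    (C.loop_of_one (relLoop0 C) _ _)

theorem f16780 : C.T (v4 C) [8, 38, 52, 82, 103, 109, 114] (v4 C) [26, 30, 51, 89, 107, 110, 123] :=
  C.conv (f589 C) (f697 C) (f697 C) _ [140, 155, 167, 175] _ (by decide +kernel) (by decide +kernel) (by decide +kernel)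

theorem f16781 : C.T (v4 C) [14, 31, 60, 73, 94, 109, 122] (v19 C) [10, 28, 58, 71] :=
  C.conv (f15534 C) (f697 C) (f15567 C) _ [132, 150, 169, 176, 178] _ (by decide +kernel) (by decide +kernel) (by decide +kernel)

theorem f16782 : C.S (v4 C) [21, 60, 87, 91, 109, 120] :=
  C.stMul (f407 C) (f15544 C) _ (by decide +kernel)

theorem f16783 : C.T (v4 C) [5, 30, 56, 82, 94, 120] (v19 C) [24, 38, 49, 75, 100, 113] :=
  C.conv (f15534 C) (f697 C) (f16782 C) _ [146, 151, 167, 173] _ (by decide +kernel) (by decide +kernel) (by decide +kernel)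

theorem f16784 : C.T (v19 C) [24, 38, 49, 75, 100, 113] (v4 C) [5, 30, 56, 82, 94, 120] :=
  C.flip (f16783 C)

theorem f16785 : C.T (v19 C) [21, 35, 68, 78, 96, 117] (v19 C) [21, 28, 68, 72, 99, 110, 115] :=
  C.closeT (p := (v4 C)) (pu := [8, 38, 52, 82, 103, 109, 114])
    (C.pT (f16780 C)
    (C.pH [8, 30, 65, 84, 94, 117] [14, 31, 60, 73, 94, 109, 122] (by decide +kernel)
    (C.pT (f16781 C)
    (C.pH [26, 38, 54, 89, 90, 113] [21, 35, 68, 78, 96, 117] (by decide +kernel) (C.pNil _ _)))))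
    (C.pH [8, 30, 65, 84, 94, 117] [24, 38, 49, 75, 100, 113] (by decide +kernel)
    (C.pT (f16784 C)
    (C.pH [26, 38, 54, 89, 90, 113] [8, 38, 52, 82, 103, 109, 114] (by decide +kernel) (C.pNil _ _))))
    (C.loop_of_one (relLoop1 C) _ _)

theorem f16789 : C.T (v4 C) [25, 40, 63, 71, 102, 115] (v4 C) [13, 36, 61, 71, 96, 110, 116] :=
  C.conv (f563 C) (f715 C) (f715 C) _ [146, 162, 168, 176, 178] _ (by decide +kernel) (by decide +kernel) (by decide +kernel)

theorem f16790 : C.S (v4 C) [10, 42, 56, 80, 93, 109, 122] :=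
  C.stMul (f693 C) (f2665 C) _ (by decide +kernel)

theorem f16791 : C.T (v4 C) [11, 41, 62, 71, 102, 109, 116] (v15 C) [7, 32, 58, 80, 125] :=
  C.conv (f2628 C) (f2666 C) (f16790 C) _ [132, 150, 168, 171, 177] _ (by decide +kernel) (by decide +kernel) (by decide +kernel)

theorem f16792 : C.T (v4 C) [4, 47, 64, 82, 123] (v19 C) [5, 42, 59, 79, 107, 109, 113] :=
  C.conv (f16663 C) (f16667 C) (f16676 C) _ [133, 159, 168, 176, 178] _ (by decide +kernel) (by decide +kernel) (by decide +kernel)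

theorem f16793 : C.T (v19 C) [5, 42, 59, 79, 107, 109, 113] (v4 C) [4, 47, 64, 82, 123] :=
  C.flip (f16792 C)

theorem f16794 : C.T (v15 C) [42, 57, 85, 107, 120] (v19 C) [14, 36, 67, 82, 95, 113] :=
  C.closeT (p := (v4 C)) (pu := [25, 40, 63, 71, 102, 115])
    (C.pT (f16789 C)
    (C.pH [8, 30, 65, 84, 94, 117] [11, 41, 62, 71, 102, 109, 116] (by decide +kernel)
    (C.pT (f16791 C)
    (C.pH [26, 38, 54, 89, 90, 113] [42, 57, 85, 107, 120] (by decide +kernel) (C.pNil _ _)))))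
    (C.pH [8, 30, 65, 84, 94, 117] [5, 42, 59, 79, 107, 109, 113] (by decide +kernel)
    (C.pT (f16793 C)
    (C.pH [26, 38, 54, 89, 90, 113] [25, 40, 63, 71, 102, 115] (by decide +kernel) (C.pNil _ _))))
    (C.loop_of_one (relLoop1 C) _ _)

theorem f16795 : C.T (v19 C) [14, 36, 67, 82, 95, 113] (v15 C) [42, 57, 85, 107, 120] :=
  C.flip (f16794 C)

theorem f16796 : C.T (v4 C) [12, 37, 59, 88, 106, 110, 119] (v4 C) [14, 30, 61, 81, 96, 109, 121] :=
  C.conv (f542 C) (f718 C) (f718 C) _ [128, 163, 168, 175, 177] _ (by decide +kernel) (by decide +kernel) (by decide +kernel)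

theorem f16797 : C.S (v4 C) [17, 35, 66, 70, 95] :=
  C.stMul (f421 C) (f407 C) _ (by decide +kernel)

theorem f16798 : C.T (v4 C) [5, 30, 77, 106, 121] (v15 C) [4, 35, 54, 86, 101, 113] :=
  C.conv (f2951 C) (f2971 C) (f16797 C) _ [143, 159, 170, 176] _ (by decide +kernel) (by decide +kernel) (by decide +kernel)

theorem f16799 : C.T (v4 C) [24, 31, 49, 87, 105, 110] (v19 C) [6, 46, 56, 86, 91, 109, 122] :=
  C.conv (f16654 C) (f16691 C) (f16718 C) _ [143, 158, 164, 175] _ (by decide +kernel) (by decide +kernel) (by decide +kernel)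

theorem f16800 : C.T (v19 C) [6, 46, 56, 86, 91, 109, 122] (v4 C) [24, 31, 49, 87, 105, 110] :=
  C.flip (f16799 C)

theorem f16801 : C.T (v15 C) [25, 31, 67, 76, 90, 121] (v19 C) [22, 35, 60, 89, 105, 110] :=
  C.closeT (p := (v4 C)) (pu := [12, 37, 59, 88, 106, 110, 119])
    (C.pT (f16796 C)
    (C.pH [8, 30, 65, 84, 94, 117] [5, 30, 77, 106, 121] (by decide +kernel)
    (C.pT (f16798 C)
    (C.pH [26, 38, 54, 89, 90, 113] [25, 31, 67, 76, 90, 121] (by decide +kernel) (C.pNil _ _)))))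
    (C.pH [8, 30, 65, 84, 94, 117] [6, 46, 56, 86, 91, 109, 122] (by decide +kernel)
    (C.pT (f16800 C)
    (C.pH [26, 38, 54, 89, 90, 113] [12, 37, 59, 88, 106, 110, 119] (by decide +kernel) (C.pNil _ _))))
    (C.loop_of_one (relLoop1 C) _ _)

theorem f16802 : C.T (v19 C) [22, 35, 60, 89, 105, 110] (v15 C) [25, 31, 67, 76, 90, 121] :=
  C.flip (f16801 C)

theorem f16803 : C.T (v4 C) [8, 38, 52, 80, 102, 110, 116] (v4 C) [21, 45, 63, 84, 102, 110, 118] :=
  C.conv (f517 C) (f723 C) (f723 C) _ [134, 152, 168, 176] _ (by decide +kernel) (by decide +kernel) (by decide +kernel)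

theorem f16804 : C.T (v4 C) [24, 28, 67, 80, 104, 114] (v19 C) [12, 42, 68, 80, 98, 110, 118] :=
  C.conv (f16663 C) (f16667 C) (f16749 C) _ [138, 158, 170, 177] _ (by decide +kernel) (by decide +kernel) (by decide +kernel)

theorem f16805 : C.S (v4 C) [8, 31, 60, 85, 98, 110, 125] :=
  C.stMul (f693 C) (f407 C) _ (by decide +kernel)

theorem f16806 : C.S (v4 C) [42, 63, 82, 91, 110, 125] :=
  C.stMul (f421 C) (f16805 C) _ (by decide +kernel)

theorem f16807 : C.S (v4 C) [12, 31, 56, 72, 107, 109, 112] :=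
  C.stMul (f407 C) (f16806 C) _ (by decide +kernel)

theorem f16808 : C.T (v4 C) [5, 30, 56, 84, 105, 125] (v19 C) [16, 40, 63, 85, 97, 109, 124] :=
  C.conv (f16663 C) (f16667 C) (f16807 C) _ [157, 164, 175, 178] _ (by decide +kernel) (by decide +kernel) (by decide +kernel)

theorem f16809 : C.T (v19 C) [16, 40, 63, 85, 97, 109, 124] (v4 C) [5, 30, 56, 84, 105, 125] :=
  C.flip (f16808 C)

theorem f16810 : C.T (v19 C) [14, 36, 64, 74, 103, 109, 121] (v19 C) [24, 32, 68, 89, 106, 109] :=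
  C.closeT (p := (v4 C)) (pu := [8, 38, 52, 80, 102, 110, 116])
    (C.pT (f16803 C)
    (C.pH [8, 30, 65, 84, 94, 117] [24, 28, 67, 80, 104, 114] (by decide +kernel)
    (C.pT (f16804 C)
    (C.pH [26, 38, 54, 89, 90, 113] [14, 36, 64, 74, 103, 109, 121] (by decide +kernel) (C.pNil _ _)))))
    (C.pH [8, 30, 65, 84, 94, 117] [16, 40, 63, 85, 97, 109, 124] (by decide +kernel)
    (C.pT (f16809 C)
    (C.pH [26, 38, 54, 89, 90, 113] [8, 38, 52, 80, 102, 110, 116] (by decide +kernel) (C.pNil _ _))))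
    (C.loop_of_one (relLoop1 C) _ _)

theorem f16814 : C.T (v4 C) [13, 36, 61, 71, 101, 112] (v4 C) [25, 43, 55, 81, 97, 109, 121] :=
  C.conv (f462 C) (f737 C) (f737 C) _ [132, 150, 164, 176, 178] _ (by decide +kernel) (by decide +kernel) (by decide +kernel)

theorem f16815 : C.T (v4 C) [9, 31, 51, 76, 90, 110, 115] (v15 C) [25, 35, 69, 78, 100, 114] :=
  C.conv (f2613 C) (f2621 C) (f2875 C) _ [132, 160, 165, 175, 177] _ (by decide +kernel) (by decide +kernel) (by decide +kernel)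

theorem f16816 : C.S (v4 C) [17, 29, 60, 75, 100, 110, 113] :=
  C.stMul (f407 C) (f16748 C) _ (by decide +kernel)

theorem f16817 : C.S (v4 C) [12, 44, 50, 85, 106, 124] :=
  C.stMul (f421 C) (f16816 C) _ (by decide +kernel)

theorem f16818 : C.T (v4 C) [16, 36, 60, 71, 97, 109, 125] (v19 C) [4, 33, 58, 83, 100, 109, 116] :=
  C.conv (f16663 C) (f16667 C) (f16817 C) _ [141, 153, 170, 173, 178] _ (by decide +kernel) (by decide +kernel) (by decide +kernel)

theorem f16819 : C.T (v19 C) [4, 33, 58, 83, 100, 109, 116] (v4 C) [16, 36, 60, 71, 97, 109, 125] :=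
  C.flip (f16818 C)

theorem f16820 : C.T (v15 C) [18, 42, 58, 79, 101, 110, 112] (v19 C) [18, 32, 59, 71, 100, 110, 118] :=
  C.closeT (p := (v4 C)) (pu := [13, 36, 61, 71, 101, 112])
    (C.pT (f16814 C)
    (C.pH [8, 30, 65, 84, 94, 117] [9, 31, 51, 76, 90, 110, 115] (by decide +kernel)
    (C.pT (f16815 C)
    (C.pH [26, 38, 54, 89, 90, 113] [18, 42, 58, 79, 101, 110, 112] (by decide +kernel) (C.pNil _ _)))))
    (C.pH [8, 30, 65, 84, 94, 117] [4, 33, 58, 83, 100, 109, 116] (by decide +kernel)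
    (C.pT (f16819 C)
    (C.pH [26, 38, 54, 89, 90, 113] [13, 36, 61, 71, 101, 112] (by decide +kernel) (C.pNil _ _))))
    (C.loop_of_one (relLoop1 C) _ _)

theorem f16821 : C.T (v19 C) [18, 32, 59, 71, 100, 110, 118] (v15 C) [18, 42, 58, 79, 101, 110, 112] :=
  C.flip (f16820 C)

theorem f16822 : C.T (v4 C) [25, 44, 67, 87, 94, 109, 123] (v4 C) [24, 29, 50, 88, 92, 109, 111] :=
  C.conv (f783 C) (f697 C) (f697 C) _ [143, 160, 166, 172, 177] _ (by decide +kernel) (by decide +kernel) (by decide +kernel)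

theorem f16823 : C.S (v4 C) [18, 46, 49, 75, 97, 110, 118] :=
  C.stMul (f407 C) (f407 C) _ (by decide +kernel)

theorem f16824 : C.S (v4 C) [10, 42, 56, 80, 93, 109, 122] :=
  C.stMul (f693 C) (f16823 C) _ (by decide +kernel)

theorem f16825 : C.T (v4 C) [16, 47, 54, 96, 120] (v9 C) [5, 28, 62, 78, 91, 110] :=
  C.conv (f2044 C) (f2809 C) (f16824 C) _ [140, 152, 166, 174, 178] _ (by decide +kernel) (by decide +kernel) (by decide +kernel)

theorem f16826 : C.T (v4 C) [4, 32, 57, 77, 104, 117] (v19 C) [25, 29, 66, 70, 91, 109, 125] :=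
  C.conv (f15534 C) (f697 C) (f15566 C) _ [147, 149, 168, 171, 178] _ (by decide +kernel) (by decide +kernel) (by decide +kernel)

theorem f16827 : C.T (v19 C) [25, 29, 66, 70, 91, 109, 125] (v4 C) [4, 32, 57, 77, 104, 117] :=
  C.flip (f16826 C)

theorem f16828 : C.T (v9 C) [8, 48, 55, 76, 97, 115] (v19 C) [4, 40, 69, 82, 99, 109, 123] :=
  C.closeT (p := (v4 C)) (pu := [25, 44, 67, 87, 94, 109, 123])
    (C.pT (f16822 C)
    (C.pH [8, 30, 65, 84, 94, 117] [16, 47, 54, 96, 120] (by decide +kernel)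
    (C.pT (f16825 C)
    (C.pH [26, 38, 54, 89, 90, 113] [8, 48, 55, 76, 97, 115] (by decide +kernel) (C.pNil _ _)))))
    (C.pH [8, 30, 65, 84, 94, 117] [25, 29, 66, 70, 91, 109, 125] (by decide +kernel)
    (C.pT (f16827 C)
    (C.pH [26, 38, 54, 89, 90, 113] [25, 44, 67, 87, 94, 109, 123] (by decide +kernel) (C.pNil _ _))))
    (C.loop_of_one (relLoop1 C) _ _)

theorem f16829 : C.T (v19 C) [4, 40, 69, 82, 99, 109, 123] (v9 C) [8, 48, 55, 76, 97, 115] :=
  C.flip (f16828 C)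

theorem f16830 : C.T (v4 C) [11, 35, 65, 84, 101, 110, 124] (v4 C) [26, 41, 50, 71, 103, 110, 124] :=
  C.conv (f827 C) (f831 C) (f831 C) _ [129, 152, 166, 171] _ (by decide +kernel) (by decide +kernel) (by decide +kernel)

theorem f16831 : C.T (v4 C) [14, 32, 60, 79, 94, 110, 120] (v19 C) [11, 48, 53, 84, 96, 110, 119] :=
  C.conv (f15534 C) (f697 C) (f15567 C) _ [133, 161, 167, 174] _ (by decide +kernel) (by decide +kernel) (by decide +kernel)

theorem f16832 : C.T (v4 C) [8, 43, 83, 101, 110, 124] (v19 C) [15, 34, 65, 89, 91, 110, 120] :=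
  C.conv (f15534 C) (f697 C) (f15566 C) _ [137, 161, 170, 172, 177] _ (by decide +kernel) (by decide +kernel) (by decide +kernel)

theorem f16833 : C.T (v19 C) [15, 34, 65, 89, 91, 110, 120] (v4 C) [8, 43, 83, 101, 110, 124] :=
  C.flip (f16832 C)

theorem f16834 : C.T (v19 C) [24, 42, 64, 106, 110, 117] (v19 C) [10, 44, 57, 76, 106, 122] :=
  C.closeT (p := (v4 C)) (pu := [11, 35, 65, 84, 101, 110, 124])
    (C.pT (f16830 C)
    (C.pH [8, 30, 65, 84, 94, 117] [14, 32, 60, 79, 94, 110, 120] (by decide +kernel)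
    (C.pT (f16831 C)
    (C.pH [26, 38, 54, 89, 90, 113] [24, 42, 64, 106, 110, 117] (by decide +kernel) (C.pNil _ _)))))
    (C.pH [8, 30, 65, 84, 94, 117] [15, 34, 65, 89, 91, 110, 120] (by decide +kernel)
    (C.pT (f16833 C)
    (C.pH [26, 38, 54, 89, 90, 113] [11, 35, 65, 84, 101, 110, 124] (by decide +kernel) (C.pNil _ _))))
    (C.loop_of_one (relLoop1 C) _ _)

theorem f16837 : C.T (v4 C) [9, 35, 53, 89, 103, 110, 122] (v4 C) [19, 44, 65, 72, 108, 123] :=
  C.conv (f972 C) (f1194 C) (f1194 C) _ [131, 165, 176] _ (by decide +kernel) (by decide +kernel) (by decide +kernel)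

theorem f16838 : C.S (v4 C) [10, 27, 56, 84, 93, 109, 113] :=
  C.stMul (f407 C) (f421 C) _ (by decide +kernel)

theorem f16839 : C.S (v4 C) [16, 32, 68, 79, 93, 110, 124] :=
  C.stMul (f407 C) (f16838 C) _ (by decide +kernel)

theorem f16840 : C.S (v4 C) [18, 44, 51, 79, 106, 114] :=
  C.stMul (f421 C) (f16839 C) _ (by decide +kernel)

theorem f16841 : C.T (v4 C) [26, 35, 51, 84, 95, 110, 123] (v17 C) [9, 29, 62, 87, 93, 122] :=
  C.conv (f6113 C) (f16705 C) (f16840 C) _ [138, 163, 177] _ (by decide +kernel) (by decide +kernel) (by decide +kernel)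

theorem f16842 : C.T (v4 C) [15, 41, 62, 73, 100, 116] (v19 C) [24, 31, 60, 71, 106, 109, 123] :=
  C.conv (f16654 C) (f16691 C) (f693 C) _ [135, 158, 165, 171] _ (by decide +kernel) (by decide +kernel) (by decide +kernel)

theorem f16843 : C.T (v19 C) [24, 31, 60, 71, 106, 109, 123] (v4 C) [15, 41, 62, 73, 100, 116] :=
  C.flip (f16842 C)

theorem f16844 : C.T (v17 C) [22, 36, 60, 76, 92, 109, 125] (v19 C) [21, 40, 60, 79, 103, 109, 113] :=
  C.closeT (p := (v4 C)) (pu := [9, 35, 53, 89, 103, 110, 122])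
    (C.pT (f16837 C)
    (C.pH [8, 30, 65, 84, 94, 117] [26, 35, 51, 84, 95, 110, 123] (by decide +kernel)
    (C.pT (f16841 C)
    (C.pH [26, 38, 54, 89, 90, 113] [22, 36, 60, 76, 92, 109, 125] (by decide +kernel) (C.pNil _ _)))))
    (C.pH [8, 30, 65, 84, 94, 117] [24, 31, 60, 71, 106, 109, 123] (by decide +kernel)
    (C.pT (f16843 C)
    (C.pH [26, 38, 54, 89, 90, 113] [9, 35, 53, 89, 103, 110, 122] (by decide +kernel) (C.pNil _ _))))
    (C.loop_of_one (relLoop1 C) _ _)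

theorem f16845 : C.T (v19 C) [21, 40, 60, 79, 103, 109, 113] (v17 C) [22, 36, 60, 76, 92, 109, 125] :=
  C.flip (f16844 C)

theorem f16846 : C.T (v4 C) [24, 32, 61, 83, 108, 110, 123] (v5 C) [25, 32, 55, 78, 91, 111] :=
  C.conv (f1004 C) (f1032 C) (f1032 C) _ [150, 174, 177] _ (by decide +kernel) (by decide +kernel) (by decide +kernel)

theorem f16847 : C.S (v5 C) [10, 36, 50, 70, 106, 110, 123] :=
  C.stMul (f1023 C) (f1971 C) _ (by decide +kernel)

theorem f16848 : C.T (v5 C) [9, 45, 56, 74, 103, 109] (v5 C) [13, 42, 53, 77, 90, 109, 114] :=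
  C.conv (f1221 C) (f1225 C) (f16847 C) _ [147, 155, 165, 174] _ (by decide +kernel) (by decide +kernel) (by decide +kernel)

theorem f16849 : C.S (v4 C) [23, 41, 49, 78, 91, 109] :=
  C.stMul (f693 C) (f421 C) _ (by decide +kernel)

theorem f16850 : C.S (v4 C) [26, 36, 62, 77, 94, 121] :=
  C.stMul (f421 C) (f16849 C) _ (by decide +kernel)

theorem f16851 : C.T (v4 C) [11, 32, 54, 108, 109, 111] (v19 C) [5, 35, 60, 77, 106, 115] :=
  C.conv (f16654 C) (f16691 C) (f16850 C) _ [138, 152, 168, 172, 177] _ (by decide +kernel) (by decide +kernel) (by decide +kernel)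

theorem f16852 : C.T (v19 C) [5, 35, 60, 77, 106, 115] (v4 C) [11, 32, 54, 108, 109, 111] :=
  C.flip (f16851 C)

theorem f16853 : C.T (v5 C) [23, 32, 53, 98, 110, 118] (v19 C) [14, 27, 53, 76, 100, 110, 116] :=
  C.closeT (p := (v4 C)) (pu := [24, 32, 61, 83, 108, 110, 123])
    (C.pT (f16846 C)
    (C.pH [8, 30, 65, 84, 94, 117] [9, 45, 56, 74, 103, 109] (by decide +kernel)
    (C.pT (f16848 C)
    (C.pH [26, 38, 54, 89, 90, 113] [23, 32, 53, 98, 110, 118] (by decide +kernel) (C.pNil _ _)))))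
    (C.pH [8, 30, 65, 84, 94, 117] [5, 35, 60, 77, 106, 115] (by decide +kernel)
    (C.pT (f16852 C)
    (C.pH [26, 38, 54, 89, 90, 113] [24, 32, 61, 83, 108, 110, 123] (by decide +kernel) (C.pNil _ _))))
    (C.loop_of_one (relLoop1 C) _ _)

theorem f16854 : C.T (v19 C) [14, 27, 53, 76, 100, 110, 116] (v5 C) [23, 32, 53, 98, 110, 118] :=
  C.flip (f16853 C)

theorem f16855 : C.T (v4 C) [6, 42, 62, 99, 115] (v5 C) [17, 48, 67, 89, 97, 110, 116] :=
  C.conv (f1044 C) (f1279 C) (f1279 C) _ [128, 152, 169, 173, 177] _ (by decide +kernel) (by decide +kernel) (by decide +kernel)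

theorem f16856 : C.S (v5 C) [41, 51, 86, 105, 123] :=
  C.stMul (f1141 C) (f1008 C) _ (by decide +kernel)

theorem f16857 : C.S (v5 C) [20, 35, 58, 74, 106, 110, 121] :=
  C.stMul (f1023 C) (f16856 C) _ (by decide +kernel)

theorem f16858 : C.S (v5 C) [13, 30, 62, 89, 99, 110, 119] :=
  C.stMul (f986 C) (f16857 C) _ (by decide +kernel)

theorem f16859 : C.S (v5 C) [9, 47, 59, 85, 92, 123] :=
  C.stMul (f1008 C) (f986 C) _ (by decide +kernel)

theorem f16860 : C.T (v5 C) [22, 30, 54, 74, 102, 109, 118] (v19 C) [26, 28, 63, 77, 106, 109, 119] :=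
  C.conv (f16474 C) (f16858 C) (f16859 C) _ [141, 155, 168, 173, 177] _ (by decide +kernel) (by decide +kernel) (by decide +kernel)

theorem f16861 : C.S (v4 C) [12, 41, 63, 84, 102, 110, 115] :=
  C.stMul (f693 C) (f8537 C) _ (by decide +kernel)

theorem f16862 : C.T (v4 C) [21, 33, 61, 85, 97, 110, 124] (v18 C) [11, 28, 65, 89, 99, 116] :=
  C.conv (f8315 C) (f8537 C) (f16861 C) _ [143, 159, 169, 171] _ (by decide +kernel) (by decide +kernel) (by decide +kernel)

theorem f16863 : C.T (v18 C) [11, 28, 65, 89, 99, 116] (v4 C) [21, 33, 61, 85, 97, 110, 124] :=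
  C.flip (f16862 C)

theorem f16864 : C.T (v19 C) [16, 47, 55, 78, 96, 110, 125] (v18 C) [13, 31, 53, 78, 103, 109, 113] :=
  C.closeT (p := (v4 C)) (pu := [6, 42, 62, 99, 115])
    (C.pT (f16855 C)
    (C.pH [8, 30, 65, 84, 94, 117] [22, 30, 54, 74, 102, 109, 118] (by decide +kernel)
    (C.pT (f16860 C)
    (C.pH [26, 38, 54, 89, 90, 113] [16, 47, 55, 78, 96, 110, 125] (by decide +kernel) (C.pNil _ _)))))
    (C.pH [8, 30, 65, 84, 94, 117] [11, 28, 65, 89, 99, 116] (by decide +kernel)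
    (C.pT (f16863 C)
    (C.pH [26, 38, 54, 89, 90, 113] [6, 42, 62, 99, 115] (by decide +kernel) (C.pNil _ _))))
    (C.loop_of_one (relLoop1 C) _ _)

theorem f16865 : C.T (v18 C) [13, 31, 53, 78, 103, 109, 113] (v19 C) [16, 47, 55, 78, 96, 110, 125] :=
  C.flip (f16864 C)

theorem f16866 : C.T (v4 C) [9, 27, 51, 76, 90, 109, 112] (v9 C) [7, 38, 104, 119] :=
  C.conv (f2044 C) (f2809 C) (f2809 C) _ [143, 154, 167, 173] _ (by decide +kernel) (by decide +kernel) (by decide +kernel)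

theorem f16867 : C.T (v4 C) [15, 42, 55, 71, 106, 110, 124] (v18 C) [16, 38, 57, 70, 92, 109, 112] :=
  C.conv (f7256 C) (f7503 C) (f14598 C) _ [137, 154, 165, 176, 178] _ (by decide +kernel) (by decide +kernel) (by decide +kernel)

theorem f16868 : C.T (v18 C) [16, 38, 57, 70, 92, 109, 112] (v4 C) [15, 42, 55, 71, 106, 110, 124] :=
  C.flip (f16867 C)

theorem f16869 : C.S (v18 C) [26, 43, 49, 77, 91, 110, 115] :=
  C.stMul (f6836 C) (f6836 C) _ (by decide +kernel)

theorem f16870 : C.T (v18 C) [24, 31, 69, 86, 106, 110, 119] (v19 C) [12, 31, 53, 83, 95, 110, 123] :=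
  C.conv (f16177 C) (f16869 C) (f16869 C) _ [142, 161, 169, 173, 178] _ (by decide +kernel) (by decide +kernel) (by decide +kernel)

theorem f16871 : C.T (v19 C) [12, 31, 53, 83, 95, 110, 123] (v18 C) [24, 31, 69, 86, 106, 110, 119] :=
  C.flip (f16870 C)

theorem f16872 : C.T (v9 C) [17, 29, 54, 81, 94, 121] (v19 C) [24, 40, 60, 87, 102, 114] :=
  C.closeT (p := (v4 C)) (pu := [9, 27, 51, 76, 90, 109, 112])
    (C.pT (f16866 C)
    (C.pH [8, 30, 65, 84, 94, 117] [17, 29, 54, 81, 94, 121] (by decide +kernel) (C.pNil _ _)))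
    (C.pH [26, 38, 54, 89, 90, 113] [12, 31, 53, 83, 95, 110, 123] (by decide +kernel)
    (C.pT (f16871 C)
    (C.pH [8, 30, 65, 84, 94, 117] [16, 38, 57, 70, 92, 109, 112] (by decide +kernel)
    (C.pT (f16868 C)
    (C.pH [26, 38, 54, 89, 90, 113] [9, 27, 51, 76, 90, 109, 112] (by decide +kernel) (C.pNil _ _))))))
    (C.loop_of_one (relLoop1 C) _ _)

theorem f16873 : C.T (v19 C) [24, 40, 60, 87, 102, 114] (v9 C) [17, 29, 54, 81, 94, 121] :=
  C.flip (f16872 C)

theorem f16874 : C.T (v4 C) [21, 43, 66, 71, 94, 110, 113] (v15 C) [23, 43, 56, 74, 94, 114] :=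
  C.conv (f2613 C) (f2621 C) (f2621 C) _ [140, 149, 168, 176, 178] _ (by decide +kernel) (by decide +kernel) (by decide +kernel)

theorem f16875 : C.T (v4 C) [10, 46, 61, 91, 110, 111] (v18 C) [12, 29, 67, 84, 91, 109, 116] :=
  C.conv (f6924 C) (f7427 C) (f407 C) _ [134, 160, 167, 173, 177] _ (by decide +kernel) (by decide +kernel) (by decide +kernel)

theorem f16876 : C.T (v18 C) [12, 29, 67, 84, 91, 109, 116] (v4 C) [10, 46, 61, 91, 110, 111] :=
  C.flip (f16875 C)

theorem f16877 : C.T (v18 C) [5, 43, 50, 85, 105, 109, 123] (v19 C) [10, 35, 66, 76, 97, 109, 125] :=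
  C.conv (f16212 C) (f6836 C) (f6836 C) _ [142, 156, 166, 174, 178] _ (by decide +kernel) (by decide +kernel) (by decide +kernel)

theorem f16878 : C.T (v19 C) [10, 35, 66, 76, 97, 109, 125] (v18 C) [5, 43, 50, 85, 105, 109, 123] :=
  C.flip (f16877 C)

theorem f16879 : C.T (v15 C) [10, 30, 56, 84, 100, 109, 123] (v19 C) [18, 45, 60, 87, 91, 109, 122] :=
  C.closeT (p := (v4 C)) (pu := [21, 43, 66, 71, 94, 110, 113])
    (C.pT (f16874 C)
    (C.pH [8, 30, 65, 84, 94, 117] [10, 30, 56, 84, 100, 109, 123] (by decide +kernel) (C.pNil _ _)))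
    (C.pH [26, 38, 54, 89, 90, 113] [10, 35, 66, 76, 97, 109, 125] (by decide +kernel)
    (C.pT (f16878 C)
    (C.pH [8, 30, 65, 84, 94, 117] [12, 29, 67, 84, 91, 109, 116] (by decide +kernel)
    (C.pT (f16876 C)
    (C.pH [26, 38, 54, 89, 90, 113] [21, 43, 66, 71, 94, 110, 113] (by decide +kernel) (C.pNil _ _))))))
    (C.loop_of_one (relLoop1 C) _ _)

theorem f16880 : C.T (v19 C) [18, 45, 60, 87, 91, 109, 122] (v15 C) [10, 30, 56, 84, 100, 109, 123] :=
  C.flip (f16879 C)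

theorem f16881 : C.T (v4 C) [16, 27, 77, 96, 117] (v15 C) [13, 31, 53, 89, 94, 110, 121] :=
  C.conv (f2613 C) (f2621 C) (f2621 C) _ [126, 169, 178] _ (by decide +kernel) (by decide +kernel) (by decide +kernel)

theorem f16882 : C.S (v15 C) [25, 46, 61, 102, 110, 119] :=
  C.stMul (f2565 C) (f2569 C) _ (by decide +kernel)

theorem f16883 : C.S (v15 C) [25, 39, 65, 80, 99, 110, 113] :=
  C.stMul (f2581 C) (f16882 C) _ (by decide +kernel)

theorem f16884 : C.S (v15 C) [25, 47, 66, 86, 107, 124] :=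
  C.stMul (f2569 C) (f2565 C) _ (by decide +kernel)

theorem f16885 : C.S (v15 C) [25, 32, 63, 84, 105, 109, 124] :=
  C.stMul (f2581 C) (f16884 C) _ (by decide +kernel)

theorem f16886 : C.T (v15 C) [11, 28, 65, 85, 114] (v19 C) [26, 37, 65, 87, 92, 109, 125] :=
  C.conv (f16384 C) (f16883 C) (f16885 C) _ [129, 152, 168, 172] _ (by decide +kernel) (by decide +kernel) (by decide +kernel)

theorem f16887 : C.S (v4 C) [26, 44, 64, 94, 121] :=
  C.stMul (f693 C) (f16747 C) _ (by decide +kernel)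

theorem f16888 : C.S (v4 C) [23, 27, 56, 70, 98, 125] :=
  C.stMul (f421 C) (f16887 C) _ (by decide +kernel)

theorem f16889 : C.T (v4 C) [26, 37, 57, 77, 93, 109, 124] (v19 C) [19, 50, 89, 99, 110, 118] :=
  C.conv (f16663 C) (f16667 C) (f16888 C) _ [145, 157, 165, 171, 177] _ (by decide +kernel) (by decide +kernel) (by decide +kernel)

theorem f16890 : C.T (v19 C) [19, 50, 89, 99, 110, 118] (v4 C) [26, 37, 57, 77, 93, 109, 124] :=
  C.flip (f16889 C)

theorem f16891 : C.T (v19 C) [16, 27, 50, 102, 110, 119] (v19 C) [15, 42, 55, 70, 98, 114] :=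
  C.closeT (p := (v4 C)) (pu := [16, 27, 77, 96, 117])
    (C.pT (f16881 C)
    (C.pH [8, 30, 65, 84, 94, 117] [11, 28, 65, 85, 114] (by decide +kernel)
    (C.pT (f16886 C)
    (C.pH [26, 38, 54, 89, 90, 113] [16, 27, 50, 102, 110, 119] (by decide +kernel) (C.pNil _ _)))))
    (C.pH [8, 30, 65, 84, 94, 117] [19, 50, 89, 99, 110, 118] (by decide +kernel)
    (C.pT (f16890 C)
    (C.pH [26, 38, 54, 89, 90, 113] [16, 27, 77, 96, 117] (by decide +kernel) (C.pNil _ _))))
    (C.loop_of_one (relLoop1 C) _ _)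

theorem f16895 : C.T (v4 C) [7, 36, 64, 78, 95, 110, 117] (v15 C) [24, 32, 65, 71, 94, 109, 123] :=
  C.conv (f2644 C) (f693 C) (f693 C) _ [147, 155, 171, 177] _ (by decide +kernel) (by decide +kernel) (by decide +kernel)

theorem f16896 : C.S (v4 C) [23, 52, 80, 95, 123] :=
  C.stMul (f407 C) (f13802 C) _ (by decide +kernel)

theorem f16897 : C.T (v4 C) [23, 38, 59, 75, 104, 115] (v18 C) [20, 46, 58, 75, 97, 110] :=
  C.conv (f6881 C) (f13597 C) (f16896 C) _ [143, 159, 167, 173] _ (by decide +kernel) (by decide +kernel) (by decide +kernel)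

theorem f16898 : C.T (v18 C) [20, 46, 58, 75, 97, 110] (v4 C) [23, 38, 59, 75, 104, 115] :=
  C.flip (f16897 C)

theorem f16899 : C.S (v18 C) [26, 43, 49, 77, 91, 110, 115] :=
  C.stMul (f6836 C) (f6836 C) _ (by decide +kernel)

theorem f16900 : C.T (v18 C) [16, 35, 59, 83, 109, 115] (v19 C) [6, 45, 67, 81, 90, 109, 113] :=
  C.conv (f16194 C) (f16899 C) (f16899 C) _ [126, 150, 164, 178] _ (by decide +kernel) (by decide +kernel) (by decide +kernel)

theorem f16901 : C.T (v19 C) [6, 45, 67, 81, 90, 109, 113] (v18 C) [16, 35, 59, 83, 109, 115] :=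
  C.flip (f16900 C)

theorem f16902 : C.T (v15 C) [16, 40, 52, 75, 97, 110, 120] (v19 C) [21, 42, 66, 87, 91, 110, 113] :=
  C.closeT (p := (v4 C)) (pu := [7, 36, 64, 78, 95, 110, 117])
    (C.pT (f16895 C)
    (C.pH [8, 30, 65, 84, 94, 117] [16, 40, 52, 75, 97, 110, 120] (by decide +kernel) (C.pNil _ _)))
    (C.pH [26, 38, 54, 89, 90, 113] [6, 45, 67, 81, 90, 109, 113] (by decide +kernel)
    (C.pT (f16901 C)
    (C.pH [8, 30, 65, 84, 94, 117] [20, 46, 58, 75, 97, 110] (by decide +kernel)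
    (C.pT (f16898 C)
    (C.pH [26, 38, 54, 89, 90, 113] [7, 36, 64, 78, 95, 110, 117] (by decide +kernel) (C.pNil _ _))))))
    (C.loop_of_one (relLoop1 C) _ _)

theorem f16903 : C.T (v19 C) [21, 42, 66, 87, 91, 110, 113] (v15 C) [16, 40, 52, 75, 97, 110, 120] :=
  C.flip (f16902 C)

theorem f16904 : C.T (v4 C) [26, 37, 66, 81, 104, 109, 122] (v15 C) [11, 44, 50, 82, 106, 109, 116] :=
  C.conv (f2644 C) (f693 C) (f693 C) _ [140, 164, 173] _ (by decide +kernel) (by decide +kernel) (by decide +kernel)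

theorem f16905 : C.S (v15 C) [24, 44, 51, 82, 106, 110, 112] :=
  C.stMul (f2565 C) (f5184 C) _ (by decide +kernel)

theorem f16906 : C.T (v15 C) [7, 29, 67, 79, 98, 115] (v17 C) [9, 40, 59, 83, 105, 110, 124] :=
  C.conv (f4922 C) (f2565 C) (f16905 C) _ [142, 161, 169, 176, 177] _ (by decide +kernel) (by decide +kernel) (by decide +kernel)

theorem f16907 : C.T (v4 C) [42, 66, 82, 92, 112] (v19 C) [16, 33, 88, 105, 110] :=
  C.conv (f15534 C) (f697 C) (f16024 C) _ [138, 154, 166, 171, 178] _ (by decide +kernel) (by decide +kernel) (by decide +kernel)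

theorem f16908 : C.T (v19 C) [16, 33, 88, 105, 110] (v4 C) [42, 66, 82, 92, 112] :=
  C.flip (f16907 C)

theorem f16909 : C.T (v17 C) [22, 31, 54, 71, 98, 109, 123] (v19 C) [24, 39, 54, 93, 109] :=
  C.closeT (p := (v4 C)) (pu := [26, 37, 66, 81, 104, 109, 122])
    (C.pT (f16904 C)
    (C.pH [8, 30, 65, 84, 94, 117] [7, 29, 67, 79, 98, 115] (by decide +kernel)
    (C.pT (f16906 C)
    (C.pH [26, 38, 54, 89, 90, 113] [22, 31, 54, 71, 98, 109, 123] (by decide +kernel) (C.pNil _ _)))))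
    (C.pH [8, 30, 65, 84, 94, 117] [16, 33, 88, 105, 110] (by decide +kernel)
    (C.pT (f16908 C)
    (C.pH [26, 38, 54, 89, 90, 113] [26, 37, 66, 81, 104, 109, 122] (by decide +kernel) (C.pNil _ _))))
    (C.loop_of_one (relLoop1 C) _ _)

theorem f16910 : C.T (v19 C) [24, 39, 54, 93, 109] (v17 C) [22, 31, 54, 71, 98, 109, 123] :=
  C.flip (f16909 C)

theorem f16911 : C.T (v4 C) [26, 34, 60, 71, 106, 115] (v15 C) [10, 48, 67, 71, 94, 114] :=
  C.conv (f2662 C) (f2712 C) (f2712 C) _ [129, 160, 167, 176, 178] _ (by decide +kernel) (by decide +kernel) (by decide +kernel)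

theorem f16912 : C.S (v15 C) [24, 47, 64, 83, 99, 109, 111] :=
  C.stMul (f2581 C) (f2569 C) _ (by decide +kernel)

theorem f16913 : C.T (v15 C) [15, 39, 54, 103, 109, 116] (v19 C) [24, 31, 60, 71, 103, 115] :=
  C.conv (f16053 C) (f16912 C) (f16912 C) _ [140, 161, 166, 173, 178] _ (by decide +kernel) (by decide +kernel) (by decide +kernel)

theorem f16914 : C.S (v4 C) [16, 43, 64, 82, 90, 110, 123] :=
  C.stMul (f421 C) (f16717 C) _ (by decide +kernel)

theorem f16915 : C.T (v4 C) [29, 62, 84, 108, 109, 112] (v19 C) [18, 35, 64, 78, 99] :=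
  C.conv (f16654 C) (f16691 C) (f16914 C) _ [129, 158, 165] _ (by decide +kernel) (by decide +kernel) (by decide +kernel)

theorem f16916 : C.T (v19 C) [18, 35, 64, 78, 99] (v4 C) [29, 62, 84, 108, 109, 112] :=
  C.flip (f16915 C)

theorem f16917 : C.T (v19 C) [12, 37, 78, 97, 124] (v19 C) [9, 48, 54, 102, 118] :=
  C.closeT (p := (v4 C)) (pu := [26, 34, 60, 71, 106, 115])
    (C.pT (f16911 C)
    (C.pH [8, 30, 65, 84, 94, 117] [15, 39, 54, 103, 109, 116] (by decide +kernel)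
    (C.pT (f16913 C)
    (C.pH [26, 38, 54, 89, 90, 113] [12, 37, 78, 97, 124] (by decide +kernel) (C.pNil _ _)))))
    (C.pH [8, 30, 65, 84, 94, 117] [18, 35, 64, 78, 99] (by decide +kernel)
    (C.pT (f16916 C)
    (C.pH [26, 38, 54, 89, 90, 113] [26, 34, 60, 71, 106, 115] (by decide +kernel) (C.pNil _ _))))
    (C.loop_of_one (relLoop1 C) _ _)

theorem f16918 : C.T (v19 C) [9, 48, 54, 102, 118] (v19 C) [12, 37, 78, 97, 124] :=
  C.flip (f16917 C)

theorem f16919 : C.T (v4 C) [9, 40, 56, 89, 98, 109, 118] (v15 C) [18, 41, 57, 74, 103, 109, 116] :=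
  C.conv (f2717 C) (f407 C) (f407 C) _ [141, 149, 166, 173, 178] _ (by decide +kernel) (by decide +kernel) (by decide +kernel)

theorem f16920 : C.S (v15 C) [20, 45, 65, 78, 96, 109, 125] :=
  C.stMul (f2565 C) (f2581 C) _ (by decide +kernel)

theorem f16921 : C.S (v15 C) [25, 46, 61, 102, 110, 119] :=
  C.stMul (f2565 C) (f2569 C) _ (by decide +kernel)

theorem f16922 : C.S (v15 C) [25, 39, 65, 80, 99, 110, 113] :=
  C.stMul (f2581 C) (f16921 C) _ (by decide +kernel)

theorem f16923 : C.T (v15 C) [4, 34, 49, 84, 105, 110, 112] (v19 C) [7, 28, 63, 70, 103, 113] :=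
  C.conv (f15926 C) (f16920 C) (f16922 C) _ [135, 166, 171] _ (by decide +kernel) (by decide +kernel) (by decide +kernel)

theorem f16924 : C.S (v4 C) [16, 46, 68, 72, 103, 110, 111] :=
  C.stMul (f693 C) (f8341 C) _ (by decide +kernel)

theorem f16925 : C.T (v4 C) [15, 33, 62, 89, 107, 110, 111] (v18 C) [11, 34, 55, 81, 108, 109, 123] :=
  C.conv (f7423 C) (f7483 C) (f16924 C) _ [148, 153, 167, 177] _ (by decide +kernel) (by decide +kernel) (by decide +kernel)

theorem f16926 : C.T (v18 C) [11, 34, 55, 81, 108, 109, 123] (v4 C) [15, 33, 62, 89, 107, 110, 111] :=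
  C.flip (f16925 C)

theorem f16927 : C.T (v19 C) [43, 64, 76, 108] (v18 C) [13, 42, 61, 77, 95, 109] :=
  C.closeT (p := (v4 C)) (pu := [9, 40, 56, 89, 98, 109, 118])
    (C.pT (f16919 C)
    (C.pH [8, 30, 65, 84, 94, 117] [4, 34, 49, 84, 105, 110, 112] (by decide +kernel)
    (C.pT (f16923 C)
    (C.pH [26, 38, 54, 89, 90, 113] [43, 64, 76, 108] (by decide +kernel) (C.pNil _ _)))))
    (C.pH [8, 30, 65, 84, 94, 117] [11, 34, 55, 81, 108, 109, 123] (by decide +kernel)
    (C.pT (f16926 C)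
    (C.pH [26, 38, 54, 89, 90, 113] [9, 40, 56, 89, 98, 109, 118] (by decide +kernel) (C.pNil _ _))))
    (C.loop_of_one (relLoop1 C) _ _)

theorem f16928 : C.T (v18 C) [13, 42, 61, 77, 95, 109] (v19 C) [43, 64, 76, 108] :=
  C.flip (f16927 C)

theorem f16929 : C.T (v4 C) [8, 32, 50, 74, 90, 110, 115] (v15 C) [13, 34, 64, 89, 94, 109, 119] :=
  C.conv (f2744 C) (f2911 C) (f2911 C) _ [128, 151, 170, 174, 177] _ (by decide +kernel) (by decide +kernel) (by decide +kernel)

theorem f16930 : C.T (v15 C) [11, 29, 84, 92, 109] (v19 C) [24, 56, 78, 95, 114] :=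
  C.conv (f15926 C) (f16920 C) (f2581 C) _ [136, 151, 164, 173, 177] _ (by decide +kernel) (by decide +kernel) (by decide +kernel)

theorem f16931 : C.S (v4 C) [17, 35, 66, 70, 95] :=
  C.stMul (f421 C) (f407 C) _ (by decide +kernel)

theorem f16932 : C.S (v4 C) [26, 44, 64, 94, 121] :=
  C.stMul (f693 C) (f16931 C) _ (by decide +kernel)

theorem f16933 : C.T (v4 C) [5, 37, 61, 87, 94, 110, 120] (v18 C) [10, 44, 49, 86, 94, 109, 123] :=
  C.conv (f13456 C) (f421 C) (f16932 C) _ [126, 167, 172, 177] _ (by decide +kernel) (by decide +kernel) (by decide +kernel)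

theorem f16934 : C.T (v18 C) [10, 44, 49, 86, 94, 109, 123] (v4 C) [5, 37, 61, 87, 94, 110, 120] :=
  C.flip (f16933 C)

theorem f16935 : C.T (v19 C) [12, 39, 56, 88, 106, 118] (v18 C) [23, 42, 51, 75, 99, 110] :=
  C.closeT (p := (v4 C)) (pu := [8, 32, 50, 74, 90, 110, 115])
    (C.pT (f16929 C)
    (C.pH [8, 30, 65, 84, 94, 117] [11, 29, 84, 92, 109] (by decide +kernel)
    (C.pT (f16930 C)
    (C.pH [26, 38, 54, 89, 90, 113] [12, 39, 56, 88, 106, 118] (by decide +kernel) (C.pNil _ _)))))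
    (C.pH [8, 30, 65, 84, 94, 117] [10, 44, 49, 86, 94, 109, 123] (by decide +kernel)
    (C.pT (f16934 C)
    (C.pH [26, 38, 54, 89, 90, 113] [8, 32, 50, 74, 90, 110, 115] (by decide +kernel) (C.pNil _ _))))
    (C.loop_of_one (relLoop1 C) _ _)

theorem f16936 : C.T (v18 C) [23, 42, 51, 75, 99, 110] (v19 C) [12, 39, 56, 88, 106, 118] :=
  C.flip (f16935 C)

theorem f16937 : C.T (v4 C) [18, 32, 59, 81, 123] (v15 C) [20, 39, 63, 80, 93, 110, 116] :=
  C.conv (f2755 C) (f2758 C) (f2758 C) _ [137, 156, 166, 176, 178] _ (by decide +kernel) (by decide +kernel) (by decide +kernel)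

theorem f16938 : C.S (v15 C) [25, 47, 66, 86, 107, 124] :=
  C.stMul (f2569 C) (f2565 C) _ (by decide +kernel)

theorem f16939 : C.S (v15 C) [20, 63, 89, 93, 110, 115] :=
  C.stMul (f2569 C) (f16938 C) _ (by decide +kernel)

theorem f16940 : C.T (v15 C) [23, 30, 60, 71, 101, 125] (v19 C) [35, 69, 74, 100, 109, 116] :=
  C.conv (f16053 C) (f16912 C) (f16939 C) _ [126, 154, 167, 178] _ (by decide +kernel) (by decide +kernel) (by decide +kernel)

theorem f16941 : C.S (v4 C) [10, 42, 56, 80, 93, 109, 122] :=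
  C.stMul (f693 C) (f8415 C) _ (by decide +kernel)

theorem f16942 : C.S (v4 C) [25, 32, 52, 83, 96, 110, 121] :=
  C.stMul (f421 C) (f16941 C) _ (by decide +kernel)

theorem f16943 : C.T (v4 C) [25, 42, 58, 71, 93, 109, 112] (v17 C) [12, 34, 60, 78, 100, 109, 112] :=
  C.conv (f5838 C) (f8414 C) (f16942 C) _ [140, 159, 165, 175] _ (by decide +kernel) (by decide +kernel) (by decide +kernel)

theorem f16944 : C.T (v17 C) [12, 34, 60, 78, 100, 109, 112] (v4 C) [25, 42, 58, 71, 93, 109, 112] :=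
  C.flip (f16943 C)

theorem f16945 : C.T (v19 C) [26, 47, 50, 81, 94, 125] (v17 C) [5, 42, 66, 83, 99, 109, 121] :=
  C.closeT (p := (v4 C)) (pu := [18, 32, 59, 81, 123])
    (C.pT (f16937 C)
    (C.pH [8, 30, 65, 84, 94, 117] [23, 30, 60, 71, 101, 125] (by decide +kernel)
    (C.pT (f16940 C)
    (C.pH [26, 38, 54, 89, 90, 113] [26, 47, 50, 81, 94, 125] (by decide +kernel) (C.pNil _ _)))))
    (C.pH [8, 30, 65, 84, 94, 117] [12, 34, 60, 78, 100, 109, 112] (by decide +kernel)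
    (C.pT (f16944 C)
    (C.pH [26, 38, 54, 89, 90, 113] [18, 32, 59, 81, 123] (by decide +kernel) (C.pNil _ _))))
    (C.loop_of_one (relLoop1 C) _ _)

theorem f16946 : C.T (v17 C) [5, 42, 66, 83, 99, 109, 121] (v19 C) [26, 47, 50, 81, 94, 125] :=
  C.flip (f16945 C)

theorem f16947 : C.T (v4 C) [8, 39, 98, 115] (v15 C) [24, 31, 49, 80, 108, 109, 117] :=
  C.conv (f2764 C) (f693 C) (f693 C) _ [141, 163, 170, 176, 178] _ (by decide +kernel) (by decide +kernel) (by decide +kernel)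

theorem f16948 : C.S (v4 C) [16, 32, 68, 79, 93, 110, 124] :=
  C.stMul (f407 C) (f8300 C) _ (by decide +kernel)

theorem f16949 : C.S (v4 C) [18, 44, 51, 79, 106, 114] :=
  C.stMul (f421 C) (f16948 C) _ (by decide +kernel)

theorem f16950 : C.T (v4 C) [5, 32, 58, 75, 91, 109, 118] (v16 C) [11, 35, 62, 75, 96, 124] :=
  C.conv (f3706 C) (f8301 C) (f16949 C) _ [141, 150, 166] _ (by decide +kernel) (by decide +kernel) (by decide +kernel)

theorem f16951 : C.T (v16 C) [11, 35, 62, 75, 96, 124] (v4 C) [5, 32, 58, 75, 91, 109, 118] :=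
  C.flip (f16950 C)

theorem f16952 : C.T (v16 C) [13, 29, 64, 85, 91, 110, 117] (v19 C) [13, 38, 57, 77, 108, 109, 119] :=
  C.conv (f16549 C) (f3451 C) (f3480 C) _ [146, 163, 167, 174, 178] _ (by decide +kernel) (by decide +kernel) (by decide +kernel)

theorem f16953 : C.T (v19 C) [13, 38, 57, 77, 108, 109, 119] (v16 C) [13, 29, 64, 85, 91, 110, 117] :=
  C.flip (f16952 C)

theorem f16954 : C.T (v15 C) [16, 38, 51, 86, 91, 109, 111] (v19 C) [16, 31, 61, 79, 95, 124] :=
  C.closeT (p := (v4 C)) (pu := [8, 39, 98, 115])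
    (C.pT (f16947 C)
    (C.pH [8, 30, 65, 84, 94, 117] [16, 38, 51, 86, 91, 109, 111] (by decide +kernel) (C.pNil _ _)))
    (C.pH [26, 38, 54, 89, 90, 113] [13, 38, 57, 77, 108, 109, 119] (by decide +kernel)
    (C.pT (f16953 C)
    (C.pH [8, 30, 65, 84, 94, 117] [11, 35, 62, 75, 96, 124] (by decide +kernel)
    (C.pT (f16951 C)
    (C.pH [26, 38, 54, 89, 90, 113] [8, 39, 98, 115] (by decide +kernel) (C.pNil _ _))))))
    (C.loop_of_one (relLoop1 C) _ _)

theorem f16955 : C.T (v19 C) [16, 31, 61, 79, 95, 124] (v15 C) [16, 38, 51, 86, 91, 109, 111] :=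
  C.flip (f16954 C)

theorem f16956 : C.T (v4 C) [10, 28, 61, 71, 102, 112] (v16 C) [14, 42, 52, 80, 98, 116] :=
  C.conv (f3641 C) (f13592 C) (f13592 C) _ [146, 153, 164, 176, 178] _ (by decide +kernel) (by decide +kernel) (by decide +kernel)

theorem f16957 : C.S (v16 C) [18, 40, 55, 73, 98, 112] :=
  C.stMul (f3480 C) (f3451 C) _ (by decide +kernel)

theorem f16958 : C.S (v16 C) [11, 40, 62, 81, 115] :=
  C.stMul (f3468 C) (f16957 C) _ (by decide +kernel)

theorem f16959 : C.T (v16 C) [5, 40, 63, 78, 107, 119] (v19 C) [26, 43, 66, 86, 104, 110, 122] :=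
  C.conv (f15745 C) (f3458 C) (f16958 C) _ [137, 158, 166, 173] _ (by decide +kernel) (by decide +kernel) (by decide +kernel)

theorem f16960 : C.S (v4 C) [10, 42, 56, 80, 93, 109, 122] :=
  C.stMul (f693 C) (f10191 C) _ (by decide +kernel)

theorem f16961 : C.S (v4 C) [25, 32, 52, 83, 96, 110, 121] :=
  C.stMul (f421 C) (f16960 C) _ (by decide +kernel)

theorem f16962 : C.T (v4 C) [18, 47, 60, 83, 106, 120] (v17 C) [11, 37, 52, 83, 98, 110, 111] :=
  C.conv (f6121 C) (f10193 C) (f16961 C) _ [130, 156, 166, 178] _ (by decide +kernel) (by decide +kernel) (by decide +kernel)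

theorem f16963 : C.T (v17 C) [11, 37, 52, 83, 98, 110, 111] (v4 C) [18, 47, 60, 83, 106, 120] :=
  C.flip (f16962 C)

theorem f16964 : C.T (v19 C) [16, 43, 61, 72, 98, 120] (v17 C) [13, 38, 61, 85, 94, 110, 121] :=
  C.closeT (p := (v4 C)) (pu := [10, 28, 61, 71, 102, 112])
    (C.pT (f16956 C)
    (C.pH [8, 30, 65, 84, 94, 117] [5, 40, 63, 78, 107, 119] (by decide +kernel)
    (C.pT (f16959 C)
    (C.pH [26, 38, 54, 89, 90, 113] [16, 43, 61, 72, 98, 120] (by decide +kernel) (C.pNil _ _)))))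
    (C.pH [8, 30, 65, 84, 94, 117] [11, 37, 52, 83, 98, 110, 111] (by decide +kernel)
    (C.pT (f16963 C)
    (C.pH [26, 38, 54, 89, 90, 113] [10, 28, 61, 71, 102, 112] (by decide +kernel) (C.pNil _ _))))
    (C.loop_of_one (relLoop1 C) _ _)

theorem f16965 : C.T (v17 C) [13, 38, 61, 85, 94, 110, 121] (v19 C) [16, 43, 61, 72, 98, 120] :=
  C.flip (f16964 C)

theorem f16966 : C.T (v4 C) [6, 40, 57, 73, 99, 110, 123] (v16 C) [5, 47, 62, 70, 106, 109, 113] :=
  C.conv (f3641 C) (f13592 C) (f13592 C) _ [147, 156, 166, 172, 177] _ (by decide +kernel) (by decide +kernel) (by decide +kernel)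

theorem f16967 : C.S (v4 C) [17, 29, 60, 75, 100, 110, 113] :=
  C.stMul (f407 C) (f8462 C) _ (by decide +kernel)

theorem f16968 : C.S (v4 C) [12, 44, 50, 85, 106, 124] :=
  C.stMul (f421 C) (f16967 C) _ (by decide +kernel)

theorem f16969 : C.T (v4 C) [21, 30, 54, 89, 105, 109, 122] (v17 C) [25, 35, 55, 92, 111] :=
  C.conv (f5526 C) (f407 C) (f16968 C) _ [137, 158, 167, 171, 178] _ (by decide +kernel) (by decide +kernel) (by decide +kernel)

theorem f16970 : C.T (v17 C) [25, 35, 55, 92, 111] (v4 C) [21, 30, 54, 89, 105, 109, 122] :=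
  C.flip (f16969 C)

theorem f16971 : C.S (v17 C) [51, 81, 96, 109, 125] :=
  C.stMul (f4132 C) (f4137 C) _ (by decide +kernel)

theorem f16972 : C.T (v17 C) [4, 46, 50, 82, 103, 110, 121] (v19 C) [13, 46, 62, 70, 106, 109, 124] :=
  C.conv (f15809 C) (f16971 C) (f4300 C) _ [145, 166, 177] _ (by decide +kernel) (by decide +kernel) (by decide +kernel)

theorem f16973 : C.T (v19 C) [13, 46, 62, 70, 106, 109, 124] (v17 C) [4, 46, 50, 82, 103, 110, 121] :=
  C.flip (f16972 C)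

theorem f16974 : C.T (v16 C) [12, 33, 64, 99, 121] (v19 C) [16, 32, 57, 81, 101, 110, 118] :=
  C.closeT (p := (v4 C)) (pu := [6, 40, 57, 73, 99, 110, 123])
    (C.pT (f16966 C)
    (C.pH [8, 30, 65, 84, 94, 117] [12, 33, 64, 99, 121] (by decide +kernel) (C.pNil _ _)))
    (C.pH [26, 38, 54, 89, 90, 113] [13, 46, 62, 70, 106, 109, 124] (by decide +kernel)
    (C.pT (f16973 C)
    (C.pH [8, 30, 65, 84, 94, 117] [25, 35, 55, 92, 111] (by decide +kernel)
    (C.pT (f16970 C)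
    (C.pH [26, 38, 54, 89, 90, 113] [6, 40, 57, 73, 99, 110, 123] (by decide +kernel) (C.pNil _ _))))))
    (C.loop_of_one (relLoop1 C) _ _)

theorem f16975 : C.T (v19 C) [16, 32, 57, 81, 101, 110, 118] (v16 C) [12, 33, 64, 99, 121] :=
  C.flip (f16974 C)

theorem f16976 : C.T (v4 C) [11, 38, 65, 89, 100, 121] (v16 C) [24, 45, 63, 75, 107, 114] :=
  C.conv (f3706 C) (f8301 C) (f8301 C) _ [142, 154, 168, 178] _ (by decide +kernel) (by decide +kernel) (by decide +kernel)

theorem f16977 : C.S (v4 C) [13, 28, 60, 83, 108, 110, 119] :=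
  C.stMul (f421 C) (f693 C) _ (by decide +kernel)

theorem f16978 : C.T (v4 C) [8, 34, 59, 74, 94, 109, 121] (v18 C) [8, 35, 63, 80, 106, 109, 122] :=
  C.conv (f13456 C) (f421 C) (f16977 C) _ [136, 156, 164, 175, 177] _ (by decide +kernel) (by decide +kernel) (by decide +kernel)

theorem f16979 : C.T (v18 C) [8, 35, 63, 80, 106, 109, 122] (v4 C) [8, 34, 59, 74, 94, 109, 121] :=
  C.flip (f16978 C)

theorem f16980 : C.T (v18 C) [48, 67, 89, 93, 109, 116] (v19 C) [10, 35, 49, 85, 92, 110, 117] :=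
  C.conv (f15781 C) (f7121 C) (f7121 C) _ [137, 151, 164, 174, 178] _ (by decide +kernel) (by decide +kernel) (by decide +kernel)

theorem f16981 : C.T (v19 C) [10, 35, 49, 85, 92, 110, 117] (v18 C) [48, 67, 89, 93, 109, 116] :=
  C.flip (f16980 C)

theorem f16982 : C.T (v16 C) [16, 31, 51, 84, 90, 110, 116] (v19 C) [18, 45, 62, 87, 98, 110, 123] :=
  C.closeT (p := (v4 C)) (pu := [11, 38, 65, 89, 100, 121])
    (C.pT (f16976 C)
    (C.pH [8, 30, 65, 84, 94, 117] [16, 31, 51, 84, 90, 110, 116] (by decide +kernel) (C.pNil _ _)))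
    (C.pH [26, 38, 54, 89, 90, 113] [10, 35, 49, 85, 92, 110, 117] (by decide +kernel)
    (C.pT (f16981 C)
    (C.pH [8, 30, 65, 84, 94, 117] [8, 35, 63, 80, 106, 109, 122] (by decide +kernel)
    (C.pT (f16979 C)
    (C.pH [26, 38, 54, 89, 90, 113] [11, 38, 65, 89, 100, 121] (by decide +kernel) (C.pNil _ _))))))
    (C.loop_of_one (relLoop1 C) _ _)

theorem f16983 : C.T (v19 C) [18, 45, 62, 87, 98, 110, 123] (v16 C) [16, 31, 51, 84, 90, 110, 116] :=
  C.flip (f16982 C)

theorem f16984 : C.T (v4 C) [10, 47, 65, 87, 103, 110, 124] (v16 C) [24, 43, 68, 81, 106, 121] :=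
  C.conv (f3935 C) (f4106 C) (f4106 C) _ [144, 163, 165, 174, 177] _ (by decide +kernel) (by decide +kernel) (by decide +kernel)

theorem f16985 : C.S (v16 C) [18, 40, 55, 73, 98, 112] :=
  C.stMul (f3480 C) (f3451 C) _ (by decide +kernel)

theorem f16986 : C.S (v16 C) [11, 40, 62, 81, 115] :=
  C.stMul (f3468 C) (f16985 C) _ (by decide +kernel)

theorem f16987 : C.T (v16 C) [16, 44, 54, 82, 90, 110, 114] (v19 C) [9, 40, 67, 81, 99, 111] :=
  C.conv (f16549 C) (f3451 C) (f16986 C) _ [126, 153, 167, 174] _ (by decide +kernel) (by decide +kernel) (by decide +kernel)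

theorem f16988 : C.S (v4 C) [23, 41, 49, 78, 91, 109] :=
  C.stMul (f693 C) (f421 C) _ (by decide +kernel)

theorem f16989 : C.T (v4 C) [18, 43, 62, 84, 97, 115] (v17 C) [15, 38, 59, 82, 95, 110, 125] :=
  C.conv (f4648 C) (f13689 C) (f16988 C) _ [134, 152, 165, 174, 177] _ (by decide +kernel) (by decide +kernel) (by decide +kernel)

theorem f16990 : C.T (v17 C) [15, 38, 59, 82, 95, 110, 125] (v4 C) [18, 43, 62, 84, 97, 115] :=
  C.flip (f16989 C)

theorem f16991 : C.T (v19 C) [22, 31, 58, 75, 100, 119] (v17 C) [10, 35, 50, 83, 99, 125] :=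
  C.closeT (p := (v4 C)) (pu := [10, 47, 65, 87, 103, 110, 124])
    (C.pT (f16984 C)
    (C.pH [8, 30, 65, 84, 94, 117] [16, 44, 54, 82, 90, 110, 114] (by decide +kernel)
    (C.pT (f16987 C)
    (C.pH [26, 38, 54, 89, 90, 113] [22, 31, 58, 75, 100, 119] (by decide +kernel) (C.pNil _ _)))))
    (C.pH [8, 30, 65, 84, 94, 117] [15, 38, 59, 82, 95, 110, 125] (by decide +kernel)
    (C.pT (f16990 C)
    (C.pH [26, 38, 54, 89, 90, 113] [10, 47, 65, 87, 103, 110, 124] (by decide +kernel) (C.pNil _ _))))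
    (C.loop_of_one (relLoop1 C) _ _)

theorem f16992 : C.T (v17 C) [10, 35, 50, 83, 99, 125] (v19 C) [22, 31, 58, 75, 100, 119] :=
  C.flip (f16991 C)

theorem f16993 : C.T (v4 C) [19, 42, 70, 106, 110, 115] (v16 C) [14, 27, 54, 86, 101, 118] :=
  C.conv (f3935 C) (f4106 C) (f4106 C) _ [135, 157, 169, 174] _ (by decide +kernel) (by decide +kernel) (by decide +kernel)

theorem f16994 : C.S (v16 C) [23, 40, 50, 79, 96] :=
  C.stMul (f3468 C) (f3456 C) _ (by decide +kernel)

theorem f16995 : C.S (v16 C) [11, 45, 67, 80, 101, 110, 114] :=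
  C.stMul (f3480 C) (f16994 C) _ (by decide +kernel)

theorem f16996 : C.T (v16 C) [5, 35, 68, 85, 105, 110, 115] (v19 C) [4, 29, 54, 81, 108, 110, 116] :=
  C.conv (f15907 C) (f16995 C) (f3480 C) _ [145, 158, 167, 172] _ (by decide +kernel) (by decide +kernel) (by decide +kernel)

theorem f16997 : C.S (v4 C) [10, 27, 56, 84, 93, 109, 113] :=
  C.stMul (f407 C) (f421 C) _ (by decide +kernel)

theorem f16998 : C.S (v4 C) [16, 32, 68, 79, 93, 110, 124] :=
  C.stMul (f407 C) (f16997 C) _ (by decide +kernel)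

theorem f16999 : C.S (v4 C) [18, 44, 51, 79, 106, 114] :=
  C.stMul (f421 C) (f16998 C) _ (by decide +kernel)

theorem f17000 : C.S (v4 C) [23, 52, 80, 95, 123] :=
  C.stMul (f407 C) (f16999 C) _ (by decide +kernel)

theorem f17001 : C.T (v4 C) [22, 47, 57, 70, 106, 110, 115] (v17 C) [21, 39, 57, 70, 92, 110, 117] :=
  C.conv (f5213 C) (f13726 C) (f17000 C) _ [139, 152, 164, 177] _ (by decide +kernel) (by decide +kernel) (by decide +kernel)

theorem f17002 : C.T (v17 C) [21, 39, 57, 70, 92, 110, 117] (v4 C) [22, 47, 57, 70, 106, 110, 115] :=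
  C.flip (f17001 C)

theorem f17003 : C.T (v19 C) [25, 37, 62, 85, 102, 110, 111] (v17 C) [12, 30, 49, 74, 90, 116] :=
  C.closeT (p := (v4 C)) (pu := [19, 42, 70, 106, 110, 115])
    (C.pT (f16993 C)
    (C.pH [8, 30, 65, 84, 94, 117] [5, 35, 68, 85, 105, 110, 115] (by decide +kernel)
    (C.pT (f16996 C)
    (C.pH [26, 38, 54, 89, 90, 113] [25, 37, 62, 85, 102, 110, 111] (by decide +kernel) (C.pNil _ _)))))
    (C.pH [8, 30, 65, 84, 94, 117] [21, 39, 57, 70, 92, 110, 117] (by decide +kernel)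
    (C.pT (f17002 C)
    (C.pH [26, 38, 54, 89, 90, 113] [19, 42, 70, 106, 110, 115] (by decide +kernel) (C.pNil _ _))))
    (C.loop_of_one (relLoop1 C) _ _)

theorem f17004 : C.T (v17 C) [12, 30, 49, 74, 90, 116] (v19 C) [25, 37, 62, 85, 102, 110, 111] :=
  C.flip (f17003 C)

theorem f17005 : C.T (v4 C) [10, 29, 59, 80, 109, 114] (v16 C) [4, 38, 63, 80, 97, 109, 114] :=
  C.conv (f4054 C) (f7459 C) (f7459 C) _ [135, 163, 169, 172, 177] _ (by decide +kernel) (by decide +kernel) (by decide +kernel)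

theorem f17006 : C.S (v16 C) [18, 48, 62, 92] :=
  C.stMul (f3456 C) (f3451 C) _ (by decide +kernel)

theorem f17007 : C.S (v16 C) [12, 39, 50, 77, 95, 109, 124] :=
  C.stMul (f3480 C) (f17006 C) _ (by decide +kernel)

theorem f17008 : C.S (v16 C) [20, 29, 52, 78, 95] :=
  C.stMul (f3468 C) (f17007 C) _ (by decide +kernel)

theorem f17009 : C.T (v16 C) [25, 39, 55, 80, 97, 109, 114] (v19 C) [6, 30, 51, 70, 110, 121] :=
  C.conv (f16522 C) (f17008 C) (f3468 C) _ [133, 150, 167, 171, 177] _ (by decide +kernel) (by decide +kernel) (by decide +kernel)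

theorem f17010 : C.S (v4 C) [17, 41, 87, 92, 116] :=
  C.stMul (f693 C) (f1880 C) _ (by decide +kernel)

theorem f17011 : C.T (v4 C) [18, 37, 59, 84, 105, 110] (v10 C) [26, 37, 60, 74, 103, 109, 116] :=
  C.conv (f1798 C) (f1856 C) (f17010 C) _ [140, 161, 170, 172, 178] _ (by decide +kernel) (by decide +kernel) (by decide +kernel)

theorem f17012 : C.T (v10 C) [26, 37, 60, 74, 103, 109, 116] (v4 C) [18, 37, 59, 84, 105, 110] :=
  C.flip (f17011 C)

theorem f17013 : C.T (v19 C) [4, 38, 58, 88, 97, 111] (v10 C) [19, 32, 77, 92, 109, 116] :=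
  C.closeT (p := (v4 C)) (pu := [10, 29, 59, 80, 109, 114])
    (C.pT (f17005 C)
    (C.pH [8, 30, 65, 84, 94, 117] [25, 39, 55, 80, 97, 109, 114] (by decide +kernel)
    (C.pT (f17009 C)
    (C.pH [26, 38, 54, 89, 90, 113] [4, 38, 58, 88, 97, 111] (by decide +kernel) (C.pNil _ _)))))
    (C.pH [8, 30, 65, 84, 94, 117] [26, 37, 60, 74, 103, 109, 116] (by decide +kernel)
    (C.pT (f17012 C)
    (C.pH [26, 38, 54, 89, 90, 113] [10, 29, 59, 80, 109, 114] (by decide +kernel) (C.pNil _ _))))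
    (C.loop_of_one (relLoop1 C) _ _)

theorem f17014 : C.T (v10 C) [19, 32, 77, 92, 109, 116] (v19 C) [4, 38, 58, 88, 97, 111] :=
  C.flip (f17013 C)

theorem f17015 : C.T (v4 C) [26, 39, 61, 74, 90, 109, 120] (v16 C) [5, 46, 53, 73, 92, 112] :=
  C.conv (f4054 C) (f7459 C) (f7459 C) _ [141, 154, 173, 177] _ (by decide +kernel) (by decide +kernel) (by decide +kernel)

theorem f17016 : C.S (v16 C) [28, 55, 71, 105, 109, 119] :=
  C.stMul (f3458 C) (f3451 C) _ (by decide +kernel)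

theorem f17017 : C.S (v16 C) [7, 39, 67, 74, 92, 110] :=
  C.stMul (f3480 C) (f17016 C) _ (by decide +kernel)

theorem f17018 : C.T (v16 C) [12, 28, 62, 73, 96, 110] (v19 C) [9, 44, 61, 79, 108, 110, 123] :=
  C.conv (f15907 C) (f16995 C) (f17017 C) _ [138, 158, 164, 174, 178] _ (by decide +kernel) (by decide +kernel) (by decide +kernel)

theorem f17019 : C.S (v4 C) [10, 27, 56, 84, 93, 109, 113] :=
  C.stMul (f407 C) (f421 C) _ (by decide +kernel)

theorem f17020 : C.S (v4 C) [16, 32, 68, 79, 93, 110, 124] :=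
  C.stMul (f407 C) (f17019 C) _ (by decide +kernel)

theorem f17021 : C.S (v4 C) [18, 44, 51, 79, 106, 114] :=
  C.stMul (f421 C) (f17020 C) _ (by decide +kernel)

theorem f17022 : C.S (v4 C) [23, 52, 80, 95, 123] :=
  C.stMul (f407 C) (f17021 C) _ (by decide +kernel)

theorem f17023 : C.T (v4 C) [41, 63, 73, 95, 109, 123] (v18 C) [13, 48, 56, 70, 98, 109, 122] :=
  C.conv (f6895 C) (f8570 C) (f17022 C) _ [144, 158, 167, 174, 178] _ (by decide +kernel) (by decide +kernel) (by decide +kernel)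

theorem f17024 : C.T (v18 C) [13, 48, 56, 70, 98, 109, 122] (v4 C) [41, 63, 73, 95, 109, 123] :=
  C.flip (f17023 C)

theorem f17025 : C.T (v19 C) [22, 48, 61, 80, 92, 124] (v18 C) [6, 27, 60, 83, 91, 109, 116] :=
  C.closeT (p := (v4 C)) (pu := [26, 39, 61, 74, 90, 109, 120])
    (C.pT (f17015 C)
    (C.pH [8, 30, 65, 84, 94, 117] [12, 28, 62, 73, 96, 110] (by decide +kernel)
    (C.pT (f17018 C)
    (C.pH [26, 38, 54, 89, 90, 113] [22, 48, 61, 80, 92, 124] (by decide +kernel) (C.pNil _ _)))))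
    (C.pH [8, 30, 65, 84, 94, 117] [13, 48, 56, 70, 98, 109, 122] (by decide +kernel)
    (C.pT (f17024 C)
    (C.pH [26, 38, 54, 89, 90, 113] [26, 39, 61, 74, 90, 109, 120] (by decide +kernel) (C.pNil _ _))))
    (C.loop_of_one (relLoop1 C) _ _)

theorem f17026 : C.T (v18 C) [6, 27, 60, 83, 91, 109, 116] (v19 C) [22, 48, 61, 80, 92, 124] :=
  C.flip (f17025 C)

theorem f17027 : C.T (v4 C) [13, 45, 65, 105, 114] (v17 C) [5, 38, 63, 84, 109, 122] :=
  C.conv (f4790 C) (f407 C) (f407 C) _ [138, 156, 178] _ (by decide +kernel) (by decide +kernel) (by decide +kernel)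

theorem f17028 : C.T (v4 C) [16, 37, 59, 73, 104, 111] (v18 C) [25, 46, 68, 70, 90, 114] :=
  C.conv (f7423 C) (f7483 C) (f13495 C) _ [136, 165, 173] _ (by decide +kernel) (by decide +kernel) (by decide +kernel)

theorem f17029 : C.T (v18 C) [25, 46, 68, 70, 90, 114] (v4 C) [16, 37, 59, 73, 104, 111] :=
  C.flip (f17028 C)

theorem f17030 : C.S (v18 C) [26, 43, 49, 77, 91, 110, 115] :=
  C.stMul (f6836 C) (f6836 C) _ (by decide +kernel)

theorem f17031 : C.T (v18 C) [4, 32, 68, 70, 90, 114] (v19 C) [24, 36, 67, 80, 95, 110, 122] :=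
  C.conv (f15751 C) (f6836 C) (f17030 C) _ [143, 154, 165, 177] _ (by decide +kernel) (by decide +kernel) (by decide +kernel)

theorem f17032 : C.T (v19 C) [24, 36, 67, 80, 95, 110, 122] (v18 C) [4, 32, 68, 70, 90, 114] :=
  C.flip (f17031 C)

theorem f17033 : C.T (v17 C) [12, 30, 58, 71, 92, 109, 117] (v19 C) [11, 44, 52, 76, 106, 110, 119] :=
  C.closeT (p := (v4 C)) (pu := [13, 45, 65, 105, 114])
    (C.pT (f17027 C)
    (C.pH [8, 30, 65, 84, 94, 117] [12, 30, 58, 71, 92, 109, 117] (by decide +kernel) (C.pNil _ _)))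
    (C.pH [26, 38, 54, 89, 90, 113] [24, 36, 67, 80, 95, 110, 122] (by decide +kernel)
    (C.pT (f17032 C)
    (C.pH [8, 30, 65, 84, 94, 117] [25, 46, 68, 70, 90, 114] (by decide +kernel)
    (C.pT (f17029 C)
    (C.pH [26, 38, 54, 89, 90, 113] [13, 45, 65, 105, 114] (by decide +kernel) (C.pNil _ _))))))
    (C.loop_of_one (relLoop1 C) _ _)

theorem f17034 : C.T (v19 C) [11, 44, 52, 76, 106, 110, 119] (v17 C) [12, 30, 58, 71, 92, 109, 117] :=
  C.flip (f17033 C)

theorem f17035 : C.T (v4 C) [21, 37, 59, 84, 90, 109, 111] (v17 C) [10, 43, 58, 78, 103, 112] :=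
  C.conv (f5213 C) (f13726 C) (f13726 C) _ [130, 153, 167, 173, 177] _ (by decide +kernel) (by decide +kernel) (by decide +kernel)

theorem f17036 : C.T (v17 C) [15, 28, 64, 82, 92, 109, 117] (v19 C) [16, 38, 60, 75, 98, 114] :=
  C.conv (f16245 C) (f4132 C) (f4137 C) _ [160, 171, 177] _ (by decide +kernel) (by decide +kernel) (by decide +kernel)

theorem f17037 : C.T (v4 C) [10, 37, 58, 106, 110, 114] (v9 C) [17, 35, 52, 78, 105, 110, 125] :=
  C.conv (f2044 C) (f2809 C) (f407 C) _ [132, 157, 164, 172] _ (by decide +kernel) (by decide +kernel) (by decide +kernel)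

theorem f17038 : C.T (v9 C) [17, 35, 52, 78, 105, 110, 125] (v4 C) [10, 37, 58, 106, 110, 114] :=
  C.flip (f17037 C)

theorem f17039 : C.T (v19 C) [13, 34, 49, 83, 102, 120] (v9 C) [7, 45, 62, 71, 93, 109, 113] :=
  C.closeT (p := (v4 C)) (pu := [21, 37, 59, 84, 90, 109, 111])
    (C.pT (f17035 C)
    (C.pH [8, 30, 65, 84, 94, 117] [15, 28, 64, 82, 92, 109, 117] (by decide +kernel)
    (C.pT (f17036 C)
    (C.pH [26, 38, 54, 89, 90, 113] [13, 34, 49, 83, 102, 120] (by decide +kernel) (C.pNil _ _)))))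
    (C.pH [8, 30, 65, 84, 94, 117] [17, 35, 52, 78, 105, 110, 125] (by decide +kernel)
    (C.pT (f17038 C)
    (C.pH [26, 38, 54, 89, 90, 113] [21, 37, 59, 84, 90, 109, 111] (by decide +kernel) (C.pNil _ _))))
    (C.loop_of_one (relLoop1 C) _ _)

theorem f17040 : C.T (v9 C) [7, 45, 62, 71, 93, 109, 113] (v19 C) [13, 34, 49, 83, 102, 120] :=
  C.flip (f17039 C)

theorem f17041 : C.T (v4 C) [19, 34, 52, 72, 105, 110, 113] (v17 C) [22, 31, 59, 87, 92, 122] :=
  C.conv (f5526 C) (f407 C) (f407 C) _ [130, 156, 166, 173] _ (by decide +kernel) (by decide +kernel) (by decide +kernel)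

theorem f17042 : C.T (v4 C) [22, 44, 58, 72, 95, 109, 124] (v16 C) [4, 47, 66, 88, 100, 119] :=
  C.conv (f3706 C) (f8301 C) (f16948 C) _ [133, 157, 173] _ (by decide +kernel) (by decide +kernel) (by decide +kernel)

theorem f17043 : C.T (v16 C) [4, 47, 66, 88, 100, 119] (v4 C) [22, 44, 58, 72, 95, 109, 124] :=
  C.flip (f17042 C)

theorem f17044 : C.S (v16 C) [18, 48, 62, 92] :=
  C.stMul (f3456 C) (f3451 C) _ (by decide +kernel)

theorem f17045 : C.S (v16 C) [11, 45, 64, 79, 106, 110, 119] :=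
  C.stMul (f3468 C) (f17044 C) _ (by decide +kernel)

theorem f17046 : C.T (v16 C) [18, 55, 84, 104, 110, 125] (v19 C) [24, 32, 65, 83, 106, 109, 124] :=
  C.conv (f16389 C) (f3456 C) (f17045 C) _ [138, 156, 165, 178] _ (by decide +kernel) (by decide +kernel) (by decide +kernel)

theorem f17047 : C.T (v19 C) [24, 32, 65, 83, 106, 109, 124] (v16 C) [18, 55, 84, 104, 110, 125] :=
  C.flip (f17046 C)

theorem f17048 : C.T (v17 C) [6, 36, 62, 72, 103, 110, 124] (v19 C) [11, 32, 58, 87, 90, 109, 119] :=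
  C.closeT (p := (v4 C)) (pu := [19, 34, 52, 72, 105, 110, 113])
    (C.pT (f17041 C)
    (C.pH [8, 30, 65, 84, 94, 117] [6, 36, 62, 72, 103, 110, 124] (by decide +kernel) (C.pNil _ _)))
    (C.pH [26, 38, 54, 89, 90, 113] [24, 32, 65, 83, 106, 109, 124] (by decide +kernel)
    (C.pT (f17047 C)
    (C.pH [8, 30, 65, 84, 94, 117] [4, 47, 66, 88, 100, 119] (by decide +kernel)
    (C.pT (f17043 C)
    (C.pH [26, 38, 54, 89, 90, 113] [19, 34, 52, 72, 105, 110, 113] (by decide +kernel) (C.pNil _ _))))))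
    (C.loop_of_one (relLoop1 C) _ _)

theorem f17049 : C.T (v19 C) [11, 32, 58, 87, 90, 109, 119] (v17 C) [6, 36, 62, 72, 103, 110, 124] :=
  C.flip (f17048 C)

theorem f17050 : C.T (v4 C) [21, 38, 61, 73, 97, 109, 123] (v17 C) [8, 36, 65, 86, 91, 110, 124] :=
  C.conv (f5838 C) (f8414 C) (f8414 C) _ [127, 150, 164, 173, 177] _ (by decide +kernel) (by decide +kernel) (by decide +kernel)

theorem f17051 : C.T (v4 C) [10, 40, 51, 79, 97, 109, 115] (v18 C) [15, 48, 56, 85, 103, 109, 114] :=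
  C.conv (f8441 C) (f421 C) (f14252 C) _ [138, 157, 170, 172, 178] _ (by decide +kernel) (by decide +kernel) (by decide +kernel)

theorem f17052 : C.T (v18 C) [15, 48, 56, 85, 103, 109, 114] (v4 C) [10, 40, 51, 79, 97, 109, 115] :=
  C.flip (f17051 C)

theorem f17053 : C.T (v18 C) [10, 41, 51, 92, 125] (v19 C) [13, 36, 61, 80, 108, 109] :=
  C.conv (f16021 C) (f6836 C) (f6836 C) _ [127, 168, 174, 177] _ (by decide +kernel) (by decide +kernel) (by decide +kernel)

theorem f17054 : C.T (v19 C) [13, 36, 61, 80, 108, 109] (v18 C) [10, 41, 51, 92, 125] :=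
  C.flip (f17053 C)

theorem f17055 : C.T (v17 C) [33, 55, 76, 108, 109, 115] (v19 C) [16, 36, 60, 85, 102, 121] :=
  C.closeT (p := (v4 C)) (pu := [21, 38, 61, 73, 97, 109, 123])
    (C.pT (f17050 C)
    (C.pH [8, 30, 65, 84, 94, 117] [33, 55, 76, 108, 109, 115] (by decide +kernel) (C.pNil _ _)))
    (C.pH [26, 38, 54, 89, 90, 113] [13, 36, 61, 80, 108, 109] (by decide +kernel)
    (C.pT (f17054 C)
    (C.pH [8, 30, 65, 84, 94, 117] [15, 48, 56, 85, 103, 109, 114] (by decide +kernel)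
    (C.pT (f17052 C)
    (C.pH [26, 38, 54, 89, 90, 113] [21, 38, 61, 73, 97, 109, 123] (by decide +kernel) (C.pNil _ _))))))
    (C.loop_of_one (relLoop1 C) _ _)

theorem f17056 : C.T (v19 C) [16, 36, 60, 85, 102, 121] (v17 C) [33, 55, 76, 108, 109, 115] :=
  C.flip (f17055 C)

theorem f17057 : C.T (v4 C) [8, 43, 53, 72, 101, 109, 117] (v17 C) [12, 31, 55, 86, 108, 110, 112] :=
  C.conv (f6156 C) (f6564 C) (f6564 C) _ [139, 151, 166, 175, 178] _ (by decide +kernel) (by decide +kernel) (by decide +kernel)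

theorem f17058 : C.T (v17 C) [21, 29, 64, 80, 92, 110, 121] (v19 C) [8, 36, 63, 84, 108, 109, 124] :=
  C.conv (f16092 C) (f4300 C) (f4132 C) _ [133, 156, 169, 173] _ (by decide +kernel) (by decide +kernel) (by decide +kernel)

theorem f17059 : C.T (v4 C) [5, 27, 53, 88, 90, 124] (v18 C) [5, 41, 52, 85, 95, 110, 117] :=
  C.conv (f6930 C) (f7494 C) (f7867 C) _ [127, 163, 165, 176] _ (by decide +kernel) (by decide +kernel) (by decide +kernel)

theorem f17060 : C.T (v18 C) [5, 41, 52, 85, 95, 110, 117] (v4 C) [5, 27, 53, 88, 90, 124] :=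
  C.flip (f17059 C)

theorem f17061 : C.T (v19 C) [11, 42, 54, 73, 108, 110, 117] (v18 C) [14, 39, 62, 71, 97, 110] :=
  C.closeT (p := (v4 C)) (pu := [8, 43, 53, 72, 101, 109, 117])
    (C.pT (f17057 C)
    (C.pH [8, 30, 65, 84, 94, 117] [21, 29, 64, 80, 92, 110, 121] (by decide +kernel)
    (C.pT (f17058 C)
    (C.pH [26, 38, 54, 89, 90, 113] [11, 42, 54, 73, 108, 110, 117] (by decide +kernel) (C.pNil _ _)))))
    (C.pH [8, 30, 65, 84, 94, 117] [5, 41, 52, 85, 95, 110, 117] (by decide +kernel)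
    (C.pT (f17060 C)
    (C.pH [26, 38, 54, 89, 90, 113] [8, 43, 53, 72, 101, 109, 117] (by decide +kernel) (C.pNil _ _))))
    (C.loop_of_one (relLoop1 C) _ _)

theorem f17062 : C.T (v18 C) [14, 39, 62, 71, 97, 110] (v19 C) [11, 42, 54, 73, 108, 110, 117] :=
  C.flip (f17061 C)

theorem f17063 : C.T (v4 C) [9, 42, 55, 89, 94, 110, 114] (v17 C) [10, 36, 51, 83, 90, 120] :=
  C.conv (f6345 C) (f14380 C) (f14380 C) _ [169, 172] _ (by decide +kernel) (by decide +kernel) (by decide +kernel)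

theorem f17064 : C.S (v17 C) [23, 31, 49, 84, 96, 117] :=
  C.stMul (f4137 C) (f4137 C) _ (by decide +kernel)

theorem f17065 : C.T (v17 C) [15, 41, 66, 84, 90, 110, 115] (v19 C) [8, 35, 52, 87, 104, 110, 120] :=
  C.conv (f16421 C) (f17064 C) (f4300 C) _ [140, 159, 167, 172, 177] _ (by decide +kernel) (by decide +kernel) (by decide +kernel)

theorem f17066 : C.S (v4 C) [8, 31, 60, 85, 98, 110, 125] :=
  C.stMul (f693 C) (f407 C) _ (by decide +kernel)

theorem f17067 : C.S (v4 C) [42, 63, 82, 91, 110, 125] :=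
  C.stMul (f421 C) (f17066 C) _ (by decide +kernel)

theorem f17068 : C.S (v4 C) [12, 31, 56, 72, 107, 109, 112] :=
  C.stMul (f407 C) (f17067 C) _ (by decide +kernel)

theorem f17069 : C.T (v4 C) [15, 39, 57, 77, 96, 115] (v17 C) [26, 36, 62, 79, 93, 117] :=
  C.conv (f4958 C) (f13703 C) (f17068 C) _ [138, 151, 168, 175] _ (by decide +kernel) (by decide +kernel) (by decide +kernel)

theorem f17070 : C.T (v17 C) [26, 36, 62, 79, 93, 117] (v4 C) [15, 39, 57, 77, 96, 115] :=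
  C.flip (f17069 C)

theorem f17071 : C.T (v19 C) [11, 62, 75, 118] (v17 C) [19, 34, 49, 97, 110, 125] :=
  C.closeT (p := (v4 C)) (pu := [9, 42, 55, 89, 94, 110, 114])
    (C.pT (f17063 C)
    (C.pH [8, 30, 65, 84, 94, 117] [15, 41, 66, 84, 90, 110, 115] (by decide +kernel)
    (C.pT (f17065 C)
    (C.pH [26, 38, 54, 89, 90, 113] [11, 62, 75, 118] (by decide +kernel) (C.pNil _ _)))))
    (C.pH [8, 30, 65, 84, 94, 117] [26, 36, 62, 79, 93, 117] (by decide +kernel)
    (C.pT (f17070 C)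
    (C.pH [26, 38, 54, 89, 90, 113] [9, 42, 55, 89, 94, 110, 114] (by decide +kernel) (C.pNil _ _))))
    (C.loop_of_one (relLoop1 C) _ _)

theorem f17072 : C.T (v17 C) [19, 34, 49, 97, 110, 125] (v19 C) [11, 62, 75, 118] :=
  C.flip (f17071 C)

theorem f17073 : C.T (v4 C) [15, 28, 65, 82, 93, 110, 123] (v17 C) [5, 32, 53, 88, 101, 110, 121] :=
  C.conv (f6345 C) (f14380 C) (f14380 C) _ [163, 166, 178] _ (by decide +kernel) (by decide +kernel) (by decide +kernel)

theorem f17074 : C.T (v17 C) [12, 35, 88, 100, 112] (v19 C) [21, 44, 67, 84, 107, 121] :=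
  C.conv (f15586 C) (f4132 C) (f4300 C) _ [140, 161, 169, 175, 178] _ (by decide +kernel) (by decide +kernel) (by decide +kernel)

theorem f17075 : C.T (v4 C) [20, 38, 62, 89, 105, 109, 121] (v19 C) [11, 28, 49, 79, 98, 109, 115] :=
  C.conv (f16663 C) (f16667 C) (f16888 C) _ [138, 163, 166, 173] _ (by decide +kernel) (by decide +kernel) (by decide +kernel)

theorem f17076 : C.T (v19 C) [11, 28, 49, 79, 98, 109, 115] (v4 C) [20, 38, 62, 89, 105, 109, 121] :=
  C.flip (f17075 C)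

theorem f17077 : C.T (v19 C) [6, 29, 69, 103, 109, 121] (v19 C) [13, 31, 64, 80, 91, 109, 120] :=
  C.closeT (p := (v4 C)) (pu := [15, 28, 65, 82, 93, 110, 123])
    (C.pT (f17073 C)
    (C.pH [8, 30, 65, 84, 94, 117] [12, 35, 88, 100, 112] (by decide +kernel)
    (C.pT (f17074 C)
    (C.pH [26, 38, 54, 89, 90, 113] [6, 29, 69, 103, 109, 121] (by decide +kernel) (C.pNil _ _)))))
    (C.pH [8, 30, 65, 84, 94, 117] [11, 28, 49, 79, 98, 109, 115] (by decide +kernel)
    (C.pT (f17076 C)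
    (C.pH [26, 38, 54, 89, 90, 113] [15, 28, 65, 82, 93, 110, 123] (by decide +kernel) (C.pNil _ _))))
    (C.loop_of_one (relLoop1 C) _ _)

theorem f17078 : C.T (v19 C) [13, 31, 64, 80, 91, 109, 120] (v19 C) [6, 29, 69, 103, 109, 121] :=
  C.flip (f17077 C)

theorem f17079 : C.T (v4 C) [18, 34, 60, 74, 98, 122] (v17 C) [25, 47, 58, 73, 106, 109, 111] :=
  C.conv (f6475 C) (f697 C) (f697 C) _ [127, 154, 170, 176, 178] _ (by decide +kernel) (by decide +kernel) (by decide +kernel)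

theorem f17080 : C.S (v4 C) [18, 46, 49, 75, 97, 110, 118] :=
  C.stMul (f407 C) (f407 C) _ (by decide +kernel)

theorem f17081 : C.S (v4 C) [16, 43, 64, 82, 90, 110, 123] :=
  C.stMul (f421 C) (f17080 C) _ (by decide +kernel)

theorem f17082 : C.S (v4 C) [21, 60, 87, 91, 109, 120] :=
  C.stMul (f407 C) (f17081 C) _ (by decide +kernel)

theorem f17083 : C.T (v4 C) [25, 36, 64, 80, 96, 109, 118] (v18 C) [25, 45, 60, 88, 125] :=
  C.conv (f8053 C) (f8487 C) (f17082 C) _ [132, 160, 166, 171, 178] _ (by decide +kernel) (by decide +kernel) (by decide +kernel)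

theorem f17084 : C.T (v18 C) [25, 45, 60, 88, 125] (v4 C) [25, 36, 64, 80, 96, 109, 118] :=
  C.flip (f17083 C)

theorem f17085 : C.S (v18 C) [26, 43, 49, 77, 91, 110, 115] :=
  C.stMul (f6836 C) (f6836 C) _ (by decide +kernel)

theorem f17086 : C.T (v18 C) [4, 44, 65, 70, 101, 110, 114] (v19 C) [16, 34, 54, 89, 106, 120] :=
  C.conv (f15867 C) (f7121 C) (f17085 C) _ [127, 155, 167, 171, 177] _ (by decide +kernel) (by decide +kernel) (by decide +kernel)

theorem f17087 : C.T (v19 C) [16, 34, 54, 89, 106, 120] (v18 C) [4, 44, 65, 70, 101, 110, 114] :=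
  C.flip (f17086 C)

theorem f17088 : C.T (v17 C) [9, 32, 68, 79, 100, 110, 116] (v19 C) [26, 34, 60, 70, 105, 110, 125] :=
  C.closeT (p := (v4 C)) (pu := [18, 34, 60, 74, 98, 122])
    (C.pT (f17079 C)
    (C.pH [8, 30, 65, 84, 94, 117] [9, 32, 68, 79, 100, 110, 116] (by decide +kernel) (C.pNil _ _)))
    (C.pH [26, 38, 54, 89, 90, 113] [16, 34, 54, 89, 106, 120] (by decide +kernel)
    (C.pT (f17087 C)
    (C.pH [8, 30, 65, 84, 94, 117] [25, 45, 60, 88, 125] (by decide +kernel)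
    (C.pT (f17084 C)
    (C.pH [26, 38, 54, 89, 90, 113] [18, 34, 60, 74, 98, 122] (by decide +kernel) (C.pNil _ _))))))
    (C.loop_of_one (relLoop1 C) _ _)

theorem f17089 : C.T (v19 C) [26, 34, 60, 70, 105, 110, 125] (v17 C) [9, 32, 68, 79, 100, 110, 116] :=
  C.flip (f17088 C)

theorem f17090 : C.T (v4 C) [8, 32, 55, 86, 98, 109, 119] (v18 C) [8, 30, 72, 92, 110, 122] :=
  C.conv (f6863 C) (f8698 C) (f8698 C) _ [126, 169, 173] _ (by decide +kernel) (by decide +kernel) (by decide +kernel)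

theorem f17091 : C.T (v18 C) [31, 62, 77, 108, 122] (v19 C) [4, 43, 56, 71, 97, 109, 122] :=
  C.conv (f16194 C) (f16899 C) (f16899 C) _ [132, 162] _ (by decide +kernel) (by decide +kernel) (by decide +kernel)

theorem f17092 : C.S (v4 C) [26, 44, 64, 94, 121] :=
  C.stMul (f693 C) (f14151 C) _ (by decide +kernel)

theorem f17093 : C.T (v4 C) [5, 37, 62, 81, 94, 115] (v18 C) [24, 37, 61, 75, 90, 118] :=
  C.conv (f10112 C) (f14154 C) (f17092 C) _ [126, 159, 166, 171, 178] _ (by decide +kernel) (by decide +kernel) (by decide +kernel)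

theorem f17094 : C.T (v18 C) [24, 37, 61, 75, 90, 118] (v4 C) [5, 37, 62, 81, 94, 115] :=
  C.flip (f17093 C)

theorem f17095 : C.T (v19 C) [25, 41, 56, 84, 105, 109, 111] (v18 C) [21, 32, 62, 76, 98, 110, 120] :=
  C.closeT (p := (v4 C)) (pu := [8, 32, 55, 86, 98, 109, 119])
    (C.pT (f17090 C)
    (C.pH [8, 30, 65, 84, 94, 117] [31, 62, 77, 108, 122] (by decide +kernel)
    (C.pT (f17091 C)
    (C.pH [26, 38, 54, 89, 90, 113] [25, 41, 56, 84, 105, 109, 111] (by decide +kernel) (C.pNil _ _)))))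
    (C.pH [8, 30, 65, 84, 94, 117] [24, 37, 61, 75, 90, 118] (by decide +kernel)
    (C.pT (f17094 C)
    (C.pH [26, 38, 54, 89, 90, 113] [8, 32, 55, 86, 98, 109, 119] (by decide +kernel) (C.pNil _ _))))
    (C.loop_of_one (relLoop1 C) _ _)

theorem f17096 : C.T (v18 C) [21, 32, 62, 76, 98, 110, 120] (v19 C) [25, 41, 56, 84, 105, 109, 111] :=
  C.flip (f17095 C)

theorem f17097 : C.T (v4 C) [9, 63, 75, 90, 109, 115] (v18 C) [12, 27, 63, 79, 104, 117] :=
  C.conv (f6930 C) (f7494 C) (f7494 C) _ [134, 156, 166, 175, 178] _ (by decide +kernel) (by decide +kernel) (by decide +kernel)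

theorem f17098 : C.T (v18 C) [21, 28, 69, 87, 96, 115] (v19 C) [6, 41, 84] :=
  C.conv (f15643 C) (f16254 C) (f6836 C) _ [145, 153, 168, 172, 177] _ (by decide +kernel) (by decide +kernel) (by decide +kernel)

theorem f17099 : C.S (v4 C) [13, 28, 60, 83, 108, 110, 119] :=
  C.stMul (f421 C) (f693 C) _ (by decide +kernel)

theorem f17100 : C.S (v4 C) [17, 45, 53, 80, 99, 109, 123] :=
  C.stMul (f407 C) (f17099 C) _ (by decide +kernel)

theorem f17101 : C.T (v4 C) [15, 47, 52, 84, 104, 113] (v18 C) [25, 45, 66, 76, 107, 120] :=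
  C.conv (f8441 C) (f421 C) (f17100 C) _ [146, 151, 167, 172, 177] _ (by decide +kernel) (by decide +kernel) (by decide +kernel)

theorem f17102 : C.T (v18 C) [25, 45, 66, 76, 107, 120] (v4 C) [15, 47, 52, 84, 104, 113] :=
  C.flip (f17101 C)

theorem f17103 : C.T (v19 C) [4, 37, 57, 79, 102, 109] (v18 C) [4, 44, 68, 74, 106, 109, 116] :=
  C.closeT (p := (v4 C)) (pu := [9, 63, 75, 90, 109, 115])
    (C.pT (f17097 C)
    (C.pH [8, 30, 65, 84, 94, 117] [21, 28, 69, 87, 96, 115] (by decide +kernel)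
    (C.pT (f17098 C)
    (C.pH [26, 38, 54, 89, 90, 113] [4, 37, 57, 79, 102, 109] (by decide +kernel) (C.pNil _ _)))))
    (C.pH [8, 30, 65, 84, 94, 117] [25, 45, 66, 76, 107, 120] (by decide +kernel)
    (C.pT (f17102 C)
    (C.pH [26, 38, 54, 89, 90, 113] [9, 63, 75, 90, 109, 115] (by decide +kernel) (C.pNil _ _))))
    (C.loop_of_one (relLoop1 C) _ _)

theorem f17104 : C.T (v18 C) [4, 44, 68, 74, 106, 109, 116] (v19 C) [4, 37, 57, 79, 102, 109] :=
  C.flip (f17103 C)

theorem f17105 : C.T (v4 C) [13, 35, 62, 72, 95, 110, 123] (v18 C) [26, 46, 59, 81, 101, 113] :=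
  C.conv (f7256 C) (f7503 C) (f7503 C) _ [130, 158, 164, 172, 177] _ (by decide +kernel) (by decide +kernel) (by decide +kernel)

theorem f17106 : C.S (v18 C) [26, 43, 49, 77, 91, 110, 115] :=
  C.stMul (f6836 C) (f6836 C) _ (by decide +kernel)

theorem f17107 : C.T (v18 C) [14, 53, 96, 109, 115] (v19 C) [5, 29, 52, 81, 91, 114] :=
  C.conv (f16465 C) (f6836 C) (f17106 C) _ [144, 155, 164, 171, 177] _ (by decide +kernel) (by decide +kernel) (by decide +kernel)

theorem f17108 : C.S (v4 C) [23, 45, 57, 77, 95, 110, 118] :=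
  C.stMul (f407 C) (f16665 C) _ (by decide +kernel)

theorem f17109 : C.S (v4 C) [16, 46, 68, 72, 103, 110, 111] :=
  C.stMul (f693 C) (f17108 C) _ (by decide +kernel)

theorem f17110 : C.S (v4 C) [18, 31, 55, 83, 101, 117] :=
  C.stMul (f421 C) (f17109 C) _ (by decide +kernel)

theorem f17111 : C.T (v4 C) [16, 34, 56, 76, 110] (v19 C) [5, 29, 61, 70, 90, 110, 112] :=
  C.conv (f16663 C) (f16667 C) (f17110 C) _ [131, 150, 170, 174, 178] _ (by decide +kernel) (by decide +kernel) (by decide +kernel)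

theorem f17112 : C.T (v19 C) [5, 29, 61, 70, 90, 110, 112] (v4 C) [16, 34, 56, 76, 110] :=
  C.flip (f17111 C)

theorem f17113 : C.T (v19 C) [8, 36, 63, 73, 101, 116] (v19 C) [14, 31, 50, 82, 103, 116] :=
  C.closeT (p := (v4 C)) (pu := [13, 35, 62, 72, 95, 110, 123])
    (C.pT (f17105 C)
    (C.pH [8, 30, 65, 84, 94, 117] [14, 53, 96, 109, 115] (by decide +kernel)
    (C.pT (f17107 C)
    (C.pH [26, 38, 54, 89, 90, 113] [8, 36, 63, 73, 101, 116] (by decide +kernel) (C.pNil _ _)))))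
    (C.pH [8, 30, 65, 84, 94, 117] [5, 29, 61, 70, 90, 110, 112] (by decide +kernel)
    (C.pT (f17112 C)
    (C.pH [26, 38, 54, 89, 90, 113] [13, 35, 62, 72, 95, 110, 123] (by decide +kernel) (C.pNil _ _))))
    (C.loop_of_one (relLoop1 C) _ _)

theorem f17114 : C.T (v19 C) [14, 31, 50, 82, 103, 116] (v19 C) [8, 36, 63, 73, 101, 116] :=
  C.flip (f17113 C)

theorem f17115 : C.T (v4 C) [11, 28, 50, 84, 90, 112] (v18 C) [12, 38, 60, 75, 107, 110, 120] :=
  C.conv (f7446 C) (f7469 C) (f7469 C) _ [133, 158, 170, 171, 178] _ (by decide +kernel) (by decide +kernel) (by decide +kernel)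

theorem f17116 : C.T (v18 C) [21, 34, 67, 75, 107, 110, 120] (v18 C) [6, 48, 63, 80, 100, 112] :=
  C.conv (f14193 C) (f6836 C) (f6836 C) _ [126, 163, 165, 176, 178] _ (by decide +kernel) (by decide +kernel) (by decide +kernel)

theorem f17117 : C.T (v4 C) [8, 38, 63, 89, 99, 109, 125] (v19 C) [9, 48, 68, 74, 98, 110, 116] :=
  C.conv (f15534 C) (f697 C) (f15567 C) _ [131, 156, 170, 171, 178] _ (by decide +kernel) (by decide +kernel) (by decide +kernel)

theorem f17118 : C.T (v19 C) [9, 48, 68, 74, 98, 110, 116] (v4 C) [8, 38, 63, 89, 99, 109, 125] :=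
  C.flip (f17117 C)

theorem f17119 : C.T (v18 C) [4, 33, 68, 78, 99, 110, 112] (v19 C) [25, 41, 58, 88, 97, 109, 118] :=
  C.closeT (p := (v4 C)) (pu := [11, 28, 50, 84, 90, 112])
    (C.pT (f17115 C)
    (C.pH [8, 30, 65, 84, 94, 117] [21, 34, 67, 75, 107, 110, 120] (by decide +kernel)
    (C.pT (f17116 C)
    (C.pH [26, 38, 54, 89, 90, 113] [4, 33, 68, 78, 99, 110, 112] (by decide +kernel) (C.pNil _ _)))))
    (C.pH [8, 30, 65, 84, 94, 117] [9, 48, 68, 74, 98, 110, 116] (by decide +kernel)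
    (C.pT (f17118 C)
    (C.pH [26, 38, 54, 89, 90, 113] [11, 28, 50, 84, 90, 112] (by decide +kernel) (C.pNil _ _))))
    (C.loop_of_one (relLoop1 C) _ _)

theorem f17120 : C.T (v19 C) [25, 41, 58, 88, 97, 109, 118] (v18 C) [4, 33, 68, 78, 99, 110, 112] :=
  C.flip (f17119 C)

theorem f17121 : C.T (v4 C) [17, 48, 56, 91, 110, 124] (v18 C) [8, 65, 84, 96, 110, 118] :=
  C.conv (f7487 C) (f8474 C) (f8474 C) _ [135, 152, 164, 173, 178] _ (by decide +kernel) (by decide +kernel) (by decide +kernel)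

theorem f17122 : C.S (v18 C) [26, 43, 49, 77, 91, 110, 115] :=
  C.stMul (f6836 C) (f6836 C) _ (by decide +kernel)

theorem f17123 : C.T (v18 C) [28, 53, 80, 97, 110, 120] (v17 C) [4, 37, 50, 88, 90, 116] :=
  C.conv (f13747 C) (f17122 C) (f6836 C) _ [135, 157, 169, 173] _ (by decide +kernel) (by decide +kernel) (by decide +kernel)

theorem f17124 : C.T (v4 C) [19, 43, 68, 73, 93, 109, 122] (v19 C) [5, 43, 49, 75, 99, 109, 125] :=
  C.conv (f15534 C) (f697 C) (f697 C) _ [127, 154, 164, 175, 177] _ (by decide +kernel) (by decide +kernel) (by decide +kernel)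

theorem f17125 : C.T (v19 C) [5, 43, 49, 75, 99, 109, 125] (v4 C) [19, 43, 68, 73, 93, 109, 122] :=
  C.flip (f17124 C)

theorem f17126 : C.T (v17 C) [25, 43, 65, 81, 101, 121] (v19 C) [14, 44, 67, 78, 93, 109, 115] :=
  C.closeT (p := (v4 C)) (pu := [17, 48, 56, 91, 110, 124])
    (C.pT (f17121 C)
    (C.pH [8, 30, 65, 84, 94, 117] [28, 53, 80, 97, 110, 120] (by decide +kernel)
    (C.pT (f17123 C)
    (C.pH [26, 38, 54, 89, 90, 113] [25, 43, 65, 81, 101, 121] (by decide +kernel) (C.pNil _ _)))))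
    (C.pH [8, 30, 65, 84, 94, 117] [5, 43, 49, 75, 99, 109, 125] (by decide +kernel)
    (C.pT (f17125 C)
    (C.pH [26, 38, 54, 89, 90, 113] [17, 48, 56, 91, 110, 124] (by decide +kernel) (C.pNil _ _))))
    (C.loop_of_one (relLoop1 C) _ _)

theorem f17127 : C.T (v19 C) [14, 44, 67, 78, 93, 109, 115] (v17 C) [25, 43, 65, 81, 101, 121] :=
  C.flip (f17126 C)

theorem f17128 : C.T (v4 C) [26, 38, 69, 83, 90, 109, 112] (v18 C) [26, 44, 50, 80, 100, 110, 113] :=
  C.conv (f7575 C) (f7630 C) (f7630 C) _ [150, 165, 172] _ (by decide +kernel) (by decide +kernel) (by decide +kernel)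

theorem f17129 : C.T (v18 C) [14, 28, 66, 77, 103, 109, 111] (v19 C) [6, 43, 52, 97, 111] :=
  C.conv (f15884 C) (f6836 C) (f7121 C) _ [140, 157, 168, 175, 177] _ (by decide +kernel) (by decide +kernel) (by decide +kernel)

theorem f17130 : C.T (v4 C) [67, 71, 109, 117] (v18 C) [4, 40, 52, 89, 92, 118] :=
  C.conv (f8547 C) (f8550 C) (f14774 C) _ [147, 156, 178] _ (by decide +kernel) (by decide +kernel) (by decide +kernel)

theorem f17131 : C.T (v18 C) [4, 40, 52, 89, 92, 118] (v4 C) [67, 71, 109, 117] :=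
  C.flip (f17130 C)

theorem f17132 : C.T (v19 C) [4, 41, 63, 83, 90, 121] (v18 C) [18, 39, 60, 79, 99, 109, 119] :=
  C.closeT (p := (v4 C)) (pu := [26, 38, 69, 83, 90, 109, 112])
    (C.pT (f17128 C)
    (C.pH [8, 30, 65, 84, 94, 117] [14, 28, 66, 77, 103, 109, 111] (by decide +kernel)
    (C.pT (f17129 C)
    (C.pH [26, 38, 54, 89, 90, 113] [4, 41, 63, 83, 90, 121] (by decide +kernel) (C.pNil _ _)))))
    (C.pH [8, 30, 65, 84, 94, 117] [4, 40, 52, 89, 92, 118] (by decide +kernel)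
    (C.pT (f17131 C)
    (C.pH [26, 38, 54, 89, 90, 113] [26, 38, 69, 83, 90, 109, 112] (by decide +kernel) (C.pNil _ _))))
    (C.loop_of_one (relLoop1 C) _ _)

theorem f17133 : C.T (v18 C) [18, 39, 60, 79, 99, 109, 119] (v19 C) [4, 41, 63, 83, 90, 121] :=
  C.flip (f17132 C)

theorem f17134 : C.T (v4 C) [4, 46, 68, 76, 105, 110, 117] (v18 C) [20, 33, 58, 77, 109, 125] :=
  C.conv (f8235 C) (f8735 C) (f8735 C) _ [134, 154, 170, 174, 178] _ (by decide +kernel) (by decide +kernel) (by decide +kernel)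

theorem f17135 : C.T (v4 C) [6, 34, 62, 84, 102, 110, 115] (v17 C) [26, 48, 53, 87, 94, 110, 121] :=
  C.conv (f6475 C) (f697 C) (f14237 C) _ [147, 149, 167, 175] _ (by decide +kernel) (by decide +kernel) (by decide +kernel)

theorem f17136 : C.T (v17 C) [26, 48, 53, 87, 94, 110, 121] (v4 C) [6, 34, 62, 84, 102, 110, 115] :=
  C.flip (f17135 C)

theorem f17137 : C.T (v17 C) [19, 51, 86, 108] (v19 C) [7, 39, 49, 86, 102, 109, 120] :=
  C.conv (f16844 C) (f4300 C) (f4300 C) _ [136, 162, 169, 171, 177] _ (by decide +kernel) (by decide +kernel) (by decide +kernel)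

theorem f17138 : C.T (v19 C) [7, 39, 49, 86, 102, 109, 120] (v17 C) [19, 51, 86, 108] :=
  C.flip (f17137 C)

theorem f17139 : C.T (v18 C) [23, 46, 50, 86, 90, 125] (v19 C) [23, 30, 51, 73, 92, 110, 119] :=
  C.closeT (p := (v4 C)) (pu := [4, 46, 68, 76, 105, 110, 117])
    (C.pT (f17134 C)
    (C.pH [8, 30, 65, 84, 94, 117] [23, 46, 50, 86, 90, 125] (by decide +kernel) (C.pNil _ _)))
    (C.pH [26, 38, 54, 89, 90, 113] [7, 39, 49, 86, 102, 109, 120] (by decide +kernel)
    (C.pT (f17138 C)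
    (C.pH [8, 30, 65, 84, 94, 117] [26, 48, 53, 87, 94, 110, 121] (by decide +kernel)
    (C.pT (f17136 C)
    (C.pH [26, 38, 54, 89, 90, 113] [4, 46, 68, 76, 105, 110, 117] (by decide +kernel) (C.pNil _ _))))))
    (C.loop_of_one (relLoop1 C) _ _)

theorem f17140 : C.T (v19 C) [23, 30, 51, 73, 92, 110, 119] (v18 C) [23, 46, 50, 86, 90, 125] :=
  C.flip (f17139 C)

theorem f17141 : C.T (v4 C) [7, 44, 56, 79, 92, 110, 114] (v18 C) [24, 35, 61, 85, 105, 110, 112] :=
  C.conv (f8235 C) (f8735 C) (f8735 C) _ [131, 159, 166, 173, 177] _ (by decide +kernel) (by decide +kernel) (by decide +kernel)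

theorem f17142 : C.T (v4 C) [23, 36, 49, 78, 95, 110, 117] (v17 C) [7, 27, 50, 86, 95, 110, 120] :=
  C.conv (f6345 C) (f14380 C) (f697 C) _ [132, 153, 166, 173] _ (by decide +kernel) (by decide +kernel) (by decide +kernel)

theorem f17143 : C.T (v17 C) [7, 27, 50, 86, 95, 110, 120] (v4 C) [23, 36, 49, 78, 95, 110, 117] :=
  C.flip (f17142 C)

theorem f17144 : C.T (v17 C) [11, 33, 61, 78, 104, 109, 116] (v19 C) [24, 48, 50, 75, 102, 110, 112] :=
  C.conv (f15953 C) (f4137 C) (f4137 C) _ [134, 157, 170, 174] _ (by decide +kernel) (by decide +kernel) (by decide +kernel)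

theorem f17145 : C.T (v19 C) [24, 48, 50, 75, 102, 110, 112] (v17 C) [11, 33, 61, 78, 104, 109, 116] :=
  C.flip (f17144 C)

theorem f17146 : C.T (v18 C) [16, 48, 59, 81, 92, 124] (v19 C) [11, 31, 55, 95, 124] :=
  C.closeT (p := (v4 C)) (pu := [7, 44, 56, 79, 92, 110, 114])
    (C.pT (f17141 C)
    (C.pH [8, 30, 65, 84, 94, 117] [16, 48, 59, 81, 92, 124] (by decide +kernel) (C.pNil _ _)))
    (C.pH [26, 38, 54, 89, 90, 113] [24, 48, 50, 75, 102, 110, 112] (by decide +kernel)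
    (C.pT (f17145 C)
    (C.pH [8, 30, 65, 84, 94, 117] [7, 27, 50, 86, 95, 110, 120] (by decide +kernel)
    (C.pT (f17143 C)
    (C.pH [26, 38, 54, 89, 90, 113] [7, 44, 56, 79, 92, 110, 114] (by decide +kernel) (C.pNil _ _))))))
    (C.loop_of_one (relLoop1 C) _ _)

theorem f17147 : C.T (v19 C) [11, 31, 55, 95, 124] (v18 C) [16, 48, 59, 81, 92, 124] :=
  C.flip (f17146 C)

theorem f17148 : C.T (v4 C) [11, 33, 49, 76, 101, 125] (v18 C) [9, 38, 49, 83, 107, 114] :=
  C.conv (f8339 C) (f8769 C) (f8769 C) _ [131, 159, 165, 172] _ (by decide +kernel) (by decide +kernel) (by decide +kernel)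

theorem f17149 : C.S (v4 C) [16, 46, 68, 72, 103, 110, 111] :=
  C.stMul (f693 C) (f6563 C) _ (by decide +kernel)

theorem f17150 : C.T (v4 C) [8, 47, 65, 73, 102, 109, 119] (v17 C) [12, 30, 52, 89, 95, 110, 115] :=
  C.conv (f6156 C) (f6564 C) (f17149 C) _ [139, 156, 164, 174, 178] _ (by decide +kernel) (by decide +kernel) (by decide +kernel)

theorem f17151 : C.T (v17 C) [12, 30, 52, 89, 95, 110, 115] (v4 C) [8, 47, 65, 73, 102, 109, 119] :=
  C.flip (f17150 C)

theorem f17152 : C.T (v17 C) [5, 38, 66, 75, 98, 110, 117] (v19 C) [6, 45, 52, 71, 101, 115] :=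
  C.conv (f16092 C) (f4300 C) (f4300 C) _ [127, 149, 165] _ (by decide +kernel) (by decide +kernel) (by decide +kernel)

theorem f17153 : C.T (v19 C) [6, 45, 52, 71, 101, 115] (v17 C) [5, 38, 66, 75, 98, 110, 117] :=
  C.flip (f17152 C)

theorem f17154 : C.T (v18 C) [18, 44, 49, 83, 107, 114] (v19 C) [21, 42, 63, 86, 99, 110, 115] :=
  C.closeT (p := (v4 C)) (pu := [11, 33, 49, 76, 101, 125])
    (C.pT (f17148 C)
    (C.pH [8, 30, 65, 84, 94, 117] [18, 44, 49, 83, 107, 114] (by decide +kernel) (C.pNil _ _)))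
    (C.pH [26, 38, 54, 89, 90, 113] [6, 45, 52, 71, 101, 115] (by decide +kernel)
    (C.pT (f17153 C)
    (C.pH [8, 30, 65, 84, 94, 117] [12, 30, 52, 89, 95, 110, 115] (by decide +kernel)
    (C.pT (f17151 C)
    (C.pH [26, 38, 54, 89, 90, 113] [11, 33, 49, 76, 101, 125] (by decide +kernel) (C.pNil _ _))))))
    (C.loop_of_one (relLoop1 C) _ _)

theorem f17155 : C.T (v19 C) [21, 42, 63, 86, 99, 110, 115] (v18 C) [18, 44, 49, 83, 107, 114] :=
  C.flip (f17154 C)

theorem f17156 : C.T (v4 C) [26, 31, 51, 77, 98, 109, 123] (v18 C) [23, 27, 60, 84, 104, 110] :=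
  C.conv (f8339 C) (f8769 C) (f8769 C) _ [145, 155, 169, 176, 178] _ (by decide +kernel) (by decide +kernel) (by decide +kernel)

theorem f17157 : C.T (v4 C) [28, 57, 86, 98, 110] (v18 C) [4, 44, 68, 78, 102, 109, 118] :=
  C.conv (f7891 C) (f8521 C) (f697 C) _ [143, 158, 166, 175] _ (by decide +kernel) (by decide +kernel) (by decide +kernel)

theorem f17158 : C.T (v18 C) [4, 44, 68, 78, 102, 109, 118] (v4 C) [28, 57, 86, 98, 110] :=
  C.flip (f17157 C)

theorem f17159 : C.T (v18 C) [18, 36, 56, 83, 92, 110, 118] (v19 C) [11, 34, 56, 70, 108, 109, 120] :=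
  C.conv (f15781 C) (f7121 C) (f16050 C) _ [130, 159, 167, 172, 178] _ (by decide +kernel) (by decide +kernel) (by decide +kernel)

theorem f17160 : C.T (v19 C) [11, 34, 56, 70, 108, 109, 120] (v18 C) [18, 36, 56, 83, 92, 110, 118] :=
  C.flip (f17159 C)

theorem f17161 : C.T (v18 C) [10, 48, 64, 82, 100, 110, 113] (v19 C) [8, 45, 54, 82, 92, 110, 122] :=
  C.closeT (p := (v4 C)) (pu := [26, 31, 51, 77, 98, 109, 123])
    (C.pT (f17156 C)
    (C.pH [8, 30, 65, 84, 94, 117] [10, 48, 64, 82, 100, 110, 113] (by decide +kernel) (C.pNil _ _)))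
    (C.pH [26, 38, 54, 89, 90, 113] [11, 34, 56, 70, 108, 109, 120] (by decide +kernel)
    (C.pT (f17160 C)
    (C.pH [8, 30, 65, 84, 94, 117] [4, 44, 68, 78, 102, 109, 118] (by decide +kernel)
    (C.pT (f17158 C)
    (C.pH [26, 38, 54, 89, 90, 113] [26, 31, 51, 77, 98, 109, 123] (by decide +kernel) (C.pNil _ _))))))
    (C.loop_of_one (relLoop1 C) _ _)

theorem f17162 : C.T (v19 C) [8, 45, 54, 82, 92, 110, 122] (v18 C) [10, 48, 64, 82, 100, 110, 113] :=
  C.flip (f17161 C)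

theorem f17163 : C.T (v4 C) [11, 41, 63, 72, 118] (v18 C) [20, 48, 51, 89, 102, 124] :=
  C.conv (f10188 C) (f12045 C) (f12045 C) _ [137, 157, 175, 178] _ (by decide +kernel) (by decide +kernel) (by decide +kernel)

theorem f17164 : C.S (v4 C) [17, 35, 66, 70, 95] :=
  C.stMul (f421 C) (f407 C) _ (by decide +kernel)

theorem f17165 : C.S (v4 C) [13, 44, 51, 82, 106, 110, 111] :=
  C.stMul (f407 C) (f17164 C) _ (by decide +kernel)

theorem f17166 : C.S (v4 C) [21, 35, 69, 73, 94, 109, 122] :=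
  C.stMul (f421 C) (f17165 C) _ (by decide +kernel)

theorem f17167 : C.S (v4 C) [18, 37, 59, 73, 102, 116] :=
  C.stMul (f693 C) (f17166 C) _ (by decide +kernel)

theorem f17168 : C.S (v4 C) [16, 45, 55, 88, 103, 109, 115] :=
  C.stMul (f421 C) (f17167 C) _ (by decide +kernel)

theorem f17169 : C.T (v4 C) [8, 40, 57, 72, 103, 109, 123] (v17 C) [24, 40, 57, 76, 94, 122] :=
  C.conv (f5213 C) (f13726 C) (f17168 C) _ [138, 149, 165, 172, 178] _ (by decide +kernel) (by decide +kernel) (by decide +kernel)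

theorem f17170 : C.T (v17 C) [24, 40, 57, 76, 94, 122] (v4 C) [8, 40, 57, 72, 103, 109, 123] :=
  C.flip (f17169 C)

theorem f17171 : C.S (v17 C) [51, 81, 96, 109, 125] :=
  C.stMul (f4132 C) (f4137 C) _ (by decide +kernel)

theorem f17172 : C.T (v17 C) [21, 47, 68, 83, 98, 113] (v19 C) [13, 40, 61, 85, 102, 117] :=
  C.conv (f15953 C) (f4137 C) (f17171 C) _ [138, 157, 166, 173, 177] _ (by decide +kernel) (by decide +kernel) (by decide +kernel)

theorem f17173 : C.T (v19 C) [13, 40, 61, 85, 102, 117] (v17 C) [21, 47, 68, 83, 98, 113] :=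
  C.flip (f17172 C)

theorem f17174 : C.T (v18 C) [23, 37, 49, 72, 103, 117] (v19 C) [16, 35, 61, 88, 94, 110, 121] :=
  C.closeT (p := (v4 C)) (pu := [11, 41, 63, 72, 118])
    (C.pT (f17163 C)
    (C.pH [8, 30, 65, 84, 94, 117] [23, 37, 49, 72, 103, 117] (by decide +kernel) (C.pNil _ _)))
    (C.pH [26, 38, 54, 89, 90, 113] [13, 40, 61, 85, 102, 117] (by decide +kernel)
    (C.pT (f17173 C)
    (C.pH [8, 30, 65, 84, 94, 117] [24, 40, 57, 76, 94, 122] (by decide +kernel)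
    (C.pT (f17170 C)
    (C.pH [26, 38, 54, 89, 90, 113] [11, 41, 63, 72, 118] (by decide +kernel) (C.pNil _ _))))))
    (C.loop_of_one (relLoop1 C) _ _)

theorem f17175 : C.T (v19 C) [16, 35, 61, 88, 94, 110, 121] (v18 C) [23, 37, 49, 72, 103, 117] :=
  C.flip (f17174 C)

theorem f17176 : C.T (v4 C) [5, 32, 60, 80, 94, 125] (v18 C) [13, 27, 64, 82, 103, 109, 116] :=
  C.conv (f13456 C) (f421 C) (f421 C) _ [147, 150, 169, 173] _ (by decide +kernel) (by decide +kernel) (by decide +kernel)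

theorem f17177 : C.T (v18 C) [11, 39, 57, 86, 96, 110, 115] (v19 C) [8, 28, 66, 74, 99, 110, 123] :=
  C.conv (f16752 C) (f7121 C) (f6836 C) _ [131, 161, 165, 175] _ (by decide +kernel) (by decide +kernel) (by decide +kernel)

theorem f17178 : C.T (v4 C) [14, 38, 56, 83, 105, 109, 117] (v19 C) [7, 47, 63, 77, 96, 124] :=
  C.conv (f16663 C) (f16667 C) (f16676 C) _ [135, 160, 169, 172, 178] _ (by decide +kernel) (by decide +kernel) (by decide +kernel)

theorem f17179 : C.T (v19 C) [7, 47, 63, 77, 96, 124] (v4 C) [14, 38, 56, 83, 105, 109, 117] :=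
  C.flip (f17178 C)

theorem f17180 : C.T (v19 C) [11, 43, 65, 74, 101, 109, 118] (v19 C) [11, 37, 62, 81, 100, 109, 120] :=
  C.closeT (p := (v4 C)) (pu := [5, 32, 60, 80, 94, 125])
    (C.pT (f17176 C)
    (C.pH [8, 30, 65, 84, 94, 117] [11, 39, 57, 86, 96, 110, 115] (by decide +kernel)
    (C.pT (f17177 C)
    (C.pH [26, 38, 54, 89, 90, 113] [11, 43, 65, 74, 101, 109, 118] (by decide +kernel) (C.pNil _ _)))))
    (C.pH [8, 30, 65, 84, 94, 117] [7, 47, 63, 77, 96, 124] (by decide +kernel)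
    (C.pT (f17179 C)
    (C.pH [26, 38, 54, 89, 90, 113] [5, 32, 60, 80, 94, 125] (by decide +kernel) (C.pNil _ _))))
    (C.loop_of_one (relLoop1 C) _ _)

theorem f17183 : C.T (v4 C) [22, 29, 69, 85, 108, 109] (v19 C) [28, 58, 83, 94, 110, 124] :=
  C.conv (f15534 C) (f697 C) (f697 C) _ [150, 169, 171, 178] _ (by decide +kernel) (by decide +kernel) (by decide +kernel)

theorem f17184 : C.T (v4 C) [9, 48, 51, 74, 106, 110, 114] (v5 C) [40, 61, 85, 102, 110, 120] :=
  C.conv (f1108 C) (f1133 C) (f407 C) _ [133, 152, 168, 171] _ (by decide +kernel) (by decide +kernel) (by decide +kernel)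

theorem f17185 : C.T (v5 C) [40, 61, 85, 102, 110, 120] (v4 C) [9, 48, 51, 74, 106, 110, 114] :=
  C.flip (f17184 C)

theorem f17186 : C.S (v5 C) [7, 42, 67, 73, 102, 109, 111] :=
  C.stMul (f1141 C) (f16859 C) _ (by decide +kernel)

theorem f17187 : C.S (v5 C) [10, 44, 68, 72, 105, 114] :=
  C.stMul (f986 C) (f17186 C) _ (by decide +kernel)

theorem f17188 : C.T (v5 C) [8, 41, 53, 89, 103, 110, 119] (v19 C) [26, 35, 51, 73, 90, 109, 121] :=
  C.conv (f16474 C) (f16858 C) (f17187 C) _ [137, 158, 165, 172, 178] _ (by decide +kernel) (by decide +kernel) (by decide +kernel)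

theorem f17189 : C.T (v19 C) [26, 35, 51, 73, 90, 109, 121] (v5 C) [8, 41, 53, 89, 103, 110, 119] :=
  C.flip (f17188 C)

theorem f17190 : C.T (v19 C) [8, 36, 69, 84, 108, 122] (v19 C) [38, 54, 78, 103, 112] :=
  C.closeT (p := (v4 C)) (pu := [22, 29, 69, 85, 108, 109])
    (C.pT (f17183 C)
    (C.pH [8, 30, 65, 84, 94, 117] [8, 36, 69, 84, 108, 122] (by decide +kernel) (C.pNil _ _)))
    (C.pH [26, 38, 54, 89, 90, 113] [26, 35, 51, 73, 90, 109, 121] (by decide +kernel)
    (C.pT (f17189 C)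
    (C.pH [8, 30, 65, 84, 94, 117] [40, 61, 85, 102, 110, 120] (by decide +kernel)
    (C.pT (f17185 C)
    (C.pH [26, 38, 54, 89, 90, 113] [22, 29, 69, 85, 108, 109] (by decide +kernel) (C.pNil _ _))))))
    (C.loop_of_one (relLoop1 C) _ _)

theorem f17196 : C.T (v4 C) [8, 40, 62, 85, 99, 120] (v19 C) [26, 40, 88, 95, 109, 117] :=
  C.conv (f15534 C) (f697 C) (f697 C) _ [148, 176] _ (by decide +kernel) (by decide +kernel) (by decide +kernel)

theorem f17197 : C.S (v4 C) [10, 27, 56, 84, 93, 109, 113] :=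
  C.stMul (f407 C) (f421 C) _ (by decide +kernel)

theorem f17198 : C.S (v4 C) [16, 32, 68, 79, 93, 110, 124] :=
  C.stMul (f407 C) (f17197 C) _ (by decide +kernel)

theorem f17199 : C.S (v4 C) [18, 44, 51, 79, 106, 114] :=
  C.stMul (f421 C) (f17198 C) _ (by decide +kernel)

theorem f17200 : C.T (v4 C) [5, 38, 65, 76, 96, 110, 121] (v16 C) [8, 41, 62, 73, 105, 109, 125] :=
  C.conv (f4054 C) (f7459 C) (f17199 C) _ [136, 161, 165, 173, 178] _ (by decide +kernel) (by decide +kernel) (by decide +kernel)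

theorem f17201 : C.T (v16 C) [8, 41, 62, 73, 105, 109, 125] (v4 C) [5, 38, 65, 76, 96, 110, 121] :=
  C.flip (f17200 C)

theorem f17202 : C.S (v16 C) [18, 48, 62, 92] :=
  C.stMul (f3456 C) (f3451 C) _ (by decide +kernel)

theorem f17203 : C.S (v16 C) [7, 41, 57, 70, 98, 110, 111] :=
  C.stMul (f3458 C) (f17202 C) _ (by decide +kernel)

theorem f17204 : C.S (v16 C) [62, 79, 96, 109, 121] :=
  C.stMul (f3480 C) (f17203 C) _ (by decide +kernel)

theorem f17205 : C.T (v16 C) [47, 58, 103, 110, 112] (v19 C) [11, 39, 65, 95, 109, 121] :=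
  C.conv (f15932 C) (f3456 C) (f17204 C) _ [128, 163, 166, 172, 177] _ (by decide +kernel) (by decide +kernel) (by decide +kernel)

theorem f17206 : C.T (v19 C) [11, 39, 65, 95, 109, 121] (v16 C) [47, 58, 103, 110, 112] :=
  C.flip (f17205 C)

theorem f17207 : C.T (v19 C) [14, 36, 54, 87, 93, 110, 124] (v19 C) [8, 33, 63, 75, 103, 117] :=
  C.closeT (p := (v4 C)) (pu := [8, 40, 62, 85, 99, 120])
    (C.pT (f17196 C)
    (C.pH [8, 30, 65, 84, 94, 117] [14, 36, 54, 87, 93, 110, 124] (by decide +kernel) (C.pNil _ _)))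
    (C.pH [26, 38, 54, 89, 90, 113] [11, 39, 65, 95, 109, 121] (by decide +kernel)
    (C.pT (f17206 C)
    (C.pH [8, 30, 65, 84, 94, 117] [8, 41, 62, 73, 105, 109, 125] (by decide +kernel)
    (C.pT (f17201 C)
    (C.pH [26, 38, 54, 89, 90, 113] [8, 40, 62, 85, 99, 120] (by decide +kernel) (C.pNil _ _))))))
    (C.loop_of_one (relLoop1 C) _ _)

theorem f17209 : C.S (v19 C) [15, 28, 51, 80, 97, 111] :=
  C.stMul (f15540 C) (f15685 C) _ (by decide +kernel)

theorem f17210 : C.S (v19 C) [27, 69, 79, 94, 112] :=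
  C.stMul (f15685 C) (f17209 C) _ (by decide +kernel)

theorem f17214 : C.T (v4 C) [14, 32, 53, 89, 98, 110, 119] (v19 C) [17, 46, 60, 81, 93, 109] :=
  C.conv (f15534 C) (f697 C) (f697 C) _ [139, 158, 170, 174, 177] _ (by decide +kernel) (by decide +kernel) (by decide +kernel)

theorem f17215 : C.S (v4 C) [16, 43, 64, 82, 90, 110, 123] :=
  C.stMul (f421 C) (f14591 C) _ (by decide +kernel)

theorem f17216 : C.T (v4 C) [12, 40, 59, 84, 103, 109, 117] (v15 C) [17, 35, 62, 83, 95, 111] :=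
  C.conv (f2744 C) (f2911 C) (f17215 C) _ [136, 167, 172] _ (by decide +kernel) (by decide +kernel) (by decide +kernel)

theorem f17217 : C.T (v15 C) [17, 35, 62, 83, 95, 111] (v4 C) [12, 40, 59, 84, 103, 109, 117] :=
  C.flip (f17216 C)

theorem f17218 : C.T (v15 C) [7, 45, 67, 83, 121] (v19 C) [14, 65, 81, 98, 110, 120] :=
  C.conv (f15926 C) (f16920 C) (f2581 C) _ [143, 155, 174, 178] _ (by decide +kernel) (by decide +kernel) (by decide +kernel)

theorem f17219 : C.T (v19 C) [14, 65, 81, 98, 110, 120] (v15 C) [7, 45, 67, 83, 121] :=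
  C.flip (f17218 C)

theorem f17220 : C.T (v19 C) [22, 46, 62, 89, 105, 110, 121] (v19 C) [12, 28, 58, 77, 109, 112] :=
  C.closeT (p := (v4 C)) (pu := [14, 32, 53, 89, 98, 110, 119])
    (C.pT (f17214 C)
    (C.pH [8, 30, 65, 84, 94, 117] [22, 46, 62, 89, 105, 110, 121] (by decide +kernel) (C.pNil _ _)))
    (C.pH [26, 38, 54, 89, 90, 113] [14, 65, 81, 98, 110, 120] (by decide +kernel)
    (C.pT (f17219 C)
    (C.pH [8, 30, 65, 84, 94, 117] [17, 35, 62, 83, 95, 111] (by decide +kernel)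
    (C.pT (f17217 C)
    (C.pH [26, 38, 54, 89, 90, 113] [14, 32, 53, 89, 98, 110, 119] (by decide +kernel) (C.pNil _ _))))))
    (C.loop_of_one (relLoop1 C) _ _)

theorem f17226 : C.T (v4 C) [25, 30, 67, 88, 94, 111] (v19 C) [17, 27, 64, 74, 98, 111] :=
  C.conv (f16654 C) (f16691 C) (f16691 C) _ [137, 163, 165, 173] _ (by decide +kernel) (by decide +kernel) (by decide +kernel)

theorem f17227 : C.T (v4 C) [4, 42, 65, 82, 92, 110, 115] (v15 C) [18, 32, 68, 102, 124] :=
  C.conv (f2575 C) (f2587 C) (f2586 C) _ [137, 153, 165, 177] _ (by decide +kernel) (by decide +kernel) (by decide +kernel)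

theorem f17228 : C.T (v15 C) [18, 32, 68, 102, 124] (v4 C) [4, 42, 65, 82, 92, 110, 115] :=
  C.flip (f17227 C)

theorem f17229 : C.T (v15 C) [9, 27, 67, 85, 96, 121] (v10 C) [8, 34, 61, 83, 99, 110, 118] :=
  C.conv (f2782 C) (f10413 C) (f2569 C) _ [142, 162, 170, 175, 178] _ (by decide +kernel) (by decide +kernel) (by decide +kernel)

theorem f17230 : C.T (v10 C) [8, 34, 61, 83, 99, 110, 118] (v15 C) [9, 27, 67, 85, 96, 121] :=
  C.flip (f17229 C)

theorem f17231 : C.T (v19 C) [22, 28, 58, 78, 95, 117] (v10 C) [5, 31, 50, 92, 110, 113] :=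
  C.closeT (p := (v4 C)) (pu := [25, 30, 67, 88, 94, 111])
    (C.pT (f17226 C)
    (C.pH [8, 30, 65, 84, 94, 117] [22, 28, 58, 78, 95, 117] (by decide +kernel) (C.pNil _ _)))
    (C.pH [26, 38, 54, 89, 90, 113] [8, 34, 61, 83, 99, 110, 118] (by decide +kernel)
    (C.pT (f17230 C)
    (C.pH [8, 30, 65, 84, 94, 117] [18, 32, 68, 102, 124] (by decide +kernel)
    (C.pT (f17228 C)
    (C.pH [26, 38, 54, 89, 90, 113] [25, 30, 67, 88, 94, 111] (by decide +kernel) (C.pNil _ _))))))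
    (C.loop_of_one (relLoop1 C) _ _)

theorem f17232 : C.T (v10 C) [5, 31, 50, 92, 110, 113] (v19 C) [22, 28, 58, 78, 95, 117] :=
  C.flip (f17231 C)

theorem f17233 : C.T (v4 C) [6, 39, 68, 70, 110, 118] (v19 C) [5, 33, 62, 79, 102, 110, 117] :=
  C.conv (f16663 C) (f16667 C) (f16667 C) _ [142, 153, 165, 171] _ (by decide +kernel) (by decide +kernel) (by decide +kernel)

theorem f17234 : C.T (v4 C) [21, 43, 62, 74, 108, 111] (v16 C) [9, 43, 51, 73, 91, 110, 113] :=
  C.conv (f3706 C) (f8301 C) (f693 C) _ [137, 155, 168, 174, 178] _ (by decide +kernel) (by decide +kernel) (by decide +kernel)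

theorem f17235 : C.T (v16 C) [9, 43, 51, 73, 91, 110, 113] (v4 C) [21, 43, 62, 74, 108, 111] :=
  C.flip (f17234 C)

theorem f17236 : C.S (v16 C) [23, 29, 61, 89, 109, 115] :=
  C.stMul (f3468 C) (f3480 C) _ (by decide +kernel)

theorem f17237 : C.T (v16 C) [25, 48, 57, 79, 106, 122] (v19 C) [5, 28, 66, 79, 101, 110, 115] :=
  C.conv (f15745 C) (f3458 C) (f17236 C) _ [148, 153, 164, 173] _ (by decide +kernel) (by decide +kernel) (by decide +kernel)

theorem f17238 : C.T (v19 C) [5, 28, 66, 79, 101, 110, 115] (v16 C) [25, 48, 57, 79, 106, 122] :=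
  C.flip (f17237 C)

theorem f17239 : C.T (v19 C) [12, 44, 70, 93, 119] (v19 C) [14, 48, 50, 79, 101, 109, 118] :=
  C.closeT (p := (v4 C)) (pu := [6, 39, 68, 70, 110, 118])
    (C.pT (f17233 C)
    (C.pH [8, 30, 65, 84, 94, 117] [12, 44, 70, 93, 119] (by decide +kernel) (C.pNil _ _)))
    (C.pH [26, 38, 54, 89, 90, 113] [5, 28, 66, 79, 101, 110, 115] (by decide +kernel)
    (C.pT (f17238 C)
    (C.pH [8, 30, 65, 84, 94, 117] [9, 43, 51, 73, 91, 110, 113] (by decide +kernel)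
    (C.pT (f17235 C)
    (C.pH [26, 38, 54, 89, 90, 113] [6, 39, 68, 70, 110, 118] (by decide +kernel) (C.pNil _ _))))))
    (C.loop_of_one (relLoop1 C) _ _)

theorem f17246 : C.T (v4 C) [24, 31, 62, 85, 97, 109, 112] (v19 C) [22, 44, 61, 79, 93, 123] :=
  C.conv (f16663 C) (f16667 C) (f16667 C) _ [138, 151, 168, 174] _ (by decide +kernel) (by decide +kernel) (by decide +kernel)

theorem f17247 : C.S (v4 C) [26, 36, 62, 77, 94, 121] :=
  C.stMul (f421 C) (f13630 C) _ (by decide +kernel)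

theorem f17248 : C.T (v4 C) [11, 29, 55, 85, 91, 109, 112] (v18 C) [17, 70, 91, 111] :=
  C.conv (f8516 C) (f12206 C) (f17247 C) _ [142, 160, 164] _ (by decide +kernel) (by decide +kernel) (by decide +kernel)

theorem f17249 : C.T (v18 C) [17, 70, 91, 111] (v4 C) [11, 29, 55, 85, 91, 109, 112] :=
  C.flip (f17248 C)

theorem f17250 : C.T (v18 C) [7, 40, 65, 80, 98, 109, 120] (v19 C) [18, 30, 67, 81, 101, 110, 117] :=
  C.conv (f17096 C) (f7121 C) (f7121 C) _ [147, 156, 166, 173, 177] _ (by decide +kernel) (by decide +kernel) (by decide +kernel)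

theorem f17251 : C.T (v19 C) [18, 30, 67, 81, 101, 110, 117] (v18 C) [7, 40, 65, 80, 98, 109, 120] :=
  C.flip (f17250 C)

theorem f17252 : C.T (v19 C) [6, 37, 65, 73, 108, 114] (v19 C) [25, 44, 52, 72, 92, 116] :=
  C.closeT (p := (v4 C)) (pu := [24, 31, 62, 85, 97, 109, 112])
    (C.pT (f17246 C)
    (C.pH [8, 30, 65, 84, 94, 117] [6, 37, 65, 73, 108, 114] (by decide +kernel) (C.pNil _ _)))
    (C.pH [26, 38, 54, 89, 90, 113] [18, 30, 67, 81, 101, 110, 117] (by decide +kernel)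
    (C.pT (f17251 C)
    (C.pH [8, 30, 65, 84, 94, 117] [17, 70, 91, 111] (by decide +kernel)
    (C.pT (f17249 C)
    (C.pH [26, 38, 54, 89, 90, 113] [24, 31, 62, 85, 97, 109, 112] (by decide +kernel) (C.pNil _ _))))))
    (C.loop_of_one (relLoop1 C) _ _)

theorem f17258 : C.T (v4 C) [11, 36, 64, 104, 110, 123] (v19 C) [10, 42, 60, 96, 118] :=
  C.conv (f16663 C) (f16667 C) (f16667 C) _ [137, 152, 176, 178] _ (by decide +kernel) (by decide +kernel) (by decide +kernel)

theorem f17259 : C.S (v19 C) [42, 64, 78, 97, 110, 111] :=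
  C.stMul (f15843 C) (f17209 C) _ (by decide +kernel)

theorem f17260 : C.T (v19 C) [15, 30, 56, 73, 108, 113] (v19 C) [16, 36, 61, 83, 90, 109, 116] :=
  C.conv (f17207 C) (f17210 C) (f17259 C) _ [129, 162, 164, 172, 177] _ (by decide +kernel) (by decide +kernel) (by decide +kernel)

theorem f17261 : C.S (v4 C) [18, 46, 49, 75, 97, 110, 118] :=
  C.stMul (f407 C) (f407 C) _ (by decide +kernel)

theorem f17262 : C.S (v4 C) [16, 43, 64, 82, 90, 110, 123] :=
  C.stMul (f421 C) (f17261 C) _ (by decide +kernel)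

theorem f17263 : C.S (v4 C) [21, 60, 87, 91, 109, 120] :=
  C.stMul (f407 C) (f17262 C) _ (by decide +kernel)

theorem f17264 : C.S (v4 C) [8, 48, 61, 83, 103, 117] :=
  C.stMul (f407 C) (f17263 C) _ (by decide +kernel)

theorem f17265 : C.S (v4 C) [31, 58, 82, 95, 109, 115] :=
  C.stMul (f421 C) (f17264 C) _ (by decide +kernel)

theorem f17266 : C.T (v4 C) [8, 42, 53, 82, 110, 120] (v17 C) [5, 43, 69, 88, 107, 110, 114] :=
  C.conv (f5743 C) (f7641 C) (f17265 C) _ [128, 158, 166, 174, 177] _ (by decide +kernel) (by decide +kernel) (by decide +kernel)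

theorem f17267 : C.T (v17 C) [5, 43, 69, 88, 107, 110, 114] (v4 C) [8, 42, 53, 82, 110, 120] :=
  C.flip (f17266 C)

theorem f17268 : C.T (v19 C) [13, 36, 65, 87, 92, 109, 120] (v17 C) [14, 44, 64, 82, 108, 109, 119] :=
  C.closeT (p := (v4 C)) (pu := [11, 36, 64, 104, 110, 123])
    (C.pT (f17258 C)
    (C.pH [8, 30, 65, 84, 94, 117] [15, 30, 56, 73, 108, 113] (by decide +kernel)
    (C.pT (f17260 C)
    (C.pH [26, 38, 54, 89, 90, 113] [13, 36, 65, 87, 92, 109, 120] (by decide +kernel) (C.pNil _ _)))))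
    (C.pH [8, 30, 65, 84, 94, 117] [5, 43, 69, 88, 107, 110, 114] (by decide +kernel)
    (C.pT (f17267 C)
    (C.pH [26, 38, 54, 89, 90, 113] [11, 36, 64, 104, 110, 123] (by decide +kernel) (C.pNil _ _))))
    (C.loop_of_one (relLoop1 C) _ _)

theorem f17269 : C.T (v17 C) [14, 44, 64, 82, 108, 109, 119] (v19 C) [13, 36, 65, 87, 92, 109, 120] :=
  C.flip (f17268 C)

theorem f17270 : C.T (v4 C) [22, 47, 67, 71, 105, 110, 119] (v19 C) [21, 36, 62, 81, 122] :=
  C.conv (f16663 C) (f16667 C) (f16667 C) _ [136, 149, 168] _ (by decide +kernel) (by decide +kernel) (by decide +kernel)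

theorem f17271 : C.S (v4 C) [13, 34, 59, 73, 105, 109, 115] :=
  C.stMul (f421 C) (f8417 C) _ (by decide +kernel)

theorem f17272 : C.T (v4 C) [9, 30, 67, 86, 118] (v17 C) [16, 47, 51, 77, 96, 110, 118] :=
  C.conv (f5838 C) (f8414 C) (f17271 C) _ [137, 163, 170, 175] _ (by decide +kernel) (by decide +kernel) (by decide +kernel)

theorem f17273 : C.T (v17 C) [16, 47, 51, 77, 96, 110, 118] (v4 C) [9, 30, 67, 86, 118] :=
  C.flip (f17272 C)

theorem f17274 : C.T (v17 C) [24, 29, 69, 81, 92, 109, 111] (v17 C) [14, 39, 49, 81, 103, 109, 119] :=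
  C.conv (f5051 C) (f4137 C) (f4137 C) _ [130, 153, 164, 175, 177] _ (by decide +kernel) (by decide +kernel) (by decide +kernel)

theorem f17275 : C.T (v17 C) [14, 39, 49, 81, 103, 109, 119] (v17 C) [24, 29, 69, 81, 92, 109, 111] :=
  C.flip (f17274 C)

theorem f17276 : C.T (v19 C) [24, 45, 66, 88, 92, 109, 122] (v17 C) [12, 29, 56, 84, 100, 120] :=
  C.closeT (p := (v4 C)) (pu := [22, 47, 67, 71, 105, 110, 119])
    (C.pT (f17270 C)
    (C.pH [8, 30, 65, 84, 94, 117] [24, 45, 66, 88, 92, 109, 122] (by decide +kernel) (C.pNil _ _)))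
    (C.pH [26, 38, 54, 89, 90, 113] [14, 39, 49, 81, 103, 109, 119] (by decide +kernel)
    (C.pT (f17275 C)
    (C.pH [8, 30, 65, 84, 94, 117] [16, 47, 51, 77, 96, 110, 118] (by decide +kernel)
    (C.pT (f17273 C)
    (C.pH [26, 38, 54, 89, 90, 113] [22, 47, 67, 71, 105, 110, 119] (by decide +kernel) (C.pNil _ _))))))
    (C.loop_of_one (relLoop1 C) _ _)

theorem f17277 : C.T (v17 C) [12, 29, 56, 84, 100, 120] (v19 C) [24, 45, 66, 88, 92, 109, 122] :=
  C.flip (f17276 C)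

theorem f17278 : C.T (v4 C) [18, 40, 69, 74, 106, 124] (v19 C) [19, 40, 61, 77, 96, 110, 114] :=
  C.conv (f16663 C) (f16667 C) (f16667 C) _ [146, 149, 165, 176] _ (by decide +kernel) (by decide +kernel) (by decide +kernel)

theorem f17279 : C.T (v4 C) [25, 48, 53, 87, 107, 109] (v5 C) [11, 42, 57, 75, 92, 115] :=
  C.conv (f1108 C) (f1133 C) (f1133 C) _ [142, 157, 169, 173, 177] _ (by decide +kernel) (by decide +kernel) (by decide +kernel)

theorem f17280 : C.T (v5 C) [11, 42, 57, 75, 92, 115] (v4 C) [25, 48, 53, 87, 107, 109] :=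
  C.flip (f17279 C)

theorem f17281 : C.S (v5 C) [9, 47, 59, 85, 92, 123] :=
  C.stMul (f1008 C) (f986 C) _ (by decide +kernel)

theorem f17282 : C.S (v5 C) [13, 51, 87, 106, 110, 118] :=
  C.stMul (f1023 C) (f17281 C) _ (by decide +kernel)

theorem f17283 : C.S (v5 C) [7, 30, 66, 82, 99, 119] :=
  C.stMul (f1023 C) (f17282 C) _ (by decide +kernel)

theorem f17284 : C.T (v5 C) [13, 39, 56, 75, 105, 119] (v18 C) [20, 29, 68, 78, 101, 112] :=
  C.conv (f8652 C) (f8670 C) (f17283 C) _ [146, 156, 166, 172, 178] _ (by decide +kernel) (by decide +kernel) (by decide +kernel)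

theorem f17285 : C.T (v18 C) [20, 29, 68, 78, 101, 112] (v5 C) [13, 39, 56, 75, 105, 119] :=
  C.flip (f17284 C)

theorem f17286 : C.T (v19 C) [26, 34, 53, 76, 106, 110, 122] (v18 C) [17, 34, 60, 71, 107, 109, 120] :=
  C.closeT (p := (v4 C)) (pu := [18, 40, 69, 74, 106, 124])
    (C.pT (f17278 C)
    (C.pH [8, 30, 65, 84, 94, 117] [26, 34, 53, 76, 106, 110, 122] (by decide +kernel) (C.pNil _ _)))
    (C.pH [26, 38, 54, 89, 90, 113] [20, 29, 68, 78, 101, 112] (by decide +kernel)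
    (C.pT (f17285 C)
    (C.pH [8, 30, 65, 84, 94, 117] [11, 42, 57, 75, 92, 115] (by decide +kernel)
    (C.pT (f17280 C)
    (C.pH [26, 38, 54, 89, 90, 113] [18, 40, 69, 74, 106, 124] (by decide +kernel) (C.pNil _ _))))))
    (C.loop_of_one (relLoop1 C) _ _)

theorem f17287 : C.T (v18 C) [17, 34, 60, 71, 107, 109, 120] (v19 C) [26, 34, 53, 76, 106, 110, 122] :=
  C.flip (f17286 C)

theorem f17288 : C.T (v4 C) [25, 65, 89, 97, 110, 121] (v4 C) [24, 48, 54, 84] :=
  C.conv (f678 C) (f697 C) (f697 C) _ [137, 152, 168, 176, 178] _ (by decide +kernel) (by decide +kernel) (by decide +kernel)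

theorem f17289 : C.T (v4 C) [12, 42, 53, 76, 98, 121] (v9 C) [12, 36, 71, 103, 125] :=
  C.conv (f2044 C) (f2809 C) (f421 C) _ [135, 160, 175] _ (by decide +kernel) (by decide +kernel) (by decide +kernel)

theorem f17290 : C.T (v4 C) [4, 35, 63, 86, 100, 109, 115] (v19 C) [19, 42, 54, 71, 99, 110, 123] :=
  C.conv (f15534 C) (f697 C) (f16651 C) _ [141, 153, 176, 177] _ (by decide +kernel) (by decide +kernel) (by decide +kernel)

theorem f17291 : C.T (v19 C) [19, 42, 54, 71, 99, 110, 123] (v4 C) [4, 35, 63, 86, 100, 109, 115] :=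
  C.flip (f17290 C)

theorem f17292 : C.T (v9 C) [21, 46, 49, 76, 105, 110, 116] (v19 C) [22, 47, 54, 77, 93, 109, 120] :=
  C.closeT (p := (v4 C)) (pu := [25, 65, 89, 97, 110, 121])
    (C.pT (f17288 C)
    (C.pH [26, 38, 54, 89, 90, 113] [12, 42, 53, 76, 98, 121] (by decide +kernel)
    (C.pT (f17289 C)
    (C.pH [8, 30, 65, 84, 94, 117] [21, 46, 49, 76, 105, 110, 116] (by decide +kernel) (C.pNil _ _)))))
    (C.pH [26, 38, 54, 89, 90, 113] [19, 42, 54, 71, 99, 110, 123] (by decide +kernel)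
    (C.pT (f17291 C)
    (C.pH [8, 30, 65, 84, 94, 117] [25, 65, 89, 97, 110, 121] (by decide +kernel) (C.pNil _ _))))
    (C.loop_of_one (relLoop2 C) _ _)

theorem f17293 : C.T (v19 C) [22, 47, 54, 77, 93, 109, 120] (v9 C) [21, 46, 49, 76, 105, 110, 116] :=
  C.flip (f17292 C)

theorem f17294 : C.T (v4 C) [24, 43, 85, 100, 109, 125] (v4 C) [17, 74, 99, 110, 113] :=
  C.conv (f517 C) (f723 C) (f723 C) _ [142, 152, 167, 175, 178] _ (by decide +kernel) (by decide +kernel) (by decide +kernel)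

theorem f17295 : C.T (v4 C) [20, 39, 59, 84, 90, 110, 122] (v19 C) [22, 37, 69, 70, 108, 109, 123] :=
  C.conv (f16663 C) (f16667 C) (f16700 C) _ [135, 153, 170, 174, 178] _ (by decide +kernel) (by decide +kernel) (by decide +kernel)

theorem f17296 : C.T (v4 C) [21, 27, 61, 86, 115] (v19 C) [18, 27, 68, 70, 105, 121] :=
  C.conv (f16663 C) (f16667 C) (f16748 C) _ [132, 162, 165, 173, 178] _ (by decide +kernel) (by decide +kernel) (by decide +kernel)

theorem f17297 : C.T (v19 C) [18, 27, 68, 70, 105, 121] (v4 C) [21, 27, 61, 86, 115] :=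
  C.flip (f17296 C)

theorem f17298 : C.T (v19 C) [6, 41, 49, 86, 102, 109] (v19 C) [25, 31, 55, 74, 106, 109, 116] :=
  C.closeT (p := (v4 C)) (pu := [24, 43, 85, 100, 109, 125])
    (C.pT (f17294 C)
    (C.pH [26, 38, 54, 89, 90, 113] [20, 39, 59, 84, 90, 110, 122] (by decide +kernel)
    (C.pT (f17295 C)
    (C.pH [8, 30, 65, 84, 94, 117] [6, 41, 49, 86, 102, 109] (by decide +kernel) (C.pNil _ _)))))
    (C.pH [26, 38, 54, 89, 90, 113] [18, 27, 68, 70, 105, 121] (by decide +kernel)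
    (C.pT (f17297 C)
    (C.pH [8, 30, 65, 84, 94, 117] [24, 43, 85, 100, 109, 125] (by decide +kernel) (C.pNil _ _))))
    (C.loop_of_one (relLoop2 C) _ _)

theorem f17301 : C.T (v4 C) [13, 35, 52, 83, 96, 110, 119] (v3 C) [19, 28, 54, 77, 101, 122] :=
  C.conv (f809 C) (f813 C) (f813 C) _ [147, 151, 169, 174, 177] _ (by decide +kernel) (by decide +kernel) (by decide +kernel)

theorem f17302 : C.T (v3 C) [17, 44, 55, 77, 102, 110, 111] (v19 C) [18, 45, 53, 83, 94, 110, 120] :=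
  C.conv (f15701 C) (f15714 C) (f16364 C) _ [141, 153, 169, 171] _ (by decide +kernel) (by decide +kernel) (by decide +kernel)

theorem f17303 : C.T (v4 C) [6, 31, 54, 78, 104, 110, 111] (v19 C) [10, 47, 65, 86, 96, 125] :=
  C.conv (f16654 C) (f16691 C) (f16692 C) _ [143, 159, 169, 174, 178] _ (by decide +kernel) (by decide +kernel) (by decide +kernel)

theorem f17304 : C.T (v19 C) [10, 47, 65, 86, 96, 125] (v4 C) [6, 31, 54, 78, 104, 110, 111] :=
  C.flip (f17303 C)

theorem f17305 : C.T (v19 C) [4, 48, 64, 77, 94, 122] (v19 C) [18, 43, 62, 70, 97, 110, 111] :=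
  C.closeT (p := (v4 C)) (pu := [13, 35, 52, 83, 96, 110, 119])
    (C.pT (f17301 C)
    (C.pH [26, 38, 54, 89, 90, 113] [17, 44, 55, 77, 102, 110, 111] (by decide +kernel)
    (C.pT (f17302 C)
    (C.pH [8, 30, 65, 84, 94, 117] [4, 48, 64, 77, 94, 122] (by decide +kernel) (C.pNil _ _)))))
    (C.pH [26, 38, 54, 89, 90, 113] [10, 47, 65, 86, 96, 125] (by decide +kernel)
    (C.pT (f17304 C)
    (C.pH [8, 30, 65, 84, 94, 117] [13, 35, 52, 83, 96, 110, 119] (by decide +kernel) (C.pNil _ _))))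
    (C.loop_of_one (relLoop2 C) _ _)

theorem f17311 : C.T (v4 C) [7, 33, 62, 96, 123] (v4 C) [5, 30, 62, 87, 103, 110, 125] :=
  C.conv (f882 C) (f407 C) (f407 C) _ [142, 153, 167, 176, 178] _ (by decide +kernel) (by decide +kernel) (by decide +kernel)

theorem f17312 : C.T (v4 C) [8, 38, 67, 77, 92, 109, 119] (v19 C) [6, 48, 54, 73, 96, 110, 113] :=
  C.conv (f16663 C) (f16667 C) (f16747 C) _ [130, 163, 167, 173, 178] _ (by decide +kernel) (by decide +kernel) (by decide +kernel)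

theorem f17313 : C.S (v4 C) [16, 32, 68, 79, 93, 110, 124] :=
  C.stMul (f407 C) (f16700 C) _ (by decide +kernel)

theorem f17314 : C.S (v4 C) [18, 44, 51, 79, 106, 114] :=
  C.stMul (f421 C) (f17313 C) _ (by decide +kernel)

theorem f17315 : C.T (v4 C) [11, 36, 64, 71, 107, 110, 118] (v19 C) [23, 36, 68, 81, 98, 112] :=
  C.conv (f16663 C) (f16667 C) (f17314 C) _ [148, 156, 172, 178] _ (by decide +kernel) (by decide +kernel) (by decide +kernel)

theorem f17316 : C.T (v19 C) [23, 36, 68, 81, 98, 112] (v4 C) [11, 36, 64, 71, 107, 110, 118] :=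
  C.flip (f17315 C)

theorem f17317 : C.T (v19 C) [13, 37, 56, 85, 94, 110] (v19 C) [13, 33, 49, 78, 109, 116] :=
  C.closeT (p := (v4 C)) (pu := [7, 33, 62, 96, 123])
    (C.pT (f17311 C)
    (C.pH [26, 38, 54, 89, 90, 113] [8, 38, 67, 77, 92, 109, 119] (by decide +kernel)
    (C.pT (f17312 C)
    (C.pH [8, 30, 65, 84, 94, 117] [13, 37, 56, 85, 94, 110] (by decide +kernel) (C.pNil _ _)))))
    (C.pH [26, 38, 54, 89, 90, 113] [23, 36, 68, 81, 98, 112] (by decide +kernel)
    (C.pT (f17316 C)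
    (C.pH [8, 30, 65, 84, 94, 117] [7, 33, 62, 96, 123] (by decide +kernel) (C.pNil _ _))))
    (C.loop_of_one (relLoop2 C) _ _)

theorem f17320 : C.T (v4 C) [22, 32, 58, 89, 91, 110, 121] (v17 C) [20, 42, 49, 82, 100, 124] :=
  C.conv (f4648 C) (f13689 C) (f13689 C) _ [137, 153, 166, 174] _ (by decide +kernel) (by decide +kernel) (by decide +kernel)

theorem f17321 : C.T (v4 C) [17, 41, 53, 71, 110, 113] (v4 C) [11, 34, 67, 73, 110, 116] :=
  C.conv (f972 C) (f1194 C) (f407 C) _ [126, 155, 174, 178] _ (by decide +kernel) (by decide +kernel) (by decide +kernel)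

theorem f17322 : C.T (v4 C) [11, 34, 67, 73, 110, 116] (v4 C) [17, 41, 53, 71, 110, 113] :=
  C.flip (f17321 C)

theorem f17323 : C.T (v4 C) [8, 45, 49, 82, 101, 110, 116] (v19 C) [24, 35, 53, 79, 91, 110, 117] :=
  C.conv (f15534 C) (f697 C) (f16684 C) _ [146, 158, 170, 177] _ (by decide +kernel) (by decide +kernel) (by decide +kernel)

theorem f17324 : C.T (v19 C) [24, 35, 53, 79, 91, 110, 117] (v4 C) [8, 45, 49, 82, 101, 110, 116] :=
  C.flip (f17323 C)

theorem f17325 : C.T (v17 C) [15, 33, 49, 83, 95, 109, 125] (v19 C) [21, 43, 50, 81, 96, 109, 115] :=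
  C.closeT (p := (v4 C)) (pu := [22, 32, 58, 89, 91, 110, 121])
    (C.pT (f17320 C)
    (C.pH [26, 38, 54, 89, 90, 113] [15, 33, 49, 83, 95, 109, 125] (by decide +kernel) (C.pNil _ _)))
    (C.pH [8, 30, 65, 84, 94, 117] [24, 35, 53, 79, 91, 110, 117] (by decide +kernel)
    (C.pT (f17324 C)
    (C.pH [26, 38, 54, 89, 90, 113] [11, 34, 67, 73, 110, 116] (by decide +kernel)
    (C.pT (f17322 C)
    (C.pH [8, 30, 65, 84, 94, 117] [22, 32, 58, 89, 91, 110, 121] (by decide +kernel) (C.pNil _ _))))))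
    (C.loop_of_one (relLoop2 C) _ _)

theorem f17326 : C.T (v19 C) [21, 43, 50, 81, 96, 109, 115] (v17 C) [15, 33, 49, 83, 95, 109, 125] :=
  C.flip (f17325 C)

theorem f17327 : C.T (v4 C) [11, 45, 66, 86, 99, 116] (v17 C) [4, 38, 69, 72, 93, 110, 118] :=
  C.conv (f6475 C) (f697 C) (f697 C) _ [130, 162, 172] _ (by decide +kernel) (by decide +kernel) (by decide +kernel)

theorem f17328 : C.T (v17 C) [25, 47, 82, 107, 115] (v19 C) [24, 40, 68, 85, 99, 109, 116] :=
  C.conv (f16709 C) (f4137 C) (f4137 C) _ [135, 158, 168, 174, 177] _ (by decide +kernel) (by decide +kernel) (by decide +kernel)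

theorem f17329 : C.T (v4 C) [13, 48, 53, 86, 99, 109, 123] (v18 C) [23, 30, 56, 82, 98, 114] :=
  C.conv (f8441 C) (f421 C) (f15029 C) _ [129, 160, 170, 173] _ (by decide +kernel) (by decide +kernel) (by decide +kernel)

theorem f17330 : C.T (v18 C) [23, 30, 56, 82, 98, 114] (v4 C) [13, 48, 53, 86, 99, 109, 123] :=
  C.flip (f17329 C)

theorem f17331 : C.T (v19 C) [16, 42, 67, 70, 100, 109, 124] (v18 C) [13, 32, 58, 73, 94, 109, 115] :=
  C.closeT (p := (v4 C)) (pu := [11, 45, 66, 86, 99, 116])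
    (C.pT (f17327 C)
    (C.pH [26, 38, 54, 89, 90, 113] [25, 47, 82, 107, 115] (by decide +kernel)
    (C.pT (f17328 C)
    (C.pH [8, 30, 65, 84, 94, 117] [16, 42, 67, 70, 100, 109, 124] (by decide +kernel) (C.pNil _ _)))))
    (C.pH [26, 38, 54, 89, 90, 113] [23, 30, 56, 82, 98, 114] (by decide +kernel)
    (C.pT (f17330 C)
    (C.pH [8, 30, 65, 84, 94, 117] [11, 45, 66, 86, 99, 116] (by decide +kernel) (C.pNil _ _))))
    (C.loop_of_one (relLoop2 C) _ _)

theorem f17332 : C.T (v18 C) [13, 32, 58, 73, 94, 109, 115] (v19 C) [16, 42, 67, 70, 100, 109, 124] :=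
  C.flip (f17331 C)

theorem f17333 : C.T (v4 C) [4, 43, 69, 74, 103, 122] (v18 C) [4, 37, 53, 89, 107, 109, 120] :=
  C.conv (f7575 C) (f7630 C) (f7630 C) _ [163, 167, 171] _ (by decide +kernel) (by decide +kernel) (by decide +kernel)

theorem f17334 : C.T (v18 C) [25, 43, 60, 80, 102, 123] (v19 C) [18, 36, 58, 71, 90, 124] :=
  C.conv (f16101 C) (f7121 C) (f7121 C) _ [145, 159, 170, 175, 177] _ (by decide +kernel) (by decide +kernel) (by decide +kernel)

theorem f17335 : C.S (v4 C) [23, 45, 57, 77, 95, 110, 118] :=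
  C.stMul (f407 C) (f2757 C) _ (by decide +kernel)

theorem f17336 : C.S (v4 C) [16, 46, 68, 72, 103, 110, 111] :=
  C.stMul (f693 C) (f17335 C) _ (by decide +kernel)

theorem f17337 : C.T (v4 C) [18, 28, 58, 76, 100, 110, 112] (v15 C) [45, 56, 82, 107, 109, 117] :=
  C.conv (f2755 C) (f2758 C) (f17336 C) _ [138, 163, 167, 174, 178] _ (by decide +kernel) (by decide +kernel) (by decide +kernel)

theorem f17338 : C.T (v15 C) [45, 56, 82, 107, 109, 117] (v4 C) [18, 28, 58, 76, 100, 110, 112] :=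
  C.flip (f17337 C)

theorem f17339 : C.T (v19 C) [4, 44, 61, 77, 97, 110, 121] (v15 C) [7, 45, 50, 79, 98, 109, 124] :=
  C.closeT (p := (v4 C)) (pu := [4, 43, 69, 74, 103, 122])
    (C.pT (f17333 C)
    (C.pH [26, 38, 54, 89, 90, 113] [25, 43, 60, 80, 102, 123] (by decide +kernel)
    (C.pT (f17334 C)
    (C.pH [8, 30, 65, 84, 94, 117] [4, 44, 61, 77, 97, 110, 121] (by decide +kernel) (C.pNil _ _)))))
    (C.pH [26, 38, 54, 89, 90, 113] [45, 56, 82, 107, 109, 117] (by decide +kernel)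
    (C.pT (f17338 C)
    (C.pH [8, 30, 65, 84, 94, 117] [4, 43, 69, 74, 103, 122] (by decide +kernel) (C.pNil _ _))))
    (C.loop_of_one (relLoop2 C) _ _)

theorem f17340 : C.T (v15 C) [7, 45, 50, 79, 98, 109, 124] (v19 C) [4, 44, 61, 77, 97, 110, 121] :=
  C.flip (f17339 C)

theorem f17341 : C.T (v4 C) [17, 28, 63, 74, 112] (v19 C) [11, 47, 60, 77, 91, 109, 118] :=
  C.conv (f16663 C) (f16667 C) (f16667 C) _ [132, 154, 164, 175] _ (by decide +kernel) (by decide +kernel) (by decide +kernel)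

theorem f17342 : C.S (v4 C) [16, 43, 64, 82, 90, 110, 123] :=
  C.stMul (f421 C) (f800 C) _ (by decide +kernel)

theorem f17343 : C.T (v4 C) [7, 53, 82, 107, 116] (v4 C) [22, 46, 67, 80, 106, 110, 112] :=
  C.conv (f798 C) (f421 C) (f17342 C) _ [139, 156, 172, 178] _ (by decide +kernel) (by decide +kernel) (by decide +kernel)

theorem f17344 : C.T (v4 C) [22, 46, 67, 80, 106, 110, 112] (v4 C) [7, 53, 82, 107, 116] :=
  C.flip (f17343 C)

theorem f17345 : C.S (v4 C) [26, 43, 63, 73, 104, 112] :=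
  C.stMul (f421 C) (f17108 C) _ (by decide +kernel)

theorem f17346 : C.S (v4 C) [25, 46, 61, 102, 110, 119] :=
  C.stMul (f407 C) (f17345 C) _ (by decide +kernel)

theorem f17347 : C.S (v4 C) [26, 42, 68, 71, 107, 109, 113] :=
  C.stMul (f407 C) (f17346 C) _ (by decide +kernel)

theorem f17348 : C.T (v4 C) [9, 35, 69, 75, 103, 125] (v19 C) [18, 39, 55, 79, 96, 110, 112] :=
  C.conv (f16663 C) (f16667 C) (f17347 C) _ [131, 151, 168, 172] _ (by decide +kernel) (by decide +kernel) (by decide +kernel)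

theorem f17349 : C.T (v19 C) [18, 39, 55, 79, 96, 110, 112] (v4 C) [9, 35, 69, 75, 103, 125] :=
  C.flip (f17348 C)

theorem f17350 : C.T (v19 C) [24, 30, 62, 83, 91, 110, 112] (v19 C) [9, 33, 57, 89, 92, 110, 124] :=
  C.closeT (p := (v4 C)) (pu := [17, 28, 63, 74, 112])
    (C.pT (f17341 C)
    (C.pH [26, 38, 54, 89, 90, 113] [24, 30, 62, 83, 91, 110, 112] (by decide +kernel) (C.pNil _ _)))
    (C.pH [8, 30, 65, 84, 94, 117] [18, 39, 55, 79, 96, 110, 112] (by decide +kernel)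
    (C.pT (f17349 C)
    (C.pH [26, 38, 54, 89, 90, 113] [22, 46, 67, 80, 106, 110, 112] (by decide +kernel)
    (C.pT (f17344 C)
    (C.pH [8, 30, 65, 84, 94, 117] [17, 28, 63, 74, 112] (by decide +kernel) (C.pNil _ _))))))
    (C.loop_of_one (relLoop2 C) _ _)

theorem f17355 : C.T (v5 C) [15, 43, 54, 83, 90, 110, 123] (v5 C) [22, 33, 62, 74, 110, 122] :=
  C.conv (f1201 C) (f1153 C) (f1153 C) _ [148, 152, 170, 176, 177] _ (by decide +kernel) (by decide +kernel) (by decide +kernel)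

theorem f17356 : C.S (v5 C) [13, 35, 69, 89, 94, 109, 112] :=
  C.stMul (f1023 C) (f986 C) _ (by decide +kernel)

theorem f17357 : C.S (v5 C) [7, 39, 54, 75, 91, 110, 122] :=
  C.stMul (f1023 C) (f17356 C) _ (by decide +kernel)

theorem f17358 : C.S (v5 C) [10, 28, 60, 80, 95, 109, 121] :=
  C.stMul (f986 C) (f17357 C) _ (by decide +kernel)

theorem f17359 : C.S (v5 C) [7, 29, 66, 74, 106, 124] :=
  C.stMul (f1141 C) (f986 C) _ (by decide +kernel)

theorem f17360 : C.S (v5 C) [10, 47, 68, 82, 95, 110] :=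
  C.stMul (f986 C) (f17359 C) _ (by decide +kernel)

theorem f17361 : C.T (v5 C) [6, 48, 55, 86, 104, 110, 111] (v19 C) [26, 42, 65, 73, 91, 110, 122] :=
  C.conv (f16252 C) (f17358 C) (f17360 C) _ [154, 175, 177] _ (by decide +kernel) (by decide +kernel) (by decide +kernel)

theorem f17362 : C.S (v5 C) [41, 51, 86, 105, 123] :=
  C.stMul (f1141 C) (f1008 C) _ (by decide +kernel)

theorem f17363 : C.S (v5 C) [9, 47, 59, 84, 108, 109, 120] :=
  C.stMul (f986 C) (f17362 C) _ (by decide +kernel)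

theorem f17364 : C.S (v5 C) [9, 29, 68, 76, 107, 109, 113] :=
  C.stMul (f1008 C) (f17363 C) _ (by decide +kernel)

theorem f17365 : C.T (v5 C) [20, 29, 53, 75, 93, 109, 111] (v19 C) [5, 48, 62, 80, 94, 110, 125] :=
  C.conv (f16853 C) (f17364 C) (f17364 C) _ [134, 161, 175] _ (by decide +kernel) (by decide +kernel) (by decide +kernel)

theorem f17366 : C.T (v19 C) [5, 48, 62, 80, 94, 110, 125] (v5 C) [20, 29, 53, 75, 93, 109, 111] :=
  C.flip (f17365 C)

theorem f17367 : C.T (v19 C) [16, 45, 53, 80, 95, 109, 122] (v19 C) [14, 37, 64, 93, 110] :=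
  C.closeT (p := (v5 C)) (pu := [15, 43, 54, 83, 90, 110, 123])
    (C.pT (f17355 C)
    (C.pH [8, 30, 65, 84, 94, 117] [6, 48, 55, 86, 104, 110, 111] (by decide +kernel)
    (C.pT (f17361 C)
    (C.pH [26, 38, 54, 89, 90, 113] [16, 45, 53, 80, 95, 109, 122] (by decide +kernel) (C.pNil _ _)))))
    (C.pH [8, 30, 65, 84, 94, 117] [5, 48, 62, 80, 94, 110, 125] (by decide +kernel)
    (C.pT (f17366 C)
    (C.pH [26, 38, 54, 89, 90, 113] [15, 43, 54, 83, 90, 110, 123] (by decide +kernel) (C.pNil _ _))))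
    (C.loop_of_one (relLoop1 C) _ _)

theorem f17372 : C.T (v5 C) [11, 33, 69, 107, 109, 114] (v5 C) [13, 50, 95, 124] :=
  C.conv (f1260 C) (f1262 C) (f1262 C) _ [134, 155, 169, 176, 177] _ (by decide +kernel) (by decide +kernel) (by decide +kernel)

theorem f17373 : C.S (v5 C) [43, 67, 71, 98, 119] :=
  C.stMul (f986 C) (f986 C) _ (by decide +kernel)

theorem f17374 : C.S (v5 C) [27, 69, 74, 102, 110, 111] :=
  C.stMul (f1008 C) (f17373 C) _ (by decide +kernel)

theorem f17375 : C.S (v5 C) [34, 55, 72, 90, 109, 125] :=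
  C.stMul (f1141 C) (f17374 C) _ (by decide +kernel)

theorem f17376 : C.T (v5 C) [11, 43, 52, 81, 99] (v19 C) [12, 36, 53, 70, 91, 109, 117] :=
  C.conv (f16252 C) (f17358 C) (f17375 C) _ [148, 162, 166, 174, 177] _ (by decide +kernel) (by decide +kernel) (by decide +kernel)

theorem f17377 : C.S (v5 C) [7, 29, 66, 74, 106, 124] :=
  C.stMul (f1141 C) (f986 C) _ (by decide +kernel)

theorem f17378 : C.S (v5 C) [10, 47, 68, 82, 95, 110] :=
  C.stMul (f986 C) (f17377 C) _ (by decide +kernel)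

theorem f17379 : C.T (v5 C) [8, 47, 64, 72, 100, 110, 122] (v19 C) [12, 43, 49, 87, 92, 125] :=
  C.conv (f16853 C) (f17364 C) (f17378 C) _ [141, 152, 167, 174, 177] _ (by decide +kernel) (by decide +kernel) (by decide +kernel)

theorem f17380 : C.T (v19 C) [12, 43, 49, 87, 92, 125] (v5 C) [8, 47, 64, 72, 100, 110, 122] :=
  C.flip (f17379 C)

theorem f17381 : C.T (v19 C) [14, 41, 61, 73, 103, 110, 113] (v19 C) [5, 37, 49, 88, 98, 109, 113] :=
  C.closeT (p := (v5 C)) (pu := [11, 33, 69, 107, 109, 114])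
    (C.pT (f17372 C)
    (C.pH [8, 30, 65, 84, 94, 117] [11, 43, 52, 81, 99] (by decide +kernel)
    (C.pT (f17376 C)
    (C.pH [26, 38, 54, 89, 90, 113] [14, 41, 61, 73, 103, 110, 113] (by decide +kernel) (C.pNil _ _)))))
    (C.pH [8, 30, 65, 84, 94, 117] [12, 43, 49, 87, 92, 125] (by decide +kernel)
    (C.pT (f17380 C)
    (C.pH [26, 38, 54, 89, 90, 113] [11, 33, 69, 107, 109, 114] (by decide +kernel) (C.pNil _ _))))
    (C.loop_of_one (relLoop1 C) _ _)

theorem f17384 : C.S (v9 C) [22, 48, 68, 83, 104, 125] :=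
  C.stMul (f1624 C) (f1610 C) _ (by decide +kernel)

theorem f17385 : C.T (v9 C) [22, 28, 61, 81, 106, 110, 114] (v19 C) [13, 44, 61, 80, 109, 114] :=
  C.conv (f16828 C) (f17384 C) (f17384 C) _ [130, 151, 168, 171] _ (by decide +kernel) (by decide +kernel) (by decide +kernel)

theorem f17386 : C.T (v9 C) [20, 47, 61, 70, 106, 111] (v19 C) [10, 35, 57, 87, 100, 120] :=
  C.conv (f16828 C) (f17384 C) (f1624 C) _ [148, 169, 176, 178] _ (by decide +kernel) (by decide +kernel) (by decide +kernel)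

theorem f17387 : C.T (v19 C) [10, 35, 57, 87, 100, 120] (v9 C) [20, 47, 61, 70, 106, 111] :=
  C.flip (f17386 C)

theorem f17388 : C.T (v19 C) [26, 43, 54, 81, 101, 110, 118] (v19 C) [8, 57, 96, 110, 119] :=
  C.closeT (p := (v9 C)) (pu := [22, 28, 61, 81, 106, 110, 114])
    (C.pT (f17385 C)
    (C.pH [12, 35, 50, 83] [26, 43, 54, 81, 101, 110, 118] (by decide +kernel) (C.pNil _ _)))
    (C.pH [12, 35, 50, 83] [10, 35, 57, 87, 100, 120] (by decide +kernel)
    (C.pT (f17387 C)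
    (C.pH [12, 35, 50, 83] [22, 28, 61, 81, 106, 110, 114] (by decide +kernel) (C.pNil _ _))))
    (C.loop_of_one (relLoop0 C) _ _)

theorem f17392 : C.T (v9 C) [11, 35, 59, 89, 108, 110, 122] (v19 C) [16, 30, 58, 80, 94, 115] :=
  C.conv (f16828 C) (f17384 C) (f17384 C) _ [126, 161, 168, 176, 177] _ (by decide +kernel) (by decide +kernel) (by decide +kernel)

theorem f17393 : C.S (v9 C) [10, 28, 53, 80, 101, 110, 112] :=
  C.stMul (f1607 C) (f1620 C) _ (by decide +kernel)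

theorem f17394 : C.S (v9 C) [11, 44, 50, 87, 101, 113] :=
  C.stMul (f1620 C) (f17393 C) _ (by decide +kernel)

theorem f17395 : C.S (v9 C) [22, 30, 55, 82, 96, 109, 121] :=
  C.stMul (f1624 C) (f17394 C) _ (by decide +kernel)

theorem f17396 : C.T (v9 C) [22, 29, 67, 71, 102, 109] (v19 C) [16, 31, 57, 75, 96, 110, 122] :=
  C.conv (f16828 C) (f17384 C) (f17395 C) _ [143, 155, 170] _ (by decide +kernel) (by decide +kernel) (by decide +kernel)

theorem f17397 : C.T (v19 C) [16, 31, 57, 75, 96, 110, 122] (v9 C) [22, 29, 67, 71, 102, 109] :=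
  C.flip (f17396 C)

theorem f17398 : C.T (v19 C) [16, 44, 66, 83, 93, 110, 113] (v19 C) [16, 31, 54, 75, 95, 110, 119] :=
  C.closeT (p := (v9 C)) (pu := [11, 35, 59, 89, 108, 110, 122])
    (C.pT (f17392 C)
    (C.pH [12, 35, 50, 83] [16, 44, 66, 83, 93, 110, 113] (by decide +kernel) (C.pNil _ _)))
    (C.pH [12, 35, 50, 83] [16, 31, 57, 75, 96, 110, 122] (by decide +kernel)
    (C.pT (f17397 C)
    (C.pH [12, 35, 50, 83] [11, 35, 59, 89, 108, 110, 122] (by decide +kernel) (C.pNil _ _))))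
    (C.loop_of_one (relLoop0 C) _ _)

theorem f17402 : C.T (v3 C) [9, 28] (v20 C) [] :=
  C.defn _ _

theorem f17404 : C.T (v2 C) [48, 49, 77, 96, 109, 113] (v3 C) [8, 43, 68, 77, 108, 109, 114] :=
  C.conv (f347 C) (f356 C) (f356 C) _ [141, 150, 165, 172] _ (by decide +kernel) (by decide +kernel) (by decide +kernel)

theorem f17405 : C.S (v3 C) [4, 35, 66, 84, 105, 109, 115] :=
  C.stMul (f335 C) (f331 C) _ (by decide +kernel)

theorem f17406 : C.S (v3 C) [17, 52, 88, 94, 110, 125] :=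
  C.stMul (f331 C) (f17405 C) _ (by decide +kernel)

theorem f17407 : C.S (v3 C) [21, 39, 65, 74, 103, 110, 122] :=
  C.stMul (f353 C) (f17406 C) _ (by decide +kernel)

theorem f17408 : C.T (v3 C) [43, 56, 84, 98, 125] (v20 C) [19, 43, 59, 74, 104, 109, 117] :=
  C.conv (f17402 C) (f376 C) (f17407 C) _ [141, 167, 174] _ (by decide +kernel) (by decide +kernel) (by decide +kernel)

theorem f17409 : C.T (v2 C) [7, 47, 53, 77, 101, 109, 122] (v18 C) [4, 28, 53, 82, 93, 122] :=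
  C.conv (f6850 C) (f6867 C) (f8142 C) _ [128, 161, 173, 177] _ (by decide +kernel) (by decide +kernel) (by decide +kernel)

theorem f17410 : C.T (v18 C) [4, 28, 53, 82, 93, 122] (v2 C) [7, 47, 53, 77, 101, 109, 122] :=
  C.flip (f17409 C)

theorem f17411 : C.T (v20 C) [17, 48, 55, 78, 99, 112] (v18 C) [18, 44, 80, 106, 109, 113] :=
  C.closeT (p := (v2 C)) (pu := [48, 49, 77, 96, 109, 113])
    (C.pT (f17404 C)
    (C.pH [8, 30, 65, 84, 94, 117] [43, 56, 84, 98, 125] (by decide +kernel)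
    (C.pT (f17408 C)
    (C.pH [26, 38, 54, 89, 90, 113] [17, 48, 55, 78, 99, 112] (by decide +kernel) (C.pNil _ _)))))
    (C.pH [8, 30, 65, 84, 94, 117] [4, 28, 53, 82, 93, 122] (by decide +kernel)
    (C.pT (f17410 C)
    (C.pH [26, 38, 54, 89, 90, 113] [48, 49, 77, 96, 109, 113] (by decide +kernel) (C.pNil _ _))))
    (C.loop_of_one (relLoop1 C) _ _)

theorem f17412 : C.T (v18 C) [18, 44, 80, 106, 109, 113] (v20 C) [17, 48, 55, 78, 99, 112] :=
  C.flip (f17411 C)

theorem f17413 : C.T (v2 C) [4, 33, 67, 99, 110, 118] (v3 C) [21, 38, 62, 88, 107, 119] :=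
  C.conv (f369 C) (f138 C) (f138 C) _ [139, 149, 165, 175] _ (by decide +kernel) (by decide +kernel) (by decide +kernel)

theorem f17414 : C.S (v3 C) [9, 29, 68, 75, 108, 110, 124] :=
  C.stMul (f335 C) (f328 C) _ (by decide +kernel)

theorem f17415 : C.S (v3 C) [11, 28, 50, 85, 94, 124] :=
  C.stMul (f353 C) (f17414 C) _ (by decide +kernel)

theorem f17416 : C.S (v3 C) [23, 36, 66, 83, 90, 109, 121] :=
  C.stMul (f331 C) (f17415 C) _ (by decide +kernel)

theorem f17417 : C.T (v3 C) [24, 42, 49, 77, 93, 109, 115] (v20 C) [6, 28, 60, 72, 93, 124] :=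
  C.conv (f17402 C) (f376 C) (f17416 C) _ [128, 158, 171] _ (by decide +kernel) (by decide +kernel) (by decide +kernel)

theorem f17418 : C.S (v2 C) [9, 44, 59, 82, 90, 117] :=
  C.stMul (f211 C) (f9000 C) _ (by decide +kernel)

theorem f17419 : C.T (v2 C) [6, 48, 57, 82, 92, 120] (v17 C) [21, 44, 59, 73, 90, 110, 115] :=
  C.conv (f6632 C) (f6971 C) (f17418 C) _ [148, 159, 168, 173] _ (by decide +kernel) (by decide +kernel) (by decide +kernel)

theorem f17420 : C.T (v17 C) [21, 44, 59, 73, 90, 110, 115] (v2 C) [6, 48, 57, 82, 92, 120] :=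
  C.flip (f17419 C)

theorem f17421 : C.T (v20 C) [4, 43, 58, 89, 108, 109, 118] (v17 C) [12, 45, 51, 77, 108, 110, 116] :=
  C.closeT (p := (v2 C)) (pu := [4, 33, 67, 99, 110, 118])
    (C.pT (f17413 C)
    (C.pH [8, 30, 65, 84, 94, 117] [24, 42, 49, 77, 93, 109, 115] (by decide +kernel)
    (C.pT (f17417 C)
    (C.pH [26, 38, 54, 89, 90, 113] [4, 43, 58, 89, 108, 109, 118] (by decide +kernel) (C.pNil _ _)))))
    (C.pH [8, 30, 65, 84, 94, 117] [21, 44, 59, 73, 90, 110, 115] (by decide +kernel)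
    (C.pT (f17420 C)
    (C.pH [26, 38, 54, 89, 90, 113] [4, 33, 67, 99, 110, 118] (by decide +kernel) (C.pNil _ _))))
    (C.loop_of_one (relLoop1 C) _ _)

theorem f17422 : C.T (v17 C) [12, 45, 51, 77, 108, 110, 116] (v20 C) [4, 43, 58, 89, 108, 109, 118] :=
  C.flip (f17421 C)

theorem f17423 : C.T (v2 C) [9, 41, 67, 73, 106, 110, 119] (v18 C) [16, 64, 77, 96, 114] :=
  C.conv (f6830 C) (f323 C) (f323 C) _ [138, 151, 170] _ (by decide +kernel) (by decide +kernel) (by decide +kernel)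

theorem f17424 : C.S (v2 C) [23, 47, 60, 84, 98, 111] :=
  C.stMul (f109 C) (f101 C) _ (by decide +kernel)

theorem f17425 : C.S (v2 C) [6, 60, 83, 99, 110, 118] :=
  C.stMul (f115 C) (f17424 C) _ (by decide +kernel)

theorem f17426 : C.T (v2 C) [15, 37, 58, 77, 100, 110, 123] (v3 C) [21, 48, 54, 106, 110, 125] :=
  C.conv (f817 C) (f837 C) (f17425 C) _ [130, 155, 176] _ (by decide +kernel) (by decide +kernel) (by decide +kernel)

theorem f17427 : C.T (v3 C) [21, 48, 54, 106, 110, 125] (v2 C) [15, 37, 58, 77, 100, 110, 123] :=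
  C.flip (f17426 C)

theorem f17428 : C.T (v3 C) [12, 41, 65, 89, 96, 109, 123] (v20 C) [36, 56, 79, 96, 121] :=
  C.conv (f17402 C) (f376 C) (f17416 C) _ [155, 167, 175, 178] _ (by decide +kernel) (by decide +kernel) (by decide +kernel)

theorem f17429 : C.T (v20 C) [36, 56, 79, 96, 121] (v3 C) [12, 41, 65, 89, 96, 109, 123] :=
  C.flip (f17428 C)

theorem f17430 : C.T (v18 C) [20, 48, 69, 105, 120] (v20 C) [7, 34, 61, 73, 95, 110, 124] :=
  C.closeT (p := (v2 C)) (pu := [9, 41, 67, 73, 106, 110, 119])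
    (C.pT (f17423 C)
    (C.pH [8, 30, 65, 84, 94, 117] [20, 48, 69, 105, 120] (by decide +kernel) (C.pNil _ _)))
    (C.pH [26, 38, 54, 89, 90, 113] [36, 56, 79, 96, 121] (by decide +kernel)
    (C.pT (f17429 C)
    (C.pH [8, 30, 65, 84, 94, 117] [21, 48, 54, 106, 110, 125] (by decide +kernel)
    (C.pT (f17427 C)
    (C.pH [26, 38, 54, 89, 90, 113] [9, 41, 67, 73, 106, 110, 119] (by decide +kernel) (C.pNil _ _))))))
    (C.loop_of_one (relLoop1 C) _ _)

theorem f17432 : C.T (v2 C) [26, 28, 66, 72, 110, 118] (v18 C) [12, 35, 57, 72, 98, 110, 112] :=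
  C.conv (f6830 C) (f323 C) (f323 C) _ [134, 161, 168, 172, 177] _ (by decide +kernel) (by decide +kernel) (by decide +kernel)

theorem f17433 : C.T (v2 C) [43, 66, 78, 98, 112] (v18 C) [24, 41, 56, 79, 103, 110, 118] :=
  C.conv (f6830 C) (f323 C) (f6847 C) _ [146, 152, 176, 178] _ (by decide +kernel) (by decide +kernel) (by decide +kernel)

theorem f17434 : C.T (v18 C) [24, 41, 56, 79, 103, 110, 118] (v2 C) [43, 66, 78, 98, 112] :=
  C.flip (f17433 C)

theorem f17435 : C.T (v18 C) [21, 29, 63, 77, 95, 109, 118] (v20 C) [13, 46, 54, 78, 101, 110, 120] :=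
  C.conv (f17430 C) (f7121 C) (f7121 C) _ [147, 160, 170, 175] _ (by decide +kernel) (by decide +kernel) (by decide +kernel)

theorem f17436 : C.T (v20 C) [13, 46, 54, 78, 101, 110, 120] (v18 C) [21, 29, 63, 77, 95, 109, 118] :=
  C.flip (f17435 C)

theorem f17437 : C.T (v18 C) [21, 37, 66, 84, 93, 109, 116] (v20 C) [16, 32, 50, 85, 95] :=
  C.closeT (p := (v2 C)) (pu := [26, 28, 66, 72, 110, 118])
    (C.pT (f17432 C)
    (C.pH [8, 30, 65, 84, 94, 117] [21, 37, 66, 84, 93, 109, 116] (by decide +kernel) (C.pNil _ _)))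
    (C.pH [26, 38, 54, 89, 90, 113] [13, 46, 54, 78, 101, 110, 120] (by decide +kernel)
    (C.pT (f17436 C)
    (C.pH [8, 30, 65, 84, 94, 117] [24, 41, 56, 79, 103, 110, 118] (by decide +kernel)
    (C.pT (f17434 C)
    (C.pH [26, 38, 54, 89, 90, 113] [26, 28, 66, 72, 110, 118] (by decide +kernel) (C.pNil _ _))))))
    (C.loop_of_one (relLoop1 C) _ _)

theorem f17438 : C.T (v20 C) [16, 32, 50, 85, 95] (v18 C) [21, 37, 66, 84, 93, 109, 116] :=
  C.flip (f17437 C)

theorem f17439 : C.T (v2 C) [26, 61, 97, 115] (v18 C) [18, 47, 60, 86, 91, 110, 122] :=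
  C.conv (f8124 C) (f8182 C) (f8182 C) _ [133, 157, 170, 174, 178] _ (by decide +kernel) (by decide +kernel) (by decide +kernel)

theorem f17440 : C.S (v18 C) [26, 43, 49, 77, 91, 110, 115] :=
  C.stMul (f6836 C) (f6836 C) _ (by decide +kernel)

theorem f17441 : C.T (v18 C) [4, 29, 57, 92, 111] (v20 C) [6, 40, 65, 85, 94, 125] :=
  C.conv (f17412 C) (f17440 C) (f7121 C) _ [138, 151, 165, 174, 177] _ (by decide +kernel) (by decide +kernel) (by decide +kernel)

theorem f17442 : C.S (v2 C) [12, 31, 61, 76, 95, 118] :=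
  C.stMul (f243 C) (f8721 C) _ (by decide +kernel)

theorem f17443 : C.T (v2 C) [45, 50, 75, 104, 109, 119] (v17 C) [14, 34, 63, 85, 95, 109, 111] :=
  C.conv (f6632 C) (f6971 C) (f17442 C) _ [145, 154, 170, 171, 177] _ (by decide +kernel) (by decide +kernel) (by decide +kernel)

theorem f17444 : C.T (v17 C) [14, 34, 63, 85, 95, 109, 111] (v2 C) [45, 50, 75, 104, 109, 119] :=
  C.flip (f17443 C)

theorem f17445 : C.T (v20 C) [4, 48, 61, 89, 106, 109] (v17 C) [26, 62, 72, 104, 110, 125] :=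
  C.closeT (p := (v2 C)) (pu := [26, 61, 97, 115])
    (C.pT (f17439 C)
    (C.pH [8, 30, 65, 84, 94, 117] [4, 29, 57, 92, 111] (by decide +kernel)
    (C.pT (f17441 C)
    (C.pH [26, 38, 54, 89, 90, 113] [4, 48, 61, 89, 106, 109] (by decide +kernel) (C.pNil _ _)))))
    (C.pH [8, 30, 65, 84, 94, 117] [14, 34, 63, 85, 95, 109, 111] (by decide +kernel)
    (C.pT (f17444 C)
    (C.pH [26, 38, 54, 89, 90, 113] [26, 61, 97, 115] (by decide +kernel) (C.pNil _ _))))
    (C.loop_of_one (relLoop1 C) _ _)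

theorem f17446 : C.T (v17 C) [26, 62, 72, 104, 110, 125] (v20 C) [4, 48, 61, 89, 106, 109] :=
  C.flip (f17445 C)

theorem f17447 : C.T (v2 C) [8, 43, 61, 74, 97, 125] (v18 C) [31, 49, 85, 103, 110, 119] :=
  C.conv (f8124 C) (f8182 C) (f8182 C) _ [145, 151, 167, 172] _ (by decide +kernel) (by decide +kernel) (by decide +kernel)

theorem f17448 : C.S (v2 C) [12, 30, 55, 77, 93, 124] :=
  C.stMul (f243 C) (f138 C) _ (by decide +kernel)

theorem f17449 : C.S (v2 C) [15, 46, 51, 72, 98, 110, 118] :=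
  C.stMul (f211 C) (f17448 C) _ (by decide +kernel)

theorem f17450 : C.T (v2 C) [5, 27, 62, 72, 96, 109, 119] (v3 C) [24, 32, 55, 86, 94, 110, 118] :=
  C.conv (f347 C) (f356 C) (f17449 C) _ [147, 151, 164, 177] _ (by decide +kernel) (by decide +kernel) (by decide +kernel)

theorem f17451 : C.T (v3 C) [24, 32, 55, 86, 94, 110, 118] (v2 C) [5, 27, 62, 72, 96, 109, 119] :=
  C.flip (f17450 C)

theorem f17452 : C.S (v3 C) [13, 29, 60, 92, 109, 121] :=
  C.stMul (f353 C) (f328 C) _ (by decide +kernel)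

theorem f17453 : C.S (v3 C) [30, 69, 79, 91] :=
  C.stMul (f335 C) (f17452 C) _ (by decide +kernel)

theorem f17454 : C.S (v3 C) [9, 35, 69, 77, 96, 110, 118] :=
  C.stMul (f353 C) (f17453 C) _ (by decide +kernel)

theorem f17455 : C.S (v3 C) [15, 44, 63, 84, 96, 110, 125] :=
  C.stMul (f331 C) (f17454 C) _ (by decide +kernel)

theorem f17456 : C.T (v3 C) [21, 62, 88, 97, 109, 119] (v20 C) [20, 46, 52, 80, 98, 109, 120] :=
  C.conv (f17402 C) (f376 C) (f17455 C) _ [142, 157, 164, 175, 178] _ (by decide +kernel) (by decide +kernel) (by decide +kernel)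

theorem f17457 : C.T (v20 C) [20, 46, 52, 80, 98, 109, 120] (v3 C) [21, 62, 88, 97, 109, 119] :=
  C.flip (f17456 C)

theorem f17458 : C.T (v18 C) [8, 34, 67, 79, 91, 110, 111] (v20 C) [17, 33, 62, 71, 109, 119] :=
  C.closeT (p := (v2 C)) (pu := [8, 43, 61, 74, 97, 125])
    (C.pT (f17447 C)
    (C.pH [8, 30, 65, 84, 94, 117] [8, 34, 67, 79, 91, 110, 111] (by decide +kernel) (C.pNil _ _)))
    (C.pH [26, 38, 54, 89, 90, 113] [20, 46, 52, 80, 98, 109, 120] (by decide +kernel)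
    (C.pT (f17457 C)
    (C.pH [8, 30, 65, 84, 94, 117] [24, 32, 55, 86, 94, 110, 118] (by decide +kernel)
    (C.pT (f17451 C)
    (C.pH [26, 38, 54, 89, 90, 113] [8, 43, 61, 74, 97, 125] (by decide +kernel) (C.pNil _ _))))))
    (C.loop_of_one (relLoop1 C) _ _)

theorem f17459 : C.T (v20 C) [17, 33, 62, 71, 109, 119] (v18 C) [8, 34, 67, 79, 91, 110, 111] :=
  C.flip (f17458 C)

theorem f17460 : C.T (v2 C) [8, 39, 57, 86, 106, 110, 120] (v3 C) [26, 35, 66, 87, 106, 113] :=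
  C.conv (f325 C) (f323 C) (f323 C) _ [148, 162, 170, 174] _ (by decide +kernel) (by decide +kernel) (by decide +kernel)

theorem f17461 : C.S (v3 C) [19, 30, 60, 72, 107, 110, 116] :=
  C.stMul (f331 C) (f335 C) _ (by decide +kernel)

theorem f17462 : C.S (v3 C) [5, 38, 50, 82, 105, 109, 122] :=
  C.stMul (f353 C) (f17461 C) _ (by decide +kernel)

theorem f17463 : C.S (v3 C) [13, 33, 57, 88, 93, 110, 119] :=
  C.stMul (f331 C) (f17462 C) _ (by decide +kernel)

theorem f17464 : C.T (v3 C) [16, 38, 49, 80, 96, 109, 114] (v20 C) [8, 39, 51, 74, 97, 110, 112] :=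
  C.conv (f17402 C) (f376 C) (f17463 C) _ [130, 158, 169, 176, 178] _ (by decide +kernel) (by decide +kernel) (by decide +kernel)

theorem f17465 : C.T (v2 C) [40, 64, 84, 101, 110, 123] (v18 C) [13, 44, 63, 75, 90, 109, 125] :=
  C.conv (f6850 C) (f6867 C) (f7176 C) _ [132, 159, 170] _ (by decide +kernel) (by decide +kernel) (by decide +kernel)

theorem f17466 : C.T (v18 C) [13, 44, 63, 75, 90, 109, 125] (v2 C) [40, 64, 84, 101, 110, 123] :=
  C.flip (f17465 C)

theorem f17467 : C.T (v20 C) [47, 69, 74, 108, 110] (v18 C) [16, 27, 68, 102, 110, 122] :=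
  C.closeT (p := (v2 C)) (pu := [8, 39, 57, 86, 106, 110, 120])
    (C.pT (f17460 C)
    (C.pH [26, 38, 54, 89, 90, 113] [16, 38, 49, 80, 96, 109, 114] (by decide +kernel)
    (C.pT (f17464 C)
    (C.pH [8, 30, 65, 84, 94, 117] [47, 69, 74, 108, 110] (by decide +kernel) (C.pNil _ _)))))
    (C.pH [26, 38, 54, 89, 90, 113] [13, 44, 63, 75, 90, 109, 125] (by decide +kernel)
    (C.pT (f17466 C)
    (C.pH [8, 30, 65, 84, 94, 117] [8, 39, 57, 86, 106, 110, 120] (by decide +kernel) (C.pNil _ _))))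
    (C.loop_of_one (relLoop2 C) _ _)

theorem f17468 : C.T (v18 C) [16, 27, 68, 102, 110, 122] (v20 C) [47, 69, 74, 108, 110] :=
  C.flip (f17467 C)

theorem f17469 : C.T (v18 C) [16, 27, 68, 102, 110, 122] (v20 C) [14, 41, 67, 73, 102, 120] :=
  C.conv (f17430 C) (f7121 C) (f7121 C) _ [148, 152, 170, 176, 177] _ (by decide +kernel) (by decide +kernel) (by decide +kernel)

theorem f17470 : C.E (v20 C) [14, 41, 67, 73, 102, 120] (v20 C) [47, 69, 74, 108, 110] :=
  C.sameSrc (f17469 C) (f17468 C)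

theorem f17471 : C.S (v20 C) [6, 35, 59, 88, 99, 110] :=
  C.stEq (f17470 C) _ (by decide +kernel)

theorem f17486 : C.T (v2 C) [5, 34, 51, 80, 100, 109, 118] (v3 C) [26, 66, 87, 103, 110, 124] :=
  C.conv (f369 C) (f138 C) (f138 C) _ [132, 159, 166, 173, 177] _ (by decide +kernel) (by decide +kernel) (by decide +kernel)

theorem f17487 : C.S (v3 C) [22, 48, 51, 106, 122] :=
  C.stMul (f331 C) (f17453 C) _ (by decide +kernel)

theorem f17488 : C.S (v3 C) [18, 31, 49, 83, 100, 110, 111] :=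
  C.stMul (f353 C) (f17487 C) _ (by decide +kernel)

theorem f17489 : C.T (v3 C) [16, 48, 60, 81, 108, 110, 117] (v20 C) [15, 30, 56, 71, 106, 110, 111] :=
  C.conv (f17402 C) (f376 C) (f17488 C) _ [137, 149, 164, 175] _ (by decide +kernel) (by decide +kernel) (by decide +kernel)

theorem f17490 : C.S (v2 C) [62, 79, 107, 109, 125] :=
  C.stMul (f211 C) (f8226 C) _ (by decide +kernel)

theorem f17491 : C.S (v2 C) [9, 29, 57, 79, 92] :=
  C.stMul (f149 C) (f17490 C) _ (by decide +kernel)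

theorem f17492 : C.T (v2 C) [14, 46, 62, 70, 94, 123] (v3 C) [11, 46, 53, 75, 96, 109, 117] :=
  C.conv (f817 C) (f837 C) (f17491 C) _ [148, 163, 176, 177] _ (by decide +kernel) (by decide +kernel) (by decide +kernel)

theorem f17493 : C.T (v3 C) [11, 46, 53, 75, 96, 109, 117] (v2 C) [14, 46, 62, 70, 94, 123] :=
  C.flip (f17492 C)

theorem f17494 : C.T (v20 C) [19, 42, 56, 73, 96, 109, 115] (v3 C) [8, 41, 69, 79, 104, 109, 112] :=
  C.closeT (p := (v2 C)) (pu := [5, 34, 51, 80, 100, 109, 118])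
    (C.pT (f17486 C)
    (C.pH [26, 38, 54, 89, 90, 113] [16, 48, 60, 81, 108, 110, 117] (by decide +kernel)
    (C.pT (f17489 C)
    (C.pH [8, 30, 65, 84, 94, 117] [19, 42, 56, 73, 96, 109, 115] (by decide +kernel) (C.pNil _ _)))))
    (C.pH [26, 38, 54, 89, 90, 113] [11, 46, 53, 75, 96, 109, 117] (by decide +kernel)
    (C.pT (f17493 C)
    (C.pH [8, 30, 65, 84, 94, 117] [5, 34, 51, 80, 100, 109, 118] (by decide +kernel) (C.pNil _ _))))
    (C.loop_of_one (relLoop2 C) _ _)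

theorem f17495 : C.T (v3 C) [8, 41, 69, 79, 104, 109, 112] (v20 C) [19, 42, 56, 73, 96, 109, 115] :=
  C.flip (f17494 C)

theorem f17496 : C.S (v3 C) [23, 29, 57, 87, 91, 110, 120] :=
  C.stMul (f331 C) (f328 C) _ (by decide +kernel)

theorem f17497 : C.S (v3 C) [23, 35, 58, 78, 94, 110, 123] :=
  C.stMul (f328 C) (f17496 C) _ (by decide +kernel)

theorem f17498 : C.S (v3 C) [21, 46, 68, 75, 95] :=
  C.stMul (f335 C) (f17497 C) _ (by decide +kernel)

theorem f17499 : C.T (v3 C) [8, 41, 69, 79, 104, 109, 112] (v20 C) [11, 57, 86, 98, 110, 117] :=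
  C.conv (f17402 C) (f376 C) (f17498 C) _ [133, 159, 169, 171, 177] _ (by decide +kernel) (by decide +kernel) (by decide +kernel)

theorem f17500 : C.E (v20 C) [11, 57, 86, 98, 110, 117] (v20 C) [19, 42, 56, 73, 96, 109, 115] :=
  C.sameSrc (f17499 C) (f17495 C)

theorem f17501 : C.S (v20 C) [6, 36, 69, 82, 105, 109, 120] :=
  C.stEq (f17500 C) _ (by decide +kernel)

theorem f17520 : C.T (v2 C) [26, 38, 60, 70, 107, 118] (v18 C) [11, 31, 54, 92, 112] :=
  C.conv (f6850 C) (f6867 C) (f6867 C) _ [145] _ (by decide +kernel) (by decide +kernel) (by decide +kernel)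

theorem f17521 : C.S (v2 C) [18, 44, 68, 81, 106, 109, 118] :=
  C.stMul (f138 C) (f115 C) _ (by decide +kernel)

theorem f17522 : C.T (v2 C) [19, 42, 62, 79, 98, 109, 122] (v3 C) [21, 30, 85, 92, 109, 115] :=
  C.conv (f347 C) (f356 C) (f17521 C) _ [126, 160, 165, 171, 177] _ (by decide +kernel) (by decide +kernel) (by decide +kernel)

theorem f17523 : C.T (v3 C) [21, 30, 85, 92, 109, 115] (v2 C) [19, 42, 62, 79, 98, 109, 122] :=
  C.flip (f17522 C)

theorem f17524 : C.S (v3 C) [10, 28, 62, 78, 98, 110, 120] :=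
  C.stMul (f328 C) (f335 C) _ (by decide +kernel)

theorem f17525 : C.S (v3 C) [20, 30, 59, 75, 96, 110, 111] :=
  C.stMul (f353 C) (f17524 C) _ (by decide +kernel)

theorem f17526 : C.T (v3 C) [10, 33, 63, 84, 92, 110] (v20 C) [26, 34, 62, 84, 99] :=
  C.conv (f17402 C) (f376 C) (f17525 C) _ [148, 159, 172] _ (by decide +kernel) (by decide +kernel) (by decide +kernel)

theorem f17527 : C.T (v20 C) [26, 34, 62, 84, 99] (v3 C) [10, 33, 63, 84, 92, 110] :=
  C.flip (f17526 C)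

theorem f17528 : C.T (v18 C) [24, 48, 62, 71, 93, 109, 123] (v20 C) [19, 40, 54, 88, 102, 123] :=
  C.closeT (p := (v2 C)) (pu := [26, 38, 60, 70, 107, 118])
    (C.pT (f17520 C)
    (C.pH [26, 38, 54, 89, 90, 113] [24, 48, 62, 71, 93, 109, 123] (by decide +kernel) (C.pNil _ _)))
    (C.pH [8, 30, 65, 84, 94, 117] [26, 34, 62, 84, 99] (by decide +kernel)
    (C.pT (f17527 C)
    (C.pH [26, 38, 54, 89, 90, 113] [21, 30, 85, 92, 109, 115] (by decide +kernel)
    (C.pT (f17523 C)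
    (C.pH [8, 30, 65, 84, 94, 117] [26, 38, 60, 70, 107, 118] (by decide +kernel) (C.pNil _ _))))))
    (C.loop_of_one (relLoop2 C) _ _)

theorem f17529 : C.T (v20 C) [19, 40, 54, 88, 102, 123] (v18 C) [24, 48, 62, 71, 93, 109, 123] :=
  C.flip (f17528 C)

theorem f17530 : C.T (v3 C) [20, 44, 63, 86, 96] (v15 C) [13, 35, 60, 72, 99, 109, 124] :=
  C.conv (f2902 C) (f2981 C) (f2981 C) _ [146, 156, 168, 172, 178] _ (by decide +kernel) (by decide +kernel) (by decide +kernel)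

theorem f17531 : C.S (v3 C) [26, 29, 49, 97, 123] :=
  C.stMul (f335 C) (f17461 C) _ (by decide +kernel)

theorem f17532 : C.S (v3 C) [4, 30, 49, 89, 105, 125] :=
  C.stMul (f353 C) (f17531 C) _ (by decide +kernel)

theorem f17533 : C.T (v3 C) [11, 29, 55, 83, 99, 109] (v20 C) [30, 51, 71, 102, 119] :=
  C.conv (f17402 C) (f376 C) (f17532 C) _ [151, 170, 171, 177] _ (by decide +kernel) (by decide +kernel) (by decide +kernel)

theorem f17534 : C.T (v20 C) [30, 51, 71, 102, 119] (v3 C) [11, 29, 55, 83, 99, 109] :=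
  C.flip (f17533 C)

theorem f17535 : C.T (v15 C) [26, 45, 65, 89, 93, 116] (v20 C) [23, 30, 49, 74, 104, 109, 112] :=
  C.closeT (p := (v3 C)) (pu := [20, 44, 63, 86, 96])
    (C.pT (f17530 C)
    (C.pH [12, 35, 50, 83] [26, 45, 65, 89, 93, 116] (by decide +kernel) (C.pNil _ _)))
    (C.pH [12, 35, 50, 83] [30, 51, 71, 102, 119] (by decide +kernel)
    (C.pT (f17534 C)
    (C.pH [12, 35, 50, 83] [20, 44, 63, 86, 96] (by decide +kernel) (C.pNil _ _))))
    (C.loop_of_one (relLoop0 C) _ _)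

theorem f17536 : C.T (v20 C) [23, 30, 49, 74, 104, 109, 112] (v15 C) [26, 45, 65, 89, 93, 116] :=
  C.flip (f17535 C)

theorem f17537 : C.T (v3 C) [8, 35, 55, 89, 91, 121] (v17 C) [22, 29, 50, 89, 107, 109, 112] :=
  C.conv (f6814 C) (f7361 C) (f7361 C) _ [133, 149, 170, 171] _ (by decide +kernel) (by decide +kernel) (by decide +kernel)

theorem f17538 : C.T (v3 C) [21, 35, 58, 88, 101, 110, 116] (v20 C) [23, 40, 51, 96, 109, 113] :=
  C.conv (f17402 C) (f376 C) (f17407 C) _ [145, 155, 169, 178] _ (by decide +kernel) (by decide +kernel) (by decide +kernel)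

theorem f17539 : C.T (v20 C) [23, 40, 51, 96, 109, 113] (v3 C) [21, 35, 58, 88, 101, 110, 116] :=
  C.flip (f17538 C)

theorem f17540 : C.T (v17 C) [11, 35, 57, 82, 95, 114] (v20 C) [12, 36, 56, 70, 98, 109, 115] :=
  C.closeT (p := (v3 C)) (pu := [8, 35, 55, 89, 91, 121])
    (C.pT (f17537 C)
    (C.pH [12, 35, 50, 83] [11, 35, 57, 82, 95, 114] (by decide +kernel) (C.pNil _ _)))
    (C.pH [12, 35, 50, 83] [23, 40, 51, 96, 109, 113] (by decide +kernel)
    (C.pT (f17539 C)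
    (C.pH [12, 35, 50, 83] [8, 35, 55, 89, 91, 121] (by decide +kernel) (C.pNil _ _))))
    (C.loop_of_one (relLoop0 C) _ _)

theorem f17541 : C.T (v20 C) [12, 36, 56, 70, 98, 109, 115] (v17 C) [11, 35, 57, 82, 95, 114] :=
  C.flip (f17540 C)

theorem f17542 : C.T (v3 C) [8, 28, 56, 77, 99, 110, 116] (v18 C) [11, 31, 53, 71, 96, 109, 119] :=
  C.conv (f6902 C) (f7285 C) (f7285 C) _ [126, 156, 169] _ (by decide +kernel) (by decide +kernel) (by decide +kernel)

theorem f17543 : C.S (v3 C) [21, 45, 66, 81, 102, 110] :=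
  C.stMul (f335 C) (f17496 C) _ (by decide +kernel)

theorem f17544 : C.S (v3 C) [14, 36, 68, 75, 101, 109, 114] :=
  C.stMul (f353 C) (f17543 C) _ (by decide +kernel)

theorem f17545 : C.S (v3 C) [19, 29, 58, 86, 90, 110, 125] :=
  C.stMul (f335 C) (f17544 C) _ (by decide +kernel)

theorem f17546 : C.T (v3 C) [21, 30, 59, 77, 103, 122] (v20 C) [26, 43, 49, 72, 106, 123] :=
  C.conv (f17402 C) (f376 C) (f17545 C) _ [148, 151, 170, 173, 177] _ (by decide +kernel) (by decide +kernel) (by decide +kernel)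

theorem f17547 : C.T (v20 C) [26, 43, 49, 72, 106, 123] (v3 C) [21, 30, 59, 77, 103, 122] :=
  C.flip (f17546 C)

theorem f17548 : C.T (v18 C) [20, 41, 54, 89, 105, 109, 112] (v20 C) [13, 44, 64, 81, 98, 110] :=
  C.closeT (p := (v3 C)) (pu := [8, 28, 56, 77, 99, 110, 116])
    (C.pT (f17542 C)
    (C.pH [12, 35, 50, 83] [20, 41, 54, 89, 105, 109, 112] (by decide +kernel) (C.pNil _ _)))
    (C.pH [12, 35, 50, 83] [26, 43, 49, 72, 106, 123] (by decide +kernel)
    (C.pT (f17547 C)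
    (C.pH [12, 35, 50, 83] [8, 28, 56, 77, 99, 110, 116] (by decide +kernel) (C.pNil _ _))))
    (C.loop_of_one (relLoop0 C) _ _)

theorem f17549 : C.T (v20 C) [13, 44, 64, 81, 98, 110] (v18 C) [20, 41, 54, 89, 105, 109, 112] :=
  C.flip (f17548 C)

theorem f17550 : C.T (v3 C) [17, 45, 67, 80, 107, 116] (v18 C) [13, 37, 81, 97, 109, 125] :=
  C.conv (f9221 C) (f9279 C) (f9279 C) _ [148, 162, 168, 173] _ (by decide +kernel) (by decide +kernel) (by decide +kernel)

theorem f17551 : C.S (v3 C) [15, 34, 56, 71, 106, 109, 117] :=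
  C.stMul (f331 C) (f353 C) _ (by decide +kernel)

theorem f17552 : C.S (v3 C) [15, 40, 50, 78, 92, 118] :=
  C.stMul (f328 C) (f17551 C) _ (by decide +kernel)

theorem f17553 : C.S (v3 C) [16, 39, 64, 74, 93, 112] :=
  C.stMul (f335 C) (f17552 C) _ (by decide +kernel)

theorem f17554 : C.T (v3 C) [9, 43, 59, 82, 116] (v20 C) [16, 30, 68, 75, 98, 110, 121] :=
  C.conv (f17402 C) (f376 C) (f17553 C) _ [138, 163, 165, 171, 177] _ (by decide +kernel) (by decide +kernel) (by decide +kernel)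

theorem f17555 : C.T (v20 C) [16, 30, 68, 75, 98, 110, 121] (v3 C) [9, 43, 59, 82, 116] :=
  C.flip (f17554 C)

theorem f17556 : C.T (v18 C) [26, 37, 52, 79, 106, 117] (v20 C) [16, 49, 85, 90, 120] :=
  C.closeT (p := (v3 C)) (pu := [17, 45, 67, 80, 107, 116])
    (C.pT (f17550 C)
    (C.pH [12, 35, 50, 83] [26, 37, 52, 79, 106, 117] (by decide +kernel) (C.pNil _ _)))
    (C.pH [12, 35, 50, 83] [16, 30, 68, 75, 98, 110, 121] (by decide +kernel)
    (C.pT (f17555 C)
    (C.pH [12, 35, 50, 83] [17, 45, 67, 80, 107, 116] (by decide +kernel) (C.pNil _ _))))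
    (C.loop_of_one (relLoop0 C) _ _)

theorem f17557 : C.T (v20 C) [16, 49, 85, 90, 120] (v18 C) [26, 37, 52, 79, 106, 117] :=
  C.flip (f17556 C)

theorem f17558 : C.T (v3 C) [14, 29, 53, 84, 92, 123] (v19 C) [26, 39, 63, 76, 91, 109, 111] :=
  C.conv (f15592 C) (f15600 C) (f15600 C) _ [135, 155, 168, 176, 178] _ (by decide +kernel) (by decide +kernel) (by decide +kernel)

theorem f17559 : C.S (v3 C) [12, 29, 49, 79, 92, 110, 117] :=
  C.stMul (f353 C) (f17496 C) _ (by decide +kernel)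

theorem f17560 : C.T (v3 C) [14, 31, 52, 79, 98, 109, 117] (v20 C) [11, 44, 66, 77, 95, 109, 113] :=
  C.conv (f17402 C) (f376 C) (f17559 C) _ [133, 153, 171, 177] _ (by decide +kernel) (by decide +kernel) (by decide +kernel)

theorem f17561 : C.T (v20 C) [11, 44, 66, 77, 95, 109, 113] (v3 C) [14, 31, 52, 79, 98, 109, 117] :=
  C.flip (f17560 C)

theorem f17562 : C.T (v19 C) [4, 37, 57, 84, 102, 110, 122] (v20 C) [22, 32, 57, 72, 96, 109, 114] :=
  C.closeT (p := (v3 C)) (pu := [14, 29, 53, 84, 92, 123])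
    (C.pT (f17558 C)
    (C.pH [12, 35, 50, 83] [4, 37, 57, 84, 102, 110, 122] (by decide +kernel) (C.pNil _ _)))
    (C.pH [12, 35, 50, 83] [11, 44, 66, 77, 95, 109, 113] (by decide +kernel)
    (C.pT (f17561 C)
    (C.pH [12, 35, 50, 83] [14, 29, 53, 84, 92, 123] (by decide +kernel) (C.pNil _ _))))
    (C.loop_of_one (relLoop0 C) _ _)

theorem f17563 : C.T (v20 C) [22, 32, 57, 72, 96, 109, 114] (v19 C) [4, 37, 57, 84, 102, 110, 122] :=
  C.flip (f17562 C)

theorem f17564 : C.T (v3 C) [23, 38, 52, 77, 103, 110, 123] (v19 C) [7, 42, 64, 94, 118] :=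
  C.conv (f15592 C) (f15600 C) (f15600 C) _ [126, 159, 164, 173, 178] _ (by decide +kernel) (by decide +kernel) (by decide +kernel)

theorem f17565 : C.S (v3 C) [14, 46, 79, 106, 123] :=
  C.stMul (f353 C) (f17498 C) _ (by decide +kernel)

theorem f17566 : C.S (v3 C) [19, 34, 68, 75, 94, 111] :=
  C.stMul (f335 C) (f17565 C) _ (by decide +kernel)

theorem f17567 : C.T (v3 C) [12, 39, 60, 87, 104, 117] (v20 C) [16, 42, 52, 84, 107, 109, 117] :=
  C.conv (f17402 C) (f376 C) (f17566 C) _ [138, 165, 172, 177] _ (by decide +kernel) (by decide +kernel) (by decide +kernel)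

theorem f17568 : C.T (v20 C) [16, 42, 52, 84, 107, 109, 117] (v3 C) [12, 39, 60, 87, 104, 117] :=
  C.flip (f17567 C)

theorem f17569 : C.T (v19 C) [7, 33, 69, 76, 116] (v20 C) [16, 36, 55, 70, 94, 114] :=
  C.closeT (p := (v3 C)) (pu := [23, 38, 52, 77, 103, 110, 123])
    (C.pT (f17564 C)
    (C.pH [12, 35, 50, 83] [7, 33, 69, 76, 116] (by decide +kernel) (C.pNil _ _)))
    (C.pH [12, 35, 50, 83] [16, 42, 52, 84, 107, 109, 117] (by decide +kernel)
    (C.pT (f17568 C)
    (C.pH [12, 35, 50, 83] [23, 38, 52, 77, 103, 110, 123] (by decide +kernel) (C.pNil _ _))))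
    (C.loop_of_one (relLoop0 C) _ _)

theorem f17570 : C.T (v20 C) [16, 36, 55, 70, 94, 114] (v19 C) [7, 33, 69, 76, 116] :=
  C.flip (f17569 C)

theorem f17571 : C.T (v3 C) [23, 44, 59, 73, 98] (v20 C) [10, 46, 58, 86, 104, 110, 118] :=
  C.conv (f17402 C) (f376 C) (f376 C) _ [132, 161, 165] _ (by decide +kernel) (by decide +kernel) (by decide +kernel)

theorem f17572 : C.S (v3 C) [21, 45, 66, 81, 102, 110] :=
  C.stMul (f335 C) (f15858 C) _ (by decide +kernel)

theorem f17573 : C.S (v3 C) [25, 30, 54, 78, 106, 110, 122] :=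
  C.stMul (f328 C) (f17572 C) _ (by decide +kernel)

theorem f17574 : C.S (v3 C) [16, 42, 51, 85, 105, 109, 116] :=
  C.stMul (f331 C) (f17573 C) _ (by decide +kernel)

theorem f17575 : C.T (v3 C) [12, 30, 50, 79, 108, 110, 112] (v17 C) [24, 40, 60, 80, 105, 110, 125] :=
  C.conv (f6822 C) (f7297 C) (f17574 C) _ [131, 175, 178] _ (by decide +kernel) (by decide +kernel) (by decide +kernel)

theorem f17576 : C.T (v17 C) [24, 40, 60, 80, 105, 110, 125] (v3 C) [12, 30, 50, 79, 108, 110, 112] :=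
  C.flip (f17575 C)

theorem f17577 : C.T (v20 C) [21, 39, 57, 97, 109, 121] (v17 C) [19, 47, 72, 95, 110, 125] :=
  C.closeT (p := (v3 C)) (pu := [23, 44, 59, 73, 98])
    (C.pT (f17571 C)
    (C.pH [12, 35, 50, 83] [21, 39, 57, 97, 109, 121] (by decide +kernel) (C.pNil _ _)))
    (C.pH [12, 35, 50, 83] [24, 40, 60, 80, 105, 110, 125] (by decide +kernel)
    (C.pT (f17576 C)
    (C.pH [12, 35, 50, 83] [23, 44, 59, 73, 98] (by decide +kernel) (C.pNil _ _))))
    (C.loop_of_one (relLoop0 C) _ _)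

theorem f17578 : C.T (v17 C) [19, 47, 72, 95, 110, 125] (v20 C) [21, 39, 57, 97, 109, 121] :=
  C.flip (f17577 C)

theorem f17579 : C.T (v10 C) [35, 66, 84, 105, 109, 115] (v13 C) [14, 37, 51, 105, 111] :=
  C.substR (f2111 C) (f2404 C) _ (by decide +kernel)

theorem f17580 : C.S (v1 C) [] :=
  C.stOne _

theorem f17581 : C.S (v1 C) [4, 42, 65] :=
  C.stMul (f27 C) (f3 C) _ (by decide +kernel)

theorem f17582 : C.S (v1 C) [5, 35, 53, 75, 92, 121] :=
  C.stMul (f3 C) (f27 C) _ (by decide +kernel)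

theorem f17583 : C.S (v1 C) [12, 28, 60, 76, 96, 109, 120] :=
  C.stMul (f27 C) (f27 C) _ (by decide +kernel)

theorem f17584 : C.S (v1 C) [6, 28, 60, 76, 96, 109, 120] :=
  C.stMul (f3 C) (f17583 C) _ (by decide +kernel)

theorem f17585 : C.S (v1 C) [25, 34, 60] :=
  C.stMul (f12 C) (f3 C) _ (by decide +kernel)

theorem f17586 : C.S (v1 C) [24, 32, 65] :=
  C.stMul (f27 C) (f17585 C) _ (by decide +kernel)

theorem f17587 : C.S (v1 C) [7, 32, 65] :=
  C.stMul (f3 C) (f17586 C) _ (by decide +kernel)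

theorem f17588 : C.S (v1 C) [14, 44, 49, 70, 92, 109, 115] :=
  C.stMul (f27 C) (f12 C) _ (by decide +kernel)

theorem f17589 : C.S (v1 C) [16, 44, 49, 70, 92, 109, 115] :=
  C.stMul (f3 C) (f17588 C) _ (by decide +kernel)

theorem f17590 : C.S (v1 C) [8, 28, 65, 83, 95, 109, 113] :=
  C.stMul (f12 C) (f17589 C) _ (by decide +kernel)

theorem f17591 : C.S (v1 C) [9, 41] :=
  C.stMul (f3 C) (f12 C) _ (by decide +kernel)

theorem f17592 : C.S (v1 C) [13, 35, 52, 87, 102, 122] :=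
  C.stMul (f27 C) (f17591 C) _ (by decide +kernel)

theorem f17593 : C.S (v1 C) [11, 35, 52, 87, 102, 122] :=
  C.stMul (f3 C) (f17592 C) _ (by decide +kernel)

theorem f17594 : C.S (v1 C) [18, 34, 60] :=
  C.stMul (f3 C) (f17585 C) _ (by decide +kernel)

theorem f17595 : C.S (v1 C) [23, 37, 51, 72, 106, 109, 123] :=
  C.stMul (f12 C) (f17594 C) _ (by decide +kernel)

theorem f17596 : C.S (v1 C) [15, 34, 67, 88, 117] :=
  C.stMul (f27 C) (f17595 C) _ (by decide +kernel)

theorem f17597 : C.S (v1 C) [17, 34, 63, 88, 99, 110] :=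
  C.stMul (f27 C) (f17594 C) _ (by decide +kernel)

theorem f17598 : C.S (v1 C) [21, 47, 65, 84, 96, 110, 122] :=
  C.stMul (f27 C) (f17581 C) _ (by decide +kernel)

theorem f17599 : C.S (v1 C) [22, 42, 65] :=
  C.stMul (f3 C) (f17581 C) _ (by decide +kernel)

theorem f17600 : C.S (v1 C) [26, 46, 64, 84, 103, 110, 124] :=
  C.stMul (f12 C) (f17582 C) _ (by decide +kernel)

theorem f17601 : C.S (v1 C) [12, 36, 51, 87, 90, 119] :=
  C.stMul (f12 C) (f17599 C) _ (by decide +kernel)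

theorem f17602 : C.S (v1 C) [26, 27, 49, 80, 97, 121] :=
  C.stMul (f27 C) (f17601 C) _ (by decide +kernel)

theorem f17603 : C.S (v1 C) [27, 56, 80, 99, 109] :=
  C.stMul (f27 C) (f17602 C) _ (by decide +kernel)

theorem f17604 : C.S (v1 C) [18, 46, 61, 89, 96, 110, 111] :=
  C.stMul (f27 C) (f17597 C) _ (by decide +kernel)

theorem f17605 : C.S (v1 C) [25, 46, 61, 89, 96, 110, 111] :=
  C.stMul (f3 C) (f17604 C) _ (by decide +kernel)

theorem f17606 : C.S (v1 C) [10, 28, 52, 73, 99, 109, 118] :=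
  C.stMul (f12 C) (f17605 C) _ (by decide +kernel)

theorem f17607 : C.S (v1 C) [28, 52, 73, 99, 109, 118] :=
  C.stMul (f3 C) (f17606 C) _ (by decide +kernel)

theorem f17608 : C.S (v1 C) [13, 44, 61, 84, 94, 110, 116] :=
  C.stMul (f12 C) (f17584 C) _ (by decide +kernel)

theorem f17609 : C.S (v1 C) [25, 41, 60, 76, 96, 109, 120] :=
  C.stMul (f27 C) (f17608 C) _ (by decide +kernel)

theorem f17610 : C.S (v1 C) [24, 31, 66, 73, 92, 110, 122] :=
  C.stMul (f27 C) (f17609 C) _ (by decide +kernel)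

theorem f17611 : C.S (v1 C) [9, 43, 54, 74, 100, 120] :=
  C.stMul (f27 C) (f17610 C) _ (by decide +kernel)

theorem f17612 : C.S (v1 C) [20, 43, 54, 74, 100, 120] :=
  C.stMul (f3 C) (f17611 C) _ (by decide +kernel)

theorem f17613 : C.S (v1 C) [30, 57, 77, 98, 110, 124] :=
  C.stMul (f12 C) (f17612 C) _ (by decide +kernel)

theorem f17614 : C.S (v1 C) [10, 39, 63, 87, 100, 109, 113] :=
  C.stMul (f27 C) (f17584 C) _ (by decide +kernel)

theorem f17615 : C.S (v1 C) [4, 48, 67, 89, 97, 109, 125] :=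
  C.stMul (f27 C) (f17614 C) _ (by decide +kernel)

theorem f17616 : C.S (v1 C) [22, 48, 67, 89, 97, 109, 125] :=
  C.stMul (f3 C) (f17615 C) _ (by decide +kernel)

theorem f17617 : C.S (v1 C) [12, 45, 55, 103, 109, 120] :=
  C.stMul (f12 C) (f17616 C) _ (by decide +kernel)

theorem f17618 : C.S (v1 C) [26, 32, 64, 83, 96, 110, 123] :=
  C.stMul (f27 C) (f17617 C) _ (by decide +kernel)

theorem f17619 : C.S (v1 C) [31, 50, 82, 94, 109] :=
  C.stMul (f27 C) (f17618 C) _ (by decide +kernel)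

theorem f17620 : C.S (v1 C) [26, 40] :=
  C.stMul (f27 C) (f17583 C) _ (by decide +kernel)

theorem f17621 : C.S (v1 C) [17, 40] :=
  C.stMul (f3 C) (f17620 C) _ (by decide +kernel)

theorem f17622 : C.S (v1 C) [18, 41, 59, 75, 103, 119] :=
  C.stMul (f27 C) (f17621 C) _ (by decide +kernel)

theorem f17623 : C.S (v1 C) [17, 28, 69, 84, 92, 109, 123] :=
  C.stMul (f27 C) (f17622 C) _ (by decide +kernel)

theorem f17624 : C.S (v1 C) [26, 28, 69, 84, 92, 109, 123] :=
  C.stMul (f3 C) (f17623 C) _ (by decide +kernel)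

theorem f17625 : C.S (v1 C) [32, 64, 83, 97, 120] :=
  C.stMul (f27 C) (f17624 C) _ (by decide +kernel)

theorem f17626 : C.S (v1 C) [21, 37, 51, 72, 106, 109, 123] :=
  C.stMul (f12 C) (f17591 C) _ (by decide +kernel)

theorem f17627 : C.S (v1 C) [6, 37, 51, 87, 102, 122] :=
  C.stMul (f27 C) (f17626 C) _ (by decide +kernel)

theorem f17628 : C.S (v1 C) [10, 35, 67, 81, 98, 110, 113] :=
  C.stMul (f27 C) (f17627 C) _ (by decide +kernel)

theorem f17629 : C.S (v1 C) [35, 67, 81, 98, 110, 113] :=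
  C.stMul (f3 C) (f17628 C) _ (by decide +kernel)

theorem f17630 : C.S (v1 C) [25, 47, 65, 83, 106, 110, 112] :=
  C.stMul (f27 C) (f17592 C) _ (by decide +kernel)

theorem f17631 : C.S (v1 C) [18, 47, 65, 83, 106, 110, 112] :=
  C.stMul (f3 C) (f17630 C) _ (by decide +kernel)

theorem f17632 : C.S (v1 C) [17, 42, 59, 84, 99, 110, 121] :=
  C.stMul (f27 C) (f17631 C) _ (by decide +kernel)

theorem f17633 : C.S (v1 C) [26, 42, 59, 84, 99, 110, 121] :=
  C.stMul (f3 C) (f17632 C) _ (by decide +kernel)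

theorem f17634 : C.S (v1 C) [36, 63, 81, 95, 110] :=
  C.stMul (f27 C) (f17633 C) _ (by decide +kernel)

theorem f17635 : C.S (v1 C) [12, 37, 51, 87, 102, 122] :=
  C.stMul (f3 C) (f17627 C) _ (by decide +kernel)

theorem f17636 : C.S (v1 C) [26, 47, 65, 85, 106, 110, 111] :=
  C.stMul (f27 C) (f17635 C) _ (by decide +kernel)

theorem f17637 : C.S (v1 C) [37, 54, 70, 92, 110, 120] :=
  C.stMul (f27 C) (f17636 C) _ (by decide +kernel)

theorem f17638 : C.S (v1 C) [6, 47, 60] :=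
  C.stMul (f27 C) (f17598 C) _ (by decide +kernel)

theorem f17639 : C.S (v1 C) [12, 47, 60] :=
  C.stMul (f3 C) (f17638 C) _ (by decide +kernel)

theorem f17640 : C.S (v1 C) [26, 52] :=
  C.stMul (f27 C) (f17639 C) _ (by decide +kernel)

theorem f17641 : C.S (v1 C) [38, 64, 71, 92, 110, 116] :=
  C.stMul (f27 C) (f17640 C) _ (by decide +kernel)

theorem f17642 : C.S (v1 C) [39, 69, 70, 99, 117] :=
  C.stMul (f27 C) (f17600 C) _ (by decide +kernel)

theorem f17643 : C.S (v1 C) [26, 34, 63, 88, 99, 110] :=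
  C.stMul (f3 C) (f17597 C) _ (by decide +kernel)

theorem f17644 : C.S (v1 C) [41, 55, 88, 99, 110] :=
  C.stMul (f27 C) (f17643 C) _ (by decide +kernel)

theorem f17645 : C.S (v1 C) [5, 47, 52, 84, 104, 112] :=
  C.stMul (f27 C) (f17599 C) _ (by decide +kernel)

theorem f17646 : C.S (v1 C) [19, 44, 56, 75, 100, 109, 121] :=
  C.stMul (f3 C) (f17645 C) _ (by decide +kernel)

theorem f17647 : C.S (v1 C) [12, 46, 63, 87, 99, 109, 120] :=
  C.stMul (f27 C) (f17646 C) _ (by decide +kernel)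

theorem f17648 : C.S (v1 C) [26, 31, 50, 78, 103, 124] :=
  C.stMul (f27 C) (f17647 C) _ (by decide +kernel)

theorem f17649 : C.S (v1 C) [43, 56, 75, 100, 109, 121] :=
  C.stMul (f27 C) (f17648 C) _ (by decide +kernel)

theorem f17650 : C.S (v1 C) [6, 36, 51, 87, 90, 119] :=
  C.stMul (f3 C) (f17601 C) _ (by decide +kernel)

theorem f17651 : C.S (v1 C) [10, 46, 58, 86, 104, 110, 118] :=
  C.stMul (f27 C) (f17650 C) _ (by decide +kernel)

theorem f17652 : C.S (v1 C) [46, 58, 86, 104, 110, 118] :=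
  C.stMul (f3 C) (f17651 C) _ (by decide +kernel)

theorem f17653 : C.S (v1 C) [9, 34, 53, 80, 107, 109, 116] :=
  C.stMul (f27 C) (f17586 C) _ (by decide +kernel)

theorem f17654 : C.S (v1 C) [20, 34, 53, 80, 107, 109, 116] :=
  C.stMul (f3 C) (f17653 C) _ (by decide +kernel)

theorem f17655 : C.S (v1 C) [47, 54, 84, 104, 124] :=
  C.stMul (f12 C) (f17654 C) _ (by decide +kernel)

theorem f17656 : C.S (v1 C) [23, 47, 65, 84, 96, 110, 122] :=
  C.stMul (f3 C) (f17598 C) _ (by decide +kernel)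

theorem f17657 : C.S (v1 C) [18, 35, 67, 84, 113] :=
  C.stMul (f12 C) (f17656 C) _ (by decide +kernel)

theorem f17658 : C.S (v1 C) [17, 48, 50, 77, 104, 109, 120] :=
  C.stMul (f27 C) (f17657 C) _ (by decide +kernel)

theorem f17659 : C.S (v1 C) [26, 48, 50, 77, 104, 109, 120] :=
  C.stMul (f3 C) (f17658 C) _ (by decide +kernel)

end CfsgLib.J4Index
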