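import Cfsg.Agent.Lib.J4Index.Facts17

/-!
# Derived equations (generated)
-/

set_option autoImplicit false
set_option maxRecDepth 100000
set_option linter.style.longLine false

namespace CfsgLib.J4Index

variable {G X : Type} [Group G] [MulAction G X] (C : Ctx G X)

theorem f17660 : C.S (v1 C) [48, 56, 71, 99, 109, 124] :=
  C.stMul (f27 C) (f17659 C) _ (by decide +kernel)

theorem f17661 : C.S (v1 C) [17, 47, 65, 85, 106, 110, 111] :=
  C.stMul (f3 C) (f17636 C) _ (by decide +kernel)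

theorem f17662 : C.S (v1 C) [18, 34, 61, 82, 92, 125] :=
  C.stMul (f27 C) (f17661 C) _ (by decide +kernel)

theorem f17663 : C.S (v1 C) [25, 34, 61, 82, 92, 125] :=
  C.stMul (f3 C) (f17662 C) _ (by decide +kernel)

theorem f17664 : C.S (v1 C) [10, 51, 75, 92, 109, 125] :=
  C.stMul (f12 C) (f17663 C) _ (by decide +kernel)

theorem f17665 : C.S (v1 C) [51, 75, 92, 109, 125] :=
  C.stMul (f3 C) (f17664 C) _ (by decide +kernel)

theorem f17666 : C.S (v1 C) [7, 43, 67, 83, 98, 114] :=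
  C.stMul (f27 C) (f17589 C) _ (by decide +kernel)

theorem f17667 : C.S (v1 C) [24, 43, 67, 83, 98, 114] :=
  C.stMul (f3 C) (f17666 C) _ (by decide +kernel)

theorem f17668 : C.S (v1 C) [9, 41, 57, 75, 92, 125] :=
  C.stMul (f27 C) (f17667 C) _ (by decide +kernel)

theorem f17669 : C.S (v1 C) [20, 41, 57, 75, 92, 125] :=
  C.stMul (f3 C) (f17668 C) _ (by decide +kernel)

theorem f17670 : C.S (v1 C) [57, 75, 92, 125] :=
  C.stMul (f12 C) (f17669 C) _ (by decide +kernel)

theorem f17671 : C.S (v1 C) [21, 60, 76, 96, 109, 120] :=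
  C.stMul (f27 C) (f17615 C) _ (by decide +kernel)

theorem f17672 : C.S (v1 C) [23, 60, 76, 96, 109, 120] :=
  C.stMul (f3 C) (f17671 C) _ (by decide +kernel)

theorem f17673 : C.S (v1 C) [18, 28, 49, 85, 96, 110, 124] :=
  C.stMul (f12 C) (f17672 C) _ (by decide +kernel)

theorem f17674 : C.S (v1 C) [17, 40, 58, 82, 96, 109, 124] :=
  C.stMul (f27 C) (f17673 C) _ (by decide +kernel)

theorem f17675 : C.S (v1 C) [26, 40, 58, 82, 96, 109, 124] :=
  C.stMul (f3 C) (f17674 C) _ (by decide +kernel)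

theorem f17676 : C.S (v1 C) [58, 82, 96, 109, 124] :=
  C.stMul (f27 C) (f17675 C) _ (by decide +kernel)

theorem f17677 : C.S (v1 C) [16, 39, 52, 71, 107, 109, 115] :=
  C.stMul (f27 C) (f17587 C) _ (by decide +kernel)

theorem f17678 : C.S (v1 C) [7, 32, 58, 89, 106, 110, 120] :=
  C.stMul (f27 C) (f17677 C) _ (by decide +kernel)

theorem f17679 : C.S (v1 C) [24, 32, 58, 89, 106, 110, 120] :=
  C.stMul (f3 C) (f17678 C) _ (by decide +kernel)

theorem f17680 : C.S (v1 C) [4, 42, 58, 89, 106, 110, 120] :=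
  C.stMul (f12 C) (f17679 C) _ (by decide +kernel)

theorem f17681 : C.S (v1 C) [21, 47, 60, 81, 97, 110, 119] :=
  C.stMul (f27 C) (f17680 C) _ (by decide +kernel)

theorem f17682 : C.S (v1 C) [6, 47, 59, 85, 99, 110, 114] :=
  C.stMul (f27 C) (f17681 C) _ (by decide +kernel)

theorem f17683 : C.S (v1 C) [10, 59, 85, 108, 109, 120] :=
  C.stMul (f27 C) (f17682 C) _ (by decide +kernel)

theorem f17684 : C.S (v1 C) [59, 85, 108, 109, 120] :=
  C.stMul (f3 C) (f17683 C) _ (by decide +kernel)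

theorem f17685 : C.S (v1 C) [17, 46, 64, 84, 103, 110, 124] :=
  C.stMul (f3 C) (f17600 C) _ (by decide +kernel)

theorem f17686 : C.S (v1 C) [18, 47, 49, 86, 102, 109, 119] :=
  C.stMul (f27 C) (f17685 C) _ (by decide +kernel)

theorem f17687 : C.S (v1 C) [25, 47, 49, 86, 102, 109, 119] :=
  C.stMul (f3 C) (f17686 C) _ (by decide +kernel)

theorem f17688 : C.S (v1 C) [24, 43, 58, 78, 91, 111] :=
  C.stMul (f27 C) (f17687 C) _ (by decide +kernel)

theorem f17689 : C.S (v1 C) [9, 41, 60, 81, 94, 109, 121] :=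
  C.stMul (f27 C) (f17688 C) _ (by decide +kernel)

theorem f17690 : C.S (v1 C) [20, 41, 60, 81, 94, 109, 121] :=
  C.stMul (f3 C) (f17689 C) _ (by decide +kernel)

theorem f17691 : C.S (v1 C) [60, 81, 94, 109, 121] :=
  C.stMul (f12 C) (f17690 C) _ (by decide +kernel)

theorem f17692 : C.S (v1 C) [39, 63, 87, 100, 109, 113] :=
  C.stMul (f3 C) (f17614 C) _ (by decide +kernel)

theorem f17693 : C.S (v1 C) [19, 33, 58, 79, 96, 109, 124] :=
  C.stMul (f27 C) (f17692 C) _ (by decide +kernel)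

theorem f17694 : C.S (v1 C) [5, 31, 63, 87, 91, 110, 123] :=
  C.stMul (f3 C) (f17693 C) _ (by decide +kernel)

theorem f17695 : C.S (v1 C) [26, 40, 62, 73, 102, 110, 121] :=
  C.stMul (f12 C) (f17694 C) _ (by decide +kernel)

theorem f17696 : C.S (v1 C) [62, 73, 102, 110, 121] :=
  C.stMul (f27 C) (f17695 C) _ (by decide +kernel)

theorem f17697 : C.S (v1 C) [4, 40, 58, 73, 107] :=
  C.stMul (f12 C) (f17667 C) _ (by decide +kernel)

theorem f17698 : C.S (v1 C) [22, 40, 58, 73, 107] :=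
  C.stMul (f3 C) (f17697 C) _ (by decide +kernel)

theorem f17699 : C.S (v1 C) [5, 35, 57, 78, 107, 109] :=
  C.stMul (f27 C) (f17698 C) _ (by decide +kernel)

theorem f17700 : C.S (v1 C) [19, 43, 69, 72, 122] :=
  C.stMul (f3 C) (f17699 C) _ (by decide +kernel)

theorem f17701 : C.S (v1 C) [12, 28, 52, 71, 103, 109, 125] :=
  C.stMul (f27 C) (f17700 C) _ (by decide +kernel)

theorem f17702 : C.S (v1 C) [26, 40, 69, 72, 122] :=
  C.stMul (f27 C) (f17701 C) _ (by decide +kernel)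

theorem f17703 : C.S (v1 C) [69, 72, 122] :=
  C.stMul (f27 C) (f17702 C) _ (by decide +kernel)

theorem f17704 : C.S (v1 C) [23, 39, 52, 87, 93, 110, 116] :=
  C.stMul (f27 C) (f17596 C) _ (by decide +kernel)

theorem f17705 : C.S (v1 C) [15, 47, 54, 79, 92, 110] :=
  C.stMul (f27 C) (f17704 C) _ (by decide +kernel)

theorem f17706 : C.S (v1 C) [8, 47, 54, 79, 92, 110] :=
  C.stMul (f3 C) (f17705 C) _ (by decide +kernel)

theorem f17707 : C.S (v1 C) [11, 35, 52, 94, 109, 117] :=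
  C.stMul (f27 C) (f17706 C) _ (by decide +kernel)

theorem f17708 : C.S (v1 C) [8, 59, 78, 106, 109, 117] :=
  C.stMul (f27 C) (f17707 C) _ (by decide +kernel)

theorem f17709 : C.S (v1 C) [11, 60, 72, 107, 110, 117] :=
  C.stMul (f27 C) (f17708 C) _ (by decide +kernel)

theorem f17710 : C.S (v1 C) [13, 60, 72, 107, 110, 117] :=
  C.stMul (f3 C) (f17709 C) _ (by decide +kernel)

theorem f17711 : C.S (v1 C) [6, 47, 60, 72, 107, 110, 117] :=
  C.stMul (f12 C) (f17710 C) _ (by decide +kernel)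

theorem f17712 : C.S (v1 C) [10, 72, 107, 110, 117] :=
  C.stMul (f27 C) (f17711 C) _ (by decide +kernel)

theorem f17713 : C.S (v1 C) [72, 107, 110, 117] :=
  C.stMul (f3 C) (f17712 C) _ (by decide +kernel)

theorem f17714 : C.S (v1 C) [10, 35, 54, 81, 94, 118] :=
  C.stMul (f12 C) (f17687 C) _ (by decide +kernel)

theorem f17715 : C.S (v1 C) [4, 40, 64, 76, 107, 114] :=
  C.stMul (f27 C) (f17714 C) _ (by decide +kernel)

theorem f17716 : C.S (v1 C) [22, 40, 64, 76, 107, 114] :=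
  C.stMul (f3 C) (f17715 C) _ (by decide +kernel)

theorem f17717 : C.S (v1 C) [5, 35, 53, 85, 107] :=
  C.stMul (f27 C) (f17716 C) _ (by decide +kernel)

theorem f17718 : C.S (v1 C) [19, 43, 73, 100, 109, 118] :=
  C.stMul (f3 C) (f17717 C) _ (by decide +kernel)

theorem f17719 : C.S (v1 C) [12, 28, 60, 87, 106, 110, 112] :=
  C.stMul (f27 C) (f17718 C) _ (by decide +kernel)

theorem f17720 : C.S (v1 C) [26, 40, 73, 100, 109, 118] :=
  C.stMul (f27 C) (f17719 C) _ (by decide +kernel)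

theorem f17721 : C.S (v1 C) [73, 100, 109, 118] :=
  C.stMul (f27 C) (f17720 C) _ (by decide +kernel)

theorem f17722 : C.S (v1 C) [13, 35, 52, 94, 109, 117] :=
  C.stMul (f3 C) (f17707 C) _ (by decide +kernel)

theorem f17723 : C.S (v1 C) [25, 47, 65, 72, 93, 110, 117] :=
  C.stMul (f27 C) (f17722 C) _ (by decide +kernel)

theorem f17724 : C.S (v1 C) [24, 43, 50, 70, 99, 110, 111] :=
  C.stMul (f27 C) (f17723 C) _ (by decide +kernel)

theorem f17725 : C.S (v1 C) [9, 41, 76, 96, 115] :=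
  C.stMul (f27 C) (f17724 C) _ (by decide +kernel)

theorem f17726 : C.S (v1 C) [20, 41, 76, 96, 115] :=
  C.stMul (f3 C) (f17725 C) _ (by decide +kernel)

theorem f17727 : C.S (v1 C) [76, 96, 115] :=
  C.stMul (f12 C) (f17726 C) _ (by decide +kernel)

theorem f17728 : C.S (v1 C) [13, 60] :=
  C.stMul (f27 C) (f17653 C) _ (by decide +kernel)

theorem f17729 : C.S (v1 C) [11, 60] :=
  C.stMul (f3 C) (f17728 C) _ (by decide +kernel)

theorem f17730 : C.S (v1 C) [8, 47, 54, 80, 90, 116] :=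
  C.stMul (f27 C) (f17729 C) _ (by decide +kernel)

theorem f17731 : C.S (v1 C) [11, 35, 52, 73, 93, 110, 111] :=
  C.stMul (f27 C) (f17730 C) _ (by decide +kernel)

theorem f17732 : C.S (v1 C) [13, 35, 52, 73, 93, 110, 111] :=
  C.stMul (f3 C) (f17731 C) _ (by decide +kernel)

theorem f17733 : C.S (v1 C) [25, 47, 65, 105, 109, 116] :=
  C.stMul (f27 C) (f17732 C) _ (by decide +kernel)

theorem f17734 : C.S (v1 C) [24, 43, 50, 85, 92] :=
  C.stMul (f27 C) (f17733 C) _ (by decide +kernel)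

theorem f17735 : C.S (v1 C) [9, 41, 84, 100, 124] :=
  C.stMul (f27 C) (f17734 C) _ (by decide +kernel)

theorem f17736 : C.S (v1 C) [20, 41, 84, 100, 124] :=
  C.stMul (f3 C) (f17735 C) _ (by decide +kernel)

theorem f17737 : C.S (v1 C) [84, 100, 124] :=
  C.stMul (f12 C) (f17736 C) _ (by decide +kernel)

theorem f17738 : C.S (v1 C) [8, 59, 75, 102, 121] :=
  C.stMul (f27 C) (f17593 C) _ (by decide +kernel)

theorem f17739 : C.S (v1 C) [11, 60, 87, 91, 122] :=
  C.stMul (f27 C) (f17738 C) _ (by decide +kernel)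

theorem f17740 : C.S (v1 C) [13, 60, 87, 91, 122] :=
  C.stMul (f3 C) (f17739 C) _ (by decide +kernel)

theorem f17741 : C.S (v1 C) [6, 47, 60, 87, 91, 122] :=
  C.stMul (f12 C) (f17740 C) _ (by decide +kernel)

theorem f17742 : C.S (v1 C) [10, 87, 91, 122] :=
  C.stMul (f27 C) (f17741 C) _ (by decide +kernel)

theorem f17743 : C.S (v1 C) [87, 91, 122] :=
  C.stMul (f3 C) (f17742 C) _ (by decide +kernel)

theorem f17744 : C.S (v1 C) [15, 47, 54, 80, 90, 116] :=
  C.stMul (f3 C) (f17730 C) _ (by decide +kernel)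

theorem f17745 : C.S (v1 C) [17, 47, 53, 89, 95, 124] :=
  C.stMul (f12 C) (f17744 C) _ (by decide +kernel)

theorem f17746 : C.S (v1 C) [18, 34, 60, 88, 95, 109, 117] :=
  C.stMul (f27 C) (f17745 C) _ (by decide +kernel)

theorem f17747 : C.S (v1 C) [25, 34, 60, 88, 95, 109, 117] :=
  C.stMul (f3 C) (f17746 C) _ (by decide +kernel)

theorem f17748 : C.S (v1 C) [10, 88, 95, 109, 117] :=
  C.stMul (f12 C) (f17747 C) _ (by decide +kernel)

theorem f17749 : C.S (v1 C) [88, 95, 109, 117] :=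
  C.stMul (f3 C) (f17748 C) _ (by decide +kernel)

theorem f17750 : C.S (v1 C) [11, 31, 67, 70, 92, 109, 115] :=
  C.stMul (f27 C) (f17590 C) _ (by decide +kernel)

theorem f17751 : C.S (v1 C) [8, 43, 67, 77, 96, 113] :=
  C.stMul (f27 C) (f17750 C) _ (by decide +kernel)

theorem f17752 : C.S (v1 C) [15, 43, 67, 77, 96, 113] :=
  C.stMul (f3 C) (f17751 C) _ (by decide +kernel)

theorem f17753 : C.S (v1 C) [23, 43, 54, 85, 97, 124] :=
  C.stMul (f27 C) (f17752 C) _ (by decide +kernel)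

theorem f17754 : C.S (v1 C) [21, 43, 54, 85, 97, 124] :=
  C.stMul (f3 C) (f17753 C) _ (by decide +kernel)

theorem f17755 : C.S (v1 C) [9, 46, 54, 85, 97, 124] :=
  C.stMul (f12 C) (f17754 C) _ (by decide +kernel)

theorem f17756 : C.S (v1 C) [13, 30, 64, 71, 93, 110, 121] :=
  C.stMul (f27 C) (f17755 C) _ (by decide +kernel)

theorem f17757 : C.S (v1 C) [11, 30, 64, 71, 93, 110, 121] :=
  C.stMul (f3 C) (f17756 C) _ (by decide +kernel)

theorem f17758 : C.S (v1 C) [8, 44, 51, 86, 99, 124] :=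
  C.stMul (f27 C) (f17757 C) _ (by decide +kernel)

theorem f17759 : C.S (v1 C) [15, 44, 51, 86, 99, 124] :=
  C.stMul (f3 C) (f17758 C) _ (by decide +kernel)

theorem f17760 : C.S (v1 C) [23, 47, 65, 84, 100, 109, 123] :=
  C.stMul (f27 C) (f17759 C) _ (by decide +kernel)

theorem f17761 : C.S (v1 C) [21, 47, 65, 84, 100, 109, 123] :=
  C.stMul (f3 C) (f17760 C) _ (by decide +kernel)

theorem f17762 : C.S (v1 C) [6, 47, 60, 94, 109, 125] :=
  C.stMul (f27 C) (f17761 C) _ (by decide +kernel)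

theorem f17763 : C.S (v1 C) [10, 94, 109, 125] :=
  C.stMul (f27 C) (f17762 C) _ (by decide +kernel)

theorem f17764 : C.S (v1 C) [94, 109, 125] :=
  C.stMul (f3 C) (f17763 C) _ (by decide +kernel)

theorem f17765 : C.S (v1 C) [20, 32, 69, 106, 118] :=
  C.stMul (f27 C) (f17645 C) _ (by decide +kernel)

theorem f17766 : C.S (v1 C) [9, 32, 69, 106, 118] :=
  C.stMul (f3 C) (f17765 C) _ (by decide +kernel)

theorem f17767 : C.S (v1 C) [13, 40, 64, 80, 96, 121] :=
  C.stMul (f27 C) (f17766 C) _ (by decide +kernel)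

theorem f17768 : C.S (v1 C) [25, 28, 64, 80, 96, 121] :=
  C.stMul (f27 C) (f17767 C) _ (by decide +kernel)

theorem f17769 : C.S (v1 C) [24, 29, 65, 82, 98, 110, 124] :=
  C.stMul (f27 C) (f17768 C) _ (by decide +kernel)

theorem f17770 : C.S (v1 C) [7, 29, 65, 82, 98, 110, 124] :=
  C.stMul (f3 C) (f17769 C) _ (by decide +kernel)

theorem f17771 : C.S (v1 C) [11, 38, 56, 83, 95, 109, 120] :=
  C.stMul (f12 C) (f17770 C) _ (by decide +kernel)

theorem f17772 : C.S (v1 C) [8, 39, 51, 78, 125] :=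
  C.stMul (f27 C) (f17771 C) _ (by decide +kernel)

theorem f17773 : C.S (v1 C) [15, 39, 51, 78, 125] :=
  C.stMul (f3 C) (f17772 C) _ (by decide +kernel)

theorem f17774 : C.S (v1 C) [17, 28, 69, 84, 106, 121] :=
  C.stMul (f12 C) (f17773 C) _ (by decide +kernel)

theorem f17775 : C.S (v1 C) [18, 28, 56, 86, 107, 117] :=
  C.stMul (f27 C) (f17774 C) _ (by decide +kernel)

theorem f17776 : C.S (v1 C) [17, 40, 105, 116] :=
  C.stMul (f27 C) (f17775 C) _ (by decide +kernel)

theorem f17777 : C.S (v1 C) [26, 40, 105, 116] :=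
  C.stMul (f3 C) (f17776 C) _ (by decide +kernel)

theorem f17778 : C.S (v1 C) [105, 116] :=
  C.stMul (f27 C) (f17777 C) _ (by decide +kernel)

theorem f17779 : C.S (v2 C) [] :=
  C.stOne _

theorem f17780 : C.S (v2 C) [5, 33, 82, 107, 111] :=
  C.stMul (f211 C) (f243 C) _ (by decide +kernel)

theorem f17781 : C.S (v2 C) [20, 48, 51, 81, 90, 116] :=
  C.stMul (f115 C) (f101 C) _ (by decide +kernel)

theorem f17782 : C.S (v2 C) [7, 34, 64, 72, 94, 110, 113] :=
  C.stMul (f243 C) (f17781 C) _ (by decide +kernel)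

theorem f17783 : C.S (v2 C) [21, 27, 69, 87, 95, 110, 116] :=
  C.stMul (f109 C) (f243 C) _ (by decide +kernel)

theorem f17784 : C.S (v2 C) [8, 42, 53, 73, 92, 117] :=
  C.stMul (f211 C) (f17783 C) _ (by decide +kernel)

theorem f17785 : C.S (v2 C) [12, 30, 55, 77, 93, 124] :=
  C.stMul (f243 C) (f138 C) _ (by decide +kernel)

theorem f17786 : C.S (v2 C) [13, 27, 59, 85, 101, 109, 113] :=
  C.stMul (f243 C) (f115 C) _ (by decide +kernel)

theorem f17787 : C.S (v2 C) [22, 45, 58, 92, 109] :=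
  C.stMul (f243 C) (f109 C) _ (by decide +kernel)

theorem f17788 : C.S (v2 C) [14, 41, 55, 75, 91, 109] :=
  C.stMul (f211 C) (f17787 C) _ (by decide +kernel)

theorem f17789 : C.S (v2 C) [15, 46, 51, 72, 98, 110, 118] :=
  C.stMul (f211 C) (f17785 C) _ (by decide +kernel)

theorem f17790 : C.S (v2 C) [24, 37, 50, 85, 99, 110, 113] :=
  C.stMul (f243 C) (f101 C) _ (by decide +kernel)

theorem f17791 : C.S (v2 C) [16, 36, 63, 73, 99, 123] :=
  C.stMul (f211 C) (f17790 C) _ (by decide +kernel)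

theorem f17792 : C.S (v2 C) [17, 45, 69, 82, 107, 110, 117] :=
  C.stMul (f149 C) (f17780 C) _ (by decide +kernel)

theorem f17793 : C.S (v2 C) [18, 29, 62, 80, 99, 125] :=
  C.stMul (f115 C) (f109 C) _ (by decide +kernel)

theorem f17794 : C.S (v2 C) [19, 34, 56, 74, 107, 109, 120] :=
  C.stMul (f211 C) (f17786 C) _ (by decide +kernel)

theorem f17795 : C.S (v2 C) [23, 47, 60, 84, 98, 111] :=
  C.stMul (f109 C) (f101 C) _ (by decide +kernel)

theorem f17796 : C.S (v2 C) [25, 37, 55, 78, 104, 116] :=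
  C.stMul (f243 C) (f17793 C) _ (by decide +kernel)

theorem f17797 : C.S (v2 C) [26, 44, 51, 76, 108, 121] :=
  C.stMul (f101 C) (f17791 C) _ (by decide +kernel)

theorem f17798 : C.S (v2 C) [28, 53, 81, 103, 109, 117] :=
  C.stMul (f138 C) (f109 C) _ (by decide +kernel)

theorem f17799 : C.S (v2 C) [23, 47, 56, 71, 104, 109, 114] :=
  C.stMul (f211 C) (f138 C) _ (by decide +kernel)

theorem f17800 : C.S (v2 C) [20, 89, 105, 110, 115] :=
  C.stMul (f211 C) (f17799 C) _ (by decide +kernel)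

theorem f17801 : C.S (v2 C) [10, 47, 66, 85, 103, 109, 116] :=
  C.stMul (f211 C) (f17800 C) _ (by decide +kernel)

theorem f17802 : C.S (v2 C) [50, 80, 100, 110, 121] :=
  C.stMul (f149 C) (f17801 C) _ (by decide +kernel)

theorem f17803 : C.S (v2 C) [13, 42, 49, 76, 107, 110, 123] :=
  C.stMul (f149 C) (f17787 C) _ (by decide +kernel)

theorem f17804 : C.S (v2 C) [51, 89, 93, 110, 125] :=
  C.stMul (f243 C) (f17803 C) _ (by decide +kernel)

theorem f17805 : C.S (v2 C) [28, 51, 80, 104, 110, 117] :=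
  C.stMul (f101 C) (f211 C) _ (by decide +kernel)

theorem f17806 : C.S (v2 C) [9, 29, 56, 72, 95, 110, 115] :=
  C.stMul (f211 C) (f17805 C) _ (by decide +kernel)

theorem f17807 : C.S (v2 C) [4, 46, 56, 88, 99, 110, 118] :=
  C.stMul (f211 C) (f17806 C) _ (by decide +kernel)

theorem f17808 : C.S (v2 C) [54, 85, 120] :=
  C.stMul (f138 C) (f17807 C) _ (by decide +kernel)

theorem f17809 : C.S (v2 C) [4, 48, 54, 83, 104, 115] :=
  C.stMul (f101 C) (f17799 C) _ (by decide +kernel)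

theorem f17810 : C.S (v2 C) [18, 44, 52, 77, 106, 110, 114] :=
  C.stMul (f211 C) (f17809 C) _ (by decide +kernel)

theorem f17811 : C.S (v2 C) [55, 80, 100, 110, 116] :=
  C.stMul (f211 C) (f17810 C) _ (by decide +kernel)

theorem f17812 : C.S (v2 C) [18, 44, 59, 82, 92, 122] :=
  C.stMul (f149 C) (f138 C) _ (by decide +kernel)

theorem f17813 : C.S (v2 C) [56, 99] :=
  C.stMul (f211 C) (f17812 C) _ (by decide +kernel)

theorem f17814 : C.S (v2 C) [57, 81, 107, 110, 123] :=
  C.stMul (f149 C) (f115 C) _ (by decide +kernel)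

theorem f17815 : C.S (v2 C) [58, 74, 103, 109, 116] :=
  C.stMul (f149 C) (f125 C) _ (by decide +kernel)

theorem f17816 : C.S (v2 C) [4, 48, 69, 79, 94, 109, 124] :=
  C.stMul (f211 C) (f211 C) _ (by decide +kernel)

theorem f17817 : C.S (v2 C) [59, 87, 103, 111] :=
  C.stMul (f109 C) (f17816 C) _ (by decide +kernel)

theorem f17818 : C.S (v2 C) [60, 81, 97, 110, 112] :=
  C.stMul (f125 C) (f115 C) _ (by decide +kernel)

theorem f17819 : C.S (v2 C) [18, 44, 61, 70, 105, 112] :=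
  C.stMul (f211 C) (f109 C) _ (by decide +kernel)

theorem f17820 : C.S (v2 C) [62, 79, 107, 109, 125] :=
  C.stMul (f211 C) (f17819 C) _ (by decide +kernel)

theorem f17821 : C.S (v2 C) [18, 44, 68, 81, 106, 109, 118] :=
  C.stMul (f138 C) (f115 C) _ (by decide +kernel)

theorem f17822 : C.S (v2 C) [64, 74, 94, 114] :=
  C.stMul (f211 C) (f17821 C) _ (by decide +kernel)

theorem f17823 : C.S (v2 C) [65, 87, 105, 109, 119] :=
  C.stMul (f115 C) (f17801 C) _ (by decide +kernel)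

theorem f17824 : C.S (v2 C) [4, 46, 89, 107, 116] :=
  C.stMul (f211 C) (f101 C) _ (by decide +kernel)

theorem f17825 : C.S (v2 C) [67, 83, 94, 110, 124] :=
  C.stMul (f138 C) (f17824 C) _ (by decide +kernel)

theorem f17826 : C.S (v2 C) [18, 44, 60, 72, 100, 117] :=
  C.stMul (f138 C) (f125 C) _ (by decide +kernel)

theorem f17827 : C.S (v2 C) [68, 75, 94, 109, 121] :=
  C.stMul (f211 C) (f17826 C) _ (by decide +kernel)

theorem f17828 : C.S (v2 C) [6, 46, 61, 80, 99, 109, 116] :=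
  C.stMul (f211 C) (f125 C) _ (by decide +kernel)

theorem f17829 : C.S (v2 C) [18, 44, 65, 85, 94, 109, 121] :=
  C.stMul (f149 C) (f17828 C) _ (by decide +kernel)

theorem f17830 : C.S (v2 C) [69, 77, 97, 114] :=
  C.stMul (f211 C) (f17829 C) _ (by decide +kernel)

theorem f17831 : C.S (v3 C) [] :=
  C.stOne _

theorem f17832 : C.S (v3 C) [4, 35, 66, 84, 105, 109, 115] :=
  C.stMul (f335 C) (f331 C) _ (by decide +kernel)

theorem f17833 : C.S (v3 C) [10, 28, 62, 78, 98, 110, 120] :=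
  C.stMul (f328 C) (f335 C) _ (by decide +kernel)

theorem f17834 : C.S (v3 C) [5, 30, 57, 77, 122] :=
  C.stMul (f331 C) (f17833 C) _ (by decide +kernel)

theorem f17835 : C.S (v3 C) [6, 43, 52, 78, 106, 118] :=
  C.stMul (f328 C) (f17832 C) _ (by decide +kernel)

theorem f17836 : C.S (v3 C) [7, 29, 51, 83, 103, 109, 117] :=
  C.stMul (f335 C) (f335 C) _ (by decide +kernel)

theorem f17837 : C.S (v3 C) [13, 29, 60, 92, 109, 121] :=
  C.stMul (f353 C) (f328 C) _ (by decide +kernel)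

theorem f17838 : C.S (v3 C) [8, 48, 63, 86, 90, 110, 123] :=
  C.stMul (f331 C) (f17837 C) _ (by decide +kernel)

theorem f17839 : C.S (v3 C) [23, 29, 57, 87, 91, 110, 120] :=
  C.stMul (f331 C) (f328 C) _ (by decide +kernel)

theorem f17840 : C.S (v3 C) [12, 29, 49, 79, 92, 110, 117] :=
  C.stMul (f353 C) (f17839 C) _ (by decide +kernel)

theorem f17841 : C.S (v3 C) [21, 45, 66, 81, 102, 110] :=
  C.stMul (f335 C) (f17839 C) _ (by decide +kernel)

theorem f17842 : C.S (v3 C) [14, 48, 51, 82, 94, 110, 111] :=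
  C.stMul (f331 C) (f17841 C) _ (by decide +kernel)

theorem f17843 : C.S (v3 C) [15, 34, 56, 71, 106, 109, 117] :=
  C.stMul (f331 C) (f353 C) _ (by decide +kernel)

theorem f17844 : C.S (v3 C) [16, 36, 62, 79, 96, 109, 125] :=
  C.stMul (f353 C) (f17832 C) _ (by decide +kernel)

theorem f17845 : C.S (v3 C) [17, 52, 88, 94, 110, 125] :=
  C.stMul (f331 C) (f17832 C) _ (by decide +kernel)

theorem f17846 : C.S (v3 C) [18, 35, 57, 82, 93, 110, 115] :=
  C.stMul (f353 C) (f331 C) _ (by decide +kernel)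

theorem f17847 : C.S (v3 C) [19, 30, 60, 72, 107, 110, 116] :=
  C.stMul (f331 C) (f335 C) _ (by decide +kernel)

theorem f17848 : C.S (v3 C) [20, 56, 88, 105, 110, 120] :=
  C.stMul (f331 C) (f331 C) _ (by decide +kernel)

theorem f17849 : C.S (v3 C) [25, 30, 54, 78, 106, 110, 122] :=
  C.stMul (f328 C) (f17841 C) _ (by decide +kernel)

theorem f17850 : C.S (v3 C) [26, 29, 49, 97, 123] :=
  C.stMul (f335 C) (f17847 C) _ (by decide +kernel)

theorem f17851 : C.S (v3 C) [30, 69, 79, 91] :=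
  C.stMul (f335 C) (f17837 C) _ (by decide +kernel)

theorem f17852 : C.S (v3 C) [9, 29, 68, 75, 108, 110, 124] :=
  C.stMul (f335 C) (f328 C) _ (by decide +kernel)

theorem f17853 : C.S (v3 C) [13, 45, 62, 78, 97, 110, 120] :=
  C.stMul (f328 C) (f17852 C) _ (by decide +kernel)

theorem f17854 : C.S (v3 C) [34, 56, 82, 103, 109, 119] :=
  C.stMul (f353 C) (f17853 C) _ (by decide +kernel)

theorem f17855 : C.S (v3 C) [36, 68, 80, 97, 109, 111] :=
  C.stMul (f331 C) (f17846 C) _ (by decide +kernel)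

theorem f17856 : C.S (v3 C) [11, 40, 64, 79, 95, 109, 116] :=
  C.stMul (f335 C) (f17833 C) _ (by decide +kernel)

theorem f17857 : C.S (v3 C) [13, 43, 69, 71, 110, 123] :=
  C.stMul (f353 C) (f17856 C) _ (by decide +kernel)

theorem f17858 : C.S (v3 C) [37, 60, 81, 96, 112] :=
  C.stMul (f335 C) (f17857 C) _ (by decide +kernel)

theorem f17859 : C.S (v3 C) [22, 29, 89, 96, 109, 125] :=
  C.stMul (f328 C) (f331 C) _ (by decide +kernel)

theorem f17860 : C.S (v3 C) [18, 43, 59, 78, 90, 110, 111] :=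
  C.stMul (f353 C) (f17859 C) _ (by decide +kernel)

theorem f17861 : C.S (v3 C) [38, 66, 70, 98, 110, 116] :=
  C.stMul (f331 C) (f17860 C) _ (by decide +kernel)

theorem f17862 : C.S (v3 C) [13, 44, 69, 73, 100, 119] :=
  C.stMul (f335 C) (f17836 C) _ (by decide +kernel)

theorem f17863 : C.S (v3 C) [40, 53, 76, 108, 110, 116] :=
  C.stMul (f353 C) (f17862 C) _ (by decide +kernel)

theorem f17864 : C.S (v3 C) [43, 67, 71, 98, 119] :=
  C.stMul (f335 C) (f17853 C) _ (by decide +kernel)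

theorem f17865 : C.S (v4 C) [] :=
  C.stOne _

theorem f17866 : C.S (v4 C) [10, 27, 56, 84, 93, 109, 113] :=
  C.stMul (f407 C) (f421 C) _ (by decide +kernel)

theorem f17867 : C.S (v4 C) [13, 28, 60, 83, 108, 110, 119] :=
  C.stMul (f421 C) (f693 C) _ (by decide +kernel)

theorem f17868 : C.S (v4 C) [18, 46, 49, 75, 97, 110, 118] :=
  C.stMul (f407 C) (f407 C) _ (by decide +kernel)

theorem f17869 : C.S (v4 C) [16, 43, 64, 82, 90, 110, 123] :=
  C.stMul (f421 C) (f17868 C) _ (by decide +kernel)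

theorem f17870 : C.S (v4 C) [17, 35, 66, 70, 95] :=
  C.stMul (f421 C) (f407 C) _ (by decide +kernel)

theorem f17871 : C.S (v4 C) [23, 41, 49, 78, 91, 109] :=
  C.stMul (f693 C) (f421 C) _ (by decide +kernel)

theorem f17872 : C.S (v4 C) [25, 47, 59, 76, 103, 109, 113] :=
  C.stMul (f421 C) (f17866 C) _ (by decide +kernel)

theorem f17873 : C.S (v4 C) [26, 44, 64, 94, 121] :=
  C.stMul (f693 C) (f17870 C) _ (by decide +kernel)

theorem f17874 : C.S (v4 C) [21, 60, 87, 91, 109, 120] :=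
  C.stMul (f407 C) (f17869 C) _ (by decide +kernel)

theorem f17875 : C.S (v4 C) [8, 48, 61, 83, 103, 117] :=
  C.stMul (f407 C) (f17874 C) _ (by decide +kernel)

theorem f17876 : C.S (v4 C) [31, 58, 82, 95, 109, 115] :=
  C.stMul (f421 C) (f17875 C) _ (by decide +kernel)

theorem f17877 : C.S (v4 C) [23, 27, 56, 70, 98, 125] :=
  C.stMul (f421 C) (f17873 C) _ (by decide +kernel)

theorem f17878 : C.S (v4 C) [33, 61, 77, 108, 110, 112] :=
  C.stMul (f407 C) (f17877 C) _ (by decide +kernel)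

theorem f17879 : C.S (v4 C) [8, 31, 60, 85, 98, 110, 125] :=
  C.stMul (f693 C) (f407 C) _ (by decide +kernel)

theorem f17880 : C.S (v4 C) [42, 63, 82, 91, 110, 125] :=
  C.stMul (f421 C) (f17879 C) _ (by decide +kernel)

theorem f17881 : C.S (v5 C) [] :=
  C.stOne _

theorem f17882 : C.S (v5 C) [7, 29, 66, 74, 106, 124] :=
  C.stMul (f1141 C) (f986 C) _ (by decide +kernel)

theorem f17883 : C.S (v5 C) [10, 27, 54, 88, 92, 110, 113] :=
  C.stMul (f1023 C) (f1023 C) _ (by decide +kernel)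

theorem f17884 : C.S (v5 C) [11, 37, 62, 72, 90, 110, 124] :=
  C.stMul (f1023 C) (f17883 C) _ (by decide +kernel)

theorem f17885 : C.S (v5 C) [13, 35, 69, 89, 94, 109, 112] :=
  C.stMul (f1023 C) (f986 C) _ (by decide +kernel)

theorem f17886 : C.S (v5 C) [24, 42, 52, 76, 99, 109, 120] :=
  C.stMul (f1141 C) (f17885 C) _ (by decide +kernel)

theorem f17887 : C.S (v5 C) [43, 67, 71, 98, 119] :=
  C.stMul (f986 C) (f986 C) _ (by decide +kernel)

theorem f17888 : C.S (v5 C) [27, 69, 74, 102, 110, 111] :=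
  C.stMul (f1008 C) (f17887 C) _ (by decide +kernel)

theorem f17889 : C.S (v5 C) [34, 55, 72, 90, 109, 125] :=
  C.stMul (f1141 C) (f17888 C) _ (by decide +kernel)

theorem f17890 : C.S (v5 C) [9, 33, 66, 75, 101, 109, 123] :=
  C.stMul (f986 C) (f1141 C) _ (by decide +kernel)

theorem f17891 : C.S (v5 C) [36, 66, 72, 105, 113] :=
  C.stMul (f986 C) (f17890 C) _ (by decide +kernel)

theorem f17892 : C.S (v5 C) [40, 65, 79, 103, 110, 124] :=
  C.stMul (f1008 C) (f1141 C) _ (by decide +kernel)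

theorem f17893 : C.S (v5 C) [41, 51, 86, 105, 123] :=
  C.stMul (f1141 C) (f1008 C) _ (by decide +kernel)

theorem f17894 : C.S (v5 C) [85, 93, 110, 124] :=
  C.stMul (f1008 C) (f17893 C) _ (by decide +kernel)

theorem f17895 : C.S (v6 C) [] :=
  C.stOne _

theorem f17896 : C.S (v6 C) [6, 48, 74, 102, 123] :=
  C.stMul (f1266 C) (f1358 C) _ (by decide +kernel)

theorem f17897 : C.S (v6 C) [7, 41, 67, 76, 108, 117] :=
  C.stMul (f1307 C) (f1270 C) _ (by decide +kernel)

theorem f17898 : C.S (v6 C) [12, 43, 52, 87, 108, 110, 119] :=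
  C.stMul (f1266 C) (f1270 C) _ (by decide +kernel)

theorem f17899 : C.S (v6 C) [15, 67, 76, 100, 118] :=
  C.stMul (f1291 C) (f1266 C) _ (by decide +kernel)

theorem f17900 : C.S (v6 C) [17, 43, 59, 82, 121] :=
  C.stMul (f1353 C) (f1270 C) _ (by decide +kernel)

theorem f17901 : C.S (v6 C) [18, 45, 63, 87, 90, 110, 113] :=
  C.stMul (f1270 C) (f1266 C) _ (by decide +kernel)

theorem f17902 : C.S (v6 C) [19, 43, 50, 81, 107, 115] :=
  C.stMul (f1358 C) (f1270 C) _ (by decide +kernel)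

theorem f17903 : C.S (v6 C) [24, 35, 72, 96, 109, 113] :=
  C.stMul (f1270 C) (f1291 C) _ (by decide +kernel)

theorem f17904 : C.S (v6 C) [25, 30, 50, 77, 107, 109, 112] :=
  C.stMul (f1291 C) (f1270 C) _ (by decide +kernel)

theorem f17905 : C.S (v6 C) [14, 41, 67, 84, 93, 110, 111] :=
  C.stMul (f1270 C) (f1358 C) _ (by decide +kernel)

theorem f17906 : C.S (v6 C) [27, 69, 80, 96, 109, 115] :=
  C.stMul (f1291 C) (f17905 C) _ (by decide +kernel)

theorem f17907 : C.S (v6 C) [12, 29, 59, 86, 102, 109] :=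
  C.stMul (f1270 C) (f1307 C) _ (by decide +kernel)

theorem f17908 : C.S (v6 C) [30, 68, 78, 95, 109, 113] :=
  C.stMul (f1270 C) (f17907 C) _ (by decide +kernel)

theorem f17909 : C.S (v6 C) [23, 29, 69, 82, 102, 110, 113] :=
  C.stMul (f1266 C) (f1307 C) _ (by decide +kernel)

theorem f17910 : C.S (v6 C) [32, 64, 83, 95, 116] :=
  C.stMul (f1353 C) (f17909 C) _ (by decide +kernel)

theorem f17911 : C.S (v6 C) [14, 30, 56, 81, 104, 109, 123] :=
  C.stMul (f1353 C) (f17901 C) _ (by decide +kernel)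

theorem f17912 : C.S (v6 C) [35, 67, 74, 105, 113] :=
  C.stMul (f1291 C) (f17911 C) _ (by decide +kernel)

theorem f17913 : C.S (v6 C) [23, 30, 68, 70, 100, 109, 111] :=
  C.stMul (f1307 C) (f1307 C) _ (by decide +kernel)

theorem f17914 : C.S (v6 C) [38, 64, 77, 91, 115] :=
  C.stMul (f1353 C) (f17913 C) _ (by decide +kernel)

theorem f17915 : C.S (v6 C) [43, 66, 81, 98, 110, 116] :=
  C.stMul (f1270 C) (f17898 C) _ (by decide +kernel)

theorem f17916 : C.S (v6 C) [48, 68, 83, 93, 121] :=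
  C.stMul (f1307 C) (f1266 C) _ (by decide +kernel)

theorem f17917 : C.S (v6 C) [11, 37, 81, 110, 123] :=
  C.stMul (f1358 C) (f17913 C) _ (by decide +kernel)

theorem f17918 : C.S (v6 C) [86, 90, 109, 112] :=
  C.stMul (f1307 C) (f17917 C) _ (by decide +kernel)

theorem f17919 : C.S (v6 C) [24, 27, 64, 104, 118] :=
  C.stMul (f1358 C) (f1307 C) _ (by decide +kernel)

theorem f17920 : C.S (v6 C) [9, 36, 53, 71, 100, 118] :=
  C.stMul (f1307 C) (f17919 C) _ (by decide +kernel)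

theorem f17921 : C.S (v6 C) [102, 110, 120] :=
  C.stMul (f1358 C) (f17920 C) _ (by decide +kernel)

theorem f17922 : C.S (v7 C) [] :=
  C.stOne _

theorem f17923 : C.S (v7 C) [8, 34, 84, 97, 110, 120] :=
  C.stMul (f1484 C) (f1464 C) _ (by decide +kernel)

theorem f17924 : C.S (v7 C) [10, 28, 58, 124] :=
  C.stMul (f1472 C) (f1459 C) _ (by decide +kernel)

theorem f17925 : C.S (v7 C) [11, 40, 59, 82, 99, 110, 111] :=
  C.stMul (f1464 C) (f1459 C) _ (by decide +kernel)

theorem f17926 : C.S (v7 C) [14, 39, 58, 78, 93, 124] :=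
  C.stMul (f1497 C) (f1484 C) _ (by decide +kernel)

theorem f17927 : C.S (v7 C) [15, 37, 56, 74, 104, 113] :=
  C.stMul (f1484 C) (f1459 C) _ (by decide +kernel)

theorem f17928 : C.S (v7 C) [16, 47, 66, 88, 104, 110, 117] :=
  C.stMul (f1476 C) (f17927 C) _ (by decide +kernel)

theorem f17929 : C.S (v7 C) [17, 48, 62, 71, 102, 122] :=
  C.stMul (f1476 C) (f1484 C) _ (by decide +kernel)

theorem f17930 : C.S (v7 C) [19, 36, 55, 80, 104, 110, 114] :=
  C.stMul (f1484 C) (f17925 C) _ (by decide +kernel)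

theorem f17931 : C.S (v7 C) [24, 39, 65, 89, 101, 109, 118] :=
  C.stMul (f1476 C) (f1464 C) _ (by decide +kernel)

theorem f17932 : C.S (v7 C) [26, 28, 64, 84, 100, 109, 121] :=
  C.stMul (f1459 C) (f17926 C) _ (by decide +kernel)

theorem f17933 : C.S (v7 C) [28, 52, 73, 91, 110, 119] :=
  C.stMul (f1468 C) (f1460 C) _ (by decide +kernel)

theorem f17934 : C.S (v7 C) [10, 44, 52, 88, 90, 116] :=
  C.stMul (f1497 C) (f1460 C) _ (by decide +kernel)

theorem f17935 : C.S (v7 C) [34, 63, 71, 91, 109] :=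
  C.stMul (f1484 C) (f17934 C) _ (by decide +kernel)

theorem f17936 : C.S (v7 C) [9, 29, 57, 81, 107, 109, 111] :=
  C.stMul (f1476 C) (f1468 C) _ (by decide +kernel)

theorem f17937 : C.S (v7 C) [40, 67, 79, 109, 121] :=
  C.stMul (f1497 C) (f17936 C) _ (by decide +kernel)

theorem f17938 : C.S (v7 C) [43, 67, 71, 98, 119] :=
  C.stMul (f1468 C) (f1459 C) _ (by decide +kernel)

theorem f17939 : C.S (v7 C) [10, 40, 61, 70, 91, 121] :=
  C.stMul (f1459 C) (f1497 C) _ (by decide +kernel)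

theorem f17940 : C.S (v7 C) [44, 69, 76, 92, 119] :=
  C.stMul (f1484 C) (f17939 C) _ (by decide +kernel)

theorem f17941 : C.S (v7 C) [45, 67, 80, 95, 112] :=
  C.stMul (f1497 C) (f1472 C) _ (by decide +kernel)

theorem f17942 : C.S (v7 C) [47, 62, 87, 90, 110, 118] :=
  C.stMul (f1460 C) (f1459 C) _ (by decide +kernel)

theorem f17943 : C.S (v7 C) [7, 41, 55, 80, 93, 109, 121] :=
  C.stMul (f1484 C) (f17931 C) _ (by decide +kernel)

theorem f17944 : C.S (v7 C) [7, 39, 53, 85, 92, 110, 125] :=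
  C.stMul (f1497 C) (f17943 C) _ (by decide +kernel)

theorem f17945 : C.S (v7 C) [50, 82, 100, 112] :=
  C.stMul (f1464 C) (f17944 C) _ (by decide +kernel)

theorem f17946 : C.S (v7 C) [9, 64, 78, 92, 116] :=
  C.stMul (f1476 C) (f1459 C) _ (by decide +kernel)

theorem f17947 : C.S (v7 C) [20, 44, 62, 71, 99, 109, 122] :=
  C.stMul (f1484 C) (f17946 C) _ (by decide +kernel)

theorem f17948 : C.S (v7 C) [9, 44, 62, 71, 98, 120] :=
  C.stMul (f1476 C) (f17947 C) _ (by decide +kernel)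

theorem f17949 : C.S (v7 C) [53, 84, 94, 109, 118] :=
  C.stMul (f1472 C) (f17948 C) _ (by decide +kernel)

theorem f17950 : C.S (v7 C) [9, 48, 60, 83, 94, 110, 112] :=
  C.stMul (f1476 C) (f1460 C) _ (by decide +kernel)

theorem f17951 : C.S (v7 C) [10, 28, 53, 80, 101, 110, 112] :=
  C.stMul (f1468 C) (f17950 C) _ (by decide +kernel)

theorem f17952 : C.S (v7 C) [56, 71, 90, 110, 122] :=
  C.stMul (f1484 C) (f17951 C) _ (by decide +kernel)

theorem f17953 : C.S (v7 C) [13, 45, 63, 86, 105, 112] :=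
  C.stMul (f1472 C) (f1464 C) _ (by decide +kernel)

theorem f17954 : C.S (v7 C) [57, 75, 106, 109, 118] :=
  C.stMul (f1476 C) (f17953 C) _ (by decide +kernel)

theorem f17955 : C.S (v7 C) [59, 88, 105, 110, 123] :=
  C.stMul (f1484 C) (f17924 C) _ (by decide +kernel)

theorem f17956 : C.S (v7 C) [13, 40, 56, 79, 103, 109, 114] :=
  C.stMul (f1476 C) (f17942 C) _ (by decide +kernel)

theorem f17957 : C.S (v7 C) [13, 45, 54, 85, 90, 112] :=
  C.stMul (f1497 C) (f17956 C) _ (by decide +kernel)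

theorem f17958 : C.S (v7 C) [62, 89, 104, 119] :=
  C.stMul (f1476 C) (f17957 C) _ (by decide +kernel)

theorem f17959 : C.S (v7 C) [13, 40, 67, 73, 108, 117] :=
  C.stMul (f1472 C) (f17943 C) _ (by decide +kernel)

theorem f17960 : C.S (v7 C) [13, 45, 57, 76, 101, 123] :=
  C.stMul (f1497 C) (f17959 C) _ (by decide +kernel)

theorem f17961 : C.S (v7 C) [63, 87, 102, 109, 118] :=
  C.stMul (f1476 C) (f17960 C) _ (by decide +kernel)

theorem f17962 : C.S (v7 C) [10, 28, 57, 84, 94, 119] :=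
  C.stMul (f1497 C) (f17947 C) _ (by decide +kernel)

theorem f17963 : C.S (v7 C) [75, 96, 123] :=
  C.stMul (f1484 C) (f17962 C) _ (by decide +kernel)

theorem f17964 : C.S (v7 C) [24, 40, 67, 74, 105, 125] :=
  C.stMul (f1468 C) (f1476 C) _ (by decide +kernel)

theorem f17965 : C.S (v7 C) [24, 29, 58, 88, 103, 109, 114] :=
  C.stMul (f1497 C) (f17964 C) _ (by decide +kernel)

theorem f17966 : C.S (v7 C) [7, 39, 55, 74, 106, 109, 117] :=
  C.stMul (f1484 C) (f17965 C) _ (by decide +kernel)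

theorem f17967 : C.S (v7 C) [13, 45, 66, 82, 93, 109, 111] :=
  C.stMul (f1472 C) (f17966 C) _ (by decide +kernel)

theorem f17968 : C.S (v7 C) [81, 95, 116] :=
  C.stMul (f1476 C) (f17967 C) _ (by decide +kernel)

theorem f17969 : C.S (v7 C) [24, 36, 62, 82, 108, 109, 117] :=
  C.stMul (f1497 C) (f17931 C) _ (by decide +kernel)

theorem f17970 : C.S (v7 C) [10, 45, 62, 88, 106, 112] :=
  C.stMul (f1460 C) (f17969 C) _ (by decide +kernel)

theorem f17971 : C.S (v7 C) [45, 67, 70, 93, 110, 116] :=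
  C.stMul (f1484 C) (f17970 C) _ (by decide +kernel)

theorem f17972 : C.S (v7 C) [9, 39, 68, 81, 102, 109, 124] :=
  C.stMul (f1472 C) (f17971 C) _ (by decide +kernel)

theorem f17973 : C.S (v7 C) [84, 109, 125] :=
  C.stMul (f1497 C) (f17972 C) _ (by decide +kernel)

theorem f17974 : C.S (v7 C) [9, 64, 71, 105, 110, 120] :=
  C.stMul (f1484 C) (f17926 C) _ (by decide +kernel)

theorem f17975 : C.S (v7 C) [20, 29, 51, 82, 94, 121] :=
  C.stMul (f1476 C) (f17974 C) _ (by decide +kernel)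

theorem f17976 : C.S (v7 C) [10, 58, 76, 90, 110] :=
  C.stMul (f1497 C) (f17975 C) _ (by decide +kernel)

theorem f17977 : C.S (v7 C) [9, 44, 78, 103, 110, 112] :=
  C.stMul (f1464 C) (f17976 C) _ (by decide +kernel)

theorem f17978 : C.S (v7 C) [85, 92, 110, 116] :=
  C.stMul (f1472 C) (f17977 C) _ (by decide +kernel)

theorem f17979 : C.S (v7 C) [26, 30, 89, 108, 110, 122] :=
  C.stMul (f1460 C) (f17926 C) _ (by decide +kernel)

theorem f17980 : C.S (v7 C) [13, 45, 66, 70, 104, 120] :=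
  C.stMul (f1484 C) (f17979 C) _ (by decide +kernel)

theorem f17981 : C.S (v7 C) [86, 93, 118] :=
  C.stMul (f1476 C) (f17980 C) _ (by decide +kernel)

theorem f17982 : C.S (v7 C) [10, 58, 74, 96, 110] :=
  C.stMul (f1497 C) (f1459 C) _ (by decide +kernel)

theorem f17983 : C.S (v7 C) [47, 68, 93, 109, 114] :=
  C.stMul (f1484 C) (f17982 C) _ (by decide +kernel)

theorem f17984 : C.S (v7 C) [13, 40, 66, 78, 101, 115] :=
  C.stMul (f1476 C) (f17983 C) _ (by decide +kernel)

theorem f17985 : C.S (v7 C) [13, 45, 66, 78, 91, 111] :=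
  C.stMul (f1497 C) (f17984 C) _ (by decide +kernel)

theorem f17986 : C.S (v7 C) [88, 105, 120] :=
  C.stMul (f1476 C) (f17985 C) _ (by decide +kernel)

theorem f17987 : C.S (v7 C) [9, 44, 70, 97, 112] :=
  C.stMul (f1464 C) (f17982 C) _ (by decide +kernel)

theorem f17988 : C.S (v7 C) [92, 119] :=
  C.stMul (f1472 C) (f17987 C) _ (by decide +kernel)

theorem f17989 : C.S (v7 C) [10, 58, 74, 107, 110, 122] :=
  C.stMul (f1464 C) (f1472 C) _ (by decide +kernel)

theorem f17990 : C.S (v7 C) [20, 29, 51, 76, 91] :=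
  C.stMul (f1497 C) (f17989 C) _ (by decide +kernel)

theorem f17991 : C.S (v7 C) [95, 125] :=
  C.stMul (f1459 C) (f17990 C) _ (by decide +kernel)

theorem f17992 : C.S (v8 C) [] :=
  C.stOne _

theorem f17993 : C.S (v8 C) [7, 32, 63, 89, 107, 116] :=
  C.stMul (f1541 C) (f1532 C) _ (by decide +kernel)

theorem f17994 : C.S (v8 C) [8, 39, 63, 72, 96, 110, 118] :=
  C.stMul (f1568 C) (f17993 C) _ (by decide +kernel)

theorem f17995 : C.S (v8 C) [13, 35, 60, 78, 91, 121] :=
  C.stMul (f1579 C) (f1537 C) _ (by decide +kernel)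

theorem f17996 : C.S (v8 C) [14, 48, 57, 71, 105, 109, 112] :=
  C.stMul (f1568 C) (f1537 C) _ (by decide +kernel)

theorem f17997 : C.S (v8 C) [15, 28, 66, 75, 99, 110, 115] :=
  C.stMul (f1568 C) (f1532 C) _ (by decide +kernel)

theorem f17998 : C.S (v8 C) [18, 34, 69, 89, 107, 116] :=
  C.stMul (f1552 C) (f1526 C) _ (by decide +kernel)

theorem f17999 : C.S (v8 C) [21, 40, 62, 80, 104, 110, 123] :=
  C.stMul (f1579 C) (f1532 C) _ (by decide +kernel)

theorem f18000 : C.S (v8 C) [22, 34, 56, 72, 106, 110, 125] :=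
  C.stMul (f1541 C) (f1537 C) _ (by decide +kernel)

theorem f18001 : C.S (v8 C) [23, 47, 59, 85, 108, 109, 124] :=
  C.stMul (f1537 C) (f1532 C) _ (by decide +kernel)

theorem f18002 : C.S (v8 C) [25, 28, 57, 76, 102, 124] :=
  C.stMul (f1568 C) (f1526 C) _ (by decide +kernel)

theorem f18003 : C.S (v8 C) [26, 29, 52, 86, 93, 109, 114] :=
  C.stMul (f1541 C) (f17997 C) _ (by decide +kernel)

theorem f18004 : C.S (v8 C) [27, 69, 82, 90, 120] :=
  C.stMul (f1546 C) (f1526 C) _ (by decide +kernel)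

theorem f18005 : C.S (v8 C) [32, 58, 100, 110, 123] :=
  C.stMul (f1541 C) (f1529 C) _ (by decide +kernel)

theorem f18006 : C.S (v8 C) [38, 60, 71] :=
  C.stMul (f1541 C) (f18004 C) _ (by decide +kernel)

theorem f18007 : C.S (v8 C) [39, 69, 87, 106, 110, 122] :=
  C.stMul (f1564 C) (f1532 C) _ (by decide +kernel)

theorem f18008 : C.S (v8 C) [20, 48, 69, 105, 110, 115] :=
  C.stMul (f1541 C) (f1526 C) _ (by decide +kernel)

theorem f18009 : C.S (v8 C) [41, 77, 96, 109, 117] :=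
  C.stMul (f1546 C) (f18008 C) _ (by decide +kernel)

theorem f18010 : C.S (v8 C) [32, 57, 85, 101, 120] :=
  C.stMul (f1579 C) (f1529 C) _ (by decide +kernel)

theorem f18011 : C.S (v8 C) [59, 81, 101, 109, 120] :=
  C.stMul (f1552 C) (f18010 C) _ (by decide +kernel)

theorem f18012 : C.S (v8 C) [28, 55, 71, 96, 114] :=
  C.stMul (f1579 C) (f1541 C) _ (by decide +kernel)

theorem f18013 : C.S (v8 C) [60, 81, 103, 109, 122] :=
  C.stMul (f1541 C) (f18012 C) _ (by decide +kernel)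

theorem f18014 : C.S (v8 C) [62, 79, 105, 110, 113] :=
  C.stMul (f1532 C) (f1537 C) _ (by decide +kernel)

theorem f18015 : C.S (v8 C) [20, 47, 84, 98, 111] :=
  C.stMul (f1546 C) (f1529 C) _ (by decide +kernel)

theorem f18016 : C.S (v8 C) [12, 27, 69, 70, 104, 109, 125] :=
  C.stMul (f1564 C) (f18015 C) _ (by decide +kernel)

theorem f18017 : C.S (v8 C) [72, 95, 110, 119] :=
  C.stMul (f1532 C) (f18016 C) _ (by decide +kernel)

theorem f18018 : C.S (v8 C) [20, 42, 57, 77, 101, 109, 114] :=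
  C.stMul (f1579 C) (f1546 C) _ (by decide +kernel)

theorem f18019 : C.S (v8 C) [73, 98, 114] :=
  C.stMul (f1546 C) (f18018 C) _ (by decide +kernel)

theorem f18020 : C.S (v8 C) [11, 39, 62, 80, 106, 109, 114] :=
  C.stMul (f1564 C) (f1552 C) _ (by decide +kernel)

theorem f18021 : C.S (v8 C) [20, 42, 57, 78, 99, 112] :=
  C.stMul (f1532 C) (f18020 C) _ (by decide +kernel)

theorem f18022 : C.S (v8 C) [94, 110, 116] :=
  C.stMul (f1546 C) (f18021 C) _ (by decide +kernel)

theorem f18023 : C.S (v8 C) [11, 48, 53, 84, 105, 125] :=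
  C.stMul (f1546 C) (f1537 C) _ (by decide +kernel)

theorem f18024 : C.S (v8 C) [31, 69, 84, 91, 121] :=
  C.stMul (f1564 C) (f18023 C) _ (by decide +kernel)

theorem f18025 : C.S (v8 C) [32, 65, 72, 96, 109, 121] :=
  C.stMul (f1579 C) (f18024 C) _ (by decide +kernel)

theorem f18026 : C.S (v8 C) [95, 109, 116] :=
  C.stMul (f1552 C) (f18025 C) _ (by decide +kernel)

theorem f18027 : C.S (v8 C) [20, 43, 56, 73, 92, 109, 113] :=
  C.stMul (f1541 C) (f18018 C) _ (by decide +kernel)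

theorem f18028 : C.S (v8 C) [32, 65, 72, 103, 110, 114] :=
  C.stMul (f1546 C) (f18027 C) _ (by decide +kernel)

theorem f18029 : C.S (v8 C) [96, 110, 118] :=
  C.stMul (f1552 C) (f18028 C) _ (by decide +kernel)

theorem f18030 : C.S (v8 C) [28, 53, 74, 108] :=
  C.stMul (f1552 C) (f1579 C) _ (by decide +kernel)

theorem f18031 : C.S (v8 C) [11, 39, 62, 80, 107, 110, 113] :=
  C.stMul (f1564 C) (f18030 C) _ (by decide +kernel)

theorem f18032 : C.S (v8 C) [20, 42, 57, 78, 107, 116] :=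
  C.stMul (f1532 C) (f18031 C) _ (by decide +kernel)

theorem f18033 : C.S (v8 C) [97, 111] :=
  C.stMul (f1546 C) (f18032 C) _ (by decide +kernel)

theorem f18034 : C.S (v9 C) [] :=
  C.stOne _

theorem f18035 : C.S (v9 C) [4, 48, 68, 83, 104, 125] :=
  C.stMul (f1624 C) (f1615 C) _ (by decide +kernel)

theorem f18036 : C.S (v9 C) [22, 48, 68, 83, 104, 125] :=
  C.stMul (f1624 C) (f1610 C) _ (by decide +kernel)

theorem f18037 : C.S (v9 C) [6, 35, 59, 84, 106, 110, 112] :=
  C.stMul (f1620 C) (f18036 C) _ (by decide +kernel)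

theorem f18038 : C.S (v9 C) [21, 32, 63, 85, 106, 110, 120] :=
  C.stMul (f1624 C) (f1620 C) _ (by decide +kernel)

theorem f18039 : C.S (v9 C) [12, 29, 63, 103, 119] :=
  C.stMul (f1620 C) (f18038 C) _ (by decide +kernel)

theorem f18040 : C.S (v9 C) [18, 29, 50, 71, 91, 114] :=
  C.stMul (f1620 C) (f18035 C) _ (by decide +kernel)

theorem f18041 : C.S (v9 C) [25, 29, 50, 71, 91, 114] :=
  C.stMul (f1620 C) (f1624 C) _ (by decide +kernel)

theorem f18042 : C.S (v9 C) [13, 48, 54, 73, 93, 110, 123] :=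
  C.stMul (f1620 C) (f1610 C) _ (by decide +kernel)

theorem f18043 : C.S (v9 C) [28, 53, 80, 101, 110, 112] :=
  C.stMul (f1615 C) (f18042 C) _ (by decide +kernel)

theorem f18044 : C.S (v9 C) [13, 40, 56, 79, 103, 109, 114] :=
  C.stMul (f1607 C) (f18042 C) _ (by decide +kernel)

theorem f18045 : C.S (v9 C) [43, 61, 81, 106, 109, 124] :=
  C.stMul (f1620 C) (f18044 C) _ (by decide +kernel)

theorem f18046 : C.S (v9 C) [47, 79, 100, 110, 114] :=
  C.stMul (f1620 C) (f1615 C) _ (by decide +kernel)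

theorem f18047 : C.S (v10 C) [] :=
  C.stOne _

theorem f18048 : C.S (v10 C) [12, 29, 59, 82, 105, 117] :=
  C.stMul (f1709 C) (f1699 C) _ (by decide +kernel)

theorem f18049 : C.S (v10 C) [18, 35, 59, 78, 91, 110, 122] :=
  C.stMul (f1722 C) (f1699 C) _ (by decide +kernel)

theorem f18050 : C.S (v10 C) [22, 34, 56, 72, 106, 110, 125] :=
  C.stMul (f1704 C) (f1699 C) _ (by decide +kernel)

theorem f18051 : C.S (v10 C) [20, 33, 80, 97, 116] :=
  C.stMul (f1709 C) (f1704 C) _ (by decide +kernel)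

theorem f18052 : C.S (v10 C) [35, 61, 89, 104, 125] :=
  C.stMul (f1722 C) (f18051 C) _ (by decide +kernel)

theorem f18053 : C.S (v10 C) [23, 28, 62, 82, 97, 109, 114] :=
  C.stMul (f1709 C) (f1714 C) _ (by decide +kernel)

theorem f18054 : C.S (v10 C) [36, 53, 78, 90, 120] :=
  C.stMul (f1704 C) (f18053 C) _ (by decide +kernel)

theorem f18055 : C.S (v10 C) [37, 66, 75, 96, 110, 124] :=
  C.stMul (f1714 C) (f18051 C) _ (by decide +kernel)

theorem f18056 : C.S (v10 C) [41, 66, 82, 98, 110, 124] :=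
  C.stMul (f1722 C) (f1714 C) _ (by decide +kernel)

theorem f18057 : C.S (v10 C) [20, 29, 67, 83, 102, 110, 114] :=
  C.stMul (f1704 C) (f18048 C) _ (by decide +kernel)

theorem f18058 : C.S (v10 C) [43, 66, 70, 98, 109, 122] :=
  C.stMul (f1714 C) (f18057 C) _ (by decide +kernel)

theorem f18059 : C.S (v10 C) [12, 36, 63, 82, 101, 109, 123] :=
  C.stMul (f1714 C) (f1699 C) _ (by decide +kernel)

theorem f18060 : C.S (v10 C) [20, 47, 60, 84] :=
  C.stMul (f1704 C) (f18059 C) _ (by decide +kernel)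

theorem f18061 : C.S (v10 C) [52, 78, 91, 110, 111] :=
  C.stMul (f1722 C) (f18060 C) _ (by decide +kernel)

theorem f18062 : C.S (v12 C) [] :=
  C.stOne _

theorem f18063 : C.S (v12 C) [4, 32, 68, 75, 97, 110, 118] :=
  C.stMul (f2200 C) (f2186 C) _ (by decide +kernel)

theorem f18064 : C.S (v12 C) [20, 33, 63, 70, 91, 109, 116] :=
  C.stMul (f2186 C) (f2180 C) _ (by decide +kernel)

theorem f18065 : C.S (v12 C) [5, 37, 49, 85, 97, 109, 121] :=
  C.stMul (f2367 C) (f18064 C) _ (by decide +kernel)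

theorem f18066 : C.S (v12 C) [6, 29, 59, 75, 101, 110, 117] :=
  C.stMul (f2200 C) (f2193 C) _ (by decide +kernel)

theorem f18067 : C.S (v12 C) [7, 38, 60, 83, 97, 110, 112] :=
  C.stMul (f2193 C) (f2186 C) _ (by decide +kernel)

theorem f18068 : C.S (v12 C) [17, 41, 69, 74, 102] :=
  C.stMul (f2367 C) (f2186 C) _ (by decide +kernel)

theorem f18069 : C.S (v12 C) [8, 38, 54, 87, 103, 116] :=
  C.stMul (f2211 C) (f18068 C) _ (by decide +kernel)

theorem f18070 : C.S (v12 C) [10] :=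
  C.stMul (f2200 C) (f2180 C) _ (by decide +kernel)

theorem f18071 : C.S (v12 C) [9, 36, 53, 70, 107, 110, 121] :=
  C.stMul (f2367 C) (f18070 C) _ (by decide +kernel)

theorem f18072 : C.S (v12 C) [21, 29, 50, 79, 92, 109, 119] :=
  C.stMul (f2367 C) (f2200 C) _ (by decide +kernel)

theorem f18073 : C.S (v12 C) [14, 27, 56, 71, 97, 109, 111] :=
  C.stMul (f2367 C) (f18072 C) _ (by decide +kernel)

theorem f18074 : C.S (v12 C) [15, 42, 53, 80, 91, 112] :=
  C.stMul (f2367 C) (f2193 C) _ (by decide +kernel)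

theorem f18075 : C.S (v12 C) [16, 31, 49, 76, 94, 110, 124] :=
  C.stMul (f2367 C) (f2367 C) _ (by decide +kernel)

theorem f18076 : C.S (v12 C) [19, 28, 58, 86, 95, 109, 119] :=
  C.stMul (f2193 C) (f18074 C) _ (by decide +kernel)

theorem f18077 : C.S (v12 C) [22, 32, 68, 75, 97, 110, 118] :=
  C.stMul (f2180 C) (f2186 C) _ (by decide +kernel)

theorem f18078 : C.S (v12 C) [24, 35, 65, 84, 106, 110, 119] :=
  C.stMul (f2200 C) (f18064 C) _ (by decide +kernel)

theorem f18079 : C.S (v12 C) [25, 43, 89, 99, 109, 120] :=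
  C.stMul (f2200 C) (f2367 C) _ (by decide +kernel)

theorem f18080 : C.S (v12 C) [26, 35, 49, 71, 98, 109, 120] :=
  C.stMul (f2186 C) (f18063 C) _ (by decide +kernel)

theorem f18081 : C.S (v12 C) [12, 29, 59, 75, 101, 110, 117] :=
  C.stMul (f2193 C) (f2180 C) _ (by decide +kernel)

theorem f18082 : C.S (v12 C) [7, 48, 56, 88, 109, 114] :=
  C.stMul (f2186 C) (f18081 C) _ (by decide +kernel)

theorem f18083 : C.S (v12 C) [13, 68, 74, 90, 110, 114] :=
  C.stMul (f2367 C) (f18082 C) _ (by decide +kernel)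

theorem f18084 : C.S (v12 C) [27, 60, 84, 109, 117] :=
  C.stMul (f2200 C) (f18083 C) _ (by decide +kernel)

theorem f18085 : C.S (v12 C) [7, 30, 54, 84, 103, 110, 122] :=
  C.stMul (f2186 C) (f2367 C) _ (by decide +kernel)

theorem f18086 : C.S (v12 C) [20, 35, 54, 98, 110] :=
  C.stMul (f2180 C) (f18085 C) _ (by decide +kernel)

theorem f18087 : C.S (v12 C) [28, 50, 79, 107, 109, 119] :=
  C.stMul (f2186 C) (f18086 C) _ (by decide +kernel)

theorem f18088 : C.S (v12 C) [20, 43, 59, 78, 105, 117] :=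
  C.stMul (f2211 C) (f2180 C) _ (by decide +kernel)

theorem f18089 : C.S (v12 C) [5, 30, 52, 87, 91, 109, 115] :=
  C.stMul (f2367 C) (f18088 C) _ (by decide +kernel)

theorem f18090 : C.S (v12 C) [23, 42, 51, 93, 109, 123] :=
  C.stMul (f2367 C) (f18089 C) _ (by decide +kernel)

theorem f18091 : C.S (v12 C) [29, 68, 86, 108, 125] :=
  C.stMul (f2211 C) (f18090 C) _ (by decide +kernel)

theorem f18092 : C.S (v12 C) [11, 39, 66, 78, 94, 109, 124] :=
  C.stMul (f2211 C) (f18064 C) _ (by decide +kernel)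

theorem f18093 : C.S (v12 C) [18, 45, 55, 71, 96, 110, 111] :=
  C.stMul (f2367 C) (f18092 C) _ (by decide +kernel)

theorem f18094 : C.S (v12 C) [30, 60, 89, 91, 109, 117] :=
  C.stMul (f2193 C) (f18093 C) _ (by decide +kernel)

theorem f18095 : C.S (v12 C) [31, 56, 79, 117] :=
  C.stMul (f2186 C) (f18064 C) _ (by decide +kernel)

theorem f18096 : C.S (v12 C) [13, 36, 53, 83, 103, 109, 125] :=
  C.stMul (f2367 C) (f18067 C) _ (by decide +kernel)

theorem f18097 : C.S (v12 C) [32, 51, 82, 100, 109] :=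
  C.stMul (f2200 C) (f18096 C) _ (by decide +kernel)

theorem f18098 : C.S (v12 C) [6, 46, 81, 101, 114] :=
  C.stMul (f2211 C) (f2200 C) _ (by decide +kernel)

theorem f18099 : C.S (v12 C) [18, 33, 56, 73, 110, 120] :=
  C.stMul (f2200 C) (f18098 C) _ (by decide +kernel)

theorem f18100 : C.S (v12 C) [35, 50, 87, 99, 109, 115] :=
  C.stMul (f2193 C) (f18099 C) _ (by decide +kernel)

theorem f18101 : C.S (v12 C) [18, 38, 51, 73, 91, 109, 120] :=
  C.stMul (f2367 C) (f2180 C) _ (by decide +kernel)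

theorem f18102 : C.S (v12 C) [36, 54, 82, 90, 109, 123] :=
  C.stMul (f2193 C) (f18101 C) _ (by decide +kernel)

theorem f18103 : C.S (v12 C) [23, 33, 83, 108, 109] :=
  C.stMul (f2193 C) (f18085 C) _ (by decide +kernel)

theorem f18104 : C.S (v12 C) [39, 59, 76, 93, 119] :=
  C.stMul (f2211 C) (f18103 C) _ (by decide +kernel)

theorem f18105 : C.S (v12 C) [16, 32, 57, 77, 105, 109, 116] :=
  C.stMul (f2367 C) (f18081 C) _ (by decide +kernel)

theorem f18106 : C.S (v12 C) [11, 41, 52, 83, 92, 121] :=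
  C.stMul (f2367 C) (f18105 C) _ (by decide +kernel)

theorem f18107 : C.S (v12 C) [42, 52, 84, 90, 109, 113] :=
  C.stMul (f2180 C) (f18106 C) _ (by decide +kernel)

theorem f18108 : C.S (v12 C) [43, 62, 88, 104, 110, 112] :=
  C.stMul (f2186 C) (f18088 C) _ (by decide +kernel)

theorem f18109 : C.S (v12 C) [17, 35, 62, 84, 97, 110] :=
  C.stMul (f2186 C) (f2200 C) _ (by decide +kernel)

theorem f18110 : C.S (v12 C) [20, 38, 69, 76, 106, 120] :=
  C.stMul (f2367 C) (f18109 C) _ (by decide +kernel)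

theorem f18111 : C.S (v12 C) [44, 51, 87, 107, 110, 119] :=
  C.stMul (f2186 C) (f18110 C) _ (by decide +kernel)

theorem f18112 : C.S (v12 C) [13, 46, 50, 72, 90, 110, 111] :=
  C.stMul (f2186 C) (f18068 C) _ (by decide +kernel)

theorem f18113 : C.S (v12 C) [45, 67, 76, 102, 110, 111] :=
  C.stMul (f2200 C) (f18112 C) _ (by decide +kernel)

theorem f18114 : C.S (v12 C) [46, 57, 87, 102, 119] :=
  C.stMul (f2367 C) (f18074 C) _ (by decide +kernel)

theorem f18115 : C.S (v12 C) [18, 43, 89, 99, 109, 120] :=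
  C.stMul (f2180 C) (f2367 C) _ (by decide +kernel)

theorem f18116 : C.S (v12 C) [47, 63, 83, 106, 110, 116] :=
  C.stMul (f2193 C) (f18115 C) _ (by decide +kernel)

theorem f18117 : C.S (v12 C) [17, 40, 58, 74, 103, 109, 116] :=
  C.stMul (f2180 C) (f18109 C) _ (by decide +kernel)

theorem f18118 : C.S (v12 C) [13, 45, 52, 73, 90, 110, 120] :=
  C.stMul (f2186 C) (f18117 C) _ (by decide +kernel)

theorem f18119 : C.S (v12 C) [51, 81, 96, 109, 125] :=
  C.stMul (f2200 C) (f18118 C) _ (by decide +kernel)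

theorem f18120 : C.S (v12 C) [7, 35, 65, 84, 106, 110, 119] :=
  C.stMul (f2180 C) (f18064 C) _ (by decide +kernel)

theorem f18121 : C.S (v12 C) [18, 44, 55, 81, 94, 125] :=
  C.stMul (f2211 C) (f18120 C) _ (by decide +kernel)

theorem f18122 : C.S (v12 C) [15, 33, 66, 75, 90, 115] :=
  C.stMul (f2367 C) (f18121 C) _ (by decide +kernel)

theorem f18123 : C.S (v12 C) [56, 74, 104, 122] :=
  C.stMul (f2367 C) (f18122 C) _ (by decide +kernel)

theorem f18124 : C.S (v12 C) [68, 79, 96, 110, 112] :=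
  C.stMul (f2211 C) (f2186 C) _ (by decide +kernel)

theorem f18125 : C.S (v12 C) [18, 44, 52, 85, 95, 121] :=
  C.stMul (f2186 C) (f18120 C) _ (by decide +kernel)

theorem f18126 : C.S (v12 C) [15, 33, 58, 87, 99, 110, 121] :=
  C.stMul (f2367 C) (f18125 C) _ (by decide +kernel)

theorem f18127 : C.S (v12 C) [73, 108, 109] :=
  C.stMul (f2367 C) (f18126 C) _ (by decide +kernel)

theorem f18128 : C.S (v12 C) [4, 32, 51, 85, 105, 109, 118] :=
  C.stMul (f2193 C) (f18072 C) _ (by decide +kernel)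

theorem f18129 : C.S (v12 C) [23, 29, 62, 75, 92, 117] :=
  C.stMul (f2200 C) (f18128 C) _ (by decide +kernel)

theorem f18130 : C.S (v12 C) [77, 97] :=
  C.stMul (f2211 C) (f18129 C) _ (by decide +kernel)

theorem f18131 : C.S (v13 C) [] :=
  C.stOne _

theorem f18132 : C.S (v13 C) [4, 47, 55, 71, 99, 122] :=
  C.stMul (f2314 C) (f2311 C) _ (by decide +kernel)

theorem f18133 : C.S (v13 C) [16, 31, 64, 77, 98, 109, 111] :=
  C.stMul (f2318 C) (f18132 C) _ (by decide +kernel)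

theorem f18134 : C.S (v13 C) [5, 38, 56, 79, 93, 110, 114] :=
  C.stMul (f2311 C) (f18133 C) _ (by decide +kernel)

theorem f18135 : C.S (v13 C) [26, 27, 66, 79, 96, 121] :=
  C.stMul (f2310 C) (f2311 C) _ (by decide +kernel)

theorem f18136 : C.S (v13 C) [19, 37, 49, 76, 106, 110, 114] :=
  C.stMul (f2314 C) (f18135 C) _ (by decide +kernel)

theorem f18137 : C.S (v13 C) [14, 30, 50, 80, 106, 110, 112] :=
  C.stMul (f2311 C) (f18136 C) _ (by decide +kernel)

theorem f18138 : C.S (v13 C) [6, 27, 69, 87, 106, 124] :=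
  C.stMul (f2310 C) (f18137 C) _ (by decide +kernel)

theorem f18139 : C.S (v13 C) [18, 35, 66, 89, 103, 113] :=
  C.stMul (f2311 C) (f18132 C) _ (by decide +kernel)

theorem f18140 : C.S (v13 C) [22, 43, 56, 86, 99, 110, 119] :=
  C.stMul (f2310 C) (f18139 C) _ (by decide +kernel)

theorem f18141 : C.S (v13 C) [7, 35, 61, 86, 98, 118] :=
  C.stMul (f2314 C) (f18140 C) _ (by decide +kernel)

theorem f18142 : C.S (v13 C) [25, 40, 58, 79, 103, 110, 121] :=
  C.stMul (f2311 C) (f2310 C) _ (by decide +kernel)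

theorem f18143 : C.S (v13 C) [8, 48, 69, 86, 100, 114] :=
  C.stMul (f2310 C) (f18142 C) _ (by decide +kernel)

theorem f18144 : C.S (v13 C) [9, 34, 68, 94, 110, 120] :=
  C.stMul (f2311 C) (f2314 C) _ (by decide +kernel)

theorem f18145 : C.S (v13 C) [10, 38, 57, 72, 105, 109, 125] :=
  C.stMul (f2311 C) (f2326 C) _ (by decide +kernel)

theorem f18146 : C.S (v13 C) [12, 60, 76, 95, 116] :=
  C.stMul (f2314 C) (f18139 C) _ (by decide +kernel)

theorem f18147 : C.S (v13 C) [13, 31, 85, 94, 109, 121] :=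
  C.stMul (f2310 C) (f18134 C) _ (by decide +kernel)

theorem f18148 : C.S (v13 C) [15, 39, 50, 84, 102, 116] :=
  C.stMul (f2318 C) (f2311 C) _ (by decide +kernel)

theorem f18149 : C.S (v13 C) [17, 48, 64, 71, 106, 110, 114] :=
  C.stMul (f2318 C) (f18142 C) _ (by decide +kernel)

theorem f18150 : C.S (v13 C) [21, 37, 51, 72, 106, 109, 123] :=
  C.stMul (f2314 C) (f18144 C) _ (by decide +kernel)

theorem f18151 : C.S (v13 C) [24, 41, 64, 84, 96, 110, 123] :=
  C.stMul (f2326 C) (f18135 C) _ (by decide +kernel)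

theorem f18152 : C.S (v13 C) [28, 54, 82, 94, 109, 122] :=
  C.stMul (f2311 C) (f18151 C) _ (by decide +kernel)

theorem f18153 : C.S (v13 C) [25, 32, 53, 85, 90, 110, 120] :=
  C.stMul (f2326 C) (f18142 C) _ (by decide +kernel)

theorem f18154 : C.S (v13 C) [23, 41, 62, 84, 95, 109, 114] :=
  C.stMul (f2311 C) (f18153 C) _ (by decide +kernel)

theorem f18155 : C.S (v13 C) [20, 28, 61, 73, 96, 113] :=
  C.stMul (f2314 C) (f18154 C) _ (by decide +kernel)

theorem f18156 : C.S (v13 C) [29, 58, 80, 106, 110, 115] :=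
  C.stMul (f2326 C) (f18155 C) _ (by decide +kernel)

theorem f18157 : C.S (v13 C) [11, 45, 65, 71, 103, 109, 114] :=
  C.stMul (f2318 C) (f2310 C) _ (by decide +kernel)

theorem f18158 : C.S (v13 C) [23, 47, 53, 74, 98, 110, 114] :=
  C.stMul (f2326 C) (f18157 C) _ (by decide +kernel)

theorem f18159 : C.S (v13 C) [25, 33, 67, 78, 97, 112] :=
  C.stMul (f2311 C) (f18158 C) _ (by decide +kernel)

theorem f18160 : C.S (v13 C) [25, 35, 60, 86, 125] :=
  C.stMul (f2326 C) (f18159 C) _ (by decide +kernel)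

theorem f18161 : C.S (v13 C) [23, 38, 73, 101, 110, 113] :=
  C.stMul (f2311 C) (f18160 C) _ (by decide +kernel)

theorem f18162 : C.S (v13 C) [30, 64, 86, 107, 109, 125] :=
  C.stMul (f2310 C) (f18161 C) _ (by decide +kernel)

theorem f18163 : C.S (v13 C) [20, 32, 66, 89, 107, 109, 119] :=
  C.stMul (f2314 C) (f2310 C) _ (by decide +kernel)

theorem f18164 : C.S (v13 C) [31, 63, 80, 91, 113] :=
  C.stMul (f2318 C) (f18163 C) _ (by decide +kernel)

theorem f18165 : C.S (v13 C) [26, 46, 58, 83, 94, 109, 116] :=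
  C.stMul (f2326 C) (f2311 C) _ (by decide +kernel)

theorem f18166 : C.S (v13 C) [8, 39, 49, 84, 113] :=
  C.stMul (f2311 C) (f18165 C) _ (by decide +kernel)

theorem f18167 : C.S (v13 C) [8, 38, 50, 86, 101, 117] :=
  C.stMul (f2314 C) (f18166 C) _ (by decide +kernel)

theorem f18168 : C.S (v13 C) [26, 34, 68, 88, 99, 110, 118] :=
  C.stMul (f2311 C) (f18167 C) _ (by decide +kernel)

theorem f18169 : C.S (v13 C) [24, 31, 64, 98, 109, 114] :=
  C.stMul (f2326 C) (f18168 C) _ (by decide +kernel)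

theorem f18170 : C.S (v13 C) [32, 60, 74, 93, 110, 112] :=
  C.stMul (f2311 C) (f18169 C) _ (by decide +kernel)

theorem f18171 : C.S (v13 C) [25, 41, 58, 76, 103, 110, 122] :=
  C.stMul (f2311 C) (f2318 C) _ (by decide +kernel)

theorem f18172 : C.S (v13 C) [25, 37, 58, 85, 94, 109, 113] :=
  C.stMul (f2326 C) (f18171 C) _ (by decide +kernel)

theorem f18173 : C.S (v13 C) [23, 27, 57, 86, 106, 109, 121] :=
  C.stMul (f2311 C) (f18172 C) _ (by decide +kernel)

theorem f18174 : C.S (v13 C) [34, 53, 73, 90, 109, 123] :=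
  C.stMul (f2310 C) (f18173 C) _ (by decide +kernel)

theorem f18175 : C.S (v13 C) [9, 48, 49, 77, 103, 110, 112] :=
  C.stMul (f2311 C) (f18157 C) _ (by decide +kernel)

theorem f18176 : C.S (v13 C) [26, 51, 85, 92, 116] :=
  C.stMul (f2318 C) (f18175 C) _ (by decide +kernel)

theorem f18177 : C.S (v13 C) [24, 44, 62, 82, 104, 110, 123] :=
  C.stMul (f2326 C) (f18176 C) _ (by decide +kernel)

theorem f18178 : C.S (v13 C) [35, 84, 106, 110, 118] :=
  C.stMul (f2311 C) (f18177 C) _ (by decide +kernel)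

theorem f18179 : C.S (v13 C) [20, 43, 56, 72, 109, 117] :=
  C.stMul (f2310 C) (f18157 C) _ (by decide +kernel)

theorem f18180 : C.S (v13 C) [37, 77, 107, 110, 118] :=
  C.stMul (f2326 C) (f18179 C) _ (by decide +kernel)

theorem f18181 : C.S (v13 C) [20, 33, 65, 96, 110, 118] :=
  C.stMul (f2318 C) (f2314 C) _ (by decide +kernel)

theorem f18182 : C.S (v13 C) [38, 63, 70, 94, 120] :=
  C.stMul (f2326 C) (f18181 C) _ (by decide +kernel)

theorem f18183 : C.S (v13 C) [9, 29, 57, 86, 100, 110, 111] :=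
  C.stMul (f2326 C) (f18150 C) _ (by decide +kernel)

theorem f18184 : C.S (v13 C) [11, 40, 59, 71, 99] :=
  C.stMul (f2311 C) (f18183 C) _ (by decide +kernel)

theorem f18185 : C.S (v13 C) [20, 47, 57, 88, 102, 110, 117] :=
  C.stMul (f2318 C) (f18184 C) _ (by decide +kernel)

theorem f18186 : C.S (v13 C) [39, 67, 73, 90, 109, 111] :=
  C.stMul (f2326 C) (f18185 C) _ (by decide +kernel)

theorem f18187 : C.S (v13 C) [40, 75, 105, 110, 118] :=
  C.stMul (f2310 C) (f18154 C) _ (by decide +kernel)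

theorem f18188 : C.S (v13 C) [20, 29, 49, 87, 98, 115] :=
  C.stMul (f2326 C) (f18164 C) _ (by decide +kernel)

theorem f18189 : C.S (v13 C) [41, 57, 74, 108, 122] :=
  C.stMul (f2318 C) (f18188 C) _ (by decide +kernel)

theorem f18190 : C.S (v13 C) [11, 33, 55, 78, 110] :=
  C.stMul (f2326 C) (f2318 C) _ (by decide +kernel)

theorem f18191 : C.S (v13 C) [9, 32, 85, 101, 109, 111] :=
  C.stMul (f2311 C) (f18190 C) _ (by decide +kernel)

theorem f18192 : C.S (v13 C) [26, 40, 64, 77, 107, 122] :=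
  C.stMul (f2318 C) (f18191 C) _ (by decide +kernel)

theorem f18193 : C.S (v13 C) [24, 47, 59, 70, 100, 115] :=
  C.stMul (f2326 C) (f18192 C) _ (by decide +kernel)

theorem f18194 : C.S (v13 C) [42, 62, 85, 106, 109, 115] :=
  C.stMul (f2311 C) (f18193 C) _ (by decide +kernel)

theorem f18195 : C.S (v13 C) [43, 72, 91, 109, 117] :=
  C.stMul (f2310 C) (f2318 C) _ (by decide +kernel)

theorem f18196 : C.S (v13 C) [10, 34, 51, 71, 94, 110, 116] :=
  C.stMul (f2326 C) (f18145 C) _ (by decide +kernel)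

theorem f18197 : C.S (v13 C) [20, 31, 62, 84, 102, 110, 120] :=
  C.stMul (f2311 C) (f18196 C) _ (by decide +kernel)

theorem f18198 : C.S (v13 C) [44, 80, 100, 110, 125] :=
  C.stMul (f2326 C) (f18197 C) _ (by decide +kernel)

theorem f18199 : C.S (v13 C) [11, 43, 65, 78, 108, 112] :=
  C.stMul (f2318 C) (f18158 C) _ (by decide +kernel)

theorem f18200 : C.S (v13 C) [9, 33, 68, 80, 105, 125] :=
  C.stMul (f2311 C) (f18199 C) _ (by decide +kernel)

theorem f18201 : C.S (v13 C) [26, 38, 65, 72, 109, 116] :=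
  C.stMul (f2318 C) (f18200 C) _ (by decide +kernel)

theorem f18202 : C.S (v13 C) [24, 36, 63, 81, 101, 113] :=
  C.stMul (f2326 C) (f18201 C) _ (by decide +kernel)

theorem f18203 : C.S (v13 C) [45, 67, 82, 103, 110, 117] :=
  C.stMul (f2311 C) (f18202 C) _ (by decide +kernel)

theorem f18204 : C.S (v13 C) [46, 63, 84, 102, 109, 113] :=
  C.stMul (f2326 C) (f18163 C) _ (by decide +kernel)

theorem f18205 : C.S (v13 C) [47, 50, 75, 95, 124] :=
  C.stMul (f2314 C) (f18184 C) _ (by decide +kernel)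

theorem f18206 : C.S (v13 C) [20, 46, 61, 84, 109, 111] :=
  C.stMul (f2326 C) (f18195 C) _ (by decide +kernel)

theorem f18207 : C.S (v13 C) [48, 59, 71, 103, 112] :=
  C.stMul (f2318 C) (f18206 C) _ (by decide +kernel)

theorem f18208 : C.S (v13 C) [15, 38, 50, 103, 110, 117] :=
  C.stMul (f2326 C) (f18133 C) _ (by decide +kernel)

theorem f18209 : C.S (v13 C) [24, 29, 72, 93, 109, 116] :=
  C.stMul (f2318 C) (f18208 C) _ (by decide +kernel)

theorem f18210 : C.S (v13 C) [54, 85, 94] :=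
  C.stMul (f2311 C) (f18209 C) _ (by decide +kernel)

theorem f18211 : C.S (v13 C) [20, 27, 51, 84, 94, 110, 118] :=
  C.stMul (f2318 C) (f18157 C) _ (by decide +kernel)

theorem f18212 : C.S (v13 C) [57, 88, 97, 109, 113] :=
  C.stMul (f2326 C) (f18211 C) _ (by decide +kernel)

theorem f18213 : C.S (v13 C) [10, 37, 61, 70, 101, 110, 118] :=
  C.stMul (f2311 C) (f18163 C) _ (by decide +kernel)

theorem f18214 : C.S (v13 C) [10, 37, 61, 81, 95, 109] :=
  C.stMul (f2326 C) (f18213 C) _ (by decide +kernel)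

theorem f18215 : C.S (v13 C) [20, 32, 66, 108, 119] :=
  C.stMul (f2311 C) (f18214 C) _ (by decide +kernel)

theorem f18216 : C.S (v13 C) [11, 34, 59, 76, 98, 110, 119] :=
  C.stMul (f2310 C) (f18215 C) _ (by decide +kernel)

theorem f18217 : C.S (v13 C) [70, 106, 110, 125] :=
  C.stMul (f2314 C) (f18216 C) _ (by decide +kernel)

theorem f18218 : C.S (v13 C) [23, 45, 52, 87, 98, 110, 116] :=
  C.stMul (f2318 C) (f18204 C) _ (by decide +kernel)

theorem f18219 : C.S (v13 C) [25, 28, 68, 74, 106, 109, 120] :=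
  C.stMul (f2311 C) (f18218 C) _ (by decide +kernel)

theorem f18220 : C.S (v13 C) [8, 27, 59, 94, 120] :=
  C.stMul (f2310 C) (f18219 C) _ (by decide +kernel)

theorem f18221 : C.S (v13 C) [8, 27, 59, 84, 95, 110, 113] :=
  C.stMul (f2326 C) (f18220 C) _ (by decide +kernel)

theorem f18222 : C.S (v13 C) [25, 30, 58, 85, 93, 115] :=
  C.stMul (f2318 C) (f18221 C) _ (by decide +kernel)

theorem f18223 : C.S (v13 C) [23, 29, 57, 88, 124] :=
  C.stMul (f2311 C) (f18222 C) _ (by decide +kernel)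

theorem f18224 : C.S (v13 C) [20, 27, 50, 82, 107, 110, 118] :=
  C.stMul (f2314 C) (f18223 C) _ (by decide +kernel)

theorem f18225 : C.S (v13 C) [71, 104, 110, 123] :=
  C.stMul (f2326 C) (f18224 C) _ (by decide +kernel)

theorem f18226 : C.S (v13 C) [23, 40, 55, 74, 102, 109, 119] :=
  C.stMul (f2310 C) (f18152 C) _ (by decide +kernel)

theorem f18227 : C.S (v13 C) [20, 37, 67, 77, 95, 112] :=
  C.stMul (f2314 C) (f18226 C) _ (by decide +kernel)

theorem f18228 : C.S (v13 C) [28, 54, 85, 93, 109, 124] :=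
  C.stMul (f2326 C) (f18227 C) _ (by decide +kernel)

theorem f18229 : C.S (v13 C) [24, 41, 64, 73, 110, 120] :=
  C.stMul (f2311 C) (f18228 C) _ (by decide +kernel)

theorem f18230 : C.S (v13 C) [26, 46, 58, 82, 108, 112] :=
  C.stMul (f2310 C) (f18229 C) _ (by decide +kernel)

theorem f18231 : C.S (v13 C) [24, 29, 69, 83, 90, 109, 118] :=
  C.stMul (f2326 C) (f18230 C) _ (by decide +kernel)

theorem f18232 : C.S (v13 C) [72, 100, 109, 120] :=
  C.stMul (f2311 C) (f18231 C) _ (by decide +kernel)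

theorem f18233 : C.S (v13 C) [11, 44, 64, 84, 90, 110, 113] :=
  C.stMul (f2326 C) (f2310 C) _ (by decide +kernel)

theorem f18234 : C.S (v13 C) [20, 43, 54, 74, 97, 109, 124] :=
  C.stMul (f2318 C) (f18233 C) _ (by decide +kernel)

theorem f18235 : C.S (v13 C) [10, 41, 64, 83, 102, 110, 122] :=
  C.stMul (f2311 C) (f18234 C) _ (by decide +kernel)

theorem f18236 : C.S (v13 C) [10, 41, 67, 74, 101, 110, 124] :=
  C.stMul (f2314 C) (f18235 C) _ (by decide +kernel)

theorem f18237 : C.S (v13 C) [20, 43, 56, 85, 103, 109, 115] :=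
  C.stMul (f2311 C) (f18236 C) _ (by decide +kernel)

theorem f18238 : C.S (v13 C) [73, 100, 123] :=
  C.stMul (f2318 C) (f18237 C) _ (by decide +kernel)

theorem f18239 : C.S (v13 C) [23, 29, 57, 71, 94, 116] :=
  C.stMul (f2326 C) (f2314 C) _ (by decide +kernel)

theorem f18240 : C.S (v13 C) [25, 30, 58, 75, 96, 109, 116] :=
  C.stMul (f2311 C) (f18239 C) _ (by decide +kernel)

theorem f18241 : C.S (v13 C) [25, 30, 58, 78, 90, 116] :=
  C.stMul (f2326 C) (f18240 C) _ (by decide +kernel)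

theorem f18242 : C.S (v13 C) [23, 29, 57, 85, 100, 118] :=
  C.stMul (f2311 C) (f18241 C) _ (by decide +kernel)

theorem f18243 : C.S (v13 C) [20, 27, 50, 88, 101, 109, 112] :=
  C.stMul (f2314 C) (f18242 C) _ (by decide +kernel)

theorem f18244 : C.S (v13 C) [75, 90, 121] :=
  C.stMul (f2326 C) (f18243 C) _ (by decide +kernel)

theorem f18245 : C.S (v13 C) [20, 31, 62, 96, 123] :=
  C.stMul (f2314 C) (f18173 C) _ (by decide +kernel)

theorem f18246 : C.S (v13 C) [10, 34, 51, 77, 102, 109, 118] :=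
  C.stMul (f2311 C) (f18245 C) _ (by decide +kernel)

theorem f18247 : C.S (v13 C) [10, 38, 57, 80, 103, 123] :=
  C.stMul (f2326 C) (f18246 C) _ (by decide +kernel)

theorem f18248 : C.S (v13 C) [20, 27, 50, 84, 104, 109, 114] :=
  C.stMul (f2311 C) (f18247 C) _ (by decide +kernel)

theorem f18249 : C.S (v13 C) [76, 92, 110, 125] :=
  C.stMul (f2326 C) (f18248 C) _ (by decide +kernel)

theorem f18250 : C.S (v13 C) [8, 30, 65, 83, 97, 110, 116] :=
  C.stMul (f2310 C) (f18240 C) _ (by decide +kernel)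

theorem f18251 : C.S (v13 C) [8, 30, 55, 80, 91, 110, 121] :=
  C.stMul (f2314 C) (f18250 C) _ (by decide +kernel)

theorem f18252 : C.S (v13 C) [8, 30, 55, 92, 114] :=
  C.stMul (f2326 C) (f18251 C) _ (by decide +kernel)

theorem f18253 : C.S (v13 C) [26, 47, 67, 74, 91, 111] :=
  C.stMul (f2311 C) (f18252 C) _ (by decide +kernel)

theorem f18254 : C.S (v13 C) [24, 28, 67, 81, 105, 115] :=
  C.stMul (f2310 C) (f18253 C) _ (by decide +kernel)

theorem f18255 : C.S (v13 C) [26, 42, 54, 80, 103, 114] :=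
  C.stMul (f2326 C) (f18254 C) _ (by decide +kernel)

theorem f18256 : C.S (v13 C) [9, 34, 68, 86, 98, 110, 125] :=
  C.stMul (f2318 C) (f18255 C) _ (by decide +kernel)

theorem f18257 : C.S (v13 C) [11, 34, 59, 77, 108, 110, 112] :=
  C.stMul (f2311 C) (f18256 C) _ (by decide +kernel)

theorem f18258 : C.S (v13 C) [79, 105, 110, 123] :=
  C.stMul (f2314 C) (f18257 C) _ (by decide +kernel)

theorem f18259 : C.S (v13 C) [25, 40, 60, 82, 98, 111] :=
  C.stMul (f2314 C) (f18142 C) _ (by decide +kernel)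

theorem f18260 : C.S (v13 C) [23, 46, 60, 87, 98, 109, 120] :=
  C.stMul (f2311 C) (f18259 C) _ (by decide +kernel)

theorem f18261 : C.S (v13 C) [11, 45, 70, 104, 115] :=
  C.stMul (f2318 C) (f18260 C) _ (by decide +kernel)

theorem f18262 : C.S (v13 C) [20, 27, 50, 85, 102, 109, 119] :=
  C.stMul (f2318 C) (f18261 C) _ (by decide +kernel)

theorem f18263 : C.S (v13 C) [80, 105] :=
  C.stMul (f2326 C) (f18262 C) _ (by decide +kernel)

theorem f18264 : C.S (v13 C) [17, 48, 56, 110, 125] :=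
  C.stMul (f2318 C) (f18259 C) _ (by decide +kernel)

theorem f18265 : C.S (v13 C) [17, 45, 56, 80, 101, 112] :=
  C.stMul (f2326 C) (f18264 C) _ (by decide +kernel)

theorem f18266 : C.S (v13 C) [10, 34, 51, 81, 109, 111] :=
  C.stMul (f2318 C) (f18265 C) _ (by decide +kernel)

theorem f18267 : C.S (v13 C) [10, 38, 57, 71, 98, 110, 119] :=
  C.stMul (f2326 C) (f18266 C) _ (by decide +kernel)

theorem f18268 : C.S (v13 C) [20, 27, 50, 80, 102, 109, 125] :=
  C.stMul (f2311 C) (f18267 C) _ (by decide +kernel)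

theorem f18269 : C.S (v13 C) [81, 107, 110, 125] :=
  C.stMul (f2326 C) (f18268 C) _ (by decide +kernel)

theorem f18270 : C.S (v13 C) [9, 49, 89, 103, 113] :=
  C.stMul (f2318 C) (f18165 C) _ (by decide +kernel)

theorem f18271 : C.S (v13 C) [11, 48, 68, 70, 102, 116] :=
  C.stMul (f2311 C) (f18270 C) _ (by decide +kernel)

theorem f18272 : C.S (v13 C) [28, 54, 71, 90, 109, 116] :=
  C.stMul (f2314 C) (f18271 C) _ (by decide +kernel)

theorem f18273 : C.S (v13 C) [20, 37, 67, 71, 107, 109, 121] :=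
  C.stMul (f2326 C) (f18272 C) _ (by decide +kernel)

theorem f18274 : C.S (v13 C) [28, 54, 76, 107, 110, 119] :=
  C.stMul (f2318 C) (f18273 C) _ (by decide +kernel)

theorem f18275 : C.S (v13 C) [24, 41, 64, 70, 97, 117] :=
  C.stMul (f2311 C) (f18274 C) _ (by decide +kernel)

theorem f18276 : C.S (v13 C) [26, 46, 58, 109, 114] :=
  C.stMul (f2310 C) (f18275 C) _ (by decide +kernel)

theorem f18277 : C.S (v13 C) [24, 29, 69, 84, 107, 122] :=
  C.stMul (f2326 C) (f18276 C) _ (by decide +kernel)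

theorem f18278 : C.S (v13 C) [82, 91, 110, 125] :=
  C.stMul (f2311 C) (f18277 C) _ (by decide +kernel)

theorem f18279 : C.S (v13 C) [8, 35, 64, 77, 97, 110, 121] :=
  C.stMul (f2326 C) (f18143 C) _ (by decide +kernel)

theorem f18280 : C.S (v13 C) [25, 32, 53, 76, 104, 110] :=
  C.stMul (f2318 C) (f18279 C) _ (by decide +kernel)

theorem f18281 : C.S (v13 C) [25, 40, 58, 89, 105, 119] :=
  C.stMul (f2326 C) (f18280 C) _ (by decide +kernel)

theorem f18282 : C.S (v13 C) [23, 46, 58, 80, 96, 109, 114] :=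
  C.stMul (f2311 C) (f18281 C) _ (by decide +kernel)

theorem f18283 : C.S (v13 C) [83, 97, 112] :=
  C.stMul (f2310 C) (f18282 C) _ (by decide +kernel)

theorem f18284 : C.S (v13 C) [10, 38, 55, 72, 104, 115] :=
  C.stMul (f2314 C) (f18145 C) _ (by decide +kernel)

theorem f18285 : C.S (v13 C) [8, 48, 69, 82, 98, 115] :=
  C.stMul (f2318 C) (f18284 C) _ (by decide +kernel)

theorem f18286 : C.S (v13 C) [8, 35, 64, 75, 92, 109, 116] :=
  C.stMul (f2326 C) (f18285 C) _ (by decide +kernel)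

theorem f18287 : C.S (v13 C) [25, 32, 53, 83, 90, 120] :=
  C.stMul (f2318 C) (f18286 C) _ (by decide +kernel)

theorem f18288 : C.S (v13 C) [25, 40, 58, 72, 96, 109, 125] :=
  C.stMul (f2326 C) (f18287 C) _ (by decide +kernel)

theorem f18289 : C.S (v13 C) [23, 46, 58, 78, 106, 109, 113] :=
  C.stMul (f2311 C) (f18288 C) _ (by decide +kernel)

theorem f18290 : C.S (v13 C) [85, 98, 124] :=
  C.stMul (f2310 C) (f18289 C) _ (by decide +kernel)

theorem f18291 : C.S (v13 C) [17, 48, 56, 78, 103, 114] :=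
  C.stMul (f2310 C) (f18145 C) _ (by decide +kernel)

theorem f18292 : C.S (v13 C) [17, 45, 56, 74, 104, 110, 117] :=
  C.stMul (f2326 C) (f18291 C) _ (by decide +kernel)

theorem f18293 : C.S (v13 C) [10, 34, 51, 70, 117] :=
  C.stMul (f2318 C) (f18292 C) _ (by decide +kernel)

theorem f18294 : C.S (v13 C) [10, 38, 57, 98, 110, 119] :=
  C.stMul (f2326 C) (f18293 C) _ (by decide +kernel)

theorem f18295 : C.S (v13 C) [20, 27, 50, 73, 103, 116] :=
  C.stMul (f2311 C) (f18294 C) _ (by decide +kernel)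

theorem f18296 : C.S (v13 C) [86, 94, 110, 122] :=
  C.stMul (f2326 C) (f18295 C) _ (by decide +kernel)

theorem f18297 : C.S (v13 C) [26, 47, 67, 72, 101, 109, 112] :=
  C.stMul (f2318 C) (f18144 C) _ (by decide +kernel)

theorem f18298 : C.S (v13 C) [24, 28, 67, 84, 96, 110, 113] :=
  C.stMul (f2310 C) (f18297 C) _ (by decide +kernel)

theorem f18299 : C.S (v13 C) [26, 42, 54, 106, 113] :=
  C.stMul (f2326 C) (f18298 C) _ (by decide +kernel)

theorem f18300 : C.S (v13 C) [9, 34, 68, 87, 96, 109, 118] :=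
  C.stMul (f2318 C) (f18299 C) _ (by decide +kernel)

theorem f18301 : C.S (v13 C) [11, 34, 59, 81, 102, 121] :=
  C.stMul (f2311 C) (f18300 C) _ (by decide +kernel)

theorem f18302 : C.S (v13 C) [87, 91, 115] :=
  C.stMul (f2314 C) (f18301 C) _ (by decide +kernel)

theorem f18303 : C.S (v13 C) [8, 30, 55, 70, 99, 110, 118] :=
  C.stMul (f2318 C) (f18213 C) _ (by decide +kernel)

theorem f18304 : C.S (v13 C) [8, 30, 55, 87, 108, 109, 125] :=
  C.stMul (f2326 C) (f18303 C) _ (by decide +kernel)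

theorem f18305 : C.S (v13 C) [25, 28, 49, 89, 94, 110, 123] :=
  C.stMul (f2318 C) (f18304 C) _ (by decide +kernel)

theorem f18306 : C.S (v13 C) [23, 45, 58, 83, 101, 109, 120] :=
  C.stMul (f2311 C) (f18305 C) _ (by decide +kernel)

theorem f18307 : C.S (v13 C) [20, 43, 56, 75, 99, 114] :=
  C.stMul (f2314 C) (f18306 C) _ (by decide +kernel)

theorem f18308 : C.S (v13 C) [88, 101, 109, 113] :=
  C.stMul (f2318 C) (f18307 C) _ (by decide +kernel)

theorem f18309 : C.S (v13 C) [16, 62, 81, 96, 109, 117] :=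
  C.stMul (f2326 C) (f18148 C) _ (by decide +kernel)

theorem f18310 : C.S (v13 C) [5, 32, 52, 96, 109, 124] :=
  C.stMul (f2311 C) (f18309 C) _ (by decide +kernel)

theorem f18311 : C.S (v13 C) [13, 31, 49, 72, 95, 109, 125] :=
  C.stMul (f2318 C) (f18310 C) _ (by decide +kernel)

theorem f18312 : C.S (v13 C) [5, 38, 54, 76, 108, 110, 124] :=
  C.stMul (f2326 C) (f18311 C) _ (by decide +kernel)

theorem f18313 : C.S (v13 C) [16, 31, 53, 85, 99, 110, 119] :=
  C.stMul (f2311 C) (f18312 C) _ (by decide +kernel)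

theorem f18314 : C.S (v13 C) [15, 38, 55, 71, 95, 110] :=
  C.stMul (f2326 C) (f18313 C) _ (by decide +kernel)

theorem f18315 : C.S (v13 C) [24, 29, 69, 79, 96, 110, 119] :=
  C.stMul (f2318 C) (f18314 C) _ (by decide +kernel)

theorem f18316 : C.S (v13 C) [90, 110, 122] :=
  C.stMul (f2311 C) (f18315 C) _ (by decide +kernel)

theorem f18317 : C.S (v13 C) [10, 35, 60, 87, 108, 110, 116] :=
  C.stMul (f2311 C) (f18206 C) _ (by decide +kernel)

theorem f18318 : C.S (v13 C) [10, 43, 68, 72, 97, 121] :=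
  C.stMul (f2326 C) (f18317 C) _ (by decide +kernel)

theorem f18319 : C.S (v13 C) [20, 44, 60, 83, 92, 109, 123] :=
  C.stMul (f2311 C) (f18318 C) _ (by decide +kernel)

theorem f18320 : C.S (v13 C) [23, 38, 56, 74] :=
  C.stMul (f2314 C) (f18319 C) _ (by decide +kernel)

theorem f18321 : C.S (v13 C) [25, 35, 58, 84, 90, 110, 119] :=
  C.stMul (f2311 C) (f18320 C) _ (by decide +kernel)

theorem f18322 : C.S (v13 C) [25, 33, 59, 72, 96, 110, 112] :=
  C.stMul (f2326 C) (f18321 C) _ (by decide +kernel)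

theorem f18323 : C.S (v13 C) [23, 47, 56, 72, 90, 109, 114] :=
  C.stMul (f2311 C) (f18322 C) _ (by decide +kernel)

theorem f18324 : C.S (v13 C) [11, 45, 87, 90, 109, 117] :=
  C.stMul (f2326 C) (f18323 C) _ (by decide +kernel)

theorem f18325 : C.S (v13 C) [20, 27, 50, 74, 108, 110, 119] :=
  C.stMul (f2318 C) (f18324 C) _ (by decide +kernel)

theorem f18326 : C.S (v13 C) [98] :=
  C.stMul (f2326 C) (f18325 C) _ (by decide +kernel)

theorem f18327 : C.S (v13 C) [9, 44, 66, 85, 106, 114] :=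
  C.stMul (f2311 C) (f18233 C) _ (by decide +kernel)

theorem f18328 : C.S (v13 C) [21, 32, 52, 75, 94, 117] :=
  C.stMul (f2314 C) (f18327 C) _ (by decide +kernel)

theorem f18329 : C.S (v13 C) [9, 48, 60, 74, 94, 110, 125] :=
  C.stMul (f2326 C) (f18328 C) _ (by decide +kernel)

theorem f18330 : C.S (v13 C) [11, 45, 87, 104, 110, 119] :=
  C.stMul (f2311 C) (f18329 C) _ (by decide +kernel)

theorem f18331 : C.S (v13 C) [20, 27, 50, 74, 98, 109, 114] :=
  C.stMul (f2318 C) (f18330 C) _ (by decide +kernel)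

theorem f18332 : C.S (v13 C) [115] :=
  C.stMul (f2326 C) (f18331 C) _ (by decide +kernel)

theorem f18333 : C.S (v14 C) [] :=
  C.stOne _

theorem f18334 : C.S (v14 C) [4, 40, 49, 75, 107, 118] :=
  C.stMul (f2445 C) (f2437 C) _ (by decide +kernel)

theorem f18335 : C.S (v14 C) [26, 49, 71, 102, 110, 114] :=
  C.stMul (f2445 C) (f2441 C) _ (by decide +kernel)

theorem f18336 : C.S (v14 C) [20, 39, 49, 78, 100, 109, 111] :=
  C.stMul (f2454 C) (f18335 C) _ (by decide +kernel)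

theorem f18337 : C.S (v14 C) [9, 31, 66, 72, 101, 110, 115] :=
  C.stMul (f2441 C) (f18336 C) _ (by decide +kernel)

theorem f18338 : C.S (v14 C) [5, 42, 69, 79, 100, 115] :=
  C.stMul (f2441 C) (f18337 C) _ (by decide +kernel)

theorem f18339 : C.S (v14 C) [6, 32, 59, 81, 108, 118] :=
  C.stMul (f2445 C) (f18336 C) _ (by decide +kernel)

theorem f18340 : C.S (v14 C) [19, 47, 55, 79, 92, 114] :=
  C.stMul (f2445 C) (f2445 C) _ (by decide +kernel)

theorem f18341 : C.S (v14 C) [7, 29, 69, 83, 105, 110, 114] :=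
  C.stMul (f2445 C) (f18340 C) _ (by decide +kernel)

theorem f18342 : C.S (v14 C) [24, 35, 65, 78, 101, 122] :=
  C.stMul (f2437 C) (f18334 C) _ (by decide +kernel)

theorem f18343 : C.S (v14 C) [8, 44, 52, 78, 90, 109, 116] :=
  C.stMul (f2441 C) (f18342 C) _ (by decide +kernel)

theorem f18344 : C.S (v14 C) [11, 41, 63, 75, 94, 110, 115] :=
  C.stMul (f2454 C) (f18340 C) _ (by decide +kernel)

theorem f18345 : C.S (v14 C) [17, 28, 86, 107, 109, 124] :=
  C.stMul (f2441 C) (f2441 C) _ (by decide +kernel)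

theorem f18346 : C.S (v14 C) [12, 45, 57, 72, 98, 109, 119] :=
  C.stMul (f2445 C) (f18345 C) _ (by decide +kernel)

theorem f18347 : C.S (v14 C) [22, 36, 69, 87, 102, 110, 114] :=
  C.stMul (f2454 C) (f18345 C) _ (by decide +kernel)

theorem f18348 : C.S (v14 C) [13, 41, 55, 89, 103, 110, 112] :=
  C.stMul (f2441 C) (f18347 C) _ (by decide +kernel)

theorem f18349 : C.S (v14 C) [14, 45, 57, 79, 90, 119] :=
  C.stMul (f2445 C) (f18348 C) _ (by decide +kernel)

theorem f18350 : C.S (v14 C) [21, 27, 61, 89, 102, 110, 123] :=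
  C.stMul (f2445 C) (f18344 C) _ (by decide +kernel)

theorem f18351 : C.S (v14 C) [15, 33, 52, 88, 97, 116] :=
  C.stMul (f2441 C) (f18350 C) _ (by decide +kernel)

theorem f18352 : C.S (v14 C) [16, 36, 68, 88, 99, 109, 120] :=
  C.stMul (f2441 C) (f18348 C) _ (by decide +kernel)

theorem f18353 : C.S (v14 C) [18, 32, 49, 72, 100, 112] :=
  C.stMul (f2454 C) (f18343 C) _ (by decide +kernel)

theorem f18354 : C.S (v14 C) [4, 28, 67, 82, 98, 115] :=
  C.stMul (f2454 C) (f18334 C) _ (by decide +kernel)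

theorem f18355 : C.S (v14 C) [17, 42, 68, 72, 94, 110, 112] :=
  C.stMul (f2445 C) (f18354 C) _ (by decide +kernel)

theorem f18356 : C.S (v14 C) [27, 56, 72, 97, 125] :=
  C.stMul (f2441 C) (f18355 C) _ (by decide +kernel)

theorem f18357 : C.S (v14 C) [26, 34, 58, 72, 92, 116] :=
  C.stMul (f2441 C) (f2445 C) _ (by decide +kernel)

theorem f18358 : C.S (v14 C) [23, 38, 68, 71, 94, 121] :=
  C.stMul (f2441 C) (f18357 C) _ (by decide +kernel)

theorem f18359 : C.S (v14 C) [32, 60, 81, 102, 109, 114] :=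
  C.stMul (f2437 C) (f18358 C) _ (by decide +kernel)

theorem f18360 : C.S (v14 C) [10, 27, 65, 89, 108, 110, 123] :=
  C.stMul (f2437 C) (f2441 C) _ (by decide +kernel)

theorem f18361 : C.S (v14 C) [25, 33, 82, 102, 114] :=
  C.stMul (f2454 C) (f18360 C) _ (by decide +kernel)

theorem f18362 : C.S (v14 C) [17, 48, 50, 84, 100, 110, 115] :=
  C.stMul (f2441 C) (f18361 C) _ (by decide +kernel)

theorem f18363 : C.S (v14 C) [36, 58, 70, 96, 110, 122] :=
  C.stMul (f2441 C) (f18362 C) _ (by decide +kernel)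

theorem f18364 : C.S (v14 C) [10, 37, 55, 71, 103, 109, 123] :=
  C.stMul (f2441 C) (f2437 C) _ (by decide +kernel)

theorem f18365 : C.S (v14 C) [25, 43, 63, 76, 105, 110, 120] :=
  C.stMul (f2454 C) (f18364 C) _ (by decide +kernel)

theorem f18366 : C.S (v14 C) [17, 47, 57, 75, 97, 109, 114] :=
  C.stMul (f2441 C) (f18365 C) _ (by decide +kernel)

theorem f18367 : C.S (v14 C) [37, 58, 89, 108, 119] :=
  C.stMul (f2441 C) (f18366 C) _ (by decide +kernel)

theorem f18368 : C.S (v14 C) [25, 46, 67, 78, 107] :=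
  C.stMul (f2454 C) (f2445 C) _ (by decide +kernel)

theorem f18369 : C.S (v14 C) [17, 43, 54, 86, 91, 110, 124] :=
  C.stMul (f2441 C) (f18368 C) _ (by decide +kernel)

theorem f18370 : C.S (v14 C) [38, 58, 82, 99, 114] :=
  C.stMul (f2441 C) (f18369 C) _ (by decide +kernel)

theorem f18371 : C.S (v14 C) [17, 32, 59, 87, 107, 109, 122] :=
  C.stMul (f2437 C) (f18345 C) _ (by decide +kernel)

theorem f18372 : C.S (v14 C) [46, 55, 71, 99, 122] :=
  C.stMul (f2441 C) (f18371 C) _ (by decide +kernel)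

theorem f18373 : C.S (v14 C) [17, 40, 58, 100, 114] :=
  C.stMul (f2445 C) (f18334 C) _ (by decide +kernel)

theorem f18374 : C.S (v14 C) [47, 56, 71, 107, 111] :=
  C.stMul (f2441 C) (f18373 C) _ (by decide +kernel)

theorem f18375 : C.S (v14 C) [23, 39, 66, 80, 96, 110, 116] :=
  C.stMul (f2441 C) (f18335 C) _ (by decide +kernel)

theorem f18376 : C.S (v14 C) [58, 70, 92, 110, 121] :=
  C.stMul (f2437 C) (f18375 C) _ (by decide +kernel)

theorem f18377 : C.S (v14 C) [23, 39, 50, 75, 91, 112] :=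
  C.stMul (f2445 C) (f18335 C) _ (by decide +kernel)

theorem f18378 : C.S (v14 C) [59, 85, 93, 110, 112] :=
  C.stMul (f2437 C) (f18377 C) _ (by decide +kernel)

theorem f18379 : C.S (v14 C) [105, 121] :=
  C.stMul (f2454 C) (f18378 C) _ (by decide +kernel)

theorem f18380 : C.S (v15 C) [] :=
  C.stOne _

theorem f18381 : C.S (v15 C) [25, 47, 66, 86, 107, 124] :=
  C.stMul (f2569 C) (f2565 C) _ (by decide +kernel)

theorem f18382 : C.S (v15 C) [31, 53, 71, 96, 116] :=
  C.stMul (f2569 C) (f2569 C) _ (by decide +kernel)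

theorem f18383 : C.S (v15 C) [20, 39, 55, 88, 95, 110, 125] :=
  C.stMul (f2581 C) (f2565 C) _ (by decide +kernel)

theorem f18384 : C.S (v15 C) [34, 69, 79, 92, 114] :=
  C.stMul (f2565 C) (f18383 C) _ (by decide +kernel)

theorem f18385 : C.S (v16 C) [] :=
  C.stOne _

theorem f18386 : C.S (v16 C) [18, 48, 62, 92] :=
  C.stMul (f3456 C) (f3451 C) _ (by decide +kernel)

theorem f18387 : C.S (v16 C) [11, 45, 64, 79, 106, 110, 119] :=
  C.stMul (f3468 C) (f18386 C) _ (by decide +kernel)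

theorem f18388 : C.S (v16 C) [20, 44, 68, 81, 93, 115] :=
  C.stMul (f3468 C) (f3451 C) _ (by decide +kernel)

theorem f18389 : C.S (v16 C) [23, 40, 50, 79, 96] :=
  C.stMul (f3468 C) (f3456 C) _ (by decide +kernel)

theorem f18390 : C.S (v16 C) [28, 55, 71, 105, 109, 119] :=
  C.stMul (f3458 C) (f3451 C) _ (by decide +kernel)

theorem f18391 : C.S (v16 C) [7, 41, 57, 70, 98, 110, 111] :=
  C.stMul (f3458 C) (f18386 C) _ (by decide +kernel)

theorem f18392 : C.S (v16 C) [62, 79, 96, 109, 121] :=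
  C.stMul (f3480 C) (f18391 C) _ (by decide +kernel)

theorem f18393 : C.S (v17 C) [] :=
  C.stOne _

theorem f18394 : C.S (v17 C) [23, 31, 75, 92, 109, 116] :=
  C.stMul (f4137 C) (f4132 C) _ (by decide +kernel)

theorem f18395 : C.S (v17 C) [51, 81, 96, 109, 125] :=
  C.stMul (f4132 C) (f4137 C) _ (by decide +kernel)

theorem f18396 : C.S (v18 C) [] :=
  C.stOne _

theorem f18397 : C.S (v18 C) [26, 43, 49, 77, 91, 110, 115] :=
  C.stMul (f6836 C) (f6836 C) _ (by decide +kernel)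

theorem f18398 : C.S (v19 C) [] :=
  C.stOne _

theorem f18399 : C.S (v19 C) [8, 48, 67, 77, 92, 110, 112] :=
  C.stMul (f15685 C) (f15540 C) _ (by decide +kernel)

theorem f18400 : C.S (v19 C) [14, 39, 69, 87, 107, 120] :=
  C.stMul (f15843 C) (f15540 C) _ (by decide +kernel)

theorem f18401 : C.S (v19 C) [15, 28, 51, 80, 97, 111] :=
  C.stMul (f15540 C) (f15685 C) _ (by decide +kernel)

theorem f18402 : C.S (v19 C) [27, 69, 79, 94, 112] :=
  C.stMul (f15685 C) (f18401 C) _ (by decide +kernel)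

theorem f18403 : C.S (v19 C) [35, 49, 76, 94, 110] :=
  C.stMul (f15843 C) (f15685 C) _ (by decide +kernel)

theorem f18404 : C.S (v19 C) [42, 64, 78, 97, 110, 111] :=
  C.stMul (f15843 C) (f18401 C) _ (by decide +kernel)

theorem f18405 : C.S (v20 C) [] :=
  C.stOne _

theorem f18406 : C.S (v20 C) [20, 46, 59, 82, 96, 122] :=
  C.stMul (f17501 C) (f17471 C) _ (by decide +kernel)

theorem f18407 : C.S (v20 C) [4, 54, 85, 110, 125] :=
  C.stMul (f17471 C) (f18406 C) _ (by decide +kernel)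

theorem f18408 : C.S (v20 C) [16, 46, 50, 85, 90, 110, 111] :=
  C.stMul (f17501 C) (f18407 C) _ (by decide +kernel)

theorem f18409 : C.S (v20 C) [14, 34, 54, 71, 98, 110, 116] :=
  C.stMul (f17471 C) (f18408 C) _ (by decide +kernel)

theorem f18410 : C.S (v20 C) [5, 41, 63, 79, 97, 109, 124] :=
  C.stMul (f17471 C) (f18409 C) _ (by decide +kernel)

theorem f18411 : C.S (v20 C) [8, 28, 55, 86, 91, 110] :=
  C.stMul (f17471 C) (f17471 C) _ (by decide +kernel)

theorem f18412 : C.S (v20 C) [18, 34, 65, 77, 107, 109, 125] :=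
  C.stMul (f17471 C) (f18411 C) _ (by decide +kernel)

theorem f18413 : C.S (v20 C) [7, 46, 49, 83, 96, 109, 114] :=
  C.stMul (f17501 C) (f18412 C) _ (by decide +kernel)

theorem f18414 : C.S (v20 C) [11, 33, 60, 75, 103, 109, 123] :=
  C.stMul (f17501 C) (f18406 C) _ (by decide +kernel)

theorem f18415 : C.S (v20 C) [9, 30, 69, 80, 101, 121] :=
  C.stMul (f17501 C) (f18414 C) _ (by decide +kernel)

theorem f18416 : C.S (v20 C) [10, 35, 51, 73, 98, 110, 124] :=
  C.stMul (f17501 C) (f18413 C) _ (by decide +kernel)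

theorem f18417 : C.S (v20 C) [12, 29, 63, 71, 91, 110, 120] :=
  C.stMul (f17471 C) (f18413 C) _ (by decide +kernel)

theorem f18418 : C.S (v20 C) [13, 33, 63, 86, 110, 119] :=
  C.stMul (f17471 C) (f18412 C) _ (by decide +kernel)

theorem f18419 : C.S (v20 C) [15, 34, 59, 77, 92, 109, 111] :=
  C.stMul (f17501 C) (f18415 C) _ (by decide +kernel)

theorem f18420 : C.S (v20 C) [17, 37, 59, 88, 104, 111] :=
  C.stMul (f17501 C) (f18418 C) _ (by decide +kernel)

theorem f18421 : C.S (v20 C) [19, 38, 57, 74, 105, 109, 120] :=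
  C.stMul (f17471 C) (f18415 C) _ (by decide +kernel)

theorem f18422 : C.S (v20 C) [21, 35, 52, 85, 99, 120] :=
  C.stMul (f17501 C) (f18419 C) _ (by decide +kernel)

theorem f18423 : C.S (v20 C) [26, 46, 69, 88, 100, 109, 122] :=
  C.stMul (f17471 C) (f18418 C) _ (by decide +kernel)

theorem f18424 : C.S (v20 C) [25, 37, 52, 79, 95, 118] :=
  C.stMul (f17471 C) (f18423 C) _ (by decide +kernel)

theorem f18425 : C.S (v20 C) [23, 29, 66, 72, 105, 109, 120] :=
  C.stMul (f17471 C) (f18424 C) _ (by decide +kernel)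

theorem f18426 : C.S (v20 C) [24, 35, 70, 99, 109, 114] :=
  C.stMul (f17501 C) (f18420 C) _ (by decide +kernel)

theorem f18427 : C.S (v20 C) [4, 29, 55, 77, 102, 110, 120] :=
  C.stMul (f17501 C) (f18417 C) _ (by decide +kernel)

theorem f18428 : C.S (v20 C) [11, 35, 65, 80, 97, 123] :=
  C.stMul (f17471 C) (f18427 C) _ (by decide +kernel)

theorem f18429 : C.S (v20 C) [27, 57, 85, 95, 114] :=
  C.stMul (f17471 C) (f18428 C) _ (by decide +kernel)

theorem f18430 : C.S (v20 C) [8, 35, 66, 102, 119] :=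
  C.stMul (f17471 C) (f17501 C) _ (by decide +kernel)

theorem f18431 : C.S (v20 C) [18, 66, 86, 107, 109, 112] :=
  C.stMul (f17471 C) (f18430 C) _ (by decide +kernel)

theorem f18432 : C.S (v20 C) [7, 47, 49, 81, 106, 110, 125] :=
  C.stMul (f17501 C) (f18431 C) _ (by decide +kernel)

theorem f18433 : C.S (v20 C) [12, 28, 57, 86, 105, 109, 114] :=
  C.stMul (f17471 C) (f18432 C) _ (by decide +kernel)

theorem f18434 : C.S (v20 C) [4, 46, 72, 92, 109, 116] :=
  C.stMul (f17501 C) (f18433 C) _ (by decide +kernel)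

theorem f18435 : C.S (v20 C) [11, 44, 53, 89, 97, 110, 113] :=
  C.stMul (f17471 C) (f18434 C) _ (by decide +kernel)

theorem f18436 : C.S (v20 C) [33, 67, 88, 90, 109, 113] :=
  C.stMul (f17471 C) (f18435 C) _ (by decide +kernel)

theorem f18437 : C.S (v20 C) [11, 41, 60, 74, 93, 113] :=
  C.stMul (f17471 C) (f18407 C) _ (by decide +kernel)

theorem f18438 : C.S (v20 C) [34, 55, 73, 97, 109, 117] :=
  C.stMul (f17471 C) (f18437 C) _ (by decide +kernel)

theorem f18439 : C.S (v20 C) [20, 32, 64, 73, 103, 109, 114] :=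
  C.stMul (f17501 C) (f17501 C) _ (by decide +kernel)

theorem f18440 : C.S (v20 C) [11, 27, 88, 110, 113] :=
  C.stMul (f17501 C) (f18439 C) _ (by decide +kernel)

theorem f18441 : C.S (v20 C) [35, 55, 84, 93, 109, 122] :=
  C.stMul (f17471 C) (f18440 C) _ (by decide +kernel)

theorem f18442 : C.S (v20 C) [37, 51, 85, 108, 110, 111] :=
  C.stMul (f17501 C) (f18410 C) _ (by decide +kernel)

theorem f18443 : C.S (v20 C) [38, 53, 82, 91, 122] :=
  C.stMul (f17471 C) (f18414 C) _ (by decide +kernel)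

theorem f18444 : C.S (v20 C) [9, 36, 59, 86, 107, 110, 121] :=
  C.stMul (f17501 C) (f18437 C) _ (by decide +kernel)

theorem f18445 : C.S (v20 C) [19, 32, 57, 70, 93, 110, 112] :=
  C.stMul (f17471 C) (f18444 C) _ (by decide +kernel)

theorem f18446 : C.S (v20 C) [5, 38, 60, 89, 104, 117] :=
  C.stMul (f17501 C) (f18445 C) _ (by decide +kernel)

theorem f18447 : C.S (v20 C) [39, 53, 75, 94, 122] :=
  C.stMul (f17501 C) (f18446 C) _ (by decide +kernel)

theorem f18448 : C.S (v20 C) [4, 37, 53, 87, 95, 114] :=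
  C.stMul (f17471 C) (f18439 C) _ (by decide +kernel)

theorem f18449 : C.S (v20 C) [11, 42, 58, 98, 111] :=
  C.stMul (f17471 C) (f18448 C) _ (by decide +kernel)

theorem f18450 : C.S (v20 C) [42, 64, 76, 107, 110, 120] :=
  C.stMul (f17471 C) (f18449 C) _ (by decide +kernel)

theorem f18451 : C.S (v20 C) [16, 40, 65, 86, 96, 109, 115] :=
  C.stMul (f17501 C) (f18448 C) _ (by decide +kernel)

theorem f18452 : C.S (v20 C) [14, 41, 59, 82, 107, 110, 113] :=
  C.stMul (f17471 C) (f18451 C) _ (by decide +kernel)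

theorem f18453 : C.S (v20 C) [5, 44, 58, 84, 101, 110, 117] :=
  C.stMul (f17471 C) (f18452 C) _ (by decide +kernel)

theorem f18454 : C.S (v20 C) [46, 57, 83, 96, 109, 125] :=
  C.stMul (f17501 C) (f18453 C) _ (by decide +kernel)

theorem f18455 : C.S (v20 C) [5, 28, 66, 70, 104, 109, 117] :=
  C.stMul (f17501 C) (f18421 C) _ (by decide +kernel)

theorem f18456 : C.S (v20 C) [47, 58, 80, 91, 120] :=
  C.stMul (f17501 C) (f18455 C) _ (by decide +kernel)

end CfsgLib.J4Index
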