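import Cfsg.Agent.Lib.J4Index.Facts1

/-!
# Derived equations (generated)
-/

set_option autoImplicit false
set_option maxRecDepth 100000
set_option linter.style.longLine false

namespace CfsgLib.J4Index

variable {G X : Type} [Group G] [MulAction G X] (C : Ctx G X)

theorem f2267 : C.T (v11 C) [21, 38, 66, 86, 105, 110, 118] (v12 C) [5, 46, 63, 89, 90, 110, 114] :=
  C.conv (f2174 C) (f2203 C) (f2266 C) _ [127, 153, 164, 174, 178] _ (by decide +kernel) (by decide +kernel) (by decide +kernel)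

theorem f2268 : C.T (v12 C) [5, 46, 63, 89, 90, 110, 114] (v11 C) [21, 38, 66, 86, 105, 110, 118] :=
  C.flip (f2267 C)

theorem f2269 : C.T (v12 C) [20, 44, 50, 75, 97, 117] (v12 C) [5, 36, 67, 84, 120] :=
  C.closeT (p := (v11 C)) (pu := [8, 34, 53, 78, 101, 110, 120])
    (C.pT (f2263 C)
    (C.pH [12, 35, 50, 83] [20, 44, 50, 75, 97, 117] (by decide +kernel) (C.pNil _ _)))
    (C.pH [12, 35, 50, 83] [5, 46, 63, 89, 90, 110, 114] (by decide +kernel)
    (C.pT (f2268 C)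
    (C.pH [12, 35, 50, 83] [8, 34, 53, 78, 101, 110, 120] (by decide +kernel) (C.pNil _ _))))
    (C.loop_of_one (relLoop0 C) _ _)

theorem f2286 : C.T (v11 C) [7, 27, 58, 71, 106, 111] (v11 C) [20, 43, 56, 88, 104, 110, 118] :=
  C.conv (f2167 C) (f2170 C) (f2170 C) _ [131, 154, 169, 175, 177] _ (by decide +kernel) (by decide +kernel) (by decide +kernel)

theorem f2287 : C.S (v11 C) [14, 53, 80, 103, 110, 113] :=
  C.stMul (f2127 C) (f2112 C) _ (by decide +kernel)

theorem f2288 : C.S (v11 C) [22, 28, 51, 89, 104, 109, 124] :=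
  C.stMul (f2116 C) (f2287 C) _ (by decide +kernel)

theorem f2289 : C.S (v11 C) [14, 48, 68, 88, 121] :=
  C.stMul (f2113 C) (f2288 C) _ (by decide +kernel)

theorem f2290 : C.T (v11 C) [23, 44, 66, 81, 96, 109, 116] (v12 C) [12, 46, 58, 76, 117] :=
  C.conv (f2174 C) (f2203 C) (f2289 C) _ [134, 160, 167, 171] _ (by decide +kernel) (by decide +kernel) (by decide +kernel)

theorem f2291 : C.S (v11 C) [22, 38, 55, 82, 102, 110, 111] :=
  C.stMul (f2116 C) (f2116 C) _ (by decide +kernel)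

theorem f2292 : C.S (v11 C) [11, 48, 56, 79, 99, 110, 123] :=
  C.stMul (f2127 C) (f2291 C) _ (by decide +kernel)

theorem f2293 : C.S (v11 C) [17, 46, 53, 83, 108, 110, 114] :=
  C.stMul (f2119 C) (f2292 C) _ (by decide +kernel)

theorem f2294 : C.T (v11 C) [23, 41, 63, 70, 106, 110, 113] (v12 C) [22, 28, 61, 71, 102, 110, 122] :=
  C.conv (f2174 C) (f2203 C) (f2293 C) _ [144, 163, 168, 174, 177] _ (by decide +kernel) (by decide +kernel) (by decide +kernel)

theorem f2295 : C.T (v12 C) [22, 28, 61, 71, 102, 110, 122] (v11 C) [23, 41, 63, 70, 106, 110, 113] :=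
  C.flip (f2294 C)

theorem f2296 : C.T (v12 C) [14, 38, 62, 70, 95, 109, 123] (v12 C) [17, 27, 53, 80, 94, 123] :=
  C.closeT (p := (v11 C)) (pu := [7, 27, 58, 71, 106, 111])
    (C.pT (f2286 C)
    (C.pH [8, 30, 65, 84, 94, 117] [23, 44, 66, 81, 96, 109, 116] (by decide +kernel)
    (C.pT (f2290 C)
    (C.pH [26, 38, 54, 89, 90, 113] [14, 38, 62, 70, 95, 109, 123] (by decide +kernel) (C.pNil _ _)))))
    (C.pH [8, 30, 65, 84, 94, 117] [22, 28, 61, 71, 102, 110, 122] (by decide +kernel)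
    (C.pT (f2295 C)
    (C.pH [26, 38, 54, 89, 90, 113] [7, 27, 58, 71, 106, 111] (by decide +kernel) (C.pNil _ _))))
    (C.loop_of_one (relLoop1 C) _ _)

theorem f2299 : C.T (v12 C) [5, 42, 53, 87, 98, 109, 116] (v12 C) [17, 50, 77, 94, 115] :=
  C.conv (f2236 C) (f2239 C) (f2239 C) _ [135, 162, 166, 171] _ (by decide +kernel) (by decide +kernel) (by decide +kernel)

theorem f2300 : C.S (v12 C) [17, 35, 62, 84, 97, 110] :=
  C.stMul (f2186 C) (f2200 C) _ (by decide +kernel)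

theorem f2301 : C.S (v12 C) [26, 40, 58, 74, 103, 109, 116] :=
  C.stMul (f2200 C) (f2300 C) _ (by decide +kernel)

theorem f2302 : C.T (v12 C) [25, 32, 50, 77, 94, 115] (v12 C) [25, 41, 51, 71, 102, 110, 120] :=
  C.conv (f2236 C) (f2239 C) (f2301 C) _ [148, 156, 170, 176, 177] _ (by decide +kernel) (by decide +kernel) (by decide +kernel)

theorem f2303 : C.T (v12 C) [9, 27, 58, 71, 91, 124] (v12 C) [5, 32, 49, 80, 90] :=
  C.closeT (p := (v12 C)) (pu := [5, 42, 53, 87, 98, 109, 116])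
    (C.pT (f2299 C)
    (C.pH [12, 35, 50, 83] [25, 32, 50, 77, 94, 115] (by decide +kernel)
    (C.pT (f2302 C)
    (C.pH [12, 35, 50, 83] [9, 27, 58, 71, 91, 124] (by decide +kernel) (C.pNil _ _)))))
    (C.pH [12, 35, 50, 83] [5, 42, 53, 87, 98, 109, 116] (by decide +kernel) (C.pNil _ _))
    (C.loop_of_one (relLoop0 C) _ _)

theorem f2305 : C.S (v12 C) [] :=
  C.stOne _

theorem f2307 : C.T (v12 C) [14, 48, 64, 73, 93, 109, 113] (v13 C) [] :=
  C.defn _ _

theorem f2308 : C.S (v12 C) [20, 27, 53, 71, 108, 110, 119] :=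
  C.stInv (f2186 C) _ (by decide +kernel)

theorem f2309 : C.S (v12 C) [7, 38, 60, 83, 97, 110, 112] :=
  C.stMul (f2308 C) (f2193 C) _ (by decide +kernel)

theorem f2310 : C.S (v13 C) [23, 46, 58, 81, 101, 122] :=
  C.transfer (f2307 C) (f2309 C) [145, 157, 165, 172] _ (by decide +kernel) (by decide +kernel) (by decide +kernel)

theorem f2311 : C.S (v13 C) [24, 29, 69, 79, 90, 109, 122] :=
  C.transfer (f2307 C) (f2200 C) [146, 165, 171, 177] _ (by decide +kernel) (by decide +kernel) (by decide +kernel)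

theorem f2312 : C.S (v12 C) [20, 27, 53, 71, 108, 110, 119] :=
  C.stInv (f2186 C) _ (by decide +kernel)

theorem f2313 : C.S (v12 C) [68, 79, 96, 110, 112] :=
  C.stMul (f2312 C) (f2211 C) _ (by decide +kernel)

theorem f2314 : C.S (v13 C) [11, 34, 59, 70, 103, 110, 121] :=
  C.transfer (f2307 C) (f2313 C) [133, 160, 164, 171] _ (by decide +kernel) (by decide +kernel) (by decide +kernel)

theorem f2315 : C.S (v12 C) [20, 33, 63, 70, 91, 109, 116] :=
  C.stMul (f2186 C) (f2180 C) _ (by decide +kernel)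

theorem f2316 : C.S (v12 C) [11, 45, 70, 104, 115] :=
  C.stInv (f2180 C) _ (by decide +kernel)

theorem f2317 : C.S (v12 C) [7, 35, 65, 84, 106, 110, 119] :=
  C.stMul (f2316 C) (f2315 C) _ (by decide +kernel)

theorem f2318 : C.S (v13 C) [23, 35, 68, 80, 91, 110, 123] :=
  C.transfer (f2307 C) (f2317 C) [145, 159, 168, 171, 178] _ (by decide +kernel) (by decide +kernel) (by decide +kernel)

theorem f2320 : C.T (v12 C) [19, 36, 69, 70, 91, 123] (v12 C) [16, 63, 72, 107, 118] :=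
  C.conv (f2249 C) (f2253 C) (f2253 C) _ [140, 153, 171, 178] _ (by decide +kernel) (by decide +kernel) (by decide +kernel)

theorem f2321 : C.T (v12 C) [16, 30, 54, 71, 97, 117] (v13 C) [23, 31, 66, 85, 90, 109, 118] :=
  C.conv (f2307 C) (f2305 C) (f2180 C) _ [145, 152, 169, 172, 178] _ (by decide +kernel) (by decide +kernel) (by decide +kernel)

theorem f2322 : C.T (v13 C) [35, 56, 71, 103, 110, 124] (v12 C) [6, 65, 79, 91, 109, 111] :=
  C.closeT (p := (v12 C)) (pu := [19, 36, 69, 70, 91, 123])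
    (C.pT (f2320 C)
    (C.pH [12, 35, 50, 83] [16, 30, 54, 71, 97, 117] (by decide +kernel)
    (C.pT (f2321 C)
    (C.pH [12, 35, 50, 83] [35, 56, 71, 103, 110, 124] (by decide +kernel) (C.pNil _ _)))))
    (C.pH [12, 35, 50, 83] [19, 36, 69, 70, 91, 123] (by decide +kernel) (C.pNil _ _))
    (C.loop_of_one (relLoop0 C) _ _)

theorem f2323 : C.T (v12 C) [6, 65, 79, 91, 109, 111] (v13 C) [35, 56, 71, 103, 110, 124] :=
  C.flip (f2322 C)

theorem f2324 : C.T (v12 C) [6, 65, 79, 91, 109, 111] (v13 C) [12, 44, 53, 74, 104, 114] :=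
  C.conv (f2307 C) (f2305 C) (f2180 C) _ [134, 155, 166, 175, 177] _ (by decide +kernel) (by decide +kernel) (by decide +kernel)

theorem f2325 : C.E (v13 C) [12, 44, 53, 74, 104, 114] (v13 C) [35, 56, 71, 103, 110, 124] :=
  C.sameSrc (f2324 C) (f2323 C)

theorem f2326 : C.S (v13 C) [20, 27, 50, 74, 98, 109, 112] :=
  C.stEq (f2325 C) _ (by decide +kernel)

theorem f2331 : C.T (v12 C) [26, 32, 68, 75, 99] (v13 C) [31, 60, 78, 92, 110, 114] :=
  C.conv (f2307 C) (f2305 C) (f2305 C) _ [152, 166, 175, 178] _ (by decide +kernel) (by decide +kernel) (by decide +kernel)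

theorem f2332 : C.S (v12 C) [12, 29, 59, 75, 101, 110, 117] :=
  C.stMul (f2193 C) (f2180 C) _ (by decide +kernel)

theorem f2333 : C.S (v12 C) [25, 35, 55, 86, 105, 110] :=
  C.stMul (f2200 C) (f2332 C) _ (by decide +kernel)

theorem f2334 : C.T (v12 C) [13, 53, 81, 103, 110, 118] (v13 C) [14, 32, 69, 86, 93, 121] :=
  C.conv (f2307 C) (f2305 C) (f2333 C) _ [136, 162, 175, 178] _ (by decide +kernel) (by decide +kernel) (by decide +kernel)

theorem f2335 : C.T (v13 C) [14, 32, 69, 86, 93, 121] (v12 C) [13, 53, 81, 103, 110, 118] :=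
  C.flip (f2334 C)

theorem f2336 : C.T (v13 C) [12, 39, 51, 93, 110, 118] (v13 C) [14, 42, 66, 76, 108, 109, 121] :=
  C.closeT (p := (v12 C)) (pu := [26, 32, 68, 75, 99])
    (C.pT (f2331 C)
    (C.pH [12, 35, 50, 83] [12, 39, 51, 93, 110, 118] (by decide +kernel) (C.pNil _ _)))
    (C.pH [12, 35, 50, 83] [14, 32, 69, 86, 93, 121] (by decide +kernel)
    (C.pT (f2335 C)
    (C.pH [12, 35, 50, 83] [26, 32, 68, 75, 99] (by decide +kernel) (C.pNil _ _))))
    (C.loop_of_one (relLoop0 C) _ _)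

theorem f2338 : C.S (v13 C) [26, 27, 66, 79, 96, 121] :=
  C.stMul (f2310 C) (f2311 C) _ (by decide +kernel)

theorem f2339 : C.S (v13 C) [24, 41, 64, 84, 96, 110, 123] :=
  C.stMul (f2326 C) (f2338 C) _ (by decide +kernel)

theorem f2340 : C.S (v13 C) [28, 54, 82, 94, 109, 122] :=
  C.stMul (f2311 C) (f2339 C) _ (by decide +kernel)

theorem f2341 : C.S (v13 C) [20, 37, 67, 80, 101, 110, 115] :=
  C.stMul (f2326 C) (f2340 C) _ (by decide +kernel)

theorem f2342 : C.S (v13 C) [10, 27, 50, 80, 91, 109, 122] :=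
  C.stMul (f2311 C) (f2341 C) _ (by decide +kernel)

theorem f2344 : C.T (v12 C) [21, 44, 53, 71, 100, 121] (v12 C) [13, 38, 55, 83, 93, 113] :=
  C.conv (f2236 C) (f2239 C) (f2239 C) _ [134, 158, 165, 171, 177] _ (by decide +kernel) (by decide +kernel) (by decide +kernel)

theorem f2345 : C.S (v12 C) [4, 32, 68, 75, 97, 110, 118] :=
  C.stMul (f2200 C) (f2186 C) _ (by decide +kernel)

theorem f2346 : C.S (v12 C) [21, 29, 68, 79, 104, 122] :=
  C.stMul (f2193 C) (f2345 C) _ (by decide +kernel)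

theorem f2347 : C.T (v12 C) [10, 30, 63, 83, 101, 111] (v13 C) [15, 30, 56, 70, 97, 110, 119] :=
  C.conv (f2307 C) (f2305 C) (f2346 C) _ [137, 149, 164, 173, 178] _ (by decide +kernel) (by decide +kernel) (by decide +kernel)

theorem f2348 : C.T (v13 C) [15, 30, 56, 70, 97, 110, 119] (v12 C) [10, 30, 63, 83, 101, 111] :=
  C.flip (f2347 C)

theorem f2349 : C.S (v13 C) [20, 32, 66, 89, 107, 109, 119] :=
  C.stMul (f2314 C) (f2310 C) _ (by decide +kernel)

theorem f2350 : C.S (v13 C) [10, 37, 61, 70, 101, 110, 118] :=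
  C.stMul (f2311 C) (f2349 C) _ (by decide +kernel)

theorem f2351 : C.S (v13 C) [8, 30, 55, 70, 99, 110, 118] :=
  C.stMul (f2318 C) (f2350 C) _ (by decide +kernel)

theorem f2352 : C.S (v13 C) [8, 30, 55, 87, 108, 109, 125] :=
  C.stMul (f2326 C) (f2351 C) _ (by decide +kernel)

theorem f2353 : C.T (v13 C) [10, 42, 60, 86, 91, 117] (v13 C) [17, 40, 63, 72, 108, 110, 111] :=
  C.conv (f2336 C) (f2342 C) (f2352 C) _ [154, 171] _ (by decide +kernel) (by decide +kernel) (by decide +kernel)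

theorem f2354 : C.T (v13 C) [17, 40, 63, 72, 108, 110, 111] (v13 C) [10, 42, 60, 86, 91, 117] :=
  C.flip (f2353 C)

theorem f2355 : C.T (v12 C) [11, 37, 64, 87, 103, 110, 114] (v13 C) [19, 37, 102, 109, 114] :=
  C.closeT (p := (v12 C)) (pu := [21, 44, 53, 71, 100, 121])
    (C.pT (f2344 C)
    (C.pH [8, 30, 65, 84, 94, 117] [11, 37, 64, 87, 103, 110, 114] (by decide +kernel) (C.pNil _ _)))
    (C.pH [26, 38, 54, 89, 90, 113] [17, 40, 63, 72, 108, 110, 111] (by decide +kernel)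
    (C.pT (f2354 C)
    (C.pH [8, 30, 65, 84, 94, 117] [15, 30, 56, 70, 97, 110, 119] (by decide +kernel)
    (C.pT (f2348 C)
    (C.pH [26, 38, 54, 89, 90, 113] [21, 44, 53, 71, 100, 121] (by decide +kernel) (C.pNil _ _))))))
    (C.loop_of_one (relLoop1 C) _ _)

theorem f2356 : C.T (v13 C) [19, 37, 102, 109, 114] (v12 C) [11, 37, 64, 87, 103, 110, 114] :=
  C.flip (f2355 C)

theorem f2357 : C.S (v13 C) [10, 38, 57, 72, 105, 109, 125] :=
  C.stMul (f2311 C) (f2326 C) _ (by decide +kernel)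

theorem f2358 : C.S (v13 C) [10, 34, 51, 71, 94, 110, 116] :=
  C.stMul (f2326 C) (f2357 C) _ (by decide +kernel)

theorem f2359 : C.S (v13 C) [8, 31, 67, 77, 103, 113] :=
  C.stMul (f2318 C) (f2358 C) _ (by decide +kernel)

theorem f2360 : C.S (v13 C) [26, 45, 53, 85, 105, 115] :=
  C.stMul (f2311 C) (f2359 C) _ (by decide +kernel)

theorem f2361 : C.S (v13 C) [24, 30, 62, 82, 91, 124] :=
  C.stMul (f2326 C) (f2360 C) _ (by decide +kernel)

theorem f2362 : C.S (v13 C) [39, 58, 74, 92, 110, 112] :=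
  C.stMul (f2311 C) (f2361 C) _ (by decide +kernel)

theorem f2363 : C.S (v13 C) [23, 43, 49, 79, 107, 121] :=
  C.stMul (f2310 C) (f2362 C) _ (by decide +kernel)

theorem f2364 : C.S (v13 C) [20, 34, 69, 88, 104, 110, 120] :=
  C.stMul (f2314 C) (f2363 C) _ (by decide +kernel)

theorem f2365 : C.T (v13 C) [19, 37, 102, 109, 114] (v12 C) [9, 56, 77, 115] :=
  C.conv (f2322 C) (f2326 C) (f2364 C) _ [162, 164, 176, 177] _ (by decide +kernel) (by decide +kernel) (by decide +kernel)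

theorem f2366 : C.E (v12 C) [9, 56, 77, 115] (v12 C) [11, 37, 64, 87, 103, 110, 114] :=
  C.sameSrc (f2365 C) (f2356 C)

theorem f2367 : C.S (v12 C) [12, 28, 62, 76, 93, 110, 111] :=
  C.stEq (f2366 C) _ (by decide +kernel)

theorem f2370 : C.S (v12 C) [25, 43, 89, 99, 109, 120] :=
  C.stMul (f2200 C) (f2367 C) _ (by decide +kernel)

theorem f2375 : C.S (v12 C) [] :=
  C.stOne _

theorem f2394 : C.S (v12 C) [10] :=
  C.stMul (f2200 C) (f2180 C) _ (by decide +kernel)

theorem f2395 : C.S (v12 C) [9, 36, 53, 70, 107, 110, 121] :=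
  C.stMul (f2367 C) (f2394 C) _ (by decide +kernel)

theorem f2401 : C.T (v12 C) [] (v13 C) [16, 38, 61, 81, 91, 110, 124] :=
  C.conv (f2355 C) (f2370 C) (f2375 C) _ [153, 169, 177] _ (by decide +kernel) (by decide +kernel) (by decide +kernel)

theorem f2402 : C.E (v13 C) [16, 38, 61, 81, 91, 110, 124] (v11 C) [6] :=
  C.sameSrc (f2401 C) (f2201 C)

theorem f2403 : C.E (v11 C) [6] (v13 C) [16, 38, 61, 81, 91, 110, 124] :=
  C.esymm (f2402 C)

theorem f2404 : C.E (v11 C) [] (v13 C) [14, 37, 51, 105, 111] :=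
  C.norm (f2403 C) _ (by decide +kernel)

theorem f2413 : C.T (v11 C) [17, 46, 66, 81, 90, 109, 117] (v13 C) [5, 38, 49, 84, 93, 121] :=
  C.substR (f2167 C) (f2404 C) _ (by decide +kernel)

theorem f2414 : C.T (v13 C) [21, 48, 58, 89] (v13 C) [5, 38, 49, 84, 93, 121] :=
  C.substL (f2413 C) (f2404 C) _ (by decide +kernel)

theorem f2428 : C.T (v13 C) [4, 31, 68, 75, 92, 110, 122] (v10 C) [12, 46, 60, 86, 90, 125] :=
  C.substL (f2140 C) (f2404 C) _ (by decide +kernel)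

theorem f2433 : C.T (v12 C) [7, 43] (v14 C) [] :=
  C.defn _ _

theorem f2434 : C.S (v12 C) [11, 34, 59, 70, 103, 110, 121] :=
  C.stMul (f2186 C) (f2186 C) _ (by decide +kernel)

theorem f2435 : C.S (v12 C) [18, 35, 55, 86, 105, 110] :=
  C.stInv (f2193 C) _ (by decide +kernel)

theorem f2436 : C.S (v12 C) [12, 65, 87] :=
  C.stMul (f2435 C) (f2434 C) _ (by decide +kernel)

theorem f2437 : C.S (v14 C) [23, 39, 54, 78, 96] :=
  C.transfer (f2433 C) (f2436 C) [145, 161, 167, 172] _ (by decide +kernel) (by decide +kernel) (by decide +kernel)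

theorem f2438 : C.S (v12 C) [4, 32, 68, 75, 97, 110, 118] :=
  C.stMul (f2200 C) (f2186 C) _ (by decide +kernel)

theorem f2439 : C.S (v12 C) [18, 35, 55, 86, 105, 110] :=
  C.stInv (f2193 C) _ (by decide +kernel)

theorem f2440 : C.S (v12 C) [21, 29, 68, 79, 104, 122] :=
  C.stMul (f2439 C) (f2438 C) _ (by decide +kernel)

theorem f2441 : C.S (v14 C) [25, 65, 83, 106, 122] :=
  C.transfer (f2433 C) (f2440 C) [147, 154, 169, 178] _ (by decide +kernel) (by decide +kernel) (by decide +kernel)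

theorem f2442 : C.S (v12 C) [15, 42, 53, 80, 91, 112] :=
  C.stMul (f2367 C) (f2193 C) _ (by decide +kernel)

theorem f2443 : C.S (v12 C) [20, 27, 53, 71, 108, 110, 119] :=
  C.stInv (f2186 C) _ (by decide +kernel)

theorem f2444 : C.S (v12 C) [21, 42, 69, 81, 91, 109, 112] :=
  C.stMul (f2443 C) (f2442 C) _ (by decide +kernel)

theorem f2445 : C.S (v14 C) [10, 48, 53, 73, 100, 109, 116] :=
  C.transfer (f2433 C) (f2444 C) [132, 163, 174, 177] _ (by decide +kernel) (by decide +kernel) (by decide +kernel)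

theorem f2447 : C.T (v12 C) [18, 42, 81, 94, 124] (v12 C) [12, 33, 52, 99, 110, 120] :=
  C.conv (f2236 C) (f2395 C) (f2395 C) _ [132, 163, 166, 175] _ (by decide +kernel) (by decide +kernel) (by decide +kernel)

theorem f2448 : C.T (v12 C) [23, 33, 65, 78, 95, 109, 111] (v14 C) [8, 44, 66, 82, 100, 118] :=
  C.conv (f2433 C) (f2375 C) (f2186 C) _ [130, 166, 172] _ (by decide +kernel) (by decide +kernel) (by decide +kernel)

theorem f2449 : C.T (v14 C) [10, 46, 58, 82, 108, 117] (v12 C) [18, 42, 60, 84, 116] :=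
  C.closeT (p := (v12 C)) (pu := [18, 42, 81, 94, 124])
    (C.pT (f2447 C)
    (C.pH [12, 35, 50, 83] [23, 33, 65, 78, 95, 109, 111] (by decide +kernel)
    (C.pT (f2448 C)
    (C.pH [12, 35, 50, 83] [10, 46, 58, 82, 108, 117] (by decide +kernel) (C.pNil _ _)))))
    (C.pH [12, 35, 50, 83] [18, 42, 81, 94, 124] (by decide +kernel) (C.pNil _ _))
    (C.loop_of_one (relLoop0 C) _ _)

theorem f2450 : C.T (v12 C) [18, 42, 60, 84, 116] (v14 C) [10, 46, 58, 82, 108, 117] :=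
  C.flip (f2449 C)

theorem f2451 : C.S (v12 C) [11, 34, 60, 72, 108, 110, 117] :=
  C.stMul (f2186 C) (f2211 C) _ (by decide +kernel)

theorem f2452 : C.T (v12 C) [18, 42, 60, 84, 116] (v14 C) [10, 46, 69, 77, 104] :=
  C.conv (f2433 C) (f2375 C) (f2451 C) _ [132, 161, 164, 177] _ (by decide +kernel) (by decide +kernel) (by decide +kernel)

theorem f2453 : C.E (v14 C) [10, 46, 69, 77, 104] (v14 C) [10, 46, 58, 82, 108, 117] :=
  C.sameSrc (f2452 C) (f2450 C)

theorem f2454 : C.S (v14 C) [59, 85, 107, 109, 114] :=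
  C.stEq (f2453 C) _ (by decide +kernel)

theorem f2457 : C.S (v14 C) [] :=
  C.stOne _

theorem f2459 : C.T (v12 C) [16, 39, 64, 82, 104, 109, 121] (v14 C) [5, 39, 56, 86, 98, 118] :=
  C.conv (f2433 C) (f2375 C) (f2375 C) _ [127, 163, 167, 171, 177] _ (by decide +kernel) (by decide +kernel) (by decide +kernel)

theorem f2460 : C.S (v12 C) [22, 32, 51, 84, 101, 110, 111] :=
  C.stMul (f2180 C) (f2211 C) _ (by decide +kernel)

theorem f2461 : C.T (v12 C) [16, 39, 65, 81, 106, 109, 113] (v14 C) [20, 42, 57, 78, 94, 110, 117] :=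
  C.conv (f2433 C) (f2375 C) (f2460 C) _ [142, 153, 177] _ (by decide +kernel) (by decide +kernel) (by decide +kernel)

theorem f2462 : C.T (v14 C) [20, 42, 57, 78, 94, 110, 117] (v12 C) [16, 39, 65, 81, 106, 109, 113] :=
  C.flip (f2461 C)

theorem f2463 : C.T (v14 C) [5, 28, 60, 79, 99, 109, 121] (v14 C) [11, 64, 85, 98, 113] :=
  C.closeT (p := (v12 C)) (pu := [16, 39, 64, 82, 104, 109, 121])
    (C.pT (f2459 C)
    (C.pH [12, 35, 50, 83] [5, 28, 60, 79, 99, 109, 121] (by decide +kernel) (C.pNil _ _)))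
    (C.pH [12, 35, 50, 83] [20, 42, 57, 78, 94, 110, 117] (by decide +kernel)
    (C.pT (f2462 C)
    (C.pH [12, 35, 50, 83] [16, 39, 64, 82, 104, 109, 121] (by decide +kernel) (C.pNil _ _))))
    (C.loop_of_one (relLoop0 C) _ _)

theorem f2467 : C.T (v12 C) [6, 30, 65, 75, 101, 109, 117] (v12 C) [25, 43, 66, 87, 103, 113] :=
  C.conv (f2236 C) (f2395 C) (f2395 C) _ [133, 157, 164] _ (by decide +kernel) (by decide +kernel) (by decide +kernel)

theorem f2468 : C.T (v12 C) [9, 31, 68, 81, 95, 115] (v14 C) [11, 44, 50, 87, 92, 110, 114] :=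
  C.conv (f2433 C) (f2375 C) (f2451 C) _ [133, 153, 170, 178] _ (by decide +kernel) (by decide +kernel) (by decide +kernel)

theorem f2469 : C.S (v12 C) [20, 43, 59, 78, 105, 117] :=
  C.stMul (f2211 C) (f2180 C) _ (by decide +kernel)

theorem f2470 : C.S (v12 C) [24, 38, 64, 70, 95, 125] :=
  C.stMul (f2200 C) (f2469 C) _ (by decide +kernel)

theorem f2471 : C.T (v12 C) [21, 40, 58, 79, 119] (v14 C) [6, 27, 60, 79, 95, 110, 125] :=
  C.conv (f2433 C) (f2375 C) (f2470 C) _ [128, 152, 169, 174] _ (by decide +kernel) (by decide +kernel) (by decide +kernel)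

theorem f2472 : C.T (v14 C) [6, 27, 60, 79, 95, 110, 125] (v12 C) [21, 40, 58, 79, 119] :=
  C.flip (f2471 C)

theorem f2473 : C.T (v14 C) [24, 36, 60, 87, 97, 110] (v14 C) [22, 29, 53, 82, 98, 109, 111] :=
  C.closeT (p := (v12 C)) (pu := [6, 30, 65, 75, 101, 109, 117])
    (C.pT (f2467 C)
    (C.pH [8, 30, 65, 84, 94, 117] [9, 31, 68, 81, 95, 115] (by decide +kernel)
    (C.pT (f2468 C)
    (C.pH [26, 38, 54, 89, 90, 113] [24, 36, 60, 87, 97, 110] (by decide +kernel) (C.pNil _ _)))))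
    (C.pH [8, 30, 65, 84, 94, 117] [6, 27, 60, 79, 95, 110, 125] (by decide +kernel)
    (C.pT (f2472 C)
    (C.pH [26, 38, 54, 89, 90, 113] [6, 30, 65, 75, 101, 109, 117] (by decide +kernel) (C.pNil _ _))))
    (C.loop_of_one (relLoop1 C) _ _)

theorem f2475 : C.S (v14 C) [19, 47, 55, 79, 92, 114] :=
  C.stMul (f2445 C) (f2445 C) _ (by decide +kernel)

theorem f2478 : C.T (v12 C) [20, 39, 64, 70, 90, 110, 122] (v12 C) [7, 38, 62, 79, 93, 109, 112] :=
  C.conv (f2236 C) (f2395 C) (f2395 C) _ [130, 155, 164, 171, 177] _ (by decide +kernel) (by decide +kernel) (by decide +kernel)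

theorem f2479 : C.S (v12 C) [6, 46, 81, 101, 114] :=
  C.stMul (f2211 C) (f2200 C) _ (by decide +kernel)

theorem f2480 : C.S (v12 C) [8, 40, 60, 86, 92, 109, 111] :=
  C.stMul (f2186 C) (f2479 C) _ (by decide +kernel)

theorem f2481 : C.T (v12 C) [35, 59, 75, 92, 110, 111] (v14 C) [18, 47, 59, 80, 107, 115] :=
  C.conv (f2433 C) (f2375 C) (f2480 C) _ [140, 155, 165, 175, 178] _ (by decide +kernel) (by decide +kernel) (by decide +kernel)

theorem f2482 : C.T (v12 C) [16, 46, 49, 83, 94, 113] (v14 C) [24, 49, 88, 99, 114] :=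
  C.conv (f2433 C) (f2375 C) (f2180 C) _ [146, 149, 165, 173] _ (by decide +kernel) (by decide +kernel) (by decide +kernel)

theorem f2483 : C.T (v14 C) [24, 49, 88, 99, 114] (v12 C) [16, 46, 49, 83, 94, 113] :=
  C.flip (f2482 C)

theorem f2484 : C.T (v14 C) [4, 29, 64, 87, 103, 110, 125] (v14 C) [11, 46, 59, 73, 104, 109, 121] :=
  C.closeT (p := (v12 C)) (pu := [20, 39, 64, 70, 90, 110, 122])
    (C.pT (f2478 C)
    (C.pH [26, 38, 54, 89, 90, 113] [35, 59, 75, 92, 110, 111] (by decide +kernel)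
    (C.pT (f2481 C)
    (C.pH [8, 30, 65, 84, 94, 117] [4, 29, 64, 87, 103, 110, 125] (by decide +kernel) (C.pNil _ _)))))
    (C.pH [26, 38, 54, 89, 90, 113] [24, 49, 88, 99, 114] (by decide +kernel)
    (C.pT (f2483 C)
    (C.pH [8, 30, 65, 84, 94, 117] [20, 39, 64, 70, 90, 110, 122] (by decide +kernel) (C.pNil _ _))))
    (C.loop_of_one (relLoop2 C) _ _)

theorem f2486 : C.S (v14 C) [26, 34, 58, 72, 92, 116] :=
  C.stMul (f2441 C) (f2445 C) _ (by decide +kernel)

theorem f2488 : C.T (v12 C) [18, 41, 56, 76, 96, 112] (v14 C) [12, 46, 68, 75, 94, 123] :=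
  C.conv (f2433 C) (f2375 C) (f2375 C) _ [134, 160, 170, 171] _ (by decide +kernel) (by decide +kernel) (by decide +kernel)

theorem f2489 : C.S (v12 C) [17, 41, 67, 79, 96, 110, 120] :=
  C.stMul (f2367 C) (f2211 C) _ (by decide +kernel)

theorem f2490 : C.S (v12 C) [8, 38, 57, 105, 109, 115] :=
  C.stMul (f2211 C) (f2489 C) _ (by decide +kernel)

theorem f2491 : C.S (v12 C) [15, 41, 64, 85, 105, 110, 118] :=
  C.stMul (f2200 C) (f2490 C) _ (by decide +kernel)

theorem f2492 : C.S (v12 C) [22, 30, 59, 82, 99, 110, 124] :=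
  C.stMul (f2211 C) (f2367 C) _ (by decide +kernel)

theorem f2493 : C.S (v12 C) [21, 43, 57, 88, 101] :=
  C.stMul (f2200 C) (f2492 C) _ (by decide +kernel)

theorem f2494 : C.T (v12 C) [9, 35, 53, 78, 94, 110] (v10 C) [19, 42, 60, 88, 104, 110, 118] :=
  C.conv (f2209 C) (f2491 C) (f2493 C) _ [147, 149, 175, 178] _ (by decide +kernel) (by decide +kernel) (by decide +kernel)

theorem f2495 : C.T (v10 C) [19, 42, 60, 88, 104, 110, 118] (v12 C) [9, 35, 53, 78, 94, 110] :=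
  C.flip (f2494 C)

theorem f2496 : C.S (v10 C) [22, 38, 58, 88, 93, 121] :=
  C.stMul (f1722 C) (f1709 C) _ (by decide +kernel)

theorem f2497 : C.T (v10 C) [22, 47, 51, 88, 90, 110] (v9 C) [12, 39, 63, 83, 107, 109, 121] :=
  C.conv (f2001 C) (f2006 C) (f2496 C) _ [144, 161, 166, 175] _ (by decide +kernel) (by decide +kernel) (by decide +kernel)

theorem f2498 : C.T (v9 C) [12, 39, 63, 83, 107, 109, 121] (v10 C) [22, 47, 51, 88, 90, 110] :=
  C.flip (f2497 C)

theorem f2499 : C.T (v14 C) [14, 38, 67, 79, 93, 110, 121] (v9 C) [5, 48, 65, 74, 97, 116] :=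
  C.closeT (p := (v12 C)) (pu := [18, 41, 56, 76, 96, 112])
    (C.pT (f2488 C)
    (C.pH [26, 38, 54, 89, 90, 113] [14, 38, 67, 79, 93, 110, 121] (by decide +kernel) (C.pNil _ _)))
    (C.pH [8, 30, 65, 84, 94, 117] [12, 39, 63, 83, 107, 109, 121] (by decide +kernel)
    (C.pT (f2498 C)
    (C.pH [26, 38, 54, 89, 90, 113] [19, 42, 60, 88, 104, 110, 118] (by decide +kernel)
    (C.pT (f2495 C)
    (C.pH [8, 30, 65, 84, 94, 117] [18, 41, 56, 76, 96, 112] (by decide +kernel) (C.pNil _ _))))))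
    (C.loop_of_one (relLoop2 C) _ _)

theorem f2500 : C.T (v9 C) [5, 48, 65, 74, 97, 116] (v14 C) [14, 38, 67, 79, 93, 110, 121] :=
  C.flip (f2499 C)

theorem f2501 : C.T (v14 C) [12, 45, 55, 80, 93, 109, 115] (v14 C) [17, 44, 57, 75, 91, 110, 124] :=
  C.conv (f2484 C) (f2486 C) (f2486 C) _ [130, 150, 164, 177] _ (by decide +kernel) (by decide +kernel) (by decide +kernel)

theorem f2502 : C.S (v14 C) [26, 49, 71, 102, 110, 114] :=
  C.stMul (f2445 C) (f2441 C) _ (by decide +kernel)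

theorem f2503 : C.T (v14 C) [39, 69, 79, 93, 110, 125] (v14 C) [17, 44, 57, 75, 91, 110, 122] :=
  C.conv (f2484 C) (f2486 C) (f2502 C) _ [130, 154, 165, 175, 178] _ (by decide +kernel) (by decide +kernel) (by decide +kernel)

theorem f2504 : C.T (v14 C) [17, 44, 57, 75, 91, 110, 122] (v14 C) [39, 69, 79, 93, 110, 125] :=
  C.flip (f2503 C)

theorem f2505 : C.T (v14 C) [25, 41, 66, 70, 106, 109] (v14 C) [9, 27, 57, 75, 91, 110, 122] :=
  C.closeT (p := (v14 C)) (pu := [12, 45, 55, 80, 93, 109, 115])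
    (C.pT (f2501 C)
    (C.pH [12, 35, 50, 83] [25, 41, 66, 70, 106, 109] (by decide +kernel) (C.pNil _ _)))
    (C.pH [12, 35, 50, 83] [17, 44, 57, 75, 91, 110, 122] (by decide +kernel)
    (C.pT (f2504 C)
    (C.pH [12, 35, 50, 83] [12, 45, 55, 80, 93, 109, 115] (by decide +kernel) (C.pNil _ _))))
    (C.loop_of_one (relLoop0 C) _ _)

theorem f2508 : C.S (v14 C) [26, 34, 58, 72, 92, 116] :=
  C.stMul (f2441 C) (f2445 C) _ (by decide +kernel)

theorem f2509 : C.S (v14 C) [26, 47, 69, 82, 106, 110, 113] :=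
  C.stMul (f2437 C) (f2508 C) _ (by decide +kernel)

theorem f2510 : C.S (v14 C) [23, 43, 65, 81, 95, 109] :=
  C.stMul (f2441 C) (f2509 C) _ (by decide +kernel)

theorem f2511 : C.S (v14 C) [10, 39, 62, 70, 122] :=
  C.stMul (f2441 C) (f2510 C) _ (by decide +kernel)

theorem f2512 : C.T (v14 C) [19, 33, 59, 86, 102, 109, 121] (v9 C) [17, 27, 53, 86, 123] :=
  C.conv (f2499 C) (f2511 C) (f2511 C) _ [135, 162, 168] _ (by decide +kernel) (by decide +kernel) (by decide +kernel)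

theorem f2513 : C.S (v9 C) [25, 29, 50, 71, 91, 114] :=
  C.stMul (f1620 C) (f1624 C) _ (by decide +kernel)

theorem f2514 : C.S (v9 C) [23, 37, 55, 75, 92, 110, 123] :=
  C.stMul (f1624 C) (f1607 C) _ (by decide +kernel)

theorem f2515 : C.S (v9 C) [25, 29, 52, 87, 96, 125] :=
  C.stMul (f1620 C) (f2514 C) _ (by decide +kernel)

theorem f2516 : C.T (v9 C) [25, 37, 82, 96, 110, 125] (v14 C) [4, 28, 62, 70, 121] :=
  C.conv (f2500 C) (f2513 C) (f2515 C) _ [148, 159, 166, 173, 178] _ (by decide +kernel) (by decide +kernel) (by decide +kernel)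

theorem f2517 : C.T (v14 C) [13, 40, 67, 89, 92, 109, 115] (v14 C) [6, 45, 69, 70, 102, 110, 112] :=
  C.closeT (p := (v14 C)) (pu := [19, 33, 59, 86, 102, 109, 121])
    (C.pT (f2512 C)
    (C.pH [12, 35, 50, 83] [25, 37, 82, 96, 110, 125] (by decide +kernel)
    (C.pT (f2516 C)
    (C.pH [12, 35, 50, 83] [13, 40, 67, 89, 92, 109, 115] (by decide +kernel) (C.pNil _ _)))))
    (C.pH [12, 35, 50, 83] [19, 33, 59, 86, 102, 109, 121] (by decide +kernel) (C.pNil _ _))
    (C.loop_of_one (relLoop0 C) _ _)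

theorem f2519 : C.S (v14 C) [25, 28, 49, 74, 104, 109, 114] :=
  C.stMul (f2437 C) (f2445 C) _ (by decide +kernel)

theorem f2520 : C.S (v14 C) [26, 48, 65, 72, 103, 114] :=
  C.stMul (f2445 C) (f2519 C) _ (by decide +kernel)

theorem f2522 : C.T (v14 C) [16, 44, 51, 89, 91, 109, 118] (v9 C) [15, 43, 58, 76, 94, 121] :=
  C.conv (f2499 C) (f2511 C) (f2511 C) _ [131, 158, 170] _ (by decide +kernel) (by decide +kernel) (by decide +kernel)

theorem f2523 : C.S (v9 C) [10, 47, 79, 100, 110, 114] :=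
  C.stMul (f1620 C) (f1607 C) _ (by decide +kernel)

theorem f2524 : C.S (v9 C) [23, 37, 55, 75, 92, 110, 123] :=
  C.stMul (f1624 C) (f1607 C) _ (by decide +kernel)

theorem f2525 : C.S (v9 C) [25, 29, 52, 87, 96, 125] :=
  C.stMul (f1620 C) (f2524 C) _ (by decide +kernel)

theorem f2526 : C.T (v9 C) [15, 31, 59, 70, 106, 122] (v10 C) [9, 37, 63, 73, 101, 110, 118] :=
  C.conv (f2033 C) (f2523 C) (f2525 C) _ [147, 156, 168, 174, 177] _ (by decide +kernel) (by decide +kernel) (by decide +kernel)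

theorem f2527 : C.T (v10 C) [17, 36, 61, 72, 91, 113] (v14 C) [16, 30, 62, 87, 108, 109, 116] :=
  C.closeT (p := (v14 C)) (pu := [16, 44, 51, 89, 91, 109, 118])
    (C.pT (f2522 C)
    (C.pH [12, 35, 50, 83] [15, 31, 59, 70, 106, 122] (by decide +kernel)
    (C.pT (f2526 C)
    (C.pH [12, 35, 50, 83] [17, 36, 61, 72, 91, 113] (by decide +kernel) (C.pNil _ _)))))
    (C.pH [12, 35, 50, 83] [16, 44, 51, 89, 91, 109, 118] (by decide +kernel) (C.pNil _ _))
    (C.loop_of_one (relLoop0 C) _ _)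

theorem f2528 : C.T (v14 C) [16, 30, 62, 87, 108, 109, 116] (v10 C) [17, 36, 61, 72, 91, 113] :=
  C.flip (f2527 C)

theorem f2529 : C.T (v14 C) [10, 37, 76, 98, 117] (v9 C) [9, 69, 72, 90, 110, 111] :=
  C.conv (f2499 C) (f2511 C) (f2511 C) _ [142, 161, 169, 175, 177] _ (by decide +kernel) (by decide +kernel) (by decide +kernel)

theorem f2530 : C.S (v9 C) [13, 48, 54, 73, 93, 110, 123] :=
  C.stMul (f1620 C) (f1610 C) _ (by decide +kernel)

theorem f2531 : C.S (v9 C) [4, 28, 59, 71, 101, 109, 111] :=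
  C.stMul (f1624 C) (f2530 C) _ (by decide +kernel)

theorem f2532 : C.S (v9 C) [10, 47, 79, 100, 110, 114] :=
  C.stMul (f1620 C) (f1607 C) _ (by decide +kernel)

theorem f2533 : C.S (v9 C) [10, 28, 52, 73, 91, 110, 119] :=
  C.stMul (f1607 C) (f2532 C) _ (by decide +kernel)

theorem f2534 : C.S (v9 C) [11, 44, 56, 75, 90, 109, 118] :=
  C.stMul (f1620 C) (f2533 C) _ (by decide +kernel)

theorem f2535 : C.T (v9 C) [17, 35, 67, 85, 99, 123] (v4 C) [26, 47, 55, 76, 103, 123] :=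
  C.conv (f2043 C) (f2531 C) (f2534 C) _ [130, 159, 166, 175, 178] _ (by decide +kernel) (by decide +kernel) (by decide +kernel)

theorem f2536 : C.T (v4 C) [4, 48, 57, 80, 91, 109, 115] (v14 C) [8, 37, 52, 88, 100, 116] :=
  C.closeT (p := (v14 C)) (pu := [10, 37, 76, 98, 117])
    (C.pT (f2529 C)
    (C.pH [12, 35, 50, 83] [17, 35, 67, 85, 99, 123] (by decide +kernel)
    (C.pT (f2535 C)
    (C.pH [12, 35, 50, 83] [4, 48, 57, 80, 91, 109, 115] (by decide +kernel) (C.pNil _ _)))))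
    (C.pH [12, 35, 50, 83] [10, 37, 76, 98, 117] (by decide +kernel) (C.pNil _ _))
    (C.loop_of_one (relLoop0 C) _ _)

theorem f2537 : C.T (v14 C) [8, 37, 52, 88, 100, 116] (v4 C) [4, 48, 57, 80, 91, 109, 115] :=
  C.flip (f2536 C)

theorem f2538 : C.T (v14 C) [20, 28, 59, 75, 90, 110, 121] (v14 C) [21, 28, 66, 83, 110, 125] :=
  C.conv (f2473 C) (f2441 C) (f2441 C) _ [128, 158, 170, 176, 177] _ (by decide +kernel) (by decide +kernel) (by decide +kernel)

theorem f2539 : C.T (v14 C) [17, 30, 49, 84, 106, 117] (v14 C) [4, 27, 51, 75, 97, 110, 115] :=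
  C.conv (f2517 C) (f2520 C) (f2457 C) _ [152, 165, 172] _ (by decide +kernel) (by decide +kernel) (by decide +kernel)

theorem f2540 : C.T (v14 C) [4, 27, 51, 75, 97, 110, 115] (v14 C) [17, 30, 49, 84, 106, 117] :=
  C.flip (f2539 C)

theorem f2541 : C.S (v14 C) [26, 49, 71, 102, 110, 114] :=
  C.stMul (f2445 C) (f2441 C) _ (by decide +kernel)

theorem f2542 : C.S (v14 C) [23, 39, 50, 75, 91, 112] :=
  C.stMul (f2445 C) (f2541 C) _ (by decide +kernel)

theorem f2543 : C.T (v14 C) [18, 48, 61, 82, 92, 109, 119] (v14 C) [10, 38, 63, 91, 110, 118] :=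
  C.conv (f2473 C) (f2441 C) (f2542 C) _ [146, 167, 171, 178] _ (by decide +kernel) (by decide +kernel) (by decide +kernel)

theorem f2544 : C.T (v14 C) [10, 38, 63, 91, 110, 118] (v14 C) [18, 48, 61, 82, 92, 109, 119] :=
  C.flip (f2543 C)

theorem f2545 : C.T (v14 C) [24, 38, 63, 82, 102, 123] (v14 C) [18, 32, 60, 86, 101, 124] :=
  C.closeT (p := (v14 C)) (pu := [20, 28, 59, 75, 90, 110, 121])
    (C.pT (f2538 C)
    (C.pH [8, 30, 65, 84, 94, 117] [24, 38, 63, 82, 102, 123] (by decide +kernel) (C.pNil _ _)))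
    (C.pH [26, 38, 54, 89, 90, 113] [10, 38, 63, 91, 110, 118] (by decide +kernel)
    (C.pT (f2544 C)
    (C.pH [8, 30, 65, 84, 94, 117] [4, 27, 51, 75, 97, 110, 115] (by decide +kernel)
    (C.pT (f2540 C)
    (C.pH [26, 38, 54, 89, 90, 113] [20, 28, 59, 75, 90, 110, 121] (by decide +kernel) (C.pNil _ _))))))
    (C.loop_of_one (relLoop1 C) _ _)

theorem f2551 : C.T (v14 C) [6, 28, 64, 81, 100, 111] (v14 C) [26, 33, 54, 74, 108, 110, 116] :=
  C.conv (f2484 C) (f2486 C) (f2486 C) _ [138, 162, 167, 173, 178] _ (by decide +kernel) (by decide +kernel) (by decide +kernel)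

theorem f2552 : C.T (v14 C) [22, 61, 82, 93, 109, 116] (v14 C) [13, 29, 66, 85, 102, 119] :=
  C.conv (f2517 C) (f2520 C) (f2457 C) _ [136, 149, 170, 173, 177] _ (by decide +kernel) (by decide +kernel) (by decide +kernel)

theorem f2553 : C.T (v14 C) [13, 29, 66, 85, 102, 119] (v14 C) [22, 61, 82, 93, 109, 116] :=
  C.flip (f2552 C)

theorem f2554 : C.S (v14 C) [12, 29, 64, 71, 91, 110, 122] :=
  C.stMul (f2441 C) (f2475 C) _ (by decide +kernel)

theorem f2555 : C.S (v14 C) [4, 70, 104, 109, 120] :=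
  C.stMul (f2441 C) (f2554 C) _ (by decide +kernel)

theorem f2556 : C.T (v14 C) [16, 48, 67, 74, 97, 110, 112] (v14 C) [22, 46, 67, 83, 91, 119] :=
  C.conv (f2473 C) (f2441 C) (f2555 C) _ [142, 150, 166, 174, 178] _ (by decide +kernel) (by decide +kernel) (by decide +kernel)

theorem f2557 : C.T (v14 C) [22, 46, 67, 83, 91, 119] (v14 C) [16, 48, 67, 74, 97, 110, 112] :=
  C.flip (f2556 C)

theorem f2558 : C.T (v14 C) [16, 30, 59, 100, 113] (v14 C) [17, 46, 63, 88, 102, 112] :=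
  C.closeT (p := (v14 C)) (pu := [6, 28, 64, 81, 100, 111])
    (C.pT (f2551 C)
    (C.pH [26, 38, 54, 89, 90, 113] [16, 30, 59, 100, 113] (by decide +kernel) (C.pNil _ _)))
    (C.pH [8, 30, 65, 84, 94, 117] [22, 46, 67, 83, 91, 119] (by decide +kernel)
    (C.pT (f2557 C)
    (C.pH [26, 38, 54, 89, 90, 113] [13, 29, 66, 85, 102, 119] (by decide +kernel)
    (C.pT (f2553 C)
    (C.pH [8, 30, 65, 84, 94, 117] [6, 28, 64, 81, 100, 111] (by decide +kernel) (C.pNil _ _))))))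
    (C.loop_of_one (relLoop2 C) _ _)

theorem f2561 : C.T (v5 C) [24, 45] (v15 C) [] :=
  C.defn _ _

theorem f2562 : C.S (v5 C) [13, 35, 69, 89, 94, 109, 112] :=
  C.stMul (f1023 C) (f986 C) _ (by decide +kernel)

theorem f2563 : C.S (v5 C) [38, 59, 83, 100, 109, 119] :=
  C.stInv (f1141 C) _ (by decide +kernel)

theorem f2564 : C.S (v5 C) [24, 42, 52, 76, 99, 109, 120] :=
  C.stMul (f2563 C) (f2562 C) _ (by decide +kernel)

theorem f2565 : C.S (v15 C) [20, 46, 63, 77, 100, 109, 114] :=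
  C.transfer (f2561 C) (f2564 C) [142, 157, 169, 177] _ (by decide +kernel) (by decide +kernel) (by decide +kernel)

theorem f2566 : C.S (v5 C) [7, 29, 66, 74, 106, 124] :=
  C.stMul (f1141 C) (f986 C) _ (by decide +kernel)

theorem f2567 : C.S (v5 C) [11, 37, 62, 72, 90, 110, 124] :=
  C.stInv (f1023 C) _ (by decide +kernel)

theorem f2568 : C.S (v5 C) [13, 30, 62, 89, 99, 110, 119] :=
  C.stMul (f2567 C) (f2566 C) _ (by decide +kernel)

theorem f2569 : C.S (v15 C) [24, 41, 66, 78, 108, 114] :=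
  C.transfer (f2561 C) (f2568 C) [146, 152, 170, 173] _ (by decide +kernel) (by decide +kernel) (by decide +kernel)

theorem f2570 : C.T (v15 C) [] (v5 C) [24, 45] :=
  C.flip (f2561 C)

theorem f2571 : C.T (v4 C) [11, 32, 54, 77, 95, 110, 122] (v5 C) [6, 35, 68, 82, 101, 109, 122] :=
  C.conv (f1044 C) (f1279 C) (f1279 C) _ [133, 153, 170, 172, 178] _ (by decide +kernel) (by decide +kernel) (by decide +kernel)

theorem f2572 : C.S (v5 C) [10, 27, 54, 88, 92, 110, 113] :=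
  C.stMul (f1023 C) (f1023 C) _ (by decide +kernel)

theorem f2573 : C.T (v5 C) [19, 27, 62, 89, 95, 109, 117] (v15 C) [14, 38, 54, 86, 100, 115] :=
  C.conv (f2561 C) (f1153 C) (f2572 C) _ [136, 149, 167, 172, 177] _ (by decide +kernel) (by decide +kernel) (by decide +kernel)

theorem f2574 : C.T (v15 C) [14, 45, 49, 86, 98, 109, 112] (v4 C) [22, 33, 83, 104, 110, 123] :=
  C.closeT (p := (v4 C)) (pu := [11, 32, 54, 77, 95, 110, 122])
    (C.pT (f2571 C)
    (C.pH [12, 35, 50, 83] [19, 27, 62, 89, 95, 109, 117] (by decide +kernel)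
    (C.pT (f2573 C)
    (C.pH [12, 35, 50, 83] [14, 45, 49, 86, 98, 109, 112] (by decide +kernel) (C.pNil _ _)))))
    (C.pH [12, 35, 50, 83] [11, 32, 54, 77, 95, 110, 122] (by decide +kernel) (C.pNil _ _))
    (C.loop_of_one (relLoop0 C) _ _)

theorem f2575 : C.T (v4 C) [22, 33, 83, 104, 110, 123] (v15 C) [14, 45, 49, 86, 98, 109, 112] :=
  C.flip (f2574 C)

theorem f2576 : C.S (v4 C) [18, 46, 49, 75, 97, 110, 118] :=
  C.stMul (f407 C) (f407 C) _ (by decide +kernel)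

theorem f2577 : C.S (v4 C) [23, 45, 57, 77, 95, 110, 118] :=
  C.stMul (f407 C) (f2576 C) _ (by decide +kernel)

theorem f2578 : C.S (v4 C) [13, 28, 60, 83, 108, 110, 119] :=
  C.stMul (f421 C) (f693 C) _ (by decide +kernel)

theorem f2579 : C.S (v4 C) [12, 31, 56, 72, 107, 109, 112] :=
  C.stInv (f2578 C) _ (by decide +kernel)

theorem f2580 : C.S (v4 C) [17, 45, 53, 80, 99, 109, 123] :=
  C.stMul (f2579 C) (f2577 C) _ (by decide +kernel)

theorem f2581 : C.S (v15 C) [33, 51, 93, 109, 123] :=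
  C.transfer (f2575 C) (f2580 C) [145, 154, 167, 175, 177] _ (by decide +kernel) (by decide +kernel) (by decide +kernel)

theorem f2583 : C.T (v4 C) [24, 30, 63, 84, 109, 125] (v6 C) [22, 28, 52, 87, 104, 110, 113] :=
  C.conv (f1285 C) (f1302 C) (f1302 C) _ [127, 162, 170, 177] _ (by decide +kernel) (by decide +kernel) (by decide +kernel)

theorem f2584 : C.S (v4 C) [18, 46, 49, 75, 97, 110, 118] :=
  C.stMul (f407 C) (f407 C) _ (by decide +kernel)

theorem f2585 : C.S (v4 C) [23, 45, 57, 77, 95, 110, 118] :=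
  C.stMul (f407 C) (f2584 C) _ (by decide +kernel)

theorem f2586 : C.S (v4 C) [26, 43, 63, 73, 104, 112] :=
  C.stMul (f421 C) (f2585 C) _ (by decide +kernel)

theorem f2587 : C.S (v4 C) [17, 41, 87, 92, 116] :=
  C.stMul (f693 C) (f2586 C) _ (by decide +kernel)

theorem f2588 : C.S (v4 C) [8, 31, 60, 85, 98, 110, 125] :=
  C.stMul (f693 C) (f407 C) _ (by decide +kernel)

theorem f2589 : C.S (v4 C) [42, 63, 82, 91, 110, 125] :=
  C.stMul (f421 C) (f2588 C) _ (by decide +kernel)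

theorem f2590 : C.S (v4 C) [12, 31, 56, 72, 107, 109, 112] :=
  C.stMul (f407 C) (f2589 C) _ (by decide +kernel)

theorem f2591 : C.T (v4 C) [19, 38, 68, 71, 90, 109, 125] (v15 C) [15, 42, 52, 78, 100, 110, 114] :=
  C.conv (f2575 C) (f2587 C) (f2590 C) _ [144, 155, 167, 174, 178] _ (by decide +kernel) (by decide +kernel) (by decide +kernel)

theorem f2592 : C.T (v15 C) [15, 42, 52, 78, 100, 110, 114] (v4 C) [19, 38, 68, 71, 90, 109, 125] :=
  C.flip (f2591 C)

theorem f2593 : C.T (v6 C) [11, 39, 58, 73, 94, 110, 125] (v15 C) [15, 42, 86, 90, 110, 121] :=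
  C.closeT (p := (v4 C)) (pu := [24, 30, 63, 84, 109, 125])
    (C.pT (f2583 C)
    (C.pH [12, 35, 50, 83] [11, 39, 58, 73, 94, 110, 125] (by decide +kernel) (C.pNil _ _)))
    (C.pH [12, 35, 50, 83] [15, 42, 52, 78, 100, 110, 114] (by decide +kernel)
    (C.pT (f2592 C)
    (C.pH [12, 35, 50, 83] [24, 30, 63, 84, 109, 125] (by decide +kernel) (C.pNil _ _))))
    (C.loop_of_one (relLoop0 C) _ _)

theorem f2594 : C.T (v15 C) [15, 42, 86, 90, 110, 121] (v6 C) [11, 39, 58, 73, 94, 110, 125] :=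
  C.flip (f2593 C)

theorem f2595 : C.T (v4 C) [6, 29, 55, 88, 110] (v4 C) [21, 38, 49, 84, 103, 109, 120] :=
  C.conv (f678 C) (f697 C) (f697 C) _ [129, 160, 168, 172, 178] _ (by decide +kernel) (by decide +kernel) (by decide +kernel)

theorem f2596 : C.T (v4 C) [24, 42, 54, 84, 108, 110, 117] (v15 C) [17, 44, 62, 77, 102, 110, 123] :=
  C.conv (f2575 C) (f2587 C) (f2587 C) _ [147, 158, 170, 171, 177] _ (by decide +kernel) (by decide +kernel) (by decide +kernel)

theorem f2597 : C.T (v4 C) [21, 44, 53, 80, 108, 110, 115] (v15 C) [7, 34, 65, 75, 106, 116] :=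
  C.conv (f2575 C) (f2587 C) (f2587 C) _ [126, 160, 166, 176] _ (by decide +kernel) (by decide +kernel) (by decide +kernel)

theorem f2598 : C.T (v15 C) [7, 34, 65, 75, 106, 116] (v4 C) [21, 44, 53, 80, 108, 110, 115] :=
  C.flip (f2597 C)

theorem f2599 : C.T (v15 C) [20, 35, 56, 72, 103, 120] (v15 C) [11, 75, 106, 116] :=
  C.closeT (p := (v4 C)) (pu := [6, 29, 55, 88, 110])
    (C.pT (f2595 C)
    (C.pH [8, 30, 65, 84, 94, 117] [24, 42, 54, 84, 108, 110, 117] (by decide +kernel)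
    (C.pT (f2596 C)
    (C.pH [26, 38, 54, 89, 90, 113] [20, 35, 56, 72, 103, 120] (by decide +kernel) (C.pNil _ _)))))
    (C.pH [8, 30, 65, 84, 94, 117] [7, 34, 65, 75, 106, 116] (by decide +kernel)
    (C.pT (f2598 C)
    (C.pH [26, 38, 54, 89, 90, 113] [6, 29, 55, 88, 110] (by decide +kernel) (C.pNil _ _))))
    (C.loop_of_one (relLoop1 C) _ _)

theorem f2603 : C.T (v4 C) [16, 47, 63, 72, 103, 110, 118] (v4 C) [25, 38, 67, 88, 109, 118] :=
  C.conv (f517 C) (f723 C) (f723 C) _ [145, 164, 174, 178] _ (by decide +kernel) (by decide +kernel) (by decide +kernel)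

theorem f2604 : C.S (v4 C) [23, 45, 57, 77, 95, 110, 118] :=
  C.stMul (f407 C) (f1342 C) _ (by decide +kernel)

theorem f2605 : C.S (v4 C) [26, 43, 63, 73, 104, 112] :=
  C.stMul (f421 C) (f2604 C) _ (by decide +kernel)

theorem f2606 : C.S (v4 C) [25, 46, 61, 102, 110, 119] :=
  C.stMul (f407 C) (f2605 C) _ (by decide +kernel)

theorem f2607 : C.S (v4 C) [10, 38, 55, 71, 94, 110, 113] :=
  C.stMul (f421 C) (f2606 C) _ (by decide +kernel)

theorem f2608 : C.T (v4 C) [26, 28, 49, 92, 109, 125] (v4 C) [5, 32, 51, 86, 108, 114] :=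
  C.conv (f901 C) (f697 C) (f2607 C) _ [142, 150, 166, 172, 177] _ (by decide +kernel) (by decide +kernel) (by decide +kernel)

theorem f2609 : C.T (v4 C) [5, 32, 51, 86, 108, 114] (v4 C) [26, 28, 49, 92, 109, 125] :=
  C.flip (f2608 C)

theorem f2610 : C.S (v4 C) [10, 27, 56, 84, 93, 109, 113] :=
  C.stMul (f407 C) (f421 C) _ (by decide +kernel)

theorem f2611 : C.T (v4 C) [14, 47, 67, 89, 107, 115] (v15 C) [24, 36, 63, 80, 94, 109, 120] :=
  C.conv (f2575 C) (f2587 C) (f2610 C) _ [141, 157, 168, 171] _ (by decide +kernel) (by decide +kernel) (by decide +kernel)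

theorem f2612 : C.T (v15 C) [24, 36, 63, 80, 94, 109, 120] (v4 C) [14, 47, 67, 89, 107, 115] :=
  C.flip (f2611 C)

theorem f2613 : C.T (v4 C) [9, 46, 62, 70, 97, 109] (v15 C) [11, 44, 62, 83, 92, 110, 122] :=
  C.closeT (p := (v4 C)) (pu := [16, 47, 63, 72, 103, 110, 118])
    (C.pT (f2603 C)
    (C.pH [8, 30, 65, 84, 94, 117] [9, 46, 62, 70, 97, 109] (by decide +kernel) (C.pNil _ _)))
    (C.pH [26, 38, 54, 89, 90, 113] [24, 36, 63, 80, 94, 109, 120] (by decide +kernel)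
    (C.pT (f2612 C)
    (C.pH [8, 30, 65, 84, 94, 117] [5, 32, 51, 86, 108, 114] (by decide +kernel)
    (C.pT (f2609 C)
    (C.pH [26, 38, 54, 89, 90, 113] [16, 47, 63, 72, 103, 110, 118] (by decide +kernel) (C.pNil _ _))))))
    (C.loop_of_one (relLoop1 C) _ _)

theorem f2614 : C.T (v15 C) [11, 44, 62, 83, 92, 110, 122] (v4 C) [9, 46, 62, 70, 97, 109] :=
  C.flip (f2613 C)

theorem f2615 : C.T (v4 C) [18, 45, 50, 84, 104] (v4 C) [21, 43, 99, 110, 112] :=
  C.conv (f478 C) (f730 C) (f730 C) _ [133, 152, 167, 173] _ (by decide +kernel) (by decide +kernel) (by decide +kernel)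

theorem f2616 : C.S (v4 C) [17, 35, 66, 70, 95] :=
  C.stMul (f421 C) (f407 C) _ (by decide +kernel)

theorem f2617 : C.T (v4 C) [24, 35, 64, 75, 101, 120] (v4 C) [19, 42, 50, 83, 106, 123] :=
  C.conv (f971 C) (f974 C) (f2616 C) _ [141, 166, 175, 177] _ (by decide +kernel) (by decide +kernel) (by decide +kernel)

theorem f2618 : C.S (v4 C) [17, 35, 66, 70, 95] :=
  C.stMul (f421 C) (f407 C) _ (by decide +kernel)

theorem f2619 : C.S (v4 C) [13, 44, 51, 82, 106, 110, 111] :=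
  C.stMul (f407 C) (f2618 C) _ (by decide +kernel)

theorem f2620 : C.S (v4 C) [21, 35, 69, 73, 94, 109, 122] :=
  C.stMul (f421 C) (f2619 C) _ (by decide +kernel)

theorem f2621 : C.S (v4 C) [18, 37, 59, 73, 102, 116] :=
  C.stMul (f693 C) (f2620 C) _ (by decide +kernel)

theorem f2622 : C.S (v4 C) [18, 46, 49, 75, 97, 110, 118] :=
  C.stMul (f407 C) (f407 C) _ (by decide +kernel)

theorem f2623 : C.S (v4 C) [23, 45, 57, 77, 95, 110, 118] :=
  C.stMul (f407 C) (f2622 C) _ (by decide +kernel)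

theorem f2624 : C.S (v4 C) [26, 43, 63, 73, 104, 112] :=
  C.stMul (f421 C) (f2623 C) _ (by decide +kernel)

theorem f2625 : C.S (v4 C) [25, 46, 61, 102, 110, 119] :=
  C.stMul (f407 C) (f2624 C) _ (by decide +kernel)

theorem f2626 : C.T (v4 C) [17, 46, 62, 80, 91, 109, 115] (v15 C) [12, 34, 86, 101, 119] :=
  C.conv (f2613 C) (f2621 C) (f2625 C) _ [144, 162, 176] _ (by decide +kernel) (by decide +kernel) (by decide +kernel)

theorem f2627 : C.T (v15 C) [21, 35, 67, 80, 93, 109, 122] (v4 C) [25, 41, 56, 84, 92, 110] :=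
  C.closeT (p := (v4 C)) (pu := [18, 45, 50, 84, 104])
    (C.pT (f2615 C)
    (C.pH [8, 30, 65, 84, 94, 117] [24, 35, 64, 75, 101, 120] (by decide +kernel)
    (C.pT (f2617 C)
    (C.pH [26, 38, 54, 89, 90, 113] [17, 46, 62, 80, 91, 109, 115] (by decide +kernel)
    (C.pT (f2626 C)
    (C.pH [8, 30, 65, 84, 94, 117] [21, 35, 67, 80, 93, 109, 122] (by decide +kernel) (C.pNil _ _)))))))
    (C.pH [26, 38, 54, 89, 90, 113] [18, 45, 50, 84, 104] (by decide +kernel) (C.pNil _ _))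
    (C.loop_of_one (relLoop1 C) _ _)

theorem f2628 : C.T (v4 C) [25, 41, 56, 84, 92, 110] (v15 C) [21, 35, 67, 80, 93, 109, 122] :=
  C.flip (f2627 C)

theorem f2629 : C.T (v4 C) [21, 44, 64, 87, 98, 109, 111] (v2 C) [5, 39, 62, 77, 104, 109] :=
  C.conv (f438 C) (f421 C) (f421 C) _ [127, 150, 165, 174, 177] _ (by decide +kernel) (by decide +kernel) (by decide +kernel)

theorem f2630 : C.S (v2 C) [4, 46, 89, 107, 116] :=
  C.stMul (f211 C) (f101 C) _ (by decide +kernel)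

theorem f2631 : C.T (v2 C) [12, 37, 55, 75, 92, 110, 123] (v2 C) [5, 36, 57, 81, 101, 111] :=
  C.conv (f256 C) (f258 C) (f2630 C) _ [147, 152, 164, 176] _ (by decide +kernel) (by decide +kernel) (by decide +kernel)

theorem f2632 : C.S (v4 C) [16, 43, 64, 82, 90, 110, 123] :=
  C.stMul (f421 C) (f2622 C) _ (by decide +kernel)

theorem f2633 : C.S (v4 C) [21, 60, 87, 91, 109, 120] :=
  C.stMul (f407 C) (f2632 C) _ (by decide +kernel)

theorem f2634 : C.S (v4 C) [8, 48, 61, 83, 103, 117] :=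
  C.stMul (f407 C) (f2633 C) _ (by decide +kernel)

theorem f2635 : C.S (v4 C) [31, 58, 82, 95, 109, 115] :=
  C.stMul (f421 C) (f2634 C) _ (by decide +kernel)

theorem f2636 : C.T (v4 C) [10, 30, 62, 87, 105, 118] (v15 C) [26, 35, 53, 76, 92, 110, 112] :=
  C.conv (f2613 C) (f2621 C) (f2635 C) _ [138, 160, 167, 176, 178] _ (by decide +kernel) (by decide +kernel) (by decide +kernel)

theorem f2637 : C.T (v15 C) [26, 35, 53, 76, 92, 110, 112] (v4 C) [10, 30, 62, 87, 105, 118] :=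
  C.flip (f2636 C)

theorem f2638 : C.T (v2 C) [8, 33, 55, 76, 98, 110, 116] (v15 C) [19, 44, 53, 80, 90, 110, 112] :=
  C.closeT (p := (v4 C)) (pu := [21, 44, 64, 87, 98, 109, 111])
    (C.pT (f2629 C)
    (C.pH [8, 30, 65, 84, 94, 117] [12, 37, 55, 75, 92, 110, 123] (by decide +kernel)
    (C.pT (f2631 C)
    (C.pH [26, 38, 54, 89, 90, 113] [8, 33, 55, 76, 98, 110, 116] (by decide +kernel) (C.pNil _ _)))))
    (C.pH [8, 30, 65, 84, 94, 117] [26, 35, 53, 76, 92, 110, 112] (by decide +kernel)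
    (C.pT (f2637 C)
    (C.pH [26, 38, 54, 89, 90, 113] [21, 44, 64, 87, 98, 109, 111] (by decide +kernel) (C.pNil _ _))))
    (C.loop_of_one (relLoop1 C) _ _)

theorem f2639 : C.T (v15 C) [19, 44, 53, 80, 90, 110, 112] (v2 C) [8, 33, 55, 76, 98, 110, 116] :=
  C.flip (f2638 C)

theorem f2640 : C.T (v4 C) [25, 27, 52, 79, 108, 109, 116] (v4 C) [18, 41, 85, 97, 109, 118] :=
  C.conv (f751 C) (f753 C) (f753 C) _ [146, 154, 165, 175, 178] _ (by decide +kernel) (by decide +kernel) (by decide +kernel)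

theorem f2641 : C.T (v4 C) [4, 34, 54, 81, 104, 110] (v4 C) [38, 54, 78, 107, 110, 114] :=
  C.conv (f945 C) (f693 C) (f693 C) _ [143, 153, 168, 175, 177] _ (by decide +kernel) (by decide +kernel) (by decide +kernel)

theorem f2642 : C.T (v4 C) [26, 35, 51, 73, 107, 110, 112] (v15 C) [9, 35, 57, 76, 99, 110, 113] :=
  C.conv (f2613 C) (f2621 C) (f2621 C) _ [146, 163, 169, 171, 177] _ (by decide +kernel) (by decide +kernel) (by decide +kernel)

theorem f2643 : C.T (v15 C) [18, 41, 60, 75, 105, 110, 121] (v4 C) [4, 39, 50, 82, 108, 109, 118] :=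
  C.closeT (p := (v4 C)) (pu := [25, 27, 52, 79, 108, 109, 116])
    (C.pT (f2640 C)
    (C.pH [8, 30, 65, 84, 94, 117] [4, 34, 54, 81, 104, 110] (by decide +kernel)
    (C.pT (f2641 C)
    (C.pH [26, 38, 54, 89, 90, 113] [26, 35, 51, 73, 107, 110, 112] (by decide +kernel)
    (C.pT (f2642 C)
    (C.pH [8, 30, 65, 84, 94, 117] [18, 41, 60, 75, 105, 110, 121] (by decide +kernel) (C.pNil _ _)))))))
    (C.pH [26, 38, 54, 89, 90, 113] [25, 27, 52, 79, 108, 109, 116] (by decide +kernel) (C.pNil _ _))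
    (C.loop_of_one (relLoop1 C) _ _)

theorem f2644 : C.T (v4 C) [4, 39, 50, 82, 108, 109, 118] (v15 C) [18, 41, 60, 75, 105, 110, 121] :=
  C.flip (f2643 C)

theorem f2645 : C.T (v4 C) [12, 36, 63, 75, 102, 110, 122] (v4 C) [22, 29, 54, 84, 108, 109, 115] :=
  C.conv (f773 C) (f697 C) (f697 C) _ [146, 158, 164, 172, 178] _ (by decide +kernel) (by decide +kernel) (by decide +kernel)

theorem f2646 : C.S (v4 C) [13, 34, 59, 73, 105, 109, 115] :=
  C.stMul (f421 C) (f2633 C) _ (by decide +kernel)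

theorem f2647 : C.T (v4 C) [6, 27, 67, 82, 90, 109, 122] (v15 C) [15, 47, 53, 77, 103, 109, 125] :=
  C.conv (f2613 C) (f2621 C) (f2646 C) _ [148, 154, 166, 175, 178] _ (by decide +kernel) (by decide +kernel) (by decide +kernel)

theorem f2648 : C.T (v4 C) [24, 39, 56, 73, 91] (v15 C) [15, 28, 57, 86, 95, 110, 114] :=
  C.conv (f2613 C) (f2621 C) (f697 C) _ [127, 163, 169, 171, 178] _ (by decide +kernel) (by decide +kernel) (by decide +kernel)

theorem f2649 : C.T (v15 C) [15, 28, 57, 86, 95, 110, 114] (v4 C) [24, 39, 56, 73, 91] :=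
  C.flip (f2648 C)

theorem f2650 : C.T (v15 C) [9, 67, 86, 95, 110, 118] (v15 C) [10, 43, 68, 96, 110, 123] :=
  C.closeT (p := (v4 C)) (pu := [12, 36, 63, 75, 102, 110, 122])
    (C.pT (f2645 C)
    (C.pH [8, 30, 65, 84, 94, 117] [6, 27, 67, 82, 90, 109, 122] (by decide +kernel)
    (C.pT (f2647 C)
    (C.pH [26, 38, 54, 89, 90, 113] [9, 67, 86, 95, 110, 118] (by decide +kernel) (C.pNil _ _)))))
    (C.pH [8, 30, 65, 84, 94, 117] [15, 28, 57, 86, 95, 110, 114] (by decide +kernel)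
    (C.pT (f2649 C)
    (C.pH [26, 38, 54, 89, 90, 113] [12, 36, 63, 75, 102, 110, 122] (by decide +kernel) (C.pNil _ _))))
    (C.loop_of_one (relLoop1 C) _ _)

theorem f2652 : C.S (v15 C) [] :=
  C.stOne _

theorem f2654 : C.T (v4 C) [16, 47, 49, 87, 108] (v4 C) [25, 45, 67, 105, 120] :=
  C.conv (f791 C) (f793 C) (f793 C) _ [142, 165, 174] _ (by decide +kernel) (by decide +kernel) (by decide +kernel)

theorem f2655 : C.S (v4 C) [12, 41, 63, 84, 102, 110, 115] :=
  C.stMul (f693 C) (f1343 C) _ (by decide +kernel)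

theorem f2656 : C.T (v4 C) [9, 42, 66, 70, 95, 110, 118] (v4 C) [22, 31, 58, 86, 106, 110] :=
  C.conv (f901 C) (f697 C) (f2655 C) _ [130, 152, 167, 173] _ (by decide +kernel) (by decide +kernel) (by decide +kernel)

theorem f2657 : C.S (v4 C) [25, 47, 59, 76, 103, 109, 113] :=
  C.stMul (f421 C) (f2610 C) _ (by decide +kernel)

theorem f2658 : C.S (v4 C) [13, 41, 65, 83, 103, 110, 118] :=
  C.stMul (f693 C) (f2657 C) _ (by decide +kernel)

theorem f2659 : C.S (v4 C) [21, 41, 64, 81, 97, 110, 115] :=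
  C.stMul (f421 C) (f2658 C) _ (by decide +kernel)

theorem f2660 : C.T (v4 C) [26, 28, 54, 86, 110, 117] (v15 C) [15, 42, 65, 81, 98, 109, 125] :=
  C.conv (f2575 C) (f2587 C) (f2659 C) _ [131, 151, 169, 171, 177] _ (by decide +kernel) (by decide +kernel) (by decide +kernel)

theorem f2661 : C.T (v15 C) [15, 42, 65, 81, 98, 109, 125] (v4 C) [26, 28, 54, 86, 110, 117] :=
  C.flip (f2660 C)

theorem f2662 : C.T (v4 C) [19, 47, 53, 84, 96, 110, 114] (v15 C) [10, 39, 66, 84, 101, 110, 116] :=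
  C.closeT (p := (v4 C)) (pu := [16, 47, 49, 87, 108])
    (C.pT (f2654 C)
    (C.pH [8, 30, 65, 84, 94, 117] [9, 42, 66, 70, 95, 110, 118] (by decide +kernel)
    (C.pT (f2656 C)
    (C.pH [26, 38, 54, 89, 90, 113] [19, 47, 53, 84, 96, 110, 114] (by decide +kernel) (C.pNil _ _)))))
    (C.pH [8, 30, 65, 84, 94, 117] [15, 42, 65, 81, 98, 109, 125] (by decide +kernel)
    (C.pT (f2661 C)
    (C.pH [26, 38, 54, 89, 90, 113] [16, 47, 49, 87, 108] (by decide +kernel) (C.pNil _ _))))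
    (C.loop_of_one (relLoop1 C) _ _)

theorem f2663 : C.T (v15 C) [10, 39, 66, 84, 101, 110, 116] (v4 C) [19, 47, 53, 84, 96, 110, 114] :=
  C.flip (f2662 C)

theorem f2664 : C.T (v4 C) [7, 64, 106, 110, 116] (v4 C) [20, 32, 52, 77, 91, 110, 117] :=
  C.conv (f798 C) (f421 C) (f421 C) _ [147, 153, 166, 178] _ (by decide +kernel) (by decide +kernel) (by decide +kernel)

theorem f2665 : C.S (v4 C) [18, 46, 49, 75, 97, 110, 118] :=
  C.stMul (f407 C) (f407 C) _ (by decide +kernel)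

theorem f2666 : C.S (v4 C) [16, 43, 64, 82, 90, 110, 123] :=
  C.stMul (f421 C) (f2665 C) _ (by decide +kernel)

theorem f2667 : C.S (v4 C) [23, 41, 49, 78, 91, 109] :=
  C.stMul (f693 C) (f421 C) _ (by decide +kernel)

theorem f2668 : C.S (v4 C) [26, 36, 62, 77, 94, 121] :=
  C.stMul (f421 C) (f2667 C) _ (by decide +kernel)

theorem f2669 : C.S (v4 C) [25, 42, 55, 82, 95, 109] :=
  C.stMul (f407 C) (f2668 C) _ (by decide +kernel)

theorem f2670 : C.T (v4 C) [23, 40, 60, 77, 92, 109, 111] (v15 C) [18, 47, 62, 71, 90] :=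
  C.conv (f2628 C) (f2666 C) (f2669 C) _ [148, 156, 164, 174] _ (by decide +kernel) (by decide +kernel) (by decide +kernel)

theorem f2671 : C.S (v4 C) [10, 27, 56, 84, 93, 109, 113] :=
  C.stMul (f407 C) (f421 C) _ (by decide +kernel)

theorem f2672 : C.S (v4 C) [25, 47, 59, 76, 103, 109, 113] :=
  C.stMul (f421 C) (f2671 C) _ (by decide +kernel)

theorem f2673 : C.S (v4 C) [13, 41, 65, 83, 103, 110, 118] :=
  C.stMul (f693 C) (f2672 C) _ (by decide +kernel)

theorem f2674 : C.S (v4 C) [21, 41, 64, 81, 97, 110, 115] :=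
  C.stMul (f421 C) (f2673 C) _ (by decide +kernel)

theorem f2675 : C.T (v4 C) [23, 40, 69, 73, 92, 120] (v15 C) [18, 35, 55, 73, 105, 117] :=
  C.conv (f2628 C) (f2666 C) (f2674 C) _ [136, 152, 167, 171, 178] _ (by decide +kernel) (by decide +kernel) (by decide +kernel)

theorem f2676 : C.T (v15 C) [18, 35, 55, 73, 105, 117] (v4 C) [23, 40, 69, 73, 92, 120] :=
  C.flip (f2675 C)

theorem f2677 : C.T (v15 C) [10, 28, 69, 108, 110, 118] (v15 C) [9, 48, 69, 73, 95, 109, 125] :=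
  C.closeT (p := (v4 C)) (pu := [7, 64, 106, 110, 116])
    (C.pT (f2664 C)
    (C.pH [8, 30, 65, 84, 94, 117] [23, 40, 60, 77, 92, 109, 111] (by decide +kernel)
    (C.pT (f2670 C)
    (C.pH [26, 38, 54, 89, 90, 113] [10, 28, 69, 108, 110, 118] (by decide +kernel) (C.pNil _ _)))))
    (C.pH [8, 30, 65, 84, 94, 117] [18, 35, 55, 73, 105, 117] (by decide +kernel)
    (C.pT (f2676 C)
    (C.pH [26, 38, 54, 89, 90, 113] [7, 64, 106, 110, 116] (by decide +kernel) (C.pNil _ _))))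
    (C.loop_of_one (relLoop1 C) _ _)

theorem f2679 : C.S (v15 C) [20, 39, 55, 88, 95, 110, 125] :=
  C.stMul (f2581 C) (f2565 C) _ (by decide +kernel)

theorem f2680 : C.S (v15 C) [34, 69, 79, 92, 114] :=
  C.stMul (f2565 C) (f2679 C) _ (by decide +kernel)

theorem f2682 : C.T (v4 C) [13, 45, 50, 71, 98, 109, 114] (v4 C) [10, 32, 50, 88, 107, 109, 120] :=
  C.conv (f798 C) (f421 C) (f421 C) _ [136, 154, 169, 175] _ (by decide +kernel) (by decide +kernel) (by decide +kernel)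

theorem f2683 : C.T (v4 C) [15, 33, 64, 76, 90, 110] (v15 C) [13, 38, 64, 89, 99, 109, 120] :=
  C.conv (f2628 C) (f2666 C) (f2672 C) _ [138, 153, 166, 173, 177] _ (by decide +kernel) (by decide +kernel) (by decide +kernel)

theorem f2684 : C.T (v4 C) [16, 37, 56, 71, 108, 110, 123] (v15 C) [6, 39, 65, 82, 103, 110, 124] :=
  C.conv (f2613 C) (f2621 C) (f2619 C) _ [131, 154, 172, 178] _ (by decide +kernel) (by decide +kernel) (by decide +kernel)

theorem f2685 : C.T (v15 C) [6, 39, 65, 82, 103, 110, 124] (v4 C) [16, 37, 56, 71, 108, 110, 123] :=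
  C.flip (f2684 C)

theorem f2686 : C.T (v15 C) [23, 29, 59, 81, 96, 109, 111] (v15 C) [22, 42, 52, 84, 107, 110, 111] :=
  C.closeT (p := (v4 C)) (pu := [13, 45, 50, 71, 98, 109, 114])
    (C.pT (f2682 C)
    (C.pH [8, 30, 65, 84, 94, 117] [15, 33, 64, 76, 90, 110] (by decide +kernel)
    (C.pT (f2683 C)
    (C.pH [26, 38, 54, 89, 90, 113] [23, 29, 59, 81, 96, 109, 111] (by decide +kernel) (C.pNil _ _)))))
    (C.pH [8, 30, 65, 84, 94, 117] [6, 39, 65, 82, 103, 110, 124] (by decide +kernel)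
    (C.pT (f2685 C)
    (C.pH [26, 38, 54, 89, 90, 113] [13, 45, 50, 71, 98, 109, 114] (by decide +kernel) (C.pNil _ _))))
    (C.loop_of_one (relLoop1 C) _ _)

theorem f2688 : C.S (v15 C) [20, 39, 55, 88, 95, 110, 125] :=
  C.stMul (f2581 C) (f2565 C) _ (by decide +kernel)

theorem f2691 : C.S (v4 C) [17, 35, 66, 70, 95] :=
  C.stMul (f421 C) (f407 C) _ (by decide +kernel)

theorem f2692 : C.S (v4 C) [26, 44, 64, 94, 121] :=
  C.stMul (f693 C) (f2691 C) _ (by decide +kernel)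

theorem f2693 : C.T (v4 C) [22, 41, 59, 80, 94, 109, 120] (v3 C) [22, 37, 68, 76, 105, 110, 124] :=
  C.conv (f842 C) (f2692 C) (f2692 C) _ [126, 161, 165, 172, 177] _ (by decide +kernel) (by decide +kernel) (by decide +kernel)

theorem f2694 : C.S (v3 C) [9, 29, 68, 75, 108, 110, 124] :=
  C.stMul (f335 C) (f328 C) _ (by decide +kernel)

theorem f2695 : C.S (v3 C) [11, 28, 50, 85, 94, 124] :=
  C.stMul (f353 C) (f2694 C) _ (by decide +kernel)

theorem f2696 : C.T (v3 C) [6, 41, 55, 76, 106, 109, 118] (v5 C) [11, 38, 53, 78, 98, 124] :=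
  C.conv (f1048 C) (f1093 C) (f2695 C) _ [132, 166, 176] _ (by decide +kernel) (by decide +kernel) (by decide +kernel)

theorem f2697 : C.T (v4 C) [9, 32, 60, 87, 107, 110, 116] (v15 C) [39, 59, 78, 99, 110, 121] :=
  C.conv (f2613 C) (f2621 C) (f2634 C) _ [129, 155, 168, 175, 178] _ (by decide +kernel) (by decide +kernel) (by decide +kernel)

theorem f2698 : C.T (v15 C) [39, 59, 78, 99, 110, 121] (v4 C) [9, 32, 60, 87, 107, 110, 116] :=
  C.flip (f2697 C)

theorem f2699 : C.T (v5 C) [24, 37, 63, 71, 90, 109, 117] (v15 C) [8, 44, 50, 87, 102, 110, 120] :=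
  C.closeT (p := (v4 C)) (pu := [22, 41, 59, 80, 94, 109, 120])
    (C.pT (f2693 C)
    (C.pH [8, 30, 65, 84, 94, 117] [6, 41, 55, 76, 106, 109, 118] (by decide +kernel)
    (C.pT (f2696 C)
    (C.pH [26, 38, 54, 89, 90, 113] [24, 37, 63, 71, 90, 109, 117] (by decide +kernel) (C.pNil _ _)))))
    (C.pH [8, 30, 65, 84, 94, 117] [39, 59, 78, 99, 110, 121] (by decide +kernel)
    (C.pT (f2698 C)
    (C.pH [26, 38, 54, 89, 90, 113] [22, 41, 59, 80, 94, 109, 120] (by decide +kernel) (C.pNil _ _))))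
    (C.loop_of_one (relLoop1 C) _ _)

theorem f2700 : C.T (v15 C) [8, 44, 50, 87, 102, 110, 120] (v5 C) [24, 37, 63, 71, 90, 109, 117] :=
  C.flip (f2699 C)

theorem f2701 : C.T (v4 C) [4, 33, 51, 99, 123] (v4 C) [16, 33, 53, 82, 100, 110] :=
  C.conv (f882 C) (f407 C) (f407 C) _ [146, 155, 170, 176, 177] _ (by decide +kernel) (by decide +kernel) (by decide +kernel)

theorem f2702 : C.T (v4 C) [20, 41, 61, 76, 91, 109, 123] (v15 C) [22, 36, 61, 88, 100, 109, 124] :=
  C.conv (f2575 C) (f2587 C) (f2659 C) _ [143, 156, 175, 178] _ (by decide +kernel) (by decide +kernel) (by decide +kernel)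

theorem f2703 : C.T (v4 C) [6, 48, 60, 85, 92, 110, 124] (v15 C) [26, 39, 55, 75, 103, 115] :=
  C.conv (f2575 C) (f2587 C) (f697 C) _ [146, 162, 170, 171, 177] _ (by decide +kernel) (by decide +kernel) (by decide +kernel)

theorem f2704 : C.T (v15 C) [26, 39, 55, 75, 103, 115] (v4 C) [6, 48, 60, 85, 92, 110, 124] :=
  C.flip (f2703 C)

theorem f2705 : C.T (v15 C) [19, 31, 52, 89, 96, 109, 119] (v15 C) [19, 37, 64, 76, 96, 118] :=
  C.closeT (p := (v4 C)) (pu := [4, 33, 51, 99, 123])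
    (C.pT (f2701 C)
    (C.pH [8, 30, 65, 84, 94, 117] [20, 41, 61, 76, 91, 109, 123] (by decide +kernel)
    (C.pT (f2702 C)
    (C.pH [26, 38, 54, 89, 90, 113] [19, 31, 52, 89, 96, 109, 119] (by decide +kernel) (C.pNil _ _)))))
    (C.pH [8, 30, 65, 84, 94, 117] [26, 39, 55, 75, 103, 115] (by decide +kernel)
    (C.pT (f2704 C)
    (C.pH [26, 38, 54, 89, 90, 113] [4, 33, 51, 99, 123] (by decide +kernel) (C.pNil _ _))))
    (C.loop_of_one (relLoop1 C) _ _)

theorem f2708 : C.T (v4 C) [21, 48, 51, 70, 97, 109, 118] (v4 C) [15, 43, 61, 79, 91, 110, 119] :=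
  C.conv (f882 C) (f407 C) (f407 C) _ [146, 163, 164, 173, 177] _ (by decide +kernel) (by decide +kernel) (by decide +kernel)

theorem f2709 : C.T (v4 C) [10, 45, 51, 81, 94, 109, 123] (v4 C) [19, 44, 50, 83, 104, 109, 118] :=
  C.conv (f478 C) (f730 C) (f745 C) _ [143, 159, 169, 176, 177] _ (by decide +kernel) (by decide +kernel) (by decide +kernel)

theorem f2710 : C.T (v4 C) [19, 44, 50, 83, 104, 109, 118] (v4 C) [10, 45, 51, 81, 94, 109, 123] :=
  C.flip (f2709 C)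

theorem f2711 : C.S (v4 C) [23, 41, 49, 78, 91, 109] :=
  C.stMul (f693 C) (f421 C) _ (by decide +kernel)

theorem f2712 : C.S (v4 C) [26, 36, 62, 77, 94, 121] :=
  C.stMul (f421 C) (f2711 C) _ (by decide +kernel)

theorem f2713 : C.S (v4 C) [17, 35, 66, 70, 95] :=
  C.stMul (f421 C) (f407 C) _ (by decide +kernel)

theorem f2714 : C.S (v4 C) [13, 44, 51, 82, 106, 110, 111] :=
  C.stMul (f407 C) (f2713 C) _ (by decide +kernel)

theorem f2715 : C.T (v4 C) [15, 39, 59, 72, 91, 109, 121] (v15 C) [22, 32, 76, 105, 110] :=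
  C.conv (f2662 C) (f2712 C) (f2714 C) _ [132, 160, 167, 174, 178] _ (by decide +kernel) (by decide +kernel) (by decide +kernel)

theorem f2716 : C.T (v15 C) [22, 32, 76, 105, 110] (v4 C) [15, 39, 59, 72, 91, 109, 121] :=
  C.flip (f2715 C)

theorem f2717 : C.T (v4 C) [19, 35, 50, 81, 90, 112] (v15 C) [9, 34, 55, 83, 103, 110, 125] :=
  C.closeT (p := (v4 C)) (pu := [21, 48, 51, 70, 97, 109, 118])
    (C.pT (f2708 C)
    (C.pH [8, 30, 65, 84, 94, 117] [19, 35, 50, 81, 90, 112] (by decide +kernel) (C.pNil _ _)))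
    (C.pH [26, 38, 54, 89, 90, 113] [22, 32, 76, 105, 110] (by decide +kernel)
    (C.pT (f2716 C)
    (C.pH [8, 30, 65, 84, 94, 117] [19, 44, 50, 83, 104, 109, 118] (by decide +kernel)
    (C.pT (f2710 C)
    (C.pH [26, 38, 54, 89, 90, 113] [21, 48, 51, 70, 97, 109, 118] (by decide +kernel) (C.pNil _ _))))))
    (C.loop_of_one (relLoop1 C) _ _)

theorem f2718 : C.T (v15 C) [9, 34, 55, 83, 103, 110, 125] (v4 C) [19, 35, 50, 81, 90, 112] :=
  C.flip (f2717 C)

theorem f2719 : C.T (v4 C) [8, 34, 52, 72, 104, 125] (v4 C) [23, 28, 56, 78, 90, 109, 113] :=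
  C.conv (f890 C) (f893 C) (f893 C) _ [131, 166, 176] _ (by decide +kernel) (by decide +kernel) (by decide +kernel)

theorem f2720 : C.S (v4 C) [23, 45, 57, 77, 95, 110, 118] :=
  C.stMul (f407 C) (f753 C) _ (by decide +kernel)

theorem f2721 : C.S (v4 C) [16, 46, 68, 72, 103, 110, 111] :=
  C.stMul (f693 C) (f2720 C) _ (by decide +kernel)

theorem f2722 : C.S (v4 C) [18, 31, 55, 83, 101, 117] :=
  C.stMul (f421 C) (f2721 C) _ (by decide +kernel)

theorem f2723 : C.T (v4 C) [10, 59, 83, 93, 109, 113] (v4 C) [5, 47, 61, 78, 101, 110, 120] :=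
  C.conv (f751 C) (f753 C) (f2722 C) _ [135, 156, 169, 171] _ (by decide +kernel) (by decide +kernel) (by decide +kernel)

theorem f2724 : C.S (v4 C) [17, 29, 60, 75, 100, 110, 113] :=
  C.stMul (f407 C) (f2619 C) _ (by decide +kernel)

theorem f2725 : C.S (v4 C) [12, 44, 50, 85, 106, 124] :=
  C.stMul (f421 C) (f2724 C) _ (by decide +kernel)

theorem f2726 : C.T (v4 C) [5, 31, 66, 73, 104, 125] (v15 C) [25, 30, 63, 73, 91, 110, 113] :=
  C.conv (f2613 C) (f2621 C) (f2725 C) _ [135, 158, 166, 171] _ (by decide +kernel) (by decide +kernel) (by decide +kernel)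

theorem f2727 : C.T (v15 C) [25, 30, 63, 73, 91, 110, 113] (v4 C) [5, 31, 66, 73, 104, 125] :=
  C.flip (f2726 C)

theorem f2728 : C.T (v4 C) [8, 35, 69, 80, 91, 112] (v15 C) [4, 48, 58, 83, 90, 123] :=
  C.closeT (p := (v4 C)) (pu := [8, 34, 52, 72, 104, 125])
    (C.pT (f2719 C)
    (C.pH [8, 30, 65, 84, 94, 117] [10, 59, 83, 93, 109, 113] (by decide +kernel)
    (C.pT (f2723 C)
    (C.pH [26, 38, 54, 89, 90, 113] [8, 35, 69, 80, 91, 112] (by decide +kernel) (C.pNil _ _)))))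
    (C.pH [8, 30, 65, 84, 94, 117] [25, 30, 63, 73, 91, 110, 113] (by decide +kernel)
    (C.pT (f2727 C)
    (C.pH [26, 38, 54, 89, 90, 113] [8, 34, 52, 72, 104, 125] (by decide +kernel) (C.pNil _ _))))
    (C.loop_of_one (relLoop1 C) _ _)

theorem f2729 : C.T (v15 C) [4, 48, 58, 83, 90, 123] (v4 C) [8, 35, 69, 80, 91, 112] :=
  C.flip (f2728 C)

theorem f2730 : C.T (v4 C) [9, 37, 59, 87, 107, 109, 111] (v4 C) [24, 29, 63, 70, 94, 110, 112] :=
  C.conv (f916 C) (f919 C) (f919 C) _ [132, 158, 164, 176, 178] _ (by decide +kernel) (by decide +kernel) (by decide +kernel)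

theorem f2731 : C.S (v4 C) [10, 27, 56, 84, 93, 109, 113] :=
  C.stMul (f407 C) (f421 C) _ (by decide +kernel)

theorem f2732 : C.T (v4 C) [16, 47, 61, 77, 105, 125] (v15 C) [17, 47, 54, 86, 110, 120] :=
  C.conv (f2613 C) (f2621 C) (f2731 C) _ [148, 150, 164, 176, 177] _ (by decide +kernel) (by decide +kernel) (by decide +kernel)

theorem f2733 : C.T (v4 C) [15, 29, 65, 73, 95, 110, 124] (v4 C) [11, 34, 67, 88, 109, 118] :=
  C.conv (f517 C) (f723 C) (f421 C) _ [130, 164, 174, 178] _ (by decide +kernel) (by decide +kernel) (by decide +kernel)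

theorem f2734 : C.T (v4 C) [11, 34, 67, 88, 109, 118] (v4 C) [15, 29, 65, 73, 95, 110, 124] :=
  C.flip (f2733 C)

theorem f2735 : C.T (v15 C) [20, 48, 55, 85, 94, 109, 117] (v4 C) [13, 42, 66, 85, 99, 110, 116] :=
  C.closeT (p := (v4 C)) (pu := [9, 37, 59, 87, 107, 109, 111])
    (C.pT (f2730 C)
    (C.pH [8, 30, 65, 84, 94, 117] [16, 47, 61, 77, 105, 125] (by decide +kernel)
    (C.pT (f2732 C)
    (C.pH [26, 38, 54, 89, 90, 113] [20, 48, 55, 85, 94, 109, 117] (by decide +kernel) (C.pNil _ _)))))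
    (C.pH [8, 30, 65, 84, 94, 117] [11, 34, 67, 88, 109, 118] (by decide +kernel)
    (C.pT (f2734 C)
    (C.pH [26, 38, 54, 89, 90, 113] [9, 37, 59, 87, 107, 109, 111] (by decide +kernel) (C.pNil _ _))))
    (C.loop_of_one (relLoop1 C) _ _)

theorem f2736 : C.T (v4 C) [13, 42, 66, 85, 99, 110, 116] (v15 C) [20, 48, 55, 85, 94, 109, 117] :=
  C.flip (f2735 C)

theorem f2737 : C.T (v4 C) [25, 41, 57, 74, 91, 110, 113] (v4 C) [7, 35, 58, 70, 102, 125] :=
  C.conv (f945 C) (f693 C) (f693 C) _ [126, 151, 165] _ (by decide +kernel) (by decide +kernel) (by decide +kernel)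

theorem f2738 : C.T (v4 C) [4, 43, 61, 71, 93] (v6 C) [5, 48, 68, 77, 107, 109, 111] :=
  C.conv (f1276 C) (f407 C) (f1317 C) _ [126, 149, 170, 176, 177] _ (by decide +kernel) (by decide +kernel) (by decide +kernel)

theorem f2739 : C.T (v6 C) [5, 48, 68, 77, 107, 109, 111] (v4 C) [4, 43, 61, 71, 93] :=
  C.flip (f2738 C)

theorem f2740 : C.S (v6 C) [48, 68, 83, 93, 121] :=
  C.stMul (f1307 C) (f1266 C) _ (by decide +kernel)

theorem f2741 : C.S (v6 C) [7, 45, 62, 89, 101, 114] :=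
  C.stMul (f1270 C) (f1353 C) _ (by decide +kernel)

theorem f2742 : C.T (v6 C) [14, 37, 58, 86, 94, 118] (v15 C) [40, 67, 75, 100, 113] :=
  C.conv (f2593 C) (f2740 C) (f2741 C) _ [137, 161, 168, 176, 178] _ (by decide +kernel) (by decide +kernel) (by decide +kernel)

theorem f2743 : C.T (v15 C) [40, 67, 75, 100, 113] (v6 C) [14, 37, 58, 86, 94, 118] :=
  C.flip (f2742 C)

theorem f2744 : C.T (v4 C) [17, 41, 62, 71, 95, 117] (v15 C) [7, 29, 49, 72, 101] :=
  C.closeT (p := (v4 C)) (pu := [25, 41, 57, 74, 91, 110, 113])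
    (C.pT (f2737 C)
    (C.pH [8, 30, 65, 84, 94, 117] [17, 41, 62, 71, 95, 117] (by decide +kernel) (C.pNil _ _)))
    (C.pH [26, 38, 54, 89, 90, 113] [40, 67, 75, 100, 113] (by decide +kernel)
    (C.pT (f2743 C)
    (C.pH [8, 30, 65, 84, 94, 117] [5, 48, 68, 77, 107, 109, 111] (by decide +kernel)
    (C.pT (f2739 C)
    (C.pH [26, 38, 54, 89, 90, 113] [25, 41, 57, 74, 91, 110, 113] (by decide +kernel) (C.pNil _ _))))))
    (C.loop_of_one (relLoop1 C) _ _)

theorem f2745 : C.T (v15 C) [7, 29, 49, 72, 101] (v4 C) [17, 41, 62, 71, 95, 117] :=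
  C.flip (f2744 C)

theorem f2746 : C.T (v4 C) [7, 44, 67, 77, 106, 110, 123] (v4 C) [26, 40, 61, 75, 100, 124] :=
  C.conv (f945 C) (f693 C) (f693 C) _ [157, 164, 176, 177] _ (by decide +kernel) (by decide +kernel) (by decide +kernel)

theorem f2747 : C.S (v4 C) [8, 33, 58, 79, 105, 109, 111] :=
  C.stMul (f693 C) (f2725 C) _ (by decide +kernel)

theorem f2748 : C.T (v4 C) [14, 36, 53, 70, 110] (v15 C) [18, 46, 90, 114] :=
  C.conv (f2613 C) (f2621 C) (f2747 C) _ [145, 152, 175] _ (by decide +kernel) (by decide +kernel) (by decide +kernel)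

theorem f2749 : C.S (v4 C) [17, 35, 66, 70, 95] :=
  C.stMul (f421 C) (f407 C) _ (by decide +kernel)

theorem f2750 : C.S (v4 C) [13, 44, 51, 82, 106, 110, 111] :=
  C.stMul (f407 C) (f2749 C) _ (by decide +kernel)

theorem f2751 : C.S (v4 C) [17, 29, 60, 75, 100, 110, 113] :=
  C.stMul (f407 C) (f2750 C) _ (by decide +kernel)

theorem f2752 : C.T (v4 C) [23, 36, 62, 80, 99, 109, 124] (v4 C) [11, 39, 53, 83, 103, 111] :=
  C.conv (f751 C) (f753 C) (f2751 C) _ [127, 161, 169, 172] _ (by decide +kernel) (by decide +kernel) (by decide +kernel)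

theorem f2753 : C.T (v4 C) [11, 39, 53, 83, 103, 111] (v4 C) [23, 36, 62, 80, 99, 109, 124] :=
  C.flip (f2752 C)

theorem f2754 : C.T (v15 C) [10, 40, 49, 73, 101, 125] (v4 C) [13, 27, 61, 71, 107, 110, 119] :=
  C.closeT (p := (v4 C)) (pu := [7, 44, 67, 77, 106, 110, 123])
    (C.pT (f2746 C)
    (C.pH [8, 30, 65, 84, 94, 117] [14, 36, 53, 70, 110] (by decide +kernel)
    (C.pT (f2748 C)
    (C.pH [26, 38, 54, 89, 90, 113] [10, 40, 49, 73, 101, 125] (by decide +kernel) (C.pNil _ _)))))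
    (C.pH [8, 30, 65, 84, 94, 117] [11, 39, 53, 83, 103, 111] (by decide +kernel)
    (C.pT (f2753 C)
    (C.pH [26, 38, 54, 89, 90, 113] [7, 44, 67, 77, 106, 110, 123] (by decide +kernel) (C.pNil _ _))))
    (C.loop_of_one (relLoop1 C) _ _)

theorem f2755 : C.T (v4 C) [13, 27, 61, 71, 107, 110, 119] (v15 C) [10, 40, 49, 73, 101, 125] :=
  C.flip (f2754 C)

theorem f2756 : C.T (v4 C) [4, 40, 51, 83, 96, 109, 113] (v4 C) [15, 40, 66, 70, 95] :=
  C.conv (f971 C) (f974 C) (f974 C) _ [137, 154, 166, 175] _ (by decide +kernel) (by decide +kernel) (by decide +kernel)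

theorem f2757 : C.S (v4 C) [18, 46, 49, 75, 97, 110, 118] :=
  C.stMul (f407 C) (f407 C) _ (by decide +kernel)

theorem f2758 : C.S (v4 C) [16, 43, 64, 82, 90, 110, 123] :=
  C.stMul (f421 C) (f2757 C) _ (by decide +kernel)

theorem f2759 : C.S (v4 C) [10, 42, 56, 80, 93, 109, 122] :=
  C.stMul (f693 C) (f2757 C) _ (by decide +kernel)

theorem f2760 : C.T (v4 C) [19, 46, 60, 80, 103, 122] (v15 C) [22, 45, 57, 76, 94, 110, 111] :=
  C.conv (f2755 C) (f2758 C) (f2759 C) _ [148, 156, 167, 175] _ (by decide +kernel) (by decide +kernel) (by decide +kernel)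

theorem f2761 : C.T (v4 C) [6, 27, 52, 79, 91, 113] (v4 C) [10, 41, 55, 81, 99, 109, 120] :=
  C.conv (f773 C) (f697 C) (f697 C) _ [142, 150, 170, 172] _ (by decide +kernel) (by decide +kernel) (by decide +kernel)

theorem f2762 : C.T (v4 C) [10, 41, 55, 81, 99, 109, 120] (v4 C) [6, 27, 52, 79, 91, 113] :=
  C.flip (f2761 C)

theorem f2763 : C.T (v15 C) [19, 46, 52, 72, 93, 110, 125] (v4 C) [23, 40, 68, 77, 97, 109, 117] :=
  C.closeT (p := (v4 C)) (pu := [4, 40, 51, 83, 96, 109, 113])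
    (C.pT (f2756 C)
    (C.pH [8, 30, 65, 84, 94, 117] [19, 46, 60, 80, 103, 122] (by decide +kernel)
    (C.pT (f2760 C)
    (C.pH [26, 38, 54, 89, 90, 113] [19, 46, 52, 72, 93, 110, 125] (by decide +kernel) (C.pNil _ _)))))
    (C.pH [8, 30, 65, 84, 94, 117] [10, 41, 55, 81, 99, 109, 120] (by decide +kernel)
    (C.pT (f2762 C)
    (C.pH [26, 38, 54, 89, 90, 113] [4, 40, 51, 83, 96, 109, 113] (by decide +kernel) (C.pNil _ _))))
    (C.loop_of_one (relLoop1 C) _ _)

theorem f2764 : C.T (v4 C) [23, 40, 68, 77, 97, 109, 117] (v15 C) [19, 46, 52, 72, 93, 110, 125] :=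
  C.flip (f2763 C)

theorem f2765 : C.T (v4 C) [25, 41, 49, 82, 95, 110, 122] (v5 C) [18, 39, 64, 80, 98, 109, 113] :=
  C.conv (f1108 C) (f1133 C) (f1133 C) _ [145, 154, 172, 178] _ (by decide +kernel) (by decide +kernel) (by decide +kernel)

theorem f2766 : C.T (v4 C) [4, 43, 62, 84, 91, 117] (v4 C) [25, 35, 56, 71, 92, 110] :=
  C.conv (f976 C) (f978 C) (f978 C) _ [131, 151, 167, 177] _ (by decide +kernel) (by decide +kernel) (by decide +kernel)

theorem f2767 : C.T (v4 C) [25, 35, 56, 71, 92, 110] (v4 C) [4, 43, 62, 84, 91, 117] :=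
  C.flip (f2766 C)

theorem f2768 : C.S (v4 C) [18, 46, 49, 75, 97, 110, 118] :=
  C.stMul (f407 C) (f407 C) _ (by decide +kernel)

theorem f2769 : C.S (v4 C) [23, 45, 57, 77, 95, 110, 118] :=
  C.stMul (f407 C) (f2768 C) _ (by decide +kernel)

theorem f2770 : C.S (v4 C) [26, 43, 63, 73, 104, 112] :=
  C.stMul (f421 C) (f2769 C) _ (by decide +kernel)

theorem f2771 : C.S (v4 C) [25, 46, 61, 102, 110, 119] :=
  C.stMul (f407 C) (f2770 C) _ (by decide +kernel)

theorem f2772 : C.T (v4 C) [4, 46, 53, 78, 103, 110, 125] (v15 C) [19, 35, 50, 72, 92, 115] :=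
  C.conv (f2764 C) (f693 C) (f2771 C) _ [150, 164] _ (by decide +kernel) (by decide +kernel) (by decide +kernel)

theorem f2773 : C.T (v15 C) [19, 35, 50, 72, 92, 115] (v4 C) [4, 46, 53, 78, 103, 110, 125] :=
  C.flip (f2772 C)

theorem f2774 : C.T (v5 C) [4, 40, 81, 91, 112] (v15 C) [22, 43, 66, 89, 101, 109, 124] :=
  C.closeT (p := (v4 C)) (pu := [25, 41, 49, 82, 95, 110, 122])
    (C.pT (f2765 C)
    (C.pH [8, 30, 65, 84, 94, 117] [4, 40, 81, 91, 112] (by decide +kernel) (C.pNil _ _)))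
    (C.pH [26, 38, 54, 89, 90, 113] [19, 35, 50, 72, 92, 115] (by decide +kernel)
    (C.pT (f2773 C)
    (C.pH [8, 30, 65, 84, 94, 117] [25, 35, 56, 71, 92, 110] (by decide +kernel)
    (C.pT (f2767 C)
    (C.pH [26, 38, 54, 89, 90, 113] [25, 41, 49, 82, 95, 110, 122] (by decide +kernel) (C.pNil _ _))))))
    (C.loop_of_one (relLoop1 C) _ _)

theorem f2775 : C.T (v15 C) [22, 43, 66, 89, 101, 109, 124] (v5 C) [4, 40, 81, 91, 112] :=
  C.flip (f2774 C)

theorem f2776 : C.T (v4 C) [9, 41, 53, 88, 92, 110, 122] (v6 C) [9, 35, 63, 72, 103, 110, 111] :=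
  C.conv (f1276 C) (f407 C) (f407 C) _ [133, 159, 167, 176, 177] _ (by decide +kernel) (by decide +kernel) (by decide +kernel)

theorem f2777 : C.S (v6 C) [22, 38, 64, 77, 91, 115] :=
  C.stMul (f1270 C) (f1270 C) _ (by decide +kernel)

theorem f2778 : C.T (v6 C) [18, 41, 52, 73, 101, 110, 125] (v10 C) [10, 33, 50, 81, 96, 121] :=
  C.conv (f1950 C) (f1985 C) (f2777 C) _ [135, 162, 176, 177] _ (by decide +kernel) (by decide +kernel) (by decide +kernel)

theorem f2779 : C.T (v4 C) [15, 37, 59, 82, 102, 122] (v15 C) [10, 39, 57, 72, 91, 110, 115] :=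
  C.conv (f2613 C) (f2621 C) (f2623 C) _ [143, 149, 164, 171, 178] _ (by decide +kernel) (by decide +kernel) (by decide +kernel)

theorem f2780 : C.T (v15 C) [10, 39, 57, 72, 91, 110, 115] (v4 C) [15, 37, 59, 82, 102, 122] :=
  C.flip (f2779 C)

theorem f2781 : C.T (v10 C) [21, 30, 63, 94, 109, 123] (v15 C) [23, 46, 59, 74, 103, 110, 116] :=
  C.closeT (p := (v4 C)) (pu := [9, 41, 53, 88, 92, 110, 122])
    (C.pT (f2776 C)
    (C.pH [8, 30, 65, 84, 94, 117] [18, 41, 52, 73, 101, 110, 125] (by decide +kernel)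
    (C.pT (f2778 C)
    (C.pH [26, 38, 54, 89, 90, 113] [21, 30, 63, 94, 109, 123] (by decide +kernel) (C.pNil _ _)))))
    (C.pH [8, 30, 65, 84, 94, 117] [10, 39, 57, 72, 91, 110, 115] (by decide +kernel)
    (C.pT (f2780 C)
    (C.pH [26, 38, 54, 89, 90, 113] [9, 41, 53, 88, 92, 110, 122] (by decide +kernel) (C.pNil _ _))))
    (C.loop_of_one (relLoop1 C) _ _)

theorem f2782 : C.T (v15 C) [23, 46, 59, 74, 103, 110, 116] (v10 C) [21, 30, 63, 94, 109, 123] :=
  C.flip (f2781 C)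

theorem f2783 : C.T (v4 C) [25, 41, 56, 78, 92, 125] (v6 C) [25, 34, 61, 70, 106, 110, 117] :=
  C.conv (f1276 C) (f407 C) (f407 C) _ [137, 149, 165, 171, 178] _ (by decide +kernel) (by decide +kernel) (by decide +kernel)

theorem f2784 : C.T (v4 C) [4, 43, 56, 82, 112] (v4 C) [21, 37, 62, 73, 102, 114] :=
  C.conv (f976 C) (f978 C) (f978 C) _ [147, 157, 170, 175, 178] _ (by decide +kernel) (by decide +kernel) (by decide +kernel)

theorem f2785 : C.T (v4 C) [21, 37, 62, 73, 102, 114] (v4 C) [4, 43, 56, 82, 112] :=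
  C.flip (f2784 C)

theorem f2786 : C.S (v4 C) [23, 41, 49, 78, 91, 109] :=
  C.stMul (f693 C) (f421 C) _ (by decide +kernel)

theorem f2787 : C.S (v4 C) [26, 36, 62, 77, 94, 121] :=
  C.stMul (f421 C) (f2786 C) _ (by decide +kernel)

theorem f2788 : C.T (v4 C) [12, 35, 69, 88, 98, 109, 114] (v15 C) [17, 32, 63, 70, 90, 109, 114] :=
  C.conv (f2764 C) (f693 C) (f2787 C) _ [135, 161, 165, 174, 178] _ (by decide +kernel) (by decide +kernel) (by decide +kernel)

theorem f2789 : C.T (v15 C) [17, 32, 63, 70, 90, 109, 114] (v4 C) [12, 35, 69, 88, 98, 109, 114] :=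
  C.flip (f2788 C)

theorem f2790 : C.T (v6 C) [9, 30, 62, 82, 97, 109, 113] (v15 C) [19, 45, 69, 84, 94, 109, 119] :=
  C.closeT (p := (v4 C)) (pu := [25, 41, 56, 78, 92, 125])
    (C.pT (f2783 C)
    (C.pH [8, 30, 65, 84, 94, 117] [9, 30, 62, 82, 97, 109, 113] (by decide +kernel) (C.pNil _ _)))
    (C.pH [26, 38, 54, 89, 90, 113] [17, 32, 63, 70, 90, 109, 114] (by decide +kernel)
    (C.pT (f2789 C)
    (C.pH [8, 30, 65, 84, 94, 117] [21, 37, 62, 73, 102, 114] (by decide +kernel)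
    (C.pT (f2785 C)
    (C.pH [26, 38, 54, 89, 90, 113] [25, 41, 56, 78, 92, 125] (by decide +kernel) (C.pNil _ _))))))
    (C.loop_of_one (relLoop1 C) _ _)

theorem f2791 : C.T (v15 C) [19, 45, 69, 84, 94, 109, 119] (v6 C) [9, 30, 62, 82, 97, 109, 113] :=
  C.flip (f2790 C)

theorem f2792 : C.T (v4 C) [18, 29, 64, 84, 101, 110, 121] (v6 C) [17, 32, 49, 83, 100, 109, 120] :=
  C.conv (f1285 C) (f1302 C) (f1302 C) _ [131, 154, 175, 178] _ (by decide +kernel) (by decide +kernel) (by decide +kernel)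

theorem f2793 : C.S (v6 C) [7, 41, 67, 76, 108, 117] :=
  C.stMul (f1307 C) (f1270 C) _ (by decide +kernel)

theorem f2794 : C.T (v6 C) [22, 34, 67, 74, 106, 110, 111] (v15 C) [17, 44, 55, 89, 97, 109, 122] :=
  C.conv (f2593 C) (f2740 C) (f2793 C) _ [126, 155, 167] _ (by decide +kernel) (by decide +kernel) (by decide +kernel)

theorem f2795 : C.S (v4 C) [17, 35, 66, 70, 95] :=
  C.stMul (f421 C) (f407 C) _ (by decide +kernel)

theorem f2796 : C.S (v4 C) [13, 44, 51, 82, 106, 110, 111] :=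
  C.stMul (f407 C) (f2795 C) _ (by decide +kernel)

theorem f2797 : C.S (v4 C) [21, 35, 69, 73, 94, 109, 122] :=
  C.stMul (f421 C) (f2796 C) _ (by decide +kernel)

theorem f2798 : C.S (v4 C) [18, 37, 59, 73, 102, 116] :=
  C.stMul (f693 C) (f2797 C) _ (by decide +kernel)

theorem f2799 : C.T (v4 C) [25, 43, 60, 75, 96, 109, 117] (v15 C) [23, 44, 63, 71, 93, 109, 117] :=
  C.conv (f2575 C) (f2587 C) (f2798 C) _ [128, 150, 168, 171, 178] _ (by decide +kernel) (by decide +kernel) (by decide +kernel)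

theorem f2800 : C.T (v15 C) [23, 44, 63, 71, 93, 109, 117] (v4 C) [25, 43, 60, 75, 96, 109, 117] :=
  C.flip (f2799 C)

theorem f2801 : C.T (v15 C) [20, 35, 63, 77, 90, 109, 112] (v15 C) [20, 43, 69, 77, 91, 110, 121] :=
  C.closeT (p := (v4 C)) (pu := [18, 29, 64, 84, 101, 110, 121])
    (C.pT (f2792 C)
    (C.pH [8, 30, 65, 84, 94, 117] [22, 34, 67, 74, 106, 110, 111] (by decide +kernel)
    (C.pT (f2794 C)
    (C.pH [26, 38, 54, 89, 90, 113] [20, 35, 63, 77, 90, 109, 112] (by decide +kernel) (C.pNil _ _)))))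
    (C.pH [8, 30, 65, 84, 94, 117] [23, 44, 63, 71, 93, 109, 117] (by decide +kernel)
    (C.pT (f2800 C)
    (C.pH [26, 38, 54, 89, 90, 113] [18, 29, 64, 84, 101, 110, 121] (by decide +kernel) (C.pNil _ _))))
    (C.loop_of_one (relLoop1 C) _ _)

theorem f2803 : C.S (v15 C) [20, 39, 55, 88, 95, 110, 125] :=
  C.stMul (f2581 C) (f2565 C) _ (by decide +kernel)

theorem f2806 : C.T (v4 C) [23, 48, 56, 83, 108, 109, 113] (v15 C) [13, 46, 61, 70, 107, 110, 116] :=
  C.conv (f2575 C) (f2587 C) (f2587 C) _ [140, 160, 170, 174, 178] _ (by decide +kernel) (by decide +kernel) (by decide +kernel)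

theorem f2807 : C.S (v4 C) [10, 27, 56, 84, 93, 109, 113] :=
  C.stMul (f407 C) (f421 C) _ (by decide +kernel)

theorem f2808 : C.S (v4 C) [16, 32, 68, 79, 93, 110, 124] :=
  C.stMul (f407 C) (f2807 C) _ (by decide +kernel)

theorem f2809 : C.S (v4 C) [18, 44, 51, 79, 106, 114] :=
  C.stMul (f421 C) (f2808 C) _ (by decide +kernel)

theorem f2810 : C.T (v4 C) [13, 41, 67, 71, 91, 109, 121] (v9 C) [14, 29, 63, 70, 117] :=
  C.conv (f2044 C) (f2809 C) (f693 C) _ [134, 158, 170, 175, 177] _ (by decide +kernel) (by decide +kernel) (by decide +kernel)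

theorem f2811 : C.T (v9 C) [14, 29, 63, 70, 117] (v4 C) [13, 41, 67, 71, 91, 109, 121] :=
  C.flip (f2810 C)

theorem f2812 : C.S (v9 C) [13, 48, 54, 73, 93, 110, 123] :=
  C.stMul (f1620 C) (f1610 C) _ (by decide +kernel)

theorem f2813 : C.S (v9 C) [4, 28, 59, 71, 101, 109, 111] :=
  C.stMul (f1624 C) (f2812 C) _ (by decide +kernel)

theorem f2814 : C.T (v9 C) [26, 27, 65, 82, 106, 109, 122] (v5 C) [18, 39, 65, 81, 90, 113] :=
  C.conv (f2077 C) (f1620 C) (f2813 C) _ [138, 150, 170, 173] _ (by decide +kernel) (by decide +kernel) (by decide +kernel)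

theorem f2815 : C.T (v5 C) [18, 39, 65, 81, 90, 113] (v9 C) [26, 27, 65, 82, 106, 109, 122] :=
  C.flip (f2814 C)

theorem f2816 : C.T (v15 C) [11, 40, 55, 76, 96, 119] (v5 C) [25, 47, 58, 84, 103, 123] :=
  C.closeT (p := (v4 C)) (pu := [23, 48, 56, 83, 108, 109, 113])
    (C.pT (f2806 C)
    (C.pH [8, 30, 65, 84, 94, 117] [11, 40, 55, 76, 96, 119] (by decide +kernel) (C.pNil _ _)))
    (C.pH [26, 38, 54, 89, 90, 113] [18, 39, 65, 81, 90, 113] (by decide +kernel)
    (C.pT (f2815 C)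
    (C.pH [8, 30, 65, 84, 94, 117] [14, 29, 63, 70, 117] (by decide +kernel)
    (C.pT (f2811 C)
    (C.pH [26, 38, 54, 89, 90, 113] [23, 48, 56, 83, 108, 109, 113] (by decide +kernel) (C.pNil _ _))))))
    (C.loop_of_one (relLoop1 C) _ _)

theorem f2817 : C.T (v5 C) [25, 47, 58, 84, 103, 123] (v15 C) [11, 40, 55, 76, 96, 119] :=
  C.flip (f2816 C)

theorem f2818 : C.T (v4 C) [9, 33, 53, 82, 95, 110, 122] (v4 C) [10, 30, 58, 81, 105, 110, 111] :=
  C.conv (f678 C) (f697 C) (f697 C) _ [136, 149, 164, 172, 177] _ (by decide +kernel) (by decide +kernel) (by decide +kernel)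

theorem f2819 : C.S (v4 C) [17, 35, 66, 70, 95] :=
  C.stMul (f421 C) (f407 C) _ (by decide +kernel)

theorem f2820 : C.S (v4 C) [13, 44, 51, 82, 106, 110, 111] :=
  C.stMul (f407 C) (f2819 C) _ (by decide +kernel)

theorem f2821 : C.S (v4 C) [17, 29, 60, 75, 100, 110, 113] :=
  C.stMul (f407 C) (f2820 C) _ (by decide +kernel)

theorem f2822 : C.T (v4 C) [21, 44, 55, 74, 108, 110, 112] (v15 C) [8, 48, 66, 85, 109, 116] :=
  C.conv (f2717 C) (f407 C) (f2821 C) _ [128, 162, 167, 176, 177] _ (by decide +kernel) (by decide +kernel) (by decide +kernel)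

theorem f2823 : C.S (v4 C) [10, 42, 56, 80, 93, 109, 122] :=
  C.stMul (f693 C) (f2768 C) _ (by decide +kernel)

theorem f2824 : C.S (v4 C) [25, 32, 52, 83, 96, 110, 121] :=
  C.stMul (f421 C) (f2823 C) _ (by decide +kernel)

theorem f2825 : C.T (v4 C) [25, 29, 54, 85, 91, 110, 112] (v15 C) [26, 40, 52, 71, 104, 110, 115] :=
  C.conv (f2764 C) (f693 C) (f2824 C) _ [142, 158, 170, 177] _ (by decide +kernel) (by decide +kernel) (by decide +kernel)

theorem f2826 : C.T (v15 C) [26, 40, 52, 71, 104, 110, 115] (v4 C) [25, 29, 54, 85, 91, 110, 112] :=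
  C.flip (f2825 C)

theorem f2827 : C.T (v15 C) [35, 53, 79, 94, 112] (v15 C) [40, 54, 83, 102, 110, 112] :=
  C.closeT (p := (v4 C)) (pu := [9, 33, 53, 82, 95, 110, 122])
    (C.pT (f2818 C)
    (C.pH [26, 38, 54, 89, 90, 113] [21, 44, 55, 74, 108, 110, 112] (by decide +kernel)
    (C.pT (f2822 C)
    (C.pH [8, 30, 65, 84, 94, 117] [35, 53, 79, 94, 112] (by decide +kernel) (C.pNil _ _)))))
    (C.pH [26, 38, 54, 89, 90, 113] [26, 40, 52, 71, 104, 110, 115] (by decide +kernel)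
    (C.pT (f2826 C)
    (C.pH [8, 30, 65, 84, 94, 117] [9, 33, 53, 82, 95, 110, 122] (by decide +kernel) (C.pNil _ _))))
    (C.loop_of_one (relLoop2 C) _ _)

theorem f2829 : C.S (v15 C) [20, 39, 55, 88, 95, 110, 125] :=
  C.stMul (f2581 C) (f2565 C) _ (by decide +kernel)

theorem f2831 : C.T (v4 C) [19, 45, 66, 84, 98, 123] (v4 C) [5, 43, 63, 83, 100, 110, 121] :=
  C.conv (f678 C) (f697 C) (f697 C) _ [129, 155, 166, 175] _ (by decide +kernel) (by decide +kernel) (by decide +kernel)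

theorem f2832 : C.T (v4 C) [8, 27, 51, 89, 101, 110, 118] (v15 C) [27, 54, 83, 107, 109, 111] :=
  C.conv (f2613 C) (f2621 C) (f2724 C) _ [142, 153, 172, 177] _ (by decide +kernel) (by decide +kernel) (by decide +kernel)

theorem f2833 : C.T (v4 C) [15, 41, 56, 84, 99, 110, 111] (v15 C) [13, 49, 89, 107, 109, 120] :=
  C.conv (f2613 C) (f2621 C) (f2724 C) _ [146, 149, 173] _ (by decide +kernel) (by decide +kernel) (by decide +kernel)

theorem f2834 : C.T (v15 C) [13, 49, 89, 107, 109, 120] (v4 C) [15, 41, 56, 84, 99, 110, 111] :=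
  C.flip (f2833 C)

theorem f2835 : C.T (v15 C) [8, 43, 77, 94, 110, 121] (v15 C) [16, 54, 84, 106] :=
  C.closeT (p := (v4 C)) (pu := [19, 45, 66, 84, 98, 123])
    (C.pT (f2831 C)
    (C.pH [26, 38, 54, 89, 90, 113] [8, 27, 51, 89, 101, 110, 118] (by decide +kernel)
    (C.pT (f2832 C)
    (C.pH [8, 30, 65, 84, 94, 117] [8, 43, 77, 94, 110, 121] (by decide +kernel) (C.pNil _ _)))))
    (C.pH [26, 38, 54, 89, 90, 113] [13, 49, 89, 107, 109, 120] (by decide +kernel)
    (C.pT (f2834 C)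
    (C.pH [8, 30, 65, 84, 94, 117] [19, 45, 66, 84, 98, 123] (by decide +kernel) (C.pNil _ _))))
    (C.loop_of_one (relLoop2 C) _ _)

theorem f2838 : C.T (v4 C) [13, 39, 50, 88, 104, 110, 118] (v4 C) [18, 42, 56, 88, 105, 119] :=
  C.conv (f658 C) (f700 C) (f700 C) _ [142, 149, 164, 171, 178] _ (by decide +kernel) (by decide +kernel) (by decide +kernel)

theorem f2839 : C.T (v4 C) [10, 32, 62, 86, 98, 110, 121] (v15 C) [14, 44, 52, 77, 107, 110, 117] :=
  C.conv (f2764 C) (f693 C) (f2787 C) _ [153, 170, 174, 178] _ (by decide +kernel) (by decide +kernel) (by decide +kernel)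

theorem f2840 : C.T (v4 C) [6, 36, 56, 82, 102, 109, 111] (v15 C) [14, 44, 52, 81, 108, 109, 121] :=
  C.conv (f2764 C) (f693 C) (f407 C) _ [129, 153, 172, 177] _ (by decide +kernel) (by decide +kernel) (by decide +kernel)

theorem f2841 : C.T (v15 C) [14, 44, 52, 81, 108, 109, 121] (v4 C) [6, 36, 56, 82, 102, 109, 111] :=
  C.flip (f2840 C)

theorem f2842 : C.T (v15 C) [5, 43, 58, 76, 95, 109, 115] (v15 C) [12, 37, 54, 73, 102, 110, 115] :=
  C.closeT (p := (v4 C)) (pu := [13, 39, 50, 88, 104, 110, 118])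
    (C.pT (f2838 C)
    (C.pH [26, 38, 54, 89, 90, 113] [10, 32, 62, 86, 98, 110, 121] (by decide +kernel)
    (C.pT (f2839 C)
    (C.pH [8, 30, 65, 84, 94, 117] [5, 43, 58, 76, 95, 109, 115] (by decide +kernel) (C.pNil _ _)))))
    (C.pH [26, 38, 54, 89, 90, 113] [14, 44, 52, 81, 108, 109, 121] (by decide +kernel)
    (C.pT (f2841 C)
    (C.pH [8, 30, 65, 84, 94, 117] [13, 39, 50, 88, 104, 110, 118] (by decide +kernel) (C.pNil _ _))))
    (C.loop_of_one (relLoop2 C) _ _)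

theorem f2847 : C.T (v4 C) [27, 76, 99, 109, 124] (v4 C) [16, 34, 53, 82, 95, 109, 111] :=
  C.conv (f658 C) (f700 C) (f700 C) _ [127, 150, 164, 176, 178] _ (by decide +kernel) (by decide +kernel) (by decide +kernel)

theorem f2848 : C.T (v4 C) [13, 35, 50, 71, 106, 110, 118] (v15 C) [4, 33, 55, 87, 109, 124] :=
  C.conv (f2575 C) (f2587 C) (f2795 C) _ [141, 157, 173, 178] _ (by decide +kernel) (by decide +kernel) (by decide +kernel)

theorem f2849 : C.T (v4 C) [8, 35, 57, 75, 92, 110, 113] (v15 C) [6, 42, 69, 78, 100, 110, 112] :=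
  C.conv (f2575 C) (f2587 C) (f2584 C) _ [137, 156, 166, 172, 178] _ (by decide +kernel) (by decide +kernel) (by decide +kernel)

theorem f2850 : C.T (v15 C) [6, 42, 69, 78, 100, 110, 112] (v4 C) [8, 35, 57, 75, 92, 110, 113] :=
  C.flip (f2849 C)

theorem f2851 : C.T (v15 C) [25, 42, 67, 88, 99, 113] (v15 C) [21, 33, 59, 98, 109, 115] :=
  C.closeT (p := (v4 C)) (pu := [27, 76, 99, 109, 124])
    (C.pT (f2847 C)
    (C.pH [26, 38, 54, 89, 90, 113] [13, 35, 50, 71, 106, 110, 118] (by decide +kernel)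
    (C.pT (f2848 C)
    (C.pH [8, 30, 65, 84, 94, 117] [25, 42, 67, 88, 99, 113] (by decide +kernel) (C.pNil _ _)))))
    (C.pH [26, 38, 54, 89, 90, 113] [6, 42, 69, 78, 100, 110, 112] (by decide +kernel)
    (C.pT (f2850 C)
    (C.pH [8, 30, 65, 84, 94, 117] [27, 76, 99, 109, 124] (by decide +kernel) (C.pNil _ _))))
    (C.loop_of_one (relLoop2 C) _ _)

theorem f2854 : C.T (v4 C) [12, 29, 64, 99, 110, 119] (v4 C) [21, 44, 64, 71, 94, 110, 123] :=
  C.conv (f658 C) (f700 C) (f700 C) _ [126, 149, 176, 178] _ (by decide +kernel) (by decide +kernel) (by decide +kernel)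

theorem f2855 : C.S (v4 C) [18, 46, 49, 75, 97, 110, 118] :=
  C.stMul (f407 C) (f407 C) _ (by decide +kernel)

theorem f2856 : C.S (v4 C) [10, 42, 56, 80, 93, 109, 122] :=
  C.stMul (f693 C) (f2855 C) _ (by decide +kernel)

theorem f2857 : C.S (v4 C) [25, 32, 52, 83, 96, 110, 121] :=
  C.stMul (f421 C) (f2856 C) _ (by decide +kernel)

theorem f2858 : C.S (v4 C) [23, 45, 57, 77, 95, 110, 118] :=
  C.stMul (f407 C) (f2855 C) _ (by decide +kernel)

theorem f2859 : C.S (v4 C) [16, 46, 68, 72, 103, 110, 111] :=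
  C.stMul (f693 C) (f2858 C) _ (by decide +kernel)

theorem f2860 : C.S (v4 C) [18, 31, 55, 83, 101, 117] :=
  C.stMul (f421 C) (f2859 C) _ (by decide +kernel)

theorem f2861 : C.T (v4 C) [6, 29, 53, 72, 98, 110, 125] (v15 C) [25, 48, 50, 76, 102] :=
  C.conv (f2728 C) (f2857 C) (f2860 C) _ [148, 161, 165, 173] _ (by decide +kernel) (by decide +kernel) (by decide +kernel)

theorem f2862 : C.S (v4 C) [17, 35, 66, 70, 95] :=
  C.stMul (f421 C) (f407 C) _ (by decide +kernel)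

theorem f2863 : C.S (v4 C) [26, 44, 64, 94, 121] :=
  C.stMul (f693 C) (f2862 C) _ (by decide +kernel)

theorem f2864 : C.T (v4 C) [5, 43, 73, 103, 109, 112] (v15 C) [21, 45, 56, 83, 102, 110, 112] :=
  C.conv (f2728 C) (f2857 C) (f2863 C) _ [130, 156, 170, 177] _ (by decide +kernel) (by decide +kernel) (by decide +kernel)

theorem f2865 : C.T (v15 C) [21, 45, 56, 83, 102, 110, 112] (v4 C) [5, 43, 73, 103, 109, 112] :=
  C.flip (f2864 C)

theorem f2866 : C.T (v15 C) [9, 43, 55, 85, 94, 109, 120] (v15 C) [10, 41, 70, 104, 109, 119] :=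
  C.closeT (p := (v4 C)) (pu := [12, 29, 64, 99, 110, 119])
    (C.pT (f2854 C)
    (C.pH [26, 38, 54, 89, 90, 113] [6, 29, 53, 72, 98, 110, 125] (by decide +kernel)
    (C.pT (f2861 C)
    (C.pH [8, 30, 65, 84, 94, 117] [9, 43, 55, 85, 94, 109, 120] (by decide +kernel) (C.pNil _ _)))))
    (C.pH [26, 38, 54, 89, 90, 113] [21, 45, 56, 83, 102, 110, 112] (by decide +kernel)
    (C.pT (f2865 C)
    (C.pH [8, 30, 65, 84, 94, 117] [12, 29, 64, 99, 110, 119] (by decide +kernel) (C.pNil _ _))))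
    (C.loop_of_one (relLoop2 C) _ _)

theorem f2871 : C.T (v4 C) [10, 43, 56, 87, 105, 110, 124] (v4 C) [4, 40, 67, 89, 105, 124] :=
  C.conv (f636 C) (f703 C) (f703 C) _ [141, 159, 168, 174, 178] _ (by decide +kernel) (by decide +kernel) (by decide +kernel)

theorem f2872 : C.S (v4 C) [25, 47, 59, 76, 103, 109, 113] :=
  C.stMul (f421 C) (f2731 C) _ (by decide +kernel)

theorem f2873 : C.S (v4 C) [13, 41, 65, 83, 103, 110, 118] :=
  C.stMul (f693 C) (f2872 C) _ (by decide +kernel)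

theorem f2874 : C.T (v4 C) [25, 33, 59, 74, 103, 109, 122] (v15 C) [30, 59, 88, 95, 111] :=
  C.conv (f2613 C) (f2621 C) (f2873 C) _ [145, 151, 165, 176] _ (by decide +kernel) (by decide +kernel) (by decide +kernel)

theorem f2875 : C.S (v4 C) [26, 44, 64, 94, 121] :=
  C.stMul (f693 C) (f2618 C) _ (by decide +kernel)

theorem f2876 : C.T (v4 C) [23, 44, 80, 92, 109, 122] (v15 C) [11, 35, 49, 79, 103, 116] :=
  C.conv (f2613 C) (f2621 C) (f2875 C) _ [140, 160, 170, 173] _ (by decide +kernel) (by decide +kernel) (by decide +kernel)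

theorem f2877 : C.T (v15 C) [11, 35, 49, 79, 103, 116] (v4 C) [23, 44, 80, 92, 109, 122] :=
  C.flip (f2876 C)

theorem f2878 : C.T (v15 C) [8, 28, 69, 89, 91, 119] (v15 C) [8, 43, 57, 76, 104, 123] :=
  C.closeT (p := (v4 C)) (pu := [10, 43, 56, 87, 105, 110, 124])
    (C.pT (f2871 C)
    (C.pH [26, 38, 54, 89, 90, 113] [25, 33, 59, 74, 103, 109, 122] (by decide +kernel)
    (C.pT (f2874 C)
    (C.pH [8, 30, 65, 84, 94, 117] [8, 28, 69, 89, 91, 119] (by decide +kernel) (C.pNil _ _)))))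
    (C.pH [26, 38, 54, 89, 90, 113] [11, 35, 49, 79, 103, 116] (by decide +kernel)
    (C.pT (f2877 C)
    (C.pH [8, 30, 65, 84, 94, 117] [10, 43, 56, 87, 105, 110, 124] (by decide +kernel) (C.pNil _ _))))
    (C.loop_of_one (relLoop2 C) _ _)

theorem f2881 : C.T (v4 C) [21, 56, 72, 107, 110, 122] (v4 C) [22, 41, 51, 83, 110, 116] :=
  C.conv (f606 C) (f421 C) (f421 C) _ [140, 160, 165, 171, 177] _ (by decide +kernel) (by decide +kernel) (by decide +kernel)

theorem f2882 : C.S (v4 C) [13, 28, 60, 83, 108, 110, 119] :=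
  C.stMul (f421 C) (f693 C) _ (by decide +kernel)

theorem f2883 : C.T (v4 C) [19, 38, 68, 82, 95, 110, 118] (v15 C) [15, 39, 55, 79, 100, 117] :=
  C.conv (f2662 C) (f2712 C) (f2882 C) _ [126, 153, 168, 172] _ (by decide +kernel) (by decide +kernel) (by decide +kernel)

theorem f2884 : C.S (v4 C) [23, 41, 49, 78, 91, 109] :=
  C.stMul (f693 C) (f421 C) _ (by decide +kernel)

theorem f2885 : C.S (v4 C) [26, 36, 62, 77, 94, 121] :=
  C.stMul (f421 C) (f2884 C) _ (by decide +kernel)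

theorem f2886 : C.S (v4 C) [10, 27, 56, 84, 93, 109, 113] :=
  C.stMul (f407 C) (f421 C) _ (by decide +kernel)

theorem f2887 : C.S (v4 C) [16, 32, 68, 79, 93, 110, 124] :=
  C.stMul (f407 C) (f2886 C) _ (by decide +kernel)

theorem f2888 : C.T (v4 C) [12, 37, 59, 78, 104, 116] (v15 C) [20, 40, 56, 82, 97, 110, 125] :=
  C.conv (f2736 C) (f2885 C) (f2887 C) _ [134, 150, 167, 174] _ (by decide +kernel) (by decide +kernel) (by decide +kernel)

theorem f2889 : C.T (v15 C) [20, 40, 56, 82, 97, 110, 125] (v4 C) [12, 37, 59, 78, 104, 116] :=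
  C.flip (f2888 C)

theorem f2890 : C.T (v15 C) [19, 44, 57, 89, 97, 125] (v15 C) [17, 36, 65, 85, 99, 110, 121] :=
  C.closeT (p := (v4 C)) (pu := [21, 56, 72, 107, 110, 122])
    (C.pT (f2881 C)
    (C.pH [26, 38, 54, 89, 90, 113] [19, 38, 68, 82, 95, 110, 118] (by decide +kernel)
    (C.pT (f2883 C)
    (C.pH [8, 30, 65, 84, 94, 117] [19, 44, 57, 89, 97, 125] (by decide +kernel) (C.pNil _ _)))))
    (C.pH [26, 38, 54, 89, 90, 113] [20, 40, 56, 82, 97, 110, 125] (by decide +kernel)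
    (C.pT (f2889 C)
    (C.pH [8, 30, 65, 84, 94, 117] [21, 56, 72, 107, 110, 122] (by decide +kernel) (C.pNil _ _))))
    (C.loop_of_one (relLoop2 C) _ _)

theorem f2892 : C.S (v15 C) [20, 39, 55, 88, 95, 110, 125] :=
  C.stMul (f2581 C) (f2565 C) _ (by decide +kernel)

theorem f2893 : C.S (v15 C) [34, 69, 79, 92, 114] :=
  C.stMul (f2565 C) (f2892 C) _ (by decide +kernel)

theorem f2897 : C.T (v4 C) [26, 38, 67, 79, 93, 110, 111] (v4 C) [7, 46, 78, 98, 125] :=
  C.conv (f606 C) (f421 C) (f421 C) _ [145, 160, 168, 176, 178] _ (by decide +kernel) (by decide +kernel) (by decide +kernel)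

theorem f2898 : C.S (v4 C) [16, 43, 64, 82, 90, 110, 123] :=
  C.stMul (f421 C) (f812 C) _ (by decide +kernel)

theorem f2899 : C.T (v4 C) [37, 63, 77, 106, 115] (v3 C) [33, 61, 88, 106, 109, 124] :=
  C.conv (f809 C) (f813 C) (f2898 C) _ [136, 156, 168, 174] _ (by decide +kernel) (by decide +kernel) (by decide +kernel)

theorem f2900 : C.T (v4 C) [19, 42, 65, 79, 93, 110, 111] (v15 C) [24, 29, 59, 70, 91, 113] :=
  C.conv (f2736 C) (f2885 C) (f407 C) _ [132, 169] _ (by decide +kernel) (by decide +kernel) (by decide +kernel)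

theorem f2901 : C.T (v15 C) [24, 29, 59, 70, 91, 113] (v4 C) [19, 42, 65, 79, 93, 110, 111] :=
  C.flip (f2900 C)

theorem f2902 : C.T (v3 C) [8, 44, 57, 85, 104, 121] (v15 C) [11, 40, 57, 80, 105, 109] :=
  C.closeT (p := (v4 C)) (pu := [26, 38, 67, 79, 93, 110, 111])
    (C.pT (f2897 C)
    (C.pH [26, 38, 54, 89, 90, 113] [37, 63, 77, 106, 115] (by decide +kernel)
    (C.pT (f2899 C)
    (C.pH [8, 30, 65, 84, 94, 117] [8, 44, 57, 85, 104, 121] (by decide +kernel) (C.pNil _ _)))))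
    (C.pH [26, 38, 54, 89, 90, 113] [24, 29, 59, 70, 91, 113] (by decide +kernel)
    (C.pT (f2901 C)
    (C.pH [8, 30, 65, 84, 94, 117] [26, 38, 67, 79, 93, 110, 111] (by decide +kernel) (C.pNil _ _))))
    (C.loop_of_one (relLoop2 C) _ _)

theorem f2903 : C.T (v15 C) [11, 40, 57, 80, 105, 109] (v3 C) [8, 44, 57, 85, 104, 121] :=
  C.flip (f2902 C)

theorem f2904 : C.T (v4 C) [36, 57, 106, 109, 117] (v4 C) [23, 31, 51, 72, 93, 121] :=
  C.conv (f563 C) (f715 C) (f715 C) _ [129, 165, 174, 178] _ (by decide +kernel) (by decide +kernel) (by decide +kernel)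

theorem f2905 : C.S (v4 C) [8, 31, 60, 85, 98, 110, 125] :=
  C.stMul (f693 C) (f407 C) _ (by decide +kernel)

theorem f2906 : C.S (v4 C) [42, 63, 82, 91, 110, 125] :=
  C.stMul (f421 C) (f2905 C) _ (by decide +kernel)

theorem f2907 : C.S (v4 C) [12, 31, 56, 72, 107, 109, 112] :=
  C.stMul (f407 C) (f2906 C) _ (by decide +kernel)

theorem f2908 : C.T (v4 C) [7, 29, 63, 82, 105, 117] (v15 C) [21, 57, 89, 97, 109, 123] :=
  C.conv (f2662 C) (f2712 C) (f2907 C) _ [129, 160, 165, 176, 177] _ (by decide +kernel) (by decide +kernel) (by decide +kernel)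

theorem f2909 : C.S (v4 C) [8, 31, 60, 85, 98, 110, 125] :=
  C.stMul (f693 C) (f407 C) _ (by decide +kernel)

theorem f2910 : C.S (v4 C) [42, 63, 82, 91, 110, 125] :=
  C.stMul (f421 C) (f2909 C) _ (by decide +kernel)

theorem f2911 : C.S (v4 C) [12, 31, 56, 72, 107, 109, 112] :=
  C.stMul (f407 C) (f2910 C) _ (by decide +kernel)

theorem f2912 : C.T (v4 C) [8, 32, 52, 75, 106, 110, 116] (v15 C) [25, 41, 58, 80, 90, 109, 111] :=
  C.conv (f2744 C) (f2911 C) (f693 C) _ [143, 158, 169, 173, 177] _ (by decide +kernel) (by decide +kernel) (by decide +kernel)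

theorem f2913 : C.T (v15 C) [25, 41, 58, 80, 90, 109, 111] (v4 C) [8, 32, 52, 75, 106, 110, 116] :=
  C.flip (f2912 C)

theorem f2914 : C.T (v15 C) [24, 32, 54, 88, 104, 117] (v15 C) [4, 43, 66, 73, 93, 110, 117] :=
  C.closeT (p := (v4 C)) (pu := [36, 57, 106, 109, 117])
    (C.pT (f2904 C)
    (C.pH [26, 38, 54, 89, 90, 113] [7, 29, 63, 82, 105, 117] (by decide +kernel)
    (C.pT (f2908 C)
    (C.pH [8, 30, 65, 84, 94, 117] [24, 32, 54, 88, 104, 117] (by decide +kernel) (C.pNil _ _)))))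
    (C.pH [26, 38, 54, 89, 90, 113] [25, 41, 58, 80, 90, 109, 111] (by decide +kernel)
    (C.pT (f2913 C)
    (C.pH [8, 30, 65, 84, 94, 117] [36, 57, 106, 109, 117] (by decide +kernel) (C.pNil _ _))))
    (C.loop_of_one (relLoop2 C) _ _)

theorem f2917 : C.T (v4 C) [21, 35, 67, 86, 96] (v4 C) [6, 39, 52, 75, 108, 109, 113] :=
  C.conv (f496 C) (f697 C) (f697 C) _ [130, 155, 168, 174, 178] _ (by decide +kernel) (by decide +kernel) (by decide +kernel)

theorem f2918 : C.T (v4 C) [4, 29, 54, 72, 108, 123] (v15 C) [21, 34, 58, 70, 99, 110, 115] :=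
  C.conv (f2575 C) (f2587 C) (f2795 C) _ [136, 166, 176, 177] _ (by decide +kernel) (by decide +kernel) (by decide +kernel)

theorem f2919 : C.T (v4 C) [12, 34, 82, 110] (v15 C) [4, 36, 65, 72, 108, 110, 122] :=
  C.conv (f2575 C) (f2587 C) (f693 C) _ [148, 159, 170, 176] _ (by decide +kernel) (by decide +kernel) (by decide +kernel)

theorem f2920 : C.T (v15 C) [4, 36, 65, 72, 108, 110, 122] (v4 C) [12, 34, 82, 110] :=
  C.flip (f2919 C)

theorem f2921 : C.T (v15 C) [24, 30, 52, 73, 97, 109, 124] (v15 C) [6, 35, 60, 79, 90, 109, 115] :=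
  C.closeT (p := (v4 C)) (pu := [21, 35, 67, 86, 96])
    (C.pT (f2917 C)
    (C.pH [26, 38, 54, 89, 90, 113] [4, 29, 54, 72, 108, 123] (by decide +kernel)
    (C.pT (f2918 C)
    (C.pH [8, 30, 65, 84, 94, 117] [24, 30, 52, 73, 97, 109, 124] (by decide +kernel) (C.pNil _ _)))))
    (C.pH [26, 38, 54, 89, 90, 113] [4, 36, 65, 72, 108, 110, 122] (by decide +kernel)
    (C.pT (f2920 C)
    (C.pH [8, 30, 65, 84, 94, 117] [21, 35, 67, 86, 96] (by decide +kernel) (C.pNil _ _))))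
    (C.loop_of_one (relLoop2 C) _ _)

theorem f2924 : C.T (v4 C) [16, 38, 50, 86, 106, 113] (v4 C) [8, 47, 66, 71, 102, 122] :=
  C.conv (f462 C) (f737 C) (f737 C) _ [136, 160, 170] _ (by decide +kernel) (by decide +kernel) (by decide +kernel)

theorem f2925 : C.T (v4 C) [11, 33, 63, 72, 95, 110, 119] (v9 C) [17, 42, 57, 75, 91, 118] :=
  C.conv (f2044 C) (f2809 C) (f2808 C) _ [129, 151, 166, 172, 178] _ (by decide +kernel) (by decide +kernel) (by decide +kernel)

theorem f2926 : C.T (v4 C) [24, 31, 56, 82, 107, 110, 123] (v15 C) [9, 41, 67, 70, 95, 109, 115] :=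
  C.conv (f2736 C) (f2885 C) (f697 C) _ [147, 157, 165, 172, 177] _ (by decide +kernel) (by decide +kernel) (by decide +kernel)

theorem f2927 : C.T (v15 C) [9, 41, 67, 70, 95, 109, 115] (v4 C) [24, 31, 56, 82, 107, 110, 123] :=
  C.flip (f2926 C)

theorem f2928 : C.T (v9 C) [22, 37, 64, 86, 99, 110, 120] (v15 C) [15, 37, 58, 78, 103, 109] :=
  C.closeT (p := (v4 C)) (pu := [16, 38, 50, 86, 106, 113])
    (C.pT (f2924 C)
    (C.pH [26, 38, 54, 89, 90, 113] [11, 33, 63, 72, 95, 110, 119] (by decide +kernel)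
    (C.pT (f2925 C)
    (C.pH [8, 30, 65, 84, 94, 117] [22, 37, 64, 86, 99, 110, 120] (by decide +kernel) (C.pNil _ _)))))
    (C.pH [26, 38, 54, 89, 90, 113] [9, 41, 67, 70, 95, 109, 115] (by decide +kernel)
    (C.pT (f2927 C)
    (C.pH [8, 30, 65, 84, 94, 117] [16, 38, 50, 86, 106, 113] (by decide +kernel) (C.pNil _ _))))
    (C.loop_of_one (relLoop2 C) _ _)

theorem f2929 : C.T (v15 C) [15, 37, 58, 78, 103, 109] (v9 C) [22, 37, 64, 86, 99, 110, 120] :=
  C.flip (f2928 C)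

theorem f2930 : C.T (v4 C) [22, 33, 56, 84, 103, 110, 116] (v4 C) [14, 29, 62, 71, 107, 110, 115] :=
  C.conv (f751 C) (f753 C) (f753 C) _ [157, 167, 174, 177] _ (by decide +kernel) (by decide +kernel) (by decide +kernel)

theorem f2931 : C.S (v4 C) [18, 46, 49, 75, 97, 110, 118] :=
  C.stMul (f407 C) (f407 C) _ (by decide +kernel)

theorem f2932 : C.S (v4 C) [16, 43, 64, 82, 90, 110, 123] :=
  C.stMul (f421 C) (f2931 C) _ (by decide +kernel)

theorem f2933 : C.T (v4 C) [5, 59, 75, 98, 117] (v15 C) [10, 38, 53, 78, 99, 109, 123] :=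
  C.conv (f2662 C) (f2712 C) (f2932 C) _ [145, 161, 169] _ (by decide +kernel) (by decide +kernel) (by decide +kernel)

theorem f2934 : C.T (v4 C) [17, 29, 64, 75, 109, 117] (v15 C) [20, 32, 54, 86, 102, 115] :=
  C.conv (f2613 C) (f2621 C) (f2725 C) _ [140, 171, 178] _ (by decide +kernel) (by decide +kernel) (by decide +kernel)

theorem f2935 : C.T (v15 C) [20, 32, 54, 86, 102, 115] (v4 C) [17, 29, 64, 75, 109, 117] :=
  C.flip (f2934 C)

theorem f2936 : C.T (v15 C) [15, 46, 64, 76, 98, 124] (v15 C) [17, 40, 66, 70, 94, 109] :=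
  C.closeT (p := (v4 C)) (pu := [22, 33, 56, 84, 103, 110, 116])
    (C.pT (f2930 C)
    (C.pH [26, 38, 54, 89, 90, 113] [5, 59, 75, 98, 117] (by decide +kernel)
    (C.pT (f2933 C)
    (C.pH [8, 30, 65, 84, 94, 117] [15, 46, 64, 76, 98, 124] (by decide +kernel) (C.pNil _ _)))))
    (C.pH [26, 38, 54, 89, 90, 113] [20, 32, 54, 86, 102, 115] (by decide +kernel)
    (C.pT (f2935 C)
    (C.pH [8, 30, 65, 84, 94, 117] [22, 33, 56, 84, 103, 110, 116] (by decide +kernel) (C.pNil _ _))))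
    (C.loop_of_one (relLoop2 C) _ _)

theorem f2943 : C.T (v4 C) [6, 31, 57, 72, 106, 112] (v4 C) [8, 56, 77, 101, 116] :=
  C.conv (f751 C) (f753 C) (f753 C) _ [147, 152, 164, 176] _ (by decide +kernel) (by decide +kernel) (by decide +kernel)

theorem f2944 : C.S (v4 C) [16, 43, 64, 82, 90, 110, 123] :=
  C.stMul (f421 C) (f709 C) _ (by decide +kernel)

theorem f2945 : C.S (v4 C) [21, 60, 87, 91, 109, 120] :=
  C.stMul (f407 C) (f2944 C) _ (by decide +kernel)

theorem f2946 : C.T (v4 C) [11, 31, 65, 93, 109, 123] (v4 C) [6, 30, 50, 80, 103, 109, 123] :=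
  C.conv (f606 C) (f421 C) (f2945 C) _ [143, 158, 167, 174, 178] _ (by decide +kernel) (by decide +kernel) (by decide +kernel)

theorem f2947 : C.S (v4 C) [8, 31, 60, 85, 98, 110, 125] :=
  C.stMul (f693 C) (f407 C) _ (by decide +kernel)

theorem f2948 : C.S (v4 C) [42, 63, 82, 91, 110, 125] :=
  C.stMul (f421 C) (f2947 C) _ (by decide +kernel)

theorem f2949 : C.T (v4 C) [13, 36, 61, 77, 91, 109, 120] (v15 C) [25, 38, 60, 86, 101, 117] :=
  C.conv (f2736 C) (f2885 C) (f2948 C) _ [132, 151, 172, 178] _ (by decide +kernel) (by decide +kernel) (by decide +kernel)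

theorem f2950 : C.T (v15 C) [18, 33, 56, 83, 92, 109, 113] (v4 C) [22, 38, 52, 85, 106, 115] :=
  C.closeT (p := (v4 C)) (pu := [6, 31, 57, 72, 106, 112])
    (C.pT (f2943 C)
    (C.pH [26, 38, 54, 89, 90, 113] [11, 31, 65, 93, 109, 123] (by decide +kernel)
    (C.pT (f2946 C)
    (C.pH [8, 30, 65, 84, 94, 117] [13, 36, 61, 77, 91, 109, 120] (by decide +kernel)
    (C.pT (f2949 C)
    (C.pH [26, 38, 54, 89, 90, 113] [18, 33, 56, 83, 92, 109, 113] (by decide +kernel) (C.pNil _ _)))))))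
    (C.pH [8, 30, 65, 84, 94, 117] [6, 31, 57, 72, 106, 112] (by decide +kernel) (C.pNil _ _))
    (C.loop_of_one (relLoop2 C) _ _)

theorem f2951 : C.T (v4 C) [22, 38, 52, 85, 106, 115] (v15 C) [18, 33, 56, 83, 92, 109, 113] :=
  C.flip (f2950 C)

theorem f2952 : C.T (v4 C) [19, 35, 60, 81, 107, 115] (v4 C) [26, 40, 49, 88, 107, 116] :=
  C.conv (f798 C) (f421 C) (f421 C) _ [142, 149, 164, 176, 178] _ (by decide +kernel) (by decide +kernel) (by decide +kernel)

theorem f2953 : C.S (v4 C) [23, 45, 57, 77, 95, 110, 118] :=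
  C.stMul (f407 C) (f2665 C) _ (by decide +kernel)

theorem f2954 : C.S (v4 C) [26, 43, 63, 73, 104, 112] :=
  C.stMul (f421 C) (f2953 C) _ (by decide +kernel)

theorem f2955 : C.S (v4 C) [17, 41, 87, 92, 116] :=
  C.stMul (f693 C) (f2954 C) _ (by decide +kernel)

theorem f2956 : C.T (v4 C) [16, 33, 64, 72, 91, 109, 111] (v15 C) [5, 48, 56, 85, 94, 110, 120] :=
  C.conv (f2628 C) (f2666 C) (f2955 C) _ [135, 156, 169, 171, 177] _ (by decide +kernel) (by decide +kernel) (by decide +kernel)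

theorem f2957 : C.S (v4 C) [13, 28, 60, 83, 108, 110, 119] :=
  C.stMul (f421 C) (f693 C) _ (by decide +kernel)

theorem f2958 : C.S (v4 C) [17, 45, 53, 80, 99, 109, 123] :=
  C.stMul (f407 C) (f2957 C) _ (by decide +kernel)

theorem f2959 : C.T (v4 C) [15, 43, 54, 80, 103, 109, 114] (v15 C) [14, 35, 61, 85, 108, 109, 116] :=
  C.conv (f2613 C) (f2621 C) (f2958 C) _ [139, 161, 173, 177] _ (by decide +kernel) (by decide +kernel) (by decide +kernel)

theorem f2960 : C.T (v15 C) [14, 35, 61, 85, 108, 109, 116] (v4 C) [15, 43, 54, 80, 103, 109, 114] :=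
  C.flip (f2959 C)

theorem f2961 : C.T (v15 C) [12, 39, 66, 88, 97, 110, 119] (v15 C) [12, 45, 51, 85, 101, 121] :=
  C.closeT (p := (v4 C)) (pu := [19, 35, 60, 81, 107, 115])
    (C.pT (f2952 C)
    (C.pH [26, 38, 54, 89, 90, 113] [16, 33, 64, 72, 91, 109, 111] (by decide +kernel)
    (C.pT (f2956 C)
    (C.pH [8, 30, 65, 84, 94, 117] [12, 39, 66, 88, 97, 110, 119] (by decide +kernel) (C.pNil _ _)))))
    (C.pH [26, 38, 54, 89, 90, 113] [14, 35, 61, 85, 108, 109, 116] (by decide +kernel)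
    (C.pT (f2960 C)
    (C.pH [8, 30, 65, 84, 94, 117] [19, 35, 60, 81, 107, 115] (by decide +kernel) (C.pNil _ _))))
    (C.loop_of_one (relLoop2 C) _ _)

theorem f2966 : C.T (v4 C) [24, 64, 71, 108, 124] (v4 C) [4, 40, 57, 81, 104, 121] :=
  C.conv (f798 C) (f421 C) (f421 C) _ [142, 150, 164, 171, 178] _ (by decide +kernel) (by decide +kernel) (by decide +kernel)

theorem f2967 : C.T (v4 C) [25, 33, 51, 72, 91, 110, 112] (v9 C) [12, 34, 64, 86, 101, 109, 122] :=
  C.conv (f2044 C) (f2809 C) (f2808 C) _ [131, 158, 167, 177] _ (by decide +kernel) (by decide +kernel) (by decide +kernel)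

theorem f2968 : C.S (v4 C) [18, 46, 49, 75, 97, 110, 118] :=
  C.stMul (f407 C) (f407 C) _ (by decide +kernel)

theorem f2969 : C.S (v4 C) [16, 43, 64, 82, 90, 110, 123] :=
  C.stMul (f421 C) (f2968 C) _ (by decide +kernel)

theorem f2970 : C.S (v4 C) [21, 60, 87, 91, 109, 120] :=
  C.stMul (f407 C) (f2969 C) _ (by decide +kernel)

theorem f2971 : C.S (v4 C) [13, 34, 59, 73, 105, 109, 115] :=
  C.stMul (f421 C) (f2970 C) _ (by decide +kernel)

theorem f2972 : C.S (v4 C) [10, 42, 56, 80, 93, 109, 122] :=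
  C.stMul (f693 C) (f2968 C) _ (by decide +kernel)

theorem f2973 : C.T (v4 C) [21, 33, 57, 72, 98, 115] (v15 C) [5, 41, 69, 82, 103, 109, 119] :=
  C.conv (f2951 C) (f2971 C) (f2972 C) _ [138, 150, 167, 178] _ (by decide +kernel) (by decide +kernel) (by decide +kernel)

theorem f2974 : C.T (v15 C) [5, 41, 69, 82, 103, 109, 119] (v4 C) [21, 33, 57, 72, 98, 115] :=
  C.flip (f2973 C)

theorem f2975 : C.T (v9 C) [21, 35, 64, 76, 101, 109, 111] (v15 C) [14, 36, 53, 87, 95, 113] :=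
  C.closeT (p := (v4 C)) (pu := [24, 64, 71, 108, 124])
    (C.pT (f2966 C)
    (C.pH [26, 38, 54, 89, 90, 113] [25, 33, 51, 72, 91, 110, 112] (by decide +kernel)
    (C.pT (f2967 C)
    (C.pH [8, 30, 65, 84, 94, 117] [21, 35, 64, 76, 101, 109, 111] (by decide +kernel) (C.pNil _ _)))))
    (C.pH [26, 38, 54, 89, 90, 113] [5, 41, 69, 82, 103, 109, 119] (by decide +kernel)
    (C.pT (f2974 C)
    (C.pH [8, 30, 65, 84, 94, 117] [24, 64, 71, 108, 124] (by decide +kernel) (C.pNil _ _))))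
    (C.loop_of_one (relLoop2 C) _ _)

theorem f2976 : C.T (v15 C) [14, 36, 53, 87, 95, 113] (v9 C) [21, 35, 64, 76, 101, 109, 111] :=
  C.flip (f2975 C)

theorem f2977 : C.T (v4 C) [4, 35, 58, 77, 107, 109, 123] (v3 C) [16, 34, 50, 79, 91, 109, 125] :=
  C.conv (f809 C) (f813 C) (f813 C) _ [146, 160, 165, 177] _ (by decide +kernel) (by decide +kernel) (by decide +kernel)

theorem f2978 : C.S (v3 C) [9, 29, 68, 75, 108, 110, 124] :=
  C.stMul (f335 C) (f328 C) _ (by decide +kernel)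

theorem f2979 : C.S (v3 C) [11, 28, 50, 85, 94, 124] :=
  C.stMul (f353 C) (f2978 C) _ (by decide +kernel)

theorem f2980 : C.S (v3 C) [23, 36, 66, 83, 90, 109, 121] :=
  C.stMul (f331 C) (f2979 C) _ (by decide +kernel)

theorem f2981 : C.S (v3 C) [21, 44, 64, 87, 90, 109, 119] :=
  C.stMul (f335 C) (f2980 C) _ (by decide +kernel)

theorem f2982 : C.S (v3 C) [18, 35, 57, 82, 93, 110, 115] :=
  C.stMul (f353 C) (f331 C) _ (by decide +kernel)

theorem f2983 : C.S (v3 C) [6, 45, 53, 79, 94, 110, 115] :=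
  C.stMul (f335 C) (f2982 C) _ (by decide +kernel)

theorem f2984 : C.S (v3 C) [26, 34, 52, 84, 93, 110, 125] :=
  C.stMul (f331 C) (f2983 C) _ (by decide +kernel)

theorem f2985 : C.T (v3 C) [13, 35, 67, 71, 101, 119] (v15 C) [22, 40, 66, 89, 97, 109, 122] :=
  C.conv (f2902 C) (f2981 C) (f2984 C) _ [157, 167, 174, 177] _ (by decide +kernel) (by decide +kernel) (by decide +kernel)

theorem f2986 : C.T (v4 C) [18, 29, 60, 86, 101, 110, 120] (v15 C) [5, 29, 57, 82, 99, 110, 124] :=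
  C.conv (f2575 C) (f2587 C) (f2610 C) _ [160, 176] _ (by decide +kernel) (by decide +kernel) (by decide +kernel)

theorem f2987 : C.T (v15 C) [5, 29, 57, 82, 99, 110, 124] (v4 C) [18, 29, 60, 86, 101, 110, 120] :=
  C.flip (f2986 C)

theorem f2988 : C.T (v15 C) [6, 44, 68, 86, 98, 110, 125] (v15 C) [14, 28, 51, 78, 100, 121] :=
  C.closeT (p := (v4 C)) (pu := [4, 35, 58, 77, 107, 109, 123])
    (C.pT (f2977 C)
    (C.pH [26, 38, 54, 89, 90, 113] [13, 35, 67, 71, 101, 119] (by decide +kernel)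
    (C.pT (f2985 C)
    (C.pH [8, 30, 65, 84, 94, 117] [6, 44, 68, 86, 98, 110, 125] (by decide +kernel) (C.pNil _ _)))))
    (C.pH [26, 38, 54, 89, 90, 113] [5, 29, 57, 82, 99, 110, 124] (by decide +kernel)
    (C.pT (f2987 C)
    (C.pH [8, 30, 65, 84, 94, 117] [4, 35, 58, 77, 107, 109, 123] (by decide +kernel) (C.pNil _ _))))
    (C.loop_of_one (relLoop2 C) _ _)

theorem f2989 : C.T (v15 C) [14, 28, 51, 78, 100, 121] (v15 C) [6, 44, 68, 86, 98, 110, 125] :=
  C.flip (f2988 C)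

theorem f2990 : C.T (v4 C) [24, 41, 65, 80, 103, 109, 115] (v4 C) [18, 30, 56, 86, 102, 109] :=
  C.conv (f868 C) (f421 C) (f421 C) _ [137, 159, 167, 173, 177] _ (by decide +kernel) (by decide +kernel) (by decide +kernel)

theorem f2991 : C.T (v4 C) [10, 42, 64, 78, 91, 120] (v15 C) [23, 45, 55, 81, 93, 109, 124] :=
  C.conv (f2662 C) (f2712 C) (f2931 C) _ [146, 153, 165, 176, 178] _ (by decide +kernel) (by decide +kernel) (by decide +kernel)

theorem f2992 : C.T (v4 C) [21, 29, 76, 106, 117] (v15 C) [12, 31, 67, 78, 103, 111] :=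
  C.conv (f2755 C) (f2758 C) (f2759 C) _ [147, 149, 170, 175] _ (by decide +kernel) (by decide +kernel) (by decide +kernel)

theorem f2993 : C.T (v15 C) [12, 31, 67, 78, 103, 111] (v4 C) [21, 29, 76, 106, 117] :=
  C.flip (f2992 C)

theorem f2994 : C.T (v15 C) [10, 27, 51, 77, 90, 110, 122] (v15 C) [24, 40, 53, 77, 98, 109, 115] :=
  C.closeT (p := (v4 C)) (pu := [24, 41, 65, 80, 103, 109, 115])
    (C.pT (f2990 C)
    (C.pH [26, 38, 54, 89, 90, 113] [10, 42, 64, 78, 91, 120] (by decide +kernel)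
    (C.pT (f2991 C)
    (C.pH [8, 30, 65, 84, 94, 117] [10, 27, 51, 77, 90, 110, 122] (by decide +kernel) (C.pNil _ _)))))
    (C.pH [26, 38, 54, 89, 90, 113] [12, 31, 67, 78, 103, 111] (by decide +kernel)
    (C.pT (f2993 C)
    (C.pH [8, 30, 65, 84, 94, 117] [24, 41, 65, 80, 103, 109, 115] (by decide +kernel) (C.pNil _ _))))
    (C.loop_of_one (relLoop2 C) _ _)

theorem f2996 : C.S (v15 C) [25, 47, 66, 86, 107, 124] :=
  C.stMul (f2569 C) (f2565 C) _ (by decide +kernel)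

theorem f2997 : C.S (v15 C) [20, 63, 89, 93, 110, 115] :=
  C.stMul (f2569 C) (f2996 C) _ (by decide +kernel)

theorem f2999 : C.T (v4 C) [11, 48, 52, 71, 106, 121] (v5 C) [12, 41, 66, 71, 106, 110] :=
  C.conv (f1004 C) (f1032 C) (f1032 C) _ [137, 158, 168, 176, 177] _ (by decide +kernel) (by decide +kernel) (by decide +kernel)

theorem f3000 : C.S (v5 C) [13, 31, 66, 73, 100, 119] :=
  C.stMul (f986 C) (f1023 C) _ (by decide +kernel)

theorem f3001 : C.T (v5 C) [14, 46, 65, 79, 94, 119] (v10 C) [4, 29, 63, 77, 105, 121] :=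
  C.conv (f1975 C) (f1023 C) (f3000 C) _ [146, 161, 169, 173, 178] _ (by decide +kernel) (by decide +kernel) (by decide +kernel)

theorem f3002 : C.S (v4 C) [23, 41, 49, 78, 91, 109] :=
  C.stMul (f693 C) (f421 C) _ (by decide +kernel)

theorem f3003 : C.S (v4 C) [26, 36, 62, 77, 94, 121] :=
  C.stMul (f421 C) (f3002 C) _ (by decide +kernel)

theorem f3004 : C.S (v4 C) [25, 42, 55, 82, 95, 109] :=
  C.stMul (f407 C) (f3003 C) _ (by decide +kernel)

theorem f3005 : C.T (v4 C) [13, 44, 65, 77, 98, 109, 116] (v15 C) [43, 60, 89, 107, 122] :=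
  C.conv (f2951 C) (f2971 C) (f3004 C) _ [145, 165, 175, 178] _ (by decide +kernel) (by decide +kernel) (by decide +kernel)

theorem f3006 : C.T (v15 C) [43, 60, 89, 107, 122] (v4 C) [13, 44, 65, 77, 98, 109, 116] :=
  C.flip (f3005 C)

theorem f3007 : C.T (v10 C) [25, 44, 66, 78, 96, 110, 122] (v15 C) [7, 28, 65, 72, 98, 121] :=
  C.closeT (p := (v4 C)) (pu := [11, 48, 52, 71, 106, 121])
    (C.pT (f2999 C)
    (C.pH [26, 38, 54, 89, 90, 113] [14, 46, 65, 79, 94, 119] (by decide +kernel)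
    (C.pT (f3001 C)
    (C.pH [8, 30, 65, 84, 94, 117] [25, 44, 66, 78, 96, 110, 122] (by decide +kernel) (C.pNil _ _)))))
    (C.pH [26, 38, 54, 89, 90, 113] [43, 60, 89, 107, 122] (by decide +kernel)
    (C.pT (f3006 C)
    (C.pH [8, 30, 65, 84, 94, 117] [11, 48, 52, 71, 106, 121] (by decide +kernel) (C.pNil _ _))))
    (C.loop_of_one (relLoop2 C) _ _)

theorem f3008 : C.T (v15 C) [7, 28, 65, 72, 98, 121] (v10 C) [25, 44, 66, 78, 96, 110, 122] :=
  C.flip (f3007 C)

theorem f3009 : C.T (v4 C) [19, 46, 69, 85, 97, 109, 125] (v5 C) [7, 37, 49, 82, 91, 110, 123] :=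
  C.conv (f1108 C) (f1133 C) (f1133 C) _ [140, 167, 177] _ (by decide +kernel) (by decide +kernel) (by decide +kernel)

theorem f3010 : C.T (v5 C) [29, 64, 84, 105, 109, 124] (v6 C) [26, 27, 76, 97, 110, 119] :=
  C.conv (f1383 C) (f1403 C) (f1141 C) _ [135, 154, 169, 172] _ (by decide +kernel) (by decide +kernel) (by decide +kernel)

theorem f3011 : C.S (v4 C) [8, 31, 60, 85, 98, 110, 125] :=
  C.stMul (f693 C) (f407 C) _ (by decide +kernel)

theorem f3012 : C.S (v4 C) [42, 63, 82, 91, 110, 125] :=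
  C.stMul (f421 C) (f3011 C) _ (by decide +kernel)

theorem f3013 : C.T (v4 C) [15, 40, 59, 84, 99, 119] (v15 C) [10, 38, 50, 84, 94, 109, 123] :=
  C.conv (f2613 C) (f2621 C) (f3012 C) _ [126, 152, 166, 175, 178] _ (by decide +kernel) (by decide +kernel) (by decide +kernel)

theorem f3014 : C.T (v15 C) [10, 38, 50, 84, 94, 109, 123] (v4 C) [15, 40, 59, 84, 99, 119] :=
  C.flip (f3013 C)

theorem f3015 : C.T (v6 C) [14, 29, 49, 83, 108, 109] (v15 C) [18, 32, 72, 99, 114] :=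
  C.closeT (p := (v4 C)) (pu := [19, 46, 69, 85, 97, 109, 125])
    (C.pT (f3009 C)
    (C.pH [26, 38, 54, 89, 90, 113] [29, 64, 84, 105, 109, 124] (by decide +kernel)
    (C.pT (f3010 C)
    (C.pH [8, 30, 65, 84, 94, 117] [14, 29, 49, 83, 108, 109] (by decide +kernel) (C.pNil _ _)))))
    (C.pH [26, 38, 54, 89, 90, 113] [10, 38, 50, 84, 94, 109, 123] (by decide +kernel)
    (C.pT (f3014 C)
    (C.pH [8, 30, 65, 84, 94, 117] [19, 46, 69, 85, 97, 109, 125] (by decide +kernel) (C.pNil _ _))))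
    (C.loop_of_one (relLoop2 C) _ _)

theorem f3016 : C.T (v15 C) [18, 32, 72, 99, 114] (v6 C) [14, 29, 49, 83, 108, 109] :=
  C.flip (f3015 C)

theorem f3017 : C.T (v4 C) [21, 31, 61, 80, 108, 110, 122] (v6 C) [19, 42, 68, 71, 94, 116] :=
  C.conv (f1285 C) (f1302 C) (f1302 C) _ [133, 159, 169, 178] _ (by decide +kernel) (by decide +kernel) (by decide +kernel)

theorem f3018 : C.S (v6 C) [18, 45, 63, 87, 90, 110, 113] :=
  C.stMul (f1270 C) (f1266 C) _ (by decide +kernel)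

theorem f3019 : C.S (v6 C) [15, 40, 68, 87, 106, 110, 111] :=
  C.stMul (f1358 C) (f3018 C) _ (by decide +kernel)

theorem f3020 : C.S (v6 C) [15, 67, 76, 100, 118] :=
  C.stMul (f1291 C) (f1266 C) _ (by decide +kernel)

theorem f3021 : C.S (v6 C) [18, 29, 50, 88, 104, 121] :=
  C.stMul (f1358 C) (f3020 C) _ (by decide +kernel)

theorem f3022 : C.T (v6 C) [17, 46, 68, 76, 100, 122] (v9 C) [16, 45, 51, 89, 101, 109, 113] :=
  C.conv (f2099 C) (f3019 C) (f3021 C) _ [155, 164, 171, 178] _ (by decide +kernel) (by decide +kernel) (by decide +kernel)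

theorem f3023 : C.T (v4 C) [12, 39, 59, 73, 106, 110, 122] (v15 C) [16, 27, 54, 85, 103, 109, 119] :=
  C.conv (f2613 C) (f2621 C) (f2873 C) _ [130, 155, 170, 173, 177] _ (by decide +kernel) (by decide +kernel) (by decide +kernel)

theorem f3024 : C.T (v15 C) [16, 27, 54, 85, 103, 109, 119] (v4 C) [12, 39, 59, 73, 106, 110, 122] :=
  C.flip (f3023 C)

theorem f3025 : C.T (v9 C) [20, 27, 61, 86, 94, 113] (v15 C) [26, 37, 52, 79, 108, 118] :=
  C.closeT (p := (v4 C)) (pu := [21, 31, 61, 80, 108, 110, 122])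
    (C.pT (f3017 C)
    (C.pH [26, 38, 54, 89, 90, 113] [17, 46, 68, 76, 100, 122] (by decide +kernel)
    (C.pT (f3022 C)
    (C.pH [8, 30, 65, 84, 94, 117] [20, 27, 61, 86, 94, 113] (by decide +kernel) (C.pNil _ _)))))
    (C.pH [26, 38, 54, 89, 90, 113] [16, 27, 54, 85, 103, 109, 119] (by decide +kernel)
    (C.pT (f3024 C)
    (C.pH [8, 30, 65, 84, 94, 117] [21, 31, 61, 80, 108, 110, 122] (by decide +kernel) (C.pNil _ _))))
    (C.loop_of_one (relLoop2 C) _ _)

theorem f3026 : C.T (v15 C) [26, 37, 52, 79, 108, 118] (v9 C) [20, 27, 61, 86, 94, 113] :=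
  C.flip (f3025 C)

theorem f3027 : C.T (v4 C) [15, 43, 67, 79, 105, 110] (v9 C) [12, 40, 50, 76, 104, 109, 122] :=
  C.conv (f2044 C) (f2809 C) (f2809 C) _ [138, 159, 169, 176, 178] _ (by decide +kernel) (by decide +kernel) (by decide +kernel)

theorem f3028 : C.S (v4 C) [17, 35, 66, 70, 95] :=
  C.stMul (f421 C) (f407 C) _ (by decide +kernel)

theorem f3029 : C.S (v4 C) [13, 44, 51, 82, 106, 110, 111] :=
  C.stMul (f407 C) (f3028 C) _ (by decide +kernel)

theorem f3030 : C.S (v4 C) [21, 35, 69, 73, 94, 109, 122] :=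
  C.stMul (f421 C) (f3029 C) _ (by decide +kernel)

theorem f3031 : C.T (v4 C) [10, 57, 76, 104, 113] (v9 C) [24, 48, 53, 70, 103, 124] :=
  C.conv (f2044 C) (f2809 C) (f3030 C) _ [134, 152, 167, 176, 177] _ (by decide +kernel) (by decide +kernel) (by decide +kernel)

theorem f3032 : C.T (v9 C) [24, 48, 53, 70, 103, 124] (v4 C) [10, 57, 76, 104, 113] :=
  C.flip (f3031 C)

theorem f3033 : C.S (v9 C) [21, 32, 63, 85, 106, 110, 120] :=
  C.stMul (f1624 C) (f1620 C) _ (by decide +kernel)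

theorem f3034 : C.S (v9 C) [12, 29, 63, 103, 119] :=
  C.stMul (f1620 C) (f3033 C) _ (by decide +kernel)

theorem f3035 : C.S (v9 C) [6, 33, 57, 77, 98, 119] :=
  C.stMul (f1615 C) (f3034 C) _ (by decide +kernel)

theorem f3036 : C.T (v9 C) [11, 31, 68, 84, 108, 109, 120] (v15 C) [22, 38, 53, 71, 108, 110, 119] :=
  C.conv (f2928 C) (f3035 C) (f1607 C) _ [147, 161, 169, 173, 178] _ (by decide +kernel) (by decide +kernel) (by decide +kernel)

theorem f3037 : C.T (v15 C) [22, 38, 53, 71, 108, 110, 119] (v9 C) [11, 31, 68, 84, 108, 109, 120] :=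
  C.flip (f3036 C)

theorem f3038 : C.T (v9 C) [14, 32, 49, 75, 94, 116] (v15 C) [17, 28, 54, 84, 92, 110, 117] :=
  C.closeT (p := (v4 C)) (pu := [15, 43, 67, 79, 105, 110])
    (C.pT (f3027 C)
    (C.pH [26, 38, 54, 89, 90, 113] [14, 32, 49, 75, 94, 116] (by decide +kernel) (C.pNil _ _)))
    (C.pH [8, 30, 65, 84, 94, 117] [22, 38, 53, 71, 108, 110, 119] (by decide +kernel)
    (C.pT (f3037 C)
    (C.pH [26, 38, 54, 89, 90, 113] [24, 48, 53, 70, 103, 124] (by decide +kernel)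
    (C.pT (f3032 C)
    (C.pH [8, 30, 65, 84, 94, 117] [15, 43, 67, 79, 105, 110] (by decide +kernel) (C.pNil _ _))))))
    (C.loop_of_one (relLoop2 C) _ _)

theorem f3039 : C.T (v15 C) [17, 28, 54, 84, 92, 110, 117] (v9 C) [14, 32, 49, 75, 94, 116] :=
  C.flip (f3038 C)

theorem f3040 : C.S (v4 C) [13, 28, 60, 83, 108, 110, 119] :=
  C.stMul (f421 C) (f693 C) _ (by decide +kernel)

theorem f3041 : C.S (v4 C) [17, 45, 53, 80, 99, 109, 123] :=
  C.stMul (f407 C) (f3040 C) _ (by decide +kernel)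

theorem f3042 : C.T (v4 C) [24, 29, 65, 76, 109, 117] (v14 C) [17, 43, 61, 78, 107, 110, 114] :=
  C.conv (f2536 C) (f3041 C) (f3041 C) _ [140, 155, 164, 172] _ (by decide +kernel) (by decide +kernel) (by decide +kernel)

theorem f3043 : C.S (v14 C) [17, 28, 86, 107, 109, 124] :=
  C.stMul (f2441 C) (f2441 C) _ (by decide +kernel)

theorem f3044 : C.S (v14 C) [12, 45, 57, 72, 98, 109, 119] :=
  C.stMul (f2445 C) (f3043 C) _ (by decide +kernel)

theorem f3045 : C.S (v14 C) [7, 28, 67, 87, 97, 110, 115] :=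
  C.stMul (f2454 C) (f3044 C) _ (by decide +kernel)

theorem f3046 : C.S (v14 C) [24, 32, 67, 70, 98, 109, 114] :=
  C.stMul (f2441 C) (f3045 C) _ (by decide +kernel)

theorem f3047 : C.T (v14 C) [20, 30, 65, 86, 97, 109, 116] (v9 C) [15, 39, 89, 104, 110, 113] :=
  C.conv (f2499 C) (f2511 C) (f3046 C) _ [129, 153, 170, 174, 177] _ (by decide +kernel) (by decide +kernel) (by decide +kernel)

theorem f3048 : C.S (v4 C) [13, 28, 60, 83, 108, 110, 119] :=
  C.stMul (f421 C) (f693 C) _ (by decide +kernel)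

theorem f3049 : C.T (v4 C) [21, 44, 53, 86, 108, 109, 120] (v15 C) [5, 31, 67, 103, 114] :=
  C.conv (f2951 C) (f2971 C) (f3048 C) _ [141, 162, 167, 176, 178] _ (by decide +kernel) (by decide +kernel) (by decide +kernel)

theorem f3050 : C.T (v15 C) [5, 31, 67, 103, 114] (v4 C) [21, 44, 53, 86, 108, 109, 120] :=
  C.flip (f3049 C)

theorem f3051 : C.T (v9 C) [19, 44, 63, 76, 90, 109, 113] (v15 C) [14, 63, 78, 93, 110, 124] :=
  C.closeT (p := (v4 C)) (pu := [24, 29, 65, 76, 109, 117])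
    (C.pT (f3042 C)
    (C.pH [26, 38, 54, 89, 90, 113] [20, 30, 65, 86, 97, 109, 116] (by decide +kernel)
    (C.pT (f3047 C)
    (C.pH [8, 30, 65, 84, 94, 117] [19, 44, 63, 76, 90, 109, 113] (by decide +kernel) (C.pNil _ _)))))
    (C.pH [26, 38, 54, 89, 90, 113] [5, 31, 67, 103, 114] (by decide +kernel)
    (C.pT (f3050 C)
    (C.pH [8, 30, 65, 84, 94, 117] [24, 29, 65, 76, 109, 117] (by decide +kernel) (C.pNil _ _))))
    (C.loop_of_one (relLoop2 C) _ _)

theorem f3052 : C.T (v15 C) [14, 63, 78, 93, 110, 124] (v9 C) [19, 44, 63, 76, 90, 109, 113] :=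
  C.flip (f3051 C)

theorem f3053 : C.T (v4 C) [9, 32, 64, 72, 103, 109, 114] (v14 C) [7, 29, 89, 104, 109, 125] :=
  C.conv (f2536 C) (f3041 C) (f3041 C) _ [139, 155, 168, 175, 177] _ (by decide +kernel) (by decide +kernel) (by decide +kernel)

theorem f3054 : C.T (v4 C) [25, 47, 62, 76, 96, 117] (v9 C) [20, 43, 53, 89, 93, 109, 123] :=
  C.conv (f2044 C) (f2809 C) (f2808 C) _ [143, 162, 168, 175, 178] _ (by decide +kernel) (by decide +kernel) (by decide +kernel)

theorem f3055 : C.T (v9 C) [20, 43, 53, 89, 93, 109, 123] (v4 C) [25, 47, 62, 76, 96, 117] :=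
  C.flip (f3054 C)

theorem f3056 : C.S (v9 C) [4, 48, 53, 80, 99, 115] :=
  C.stMul (f1615 C) (f1624 C) _ (by decide +kernel)

theorem f3057 : C.S (v9 C) [18, 29, 52, 87, 96, 125] :=
  C.stMul (f1620 C) (f3056 C) _ (by decide +kernel)

theorem f3058 : C.S (v9 C) [12, 46, 57, 83, 110, 112] :=
  C.stMul (f1607 C) (f3057 C) _ (by decide +kernel)

theorem f3059 : C.S (v9 C) [10, 47, 79, 100, 110, 114] :=
  C.stMul (f1620 C) (f1607 C) _ (by decide +kernel)

theorem f3060 : C.S (v9 C) [11, 40, 59, 82, 99, 110, 111] :=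
  C.stMul (f1615 C) (f3059 C) _ (by decide +kernel)

theorem f3061 : C.T (v9 C) [17, 39, 51, 77, 105, 109, 125] (v15 C) [32, 65, 77, 98, 109, 114] :=
  C.conv (f3051 C) (f3058 C) (f3060 C) _ [141, 150, 167, 171] _ (by decide +kernel) (by decide +kernel) (by decide +kernel)

theorem f3062 : C.T (v15 C) [32, 65, 77, 98, 109, 114] (v9 C) [17, 39, 51, 77, 105, 109, 125] :=
  C.flip (f3061 C)

theorem f3063 : C.T (v14 C) [40, 66, 89, 92, 122] (v15 C) [8, 40, 54, 79, 97, 109, 116] :=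
  C.closeT (p := (v4 C)) (pu := [9, 32, 64, 72, 103, 109, 114])
    (C.pT (f3053 C)
    (C.pH [26, 38, 54, 89, 90, 113] [40, 66, 89, 92, 122] (by decide +kernel) (C.pNil _ _)))
    (C.pH [8, 30, 65, 84, 94, 117] [32, 65, 77, 98, 109, 114] (by decide +kernel)
    (C.pT (f3062 C)
    (C.pH [26, 38, 54, 89, 90, 113] [20, 43, 53, 89, 93, 109, 123] (by decide +kernel)
    (C.pT (f3055 C)
    (C.pH [8, 30, 65, 84, 94, 117] [9, 32, 64, 72, 103, 109, 114] (by decide +kernel) (C.pNil _ _))))))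
    (C.loop_of_one (relLoop2 C) _ _)

theorem f3064 : C.T (v15 C) [8, 40, 54, 79, 97, 109, 116] (v14 C) [40, 66, 89, 92, 122] :=
  C.flip (f3063 C)

theorem f3065 : C.T (v4 C) [5, 43, 79, 95, 110, 116] (v14 C) [13, 33, 59, 74, 104, 109, 112] :=
  C.conv (f2536 C) (f3041 C) (f3041 C) _ [140, 154, 170, 173] _ (by decide +kernel) (by decide +kernel) (by decide +kernel)

theorem f3066 : C.S (v14 C) [17, 28, 86, 107, 109, 124] :=
  C.stMul (f2441 C) (f2441 C) _ (by decide +kernel)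

theorem f3067 : C.S (v14 C) [12, 45, 57, 72, 98, 109, 119] :=
  C.stMul (f2445 C) (f3066 C) _ (by decide +kernel)

theorem f3068 : C.S (v14 C) [7, 28, 67, 87, 108, 110, 112] :=
  C.stMul (f2437 C) (f3067 C) _ (by decide +kernel)

theorem f3069 : C.S (v14 C) [23, 39, 50, 75, 103, 110, 115] :=
  C.stMul (f2454 C) (f2437 C) _ (by decide +kernel)

theorem f3070 : C.S (v14 C) [10, 37, 66, 75, 96, 110, 123] :=
  C.stMul (f2441 C) (f3069 C) _ (by decide +kernel)

theorem f3071 : C.S (v14 C) [25, 43, 56, 77, 106, 120] :=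
  C.stMul (f2454 C) (f3070 C) _ (by decide +kernel)

theorem f3072 : C.S (v14 C) [17, 47, 49, 78, 101, 114] :=
  C.stMul (f2441 C) (f3071 C) _ (by decide +kernel)

theorem f3073 : C.T (v14 C) [23, 36, 57, 77, 96, 110, 117] (v10 C) [22, 39, 49, 78, 105, 116] :=
  C.conv (f2528 C) (f3068 C) (f3072 C) _ [139, 156, 164, 175] _ (by decide +kernel) (by decide +kernel) (by decide +kernel)

theorem f3074 : C.T (v4 C) [14, 44, 58, 79, 95, 110, 116] (v15 C) [15, 29, 50, 87, 92, 109, 124] :=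
  C.conv (f2755 C) (f2758 C) (f407 C) _ [144, 153, 167, 172, 177] _ (by decide +kernel) (by decide +kernel) (by decide +kernel)

theorem f3075 : C.T (v15 C) [15, 29, 50, 87, 92, 109, 124] (v4 C) [14, 44, 58, 79, 95, 110, 116] :=
  C.flip (f3074 C)

theorem f3076 : C.T (v10 C) [6, 38, 63, 76, 96, 109, 114] (v15 C) [20, 36, 61, 79, 102, 111] :=
  C.closeT (p := (v4 C)) (pu := [5, 43, 79, 95, 110, 116])
    (C.pT (f3065 C)
    (C.pH [26, 38, 54, 89, 90, 113] [23, 36, 57, 77, 96, 110, 117] (by decide +kernel)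
    (C.pT (f3073 C)
    (C.pH [8, 30, 65, 84, 94, 117] [6, 38, 63, 76, 96, 109, 114] (by decide +kernel) (C.pNil _ _)))))
    (C.pH [26, 38, 54, 89, 90, 113] [15, 29, 50, 87, 92, 109, 124] (by decide +kernel)
    (C.pT (f3075 C)
    (C.pH [8, 30, 65, 84, 94, 117] [5, 43, 79, 95, 110, 116] (by decide +kernel) (C.pNil _ _))))
    (C.loop_of_one (relLoop2 C) _ _)

theorem f3077 : C.T (v15 C) [20, 36, 61, 79, 102, 111] (v10 C) [6, 38, 63, 76, 96, 109, 114] :=
  C.flip (f3076 C)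

theorem f3078 : C.T (v4 C) [25, 39, 65, 87, 101, 109, 119] (v15 C) [12, 31, 65, 84, 105, 109, 112] :=
  C.conv (f2575 C) (f2587 C) (f2587 C) _ [131, 160, 168, 176] _ (by decide +kernel) (by decide +kernel) (by decide +kernel)

theorem f3079 : C.S (v4 C) [10, 27, 56, 84, 93, 109, 113] :=
  C.stMul (f407 C) (f421 C) _ (by decide +kernel)

theorem f3080 : C.T (v4 C) [4, 38, 51, 89, 91, 110, 114] (v4 C) [17, 40, 69, 72, 90, 118] :=
  C.conv (f882 C) (f407 C) (f3079 C) _ [144, 150, 176, 177] _ (by decide +kernel) (by decide +kernel) (by decide +kernel)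

theorem f3081 : C.T (v4 C) [17, 40, 69, 72, 90, 118] (v4 C) [4, 38, 51, 89, 91, 110, 114] :=
  C.flip (f3080 C)

theorem f3082 : C.S (v4 C) [13, 28, 60, 83, 108, 110, 119] :=
  C.stMul (f421 C) (f693 C) _ (by decide +kernel)

theorem f3083 : C.T (v4 C) [19, 37, 64, 74, 92, 110, 119] (v15 C) [22, 36, 62, 78, 106, 109, 111] :=
  C.conv (f2575 C) (f2587 C) (f3082 C) _ [126, 162, 176, 178] _ (by decide +kernel) (by decide +kernel) (by decide +kernel)

theorem f3084 : C.T (v15 C) [22, 36, 62, 78, 106, 109, 111] (v4 C) [19, 37, 64, 74, 92, 110, 119] :=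
  C.flip (f3083 C)

theorem f3085 : C.T (v15 C) [14, 42, 65, 74, 106, 122] (v15 C) [17, 35, 56, 75, 106, 110, 118] :=
  C.closeT (p := (v4 C)) (pu := [25, 39, 65, 87, 101, 109, 119])
    (C.pT (f3078 C)
    (C.pH [26, 38, 54, 89, 90, 113] [14, 42, 65, 74, 106, 122] (by decide +kernel) (C.pNil _ _)))
    (C.pH [8, 30, 65, 84, 94, 117] [22, 36, 62, 78, 106, 109, 111] (by decide +kernel)
    (C.pT (f3084 C)
    (C.pH [26, 38, 54, 89, 90, 113] [17, 40, 69, 72, 90, 118] (by decide +kernel)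
    (C.pT (f3081 C)
    (C.pH [8, 30, 65, 84, 94, 117] [25, 39, 65, 87, 101, 109, 119] (by decide +kernel) (C.pNil _ _))))))
    (C.loop_of_one (relLoop2 C) _ _)

theorem f3088 : C.T (v4 C) [21, 33, 61, 87, 108, 118] (v15 C) [5, 38, 53, 88, 103] :=
  C.conv (f2613 C) (f2621 C) (f2621 C) _ [148, 162, 169, 176] _ (by decide +kernel) (by decide +kernel) (by decide +kernel)

theorem f3089 : C.S (v4 C) [8, 31, 60, 85, 98, 110, 125] :=
  C.stMul (f693 C) (f407 C) _ (by decide +kernel)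

theorem f3090 : C.S (v4 C) [42, 63, 82, 91, 110, 125] :=
  C.stMul (f421 C) (f3089 C) _ (by decide +kernel)

theorem f3091 : C.T (v4 C) [12, 46, 63, 82, 106, 110, 125] (v9 C) [16, 27, 64, 70, 91, 109] :=
  C.conv (f2044 C) (f2809 C) (f3090 C) _ [133, 149, 167, 176, 178] _ (by decide +kernel) (by decide +kernel) (by decide +kernel)

theorem f3092 : C.T (v9 C) [16, 27, 64, 70, 91, 109] (v4 C) [12, 46, 63, 82, 106, 110, 125] :=
  C.flip (f3091 C)

theorem f3093 : C.S (v9 C) [22, 48, 68, 83, 104, 125] :=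
  C.stMul (f1624 C) (f1610 C) _ (by decide +kernel)

theorem f3094 : C.T (v9 C) [26, 37, 61, 76, 97, 109, 117] (v15 C) [18, 40, 55, 72, 90, 110, 111] :=
  C.conv (f2928 C) (f3035 C) (f3093 C) _ [141, 172, 177] _ (by decide +kernel) (by decide +kernel) (by decide +kernel)

theorem f3095 : C.T (v15 C) [18, 40, 55, 72, 90, 110, 111] (v9 C) [26, 37, 61, 76, 97, 109, 117] :=
  C.flip (f3094 C)

theorem f3096 : C.T (v15 C) [8, 40, 56, 81, 94, 109, 111] (v15 C) [9, 28, 62, 82, 105, 109] :=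
  C.closeT (p := (v4 C)) (pu := [21, 33, 61, 87, 108, 118])
    (C.pT (f3088 C)
    (C.pH [26, 38, 54, 89, 90, 113] [8, 40, 56, 81, 94, 109, 111] (by decide +kernel) (C.pNil _ _)))
    (C.pH [8, 30, 65, 84, 94, 117] [18, 40, 55, 72, 90, 110, 111] (by decide +kernel)
    (C.pT (f3095 C)
    (C.pH [26, 38, 54, 89, 90, 113] [16, 27, 64, 70, 91, 109] (by decide +kernel)
    (C.pT (f3092 C)
    (C.pH [8, 30, 65, 84, 94, 117] [21, 33, 61, 87, 108, 118] (by decide +kernel) (C.pNil _ _))))))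
    (C.loop_of_one (relLoop2 C) _ _)

theorem f3098 : C.S (v15 C) [20, 39, 55, 88, 95, 110, 125] :=
  C.stMul (f2581 C) (f2565 C) _ (by decide +kernel)

theorem f3099 : C.S (v15 C) [34, 69, 79, 92, 114] :=
  C.stMul (f2565 C) (f3098 C) _ (by decide +kernel)

theorem f3100 : C.S (v15 C) [25, 47, 66, 86, 107, 124] :=
  C.stMul (f2569 C) (f2565 C) _ (by decide +kernel)

theorem f3104 : C.T (v4 C) [19, 28, 62, 73, 102, 112] (v15 C) [23, 43, 61, 77, 96, 122] :=
  C.conv (f2728 C) (f2857 C) (f2857 C) _ [132, 160, 169, 175] _ (by decide +kernel) (by decide +kernel) (by decide +kernel)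

theorem f3105 : C.S (v15 C) [24, 47, 64, 83, 99, 109, 111] :=
  C.stMul (f2581 C) (f2569 C) _ (by decide +kernel)

theorem f3106 : C.T (v15 C) [7, 40, 62, 95, 109, 114] (v10 C) [4, 33, 69, 84, 91, 109, 111] :=
  C.conv (f3077 C) (f2569 C) (f3105 C) _ [140, 158, 165, 173, 178] _ (by decide +kernel) (by decide +kernel) (by decide +kernel)

theorem f3107 : C.S (v4 C) [16, 43, 64, 82, 90, 110, 123] :=
  C.stMul (f421 C) (f2855 C) _ (by decide +kernel)

theorem f3108 : C.T (v4 C) [15, 29, 50, 85, 103, 109, 122] (v15 C) [38, 67, 77, 103, 110, 120] :=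
  C.conv (f2728 C) (f2857 C) (f3107 C) _ [138, 157, 166, 175] _ (by decide +kernel) (by decide +kernel) (by decide +kernel)

theorem f3109 : C.T (v15 C) [38, 67, 77, 103, 110, 120] (v4 C) [15, 29, 50, 85, 103, 109, 122] :=
  C.flip (f3108 C)

theorem f3110 : C.T (v10 C) [25, 42, 57, 81, 91, 110, 114] (v15 C) [7, 48, 53, 89, 96, 110, 118] :=
  C.closeT (p := (v4 C)) (pu := [19, 28, 62, 73, 102, 112])
    (C.pT (f3104 C)
    (C.pH [26, 38, 54, 89, 90, 113] [7, 40, 62, 95, 109, 114] (by decide +kernel)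
    (C.pT (f3106 C)
    (C.pH [8, 30, 65, 84, 94, 117] [25, 42, 57, 81, 91, 110, 114] (by decide +kernel) (C.pNil _ _)))))
    (C.pH [26, 38, 54, 89, 90, 113] [38, 67, 77, 103, 110, 120] (by decide +kernel)
    (C.pT (f3109 C)
    (C.pH [8, 30, 65, 84, 94, 117] [19, 28, 62, 73, 102, 112] (by decide +kernel) (C.pNil _ _))))
    (C.loop_of_one (relLoop2 C) _ _)

theorem f3111 : C.T (v15 C) [7, 48, 53, 89, 96, 110, 118] (v10 C) [25, 42, 57, 81, 91, 110, 114] :=
  C.flip (f3110 C)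

theorem f3112 : C.T (v4 C) [7, 36, 65, 73, 116] (v15 C) [25, 30, 62, 78, 100, 110, 111] :=
  C.conv (f2728 C) (f2857 C) (f2857 C) _ [130, 149, 168, 174, 177] _ (by decide +kernel) (by decide +kernel) (by decide +kernel)

theorem f3113 : C.T (v15 C) [18, 37, 65, 85, 98, 109, 115] (v15 C) [13, 32, 62, 71, 107, 109, 111] :=
  C.conv (f3096 C) (f3099 C) (f3100 C) _ [152, 164, 173, 178] _ (by decide +kernel) (by decide +kernel) (by decide +kernel)

theorem f3114 : C.S (v4 C) [10, 38, 55, 71, 94, 110, 113] :=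
  C.stMul (f421 C) (f1881 C) _ (by decide +kernel)

theorem f3115 : C.T (v4 C) [11, 39, 50, 106, 110, 119] (v10 C) [12, 30, 63, 83, 99, 109, 122] :=
  C.conv (f1798 C) (f1856 C) (f3114 C) _ [143, 162, 164, 171, 178] _ (by decide +kernel) (by decide +kernel) (by decide +kernel)

theorem f3116 : C.T (v10 C) [12, 30, 63, 83, 99, 109, 122] (v4 C) [11, 39, 50, 106, 110, 119] :=
  C.flip (f3115 C)

theorem f3117 : C.T (v15 C) [11, 33, 63, 72, 93, 110, 111] (v10 C) [24, 35, 54, 83, 103, 109, 120] :=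
  C.closeT (p := (v4 C)) (pu := [7, 36, 65, 73, 116])
    (C.pT (f3112 C)
    (C.pH [26, 38, 54, 89, 90, 113] [18, 37, 65, 85, 98, 109, 115] (by decide +kernel)
    (C.pT (f3113 C)
    (C.pH [8, 30, 65, 84, 94, 117] [11, 33, 63, 72, 93, 110, 111] (by decide +kernel) (C.pNil _ _)))))
    (C.pH [26, 38, 54, 89, 90, 113] [12, 30, 63, 83, 99, 109, 122] (by decide +kernel)
    (C.pT (f3116 C)
    (C.pH [8, 30, 65, 84, 94, 117] [7, 36, 65, 73, 116] (by decide +kernel) (C.pNil _ _))))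
    (C.loop_of_one (relLoop2 C) _ _)

theorem f3118 : C.T (v10 C) [24, 35, 54, 83, 103, 109, 120] (v15 C) [11, 33, 63, 72, 93, 110, 111] :=
  C.flip (f3117 C)

theorem f3119 : C.T (v4 C) [13, 42, 58, 80, 93, 115] (v15 C) [16, 44, 64, 82, 108, 117] :=
  C.conv (f2728 C) (f2857 C) (f2857 C) _ [142, 162, 171, 178] _ (by decide +kernel) (by decide +kernel) (by decide +kernel)

theorem f3120 : C.S (v15 C) [25, 46, 61, 102, 110, 119] :=
  C.stMul (f2565 C) (f2569 C) _ (by decide +kernel)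

theorem f3121 : C.T (v15 C) [13, 37, 55, 77, 96, 109, 111] (v15 C) [22, 40, 50, 78, 93, 110, 116] :=
  C.conv (f2686 C) (f2688 C) (f3120 C) _ [129, 152, 170] _ (by decide +kernel) (by decide +kernel) (by decide +kernel)

theorem f3122 : C.T (v4 C) [6, 28, 55, 73, 100, 110, 125] (v5 C) [25, 27, 68, 73, 113] :=
  C.conv (f1004 C) (f1032 C) (f1032 C) _ [141, 153, 175] _ (by decide +kernel) (by decide +kernel) (by decide +kernel)

theorem f3123 : C.T (v5 C) [25, 27, 68, 73, 113] (v4 C) [6, 28, 55, 73, 100, 110, 125] :=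
  C.flip (f3122 C)

theorem f3124 : C.T (v15 C) [6, 44, 60, 70, 96, 123] (v5 C) [4, 39, 69, 73, 92, 112] :=
  C.closeT (p := (v4 C)) (pu := [13, 42, 58, 80, 93, 115])
    (C.pT (f3119 C)
    (C.pH [26, 38, 54, 89, 90, 113] [13, 37, 55, 77, 96, 109, 111] (by decide +kernel)
    (C.pT (f3121 C)
    (C.pH [8, 30, 65, 84, 94, 117] [6, 44, 60, 70, 96, 123] (by decide +kernel) (C.pNil _ _)))))
    (C.pH [26, 38, 54, 89, 90, 113] [25, 27, 68, 73, 113] (by decide +kernel)
    (C.pT (f3123 C)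
    (C.pH [8, 30, 65, 84, 94, 117] [13, 42, 58, 80, 93, 115] (by decide +kernel) (C.pNil _ _))))
    (C.loop_of_one (relLoop2 C) _ _)

theorem f3125 : C.T (v5 C) [4, 39, 69, 73, 92, 112] (v15 C) [6, 44, 60, 70, 96, 123] :=
  C.flip (f3124 C)

theorem f3126 : C.T (v4 C) [15, 46, 60, 77, 105, 116] (v15 C) [9, 32, 49, 86, 93, 109] :=
  C.conv (f2736 C) (f2885 C) (f2885 C) _ [146, 151, 164, 172, 178] _ (by decide +kernel) (by decide +kernel) (by decide +kernel)

theorem f3127 : C.S (v15 C) [34, 69, 79, 92, 114] :=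
  C.stMul (f2565 C) (f2829 C) _ (by decide +kernel)

theorem f3128 : C.T (v15 C) [22, 41, 64, 72, 104, 109, 122] (v15 C) [4, 39, 51, 83, 106, 110, 122] :=
  C.conv (f2827 C) (f2829 C) (f3127 C) _ [126, 149, 170] _ (by decide +kernel) (by decide +kernel) (by decide +kernel)

theorem f3129 : C.T (v4 C) [10, 38, 57, 77, 98, 121] (v10 C) [20, 30, 61, 79, 100, 113] :=
  C.conv (f1798 C) (f1856 C) (f1861 C) _ [135, 161, 167, 175, 177] _ (by decide +kernel) (by decide +kernel) (by decide +kernel)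

theorem f3130 : C.T (v10 C) [20, 30, 61, 79, 100, 113] (v4 C) [10, 38, 57, 77, 98, 121] :=
  C.flip (f3129 C)

theorem f3131 : C.T (v15 C) [25, 37, 51, 77, 107, 110, 121] (v10 C) [17, 43, 65, 87, 102, 109, 124] :=
  C.closeT (p := (v4 C)) (pu := [15, 46, 60, 77, 105, 116])
    (C.pT (f3126 C)
    (C.pH [26, 38, 54, 89, 90, 113] [22, 41, 64, 72, 104, 109, 122] (by decide +kernel)
    (C.pT (f3128 C)
    (C.pH [8, 30, 65, 84, 94, 117] [25, 37, 51, 77, 107, 110, 121] (by decide +kernel) (C.pNil _ _)))))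
    (C.pH [26, 38, 54, 89, 90, 113] [20, 30, 61, 79, 100, 113] (by decide +kernel)
    (C.pT (f3130 C)
    (C.pH [8, 30, 65, 84, 94, 117] [15, 46, 60, 77, 105, 116] (by decide +kernel) (C.pNil _ _))))
    (C.loop_of_one (relLoop2 C) _ _)

theorem f3132 : C.T (v10 C) [17, 43, 65, 87, 102, 109, 124] (v15 C) [25, 37, 51, 77, 107, 110, 121] :=
  C.flip (f3131 C)

theorem f3133 : C.T (v4 C) [26, 33, 62, 70, 105, 117] (v15 C) [21, 39, 63, 75, 92, 121] :=
  C.conv (f2744 C) (f2911 C) (f2911 C) _ [132, 162, 168, 172, 178] _ (by decide +kernel) (by decide +kernel) (by decide +kernel)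

theorem f3134 : C.T (v4 C) [19, 31, 68, 86, 110, 113] (v10 C) [6, 41, 56, 70, 101, 113] :=
  C.conv (f1798 C) (f1856 C) (f1861 C) _ [136, 157, 169, 174, 178] _ (by decide +kernel) (by decide +kernel) (by decide +kernel)

theorem f3135 : C.T (v10 C) [6, 41, 56, 70, 101, 113] (v4 C) [19, 31, 68, 86, 110, 113] :=
  C.flip (f3134 C)

theorem f3136 : C.S (v10 C) [12, 36, 63, 82, 101, 109, 123] :=
  C.stMul (f1714 C) (f1699 C) _ (by decide +kernel)

theorem f3137 : C.S (v10 C) [20, 47, 60, 84] :=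
  C.stMul (f1704 C) (f3136 C) _ (by decide +kernel)

theorem f3138 : C.S (v10 C) [23, 43, 60, 89, 99, 119] :=
  C.stMul (f1709 C) (f3137 C) _ (by decide +kernel)

theorem f3139 : C.S (v10 C) [12, 29, 59, 82, 105, 117] :=
  C.stMul (f1709 C) (f1699 C) _ (by decide +kernel)

theorem f3140 : C.S (v10 C) [11, 38, 67, 74, 101, 109, 111] :=
  C.stMul (f1714 C) (f3139 C) _ (by decide +kernel)

theorem f3141 : C.T (v10 C) [21, 48, 64, 83, 104, 125] (v15 C) [17, 45, 63, 79, 95, 109, 119] :=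
  C.conv (f3076 C) (f3138 C) (f3140 C) _ [136, 151, 164, 176, 178] _ (by decide +kernel) (by decide +kernel) (by decide +kernel)

theorem f3142 : C.T (v15 C) [17, 45, 63, 79, 95, 109, 119] (v10 C) [21, 48, 64, 83, 104, 125] :=
  C.flip (f3141 C)

theorem f3143 : C.T (v15 C) [6, 46, 58, 78, 99, 109, 115] (v15 C) [7, 48, 56, 80, 102, 120] :=
  C.closeT (p := (v4 C)) (pu := [26, 33, 62, 70, 105, 117])
    (C.pT (f3133 C)
    (C.pH [26, 38, 54, 89, 90, 113] [6, 46, 58, 78, 99, 109, 115] (by decide +kernel) (C.pNil _ _)))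
    (C.pH [8, 30, 65, 84, 94, 117] [17, 45, 63, 79, 95, 109, 119] (by decide +kernel)
    (C.pT (f3142 C)
    (C.pH [26, 38, 54, 89, 90, 113] [6, 41, 56, 70, 101, 113] (by decide +kernel)
    (C.pT (f3135 C)
    (C.pH [8, 30, 65, 84, 94, 117] [26, 33, 62, 70, 105, 117] (by decide +kernel) (C.pNil _ _))))))
    (C.loop_of_one (relLoop2 C) _ _)

theorem f3145 : C.S (v15 C) [31, 53, 71, 96, 116] :=
  C.stMul (f2569 C) (f2569 C) _ (by decide +kernel)

theorem f3147 : C.T (v4 C) [23, 34, 62, 100, 113] (v15 C) [18, 39, 59, 77, 108, 109, 117] :=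
  C.conv (f2755 C) (f2758 C) (f2758 C) _ [138, 151, 169, 178] _ (by decide +kernel) (by decide +kernel) (by decide +kernel)

theorem f3148 : C.T (v4 C) [20, 35, 56, 79, 90, 110, 121] (v4 C) [21, 59, 72, 103, 109, 115] :=
  C.conv (f636 C) (f703 C) (f706 C) _ [138, 157, 170, 174] _ (by decide +kernel) (by decide +kernel) (by decide +kernel)

theorem f3149 : C.T (v4 C) [21, 59, 72, 103, 109, 115] (v4 C) [20, 35, 56, 79, 90, 110, 121] :=
  C.flip (f3148 C)

theorem f3150 : C.S (v4 C) [23, 41, 49, 78, 91, 109] :=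
  C.stMul (f693 C) (f421 C) _ (by decide +kernel)

theorem f3151 : C.S (v4 C) [26, 36, 62, 77, 94, 121] :=
  C.stMul (f421 C) (f3150 C) _ (by decide +kernel)

theorem f3152 : C.T (v4 C) [10, 61, 89, 90, 117] (v15 C) [18, 31, 67, 70, 105, 110, 113] :=
  C.conv (f2755 C) (f2758 C) (f3151 C) _ [138, 157, 164, 171] _ (by decide +kernel) (by decide +kernel) (by decide +kernel)

theorem f3153 : C.T (v15 C) [18, 31, 67, 70, 105, 110, 113] (v4 C) [10, 61, 89, 90, 117] :=
  C.flip (f3152 C)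

theorem f3154 : C.T (v15 C) [10, 39, 50, 74, 110, 113] (v15 C) [9, 37, 55, 74, 110, 123] :=
  C.closeT (p := (v4 C)) (pu := [23, 34, 62, 100, 113])
    (C.pT (f3147 C)
    (C.pH [26, 38, 54, 89, 90, 113] [10, 39, 50, 74, 110, 113] (by decide +kernel) (C.pNil _ _)))
    (C.pH [8, 30, 65, 84, 94, 117] [18, 31, 67, 70, 105, 110, 113] (by decide +kernel)
    (C.pT (f3153 C)
    (C.pH [26, 38, 54, 89, 90, 113] [21, 59, 72, 103, 109, 115] (by decide +kernel)
    (C.pT (f3149 C)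
    (C.pH [8, 30, 65, 84, 94, 117] [23, 34, 62, 100, 113] (by decide +kernel) (C.pNil _ _))))))
    (C.loop_of_one (relLoop2 C) _ _)

theorem f3157 : C.T (v5 C) [14, 32, 54, 85, 93, 110, 112] (v3 C) [25, 48, 50, 75, 102, 110, 116] :=
  C.conv (f1049 C) (f1153 C) (f1153 C) _ [134, 157, 169, 171, 177] _ (by decide +kernel) (by decide +kernel) (by decide +kernel)

theorem f3158 : C.S (v5 C) [13, 35, 69, 89, 94, 109, 112] :=
  C.stMul (f1023 C) (f986 C) _ (by decide +kernel)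

theorem f3159 : C.S (v5 C) [13, 40, 57, 80, 101, 109, 113] :=
  C.stMul (f1008 C) (f3158 C) _ (by decide +kernel)

theorem f3160 : C.S (v5 C) [7, 37, 54, 76, 108, 117] :=
  C.stMul (f1023 C) (f3159 C) _ (by decide +kernel)

theorem f3161 : C.S (v5 C) [24, 42, 52, 76, 99, 109, 120] :=
  C.stMul (f1141 C) (f3158 C) _ (by decide +kernel)

theorem f3162 : C.S (v5 C) [11, 42, 59, 99, 110, 119] :=
  C.stMul (f986 C) (f3161 C) _ (by decide +kernel)

theorem f3163 : C.S (v5 C) [11, 40, 57, 110] :=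
  C.stMul (f1141 C) (f3162 C) _ (by decide +kernel)

theorem f3164 : C.T (v5 C) [14, 42, 51, 84, 99, 110, 112] (v15 C) [6, 44, 52, 74, 99, 111] :=
  C.conv (f2699 C) (f3160 C) (f3163 C) _ [139, 152, 168, 172] _ (by decide +kernel) (by decide +kernel) (by decide +kernel)

theorem f3165 : C.T (v15 C) [6, 44, 52, 74, 99, 111] (v5 C) [14, 42, 51, 84, 99, 110, 112] :=
  C.flip (f3164 C)

theorem f3166 : C.T (v3 C) [9, 31, 63, 72, 93, 115] (v15 C) [24, 34, 58, 89, 108, 109, 113] :=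
  C.closeT (p := (v5 C)) (pu := [14, 32, 54, 85, 93, 110, 112])
    (C.pT (f3157 C)
    (C.pH [12, 35, 50, 83] [9, 31, 63, 72, 93, 115] (by decide +kernel) (C.pNil _ _)))
    (C.pH [12, 35, 50, 83] [6, 44, 52, 74, 99, 111] (by decide +kernel)
    (C.pT (f3165 C)
    (C.pH [12, 35, 50, 83] [14, 32, 54, 85, 93, 110, 112] (by decide +kernel) (C.pNil _ _))))
    (C.loop_of_one (relLoop0 C) _ _)

theorem f3167 : C.T (v15 C) [24, 34, 58, 89, 108, 109, 113] (v3 C) [9, 31, 63, 72, 93, 115] :=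
  C.flip (f3166 C)

theorem f3168 : C.T (v5 C) [5, 40, 56, 89, 104] (v10 C) [22, 34, 55, 88, 102, 117] :=
  C.conv (f1945 C) (f1954 C) (f1954 C) _ [129, 153, 164, 174] _ (by decide +kernel) (by decide +kernel) (by decide +kernel)

theorem f3169 : C.S (v5 C) [7, 29, 66, 74, 106, 124] :=
  C.stMul (f1141 C) (f986 C) _ (by decide +kernel)

theorem f3170 : C.S (v5 C) [7, 35, 57, 86, 101, 110, 119] :=
  C.stMul (f1008 C) (f3169 C) _ (by decide +kernel)

theorem f3171 : C.S (v5 C) [9, 39, 54, 78, 101, 110, 118] :=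
  C.stMul (f1141 C) (f3170 C) _ (by decide +kernel)

theorem f3172 : C.T (v5 C) [5, 28, 56, 89, 104] (v15 C) [9, 29, 61, 80, 103, 109, 115] :=
  C.conv (f2699 C) (f3160 C) (f3171 C) _ [149, 170, 174] _ (by decide +kernel) (by decide +kernel) (by decide +kernel)

theorem f3173 : C.T (v15 C) [9, 29, 61, 80, 103, 109, 115] (v5 C) [5, 28, 56, 89, 104] :=
  C.flip (f3172 C)

theorem f3174 : C.T (v10 C) [11, 40, 66, 70, 116] (v15 C) [25, 34, 53, 89, 91, 122] :=
  C.closeT (p := (v5 C)) (pu := [5, 40, 56, 89, 104])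
    (C.pT (f3168 C)
    (C.pH [12, 35, 50, 83] [11, 40, 66, 70, 116] (by decide +kernel) (C.pNil _ _)))
    (C.pH [12, 35, 50, 83] [9, 29, 61, 80, 103, 109, 115] (by decide +kernel)
    (C.pT (f3173 C)
    (C.pH [12, 35, 50, 83] [5, 40, 56, 89, 104] (by decide +kernel) (C.pNil _ _))))
    (C.loop_of_one (relLoop0 C) _ _)

theorem f3175 : C.T (v15 C) [25, 34, 53, 89, 91, 122] (v10 C) [11, 40, 66, 70, 116] :=
  C.flip (f3174 C)

theorem f3176 : C.S (v5 C) [20, 35, 58, 88, 120] :=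
  C.stMul (f1023 C) (f1008 C) _ (by decide +kernel)

theorem f3177 : C.T (v5 C) [18, 48, 67, 75, 91, 109, 114] (v9 C) [7, 40, 56, 79, 96, 109, 120] :=
  C.conv (f2010 C) (f3176 C) (f3176 C) _ [145, 158, 168, 171, 178] _ (by decide +kernel) (by decide +kernel) (by decide +kernel)

theorem f3178 : C.S (v5 C) [13, 31, 66, 73, 100, 119] :=
  C.stMul (f986 C) (f1023 C) _ (by decide +kernel)

theorem f3179 : C.S (v5 C) [13, 42, 59, 82, 95, 109, 114] :=
  C.stMul (f1008 C) (f3178 C) _ (by decide +kernel)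

theorem f3180 : C.S (v5 C) [20, 35, 58, 88, 120] :=
  C.stMul (f1023 C) (f1008 C) _ (by decide +kernel)

theorem f3181 : C.S (v5 C) [13, 30, 62, 74, 92, 120] :=
  C.stMul (f986 C) (f3180 C) _ (by decide +kernel)

theorem f3182 : C.S (v5 C) [7, 29, 66, 76, 90, 117] :=
  C.stMul (f1023 C) (f3181 C) _ (by decide +kernel)

theorem f3183 : C.T (v5 C) [18, 44, 59, 77, 108, 110, 119] (v15 C) [4, 30, 66, 76, 107, 110, 122] :=
  C.conv (f2774 C) (f3179 C) (f3182 C) _ [143, 159, 166, 176, 178] _ (by decide +kernel) (by decide +kernel) (by decide +kernel)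

theorem f3184 : C.T (v15 C) [4, 30, 66, 76, 107, 110, 122] (v5 C) [18, 44, 59, 77, 108, 110, 119] :=
  C.flip (f3183 C)

theorem f3185 : C.T (v9 C) [7, 30, 51, 74, 108, 115] (v15 C) [26, 27, 54, 82, 90, 109, 116] :=
  C.closeT (p := (v5 C)) (pu := [18, 48, 67, 75, 91, 109, 114])
    (C.pT (f3177 C)
    (C.pH [12, 35, 50, 83] [7, 30, 51, 74, 108, 115] (by decide +kernel) (C.pNil _ _)))
    (C.pH [12, 35, 50, 83] [4, 30, 66, 76, 107, 110, 122] (by decide +kernel)
    (C.pT (f3184 C)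
    (C.pH [12, 35, 50, 83] [18, 48, 67, 75, 91, 109, 114] (by decide +kernel) (C.pNil _ _))))
    (C.loop_of_one (relLoop0 C) _ _)

theorem f3186 : C.T (v15 C) [26, 27, 54, 82, 90, 109, 116] (v9 C) [7, 30, 51, 74, 108, 115] :=
  C.flip (f3185 C)

theorem f3187 : C.T (v5 C) [26, 48, 64, 86, 98, 110, 112] (v15 C) [36, 51, 76, 91, 111] :=
  C.conv (f2561 C) (f1153 C) (f1153 C) _ [155, 165, 172, 178] _ (by decide +kernel) (by decide +kernel) (by decide +kernel)

theorem f3188 : C.S (v5 C) [43, 67, 71, 98, 119] :=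
  C.stMul (f986 C) (f986 C) _ (by decide +kernel)

theorem f3189 : C.S (v5 C) [20, 47, 55, 78, 98, 110] :=
  C.stMul (f1023 C) (f3188 C) _ (by decide +kernel)

theorem f3190 : C.S (v5 C) [27, 69, 74, 102, 110, 111] :=
  C.stMul (f1008 C) (f3188 C) _ (by decide +kernel)

theorem f3191 : C.S (v5 C) [34, 55, 72, 90, 109, 125] :=
  C.stMul (f1141 C) (f3190 C) _ (by decide +kernel)

theorem f3192 : C.T (v5 C) [13, 38, 64, 80, 100, 125] (v15 C) [25, 44, 55, 89, 105, 109, 122] :=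
  C.conv (f2817 C) (f3189 C) (f3191 C) _ [143, 153, 167, 173] _ (by decide +kernel) (by decide +kernel) (by decide +kernel)

theorem f3193 : C.T (v15 C) [25, 44, 55, 89, 105, 109, 122] (v5 C) [13, 38, 64, 80, 100, 125] :=
  C.flip (f3192 C)

theorem f3194 : C.T (v15 C) [12, 36, 65, 72, 98, 109, 118] (v15 C) [17, 35, 52, 70, 102, 122] :=
  C.closeT (p := (v5 C)) (pu := [26, 48, 64, 86, 98, 110, 112])
    (C.pT (f3187 C)
    (C.pH [12, 35, 50, 83] [12, 36, 65, 72, 98, 109, 118] (by decide +kernel) (C.pNil _ _)))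
    (C.pH [12, 35, 50, 83] [25, 44, 55, 89, 105, 109, 122] (by decide +kernel)
    (C.pT (f3193 C)
    (C.pH [12, 35, 50, 83] [26, 48, 64, 86, 98, 110, 112] (by decide +kernel) (C.pNil _ _))))
    (C.loop_of_one (relLoop0 C) _ _)

theorem f3195 : C.T (v15 C) [17, 35, 52, 70, 102, 122] (v15 C) [12, 36, 65, 72, 98, 109, 118] :=
  C.flip (f3194 C)

theorem f3196 : C.T (v5 C) [9, 45, 55, 80, 101, 109, 117] (v15 C) [27, 58, 71, 96, 109, 116] :=
  C.conv (f2699 C) (f3160 C) (f3160 C) _ [136, 155, 169, 173] _ (by decide +kernel) (by decide +kernel) (by decide +kernel)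

theorem f3197 : C.S (v5 C) [7, 29, 66, 74, 106, 124] :=
  C.stMul (f1141 C) (f986 C) _ (by decide +kernel)

theorem f3198 : C.S (v5 C) [7, 35, 57, 86, 101, 110, 119] :=
  C.stMul (f1008 C) (f3197 C) _ (by decide +kernel)

theorem f3199 : C.T (v5 C) [25, 27, 63, 77, 109, 114] (v15 C) [18, 47, 55, 78, 108, 109, 118] :=
  C.conv (f2817 C) (f3189 C) (f3198 C) _ [134, 153, 169, 178] _ (by decide +kernel) (by decide +kernel) (by decide +kernel)

theorem f3200 : C.T (v15 C) [18, 47, 55, 78, 108, 109, 118] (v5 C) [25, 27, 63, 77, 109, 114] :=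
  C.flip (f3199 C)

theorem f3201 : C.T (v15 C) [12, 44, 51, 97, 115] (v15 C) [18, 41, 52, 107, 110, 121] :=
  C.closeT (p := (v5 C)) (pu := [9, 45, 55, 80, 101, 109, 117])
    (C.pT (f3196 C)
    (C.pH [12, 35, 50, 83] [12, 44, 51, 97, 115] (by decide +kernel) (C.pNil _ _)))
    (C.pH [12, 35, 50, 83] [18, 47, 55, 78, 108, 109, 118] (by decide +kernel)
    (C.pT (f3200 C)
    (C.pH [12, 35, 50, 83] [9, 45, 55, 80, 101, 109, 117] (by decide +kernel) (C.pNil _ _))))
    (C.loop_of_one (relLoop0 C) _ _)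

theorem f3208 : C.T (v5 C) [9, 44, 55, 83, 97, 115] (v15 C) [7, 31, 52, 76, 92, 109, 125] :=
  C.conv (f2817 C) (f3189 C) (f3189 C) _ [134, 154, 166] _ (by decide +kernel) (by decide +kernel) (by decide +kernel)

theorem f3209 : C.S (v5 C) [41, 51, 86, 105, 123] :=
  C.stMul (f1141 C) (f1008 C) _ (by decide +kernel)

theorem f3210 : C.S (v5 C) [20, 35, 58, 74, 106, 110, 121] :=
  C.stMul (f1023 C) (f3209 C) _ (by decide +kernel)

theorem f3211 : C.S (v5 C) [13, 30, 62, 89, 99, 110, 119] :=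
  C.stMul (f986 C) (f3210 C) _ (by decide +kernel)

theorem f3212 : C.T (v5 C) [25, 43, 52, 81, 95, 109, 117] (v15 C) [21, 28, 66, 89, 102, 123] :=
  C.conv (f2817 C) (f3189 C) (f3211 C) _ [131, 162, 166] _ (by decide +kernel) (by decide +kernel) (by decide +kernel)

theorem f3213 : C.T (v15 C) [21, 28, 66, 89, 102, 123] (v5 C) [25, 43, 52, 81, 95, 109, 117] :=
  C.flip (f3212 C)

theorem f3214 : C.T (v15 C) [7, 32, 58, 75, 99, 110, 113] (v15 C) [10, 33, 66, 89, 95, 111] :=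
  C.closeT (p := (v5 C)) (pu := [9, 44, 55, 83, 97, 115])
    (C.pT (f3208 C)
    (C.pH [12, 35, 50, 83] [7, 32, 58, 75, 99, 110, 113] (by decide +kernel) (C.pNil _ _)))
    (C.pH [12, 35, 50, 83] [21, 28, 66, 89, 102, 123] (by decide +kernel)
    (C.pT (f3213 C)
    (C.pH [12, 35, 50, 83] [9, 44, 55, 83, 97, 115] (by decide +kernel) (C.pNil _ _))))
    (C.loop_of_one (relLoop0 C) _ _)

theorem f3217 : C.T (v5 C) [48, 52, 79, 108, 110, 112] (v5 C) [12, 32, 51, 81, 95, 120] :=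
  C.conv (f1079 C) (f1158 C) (f1158 C) _ [138, 150, 165, 174, 177] _ (by decide +kernel) (by decide +kernel) (by decide +kernel)

theorem f3218 : C.S (v5 C) [43, 67, 71, 98, 119] :=
  C.stMul (f986 C) (f986 C) _ (by decide +kernel)

theorem f3219 : C.S (v5 C) [43, 67, 79, 93, 109, 124] :=
  C.stMul (f1141 C) (f3218 C) _ (by decide +kernel)

theorem f3220 : C.T (v5 C) [21, 41, 69, 70, 104, 109, 121] (v15 C) [25, 65, 78, 110, 111] :=
  C.conv (f2774 C) (f3179 C) (f3219 C) _ [143, 160, 177] _ (by decide +kernel) (by decide +kernel) (by decide +kernel)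

theorem f3221 : C.S (v5 C) [40, 65, 79, 103, 110, 124] :=
  C.stMul (f1008 C) (f1141 C) _ (by decide +kernel)

theorem f3222 : C.S (v5 C) [20, 30, 59, 75, 107, 110, 123] :=
  C.stMul (f1023 C) (f3221 C) _ (by decide +kernel)

theorem f3223 : C.S (v5 C) [20, 44, 51, 89, 93, 109] :=
  C.stMul (f1141 C) (f3222 C) _ (by decide +kernel)

theorem f3224 : C.S (v5 C) [9, 47, 59, 85, 92, 123] :=
  C.stMul (f1008 C) (f986 C) _ (by decide +kernel)

theorem f3225 : C.S (v5 C) [7, 42, 67, 73, 102, 109, 111] :=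
  C.stMul (f1141 C) (f3224 C) _ (by decide +kernel)

theorem f3226 : C.S (v5 C) [7, 32, 81, 92, 110, 117] :=
  C.stMul (f1008 C) (f3225 C) _ (by decide +kernel)

theorem f3227 : C.S (v5 C) [24, 27, 59, 84, 96, 114] :=
  C.stMul (f1023 C) (f3226 C) _ (by decide +kernel)

theorem f3228 : C.T (v5 C) [7, 47, 61, 77, 109, 124] (v15 C) [10, 43, 66, 88, 91, 110, 111] :=
  C.conv (f3125 C) (f3223 C) (f3227 C) _ [130, 151, 165, 176] _ (by decide +kernel) (by decide +kernel) (by decide +kernel)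

theorem f3229 : C.T (v15 C) [10, 43, 66, 88, 91, 110, 111] (v5 C) [7, 47, 61, 77, 109, 124] :=
  C.flip (f3228 C)

theorem f3230 : C.T (v15 C) [18, 48, 50, 80, 108, 111] (v15 C) [23, 44, 50, 83, 90, 110, 111] :=
  C.closeT (p := (v5 C)) (pu := [48, 52, 79, 108, 110, 112])
    (C.pT (f3217 C)
    (C.pH [8, 30, 65, 84, 94, 117] [21, 41, 69, 70, 104, 109, 121] (by decide +kernel)
    (C.pT (f3220 C)
    (C.pH [26, 38, 54, 89, 90, 113] [18, 48, 50, 80, 108, 111] (by decide +kernel) (C.pNil _ _)))))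
    (C.pH [8, 30, 65, 84, 94, 117] [10, 43, 66, 88, 91, 110, 111] (by decide +kernel)
    (C.pT (f3229 C)
    (C.pH [26, 38, 54, 89, 90, 113] [48, 52, 79, 108, 110, 112] (by decide +kernel) (C.pNil _ _))))
    (C.loop_of_one (relLoop1 C) _ _)

theorem f3234 : C.T (v5 C) [22, 43, 64, 79, 98, 109, 114] (v3 C) [24, 39, 69, 83, 107, 110, 121] :=
  C.conv (f1049 C) (f1153 C) (f1153 C) _ [138, 149, 165, 175] _ (by decide +kernel) (by decide +kernel) (by decide +kernel)

theorem f3235 : C.S (v3 C) [20, 42, 68, 89, 99] :=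
  C.stMul (f335 C) (f353 C) _ (by decide +kernel)

theorem f3236 : C.S (v3 C) [24, 63, 83, 91, 110, 113] :=
  C.stMul (f353 C) (f3235 C) _ (by decide +kernel)

theorem f3237 : C.S (v3 C) [19, 30, 60, 72, 107, 110, 116] :=
  C.stMul (f331 C) (f335 C) _ (by decide +kernel)

theorem f3238 : C.S (v3 C) [5, 38, 50, 82, 105, 109, 122] :=
  C.stMul (f353 C) (f3237 C) _ (by decide +kernel)

theorem f3239 : C.S (v3 C) [13, 33, 57, 88, 93, 110, 119] :=
  C.stMul (f331 C) (f3238 C) _ (by decide +kernel)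

theorem f3240 : C.T (v3 C) [16, 33, 52, 84, 116] (v15 C) [18, 31, 110, 117] :=
  C.conv (f3166 C) (f3236 C) (f3239 C) _ [135, 161, 164, 174] _ (by decide +kernel) (by decide +kernel) (by decide +kernel)

theorem f3241 : C.S (v5 C) [7, 39, 54, 75, 91, 110, 122] :=
  C.stMul (f1023 C) (f3158 C) _ (by decide +kernel)

theorem f3242 : C.S (v5 C) [24, 29, 57, 76, 96, 114] :=
  C.stMul (f1023 C) (f3241 C) _ (by decide +kernel)

theorem f3243 : C.T (v5 C) [9, 47, 62, 88, 97, 109, 118] (v15 C) [18, 41, 63, 84, 94, 112] :=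
  C.conv (f2699 C) (f3160 C) (f3242 C) _ [130, 159, 170, 175, 178] _ (by decide +kernel) (by decide +kernel) (by decide +kernel)

theorem f3244 : C.T (v15 C) [18, 41, 63, 84, 94, 112] (v5 C) [9, 47, 62, 88, 97, 109, 118] :=
  C.flip (f3243 C)

theorem f3245 : C.T (v15 C) [10, 30, 68, 89, 106, 110, 114] (v15 C) [9, 35, 60, 84, 93, 110] :=
  C.closeT (p := (v5 C)) (pu := [22, 43, 64, 79, 98, 109, 114])
    (C.pT (f3234 C)
    (C.pH [8, 30, 65, 84, 94, 117] [16, 33, 52, 84, 116] (by decide +kernel)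
    (C.pT (f3240 C)
    (C.pH [26, 38, 54, 89, 90, 113] [10, 30, 68, 89, 106, 110, 114] (by decide +kernel) (C.pNil _ _)))))
    (C.pH [8, 30, 65, 84, 94, 117] [18, 41, 63, 84, 94, 112] (by decide +kernel)
    (C.pT (f3244 C)
    (C.pH [26, 38, 54, 89, 90, 113] [22, 43, 64, 79, 98, 109, 114] (by decide +kernel) (C.pNil _ _))))
    (C.loop_of_one (relLoop1 C) _ _)

theorem f3249 : C.S (v5 C) [10, 27, 54, 88, 92, 110, 113] :=
  C.stMul (f1023 C) (f1023 C) _ (by decide +kernel)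

theorem f3250 : C.S (v5 C) [11, 37, 62, 72, 90, 110, 124] :=
  C.stMul (f1023 C) (f3249 C) _ (by decide +kernel)

theorem f3251 : C.T (v5 C) [17, 46, 68, 76, 103, 113] (v2 C) [23, 42, 63, 86, 108, 120] :=
  C.conv (f1016 C) (f3250 C) (f3250 C) _ [142, 155, 169] _ (by decide +kernel) (by decide +kernel) (by decide +kernel)

theorem f3252 : C.S (v2 C) [23, 47, 56, 71, 104, 109, 114] :=
  C.stMul (f211 C) (f138 C) _ (by decide +kernel)

theorem f3253 : C.S (v2 C) [21, 27, 59, 73, 103, 109, 112] :=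
  C.stMul (f243 C) (f3252 C) _ (by decide +kernel)

theorem f3254 : C.S (v2 C) [7, 42, 54, 81, 98, 109, 115] :=
  C.stMul (f149 C) (f3253 C) _ (by decide +kernel)

theorem f3255 : C.S (v2 C) [4, 48, 69, 79, 94, 109, 124] :=
  C.stMul (f211 C) (f211 C) _ (by decide +kernel)

theorem f3256 : C.S (v2 C) [22, 45, 64, 80, 102, 110, 121] :=
  C.stMul (f243 C) (f3255 C) _ (by decide +kernel)

theorem f3257 : C.T (v2 C) [10, 44, 54, 71, 106, 115] (v15 C) [15, 36, 54, 89, 99, 110, 112] :=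
  C.conv (f2638 C) (f3254 C) (f3256 C) _ [146, 162, 168, 176] _ (by decide +kernel) (by decide +kernel) (by decide +kernel)

theorem f3258 : C.T (v5 C) [19, 42, 68, 71, 119] (v15 C) [24, 35, 51, 82, 105, 122] :=
  C.conv (f2817 C) (f3189 C) (f986 C) _ [143, 149, 168, 176, 178] _ (by decide +kernel) (by decide +kernel) (by decide +kernel)

theorem f3259 : C.T (v15 C) [24, 35, 51, 82, 105, 122] (v5 C) [19, 42, 68, 71, 119] :=
  C.flip (f3258 C)

theorem f3260 : C.T (v15 C) [9, 28, 58, 89, 109] (v15 C) [21, 43, 65, 80, 93, 109, 120] :=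
  C.closeT (p := (v5 C)) (pu := [17, 46, 68, 76, 103, 113])
    (C.pT (f3251 C)
    (C.pH [8, 30, 65, 84, 94, 117] [10, 44, 54, 71, 106, 115] (by decide +kernel)
    (C.pT (f3257 C)
    (C.pH [26, 38, 54, 89, 90, 113] [9, 28, 58, 89, 109] (by decide +kernel) (C.pNil _ _)))))
    (C.pH [8, 30, 65, 84, 94, 117] [24, 35, 51, 82, 105, 122] (by decide +kernel)
    (C.pT (f3259 C)
    (C.pH [26, 38, 54, 89, 90, 113] [17, 46, 68, 76, 103, 113] (by decide +kernel) (C.pNil _ _))))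
    (C.loop_of_one (relLoop1 C) _ _)

theorem f3265 : C.T (v5 C) [31, 62, 73, 100, 115] (v5 C) [7, 40, 65, 78, 100, 109, 120] :=
  C.conv (f1238 C) (f1153 C) (f1153 C) _ [148, 163, 165, 174, 177] _ (by decide +kernel) (by decide +kernel) (by decide +kernel)

theorem f3266 : C.S (v5 C) [13, 48, 52, 73, 98, 113] :=
  C.stMul (f1008 C) (f3181 C) _ (by decide +kernel)

theorem f3267 : C.T (v5 C) [17, 83, 109, 122] (v15 C) [6, 57, 76, 105, 125] :=
  C.conv (f2774 C) (f3179 C) (f3266 C) _ [143, 163, 164, 174] _ (by decide +kernel) (by decide +kernel) (by decide +kernel)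

theorem f3268 : C.T (v5 C) [7, 35, 63, 95, 111] (v15 C) [25, 48, 69, 71, 102, 116] :=
  C.conv (f2774 C) (f3179 C) (f3179 C) _ [135, 160, 170, 174] _ (by decide +kernel) (by decide +kernel) (by decide +kernel)

theorem f3269 : C.T (v15 C) [25, 48, 69, 71, 102, 116] (v5 C) [7, 35, 63, 95, 111] :=
  C.flip (f3268 C)

theorem f3270 : C.T (v15 C) [4, 35, 65, 102, 109] (v15 C) [4, 62, 78, 101, 110, 118] :=
  C.closeT (p := (v5 C)) (pu := [31, 62, 73, 100, 115])
    (C.pT (f3265 C)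
    (C.pH [8, 30, 65, 84, 94, 117] [17, 83, 109, 122] (by decide +kernel)
    (C.pT (f3267 C)
    (C.pH [26, 38, 54, 89, 90, 113] [4, 35, 65, 102, 109] (by decide +kernel) (C.pNil _ _)))))
    (C.pH [8, 30, 65, 84, 94, 117] [25, 48, 69, 71, 102, 116] (by decide +kernel)
    (C.pT (f3269 C)
    (C.pH [26, 38, 54, 89, 90, 113] [31, 62, 73, 100, 115] (by decide +kernel) (C.pNil _ _))))
    (C.loop_of_one (relLoop1 C) _ _)

theorem f3273 : C.T (v5 C) [26, 31, 64, 78, 94, 110, 117] (v5 C) [26, 31, 64, 78, 94, 110, 117] :=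
  C.conv (f1255 C) (f1141 C) (f1141 C) _ [126, 157, 168, 173] _ (by decide +kernel) (by decide +kernel) (by decide +kernel)

theorem f3274 : C.S (v5 C) [85, 93, 110, 124] :=
  C.stMul (f1008 C) (f3209 C) _ (by decide +kernel)

theorem f3275 : C.S (v5 C) [38, 59, 70, 97, 110, 119] :=
  C.stMul (f1141 C) (f3274 C) _ (by decide +kernel)

theorem f3276 : C.T (v5 C) [14, 39, 68, 78, 106, 109, 119] (v15 C) [8, 34, 56, 84, 107, 109, 111] :=
  C.conv (f2817 C) (f3189 C) (f3275 C) _ [138, 156, 167, 173, 177] _ (by decide +kernel) (by decide +kernel) (by decide +kernel)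

theorem f3277 : C.T (v5 C) [28, 65, 85, 106, 109, 120] (v15 C) [7, 35, 66, 73, 108, 116] :=
  C.conv (f2817 C) (f3189 C) (f3275 C) _ [133, 157, 165, 171] _ (by decide +kernel) (by decide +kernel) (by decide +kernel)

theorem f3278 : C.T (v15 C) [7, 35, 66, 73, 108, 116] (v5 C) [28, 65, 85, 106, 109, 120] :=
  C.flip (f3277 C)

theorem f3279 : C.T (v15 C) [11, 38, 54, 82, 103, 110] (v15 C) [11, 38, 65, 85, 107, 109, 111] :=
  C.closeT (p := (v5 C)) (pu := [26, 31, 64, 78, 94, 110, 117])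
    (C.pT (f3273 C)
    (C.pH [8, 30, 65, 84, 94, 117] [14, 39, 68, 78, 106, 109, 119] (by decide +kernel)
    (C.pT (f3276 C)
    (C.pH [26, 38, 54, 89, 90, 113] [11, 38, 54, 82, 103, 110] (by decide +kernel) (C.pNil _ _)))))
    (C.pH [8, 30, 65, 84, 94, 117] [7, 35, 66, 73, 108, 116] (by decide +kernel)
    (C.pT (f3278 C)
    (C.pH [26, 38, 54, 89, 90, 113] [26, 31, 64, 78, 94, 110, 117] (by decide +kernel) (C.pNil _ _))))
    (C.loop_of_one (relLoop1 C) _ _)

theorem f3282 : C.T (v5 C) [12, 37, 60, 73, 108, 109, 114] (v6 C) [5, 39, 61, 78, 100, 109, 111] :=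
  C.conv (f1383 C) (f1403 C) (f1403 C) _ [144, 157, 170, 173, 178] _ (by decide +kernel) (by decide +kernel) (by decide +kernel)

theorem f3283 : C.S (v5 C) [40, 65, 79, 103, 110, 124] :=
  C.stMul (f1008 C) (f1141 C) _ (by decide +kernel)

theorem f3284 : C.S (v5 C) [20, 30, 59, 75, 107, 110, 123] :=
  C.stMul (f1023 C) (f3283 C) _ (by decide +kernel)

theorem f3285 : C.S (v5 C) [13, 42, 59, 86, 102, 109, 125] :=
  C.stMul (f986 C) (f3284 C) _ (by decide +kernel)

theorem f3286 : C.T (v5 C) [24, 31, 65, 85, 109, 124] (v4 C) [14, 43, 66, 82, 100, 110, 123] :=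
  C.conv (f1137 C) (f1149 C) (f3285 C) _ [131, 154, 165, 172] _ (by decide +kernel) (by decide +kernel) (by decide +kernel)

theorem f3287 : C.T (v4 C) [14, 43, 66, 82, 100, 110, 123] (v5 C) [24, 31, 65, 85, 109, 124] :=
  C.flip (f3286 C)

theorem f3288 : C.T (v4 C) [26, 43, 56, 86, 104, 125] (v15 C) [13, 68, 85, 96, 110, 124] :=
  C.conv (f2613 C) (f2621 C) (f2724 C) _ [126, 153, 166, 173, 178] _ (by decide +kernel) (by decide +kernel) (by decide +kernel)

theorem f3289 : C.T (v15 C) [13, 68, 85, 96, 110, 124] (v4 C) [26, 43, 56, 86, 104, 125] :=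
  C.flip (f3288 C)

theorem f3290 : C.T (v6 C) [12, 37, 54, 74, 93, 123] (v15 C) [16, 66, 85, 108, 110, 114] :=
  C.closeT (p := (v5 C)) (pu := [12, 37, 60, 73, 108, 109, 114])
    (C.pT (f3282 C)
    (C.pH [8, 30, 65, 84, 94, 117] [12, 37, 54, 74, 93, 123] (by decide +kernel) (C.pNil _ _)))
    (C.pH [26, 38, 54, 89, 90, 113] [13, 68, 85, 96, 110, 124] (by decide +kernel)
    (C.pT (f3289 C)
    (C.pH [8, 30, 65, 84, 94, 117] [14, 43, 66, 82, 100, 110, 123] (by decide +kernel)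
    (C.pT (f3287 C)
    (C.pH [26, 38, 54, 89, 90, 113] [12, 37, 60, 73, 108, 109, 114] (by decide +kernel) (C.pNil _ _))))))
    (C.loop_of_one (relLoop1 C) _ _)

theorem f3291 : C.T (v15 C) [16, 66, 85, 108, 110, 114] (v6 C) [12, 37, 54, 74, 93, 123] :=
  C.flip (f3290 C)

theorem f3292 : C.T (v5 C) [22, 44, 54, 89, 96, 115] (v10 C) [21, 30, 54, 73, 94, 121] :=
  C.conv (f1945 C) (f1954 C) (f1954 C) _ [126, 161, 167, 172] _ (by decide +kernel) (by decide +kernel) (by decide +kernel)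

theorem f3293 : C.S (v10 C) [41, 66, 82, 98, 110, 124] :=
  C.stMul (f1722 C) (f1714 C) _ (by decide +kernel)

theorem f3294 : C.S (v10 C) [7, 45, 54, 73, 106, 109, 125] :=
  C.stMul (f1709 C) (f3293 C) _ (by decide +kernel)

theorem f3295 : C.T (v10 C) [24, 47, 59, 74, 104, 109, 121] (v15 C) [18, 39, 60, 75, 105, 118] :=
  C.conv (f3076 C) (f3138 C) (f3294 C) _ [154, 167, 173] _ (by decide +kernel) (by decide +kernel) (by decide +kernel)

theorem f3296 : C.S (v5 C) [41, 51, 86, 105, 123] :=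
  C.stMul (f1141 C) (f1008 C) _ (by decide +kernel)

theorem f3297 : C.T (v5 C) [9, 41, 54, 79, 101, 110, 113] (v15 C) [10, 37, 56, 82, 108, 119] :=
  C.conv (f3125 C) (f3223 C) (f3296 C) _ [129, 152, 165, 175, 178] _ (by decide +kernel) (by decide +kernel) (by decide +kernel)

theorem f3298 : C.T (v15 C) [10, 37, 56, 82, 108, 119] (v5 C) [9, 41, 54, 79, 101, 110, 113] :=
  C.flip (f3297 C)

theorem f3299 : C.T (v15 C) [10, 39, 55, 84, 108, 118] (v15 C) [23, 34, 68, 71, 109, 120] :=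
  C.closeT (p := (v5 C)) (pu := [22, 44, 54, 89, 96, 115])
    (C.pT (f3292 C)
    (C.pH [8, 30, 65, 84, 94, 117] [24, 47, 59, 74, 104, 109, 121] (by decide +kernel)
    (C.pT (f3295 C)
    (C.pH [26, 38, 54, 89, 90, 113] [10, 39, 55, 84, 108, 118] (by decide +kernel) (C.pNil _ _)))))
    (C.pH [8, 30, 65, 84, 94, 117] [10, 37, 56, 82, 108, 119] (by decide +kernel)
    (C.pT (f3298 C)
    (C.pH [26, 38, 54, 89, 90, 113] [22, 44, 54, 89, 96, 115] (by decide +kernel) (C.pNil _ _))))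
    (C.loop_of_one (relLoop1 C) _ _)

theorem f3306 : C.T (v5 C) [25, 42, 63, 70, 108, 124] (v9 C) [20, 48, 65, 75, 94, 110, 125] :=
  C.conv (f2076 C) (f1008 C) (f1008 C) _ [140, 161, 170, 175, 178] _ (by decide +kernel) (by decide +kernel) (by decide +kernel)

theorem f3307 : C.S (v9 C) [21, 32, 63, 85, 106, 110, 120] :=
  C.stMul (f1624 C) (f1620 C) _ (by decide +kernel)

theorem f3308 : C.S (v9 C) [13, 48, 54, 73, 93, 110, 123] :=
  C.stMul (f1620 C) (f1610 C) _ (by decide +kernel)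

theorem f3309 : C.S (v9 C) [13, 40, 56, 79, 103, 109, 114] :=
  C.stMul (f1607 C) (f3308 C) _ (by decide +kernel)

theorem f3310 : C.T (v9 C) [23, 37, 59, 89, 108, 110, 124] (v15 C) [25, 37, 61, 70, 105, 118] :=
  C.conv (f2975 C) (f3307 C) (f3309 C) _ [159, 172, 177] _ (by decide +kernel) (by decide +kernel) (by decide +kernel)

theorem f3311 : C.T (v5 C) [4, 30, 74, 119] (v15 C) [13, 66, 78, 107, 110, 123] :=
  C.conv (f2561 C) (f1153 C) (f1023 C) _ [135, 159, 170, 175, 177] _ (by decide +kernel) (by decide +kernel) (by decide +kernel)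

theorem f3312 : C.T (v15 C) [13, 66, 78, 107, 110, 123] (v5 C) [4, 30, 74, 119] :=
  C.flip (f3311 C)

theorem f3313 : C.T (v15 C) [18, 36, 57, 88, 90, 123] (v15 C) [6, 43, 65, 84, 104, 113] :=
  C.closeT (p := (v5 C)) (pu := [25, 42, 63, 70, 108, 124])
    (C.pT (f3306 C)
    (C.pH [8, 30, 65, 84, 94, 117] [23, 37, 59, 89, 108, 110, 124] (by decide +kernel)
    (C.pT (f3310 C)
    (C.pH [26, 38, 54, 89, 90, 113] [18, 36, 57, 88, 90, 123] (by decide +kernel) (C.pNil _ _)))))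
    (C.pH [8, 30, 65, 84, 94, 117] [13, 66, 78, 107, 110, 123] (by decide +kernel)
    (C.pT (f3312 C)
    (C.pH [26, 38, 54, 89, 90, 113] [25, 42, 63, 70, 108, 124] (by decide +kernel) (C.pNil _ _))))
    (C.loop_of_one (relLoop1 C) _ _)

theorem f3315 : C.S (v15 C) [25, 47, 66, 86, 107, 124] :=
  C.stMul (f2569 C) (f2565 C) _ (by decide +kernel)

theorem f3317 : C.T (v5 C) [17, 61, 74, 100, 110, 116] (v15 C) [31, 53, 85, 92, 109, 123] :=
  C.conv (f2774 C) (f3179 C) (f3179 C) _ [133, 149, 170, 171, 178] _ (by decide +kernel) (by decide +kernel) (by decide +kernel)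

theorem f3318 : C.T (v15 C) [8, 34, 63, 85, 100, 109, 124] (v15 C) [17, 32, 59, 84, 109, 123] :=
  C.conv (f3313 C) (f3315 C) (f2565 C) _ [147, 153, 165] _ (by decide +kernel) (by decide +kernel) (by decide +kernel)

theorem f3319 : C.S (v5 C) [43, 67, 71, 98, 119] :=
  C.stMul (f986 C) (f986 C) _ (by decide +kernel)

theorem f3320 : C.S (v5 C) [27, 69, 74, 102, 110, 111] :=
  C.stMul (f1008 C) (f3319 C) _ (by decide +kernel)

theorem f3321 : C.T (v5 C) [19, 30, 50, 71, 105, 116] (v9 C) [6, 40, 53, 85, 106, 109, 119] :=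
  C.conv (f2010 C) (f3176 C) (f3320 C) _ [126, 170, 174, 177] _ (by decide +kernel) (by decide +kernel) (by decide +kernel)

theorem f3322 : C.T (v9 C) [6, 40, 53, 85, 106, 109, 119] (v5 C) [19, 30, 50, 71, 105, 116] :=
  C.flip (f3321 C)

theorem f3323 : C.T (v15 C) [20, 36, 59, 89, 100, 110, 123] (v9 C) [22, 45, 85, 102, 110, 124] :=
  C.closeT (p := (v5 C)) (pu := [17, 61, 74, 100, 110, 116])
    (C.pT (f3317 C)
    (C.pH [8, 30, 65, 84, 94, 117] [8, 34, 63, 85, 100, 109, 124] (by decide +kernel)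
    (C.pT (f3318 C)
    (C.pH [26, 38, 54, 89, 90, 113] [20, 36, 59, 89, 100, 110, 123] (by decide +kernel) (C.pNil _ _)))))
    (C.pH [8, 30, 65, 84, 94, 117] [6, 40, 53, 85, 106, 109, 119] (by decide +kernel)
    (C.pT (f3322 C)
    (C.pH [26, 38, 54, 89, 90, 113] [17, 61, 74, 100, 110, 116] (by decide +kernel) (C.pNil _ _))))
    (C.loop_of_one (relLoop1 C) _ _)

theorem f3324 : C.T (v9 C) [22, 45, 85, 102, 110, 124] (v15 C) [20, 36, 59, 89, 100, 110, 123] :=
  C.flip (f3323 C)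

theorem f3325 : C.T (v5 C) [15, 36, 64, 101, 120] (v15 C) [23, 45, 50, 84, 101, 114] :=
  C.conv (f2817 C) (f3189 C) (f3189 C) _ [144, 161, 165, 174, 177] _ (by decide +kernel) (by decide +kernel) (by decide +kernel)

theorem f3326 : C.S (v5 C) [20, 47, 55, 78, 98, 110] :=
  C.stMul (f1023 C) (f1980 C) _ (by decide +kernel)

theorem f3327 : C.T (v5 C) [20, 35, 53, 70, 107, 110, 114] (v10 C) [5, 30, 60, 75, 92, 110, 122] :=
  C.conv (f1975 C) (f1023 C) (f3326 C) _ [136, 158, 170] _ (by decide +kernel) (by decide +kernel) (by decide +kernel)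

theorem f3328 : C.T (v10 C) [5, 30, 60, 75, 92, 110, 122] (v5 C) [20, 35, 53, 70, 107, 110, 114] :=
  C.flip (f3327 C)

theorem f3329 : C.T (v10 C) [14, 30, 64, 84, 100] (v15 C) [22, 31, 52, 106, 121] :=
  C.conv (f2781 C) (f1709 C) (f1828 C) _ [140, 150, 168, 171, 177] _ (by decide +kernel) (by decide +kernel) (by decide +kernel)

theorem f3330 : C.T (v15 C) [22, 31, 52, 106, 121] (v10 C) [14, 30, 64, 84, 100] :=
  C.flip (f3329 C)

theorem f3331 : C.T (v15 C) [10, 27, 63, 79, 90, 109, 125] (v15 C) [9, 40, 63, 88, 94, 109] :=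
  C.closeT (p := (v5 C)) (pu := [15, 36, 64, 101, 120])
    (C.pT (f3325 C)
    (C.pH [8, 30, 65, 84, 94, 117] [10, 27, 63, 79, 90, 109, 125] (by decide +kernel) (C.pNil _ _)))
    (C.pH [26, 38, 54, 89, 90, 113] [22, 31, 52, 106, 121] (by decide +kernel)
    (C.pT (f3330 C)
    (C.pH [8, 30, 65, 84, 94, 117] [5, 30, 60, 75, 92, 110, 122] (by decide +kernel)
    (C.pT (f3328 C)
    (C.pH [26, 38, 54, 89, 90, 113] [15, 36, 64, 101, 120] (by decide +kernel) (C.pNil _ _))))))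
    (C.loop_of_one (relLoop1 C) _ _)

theorem f3334 : C.T (v5 C) [10, 48, 60, 73, 104, 110, 112] (v15 C) [15, 28, 67, 72, 94, 115] :=
  C.conv (f2817 C) (f3189 C) (f3189 C) _ [141, 153, 167, 172, 178] _ (by decide +kernel) (by decide +kernel) (by decide +kernel)

theorem f3335 : C.T (v5 C) [18, 41, 67, 86, 97, 110, 118] (v5 C) [5, 42, 57, 77, 96, 110, 116] :=
  C.conv (f1079 C) (f1158 C) (f986 C) _ [140, 151, 166, 172, 178] _ (by decide +kernel) (by decide +kernel) (by decide +kernel)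

theorem f3336 : C.T (v5 C) [5, 42, 57, 77, 96, 110, 116] (v5 C) [18, 41, 67, 86, 97, 110, 118] :=
  C.flip (f3335 C)

theorem f3337 : C.S (v5 C) [13, 31, 66, 73, 100, 119] :=
  C.stMul (f986 C) (f1023 C) _ (by decide +kernel)

theorem f3338 : C.T (v5 C) [14, 36, 51, 75, 102, 109, 113] (v15 C) [22, 42, 69, 75, 98, 109, 117] :=
  C.conv (f2817 C) (f3189 C) (f3337 C) _ [145, 159, 164, 175, 178] _ (by decide +kernel) (by decide +kernel) (by decide +kernel)

theorem f3339 : C.T (v15 C) [22, 42, 69, 75, 98, 109, 117] (v5 C) [14, 36, 51, 75, 102, 109, 113] :=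
  C.flip (f3338 C)

theorem f3340 : C.T (v15 C) [19, 38, 69, 88, 105, 120] (v15 C) [9, 68, 81, 104, 109, 116] :=
  C.closeT (p := (v5 C)) (pu := [10, 48, 60, 73, 104, 110, 112])
    (C.pT (f3334 C)
    (C.pH [8, 30, 65, 84, 94, 117] [19, 38, 69, 88, 105, 120] (by decide +kernel) (C.pNil _ _)))
    (C.pH [26, 38, 54, 89, 90, 113] [22, 42, 69, 75, 98, 109, 117] (by decide +kernel)
    (C.pT (f3339 C)
    (C.pH [8, 30, 65, 84, 94, 117] [5, 42, 57, 77, 96, 110, 116] (by decide +kernel)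
    (C.pT (f3336 C)
    (C.pH [26, 38, 54, 89, 90, 113] [10, 48, 60, 73, 104, 110, 112] (by decide +kernel) (C.pNil _ _))))))
    (C.loop_of_one (relLoop1 C) _ _)

theorem f3346 : C.T (v5 C) [10, 48, 52, 78, 93, 110, 117] (v4 C) [17, 37, 50, 82, 95, 109, 111] :=
  C.conv (f1043 C) (f1023 C) (f1023 C) _ [139, 157, 165, 176] _ (by decide +kernel) (by decide +kernel) (by decide +kernel)

theorem f3347 : C.S (v4 C) [13, 28, 60, 83, 108, 110, 119] :=
  C.stMul (f421 C) (f693 C) _ (by decide +kernel)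

theorem f3348 : C.T (v4 C) [20, 45, 68, 70, 123] (v15 C) [23, 45, 63, 83, 101, 110, 115] :=
  C.conv (f2728 C) (f2857 C) (f3347 C) _ [137, 156, 170, 172] _ (by decide +kernel) (by decide +kernel) (by decide +kernel)

theorem f3349 : C.S (v5 C) [10, 27, 54, 88, 92, 110, 113] :=
  C.stMul (f1023 C) (f1023 C) _ (by decide +kernel)

theorem f3350 : C.S (v5 C) [10, 27, 54, 70, 98, 109, 113] :=
  C.stMul (f1141 C) (f3349 C) _ (by decide +kernel)

theorem f3351 : C.S (v5 C) [11, 37, 62, 85, 116] :=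
  C.stMul (f1023 C) (f3350 C) _ (by decide +kernel)

theorem f3352 : C.S (v5 C) [11, 29, 57, 82, 103, 110, 119] :=
  C.stMul (f1141 C) (f3351 C) _ (by decide +kernel)

theorem f3353 : C.T (v5 C) [23, 27, 67, 75, 96, 110, 111] (v15 C) [6, 35, 66, 88, 103, 109, 112] :=
  C.conv (f2699 C) (f3160 C) (f3352 C) _ [158, 164, 174, 177] _ (by decide +kernel) (by decide +kernel) (by decide +kernel)

theorem f3354 : C.T (v15 C) [6, 35, 66, 88, 103, 109, 112] (v5 C) [23, 27, 67, 75, 96, 110, 111] :=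
  C.flip (f3353 C)

theorem f3355 : C.T (v15 C) [10, 27, 62, 82, 90, 110, 111] (v15 C) [21, 45, 61, 86, 103, 114] :=
  C.closeT (p := (v5 C)) (pu := [10, 48, 52, 78, 93, 110, 117])
    (C.pT (f3346 C)
    (C.pH [26, 38, 54, 89, 90, 113] [20, 45, 68, 70, 123] (by decide +kernel)
    (C.pT (f3348 C)
    (C.pH [8, 30, 65, 84, 94, 117] [10, 27, 62, 82, 90, 110, 111] (by decide +kernel) (C.pNil _ _)))))
    (C.pH [26, 38, 54, 89, 90, 113] [6, 35, 66, 88, 103, 109, 112] (by decide +kernel)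
    (C.pT (f3354 C)
    (C.pH [8, 30, 65, 84, 94, 117] [10, 48, 52, 78, 93, 110, 117] (by decide +kernel) (C.pNil _ _))))
    (C.loop_of_one (relLoop2 C) _ _)

theorem f3359 : C.T (v5 C) [13, 43, 51, 80, 106, 109, 118] (v5 C) [10, 48, 64, 81, 92, 120] :=
  C.conv (f1248 C) (f1153 C) (f1153 C) _ [143, 162, 170, 175, 177] _ (by decide +kernel) (by decide +kernel) (by decide +kernel)

theorem f3360 : C.S (v5 C) [40, 65, 79, 103, 110, 124] :=
  C.stMul (f1008 C) (f1141 C) _ (by decide +kernel)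

theorem f3361 : C.S (v5 C) [20, 30, 59, 75, 107, 110, 123] :=
  C.stMul (f1023 C) (f3360 C) _ (by decide +kernel)

theorem f3362 : C.S (v5 C) [13, 42, 59, 86, 102, 109, 125] :=
  C.stMul (f986 C) (f3361 C) _ (by decide +kernel)

theorem f3363 : C.T (v5 C) [21, 47, 60, 75, 93, 125] (v15 C) [18, 28, 57, 73, 97, 110, 115] :=
  C.conv (f2699 C) (f3160 C) (f3362 C) _ [136, 158, 170, 171] _ (by decide +kernel) (by decide +kernel) (by decide +kernel)

theorem f3364 : C.S (v5 C) [13, 31, 66, 73, 100, 119] :=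
  C.stMul (f986 C) (f1023 C) _ (by decide +kernel)

theorem f3365 : C.S (v5 C) [13, 42, 59, 82, 95, 109, 114] :=
  C.stMul (f1008 C) (f3364 C) _ (by decide +kernel)

theorem f3366 : C.T (v5 C) [6, 40, 61, 87, 102, 109, 123] (v15 C) [4, 32, 52, 78, 101, 109, 111] :=
  C.conv (f2699 C) (f3160 C) (f3365 C) _ [138, 158, 164, 174] _ (by decide +kernel) (by decide +kernel) (by decide +kernel)

theorem f3367 : C.T (v15 C) [4, 32, 52, 78, 101, 109, 111] (v5 C) [6, 40, 61, 87, 102, 109, 123] :=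
  C.flip (f3366 C)

theorem f3368 : C.T (v15 C) [4, 43, 60, 75, 93, 111] (v15 C) [6, 44, 52, 89, 92, 110, 122] :=
  C.closeT (p := (v5 C)) (pu := [13, 43, 51, 80, 106, 109, 118])
    (C.pT (f3359 C)
    (C.pH [26, 38, 54, 89, 90, 113] [21, 47, 60, 75, 93, 125] (by decide +kernel)
    (C.pT (f3363 C)
    (C.pH [8, 30, 65, 84, 94, 117] [4, 43, 60, 75, 93, 111] (by decide +kernel) (C.pNil _ _)))))
    (C.pH [26, 38, 54, 89, 90, 113] [4, 32, 52, 78, 101, 109, 111] (by decide +kernel)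
    (C.pT (f3367 C)
    (C.pH [8, 30, 65, 84, 94, 117] [13, 43, 51, 80, 106, 109, 118] (by decide +kernel) (C.pNil _ _))))
    (C.loop_of_one (relLoop2 C) _ _)

theorem f3373 : C.T (v6 C) [23, 34, 53, 71, 104, 112] (v7 C) [16, 30, 65, 72, 97, 122] :=
  C.conv (f1456 C) (f1369 C) (f1369 C) _ [138, 163, 167] _ (by decide +kernel) (by decide +kernel) (by decide +kernel)

theorem f3374 : C.S (v6 C) [17, 43, 59, 82, 121] :=
  C.stMul (f1353 C) (f1270 C) _ (by decide +kernel)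

theorem f3375 : C.T (v6 C) [12, 38, 65, 75, 93, 110, 123] (v15 C) [19, 29, 65, 79, 94, 110, 121] :=
  C.conv (f3015 C) (f3374 C) (f1270 C) _ [148, 159, 165, 175, 178] _ (by decide +kernel) (by decide +kernel) (by decide +kernel)

theorem f3376 : C.T (v15 C) [19, 29, 65, 79, 94, 110, 121] (v6 C) [12, 38, 65, 75, 93, 110, 123] :=
  C.flip (f3375 C)

end CfsgLib.J4Index
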