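import Cfsg.Agent.Lib.J4Index.Facts2

/-!
# Derived equations (generated)
-/

set_option autoImplicit false
set_option maxRecDepth 100000
set_option linter.style.longLine false

namespace CfsgLib.J4Index

variable {G X : Type} [Group G] [MulAction G X] (C : Ctx G X)

theorem f3377 : C.T (v7 C) [16, 44, 63, 86, 99, 110, 114] (v15 C) [6, 36, 56, 83, 93, 110] :=
  C.closeT (p := (v6 C)) (pu := [23, 34, 53, 71, 104, 112])
    (C.pT (f3373 C)
    (C.pH [12, 35, 50, 83] [16, 44, 63, 86, 99, 110, 114] (by decide +kernel) (C.pNil _ _)))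
    (C.pH [12, 35, 50, 83] [19, 29, 65, 79, 94, 110, 121] (by decide +kernel)
    (C.pT (f3376 C)
    (C.pH [12, 35, 50, 83] [23, 34, 53, 71, 104, 112] (by decide +kernel) (C.pNil _ _))))
    (C.loop_of_one (relLoop0 C) _ _)

theorem f3378 : C.T (v15 C) [6, 36, 56, 83, 93, 110] (v7 C) [16, 44, 63, 86, 99, 110, 114] :=
  C.flip (f3377 C)

theorem f3379 : C.T (v6 C) [5, 32, 57, 72, 102, 109, 121] (v15 C) [18, 39, 55, 75, 92, 109, 123] :=
  C.conv (f3015 C) (f3374 C) (f3374 C) _ [133, 162, 170, 175] _ (by decide +kernel) (by decide +kernel) (by decide +kernel)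

theorem f3380 : C.S (v6 C) [48, 68, 83, 93, 121] :=
  C.stMul (f1307 C) (f1266 C) _ (by decide +kernel)

theorem f3381 : C.S (v6 C) [20, 63, 70, 93, 118] :=
  C.stMul (f1270 C) (f3380 C) _ (by decide +kernel)

theorem f3382 : C.T (v6 C) [5, 27, 69, 81, 101, 116] (v15 C) [6, 32, 67, 81, 94, 109, 125] :=
  C.conv (f3015 C) (f3374 C) (f3381 C) _ [131, 153, 170, 173, 178] _ (by decide +kernel) (by decide +kernel) (by decide +kernel)

theorem f3383 : C.T (v15 C) [6, 32, 67, 81, 94, 109, 125] (v6 C) [5, 27, 69, 81, 101, 116] :=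
  C.flip (f3382 C)

theorem f3384 : C.T (v15 C) [18, 32, 55, 89, 103, 109, 114] (v15 C) [24, 48, 53, 88, 103, 110, 124] :=
  C.closeT (p := (v6 C)) (pu := [5, 32, 57, 72, 102, 109, 121])
    (C.pT (f3379 C)
    (C.pH [12, 35, 50, 83] [18, 32, 55, 89, 103, 109, 114] (by decide +kernel) (C.pNil _ _)))
    (C.pH [12, 35, 50, 83] [6, 32, 67, 81, 94, 109, 125] (by decide +kernel)
    (C.pT (f3383 C)
    (C.pH [12, 35, 50, 83] [5, 32, 57, 72, 102, 109, 121] (by decide +kernel) (C.pNil _ _))))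
    (C.loop_of_one (relLoop0 C) _ _)

theorem f3387 : C.T (v6 C) [21, 33, 51, 84, 92, 110, 113] (v6 C) [6, 39, 49, 87, 94, 110, 112] :=
  C.conv (f1408 C) (f1410 C) (f1410 C) _ [143, 156, 169, 175] _ (by decide +kernel) (by decide +kernel) (by decide +kernel)

theorem f3388 : C.S (v6 C) [17, 39, 57, 81, 99, 110, 123] :=
  C.stMul (f1291 C) (f1307 C) _ (by decide +kernel)

theorem f3389 : C.S (v6 C) [23, 43, 50, 75, 100, 110, 114] :=
  C.stMul (f1358 C) (f1266 C) _ (by decide +kernel)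

theorem f3390 : C.S (v6 C) [19, 32, 61, 81, 91, 109, 120] :=
  C.stMul (f1291 C) (f3389 C) _ (by decide +kernel)

theorem f3391 : C.S (v6 C) [6, 27, 63, 73, 96, 110, 124] :=
  C.stMul (f1270 C) (f3390 C) _ (by decide +kernel)

theorem f3392 : C.T (v6 C) [13, 30, 57, 79, 95, 110, 120] (v15 C) [25, 33, 51, 74, 97, 117] :=
  C.conv (f2790 C) (f3388 C) (f3391 C) _ [142, 153, 166, 172] _ (by decide +kernel) (by decide +kernel) (by decide +kernel)

theorem f3393 : C.S (v6 C) [23, 29, 69, 82, 102, 110, 113] :=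
  C.stMul (f1266 C) (f1307 C) _ (by decide +kernel)

theorem f3394 : C.S (v6 C) [19, 34, 63, 88, 101, 109, 125] :=
  C.stMul (f1291 C) (f3393 C) _ (by decide +kernel)

theorem f3395 : C.S (v6 C) [20, 42, 57, 83, 91, 109, 116] :=
  C.stMul (f1358 C) (f3394 C) _ (by decide +kernel)

theorem f3396 : C.T (v6 C) [10, 31, 57, 79, 98, 110, 111] (v15 C) [6, 47, 55, 73, 92, 110, 123] :=
  C.conv (f2790 C) (f3388 C) (f3395 C) _ [139, 161, 170, 177] _ (by decide +kernel) (by decide +kernel) (by decide +kernel)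

theorem f3397 : C.T (v15 C) [6, 47, 55, 73, 92, 110, 123] (v6 C) [10, 31, 57, 79, 98, 110, 111] :=
  C.flip (f3396 C)

theorem f3398 : C.T (v15 C) [18, 47, 56, 87, 95, 109, 123] (v15 C) [22, 32, 68, 70, 100, 110, 117] :=
  C.closeT (p := (v6 C)) (pu := [21, 33, 51, 84, 92, 110, 113])
    (C.pT (f3387 C)
    (C.pH [8, 30, 65, 84, 94, 117] [13, 30, 57, 79, 95, 110, 120] (by decide +kernel)
    (C.pT (f3392 C)
    (C.pH [26, 38, 54, 89, 90, 113] [18, 47, 56, 87, 95, 109, 123] (by decide +kernel) (C.pNil _ _)))))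
    (C.pH [8, 30, 65, 84, 94, 117] [6, 47, 55, 73, 92, 110, 123] (by decide +kernel)
    (C.pT (f3397 C)
    (C.pH [26, 38, 54, 89, 90, 113] [21, 33, 51, 84, 92, 110, 113] (by decide +kernel) (C.pNil _ _))))
    (C.loop_of_one (relLoop1 C) _ _)

theorem f3403 : C.T (v6 C) [13, 43, 50, 83, 93, 111] (v6 C) [30, 49, 88, 103, 110, 113] :=
  C.conv (f1426 C) (f1270 C) (f1270 C) _ [145, 154, 166, 176, 177] _ (by decide +kernel) (by decide +kernel) (by decide +kernel)

theorem f3404 : C.S (v6 C) [18, 45, 63, 87, 90, 110, 113] :=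
  C.stMul (f1270 C) (f1266 C) _ (by decide +kernel)

theorem f3405 : C.S (v6 C) [14, 30, 56, 81, 104, 109, 123] :=
  C.stMul (f1353 C) (f3404 C) _ (by decide +kernel)

theorem f3406 : C.T (v6 C) [8, 28, 68, 85, 100, 110, 119] (v15 C) [12, 38, 50, 84, 95, 110, 122] :=
  C.conv (f2593 C) (f2740 C) (f3405 C) _ [132, 149, 174] _ (by decide +kernel) (by decide +kernel) (by decide +kernel)

theorem f3407 : C.S (v6 C) [24, 27, 64, 104, 118] :=
  C.stMul (f1358 C) (f1307 C) _ (by decide +kernel)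

theorem f3408 : C.T (v6 C) [16, 41, 56, 76, 95, 109, 124] (v15 C) [45, 65, 76, 95, 109, 112] :=
  C.conv (f2593 C) (f2740 C) (f3407 C) _ [131, 153, 172] _ (by decide +kernel) (by decide +kernel) (by decide +kernel)

theorem f3409 : C.T (v15 C) [45, 65, 76, 95, 109, 112] (v6 C) [16, 41, 56, 76, 95, 109, 124] :=
  C.flip (f3408 C)

theorem f3410 : C.T (v15 C) [14, 43, 61, 72, 96, 119] (v15 C) [8, 47, 71, 102, 109, 117] :=
  C.closeT (p := (v6 C)) (pu := [13, 43, 50, 83, 93, 111])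
    (C.pT (f3403 C)
    (C.pH [8, 30, 65, 84, 94, 117] [8, 28, 68, 85, 100, 110, 119] (by decide +kernel)
    (C.pT (f3406 C)
    (C.pH [26, 38, 54, 89, 90, 113] [14, 43, 61, 72, 96, 119] (by decide +kernel) (C.pNil _ _)))))
    (C.pH [8, 30, 65, 84, 94, 117] [45, 65, 76, 95, 109, 112] (by decide +kernel)
    (C.pT (f3409 C)
    (C.pH [26, 38, 54, 89, 90, 113] [13, 43, 50, 83, 93, 111] (by decide +kernel) (C.pNil _ _))))
    (C.loop_of_one (relLoop1 C) _ _)

theorem f3413 : C.S (v7 C) [13, 40, 66, 89, 104, 113] :=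
  C.stMul (f1497 C) (f1476 C) _ (by decide +kernel)

theorem f3414 : C.S (v7 C) [9, 71, 96, 114] :=
  C.stMul (f1460 C) (f3413 C) _ (by decide +kernel)

theorem f3415 : C.S (v7 C) [20, 44, 67, 118] :=
  C.stMul (f1484 C) (f3414 C) _ (by decide +kernel)

theorem f3416 : C.S (v7 C) [9, 44, 76, 108, 110, 111] :=
  C.stMul (f1476 C) (f3415 C) _ (by decide +kernel)

theorem f3417 : C.S (v7 C) [45, 67, 88, 100, 113] :=
  C.stMul (f1497 C) (f3416 C) _ (by decide +kernel)

theorem f3418 : C.T (v7 C) [60, 81, 105, 121] (v15 C) [17, 40, 49, 83, 95, 110, 122] :=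
  C.conv (f3377 C) (f3417 C) (f3417 C) _ [131, 150, 169, 176] _ (by decide +kernel) (by decide +kernel) (by decide +kernel)

theorem f3419 : C.S (v7 C) [15, 37, 56, 74, 104, 113] :=
  C.stMul (f1484 C) (f1459 C) _ (by decide +kernel)

theorem f3420 : C.S (v7 C) [19, 47, 58, 81, 100, 110, 116] :=
  C.stMul (f1464 C) (f3419 C) _ (by decide +kernel)

theorem f3421 : C.S (v7 C) [26, 28, 64, 82, 95, 110, 113] :=
  C.stMul (f1476 C) (f3420 C) _ (by decide +kernel)

theorem f3422 : C.S (v7 C) [26, 31, 52, 77, 99, 109, 119] :=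
  C.stMul (f1497 C) (f3421 C) _ (by decide +kernel)

theorem f3423 : C.S (v7 C) [13, 48, 67, 89, 101, 109, 113] :=
  C.stMul (f1484 C) (f3422 C) _ (by decide +kernel)

theorem f3424 : C.T (v7 C) [23, 29, 64, 83, 97, 110, 116] (v15 C) [20, 34, 65, 70, 93, 110, 117] :=
  C.conv (f3377 C) (f3417 C) (f3423 C) _ [139, 152, 164, 175] _ (by decide +kernel) (by decide +kernel) (by decide +kernel)

theorem f3425 : C.T (v15 C) [20, 34, 65, 70, 93, 110, 117] (v7 C) [23, 29, 64, 83, 97, 110, 116] :=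
  C.flip (f3424 C)

theorem f3426 : C.T (v15 C) [25, 34, 50, 83, 99, 121] (v15 C) [11, 37, 66, 82, 90, 109, 119] :=
  C.closeT (p := (v7 C)) (pu := [60, 81, 105, 121])
    (C.pT (f3418 C)
    (C.pH [12, 35, 50, 83] [25, 34, 50, 83, 99, 121] (by decide +kernel) (C.pNil _ _)))
    (C.pH [12, 35, 50, 83] [20, 34, 65, 70, 93, 110, 117] (by decide +kernel)
    (C.pT (f3425 C)
    (C.pH [12, 35, 50, 83] [60, 81, 105, 121] (by decide +kernel) (C.pNil _ _))))
    (C.loop_of_one (relLoop0 C) _ _)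

theorem f3429 : C.S (v9 C) [47, 79, 100, 110, 114] :=
  C.stMul (f1620 C) (f1615 C) _ (by decide +kernel)

theorem f3430 : C.T (v9 C) [13, 45, 83, 91, 109, 119] (v10 C) [8, 33, 65, 79, 104, 112] :=
  C.conv (f2002 C) (f3429 C) (f3429 C) _ [143, 162, 166, 176] _ (by decide +kernel) (by decide +kernel) (by decide +kernel)

theorem f3431 : C.T (v10 C) [41, 93, 109, 115] (v12 C) [15, 43, 57, 79, 96, 121] :=
  C.conv (f2210 C) (f2213 C) (f1828 C) _ [139, 158, 169, 171] _ (by decide +kernel) (by decide +kernel) (by decide +kernel)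

theorem f3432 : C.S (v9 C) [11, 40, 56, 79, 103, 109, 114] :=
  C.stMul (f1615 C) (f1620 C) _ (by decide +kernel)

theorem f3433 : C.S (v9 C) [13, 44, 50, 87, 101, 113] :=
  C.stMul (f1620 C) (f3432 C) _ (by decide +kernel)

theorem f3434 : C.T (v9 C) [16, 37, 55, 72, 107, 109] (v15 C) [17, 44, 49, 75, 105, 110, 112] :=
  C.conv (f2975 C) (f3307 C) (f3433 C) _ [132, 164, 176, 178] _ (by decide +kernel) (by decide +kernel) (by decide +kernel)

theorem f3435 : C.T (v15 C) [17, 44, 49, 75, 105, 110, 112] (v9 C) [16, 37, 55, 72, 107, 109] :=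
  C.flip (f3434 C)

theorem f3436 : C.T (v12 C) [9, 31, 49, 77, 95, 109, 120] (v15 C) [7, 43, 50, 89, 99, 111] :=
  C.closeT (p := (v9 C)) (pu := [13, 45, 83, 91, 109, 119])
    (C.pT (f3430 C)
    (C.pH [8, 30, 65, 84, 94, 117] [41, 93, 109, 115] (by decide +kernel)
    (C.pT (f3431 C)
    (C.pH [26, 38, 54, 89, 90, 113] [9, 31, 49, 77, 95, 109, 120] (by decide +kernel) (C.pNil _ _)))))
    (C.pH [8, 30, 65, 84, 94, 117] [17, 44, 49, 75, 105, 110, 112] (by decide +kernel)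
    (C.pT (f3435 C)
    (C.pH [26, 38, 54, 89, 90, 113] [13, 45, 83, 91, 109, 119] (by decide +kernel) (C.pNil _ _))))
    (C.loop_of_one (relLoop1 C) _ _)

theorem f3437 : C.T (v15 C) [7, 43, 50, 89, 99, 111] (v12 C) [9, 31, 49, 77, 95, 109, 120] :=
  C.flip (f3436 C)

theorem f3438 : C.S (v10 C) [20, 33, 80, 97, 116] :=
  C.stMul (f1709 C) (f1704 C) _ (by decide +kernel)

theorem f3439 : C.S (v10 C) [37, 66, 75, 96, 110, 124] :=
  C.stMul (f1714 C) (f3438 C) _ (by decide +kernel)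

theorem f3440 : C.T (v10 C) [46, 50, 77, 103, 110, 122] (v15 C) [9, 28, 68, 99, 109, 118] :=
  C.conv (f3132 C) (f3439 C) (f3439 C) _ [127, 156, 167, 175, 178] _ (by decide +kernel) (by decide +kernel) (by decide +kernel)

theorem f3441 : C.T (v10 C) [23, 46, 81, 90, 110, 121] (v15 C) [5, 44, 68, 73] :=
  C.conv (f3132 C) (f3439 C) (f1714 C) _ [147, 152, 172] _ (by decide +kernel) (by decide +kernel) (by decide +kernel)

theorem f3442 : C.T (v15 C) [5, 44, 68, 73] (v10 C) [23, 46, 81, 90, 110, 121] :=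
  C.flip (f3441 C)

theorem f3443 : C.T (v15 C) [17, 48, 58, 70, 97, 124] (v15 C) [5, 41, 55, 86, 108, 109, 119] :=
  C.closeT (p := (v10 C)) (pu := [46, 50, 77, 103, 110, 122])
    (C.pT (f3440 C)
    (C.pH [12, 35, 50, 83] [17, 48, 58, 70, 97, 124] (by decide +kernel) (C.pNil _ _)))
    (C.pH [12, 35, 50, 83] [5, 44, 68, 73] (by decide +kernel)
    (C.pT (f3442 C)
    (C.pH [12, 35, 50, 83] [46, 50, 77, 103, 110, 122] (by decide +kernel) (C.pNil _ _))))
    (C.loop_of_one (relLoop0 C) _ _)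

theorem f3446 : C.T (v5 C) [5, 37, 63, 84, 106, 110, 118] (v16 C) [] :=
  C.defn _ _

theorem f3447 : C.S (v5 C) [41, 51, 86, 105, 123] :=
  C.stMul (f1141 C) (f1008 C) _ (by decide +kernel)

theorem f3448 : C.S (v5 C) [13, 35, 69, 89, 94, 109, 112] :=
  C.stMul (f1023 C) (f986 C) _ (by decide +kernel)

theorem f3449 : C.S (v5 C) [24, 43, 71, 105, 110, 122] :=
  C.stInv (f3448 C) _ (by decide +kernel)

theorem f3450 : C.S (v5 C) [24, 59, 75, 106, 113] :=
  C.stMul (f3449 C) (f3447 C) _ (by decide +kernel)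

theorem f3451 : C.S (v16 C) [12, 47, 59, 81, 104, 122] :=
  C.transfer (f3446 C) (f3450 C) [134, 157, 167, 174] _ (by decide +kernel) (by decide +kernel) (by decide +kernel)

theorem f3452 : C.S (v5 C) [20, 30, 59, 71, 105, 121] :=
  C.stMul (f1008 C) (f1023 C) _ (by decide +kernel)

theorem f3453 : C.S (v5 C) [20, 35, 58, 88, 120] :=
  C.stMul (f1023 C) (f1008 C) _ (by decide +kernel)

theorem f3454 : C.S (v5 C) [11, 48, 52, 75, 99, 109, 125] :=
  C.stInv (f3453 C) _ (by decide +kernel)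

theorem f3455 : C.S (v5 C) [38, 59, 70, 97, 110, 119] :=
  C.stMul (f3454 C) (f3452 C) _ (by decide +kernel)

theorem f3456 : C.S (v16 C) [7, 39, 50, 82, 102, 109, 116] :=
  C.transfer (f3446 C) (f3455 C) [129, 166, 175, 178] _ (by decide +kernel) (by decide +kernel) (by decide +kernel)

theorem f3457 : C.S (v5 C) [10, 27, 54, 88, 92, 110, 113] :=
  C.stMul (f1023 C) (f1023 C) _ (by decide +kernel)

theorem f3458 : C.S (v16 C) [12, 39, 63, 82, 100, 109, 116] :=
  C.transfer (f3446 C) (f3457 C) [134, 158, 164, 174, 178] _ (by decide +kernel) (by decide +kernel) (by decide +kernel)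

theorem f3460 : C.T (v5 C) [13, 43, 54, 70, 91, 109, 111] (v5 C) [13, 31, 50, 89, 90, 123] :=
  C.conv (f1101 C) (f1153 C) (f1153 C) _ [130, 155, 170, 175, 178] _ (by decide +kernel) (by decide +kernel) (by decide +kernel)

theorem f3461 : C.T (v5 C) [26, 41, 58, 71, 104, 121] (v16 C) [7, 41, 73, 98, 110] :=
  C.conv (f3446 C) (f1153 C) (f986 C) _ [129, 154, 172] _ (by decide +kernel) (by decide +kernel) (by decide +kernel)

theorem f3462 : C.T (v16 C) [7, 45, 54, 88, 92, 109, 122] (v5 C) [4, 41, 54, 70, 91, 109, 111] :=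
  C.closeT (p := (v5 C)) (pu := [13, 43, 54, 70, 91, 109, 111])
    (C.pT (f3460 C)
    (C.pH [12, 35, 50, 83] [26, 41, 58, 71, 104, 121] (by decide +kernel)
    (C.pT (f3461 C)
    (C.pH [12, 35, 50, 83] [7, 45, 54, 88, 92, 109, 122] (by decide +kernel) (C.pNil _ _)))))
    (C.pH [12, 35, 50, 83] [13, 43, 54, 70, 91, 109, 111] (by decide +kernel) (C.pNil _ _))
    (C.loop_of_one (relLoop0 C) _ _)

theorem f3463 : C.T (v5 C) [4, 41, 54, 70, 91, 109, 111] (v16 C) [7, 45, 54, 88, 92, 109, 122] :=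
  C.flip (f3462 C)

theorem f3464 : C.S (v5 C) [43, 67, 71, 98, 119] :=
  C.stMul (f986 C) (f986 C) _ (by decide +kernel)

theorem f3465 : C.S (v5 C) [27, 69, 74, 102, 110, 111] :=
  C.stMul (f1008 C) (f3464 C) _ (by decide +kernel)

theorem f3466 : C.T (v5 C) [4, 41, 54, 70, 91, 109, 111] (v16 C) [18, 67, 76, 104, 109, 111] :=
  C.conv (f3446 C) (f1153 C) (f3465 C) _ [140, 154, 168, 171, 178] _ (by decide +kernel) (by decide +kernel) (by decide +kernel)

theorem f3467 : C.E (v16 C) [18, 67, 76, 104, 109, 111] (v16 C) [7, 45, 54, 88, 92, 109, 122] :=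
  C.sameSrc (f3466 C) (f3463 C)

theorem f3468 : C.S (v16 C) [22, 32, 66, 71, 90, 109, 124] :=
  C.stEq (f3467 C) _ (by decide +kernel)

theorem f3473 : C.T (v5 C) [21, 37, 59, 88, 106] (v5 C) [24, 44, 67, 88, 98, 109, 123] :=
  C.conv (f1238 C) (f1153 C) (f1153 C) _ [139, 158, 170, 174, 177] _ (by decide +kernel) (by decide +kernel) (by decide +kernel)

theorem f3474 : C.S (v5 C) [20, 35, 58, 88, 120] :=
  C.stMul (f1023 C) (f1008 C) _ (by decide +kernel)

theorem f3475 : C.T (v5 C) [6, 40, 67, 88, 98, 109, 123] (v16 C) [18, 38, 58, 91, 110, 115] :=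
  C.conv (f3446 C) (f1153 C) (f3474 C) _ [140, 160, 168, 176, 178] _ (by decide +kernel) (by decide +kernel) (by decide +kernel)

theorem f3476 : C.T (v16 C) [18, 38, 59, 73, 105, 110, 112] (v5 C) [10, 58, 82, 106, 115] :=
  C.closeT (p := (v5 C)) (pu := [21, 37, 59, 88, 106])
    (C.pT (f3473 C)
    (C.pH [12, 35, 50, 83] [6, 40, 67, 88, 98, 109, 123] (by decide +kernel)
    (C.pT (f3475 C)
    (C.pH [12, 35, 50, 83] [18, 38, 59, 73, 105, 110, 112] (by decide +kernel) (C.pNil _ _)))))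
    (C.pH [12, 35, 50, 83] [21, 37, 59, 88, 106] (by decide +kernel) (C.pNil _ _))
    (C.loop_of_one (relLoop0 C) _ _)

theorem f3477 : C.T (v5 C) [10, 58, 82, 106, 115] (v16 C) [18, 38, 59, 73, 105, 110, 112] :=
  C.flip (f3476 C)

theorem f3478 : C.T (v5 C) [10, 58, 82, 106, 115] (v16 C) [23, 40, 52, 77, 93, 110, 125] :=
  C.conv (f3446 C) (f1153 C) (f1023 C) _ [145, 155, 176, 178] _ (by decide +kernel) (by decide +kernel) (by decide +kernel)

theorem f3479 : C.E (v16 C) [23, 40, 52, 77, 93, 110, 125] (v16 C) [18, 38, 59, 73, 105, 110, 112] :=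
  C.sameSrc (f3478 C) (f3477 C)

theorem f3480 : C.S (v16 C) [7, 41, 67, 85, 95, 109] :=
  C.stEq (f3479 C) _ (by decide +kernel)

theorem f3484 : C.T (v5 C) [16, 30, 65, 81, 104, 109, 111] (v10 C) [6, 39, 62, 85, 109] :=
  C.conv (f1975 C) (f1023 C) (f1023 C) _ [132, 150, 167, 173, 178] _ (by decide +kernel) (by decide +kernel) (by decide +kernel)

theorem f3485 : C.T (v5 C) [16, 62, 89, 106, 110, 123] (v16 C) [23, 39, 49, 78, 92, 110, 124] :=
  C.conv (f3446 C) (f1153 C) (f3474 C) _ [145, 161, 164, 175, 177] _ (by decide +kernel) (by decide +kernel) (by decide +kernel)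

theorem f3486 : C.T (v16 C) [23, 39, 49, 78, 92, 110, 124] (v5 C) [16, 62, 89, 106, 110, 123] :=
  C.flip (f3485 C)

theorem f3487 : C.T (v10 C) [19, 42, 55, 71, 103, 114] (v16 C) [12, 27, 61, 70, 90, 109, 118] :=
  C.closeT (p := (v5 C)) (pu := [16, 30, 65, 81, 104, 109, 111])
    (C.pT (f3484 C)
    (C.pH [12, 35, 50, 83] [19, 42, 55, 71, 103, 114] (by decide +kernel) (C.pNil _ _)))
    (C.pH [12, 35, 50, 83] [23, 39, 49, 78, 92, 110, 124] (by decide +kernel)
    (C.pT (f3486 C)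
    (C.pH [12, 35, 50, 83] [16, 30, 65, 81, 104, 109, 111] (by decide +kernel) (C.pNil _ _))))
    (C.loop_of_one (relLoop0 C) _ _)

theorem f3488 : C.T (v16 C) [12, 27, 61, 70, 90, 109, 118] (v10 C) [19, 42, 55, 71, 103, 114] :=
  C.flip (f3487 C)

theorem f3489 : C.T (v5 C) [12, 42, 49, 80, 99, 109, 111] (v9 C) [9, 64, 82, 92, 113] :=
  C.conv (f2076 C) (f1008 C) (f1008 C) _ [147, 150, 164, 175] _ (by decide +kernel) (by decide +kernel) (by decide +kernel)

theorem f3490 : C.T (v5 C) [33, 80, 96, 110, 115] (v16 C) [26, 35, 59, 73, 106, 110, 119] :=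
  C.conv (f3446 C) (f1153 C) (f3465 C) _ [148, 162, 167, 171, 178] _ (by decide +kernel) (by decide +kernel) (by decide +kernel)

theorem f3491 : C.T (v16 C) [26, 35, 59, 73, 106, 110, 119] (v5 C) [33, 80, 96, 110, 115] :=
  C.flip (f3490 C)

theorem f3492 : C.T (v9 C) [17, 35, 65, 71, 96, 109, 113] (v16 C) [13, 46, 56, 74, 101, 109, 116] :=
  C.closeT (p := (v5 C)) (pu := [12, 42, 49, 80, 99, 109, 111])
    (C.pT (f3489 C)
    (C.pH [12, 35, 50, 83] [17, 35, 65, 71, 96, 109, 113] (by decide +kernel) (C.pNil _ _)))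
    (C.pH [12, 35, 50, 83] [26, 35, 59, 73, 106, 110, 119] (by decide +kernel)
    (C.pT (f3491 C)
    (C.pH [12, 35, 50, 83] [12, 42, 49, 80, 99, 109, 111] (by decide +kernel) (C.pNil _ _))))
    (C.loop_of_one (relLoop0 C) _ _)

theorem f3493 : C.T (v16 C) [13, 46, 56, 74, 101, 109, 116] (v9 C) [17, 35, 65, 71, 96, 109, 113] :=
  C.flip (f3492 C)

theorem f3494 : C.T (v5 C) [15, 41, 58, 78, 108, 118] (v15 C) [48, 65, 70, 95, 110, 114] :=
  C.conv (f2561 C) (f1153 C) (f1153 C) _ [163, 168, 175, 177] _ (by decide +kernel) (by decide +kernel) (by decide +kernel)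

theorem f3495 : C.S (v5 C) [9, 47, 59, 85, 92, 123] :=
  C.stMul (f1008 C) (f986 C) _ (by decide +kernel)

theorem f3496 : C.T (v5 C) [15, 36, 65, 87, 105, 109, 113] (v16 C) [21, 47, 55, 71, 104, 121] :=
  C.conv (f3446 C) (f1153 C) (f3495 C) _ [143, 169, 174, 177] _ (by decide +kernel) (by decide +kernel) (by decide +kernel)

theorem f3497 : C.T (v16 C) [21, 47, 55, 71, 104, 121] (v5 C) [15, 36, 65, 87, 105, 109, 113] :=
  C.flip (f3496 C)

theorem f3498 : C.T (v15 C) [12, 29, 53, 71, 100, 123] (v16 C) [10, 35, 56, 88, 96, 120] :=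
  C.closeT (p := (v5 C)) (pu := [15, 41, 58, 78, 108, 118])
    (C.pT (f3494 C)
    (C.pH [12, 35, 50, 83] [12, 29, 53, 71, 100, 123] (by decide +kernel) (C.pNil _ _)))
    (C.pH [12, 35, 50, 83] [21, 47, 55, 71, 104, 121] (by decide +kernel)
    (C.pT (f3497 C)
    (C.pH [12, 35, 50, 83] [15, 41, 58, 78, 108, 118] (by decide +kernel) (C.pNil _ _))))
    (C.loop_of_one (relLoop0 C) _ _)

theorem f3499 : C.T (v16 C) [10, 35, 56, 88, 96, 120] (v15 C) [12, 29, 53, 71, 100, 123] :=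
  C.flip (f3498 C)

theorem f3500 : C.T (v5 C) [18, 30, 57, 83, 92, 120] (v15 C) [17, 38, 67, 90, 116] :=
  C.conv (f2817 C) (f3189 C) (f3189 C) _ [130, 153, 166, 174, 178] _ (by decide +kernel) (by decide +kernel) (by decide +kernel)

theorem f3501 : C.T (v5 C) [18, 30, 54, 78, 125] (v16 C) [9, 35, 50, 84, 93, 110, 113] :=
  C.conv (f3446 C) (f1153 C) (f3464 C) _ [131, 152, 170, 175] _ (by decide +kernel) (by decide +kernel) (by decide +kernel)

theorem f3502 : C.T (v16 C) [9, 35, 50, 84, 93, 110, 113] (v5 C) [18, 30, 54, 78, 125] :=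
  C.flip (f3501 C)

theorem f3503 : C.T (v15 C) [25, 43, 50, 72, 108, 112] (v16 C) [25, 45, 66, 78, 106, 118] :=
  C.closeT (p := (v5 C)) (pu := [18, 30, 57, 83, 92, 120])
    (C.pT (f3500 C)
    (C.pH [12, 35, 50, 83] [25, 43, 50, 72, 108, 112] (by decide +kernel) (C.pNil _ _)))
    (C.pH [12, 35, 50, 83] [9, 35, 50, 84, 93, 110, 113] (by decide +kernel)
    (C.pT (f3502 C)
    (C.pH [12, 35, 50, 83] [18, 30, 57, 83, 92, 120] (by decide +kernel) (C.pNil _ _))))
    (C.loop_of_one (relLoop0 C) _ _)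

theorem f3504 : C.T (v16 C) [25, 45, 66, 78, 106, 118] (v15 C) [25, 43, 50, 72, 108, 112] :=
  C.flip (f3503 C)

theorem f3505 : C.T (v5 C) [24, 44, 61, 74, 106, 110, 113] (v16 C) [7, 65, 76, 107, 110, 113] :=
  C.conv (f3446 C) (f1153 C) (f1153 C) _ [129, 156, 168, 175, 178] _ (by decide +kernel) (by decide +kernel) (by decide +kernel)

theorem f3506 : C.T (v5 C) [19, 37, 52, 75, 110, 115] (v16 C) [18, 46, 59, 72, 91, 115] :=
  C.conv (f3446 C) (f1153 C) (f1008 C) _ [140, 156, 169, 175] _ (by decide +kernel) (by decide +kernel) (by decide +kernel)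

theorem f3507 : C.T (v16 C) [18, 46, 59, 72, 91, 115] (v5 C) [19, 37, 52, 75, 110, 115] :=
  C.flip (f3506 C)

theorem f3508 : C.T (v16 C) [7, 60, 79, 91, 110, 116] (v16 C) [18, 28, 59, 82, 98, 110, 119] :=
  C.closeT (p := (v5 C)) (pu := [24, 44, 61, 74, 106, 110, 113])
    (C.pT (f3505 C)
    (C.pH [12, 35, 50, 83] [7, 60, 79, 91, 110, 116] (by decide +kernel) (C.pNil _ _)))
    (C.pH [12, 35, 50, 83] [18, 46, 59, 72, 91, 115] (by decide +kernel)
    (C.pT (f3507 C)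
    (C.pH [12, 35, 50, 83] [24, 44, 61, 74, 106, 110, 113] (by decide +kernel) (C.pNil _ _))))
    (C.loop_of_one (relLoop0 C) _ _)

theorem f3510 : C.S (v16 C) [] :=
  C.stOne _

theorem f3512 : C.T (v5 C) [19, 30, 67, 79, 107, 110, 122] (v16 C) [11, 38, 65, 87, 98, 109, 120] :=
  C.conv (f3446 C) (f1153 C) (f1153 C) _ [133, 154, 169, 172] _ (by decide +kernel) (by decide +kernel) (by decide +kernel)

theorem f3513 : C.T (v5 C) [6, 29, 65, 70, 92, 110, 119] (v16 C) [7, 49, 84, 100, 109, 115] :=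
  C.conv (f3446 C) (f1153 C) (f3474 C) _ [129, 156, 169, 174, 177] _ (by decide +kernel) (by decide +kernel) (by decide +kernel)

theorem f3514 : C.T (v16 C) [7, 49, 84, 100, 109, 115] (v5 C) [6, 29, 65, 70, 92, 110, 119] :=
  C.flip (f3513 C)

theorem f3515 : C.T (v16 C) [20, 29, 52, 87, 99, 109, 113] (v16 C) [7, 51, 84, 97, 110, 119] :=
  C.closeT (p := (v5 C)) (pu := [19, 30, 67, 79, 107, 110, 122])
    (C.pT (f3512 C)
    (C.pH [12, 35, 50, 83] [20, 29, 52, 87, 99, 109, 113] (by decide +kernel) (C.pNil _ _)))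
    (C.pH [12, 35, 50, 83] [7, 49, 84, 100, 109, 115] (by decide +kernel)
    (C.pT (f3514 C)
    (C.pH [12, 35, 50, 83] [19, 30, 67, 79, 107, 110, 122] (by decide +kernel) (C.pNil _ _))))
    (C.loop_of_one (relLoop0 C) _ _)

theorem f3518 : C.T (v5 C) [19, 47, 50, 85, 107, 113] (v5 C) [26, 32, 68, 85, 97, 113] :=
  C.conv (f1129 C) (f986 C) (f986 C) _ [142, 154, 167, 173] _ (by decide +kernel) (by decide +kernel) (by decide +kernel)

theorem f3519 : C.T (v5 C) [14, 40, 64, 82, 105, 110, 123] (v16 C) [24, 44, 58, 77, 102, 109, 112] :=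
  C.conv (f3446 C) (f1153 C) (f3465 C) _ [146, 160, 169, 174, 177] _ (by decide +kernel) (by decide +kernel) (by decide +kernel)

theorem f3520 : C.T (v5 C) [22, 31, 67, 88, 96, 109, 121] (v16 C) [21, 29, 54, 72, 105, 109, 115] :=
  C.conv (f3446 C) (f1153 C) (f1008 C) _ [143, 163, 167, 174] _ (by decide +kernel) (by decide +kernel) (by decide +kernel)

theorem f3521 : C.T (v16 C) [21, 29, 54, 72, 105, 109, 115] (v5 C) [22, 31, 67, 88, 96, 109, 121] :=
  C.flip (f3520 C)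

theorem f3522 : C.T (v16 C) [12, 48, 62, 82, 96, 110, 115] (v16 C) [12, 31, 60, 72, 94, 116] :=
  C.closeT (p := (v5 C)) (pu := [19, 47, 50, 85, 107, 113])
    (C.pT (f3518 C)
    (C.pH [8, 30, 65, 84, 94, 117] [14, 40, 64, 82, 105, 110, 123] (by decide +kernel)
    (C.pT (f3519 C)
    (C.pH [26, 38, 54, 89, 90, 113] [12, 48, 62, 82, 96, 110, 115] (by decide +kernel) (C.pNil _ _)))))
    (C.pH [8, 30, 65, 84, 94, 117] [21, 29, 54, 72, 105, 109, 115] (by decide +kernel)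
    (C.pT (f3521 C)
    (C.pH [26, 38, 54, 89, 90, 113] [19, 47, 50, 85, 107, 113] (by decide +kernel) (C.pNil _ _))))
    (C.loop_of_one (relLoop1 C) _ _)

theorem f3525 : C.T (v5 C) [6, 48, 67, 72, 99, 109] (v5 C) [9, 45, 75, 101, 110, 116] :=
  C.conv (f1178 C) (f1023 C) (f1023 C) _ [145, 169, 173, 178] _ (by decide +kernel) (by decide +kernel) (by decide +kernel)

theorem f3526 : C.T (v5 C) [18, 37, 59, 77, 100] (v5 C) [21, 43, 60, 82, 105, 110, 112] :=
  C.conv (f1210 C) (f1213 C) (f986 C) _ [138, 159, 164, 171] _ (by decide +kernel) (by decide +kernel) (by decide +kernel)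

theorem f3527 : C.T (v5 C) [6, 39, 60, 79, 107, 110, 111] (v16 C) [26, 34, 61, 79, 104, 110, 124] :=
  C.conv (f3446 C) (f1153 C) (f1153 C) _ [148, 159, 164, 173, 178] _ (by decide +kernel) (by decide +kernel) (by decide +kernel)

theorem f3528 : C.T (v16 C) [14, 45, 62, 83, 103, 109, 122] (v5 C) [21, 38, 62, 87, 93, 109, 122] :=
  C.closeT (p := (v5 C)) (pu := [6, 48, 67, 72, 99, 109])
    (C.pT (f3525 C)
    (C.pH [8, 30, 65, 84, 94, 117] [18, 37, 59, 77, 100] (by decide +kernel)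
    (C.pT (f3526 C)
    (C.pH [26, 38, 54, 89, 90, 113] [6, 39, 60, 79, 107, 110, 111] (by decide +kernel)
    (C.pT (f3527 C)
    (C.pH [8, 30, 65, 84, 94, 117] [14, 45, 62, 83, 103, 109, 122] (by decide +kernel) (C.pNil _ _)))))))
    (C.pH [26, 38, 54, 89, 90, 113] [6, 48, 67, 72, 99, 109] (by decide +kernel) (C.pNil _ _))
    (C.loop_of_one (relLoop1 C) _ _)

theorem f3529 : C.T (v5 C) [21, 38, 62, 87, 93, 109, 122] (v16 C) [14, 45, 62, 83, 103, 109, 122] :=
  C.flip (f3528 C)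

theorem f3530 : C.T (v5 C) [19, 31, 88, 106, 122] (v5 C) [8, 66, 86, 105, 114] :=
  C.conv (f1189 C) (f1153 C) (f1153 C) _ [136, 162, 167, 177] _ (by decide +kernel) (by decide +kernel) (by decide +kernel)

theorem f3531 : C.T (v5 C) [28, 56, 94, 109, 118] (v16 C) [6, 37, 61, 72, 98, 109, 123] :=
  C.conv (f3446 C) (f1153 C) (f1153 C) _ [128, 154, 170, 172, 177] _ (by decide +kernel) (by decide +kernel) (by decide +kernel)

theorem f3532 : C.T (v5 C) [22, 36, 59, 87, 102, 125] (v16 C) [13, 33, 53, 82, 97, 110] :=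
  C.conv (f3446 C) (f1153 C) (f3465 C) _ [135, 158, 168, 176] _ (by decide +kernel) (by decide +kernel) (by decide +kernel)

theorem f3533 : C.T (v16 C) [13, 33, 53, 82, 97, 110] (v5 C) [22, 36, 59, 87, 102, 125] :=
  C.flip (f3532 C)

theorem f3534 : C.T (v16 C) [4, 30, 55, 84, 106, 109, 120] (v16 C) [6, 46, 62, 70, 106] :=
  C.closeT (p := (v5 C)) (pu := [19, 31, 88, 106, 122])
    (C.pT (f3530 C)
    (C.pH [8, 30, 65, 84, 94, 117] [28, 56, 94, 109, 118] (by decide +kernel)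
    (C.pT (f3531 C)
    (C.pH [26, 38, 54, 89, 90, 113] [4, 30, 55, 84, 106, 109, 120] (by decide +kernel) (C.pNil _ _)))))
    (C.pH [8, 30, 65, 84, 94, 117] [13, 33, 53, 82, 97, 110] (by decide +kernel)
    (C.pT (f3533 C)
    (C.pH [26, 38, 54, 89, 90, 113] [19, 31, 88, 106, 122] (by decide +kernel) (C.pNil _ _))))
    (C.loop_of_one (relLoop1 C) _ _)

theorem f3537 : C.T (v5 C) [16, 45, 72, 94, 110, 115] (v5 C) [14, 47, 60, 91, 110, 121] :=
  C.conv (f1229 C) (f986 C) (f986 C) _ [147, 149, 170, 176, 177] _ (by decide +kernel) (by decide +kernel) (by decide +kernel)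

theorem f3538 : C.S (v5 C) [20, 47, 55, 81, 100, 109] :=
  C.stMul (f1141 C) (f3474 C) _ (by decide +kernel)

theorem f3539 : C.T (v5 C) [5, 32, 61, 72, 98, 110, 116] (v16 C) [13, 40, 54, 89, 98, 110, 111] :=
  C.conv (f3446 C) (f1153 C) (f3538 C) _ [135, 168, 175, 177] _ (by decide +kernel) (by decide +kernel) (by decide +kernel)

theorem f3540 : C.S (v5 C) [7, 42, 67, 73, 102, 109, 111] :=
  C.stMul (f1141 C) (f3495 C) _ (by decide +kernel)

theorem f3541 : C.T (v5 C) [26, 42, 49, 86, 94, 121] (v16 C) [4, 28, 61, 71, 104, 116] :=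
  C.conv (f3446 C) (f1153 C) (f3540 C) _ [126, 163, 168, 174, 178] _ (by decide +kernel) (by decide +kernel) (by decide +kernel)

theorem f3542 : C.T (v16 C) [4, 28, 61, 71, 104, 116] (v5 C) [26, 42, 49, 86, 94, 121] :=
  C.flip (f3541 C)

theorem f3543 : C.T (v16 C) [23, 43, 57, 73, 106, 118] (v16 C) [18, 44, 54, 72, 108, 109, 113] :=
  C.closeT (p := (v5 C)) (pu := [16, 45, 72, 94, 110, 115])
    (C.pT (f3537 C)
    (C.pH [8, 30, 65, 84, 94, 117] [5, 32, 61, 72, 98, 110, 116] (by decide +kernel)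
    (C.pT (f3539 C)
    (C.pH [26, 38, 54, 89, 90, 113] [23, 43, 57, 73, 106, 118] (by decide +kernel) (C.pNil _ _)))))
    (C.pH [8, 30, 65, 84, 94, 117] [4, 28, 61, 71, 104, 116] (by decide +kernel)
    (C.pT (f3542 C)
    (C.pH [26, 38, 54, 89, 90, 113] [16, 45, 72, 94, 110, 115] (by decide +kernel) (C.pNil _ _))))
    (C.loop_of_one (relLoop1 C) _ _)

theorem f3546 : C.T (v5 C) [16, 66, 70, 95, 109, 111] (v5 C) [14, 32, 55, 87, 107, 121] :=
  C.conv (f1238 C) (f1153 C) (f1153 C) _ [131, 160, 167, 172, 178] _ (by decide +kernel) (by decide +kernel) (by decide +kernel)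

theorem f3547 : C.T (v5 C) [5, 28, 89, 91, 109, 112] (v16 C) [9, 41, 62, 71, 100, 110, 112] :=
  C.conv (f3446 C) (f1153 C) (f3538 C) _ [131, 158, 173, 177] _ (by decide +kernel) (by decide +kernel) (by decide +kernel)

theorem f3548 : C.S (v5 C) [13, 35, 69, 89, 94, 109, 112] :=
  C.stMul (f1023 C) (f986 C) _ (by decide +kernel)

theorem f3549 : C.T (v5 C) [26, 29, 67, 81, 95, 109, 118] (v16 C) [24, 38, 60, 74, 105, 120] :=
  C.conv (f3446 C) (f1153 C) (f3548 C) _ [146, 151, 166, 174, 177] _ (by decide +kernel) (by decide +kernel) (by decide +kernel)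

theorem f3550 : C.T (v16 C) [24, 38, 60, 74, 105, 120] (v5 C) [26, 29, 67, 81, 95, 109, 118] :=
  C.flip (f3549 C)

theorem f3551 : C.T (v16 C) [22, 44, 51, 77, 93, 110, 124] (v16 C) [21, 28, 50, 72, 95, 110, 119] :=
  C.closeT (p := (v5 C)) (pu := [16, 66, 70, 95, 109, 111])
    (C.pT (f3546 C)
    (C.pH [8, 30, 65, 84, 94, 117] [5, 28, 89, 91, 109, 112] (by decide +kernel)
    (C.pT (f3547 C)
    (C.pH [26, 38, 54, 89, 90, 113] [22, 44, 51, 77, 93, 110, 124] (by decide +kernel) (C.pNil _ _)))))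
    (C.pH [8, 30, 65, 84, 94, 117] [24, 38, 60, 74, 105, 120] (by decide +kernel)
    (C.pT (f3550 C)
    (C.pH [26, 38, 54, 89, 90, 113] [16, 66, 70, 95, 109, 111] (by decide +kernel) (C.pNil _ _))))
    (C.loop_of_one (relLoop1 C) _ _)

theorem f3554 : C.T (v5 C) [20, 37, 65, 87, 91, 112] (v5 C) [20, 37, 65, 87, 91, 112] :=
  C.conv (f1255 C) (f1141 C) (f1141 C) _ [136, 151] _ (by decide +kernel) (by decide +kernel) (by decide +kernel)

theorem f3555 : C.T (v5 C) [23, 58, 70, 102, 109, 114] (v16 C) [24, 27, 50, 80, 106, 110, 112] :=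
  C.conv (f3446 C) (f1153 C) (f3464 C) _ [146, 156, 166, 171, 177] _ (by decide +kernel) (by decide +kernel) (by decide +kernel)

theorem f3556 : C.T (v5 C) [17, 28, 68, 73, 108, 109, 117] (v16 C) [10, 28, 69, 74, 110, 124] :=
  C.conv (f3446 C) (f1153 C) (f3464 C) _ [132, 150, 166, 178] _ (by decide +kernel) (by decide +kernel) (by decide +kernel)

theorem f3557 : C.T (v16 C) [10, 28, 69, 74, 110, 124] (v5 C) [17, 28, 68, 73, 108, 109, 117] :=
  C.flip (f3556 C)

theorem f3558 : C.T (v16 C) [12, 43, 69, 72, 99] (v16 C) [23, 74, 104, 110, 121] :=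
  C.closeT (p := (v5 C)) (pu := [20, 37, 65, 87, 91, 112])
    (C.pT (f3554 C)
    (C.pH [8, 30, 65, 84, 94, 117] [23, 58, 70, 102, 109, 114] (by decide +kernel)
    (C.pT (f3555 C)
    (C.pH [26, 38, 54, 89, 90, 113] [12, 43, 69, 72, 99] (by decide +kernel) (C.pNil _ _)))))
    (C.pH [8, 30, 65, 84, 94, 117] [10, 28, 69, 74, 110, 124] (by decide +kernel)
    (C.pT (f3557 C)
    (C.pH [26, 38, 54, 89, 90, 113] [20, 37, 65, 87, 91, 112] (by decide +kernel) (C.pNil _ _))))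
    (C.loop_of_one (relLoop1 C) _ _)

theorem f3561 : C.T (v5 C) [22, 27, 67, 88, 101, 117] (v9 C) [24, 27, 60, 74, 105, 110, 114] :=
  C.conv (f2017 C) (f2030 C) (f2030 C) _ [130, 152, 165, 175, 178] _ (by decide +kernel) (by decide +kernel) (by decide +kernel)

theorem f3562 : C.S (v9 C) [10, 69, 81, 100, 113] :=
  C.stMul (f1615 C) (f1610 C) _ (by decide +kernel)

theorem f3563 : C.S (v9 C) [21, 37, 62, 82, 103] :=
  C.stMul (f1624 C) (f3562 C) _ (by decide +kernel)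

theorem f3564 : C.S (v9 C) [21, 32, 63, 85, 106, 110, 120] :=
  C.stMul (f1624 C) (f1620 C) _ (by decide +kernel)

theorem f3565 : C.S (v9 C) [12, 29, 63, 103, 119] :=
  C.stMul (f1620 C) (f3564 C) _ (by decide +kernel)

theorem f3566 : C.T (v9 C) [16, 29, 64, 75, 95, 113] (v16 C) [25, 42, 60, 87, 98, 110, 111] :=
  C.conv (f3492 C) (f3563 C) (f3565 C) _ [140, 155, 170, 175, 177] _ (by decide +kernel) (by decide +kernel) (by decide +kernel)

theorem f3567 : C.S (v5 C) [41, 51, 86, 105, 123] :=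
  C.stMul (f1141 C) (f1008 C) _ (by decide +kernel)

theorem f3568 : C.S (v5 C) [20, 35, 58, 74, 106, 110, 121] :=
  C.stMul (f1023 C) (f3567 C) _ (by decide +kernel)

theorem f3569 : C.T (v5 C) [9, 39, 49, 70, 103, 109, 113] (v15 C) [22, 42, 54, 82, 109, 114] :=
  C.conv (f2774 C) (f3179 C) (f3568 C) _ [134, 160, 167, 176] _ (by decide +kernel) (by decide +kernel) (by decide +kernel)

theorem f3570 : C.T (v15 C) [22, 42, 54, 82, 109, 114] (v5 C) [9, 39, 49, 70, 103, 109, 113] :=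
  C.flip (f3569 C)

theorem f3571 : C.T (v16 C) [18, 32, 57, 82, 103, 109, 113] (v15 C) [17, 33, 59, 76, 101, 109, 115] :=
  C.closeT (p := (v5 C)) (pu := [22, 27, 67, 88, 101, 117])
    (C.pT (f3561 C)
    (C.pH [8, 30, 65, 84, 94, 117] [16, 29, 64, 75, 95, 113] (by decide +kernel)
    (C.pT (f3566 C)
    (C.pH [26, 38, 54, 89, 90, 113] [18, 32, 57, 82, 103, 109, 113] (by decide +kernel) (C.pNil _ _)))))
    (C.pH [8, 30, 65, 84, 94, 117] [22, 42, 54, 82, 109, 114] (by decide +kernel)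
    (C.pT (f3570 C)
    (C.pH [26, 38, 54, 89, 90, 113] [22, 27, 67, 88, 101, 117] (by decide +kernel) (C.pNil _ _))))
    (C.loop_of_one (relLoop1 C) _ _)

theorem f3572 : C.T (v15 C) [17, 33, 59, 76, 101, 109, 115] (v16 C) [18, 32, 57, 82, 103, 109, 113] :=
  C.flip (f3571 C)

theorem f3573 : C.T (v5 C) [17, 39, 68, 89, 96, 110, 122] (v15 C) [35, 49, 83, 100, 120] :=
  C.conv (f2699 C) (f3160 C) (f3160 C) _ [126, 161, 165, 174, 177] _ (by decide +kernel) (by decide +kernel) (by decide +kernel)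

theorem f3574 : C.T (v15 C) [8, 45, 50, 80, 99, 123] (v15 C) [13, 38, 62, 81, 99, 115] :=
  C.conv (f2994 C) (f2997 C) (f2996 C) _ [144, 159] _ (by decide +kernel) (by decide +kernel) (by decide +kernel)

theorem f3575 : C.S (v5 C) [40, 65, 79, 103, 110, 124] :=
  C.stMul (f1008 C) (f1141 C) _ (by decide +kernel)

theorem f3576 : C.S (v5 C) [20, 30, 59, 75, 107, 110, 123] :=
  C.stMul (f1023 C) (f3575 C) _ (by decide +kernel)

theorem f3577 : C.S (v5 C) [10, 27, 54, 88, 92, 110, 113] :=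
  C.stMul (f1023 C) (f1023 C) _ (by decide +kernel)

theorem f3578 : C.S (v5 C) [7, 48, 49, 78, 90, 109, 120] :=
  C.stMul (f986 C) (f3577 C) _ (by decide +kernel)

theorem f3579 : C.T (v5 C) [19, 31, 59, 85, 93, 110, 120] (v16 C) [22, 44, 64, 84, 106, 109, 113] :=
  C.conv (f3529 C) (f3576 C) (f3578 C) _ [128, 160, 169, 171, 178] _ (by decide +kernel) (by decide +kernel) (by decide +kernel)

theorem f3580 : C.T (v16 C) [22, 44, 64, 84, 106, 109, 113] (v5 C) [19, 31, 59, 85, 93, 110, 120] :=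
  C.flip (f3579 C)

theorem f3581 : C.T (v15 C) [23, 29, 71, 98, 109, 115] (v16 C) [17, 37, 69, 87, 108, 109, 111] :=
  C.closeT (p := (v5 C)) (pu := [17, 39, 68, 89, 96, 110, 122])
    (C.pT (f3573 C)
    (C.pH [8, 30, 65, 84, 94, 117] [8, 45, 50, 80, 99, 123] (by decide +kernel)
    (C.pT (f3574 C)
    (C.pH [26, 38, 54, 89, 90, 113] [23, 29, 71, 98, 109, 115] (by decide +kernel) (C.pNil _ _)))))
    (C.pH [8, 30, 65, 84, 94, 117] [22, 44, 64, 84, 106, 109, 113] (by decide +kernel)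
    (C.pT (f3580 C)
    (C.pH [26, 38, 54, 89, 90, 113] [17, 39, 68, 89, 96, 110, 122] (by decide +kernel) (C.pNil _ _))))
    (C.loop_of_one (relLoop1 C) _ _)

theorem f3582 : C.T (v16 C) [17, 37, 69, 87, 108, 109, 111] (v15 C) [23, 29, 71, 98, 109, 115] :=
  C.flip (f3581 C)

theorem f3583 : C.T (v5 C) [43, 64, 75, 98, 122] (v16 C) [21, 40, 51, 81, 108, 109, 113] :=
  C.conv (f3446 C) (f1153 C) (f1153 C) _ [143, 155, 169, 176] _ (by decide +kernel) (by decide +kernel) (by decide +kernel)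

theorem f3584 : C.S (v5 C) [9, 47, 59, 85, 92, 123] :=
  C.stMul (f1008 C) (f986 C) _ (by decide +kernel)

theorem f3585 : C.S (v5 C) [7, 42, 67, 73, 102, 109, 111] :=
  C.stMul (f1141 C) (f3584 C) _ (by decide +kernel)

theorem f3586 : C.S (v5 C) [24, 38, 55, 77, 94, 109, 124] :=
  C.stMul (f1023 C) (f3585 C) _ (by decide +kernel)

theorem f3587 : C.S (v5 C) [11, 33, 49, 87, 100, 109, 117] :=
  C.stMul (f986 C) (f3586 C) _ (by decide +kernel)

theorem f3588 : C.T (v5 C) [7, 28, 63, 74, 108, 110, 123] (v15 C) [13, 40, 52, 72, 103, 121] :=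
  C.conv (f2699 C) (f3160 C) (f3587 C) _ [145, 151, 165, 177] _ (by decide +kernel) (by decide +kernel) (by decide +kernel)

theorem f3589 : C.T (v15 C) [13, 40, 52, 72, 103, 121] (v5 C) [7, 28, 63, 74, 108, 110, 123] :=
  C.flip (f3588 C)

theorem f3590 : C.S (v15 C) [25, 47, 66, 86, 107, 124] :=
  C.stMul (f2569 C) (f2565 C) _ (by decide +kernel)

theorem f3591 : C.S (v15 C) [24, 44, 51, 82, 106, 110, 112] :=
  C.stMul (f2565 C) (f3590 C) _ (by decide +kernel)

theorem f3592 : C.T (v15 C) [6, 42, 50, 76, 101, 109, 119] (v16 C) [4, 27, 59, 87, 94, 116] :=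
  C.conv (f3503 C) (f3591 C) (f3590 C) _ [141, 154, 165, 172, 178] _ (by decide +kernel) (by decide +kernel) (by decide +kernel)

theorem f3593 : C.T (v16 C) [4, 27, 59, 87, 94, 116] (v15 C) [6, 42, 50, 76, 101, 109, 119] :=
  C.flip (f3592 C)

theorem f3594 : C.T (v16 C) [24, 31, 66, 70, 108, 109, 119] (v16 C) [6, 42, 66, 79, 108, 110, 125] :=
  C.closeT (p := (v5 C)) (pu := [43, 64, 75, 98, 122])
    (C.pT (f3583 C)
    (C.pH [8, 30, 65, 84, 94, 117] [24, 31, 66, 70, 108, 109, 119] (by decide +kernel) (C.pNil _ _)))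
    (C.pH [26, 38, 54, 89, 90, 113] [4, 27, 59, 87, 94, 116] (by decide +kernel)
    (C.pT (f3593 C)
    (C.pH [8, 30, 65, 84, 94, 117] [13, 40, 52, 72, 103, 121] (by decide +kernel)
    (C.pT (f3589 C)
    (C.pH [26, 38, 54, 89, 90, 113] [43, 64, 75, 98, 122] (by decide +kernel) (C.pNil _ _))))))
    (C.loop_of_one (relLoop1 C) _ _)

theorem f3596 : C.S (v16 C) [18, 48, 62, 92] :=
  C.stMul (f3456 C) (f3451 C) _ (by decide +kernel)

theorem f3597 : C.S (v16 C) [7, 41, 57, 70, 98, 110, 111] :=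
  C.stMul (f3458 C) (f3596 C) _ (by decide +kernel)

theorem f3600 : C.T (v5 C) [4, 35, 53, 84, 98, 110, 124] (v16 C) [15, 36, 63, 77, 91, 109, 119] :=
  C.conv (f3446 C) (f1153 C) (f1153 C) _ [137, 151, 165, 176, 177] _ (by decide +kernel) (by decide +kernel) (by decide +kernel)

theorem f3601 : C.T (v5 C) [6, 64, 74, 101, 110, 115] (v9 C) [20, 35, 64, 75, 96, 110, 121] :=
  C.conv (f2010 C) (f3176 C) (f3319 C) _ [129, 152, 164, 171, 178] _ (by decide +kernel) (by decide +kernel) (by decide +kernel)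

theorem f3602 : C.T (v9 C) [20, 35, 64, 75, 96, 110, 121] (v5 C) [6, 64, 74, 101, 110, 115] :=
  C.flip (f3601 C)

theorem f3603 : C.S (v9 C) [23, 37, 55, 75, 92, 110, 123] :=
  C.stMul (f1624 C) (f1607 C) _ (by decide +kernel)

theorem f3604 : C.T (v9 C) [16, 48, 69, 74, 92, 121] (v9 C) [16, 34, 63, 85, 98, 110, 113] :=
  C.conv (f2022 C) (f2024 C) (f3603 C) _ [143, 152, 167, 174, 178] _ (by decide +kernel) (by decide +kernel) (by decide +kernel)

theorem f3605 : C.T (v9 C) [16, 34, 63, 85, 98, 110, 113] (v9 C) [16, 48, 69, 74, 92, 121] :=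
  C.flip (f3604 C)

theorem f3606 : C.T (v16 C) [19, 37, 65, 74, 96, 114] (v9 C) [26, 34, 57, 87, 105, 110, 117] :=
  C.closeT (p := (v5 C)) (pu := [4, 35, 53, 84, 98, 110, 124])
    (C.pT (f3600 C)
    (C.pH [8, 30, 65, 84, 94, 117] [19, 37, 65, 74, 96, 114] (by decide +kernel) (C.pNil _ _)))
    (C.pH [26, 38, 54, 89, 90, 113] [16, 34, 63, 85, 98, 110, 113] (by decide +kernel)
    (C.pT (f3605 C)
    (C.pH [8, 30, 65, 84, 94, 117] [20, 35, 64, 75, 96, 110, 121] (by decide +kernel)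
    (C.pT (f3602 C)
    (C.pH [26, 38, 54, 89, 90, 113] [4, 35, 53, 84, 98, 110, 124] (by decide +kernel) (C.pNil _ _))))))
    (C.loop_of_one (relLoop1 C) _ _)

theorem f3607 : C.T (v9 C) [26, 34, 57, 87, 105, 110, 117] (v16 C) [19, 37, 65, 74, 96, 114] :=
  C.flip (f3606 C)

theorem f3608 : C.T (v5 C) [25, 41, 69, 83, 105, 110, 124] (v16 C) [5, 36, 60, 85, 90] :=
  C.conv (f3446 C) (f1153 C) (f1153 C) _ [127, 161, 168, 172] _ (by decide +kernel) (by decide +kernel) (by decide +kernel)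

theorem f3609 : C.T (v5 C) [4, 43, 51, 81, 98, 109, 120] (v5 C) [24, 45, 68, 82, 94, 118] :=
  C.conv (f1116 C) (f1147 C) (f1153 C) _ [127, 156, 170, 171, 178] _ (by decide +kernel) (by decide +kernel) (by decide +kernel)

theorem f3610 : C.T (v5 C) [24, 45, 68, 82, 94, 118] (v5 C) [4, 43, 51, 81, 98, 109, 120] :=
  C.flip (f3609 C)

theorem f3611 : C.S (v5 C) [20, 31, 50, 86, 96, 109, 115] :=
  C.stMul (f1141 C) (f1023 C) _ (by decide +kernel)

theorem f3612 : C.T (v5 C) [21, 36, 72, 104, 110, 111] (v9 C) [12, 40, 73, 94, 111] :=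
  C.conv (f2076 C) (f1008 C) (f3611 C) _ [155, 174, 177] _ (by decide +kernel) (by decide +kernel) (by decide +kernel)

theorem f3613 : C.T (v9 C) [12, 40, 73, 94, 111] (v5 C) [21, 36, 72, 104, 110, 111] :=
  C.flip (f3612 C)

theorem f3614 : C.T (v16 C) [12, 38, 55, 81, 93, 109, 120] (v9 C) [24, 45, 60, 73, 90, 110, 125] :=
  C.closeT (p := (v5 C)) (pu := [25, 41, 69, 83, 105, 110, 124])
    (C.pT (f3608 C)
    (C.pH [8, 30, 65, 84, 94, 117] [12, 38, 55, 81, 93, 109, 120] (by decide +kernel) (C.pNil _ _)))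
    (C.pH [26, 38, 54, 89, 90, 113] [12, 40, 73, 94, 111] (by decide +kernel)
    (C.pT (f3613 C)
    (C.pH [8, 30, 65, 84, 94, 117] [24, 45, 68, 82, 94, 118] (by decide +kernel)
    (C.pT (f3610 C)
    (C.pH [26, 38, 54, 89, 90, 113] [25, 41, 69, 83, 105, 110, 124] (by decide +kernel) (C.pNil _ _))))))
    (C.loop_of_one (relLoop1 C) _ _)

theorem f3615 : C.T (v9 C) [24, 45, 60, 73, 90, 110, 125] (v16 C) [12, 38, 55, 81, 93, 109, 120] :=
  C.flip (f3614 C)

theorem f3616 : C.T (v5 C) [6, 45, 69, 81, 92, 112] (v5 C) [24, 27, 61, 70, 100, 110, 111] :=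
  C.conv (f1129 C) (f986 C) (f986 C) _ [170, 174, 177] _ (by decide +kernel) (by decide +kernel) (by decide +kernel)

theorem f3617 : C.T (v5 C) [12, 43, 51, 85, 100, 110, 123] (v16 C) [5, 39, 53, 81, 96] :=
  C.conv (f3446 C) (f1153 C) (f1141 C) _ [127, 163, 170, 175, 178] _ (by decide +kernel) (by decide +kernel) (by decide +kernel)

theorem f3618 : C.S (v5 C) [13, 31, 66, 73, 100, 119] :=
  C.stMul (f986 C) (f1023 C) _ (by decide +kernel)

theorem f3619 : C.T (v5 C) [22, 46, 50, 82, 93, 109, 121] (v16 C) [8, 44, 51, 81, 90, 109, 125] :=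
  C.conv (f3446 C) (f1153 C) (f3618 C) _ [130, 171, 178] _ (by decide +kernel) (by decide +kernel) (by decide +kernel)

theorem f3620 : C.T (v16 C) [8, 44, 51, 81, 90, 109, 125] (v5 C) [22, 46, 50, 82, 93, 109, 121] :=
  C.flip (f3619 C)

theorem f3621 : C.T (v16 C) [12, 37, 51, 88, 104, 110, 116] (v16 C) [5, 35, 55, 85, 101, 109, 125] :=
  C.closeT (p := (v5 C)) (pu := [6, 45, 69, 81, 92, 112])
    (C.pT (f3616 C)
    (C.pH [26, 38, 54, 89, 90, 113] [12, 43, 51, 85, 100, 110, 123] (by decide +kernel)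
    (C.pT (f3617 C)
    (C.pH [8, 30, 65, 84, 94, 117] [12, 37, 51, 88, 104, 110, 116] (by decide +kernel) (C.pNil _ _)))))
    (C.pH [26, 38, 54, 89, 90, 113] [8, 44, 51, 81, 90, 109, 125] (by decide +kernel)
    (C.pT (f3620 C)
    (C.pH [8, 30, 65, 84, 94, 117] [6, 45, 69, 81, 92, 112] (by decide +kernel) (C.pNil _ _))))
    (C.loop_of_one (relLoop2 C) _ _)

theorem f3624 : C.T (v5 C) [13, 36, 58, 81, 104, 109, 115] (v9 C) [22, 42, 65, 78, 103, 110, 116] :=
  C.conv (f2017 C) (f2030 C) (f2030 C) _ [136, 155, 166, 176, 178] _ (by decide +kernel) (by decide +kernel) (by decide +kernel)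

theorem f3625 : C.S (v9 C) [21, 32, 63, 85, 106, 110, 120] :=
  C.stMul (f1624 C) (f1620 C) _ (by decide +kernel)

theorem f3626 : C.S (v9 C) [12, 29, 63, 103, 119] :=
  C.stMul (f1620 C) (f3625 C) _ (by decide +kernel)

theorem f3627 : C.T (v9 C) [19, 39, 60, 104, 119] (v16 C) [7, 37, 65, 81, 106, 109, 120] :=
  C.conv (f3615 C) (f3626 C) (f1620 C) _ [140, 150, 169, 176] _ (by decide +kernel) (by decide +kernel) (by decide +kernel)

theorem f3628 : C.T (v5 C) [6, 30, 54, 70, 105, 110, 122] (v6 C) [14, 31, 60, 80, 105, 109, 120] :=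
  C.conv (f1383 C) (f1403 C) (f1141 C) _ [140, 159, 164, 175, 177] _ (by decide +kernel) (by decide +kernel) (by decide +kernel)

theorem f3629 : C.T (v6 C) [14, 31, 60, 80, 105, 109, 120] (v5 C) [6, 30, 54, 70, 105, 110, 122] :=
  C.flip (f3628 C)

theorem f3630 : C.T (v16 C) [17, 34, 66, 89, 95, 110, 117] (v6 C) [12, 30, 66, 103, 109, 117] :=
  C.closeT (p := (v5 C)) (pu := [13, 36, 58, 81, 104, 109, 115])
    (C.pT (f3624 C)
    (C.pH [26, 38, 54, 89, 90, 113] [19, 39, 60, 104, 119] (by decide +kernel)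
    (C.pT (f3627 C)
    (C.pH [8, 30, 65, 84, 94, 117] [17, 34, 66, 89, 95, 110, 117] (by decide +kernel) (C.pNil _ _)))))
    (C.pH [26, 38, 54, 89, 90, 113] [14, 31, 60, 80, 105, 109, 120] (by decide +kernel)
    (C.pT (f3629 C)
    (C.pH [8, 30, 65, 84, 94, 117] [13, 36, 58, 81, 104, 109, 115] (by decide +kernel) (C.pNil _ _))))
    (C.loop_of_one (relLoop2 C) _ _)

theorem f3631 : C.T (v6 C) [12, 30, 66, 103, 109, 117] (v16 C) [17, 34, 66, 89, 95, 110, 117] :=
  C.flip (f3630 C)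

theorem f3632 : C.T (v5 C) [24, 27, 55, 80, 94, 110, 113] (v16 C) [5, 43, 88, 103, 119] :=
  C.conv (f3446 C) (f1153 C) (f1153 C) _ [127, 154, 166, 172, 178] _ (by decide +kernel) (by decide +kernel) (by decide +kernel)

theorem f3633 : C.S (v5 C) [41, 51, 86, 105, 123] :=
  C.stMul (f1141 C) (f1008 C) _ (by decide +kernel)

theorem f3634 : C.S (v5 C) [85, 93, 110, 124] :=
  C.stMul (f1008 C) (f3633 C) _ (by decide +kernel)

theorem f3635 : C.S (v5 C) [38, 59, 70, 97, 110, 119] :=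
  C.stMul (f1141 C) (f3634 C) _ (by decide +kernel)

theorem f3636 : C.T (v5 C) [21, 35, 66, 88, 96, 109, 124] (v4 C) [17, 34, 50, 91, 110, 125] :=
  C.conv (f1137 C) (f1149 C) (f3635 C) _ [140, 160, 165, 178] _ (by decide +kernel) (by decide +kernel) (by decide +kernel)

theorem f3637 : C.T (v4 C) [17, 34, 50, 91, 110, 125] (v5 C) [21, 35, 66, 88, 96, 109, 124] :=
  C.flip (f3636 C)

theorem f3638 : C.T (v4 C) [19, 33, 54, 71, 97, 110, 122] (v4 C) [6, 45, 61, 98, 109, 117] :=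
  C.conv (f901 C) (f697 C) (f1793 C) _ [148, 162] _ (by decide +kernel) (by decide +kernel) (by decide +kernel)

theorem f3639 : C.T (v4 C) [6, 45, 61, 98, 109, 117] (v4 C) [19, 33, 54, 71, 97, 110, 122] :=
  C.flip (f3638 C)

theorem f3640 : C.T (v16 C) [8, 27, 59, 83, 96, 116] (v4 C) [22, 46, 57, 71, 103, 109, 123] :=
  C.closeT (p := (v5 C)) (pu := [24, 27, 55, 80, 94, 110, 113])
    (C.pT (f3632 C)
    (C.pH [26, 38, 54, 89, 90, 113] [8, 27, 59, 83, 96, 116] (by decide +kernel) (C.pNil _ _)))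
    (C.pH [8, 30, 65, 84, 94, 117] [6, 45, 61, 98, 109, 117] (by decide +kernel)
    (C.pT (f3639 C)
    (C.pH [26, 38, 54, 89, 90, 113] [17, 34, 50, 91, 110, 125] (by decide +kernel)
    (C.pT (f3637 C)
    (C.pH [8, 30, 65, 84, 94, 117] [24, 27, 55, 80, 94, 110, 113] (by decide +kernel) (C.pNil _ _))))))
    (C.loop_of_one (relLoop2 C) _ _)

theorem f3641 : C.T (v4 C) [22, 46, 57, 71, 103, 109, 123] (v16 C) [8, 27, 59, 83, 96, 116] :=
  C.flip (f3640 C)

theorem f3642 : C.T (v5 C) [7, 45, 52, 77, 98, 110, 119] (v16 C) [13, 37, 59, 85, 92, 110, 115] :=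
  C.conv (f3446 C) (f1153 C) (f1153 C) _ [135, 163, 170, 175, 177] _ (by decide +kernel) (by decide +kernel) (by decide +kernel)

theorem f3643 : C.T (v5 C) [11, 48, 51, 78, 110] (v9 C) [7, 39, 64, 80, 106, 110, 112] :=
  C.conv (f2017 C) (f2030 C) (f1153 C) _ [132, 163, 175, 178] _ (by decide +kernel) (by decide +kernel) (by decide +kernel)

theorem f3644 : C.T (v9 C) [7, 39, 64, 80, 106, 110, 112] (v5 C) [11, 48, 51, 78, 110] :=
  C.flip (f3643 C)

theorem f3645 : C.S (v9 C) [25, 29, 50, 71, 91, 114] :=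
  C.stMul (f1620 C) (f1624 C) _ (by decide +kernel)

theorem f3646 : C.S (v9 C) [18, 33, 55, 71, 105, 109, 125] :=
  C.stMul (f1615 C) (f3645 C) _ (by decide +kernel)

theorem f3647 : C.S (v9 C) [21, 43, 68, 73, 95, 110, 113] :=
  C.stMul (f1620 C) (f3646 C) _ (by decide +kernel)

theorem f3648 : C.T (v9 C) [23, 30, 55, 87, 95, 110, 111] (v10 C) [16, 30, 68, 86, 90, 112] :=
  C.conv (f2033 C) (f2523 C) (f3647 C) _ [139, 151, 164, 172, 177] _ (by decide +kernel) (by decide +kernel) (by decide +kernel)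

theorem f3649 : C.T (v10 C) [16, 30, 68, 86, 90, 112] (v9 C) [23, 30, 55, 87, 95, 110, 111] :=
  C.flip (f3648 C)

theorem f3650 : C.T (v16 C) [23, 47, 58, 71, 92, 109, 118] (v10 C) [24, 33, 60, 88, 96, 109, 111] :=
  C.closeT (p := (v5 C)) (pu := [7, 45, 52, 77, 98, 110, 119])
    (C.pT (f3642 C)
    (C.pH [26, 38, 54, 89, 90, 113] [23, 47, 58, 71, 92, 109, 118] (by decide +kernel) (C.pNil _ _)))
    (C.pH [8, 30, 65, 84, 94, 117] [16, 30, 68, 86, 90, 112] (by decide +kernel)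
    (C.pT (f3649 C)
    (C.pH [26, 38, 54, 89, 90, 113] [7, 39, 64, 80, 106, 110, 112] (by decide +kernel)
    (C.pT (f3644 C)
    (C.pH [8, 30, 65, 84, 94, 117] [7, 45, 52, 77, 98, 110, 119] (by decide +kernel) (C.pNil _ _))))))
    (C.loop_of_one (relLoop2 C) _ _)

theorem f3651 : C.T (v10 C) [24, 33, 60, 88, 96, 109, 111] (v16 C) [23, 47, 58, 71, 92, 109, 118] :=
  C.flip (f3650 C)

theorem f3652 : C.T (v6 C) [24, 28, 62, 74, 92, 110, 112] (v10 C) [4, 37, 60, 81, 91, 110, 111] :=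
  C.conv (f1950 C) (f1985 C) (f1985 C) _ [147, 149, 164, 172, 177] _ (by decide +kernel) (by decide +kernel) (by decide +kernel)

theorem f3653 : C.S (v6 C) [7, 41, 67, 76, 108, 117] :=
  C.stMul (f1307 C) (f1270 C) _ (by decide +kernel)

theorem f3654 : C.S (v6 C) [12, 46, 62, 75, 94, 114] :=
  C.stMul (f1358 C) (f3653 C) _ (by decide +kernel)

theorem f3655 : C.S (v6 C) [6, 48, 74, 102, 123] :=
  C.stMul (f1266 C) (f1358 C) _ (by decide +kernel)

theorem f3656 : C.T (v6 C) [19, 45, 56, 84, 105, 121] (v16 C) [21, 70, 95, 109, 116] :=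
  C.conv (f3631 C) (f3654 C) (f3655 C) _ [142, 161, 164] _ (by decide +kernel) (by decide +kernel) (by decide +kernel)

theorem f3657 : C.T (v16 C) [21, 70, 95, 109, 116] (v6 C) [19, 45, 56, 84, 105, 121] :=
  C.flip (f3656 C)

theorem f3658 : C.T (v10 C) [13, 47, 59, 85, 94, 116] (v16 C) [10, 34, 53, 70, 95, 109, 116] :=
  C.closeT (p := (v6 C)) (pu := [24, 28, 62, 74, 92, 110, 112])
    (C.pT (f3652 C)
    (C.pH [12, 35, 50, 83] [13, 47, 59, 85, 94, 116] (by decide +kernel) (C.pNil _ _)))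
    (C.pH [12, 35, 50, 83] [21, 70, 95, 109, 116] (by decide +kernel)
    (C.pT (f3657 C)
    (C.pH [12, 35, 50, 83] [24, 28, 62, 74, 92, 110, 112] (by decide +kernel) (C.pNil _ _))))
    (C.loop_of_one (relLoop0 C) _ _)

theorem f3659 : C.T (v16 C) [10, 34, 53, 70, 95, 109, 116] (v10 C) [13, 47, 59, 85, 94, 116] :=
  C.flip (f3658 C)

theorem f3660 : C.T (v6 C) [26, 38, 57, 82, 109, 119] (v10 C) [15, 46, 52, 87, 104, 109, 120] :=
  C.conv (f1950 C) (f1985 C) (f1985 C) _ [127, 158, 169, 172, 178] _ (by decide +kernel) (by decide +kernel) (by decide +kernel)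

theorem f3661 : C.S (v6 C) [14, 28, 69, 78, 103, 109, 112] :=
  C.stMul (f1307 C) (f1291 C) _ (by decide +kernel)

theorem f3662 : C.S (v6 C) [18, 29, 50, 70, 96, 121] :=
  C.stMul (f1353 C) (f3661 C) _ (by decide +kernel)

theorem f3663 : C.T (v6 C) [13, 43, 54, 82, 109, 119] (v16 C) [17, 32, 56, 83, 107, 114] :=
  C.conv (f3631 C) (f3654 C) (f3662 C) _ [126, 158, 175, 178] _ (by decide +kernel) (by decide +kernel) (by decide +kernel)

theorem f3664 : C.T (v16 C) [17, 32, 56, 83, 107, 114] (v6 C) [13, 43, 54, 82, 109, 119] :=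
  C.flip (f3663 C)

theorem f3665 : C.T (v10 C) [15, 46, 52, 82, 110, 118] (v16 C) [9, 41, 57, 81, 108, 110, 116] :=
  C.closeT (p := (v6 C)) (pu := [26, 38, 57, 82, 109, 119])
    (C.pT (f3660 C)
    (C.pH [12, 35, 50, 83] [15, 46, 52, 82, 110, 118] (by decide +kernel) (C.pNil _ _)))
    (C.pH [12, 35, 50, 83] [17, 32, 56, 83, 107, 114] (by decide +kernel)
    (C.pT (f3664 C)
    (C.pH [12, 35, 50, 83] [26, 38, 57, 82, 109, 119] (by decide +kernel) (C.pNil _ _))))
    (C.loop_of_one (relLoop0 C) _ _)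

theorem f3666 : C.T (v16 C) [9, 41, 57, 81, 108, 110, 116] (v10 C) [15, 46, 52, 82, 110, 118] :=
  C.flip (f3665 C)

theorem f3667 : C.S (v6 C) [17, 34, 49, 70, 93, 110, 117] :=
  C.stMul (f1358 C) (f1291 C) _ (by decide +kernel)

theorem f3668 : C.S (v6 C) [15, 35, 52, 82, 93, 110, 111] :=
  C.stMul (f1307 C) (f3667 C) _ (by decide +kernel)

theorem f3669 : C.T (v6 C) [8, 33, 62, 72, 91, 119] (v10 C) [21, 41, 65, 70, 90, 125] :=
  C.conv (f1989 C) (f3668 C) (f3668 C) _ [144, 168, 171, 178] _ (by decide +kernel) (by decide +kernel) (by decide +kernel)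

theorem f3670 : C.T (v6 C) [21, 33, 56, 70, 92, 110, 124] (v16 C) [15, 38, 54, 78, 108, 109, 123] :=
  C.conv (f3631 C) (f3654 C) (f3662 C) _ [146, 154, 168, 174, 177] _ (by decide +kernel) (by decide +kernel) (by decide +kernel)

theorem f3671 : C.T (v16 C) [15, 38, 54, 78, 108, 109, 123] (v6 C) [21, 33, 56, 70, 92, 110, 124] :=
  C.flip (f3670 C)

theorem f3672 : C.T (v10 C) [8, 36, 68, 73, 103, 109, 111] (v16 C) [15, 38, 49, 89, 103, 109, 122] :=
  C.closeT (p := (v6 C)) (pu := [8, 33, 62, 72, 91, 119])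
    (C.pT (f3669 C)
    (C.pH [12, 35, 50, 83] [8, 36, 68, 73, 103, 109, 111] (by decide +kernel) (C.pNil _ _)))
    (C.pH [12, 35, 50, 83] [15, 38, 54, 78, 108, 109, 123] (by decide +kernel)
    (C.pT (f3671 C)
    (C.pH [12, 35, 50, 83] [8, 33, 62, 72, 91, 119] (by decide +kernel) (C.pNil _ _))))
    (C.loop_of_one (relLoop0 C) _ _)

theorem f3673 : C.T (v16 C) [15, 38, 49, 89, 103, 109, 122] (v10 C) [8, 36, 68, 73, 103, 109, 111] :=
  C.flip (f3672 C)

theorem f3674 : C.T (v6 C) [9, 38, 49, 80, 108, 109, 123] (v15 C) [5, 46, 60, 81, 93, 115] :=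
  C.conv (f2790 C) (f3388 C) (f3388 C) _ [140, 155, 175, 178] _ (by decide +kernel) (by decide +kernel) (by decide +kernel)

theorem f3675 : C.T (v15 C) [5, 30, 60, 81, 93, 115] (v16 C) [13, 42, 60, 89, 94, 110, 111] :=
  C.conv (f3572 C) (f2565 C) (f2652 C) _ [126, 153, 166] _ (by decide +kernel) (by decide +kernel) (by decide +kernel)

theorem f3676 : C.T (v16 C) [26, 33, 55, 84, 99, 110, 123] (v6 C) [25, 28, 49, 71, 91, 110, 119] :=
  C.closeT (p := (v6 C)) (pu := [9, 38, 49, 80, 108, 109, 123])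
    (C.pT (f3674 C)
    (C.pH [12, 35, 50, 83] [5, 30, 60, 81, 93, 115] (by decide +kernel)
    (C.pT (f3675 C)
    (C.pH [12, 35, 50, 83] [26, 33, 55, 84, 99, 110, 123] (by decide +kernel) (C.pNil _ _)))))
    (C.pH [12, 35, 50, 83] [9, 38, 49, 80, 108, 109, 123] (by decide +kernel) (C.pNil _ _))
    (C.loop_of_one (relLoop0 C) _ _)

theorem f3677 : C.T (v6 C) [25, 28, 49, 71, 91, 110, 119] (v16 C) [26, 33, 55, 84, 99, 110, 123] :=
  C.flip (f3676 C)

theorem f3678 : C.S (v6 C) [18, 45, 63, 87, 90, 110, 113] :=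
  C.stMul (f1270 C) (f1266 C) _ (by decide +kernel)

theorem f3679 : C.S (v6 C) [15, 40, 68, 87, 106, 110, 111] :=
  C.stMul (f1358 C) (f3678 C) _ (by decide +kernel)

theorem f3680 : C.S (v6 C) [9, 47, 54, 75, 108, 125] :=
  C.stMul (f1270 C) (f3679 C) _ (by decide +kernel)

theorem f3681 : C.T (v6 C) [11, 35, 61, 70, 90, 115] (v15 C) [26, 47, 54, 82, 94, 109, 112] :=
  C.conv (f3290 C) (f3680 C) (f3680 C) _ [129, 169, 173, 177] _ (by decide +kernel) (by decide +kernel) (by decide +kernel)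

theorem f3682 : C.S (v6 C) [19, 43, 50, 81, 107, 115] :=
  C.stMul (f1358 C) (f1270 C) _ (by decide +kernel)

theorem f3683 : C.S (v6 C) [12, 47, 61, 73, 107, 110, 122] :=
  C.stMul (f1353 C) (f3682 C) _ (by decide +kernel)

theorem f3684 : C.S (v6 C) [32, 64, 73, 102, 109, 125] :=
  C.stMul (f1270 C) (f3683 C) _ (by decide +kernel)

theorem f3685 : C.T (v6 C) [22, 29, 59, 88, 92, 109, 124] (v16 C) [10, 39, 57, 84, 99, 110, 115] :=
  C.conv (f3631 C) (f3654 C) (f3684 C) _ [140, 160, 166, 178] _ (by decide +kernel) (by decide +kernel) (by decide +kernel)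

theorem f3686 : C.T (v16 C) [10, 39, 57, 84, 99, 110, 115] (v6 C) [22, 29, 59, 88, 92, 109, 124] :=
  C.flip (f3685 C)

theorem f3687 : C.T (v15 C) [4, 48, 69, 83, 103, 109, 118] (v16 C) [8, 36, 61, 77, 98, 109, 117] :=
  C.closeT (p := (v6 C)) (pu := [11, 35, 61, 70, 90, 115])
    (C.pT (f3681 C)
    (C.pH [12, 35, 50, 83] [4, 48, 69, 83, 103, 109, 118] (by decide +kernel) (C.pNil _ _)))
    (C.pH [12, 35, 50, 83] [10, 39, 57, 84, 99, 110, 115] (by decide +kernel)
    (C.pT (f3686 C)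
    (C.pH [12, 35, 50, 83] [11, 35, 61, 70, 90, 115] (by decide +kernel) (C.pNil _ _))))
    (C.loop_of_one (relLoop0 C) _ _)

theorem f3688 : C.T (v16 C) [8, 36, 61, 77, 98, 109, 117] (v15 C) [4, 48, 69, 83, 103, 109, 118] :=
  C.flip (f3687 C)

theorem f3689 : C.T (v6 C) [8, 29, 69, 72, 99, 119] (v16 C) [4, 27, 63, 83, 98, 109] :=
  C.conv (f3631 C) (f3654 C) (f3654 C) _ [127, 160, 170, 177] _ (by decide +kernel) (by decide +kernel) (by decide +kernel)

theorem f3690 : C.S (v6 C) [48, 68, 83, 93, 121] :=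
  C.stMul (f1307 C) (f1266 C) _ (by decide +kernel)

theorem f3691 : C.S (v6 C) [9, 27, 65, 87, 103, 109, 112] :=
  C.stMul (f1358 C) (f3690 C) _ (by decide +kernel)

theorem f3692 : C.S (v6 C) [14, 30, 56, 73, 97, 111] :=
  C.stMul (f1270 C) (f3691 C) _ (by decide +kernel)

theorem f3693 : C.T (v6 C) [21, 44, 65, 89, 99, 114] (v16 C) [9, 29, 65, 70, 97, 109, 121] :=
  C.conv (f3631 C) (f3654 C) (f3692 C) _ [127, 153, 169, 178] _ (by decide +kernel) (by decide +kernel) (by decide +kernel)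

theorem f3694 : C.T (v16 C) [9, 29, 65, 70, 97, 109, 121] (v6 C) [21, 44, 65, 89, 99, 114] :=
  C.flip (f3693 C)

theorem f3695 : C.T (v16 C) [13, 36, 56, 71, 111] (v16 C) [25, 34, 61, 102, 124] :=
  C.closeT (p := (v6 C)) (pu := [8, 29, 69, 72, 99, 119])
    (C.pT (f3689 C)
    (C.pH [12, 35, 50, 83] [13, 36, 56, 71, 111] (by decide +kernel) (C.pNil _ _)))
    (C.pH [12, 35, 50, 83] [9, 29, 65, 70, 97, 109, 121] (by decide +kernel)
    (C.pT (f3694 C)
    (C.pH [12, 35, 50, 83] [8, 29, 69, 72, 99, 119] (by decide +kernel) (C.pNil _ _))))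
    (C.loop_of_one (relLoop0 C) _ _)

theorem f3698 : C.S (v6 C) [7, 41, 67, 76, 108, 117] :=
  C.stMul (f1307 C) (f1270 C) _ (by decide +kernel)

theorem f3699 : C.S (v6 C) [20, 32, 61, 73, 92, 110, 122] :=
  C.stMul (f1307 C) (f3698 C) _ (by decide +kernel)

theorem f3700 : C.S (v6 C) [22, 27, 69, 79, 96, 109, 117] :=
  C.stMul (f1270 C) (f3699 C) _ (by decide +kernel)

theorem f3701 : C.T (v6 C) [12, 27, 68, 90, 110, 122] (v4 C) [9, 37, 62, 84, 108, 120] :=
  C.conv (f1300 C) (f3700 C) (f3700 C) _ [132, 150, 173] _ (by decide +kernel) (by decide +kernel) (by decide +kernel)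

theorem f3702 : C.S (v4 C) [8, 31, 60, 85, 98, 110, 125] :=
  C.stMul (f693 C) (f407 C) _ (by decide +kernel)

theorem f3703 : C.T (v4 C) [18, 31, 59, 86, 100, 110, 116] (v4 C) [8, 54, 83, 107, 109, 121] :=
  C.conv (f751 C) (f753 C) (f3702 C) _ [146, 163, 165, 176] _ (by decide +kernel) (by decide +kernel) (by decide +kernel)

theorem f3704 : C.T (v6 C) [24, 41, 67, 70, 97, 109, 116] (v16 C) [19, 37, 55, 85, 94, 109, 111] :=
  C.conv (f3631 C) (f3654 C) (f3661 C) _ [126, 149, 168, 178] _ (by decide +kernel) (by decide +kernel) (by decide +kernel)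

theorem f3705 : C.T (v16 C) [19, 37, 55, 85, 94, 109, 111] (v6 C) [24, 41, 67, 70, 97, 109, 116] :=
  C.flip (f3704 C)

theorem f3706 : C.T (v4 C) [11, 31, 60, 88, 102, 119] (v16 C) [15, 36, 67, 89, 93, 109, 115] :=
  C.closeT (p := (v6 C)) (pu := [12, 27, 68, 90, 110, 122])
    (C.pT (f3701 C)
    (C.pH [8, 30, 65, 84, 94, 117] [18, 31, 59, 86, 100, 110, 116] (by decide +kernel)
    (C.pT (f3703 C)
    (C.pH [26, 38, 54, 89, 90, 113] [11, 31, 60, 88, 102, 119] (by decide +kernel) (C.pNil _ _)))))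
    (C.pH [8, 30, 65, 84, 94, 117] [19, 37, 55, 85, 94, 109, 111] (by decide +kernel)
    (C.pT (f3705 C)
    (C.pH [26, 38, 54, 89, 90, 113] [12, 27, 68, 90, 110, 122] (by decide +kernel) (C.pNil _ _))))
    (C.loop_of_one (relLoop1 C) _ _)

theorem f3707 : C.T (v16 C) [15, 36, 67, 89, 93, 109, 115] (v4 C) [11, 31, 60, 88, 102, 119] :=
  C.flip (f3706 C)

theorem f3708 : C.T (v6 C) [19, 33, 52, 85, 102, 109, 116] (v6 C) [25, 47, 51, 81, 102, 109, 114] :=
  C.conv (f1426 C) (f1270 C) (f1270 C) _ [135, 159, 168, 175, 177] _ (by decide +kernel) (by decide +kernel) (by decide +kernel)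

theorem f3709 : C.S (v6 C) [19, 43, 50, 81, 107, 115] :=
  C.stMul (f1358 C) (f1270 C) _ (by decide +kernel)

theorem f3710 : C.S (v6 C) [48, 68, 83, 93, 121] :=
  C.stMul (f1307 C) (f1266 C) _ (by decide +kernel)

theorem f3711 : C.S (v6 C) [20, 63, 70, 93, 118] :=
  C.stMul (f1270 C) (f3710 C) _ (by decide +kernel)

theorem f3712 : C.T (v6 C) [9, 32, 51, 82, 92, 110, 121] (v16 C) [17, 41, 66, 76, 93, 110, 123] :=
  C.conv (f3677 C) (f3709 C) (f3711 C) _ [133, 153, 169] _ (by decide +kernel) (by decide +kernel) (by decide +kernel)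

theorem f3713 : C.S (v6 C) [19, 40, 68, 88, 99, 110, 122] :=
  C.stMul (f1307 C) (f3709 C) _ (by decide +kernel)

theorem f3714 : C.T (v6 C) [22, 28, 49, 81, 103, 117] (v16 C) [7, 46, 50, 89, 100, 112] :=
  C.conv (f3677 C) (f3709 C) (f3713 C) _ [138, 152, 167, 176] _ (by decide +kernel) (by decide +kernel) (by decide +kernel)

theorem f3715 : C.T (v16 C) [7, 46, 50, 89, 100, 112] (v6 C) [22, 28, 49, 81, 103, 117] :=
  C.flip (f3714 C)

theorem f3716 : C.T (v16 C) [20, 47, 58, 89, 100, 112] (v16 C) [11, 30, 49, 73, 105, 110, 123] :=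
  C.closeT (p := (v6 C)) (pu := [19, 33, 52, 85, 102, 109, 116])
    (C.pT (f3708 C)
    (C.pH [8, 30, 65, 84, 94, 117] [9, 32, 51, 82, 92, 110, 121] (by decide +kernel)
    (C.pT (f3712 C)
    (C.pH [26, 38, 54, 89, 90, 113] [20, 47, 58, 89, 100, 112] (by decide +kernel) (C.pNil _ _)))))
    (C.pH [8, 30, 65, 84, 94, 117] [7, 46, 50, 89, 100, 112] (by decide +kernel)
    (C.pT (f3715 C)
    (C.pH [26, 38, 54, 89, 90, 113] [19, 33, 52, 85, 102, 109, 116] (by decide +kernel) (C.pNil _ _))))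
    (C.loop_of_one (relLoop1 C) _ _)

theorem f3719 : C.T (v6 C) [18, 47, 60, 79, 110, 116] (v6 C) [17, 42, 67, 75, 91, 109, 114] :=
  C.conv (f1435 C) (f1437 C) (f1437 C) _ [130, 161, 169, 174, 178] _ (by decide +kernel) (by decide +kernel) (by decide +kernel)

theorem f3720 : C.S (v6 C) [23, 29, 69, 82, 102, 110, 113] :=
  C.stMul (f1266 C) (f1307 C) _ (by decide +kernel)

theorem f3721 : C.S (v6 C) [11, 65, 80, 90, 110, 123] :=
  C.stMul (f1358 C) (f3720 C) _ (by decide +kernel)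

theorem f3722 : C.T (v6 C) [22, 37, 67, 76, 106, 109, 120] (v16 C) [16, 42, 63, 86, 106] :=
  C.conv (f3631 C) (f3654 C) (f3721 C) _ [144, 155, 166, 175, 177] _ (by decide +kernel) (by decide +kernel) (by decide +kernel)

theorem f3723 : C.S (v6 C) [17, 34, 49, 70, 93, 110, 117] :=
  C.stMul (f1358 C) (f1291 C) _ (by decide +kernel)

theorem f3724 : C.S (v6 C) [15, 35, 52, 82, 93, 110, 111] :=
  C.stMul (f1307 C) (f3723 C) _ (by decide +kernel)

theorem f3725 : C.T (v6 C) [25, 33, 64, 78, 91, 123] (v16 C) [18, 47, 53, 71, 104, 110, 122] :=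
  C.conv (f3631 C) (f3654 C) (f3724 C) _ [141, 173] _ (by decide +kernel) (by decide +kernel) (by decide +kernel)

theorem f3726 : C.T (v16 C) [18, 47, 53, 71, 104, 110, 122] (v6 C) [25, 33, 64, 78, 91, 123] :=
  C.flip (f3725 C)

theorem f3727 : C.T (v16 C) [13, 42, 50, 72, 103, 122] (v16 C) [9, 30, 52, 80, 110] :=
  C.closeT (p := (v6 C)) (pu := [18, 47, 60, 79, 110, 116])
    (C.pT (f3719 C)
    (C.pH [8, 30, 65, 84, 94, 117] [22, 37, 67, 76, 106, 109, 120] (by decide +kernel)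
    (C.pT (f3722 C)
    (C.pH [26, 38, 54, 89, 90, 113] [13, 42, 50, 72, 103, 122] (by decide +kernel) (C.pNil _ _)))))
    (C.pH [8, 30, 65, 84, 94, 117] [18, 47, 53, 71, 104, 110, 122] (by decide +kernel)
    (C.pT (f3726 C)
    (C.pH [26, 38, 54, 89, 90, 113] [18, 47, 60, 79, 110, 116] (by decide +kernel) (C.pNil _ _))))
    (C.loop_of_one (relLoop1 C) _ _)

theorem f3730 : C.T (v6 C) [26, 41, 54, 76, 101, 115] (v6 C) [8, 42, 67, 89, 103, 109, 121] :=
  C.conv (f1444 C) (f1446 C) (f1446 C) _ [140, 162, 174, 178] _ (by decide +kernel) (by decide +kernel) (by decide +kernel)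

theorem f3731 : C.S (v6 C) [18, 45, 63, 87, 90, 110, 113] :=
  C.stMul (f1270 C) (f1266 C) _ (by decide +kernel)

theorem f3732 : C.S (v6 C) [7, 30, 56, 81, 104, 109, 123] :=
  C.stMul (f1266 C) (f3731 C) _ (by decide +kernel)

theorem f3733 : C.T (v6 C) [42, 64, 78, 103, 122] (v16 C) [19, 37, 53, 83, 98, 116] :=
  C.conv (f3631 C) (f3654 C) (f3732 C) _ [131, 157, 166, 171] _ (by decide +kernel) (by decide +kernel) (by decide +kernel)

theorem f3734 : C.S (v6 C) [20, 63, 70, 93, 118] :=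
  C.stMul (f1270 C) (f3690 C) _ (by decide +kernel)

theorem f3735 : C.S (v6 C) [22, 35, 67, 74, 105, 113] :=
  C.stMul (f1270 C) (f3734 C) _ (by decide +kernel)

theorem f3736 : C.T (v6 C) [36, 56, 76, 105, 110, 119] (v16 C) [12, 43, 66, 88, 109, 114] :=
  C.conv (f3631 C) (f3654 C) (f3735 C) _ [128, 170, 171, 178] _ (by decide +kernel) (by decide +kernel) (by decide +kernel)

theorem f3737 : C.T (v16 C) [12, 43, 66, 88, 109, 114] (v6 C) [36, 56, 76, 105, 110, 119] :=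
  C.flip (f3736 C)

theorem f3738 : C.T (v16 C) [17, 40, 68, 87, 96, 125] (v16 C) [5, 37, 85, 108, 110, 123] :=
  C.closeT (p := (v6 C)) (pu := [26, 41, 54, 76, 101, 115])
    (C.pT (f3730 C)
    (C.pH [8, 30, 65, 84, 94, 117] [42, 64, 78, 103, 122] (by decide +kernel)
    (C.pT (f3733 C)
    (C.pH [26, 38, 54, 89, 90, 113] [17, 40, 68, 87, 96, 125] (by decide +kernel) (C.pNil _ _)))))
    (C.pH [8, 30, 65, 84, 94, 117] [12, 43, 66, 88, 109, 114] (by decide +kernel)
    (C.pT (f3737 C)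
    (C.pH [26, 38, 54, 89, 90, 113] [26, 41, 54, 76, 101, 115] (by decide +kernel) (C.pNil _ _))))
    (C.loop_of_one (relLoop1 C) _ _)

theorem f3741 : C.T (v6 C) [24, 36, 49, 78, 90, 109, 120] (v6 C) [4, 44, 51, 80, 99, 110, 123] :=
  C.conv (f1444 C) (f1446 C) (f1446 C) _ [148, 160, 166, 171] _ (by decide +kernel) (by decide +kernel) (by decide +kernel)

theorem f3742 : C.S (v6 C) [12, 47, 61, 73, 107, 110, 122] :=
  C.stMul (f1353 C) (f3709 C) _ (by decide +kernel)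

theorem f3743 : C.T (v6 C) [25, 45, 57, 85, 92, 110, 111] (v16 C) [18, 32, 54, 82, 90, 124] :=
  C.conv (f3677 C) (f3709 C) (f3742 C) _ [138, 152, 167, 173, 177] _ (by decide +kernel) (by decide +kernel) (by decide +kernel)

theorem f3744 : C.S (v6 C) [17, 43, 59, 82, 121] :=
  C.stMul (f1353 C) (f1270 C) _ (by decide +kernel)

theorem f3745 : C.S (v6 C) [14, 40, 67, 81, 103, 109, 112] :=
  C.stMul (f1358 C) (f3744 C) _ (by decide +kernel)

theorem f3746 : C.S (v6 C) [24, 47, 53, 88, 105, 110, 120] :=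
  C.stMul (f1270 C) (f3745 C) _ (by decide +kernel)

theorem f3747 : C.T (v6 C) [11, 44, 66, 82, 101, 112] (v16 C) [23, 47, 58, 78, 106, 110, 116] :=
  C.conv (f3631 C) (f3654 C) (f3746 C) _ [148, 160, 170, 174] _ (by decide +kernel) (by decide +kernel) (by decide +kernel)

theorem f3748 : C.T (v16 C) [23, 47, 58, 78, 106, 110, 116] (v6 C) [11, 44, 66, 82, 101, 112] :=
  C.flip (f3747 C)

theorem f3749 : C.T (v16 C) [10, 38, 68, 84, 97, 110, 120] (v16 C) [20, 44, 69, 89, 93, 120] :=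
  C.closeT (p := (v6 C)) (pu := [24, 36, 49, 78, 90, 109, 120])
    (C.pT (f3741 C)
    (C.pH [8, 30, 65, 84, 94, 117] [25, 45, 57, 85, 92, 110, 111] (by decide +kernel)
    (C.pT (f3743 C)
    (C.pH [26, 38, 54, 89, 90, 113] [10, 38, 68, 84, 97, 110, 120] (by decide +kernel) (C.pNil _ _)))))
    (C.pH [8, 30, 65, 84, 94, 117] [23, 47, 58, 78, 106, 110, 116] (by decide +kernel)
    (C.pT (f3748 C)
    (C.pH [26, 38, 54, 89, 90, 113] [24, 36, 49, 78, 90, 109, 120] (by decide +kernel) (C.pNil _ _))))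
    (C.loop_of_one (relLoop1 C) _ _)

theorem f3753 : C.T (v6 C) [5, 32, 63, 77, 108, 109, 115] (v6 C) [20, 47, 53, 86, 94, 125] :=
  C.conv (f1453 C) (f1291 C) (f1291 C) _ [132, 153, 168, 175, 178] _ (by decide +kernel) (by decide +kernel) (by decide +kernel)

theorem f3754 : C.S (v6 C) [18, 45, 63, 87, 90, 110, 113] :=
  C.stMul (f1270 C) (f1266 C) _ (by decide +kernel)

theorem f3755 : C.S (v6 C) [18, 46, 49, 78, 102, 109, 112] :=
  C.stMul (f1307 C) (f3754 C) _ (by decide +kernel)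

theorem f3756 : C.T (v6 C) [23, 41, 49, 87, 107, 109, 121] (v16 C) [22, 36, 58, 78, 99, 110, 119] :=
  C.conv (f3677 C) (f3709 C) (f3755 C) _ [141, 152, 169, 175, 178] _ (by decide +kernel) (by decide +kernel) (by decide +kernel)

theorem f3757 : C.S (v6 C) [24, 35, 72, 96, 109, 113] :=
  C.stMul (f1270 C) (f1291 C) _ (by decide +kernel)

theorem f3758 : C.T (v6 C) [14, 38, 69, 70, 98, 122] (v16 C) [12, 38, 62, 89, 123] :=
  C.conv (f3677 C) (f3709 C) (f3757 C) _ [136, 149, 165, 173, 177] _ (by decide +kernel) (by decide +kernel) (by decide +kernel)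

theorem f3759 : C.T (v16 C) [12, 38, 62, 89, 123] (v6 C) [14, 38, 69, 70, 98, 122] :=
  C.flip (f3758 C)

theorem f3760 : C.T (v16 C) [19, 31, 59, 86, 109] (v16 C) [5, 36, 52, 78, 106, 110] :=
  C.closeT (p := (v6 C)) (pu := [5, 32, 63, 77, 108, 109, 115])
    (C.pT (f3753 C)
    (C.pH [8, 30, 65, 84, 94, 117] [23, 41, 49, 87, 107, 109, 121] (by decide +kernel)
    (C.pT (f3756 C)
    (C.pH [26, 38, 54, 89, 90, 113] [19, 31, 59, 86, 109] (by decide +kernel) (C.pNil _ _)))))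
    (C.pH [8, 30, 65, 84, 94, 117] [12, 38, 62, 89, 123] (by decide +kernel)
    (C.pT (f3759 C)
    (C.pH [26, 38, 54, 89, 90, 113] [5, 32, 63, 77, 108, 109, 115] (by decide +kernel) (C.pNil _ _))))
    (C.loop_of_one (relLoop1 C) _ _)

theorem f3763 : C.T (v6 C) [12, 45, 82, 107, 113] (v8 C) [6, 40, 50, 81, 99, 114] :=
  C.conv (f1563 C) (f1369 C) (f1369 C) _ [141, 155, 167, 172, 178] _ (by decide +kernel) (by decide +kernel) (by decide +kernel)

theorem f3764 : C.S (v6 C) [24, 27, 64, 104, 118] :=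
  C.stMul (f1358 C) (f1307 C) _ (by decide +kernel)

theorem f3765 : C.S (v6 C) [9, 36, 53, 71, 100, 118] :=
  C.stMul (f1307 C) (f3764 C) _ (by decide +kernel)

theorem f3766 : C.T (v6 C) [24, 42, 56, 71, 102, 121] (v10 C) [5, 29, 65, 82, 98, 109, 122] :=
  C.conv (f1989 C) (f3668 C) (f3765 C) _ [128, 158, 168, 172, 178] _ (by decide +kernel) (by decide +kernel) (by decide +kernel)

theorem f3767 : C.T (v10 C) [5, 29, 65, 82, 98, 109, 122] (v6 C) [24, 42, 56, 71, 102, 121] :=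
  C.flip (f3766 C)

theorem f3768 : C.S (v10 C) [22, 34, 56, 72, 106, 110, 125] :=
  C.stMul (f1704 C) (f1699 C) _ (by decide +kernel)

theorem f3769 : C.S (v10 C) [7, 27, 65, 87, 98, 109, 111] :=
  C.stMul (f1714 C) (f3768 C) _ (by decide +kernel)

theorem f3770 : C.S (v10 C) [12, 36, 63, 82, 101, 109, 123] :=
  C.stMul (f1714 C) (f1699 C) _ (by decide +kernel)

theorem f3771 : C.S (v10 C) [20, 47, 60, 84] :=
  C.stMul (f1704 C) (f3770 C) _ (by decide +kernel)

theorem f3772 : C.T (v10 C) [14, 31, 59, 93, 109, 121] (v16 C) [12, 29, 49, 82, 95, 115] :=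
  C.conv (f3651 C) (f3769 C) (f3771 C) _ [150, 168, 174, 178] _ (by decide +kernel) (by decide +kernel) (by decide +kernel)

theorem f3773 : C.T (v16 C) [12, 29, 49, 82, 95, 115] (v10 C) [14, 31, 59, 93, 109, 121] :=
  C.flip (f3772 C)

theorem f3774 : C.T (v8 C) [13, 43, 68, 82, 90, 110] (v16 C) [24, 34, 52, 82, 95, 125] :=
  C.closeT (p := (v6 C)) (pu := [12, 45, 82, 107, 113])
    (C.pT (f3763 C)
    (C.pH [8, 30, 65, 84, 94, 117] [13, 43, 68, 82, 90, 110] (by decide +kernel) (C.pNil _ _)))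
    (C.pH [26, 38, 54, 89, 90, 113] [12, 29, 49, 82, 95, 115] (by decide +kernel)
    (C.pT (f3773 C)
    (C.pH [8, 30, 65, 84, 94, 117] [5, 29, 65, 82, 98, 109, 122] (by decide +kernel)
    (C.pT (f3767 C)
    (C.pH [26, 38, 54, 89, 90, 113] [12, 45, 82, 107, 113] (by decide +kernel) (C.pNil _ _))))))
    (C.loop_of_one (relLoop1 C) _ _)

theorem f3775 : C.T (v16 C) [24, 34, 52, 82, 95, 125] (v8 C) [13, 43, 68, 82, 90, 110] :=
  C.flip (f3774 C)

theorem f3776 : C.T (v6 C) [22, 47, 65, 85, 103, 116] (v10 C) [16, 38, 50, 88, 122] :=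
  C.conv (f1721 C) (f1725 C) (f1725 C) _ [137, 150, 164, 176] _ (by decide +kernel) (by decide +kernel) (by decide +kernel)

theorem f3777 : C.S (v10 C) [12, 36, 63, 82, 101, 109, 123] :=
  C.stMul (f1714 C) (f1699 C) _ (by decide +kernel)

theorem f3778 : C.T (v10 C) [20, 34, 50, 71, 99, 110, 123] (v10 C) [5, 32, 52, 80, 96, 109, 123] :=
  C.conv (f1933 C) (f1935 C) (f3777 C) _ [143, 155, 169, 176] _ (by decide +kernel) (by decide +kernel) (by decide +kernel)

theorem f3779 : C.S (v6 C) [17, 34, 49, 70, 93, 110, 117] :=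
  C.stMul (f1358 C) (f1291 C) _ (by decide +kernel)

theorem f3780 : C.T (v6 C) [9, 30, 51, 74, 95, 124] (v16 C) [18, 27, 69, 81, 99, 112] :=
  C.conv (f3677 C) (f3709 C) (f3779 C) _ [148, 160, 174] _ (by decide +kernel) (by decide +kernel) (by decide +kernel)

theorem f3781 : C.T (v16 C) [18, 27, 69, 81, 99, 112] (v6 C) [9, 30, 51, 74, 95, 124] :=
  C.flip (f3780 C)

theorem f3782 : C.T (v10 C) [8, 39, 62, 75, 103, 109, 125] (v16 C) [9, 32, 59, 81, 99, 114] :=
  C.closeT (p := (v6 C)) (pu := [22, 47, 65, 85, 103, 116])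
    (C.pT (f3776 C)
    (C.pH [8, 30, 65, 84, 94, 117] [20, 34, 50, 71, 99, 110, 123] (by decide +kernel)
    (C.pT (f3778 C)
    (C.pH [26, 38, 54, 89, 90, 113] [8, 39, 62, 75, 103, 109, 125] (by decide +kernel) (C.pNil _ _)))))
    (C.pH [8, 30, 65, 84, 94, 117] [18, 27, 69, 81, 99, 112] (by decide +kernel)
    (C.pT (f3781 C)
    (C.pH [26, 38, 54, 89, 90, 113] [22, 47, 65, 85, 103, 116] (by decide +kernel) (C.pNil _ _))))
    (C.loop_of_one (relLoop1 C) _ _)

theorem f3783 : C.T (v16 C) [9, 32, 59, 81, 99, 114] (v10 C) [8, 39, 62, 75, 103, 109, 125] :=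
  C.flip (f3782 C)

theorem f3784 : C.T (v6 C) [20, 38, 64, 80, 101, 109, 116] (v10 C) [9, 36, 62, 74, 104, 110, 122] :=
  C.conv (f1989 C) (f3668 C) (f3668 C) _ [137, 156, 168, 176, 178] _ (by decide +kernel) (by decide +kernel) (by decide +kernel)

theorem f3785 : C.S (v10 C) [18, 35, 52, 77, 102, 109, 115] :=
  C.stMul (f1714 C) (f1704 C) _ (by decide +kernel)

theorem f3786 : C.S (v10 C) [22, 40, 53, 75, 107, 125] :=
  C.stMul (f1709 C) (f3785 C) _ (by decide +kernel)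

theorem f3787 : C.T (v10 C) [18, 30, 63, 77, 104, 109, 122] (v10 C) [11, 43, 63, 86, 108, 123] :=
  C.conv (f1872 C) (f1875 C) (f3786 C) _ [128, 158, 173, 177] _ (by decide +kernel) (by decide +kernel) (by decide +kernel)

theorem f3788 : C.S (v6 C) [23, 43, 50, 75, 100, 110, 114] :=
  C.stMul (f1358 C) (f1266 C) _ (by decide +kernel)

theorem f3789 : C.S (v6 C) [7, 62, 72, 101] :=
  C.stMul (f1270 C) (f3788 C) _ (by decide +kernel)

theorem f3790 : C.T (v6 C) [17, 46, 57, 70, 98, 109, 121] (v16 C) [26, 37, 54, 81, 101, 117] :=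
  C.conv (f3677 C) (f3709 C) (f3789 C) _ [128, 163, 168, 174, 177] _ (by decide +kernel) (by decide +kernel) (by decide +kernel)

theorem f3791 : C.T (v16 C) [26, 37, 54, 81, 101, 117] (v6 C) [17, 46, 57, 70, 98, 109, 121] :=
  C.flip (f3790 C)

theorem f3792 : C.T (v10 C) [24, 43, 66, 70, 97, 117] (v16 C) [19, 32, 59, 89, 112] :=
  C.closeT (p := (v6 C)) (pu := [20, 38, 64, 80, 101, 109, 116])
    (C.pT (f3784 C)
    (C.pH [8, 30, 65, 84, 94, 117] [18, 30, 63, 77, 104, 109, 122] (by decide +kernel)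
    (C.pT (f3787 C)
    (C.pH [26, 38, 54, 89, 90, 113] [24, 43, 66, 70, 97, 117] (by decide +kernel) (C.pNil _ _)))))
    (C.pH [8, 30, 65, 84, 94, 117] [26, 37, 54, 81, 101, 117] (by decide +kernel)
    (C.pT (f3791 C)
    (C.pH [26, 38, 54, 89, 90, 113] [20, 38, 64, 80, 101, 109, 116] (by decide +kernel) (C.pNil _ _))))
    (C.loop_of_one (relLoop1 C) _ _)

theorem f3793 : C.T (v16 C) [19, 32, 59, 89, 112] (v10 C) [24, 43, 66, 70, 97, 117] :=
  C.flip (f3792 C)

theorem f3794 : C.T (v6 C) [13, 28, 67, 82, 93, 110, 125] (v16 C) [12, 37, 68, 94, 110, 119] :=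
  C.conv (f3631 C) (f3654 C) (f3654 C) _ [143, 158, 165, 174, 178] _ (by decide +kernel) (by decide +kernel) (by decide +kernel)

theorem f3795 : C.S (v6 C) [18, 67, 76, 100, 118] :=
  C.stMul (f1353 C) (f1291 C) _ (by decide +kernel)

theorem f3796 : C.T (v6 C) [16, 33, 55, 92, 122] (v10 C) [5, 34, 52, 77, 98, 109, 121] :=
  C.conv (f1950 C) (f1985 C) (f3795 C) _ [148, 163, 171] _ (by decide +kernel) (by decide +kernel) (by decide +kernel)

theorem f3797 : C.T (v10 C) [5, 34, 52, 77, 98, 109, 121] (v6 C) [16, 33, 55, 92, 122] :=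
  C.flip (f3796 C)

theorem f3798 : C.S (v10 C) [12, 36, 63, 82, 101, 109, 123] :=
  C.stMul (f1714 C) (f1699 C) _ (by decide +kernel)

theorem f3799 : C.S (v10 C) [11, 44, 66, 74, 91, 109, 124] :=
  C.stMul (f1709 C) (f3798 C) _ (by decide +kernel)

theorem f3800 : C.S (v10 C) [18, 48, 57, 98, 110, 125] :=
  C.stMul (f1704 C) (f1709 C) _ (by decide +kernel)

theorem f3801 : C.T (v10 C) [14, 46, 65, 70, 101, 109, 120] (v16 C) [25, 38, 64, 80, 96, 110, 125] :=
  C.conv (f3665 C) (f3799 C) (f3800 C) _ [136, 158, 165, 172] _ (by decide +kernel) (by decide +kernel) (by decide +kernel)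

theorem f3802 : C.T (v16 C) [25, 38, 64, 80, 96, 110, 125] (v10 C) [14, 46, 65, 70, 101, 109, 120] :=
  C.flip (f3801 C)

theorem f3803 : C.T (v16 C) [21, 55, 89, 103, 110, 117] (v16 C) [4, 34, 68, 82, 102, 111] :=
  C.closeT (p := (v6 C)) (pu := [13, 28, 67, 82, 93, 110, 125])
    (C.pT (f3794 C)
    (C.pH [8, 30, 65, 84, 94, 117] [21, 55, 89, 103, 110, 117] (by decide +kernel) (C.pNil _ _)))
    (C.pH [26, 38, 54, 89, 90, 113] [25, 38, 64, 80, 96, 110, 125] (by decide +kernel)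
    (C.pT (f3802 C)
    (C.pH [8, 30, 65, 84, 94, 117] [5, 34, 52, 77, 98, 109, 121] (by decide +kernel)
    (C.pT (f3797 C)
    (C.pH [26, 38, 54, 89, 90, 113] [13, 28, 67, 82, 93, 110, 125] (by decide +kernel) (C.pNil _ _))))))
    (C.loop_of_one (relLoop1 C) _ _)

theorem f3807 : C.T (v6 C) [23, 40, 66, 83, 90, 109, 124] (v16 C) [17, 36, 62, 98, 109, 120] :=
  C.conv (f3677 C) (f3709 C) (f3709 C) _ [143, 152, 166, 176] _ (by decide +kernel) (by decide +kernel) (by decide +kernel)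

theorem f3808 : C.S (v6 C) [22, 38, 64, 77, 91, 115] :=
  C.stMul (f1270 C) (f1270 C) _ (by decide +kernel)

theorem f3809 : C.S (v6 C) [24, 35, 79, 106, 110, 116] :=
  C.stMul (f1358 C) (f3808 C) _ (by decide +kernel)

theorem f3810 : C.T (v6 C) [13, 48, 65, 73, 108, 110, 113] (v10 C) [22, 39, 55, 70, 101, 119] :=
  C.conv (f1989 C) (f3668 C) (f3809 C) _ [138, 166, 178] _ (by decide +kernel) (by decide +kernel) (by decide +kernel)

theorem f3811 : C.T (v10 C) [22, 39, 55, 70, 101, 119] (v6 C) [13, 48, 65, 73, 108, 110, 113] :=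
  C.flip (f3810 C)

theorem f3812 : C.S (v10 C) [22, 34, 56, 72, 106, 110, 125] :=
  C.stMul (f1704 C) (f1699 C) _ (by decide +kernel)

theorem f3813 : C.S (v10 C) [18, 29, 60, 70, 98, 110, 119] :=
  C.stMul (f1709 C) (f3812 C) _ (by decide +kernel)

theorem f3814 : C.S (v10 C) [7, 45, 79, 102, 109, 120] :=
  C.stMul (f1704 C) (f3813 C) _ (by decide +kernel)

theorem f3815 : C.T (v10 C) [17, 44, 68, 91, 110, 114] (v10 C) [23, 37, 56, 74, 102, 110, 113] :=
  C.conv (f1884 C) (f1887 C) (f3814 C) _ [133, 154, 165, 175, 177] _ (by decide +kernel) (by decide +kernel) (by decide +kernel)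

theorem f3816 : C.T (v10 C) [23, 37, 56, 74, 102, 110, 113] (v10 C) [17, 44, 68, 91, 110, 114] :=
  C.flip (f3815 C)

theorem f3817 : C.T (v16 C) [22, 41, 54, 83, 106, 109, 120] (v10 C) [13, 35, 63, 74, 106, 116] :=
  C.closeT (p := (v6 C)) (pu := [23, 40, 66, 83, 90, 109, 124])
    (C.pT (f3807 C)
    (C.pH [8, 30, 65, 84, 94, 117] [22, 41, 54, 83, 106, 109, 120] (by decide +kernel) (C.pNil _ _)))
    (C.pH [26, 38, 54, 89, 90, 113] [23, 37, 56, 74, 102, 110, 113] (by decide +kernel)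
    (C.pT (f3816 C)
    (C.pH [8, 30, 65, 84, 94, 117] [22, 39, 55, 70, 101, 119] (by decide +kernel)
    (C.pT (f3811 C)
    (C.pH [26, 38, 54, 89, 90, 113] [23, 40, 66, 83, 90, 109, 124] (by decide +kernel) (C.pNil _ _))))))
    (C.loop_of_one (relLoop1 C) _ _)

theorem f3818 : C.T (v10 C) [13, 35, 63, 74, 106, 116] (v16 C) [22, 41, 54, 83, 106, 109, 120] :=
  C.flip (f3817 C)

theorem f3819 : C.T (v6 C) [24, 39, 51, 86, 97, 109, 115] (v6 C) [25, 41, 54, 85, 106, 111] :=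
  C.conv (f1333 C) (f1361 C) (f1361 C) _ [144, 154, 166, 173, 178] _ (by decide +kernel) (by decide +kernel) (by decide +kernel)

theorem f3820 : C.S (v6 C) [6, 36, 61, 74, 96, 122] :=
  C.stMul (f1307 C) (f1358 C) _ (by decide +kernel)

theorem f3821 : C.S (v6 C) [24, 37, 64, 86, 102, 109, 117] :=
  C.stMul (f1353 C) (f3820 C) _ (by decide +kernel)

theorem f3822 : C.T (v6 C) [18, 45, 53, 70, 96, 110, 115] (v16 C) [7, 32, 53, 83, 101, 109, 124] :=
  C.conv (f3631 C) (f3654 C) (f3821 C) _ [135, 155, 168, 174, 177] _ (by decide +kernel) (by decide +kernel) (by decide +kernel)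

theorem f3823 : C.S (v6 C) [23, 30, 68, 70, 100, 109, 111] :=
  C.stMul (f1307 C) (f1307 C) _ (by decide +kernel)

theorem f3824 : C.S (v6 C) [7, 48, 56, 86, 93, 110, 116] :=
  C.stMul (f1270 C) (f3823 C) _ (by decide +kernel)

theorem f3825 : C.T (v6 C) [21, 46, 53, 81, 107, 114] (v16 C) [13, 33, 58, 74, 98, 118] :=
  C.conv (f3631 C) (f3654 C) (f3824 C) _ [133, 151, 167, 176, 178] _ (by decide +kernel) (by decide +kernel) (by decide +kernel)

theorem f3826 : C.T (v16 C) [13, 33, 58, 74, 98, 118] (v6 C) [21, 46, 53, 81, 107, 114] :=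
  C.flip (f3825 C)

theorem f3827 : C.T (v16 C) [17, 31, 58, 74, 97, 109, 120] (v16 C) [16, 46, 64, 86, 106, 109, 115] :=
  C.closeT (p := (v6 C)) (pu := [24, 39, 51, 86, 97, 109, 115])
    (C.pT (f3819 C)
    (C.pH [26, 38, 54, 89, 90, 113] [18, 45, 53, 70, 96, 110, 115] (by decide +kernel)
    (C.pT (f3822 C)
    (C.pH [8, 30, 65, 84, 94, 117] [17, 31, 58, 74, 97, 109, 120] (by decide +kernel) (C.pNil _ _)))))
    (C.pH [26, 38, 54, 89, 90, 113] [13, 33, 58, 74, 98, 118] (by decide +kernel)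
    (C.pT (f3826 C)
    (C.pH [8, 30, 65, 84, 94, 117] [24, 39, 51, 86, 97, 109, 115] (by decide +kernel) (C.pNil _ _))))
    (C.loop_of_one (relLoop2 C) _ _)

theorem f3830 : C.T (v6 C) [15, 44, 52, 83, 102, 110, 115] (v6 C) [5, 57, 86, 96, 116] :=
  C.conv (f1408 C) (f1410 C) (f1410 C) _ [137, 153, 169, 176, 178] _ (by decide +kernel) (by decide +kernel) (by decide +kernel)

theorem f3831 : C.T (v6 C) [8, 30, 54, 76, 94, 110, 117] (v16 C) [23, 33, 57, 77, 101, 115] :=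
  C.conv (f3631 C) (f3654 C) (f1353 C) _ [146, 159, 167, 175, 177] _ (by decide +kernel) (by decide +kernel) (by decide +kernel)

theorem f3832 : C.S (v6 C) [7, 45, 62, 89, 101, 114] :=
  C.stMul (f1270 C) (f1353 C) _ (by decide +kernel)

theorem f3833 : C.S (v6 C) [20, 42, 57, 70, 94, 110, 111] :=
  C.stMul (f1307 C) (f3832 C) _ (by decide +kernel)

theorem f3834 : C.T (v6 C) [10, 45, 60, 70, 98, 111] (v16 C) [22, 42, 92, 118] :=
  C.conv (f3631 C) (f3654 C) (f3833 C) _ [135, 157, 167, 172, 178] _ (by decide +kernel) (by decide +kernel) (by decide +kernel)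

theorem f3835 : C.T (v16 C) [22, 42, 92, 118] (v6 C) [10, 45, 60, 70, 98, 111] :=
  C.flip (f3834 C)

theorem f3836 : C.T (v16 C) [10, 32, 64, 80, 99, 110, 117] (v16 C) [9, 53, 83, 95, 110, 121] :=
  C.closeT (p := (v6 C)) (pu := [15, 44, 52, 83, 102, 110, 115])
    (C.pT (f3830 C)
    (C.pH [26, 38, 54, 89, 90, 113] [8, 30, 54, 76, 94, 110, 117] (by decide +kernel)
    (C.pT (f3831 C)
    (C.pH [8, 30, 65, 84, 94, 117] [10, 32, 64, 80, 99, 110, 117] (by decide +kernel) (C.pNil _ _)))))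
    (C.pH [26, 38, 54, 89, 90, 113] [22, 42, 92, 118] (by decide +kernel)
    (C.pT (f3835 C)
    (C.pH [8, 30, 65, 84, 94, 117] [15, 44, 52, 83, 102, 110, 115] (by decide +kernel) (C.pNil _ _))))
    (C.loop_of_one (relLoop2 C) _ _)

theorem f3839 : C.T (v6 C) [22, 38, 75, 106, 110, 125] (v6 C) [23, 39, 49, 82, 100, 110, 124] :=
  C.conv (f1416 C) (f1418 C) (f1418 C) _ [159, 166, 174, 178] _ (by decide +kernel) (by decide +kernel) (by decide +kernel)

theorem f3840 : C.S (v6 C) [24, 27, 64, 104, 118] :=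
  C.stMul (f1358 C) (f1307 C) _ (by decide +kernel)

theorem f3841 : C.T (v6 C) [7, 34, 55, 79, 95, 110, 113] (v16 C) [16, 45, 62, 72, 105, 114] :=
  C.conv (f3677 C) (f3709 C) (f3840 C) _ [129, 150, 168, 173] _ (by decide +kernel) (by decide +kernel) (by decide +kernel)

theorem f3842 : C.S (v6 C) [23, 30, 68, 80, 108, 109, 122] :=
  C.stMul (f1291 C) (f3709 C) _ (by decide +kernel)

theorem f3843 : C.T (v6 C) [17, 28, 55, 70, 99, 109, 111] (v16 C) [18, 37, 65, 96, 113] :=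
  C.conv (f3677 C) (f3709 C) (f3842 C) _ [136, 157, 170, 174] _ (by decide +kernel) (by decide +kernel) (by decide +kernel)

theorem f3844 : C.T (v16 C) [18, 37, 65, 96, 113] (v6 C) [17, 28, 55, 70, 99, 109, 111] :=
  C.flip (f3843 C)

theorem f3845 : C.T (v16 C) [20, 27, 52, 73, 114] (v16 C) [25, 30, 62, 77, 95, 109, 120] :=
  C.closeT (p := (v6 C)) (pu := [22, 38, 75, 106, 110, 125])
    (C.pT (f3839 C)
    (C.pH [26, 38, 54, 89, 90, 113] [7, 34, 55, 79, 95, 110, 113] (by decide +kernel)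
    (C.pT (f3841 C)
    (C.pH [8, 30, 65, 84, 94, 117] [20, 27, 52, 73, 114] (by decide +kernel) (C.pNil _ _)))))
    (C.pH [26, 38, 54, 89, 90, 113] [18, 37, 65, 96, 113] (by decide +kernel)
    (C.pT (f3844 C)
    (C.pH [8, 30, 65, 84, 94, 117] [22, 38, 75, 106, 110, 125] (by decide +kernel) (C.pNil _ _))))
    (C.loop_of_one (relLoop2 C) _ _)

theorem f3851 : C.T (v6 C) [44, 64, 86, 102, 110, 125] (v10 C) [15, 31, 72, 93, 125] :=
  C.conv (f1989 C) (f3668 C) (f3668 C) _ [128, 151, 170, 177] _ (by decide +kernel) (by decide +kernel) (by decide +kernel)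

theorem f3852 : C.S (v10 C) [18, 48, 57, 98, 110, 125] :=
  C.stMul (f1704 C) (f1709 C) _ (by decide +kernel)

theorem f3853 : C.S (v10 C) [20, 33, 80, 97, 116] :=
  C.stMul (f1709 C) (f1704 C) _ (by decide +kernel)

theorem f3854 : C.T (v10 C) [9, 32, 51, 84, 108, 109] (v16 C) [17, 46, 60, 85, 101, 109] :=
  C.conv (f3487 C) (f3852 C) (f3853 C) _ [130, 154, 169, 173, 178] _ (by decide +kernel) (by decide +kernel) (by decide +kernel)

theorem f3855 : C.S (v6 C) [15, 29, 50, 70, 96, 121] :=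
  C.stMul (f1266 C) (f3661 C) _ (by decide +kernel)

theorem f3856 : C.T (v6 C) [8, 29, 53, 84, 90, 109, 113] (v16 C) [18, 28, 60, 83, 96, 109, 125] :=
  C.conv (f3631 C) (f3654 C) (f3855 C) _ [128, 161, 169, 175, 178] _ (by decide +kernel) (by decide +kernel) (by decide +kernel)

theorem f3857 : C.T (v16 C) [18, 28, 60, 83, 96, 109, 125] (v6 C) [8, 29, 53, 84, 90, 109, 113] :=
  C.flip (f3856 C)

theorem f3858 : C.T (v16 C) [22, 46, 62, 73, 90, 110, 115] (v16 C) [25, 29, 57, 71, 92, 124] :=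
  C.closeT (p := (v6 C)) (pu := [44, 64, 86, 102, 110, 125])
    (C.pT (f3851 C)
    (C.pH [26, 38, 54, 89, 90, 113] [9, 32, 51, 84, 108, 109] (by decide +kernel)
    (C.pT (f3854 C)
    (C.pH [8, 30, 65, 84, 94, 117] [22, 46, 62, 73, 90, 110, 115] (by decide +kernel) (C.pNil _ _)))))
    (C.pH [26, 38, 54, 89, 90, 113] [18, 28, 60, 83, 96, 109, 125] (by decide +kernel)
    (C.pT (f3857 C)
    (C.pH [8, 30, 65, 84, 94, 117] [44, 64, 86, 102, 110, 125] (by decide +kernel) (C.pNil _ _))))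
    (C.loop_of_one (relLoop2 C) _ _)

theorem f3859 : C.T (v16 C) [25, 29, 57, 71, 92, 124] (v16 C) [22, 46, 62, 73, 90, 110, 115] :=
  C.flip (f3858 C)

theorem f3860 : C.T (v6 C) [13, 32, 66, 82, 109, 116] (v16 C) [16, 48, 56, 87, 97, 110, 113] :=
  C.conv (f3631 C) (f3654 C) (f3654 C) _ [131, 151, 171] _ (by decide +kernel) (by decide +kernel) (by decide +kernel)

theorem f3861 : C.S (v6 C) [25, 30, 50, 77, 107, 109, 112] :=
  C.stMul (f1291 C) (f1270 C) _ (by decide +kernel)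

theorem f3862 : C.S (v6 C) [19, 43, 50, 83, 104, 109, 117] :=
  C.stMul (f1270 C) (f3861 C) _ (by decide +kernel)

theorem f3863 : C.S (v6 C) [6, 39, 64, 83, 104, 109, 123] :=
  C.stMul (f1270 C) (f3862 C) _ (by decide +kernel)

theorem f3864 : C.T (v6 C) [6, 33, 60, 100, 122] (v10 C) [10, 42, 57, 75, 104, 110, 115] :=
  C.conv (f1989 C) (f3668 C) (f3863 C) _ [145, 163, 169, 172, 178] _ (by decide +kernel) (by decide +kernel) (by decide +kernel)

theorem f3865 : C.T (v10 C) [10, 42, 57, 75, 104, 110, 115] (v6 C) [6, 33, 60, 100, 122] :=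
  C.flip (f3864 C)

theorem f3866 : C.T (v10 C) [18, 30, 59, 80, 91, 120] (v16 C) [41, 77, 104, 110, 125] :=
  C.conv (f3665 C) (f3799 C) (f1699 C) _ [148, 151, 164, 172, 178] _ (by decide +kernel) (by decide +kernel) (by decide +kernel)

theorem f3867 : C.T (v16 C) [41, 77, 104, 110, 125] (v10 C) [18, 30, 59, 80, 91, 120] :=
  C.flip (f3866 C)

theorem f3868 : C.T (v16 C) [13, 29, 63, 78, 98, 110, 121] (v16 C) [8, 33, 65, 72, 99, 109, 124] :=
  C.closeT (p := (v6 C)) (pu := [13, 32, 66, 82, 109, 116])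
    (C.pT (f3860 C)
    (C.pH [26, 38, 54, 89, 90, 113] [13, 29, 63, 78, 98, 110, 121] (by decide +kernel) (C.pNil _ _)))
    (C.pH [8, 30, 65, 84, 94, 117] [41, 77, 104, 110, 125] (by decide +kernel)
    (C.pT (f3867 C)
    (C.pH [26, 38, 54, 89, 90, 113] [10, 42, 57, 75, 104, 110, 115] (by decide +kernel)
    (C.pT (f3865 C)
    (C.pH [8, 30, 65, 84, 94, 117] [13, 32, 66, 82, 109, 116] (by decide +kernel) (C.pNil _ _))))))
    (C.loop_of_one (relLoop2 C) _ _)

theorem f3870 : C.S (v16 C) [28, 55, 71, 105, 109, 119] :=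
  C.stMul (f3458 C) (f3451 C) _ (by decide +kernel)

theorem f3871 : C.S (v16 C) [7, 39, 67, 74, 92, 110] :=
  C.stMul (f3480 C) (f3870 C) _ (by decide +kernel)

theorem f3873 : C.T (v8 C) [22, 30, 71, 101, 110, 121] (v9 C) [6, 36, 62, 84, 99, 110, 123] :=
  C.conv (f2109 C) (f1541 C) (f1541 C) _ [136, 160, 167, 175, 178] _ (by decide +kernel) (by decide +kernel) (by decide +kernel)

theorem f3874 : C.S (v8 C) [31, 56, 86, 90, 110, 124] :=
  C.stMul (f1552 C) (f1529 C) _ (by decide +kernel)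

theorem f3875 : C.S (v8 C) [20, 47, 59, 84, 103, 110, 120] :=
  C.stMul (f1546 C) (f3874 C) _ (by decide +kernel)

theorem f3876 : C.S (v8 C) [20, 43, 68, 82, 101, 115] :=
  C.stMul (f1529 C) (f3875 C) _ (by decide +kernel)

theorem f3877 : C.S (v8 C) [32, 60, 82, 105, 120] :=
  C.stMul (f1579 C) (f3874 C) _ (by decide +kernel)

theorem f3878 : C.S (v8 C) [28, 55, 99, 110, 118] :=
  C.stMul (f1529 C) (f3877 C) _ (by decide +kernel)

theorem f3879 : C.T (v8 C) [20, 66, 89, 96, 111] (v16 C) [20, 31, 53, 83, 106, 121] :=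
  C.conv (f3774 C) (f3876 C) (f3878 C) _ [131, 159, 172, 178] _ (by decide +kernel) (by decide +kernel) (by decide +kernel)

theorem f3880 : C.T (v16 C) [20, 31, 53, 83, 106, 121] (v8 C) [20, 66, 89, 96, 111] :=
  C.flip (f3879 C)

theorem f3881 : C.T (v9 C) [19, 29, 60, 84, 95, 118] (v16 C) [11, 47, 67, 80, 103, 109, 119] :=
  C.closeT (p := (v8 C)) (pu := [22, 30, 71, 101, 110, 121])
    (C.pT (f3873 C)
    (C.pH [12, 35, 50, 83] [19, 29, 60, 84, 95, 118] (by decide +kernel) (C.pNil _ _)))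
    (C.pH [12, 35, 50, 83] [20, 31, 53, 83, 106, 121] (by decide +kernel)
    (C.pT (f3880 C)
    (C.pH [12, 35, 50, 83] [22, 30, 71, 101, 110, 121] (by decide +kernel) (C.pNil _ _))))
    (C.loop_of_one (relLoop0 C) _ _)

theorem f3882 : C.T (v16 C) [11, 47, 67, 80, 103, 109, 119] (v9 C) [19, 29, 60, 84, 95, 118] :=
  C.flip (f3881 C)

theorem f3883 : C.T (v8 C) [12, 35, 49, 73, 101, 110, 124] (v16 C) [23, 36, 66, 106, 110, 116] :=
  C.conv (f3774 C) (f3876 C) (f3876 C) _ [148, 155, 178] _ (by decide +kernel) (by decide +kernel) (by decide +kernel)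

theorem f3884 : C.S (v8 C) [23, 47, 59, 85, 108, 109, 124] :=
  C.stMul (f1537 C) (f1532 C) _ (by decide +kernel)

theorem f3885 : C.S (v8 C) [20, 46, 68, 75, 96, 110, 112] :=
  C.stMul (f1552 C) (f3884 C) _ (by decide +kernel)

theorem f3886 : C.S (v8 C) [39, 62, 72, 95, 120] :=
  C.stMul (f1546 C) (f3885 C) _ (by decide +kernel)

theorem f3887 : C.T (v8 C) [54, 77, 104, 109, 112] (v16 C) [44, 66, 88, 94, 109, 125] :=
  C.conv (f3774 C) (f3876 C) (f3886 C) _ [148, 155, 168, 173, 178] _ (by decide +kernel) (by decide +kernel) (by decide +kernel)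

theorem f3888 : C.T (v16 C) [44, 66, 88, 94, 109, 125] (v8 C) [54, 77, 104, 109, 112] :=
  C.flip (f3887 C)

theorem f3889 : C.T (v16 C) [42, 62, 81, 98, 114] (v16 C) [23, 44, 59, 88, 91, 122] :=
  C.closeT (p := (v8 C)) (pu := [12, 35, 49, 73, 101, 110, 124])
    (C.pT (f3883 C)
    (C.pH [12, 35, 50, 83] [42, 62, 81, 98, 114] (by decide +kernel) (C.pNil _ _)))
    (C.pH [12, 35, 50, 83] [44, 66, 88, 94, 109, 125] (by decide +kernel)
    (C.pT (f3888 C)
    (C.pH [12, 35, 50, 83] [12, 35, 49, 73, 101, 110, 124] (by decide +kernel) (C.pNil _ _))))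
    (C.loop_of_one (relLoop0 C) _ _)

theorem f3892 : C.T (v8 C) [26, 28, 64, 81, 104, 110, 122] (v16 C) [8, 29, 62, 78, 94, 116] :=
  C.conv (f3774 C) (f3876 C) (f3876 C) _ [140, 153, 168, 178] _ (by decide +kernel) (by decide +kernel) (by decide +kernel)

theorem f3893 : C.S (v8 C) [27, 69, 82, 90, 120] :=
  C.stMul (f1546 C) (f1526 C) _ (by decide +kernel)

theorem f3894 : C.S (v8 C) [38, 60, 71] :=
  C.stMul (f1541 C) (f3893 C) _ (by decide +kernel)

theorem f3895 : C.S (v8 C) [38, 72, 104, 122] :=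
  C.stMul (f1552 C) (f3894 C) _ (by decide +kernel)

theorem f3896 : C.S (v8 C) [41, 55, 85, 91, 124] :=
  C.stMul (f1579 C) (f3895 C) _ (by decide +kernel)

theorem f3897 : C.T (v8 C) [13, 41, 54, 76, 90, 109, 116] (v16 C) [13, 47, 68, 88, 106, 113] :=
  C.conv (f3774 C) (f3876 C) (f3896 C) _ [144, 149, 168, 176, 177] _ (by decide +kernel) (by decide +kernel) (by decide +kernel)

theorem f3898 : C.T (v16 C) [13, 47, 68, 88, 106, 113] (v8 C) [13, 41, 54, 76, 90, 109, 116] :=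
  C.flip (f3897 C)

theorem f3899 : C.T (v16 C) [10, 40, 52, 73, 90, 123] (v16 C) [4, 37, 68, 88, 108] :=
  C.closeT (p := (v8 C)) (pu := [26, 28, 64, 81, 104, 110, 122])
    (C.pT (f3892 C)
    (C.pH [12, 35, 50, 83] [10, 40, 52, 73, 90, 123] (by decide +kernel) (C.pNil _ _)))
    (C.pH [12, 35, 50, 83] [13, 47, 68, 88, 106, 113] (by decide +kernel)
    (C.pT (f3898 C)
    (C.pH [12, 35, 50, 83] [26, 28, 64, 81, 104, 110, 122] (by decide +kernel) (C.pNil _ _))))
    (C.loop_of_one (relLoop0 C) _ _)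

theorem f3904 : C.T (v8 C) [18, 28, 65, 79, 94, 109, 120] (v6 C) [8, 40, 58, 77, 90, 109, 112] :=
  C.conv (f1562 C) (f1832 C) (f1832 C) _ [131, 160, 169, 171, 178] _ (by decide +kernel) (by decide +kernel) (by decide +kernel)

theorem f3905 : C.S (v6 C) [23, 43, 50, 75, 100, 110, 114] :=
  C.stMul (f1358 C) (f1266 C) _ (by decide +kernel)

theorem f3906 : C.S (v6 C) [11, 30, 56, 73, 102, 110, 116] :=
  C.stMul (f1307 C) (f3905 C) _ (by decide +kernel)

theorem f3907 : C.T (v6 C) [32, 54, 84, 96, 111] (v10 C) [17, 41, 52, 78, 94, 117] :=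
  C.conv (f1989 C) (f3668 C) (f3906 C) _ [134, 150, 164, 171] _ (by decide +kernel) (by decide +kernel) (by decide +kernel)

theorem f3908 : C.S (v8 C) [18, 48, 57, 97, 110] :=
  C.stMul (f1552 C) (f1546 C) _ (by decide +kernel)

theorem f3909 : C.S (v8 C) [23, 28, 57, 85, 91, 114] :=
  C.stMul (f1526 C) (f3908 C) _ (by decide +kernel)

theorem f3910 : C.S (v8 C) [23, 46, 70, 105, 122] :=
  C.stMul (f1541 C) (f3909 C) _ (by decide +kernel)

theorem f3911 : C.T (v8 C) [25, 29, 59, 72, 106, 109, 116] (v16 C) [16, 36, 54, 77, 103, 118] :=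
  C.conv (f3774 C) (f3876 C) (f3910 C) _ [129, 155, 167, 176, 177] _ (by decide +kernel) (by decide +kernel) (by decide +kernel)

theorem f3912 : C.T (v16 C) [16, 36, 54, 77, 103, 118] (v8 C) [25, 29, 59, 72, 106, 109, 116] :=
  C.flip (f3911 C)

theorem f3913 : C.T (v10 C) [20, 47, 61, 89, 100, 120] (v16 C) [24, 28, 52, 74, 107, 109, 117] :=
  C.closeT (p := (v8 C)) (pu := [18, 28, 65, 79, 94, 109, 120])
    (C.pT (f3904 C)
    (C.pH [8, 30, 65, 84, 94, 117] [32, 54, 84, 96, 111] (by decide +kernel)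
    (C.pT (f3907 C)
    (C.pH [26, 38, 54, 89, 90, 113] [20, 47, 61, 89, 100, 120] (by decide +kernel) (C.pNil _ _)))))
    (C.pH [8, 30, 65, 84, 94, 117] [16, 36, 54, 77, 103, 118] (by decide +kernel)
    (C.pT (f3912 C)
    (C.pH [26, 38, 54, 89, 90, 113] [18, 28, 65, 79, 94, 109, 120] (by decide +kernel) (C.pNil _ _))))
    (C.loop_of_one (relLoop1 C) _ _)

theorem f3914 : C.T (v16 C) [24, 28, 52, 74, 107, 109, 117] (v10 C) [20, 47, 61, 89, 100, 120] :=
  C.flip (f3913 C)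

theorem f3915 : C.T (v8 C) [8, 34, 81, 91, 110, 125] (v9 C) [13, 31, 60, 77, 91, 110, 120] :=
  C.conv (f1604 C) (f1598 C) (f1598 C) _ [135, 151, 170, 172, 178] _ (by decide +kernel) (by decide +kernel) (by decide +kernel)

theorem f3916 : C.S (v9 C) [10, 69, 81, 100, 113] :=
  C.stMul (f1615 C) (f1610 C) _ (by decide +kernel)

theorem f3917 : C.S (v9 C) [11, 48, 69, 83, 106, 116] :=
  C.stMul (f1620 C) (f3916 C) _ (by decide +kernel)

theorem f3918 : C.S (v9 C) [47, 79, 100, 110, 114] :=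
  C.stMul (f1620 C) (f1615 C) _ (by decide +kernel)

theorem f3919 : C.S (v9 C) [23, 38, 55, 89, 107, 110, 122] :=
  C.stMul (f1624 C) (f3918 C) _ (by decide +kernel)

theorem f3920 : C.S (v9 C) [25, 46, 59, 72, 100, 109, 122] :=
  C.stMul (f1620 C) (f3919 C) _ (by decide +kernel)

theorem f3921 : C.T (v9 C) [11, 28, 77, 106, 110, 114] (v15 C) [22, 30, 61, 85, 107, 109, 123] :=
  C.conv (f3038 C) (f3917 C) (f3920 C) _ [132, 163, 168, 175] _ (by decide +kernel) (by decide +kernel) (by decide +kernel)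

theorem f3922 : C.S (v8 C) [20, 47, 84, 98, 111] :=
  C.stMul (f1546 C) (f1529 C) _ (by decide +kernel)

theorem f3923 : C.S (v8 C) [11, 48, 50, 84, 103, 110, 123] :=
  C.stMul (f1537 C) (f3922 C) _ (by decide +kernel)

theorem f3924 : C.S (v8 C) [12, 46, 57, 85, 91, 114] :=
  C.stMul (f1529 C) (f3923 C) _ (by decide +kernel)

theorem f3925 : C.T (v8 C) [5, 31, 67, 80, 106, 109, 113] (v16 C) [12, 42, 57, 74, 98, 110] :=
  C.conv (f3774 C) (f3876 C) (f3924 C) _ [132, 160, 165, 176] _ (by decide +kernel) (by decide +kernel) (by decide +kernel)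

theorem f3926 : C.T (v16 C) [12, 42, 57, 74, 98, 110] (v8 C) [5, 31, 67, 80, 106, 109, 113] :=
  C.flip (f3925 C)

theorem f3927 : C.T (v15 C) [19, 45, 56, 88, 105, 109, 119] (v16 C) [5, 29, 54, 77, 109, 115] :=
  C.closeT (p := (v8 C)) (pu := [8, 34, 81, 91, 110, 125])
    (C.pT (f3915 C)
    (C.pH [8, 30, 65, 84, 94, 117] [11, 28, 77, 106, 110, 114] (by decide +kernel)
    (C.pT (f3921 C)
    (C.pH [26, 38, 54, 89, 90, 113] [19, 45, 56, 88, 105, 109, 119] (by decide +kernel) (C.pNil _ _)))))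
    (C.pH [8, 30, 65, 84, 94, 117] [12, 42, 57, 74, 98, 110] (by decide +kernel)
    (C.pT (f3926 C)
    (C.pH [26, 38, 54, 89, 90, 113] [8, 34, 81, 91, 110, 125] (by decide +kernel) (C.pNil _ _))))
    (C.loop_of_one (relLoop1 C) _ _)

theorem f3928 : C.T (v16 C) [5, 29, 54, 77, 109, 115] (v15 C) [19, 45, 56, 88, 105, 109, 119] :=
  C.flip (f3927 C)

theorem f3929 : C.T (v8 C) [24, 28, 54, 78, 91, 120] (v9 C) [16, 27, 65, 76, 101, 110, 113] :=
  C.conv (f1604 C) (f1598 C) (f1598 C) _ [138, 161, 167, 171, 177] _ (by decide +kernel) (by decide +kernel) (by decide +kernel)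

theorem f3930 : C.S (v9 C) [10, 28, 53, 80, 101, 110, 112] :=
  C.stMul (f1607 C) (f1620 C) _ (by decide +kernel)

theorem f3931 : C.S (v9 C) [11, 48, 54, 73, 93, 110, 123] :=
  C.stMul (f1615 C) (f3930 C) _ (by decide +kernel)

theorem f3932 : C.T (v9 C) [20, 38, 58, 89, 106, 109, 117] (v4 C) [11, 29, 62, 75, 108, 109, 122] :=
  C.conv (f2043 C) (f2531 C) (f3931 C) _ [134, 160, 169, 176] _ (by decide +kernel) (by decide +kernel) (by decide +kernel)

theorem f3933 : C.T (v8 C) [11, 41, 61, 80, 96, 109, 125] (v16 C) [11, 46, 62, 71, 91, 109, 120] :=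
  C.conv (f3774 C) (f3876 C) (f1529 C) _ [132, 161, 166, 175] _ (by decide +kernel) (by decide +kernel) (by decide +kernel)

theorem f3934 : C.T (v16 C) [11, 46, 62, 71, 91, 109, 120] (v8 C) [11, 41, 61, 80, 96, 109, 125] :=
  C.flip (f3933 C)

theorem f3935 : C.T (v4 C) [24, 31, 59, 72, 91, 110] (v16 C) [13, 43, 53, 71, 96, 110, 116] :=
  C.closeT (p := (v8 C)) (pu := [24, 28, 54, 78, 91, 120])
    (C.pT (f3929 C)
    (C.pH [8, 30, 65, 84, 94, 117] [20, 38, 58, 89, 106, 109, 117] (by decide +kernel)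
    (C.pT (f3932 C)
    (C.pH [26, 38, 54, 89, 90, 113] [24, 31, 59, 72, 91, 110] (by decide +kernel) (C.pNil _ _)))))
    (C.pH [8, 30, 65, 84, 94, 117] [11, 46, 62, 71, 91, 109, 120] (by decide +kernel)
    (C.pT (f3934 C)
    (C.pH [26, 38, 54, 89, 90, 113] [24, 28, 54, 78, 91, 120] (by decide +kernel) (C.pNil _ _))))
    (C.loop_of_one (relLoop1 C) _ _)

theorem f3936 : C.T (v16 C) [13, 43, 53, 71, 96, 110, 116] (v4 C) [24, 31, 59, 72, 91, 110] :=
  C.flip (f3935 C)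

theorem f3937 : C.T (v8 C) [7, 34, 76, 98, 109, 114] (v10 C) [26, 43, 52, 89, 93, 116] :=
  C.conv (f1695 C) (f1598 C) (f1598 C) _ [148, 151, 167, 174, 177] _ (by decide +kernel) (by decide +kernel) (by decide +kernel)

theorem f3938 : C.T (v10 C) [14, 43, 59, 80, 98, 109, 120] (v16 C) [4, 43, 56, 81, 98, 124] :=
  C.conv (f3487 C) (f3852 C) (f3852 C) _ [143, 161, 172, 177] _ (by decide +kernel) (by decide +kernel) (by decide +kernel)

theorem f3939 : C.S (v8 C) [13, 35, 60, 78, 91, 121] :=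
  C.stMul (f1579 C) (f1537 C) _ (by decide +kernel)

theorem f3940 : C.S (v8 C) [8, 27, 65, 71, 94, 109, 112] :=
  C.stMul (f1546 C) (f3939 C) _ (by decide +kernel)

theorem f3941 : C.S (v8 C) [7, 27, 68, 85, 106, 109, 122] :=
  C.stMul (f1568 C) (f3940 C) _ (by decide +kernel)

theorem f3942 : C.T (v8 C) [23, 39, 53, 81, 99, 115] (v16 C) [4, 36, 50, 74, 93, 110, 119] :=
  C.conv (f3774 C) (f3876 C) (f3941 C) _ [144, 149, 170, 172] _ (by decide +kernel) (by decide +kernel) (by decide +kernel)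

theorem f3943 : C.T (v16 C) [4, 36, 50, 74, 93, 110, 119] (v8 C) [23, 39, 53, 81, 99, 115] :=
  C.flip (f3942 C)

theorem f3944 : C.T (v16 C) [25, 41, 56, 76, 92, 109, 115] (v16 C) [18, 35, 50, 84, 102, 110, 116] :=
  C.closeT (p := (v8 C)) (pu := [7, 34, 76, 98, 109, 114])
    (C.pT (f3937 C)
    (C.pH [8, 30, 65, 84, 94, 117] [14, 43, 59, 80, 98, 109, 120] (by decide +kernel)
    (C.pT (f3938 C)
    (C.pH [26, 38, 54, 89, 90, 113] [25, 41, 56, 76, 92, 109, 115] (by decide +kernel) (C.pNil _ _)))))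
    (C.pH [8, 30, 65, 84, 94, 117] [4, 36, 50, 74, 93, 110, 119] (by decide +kernel)
    (C.pT (f3943 C)
    (C.pH [26, 38, 54, 89, 90, 113] [7, 34, 76, 98, 109, 114] (by decide +kernel) (C.pNil _ _))))
    (C.loop_of_one (relLoop1 C) _ _)

theorem f3948 : C.T (v8 C) [26, 32, 77, 110, 120] (v9 C) [21, 32, 53, 82, 91, 109, 118] :=
  C.conv (f2109 C) (f1541 C) (f1541 C) _ [145, 158, 165, 171, 178] _ (by decide +kernel) (by decide +kernel) (by decide +kernel)

theorem f3949 : C.S (v8 C) [32, 58, 100, 110, 123] :=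
  C.stMul (f1541 C) (f1529 C) _ (by decide +kernel)

theorem f3950 : C.S (v8 C) [20, 43, 68, 74, 97, 110, 123] :=
  C.stMul (f1546 C) (f3949 C) _ (by decide +kernel)

theorem f3951 : C.S (v8 C) [12, 44, 53, 70, 104, 109, 114] :=
  C.stMul (f1564 C) (f3950 C) _ (by decide +kernel)

theorem f3952 : C.S (v8 C) [13, 31, 49, 73, 95, 110, 121] :=
  C.stMul (f1579 C) (f3951 C) _ (by decide +kernel)

theorem f3953 : C.T (v8 C) [33, 60, 78, 96, 110, 116] (v16 C) [16, 46, 65, 80, 93, 109, 118] :=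
  C.conv (f3774 C) (f3876 C) (f3952 C) _ [128, 171] _ (by decide +kernel) (by decide +kernel) (by decide +kernel)

theorem f3954 : C.T (v16 C) [16, 46, 65, 80, 93, 109, 118] (v8 C) [33, 60, 78, 96, 110, 116] :=
  C.flip (f3953 C)

theorem f3955 : C.S (v16 C) [18, 40, 55, 73, 98, 112] :=
  C.stMul (f3480 C) (f3451 C) _ (by decide +kernel)

theorem f3956 : C.S (v16 C) [11, 40, 62, 81, 115] :=
  C.stMul (f3468 C) (f3955 C) _ (by decide +kernel)

theorem f3957 : C.T (v16 C) [24, 38, 56, 85, 99, 109, 116] (v16 C) [25, 42, 50, 77, 107, 110, 124] :=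
  C.conv (f3594 C) (f3597 C) (f3956 C) _ [134, 162, 164, 176, 177] _ (by decide +kernel) (by decide +kernel) (by decide +kernel)

theorem f3958 : C.T (v16 C) [25, 42, 50, 77, 107, 110, 124] (v16 C) [24, 38, 56, 85, 99, 109, 116] :=
  C.flip (f3957 C)

theorem f3959 : C.T (v9 C) [24, 37, 53, 89, 102, 110, 115] (v16 C) [4, 30, 67, 82, 100, 110, 112] :=
  C.closeT (p := (v8 C)) (pu := [26, 32, 77, 110, 120])
    (C.pT (f3948 C)
    (C.pH [8, 30, 65, 84, 94, 117] [24, 37, 53, 89, 102, 110, 115] (by decide +kernel) (C.pNil _ _)))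
    (C.pH [26, 38, 54, 89, 90, 113] [25, 42, 50, 77, 107, 110, 124] (by decide +kernel)
    (C.pT (f3958 C)
    (C.pH [8, 30, 65, 84, 94, 117] [16, 46, 65, 80, 93, 109, 118] (by decide +kernel)
    (C.pT (f3954 C)
    (C.pH [26, 38, 54, 89, 90, 113] [26, 32, 77, 110, 120] (by decide +kernel) (C.pNil _ _))))))
    (C.loop_of_one (relLoop1 C) _ _)

theorem f3960 : C.T (v16 C) [4, 30, 67, 82, 100, 110, 112] (v9 C) [24, 37, 53, 89, 102, 110, 115] :=
  C.flip (f3959 C)

theorem f3961 : C.T (v8 C) [10, 41, 52, 71, 108, 113] (v16 C) [9, 45, 69, 95, 109, 122] :=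
  C.conv (f3774 C) (f3876 C) (f3876 C) _ [140, 155, 167, 175] _ (by decide +kernel) (by decide +kernel) (by decide +kernel)

theorem f3962 : C.S (v8 C) [18, 44, 68, 81, 106, 109, 118] :=
  C.stMul (f1537 C) (f1537 C) _ (by decide +kernel)

theorem f3963 : C.T (v8 C) [18, 38, 56, 80, 103, 109, 113] (v16 C) [26, 33, 65, 81, 104, 109, 114] :=
  C.conv (f3774 C) (f3876 C) (f3962 C) _ [147, 152, 170, 173] _ (by decide +kernel) (by decide +kernel) (by decide +kernel)

theorem f3964 : C.T (v16 C) [26, 33, 65, 81, 104, 109, 114] (v8 C) [18, 38, 56, 80, 103, 109, 113] :=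
  C.flip (f3963 C)

theorem f3965 : C.S (v16 C) [20, 44, 68, 81, 93, 115] :=
  C.stMul (f3468 C) (f3451 C) _ (by decide +kernel)

theorem f3966 : C.S (v16 C) [22, 32, 49, 101, 110, 116] :=
  C.stMul (f3480 C) (f3965 C) _ (by decide +kernel)

theorem f3967 : C.T (v16 C) [19, 31, 88, 98, 110] (v16 C) [13, 47, 64, 78, 100, 110, 119] :=
  C.conv (f3868 C) (f3871 C) (f3966 C) _ [141, 159, 170, 176] _ (by decide +kernel) (by decide +kernel) (by decide +kernel)

theorem f3968 : C.T (v16 C) [13, 47, 64, 78, 100, 110, 119] (v16 C) [19, 31, 88, 98, 110] :=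
  C.flip (f3967 C)

theorem f3969 : C.T (v16 C) [18, 37, 84, 103, 110, 117] (v16 C) [16, 45, 60, 74, 98, 110, 121] :=
  C.closeT (p := (v8 C)) (pu := [10, 41, 52, 71, 108, 113])
    (C.pT (f3961 C)
    (C.pH [8, 30, 65, 84, 94, 117] [18, 37, 84, 103, 110, 117] (by decide +kernel) (C.pNil _ _)))
    (C.pH [26, 38, 54, 89, 90, 113] [13, 47, 64, 78, 100, 110, 119] (by decide +kernel)
    (C.pT (f3968 C)
    (C.pH [8, 30, 65, 84, 94, 117] [26, 33, 65, 81, 104, 109, 114] (by decide +kernel)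
    (C.pT (f3964 C)
    (C.pH [26, 38, 54, 89, 90, 113] [10, 41, 52, 71, 108, 113] (by decide +kernel) (C.pNil _ _))))))
    (C.loop_of_one (relLoop1 C) _ _)

theorem f3975 : C.T (v8 C) [23, 27, 66, 71, 102, 110, 116] (v8 C) [18, 27, 61, 77, 108, 110, 116] :=
  C.conv (f1574 C) (f1529 C) (f1529 C) _ [127, 153, 168, 173, 177] _ (by decide +kernel) (by decide +kernel) (by decide +kernel)

theorem f3976 : C.S (v8 C) [20, 43, 55, 88, 97, 111] :=
  C.stMul (f1529 C) (f3922 C) _ (by decide +kernel)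

theorem f3977 : C.S (v8 C) [12, 44, 50, 85, 90, 122] :=
  C.stMul (f1564 C) (f3976 C) _ (by decide +kernel)

theorem f3978 : C.T (v8 C) [10, 27, 53, 85, 97, 119] (v16 C) [11, 28, 58, 73, 101, 109, 114] :=
  C.conv (f3774 C) (f3876 C) (f3977 C) _ [137, 156, 168, 176, 178] _ (by decide +kernel) (by decide +kernel) (by decide +kernel)

theorem f3979 : C.S (v8 C) [12, 27, 60, 85, 96, 109, 121] :=
  C.stMul (f1537 C) (f1579 C) _ (by decide +kernel)

theorem f3980 : C.S (v8 C) [11, 48, 53, 84, 95, 109, 120] :=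
  C.stMul (f1546 C) (f3979 C) _ (by decide +kernel)

theorem f3981 : C.S (v8 C) [21, 48, 52, 86, 106, 109, 125] :=
  C.stMul (f1579 C) (f3980 C) _ (by decide +kernel)

theorem f3982 : C.T (v8 C) [20, 45, 59, 87, 105, 117] (v16 C) [24, 34, 60, 85, 96, 110, 118] :=
  C.conv (f3774 C) (f3876 C) (f3981 C) _ [160, 168, 176, 177] _ (by decide +kernel) (by decide +kernel) (by decide +kernel)

theorem f3983 : C.T (v16 C) [24, 34, 60, 85, 96, 110, 118] (v8 C) [20, 45, 59, 87, 105, 117] :=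
  C.flip (f3982 C)

theorem f3984 : C.T (v16 C) [7, 40, 58, 74, 106, 118] (v16 C) [11, 45, 67, 94, 111] :=
  C.closeT (p := (v8 C)) (pu := [23, 27, 66, 71, 102, 110, 116])
    (C.pT (f3975 C)
    (C.pH [26, 38, 54, 89, 90, 113] [10, 27, 53, 85, 97, 119] (by decide +kernel)
    (C.pT (f3978 C)
    (C.pH [8, 30, 65, 84, 94, 117] [7, 40, 58, 74, 106, 118] (by decide +kernel) (C.pNil _ _)))))
    (C.pH [26, 38, 54, 89, 90, 113] [24, 34, 60, 85, 96, 110, 118] (by decide +kernel)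
    (C.pT (f3983 C)
    (C.pH [8, 30, 65, 84, 94, 117] [23, 27, 66, 71, 102, 110, 116] (by decide +kernel) (C.pNil _ _))))
    (C.loop_of_one (relLoop2 C) _ _)

theorem f3992 : C.T (v8 C) [21, 30, 59, 71, 96, 117] (v9 C) [19, 48, 50, 86, 94, 110, 112] :=
  C.conv (f1604 C) (f1598 C) (f1598 C) _ [141, 154, 169, 172, 177] _ (by decide +kernel) (by decide +kernel) (by decide +kernel)

theorem f3993 : C.S (v9 C) [13, 48, 54, 73, 93, 110, 123] :=
  C.stMul (f1620 C) (f1610 C) _ (by decide +kernel)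

theorem f3994 : C.T (v9 C) [17, 38, 55, 73, 103, 118] (v15 C) [4, 29, 63, 75, 96, 124] :=
  C.conv (f3038 C) (f3917 C) (f3993 C) _ [137, 159, 168, 173] _ (by decide +kernel) (by decide +kernel) (by decide +kernel)

theorem f3995 : C.S (v8 C) [11, 65, 85, 105, 121] :=
  C.stMul (f1532 C) (f1529 C) _ (by decide +kernel)

theorem f3996 : C.S (v8 C) [12, 39, 69, 87, 90, 110, 120] :=
  C.stMul (f1552 C) (f3995 C) _ (by decide +kernel)

theorem f3997 : C.S (v8 C) [32, 57, 77, 110, 121] :=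
  C.stMul (f1532 C) (f3996 C) _ (by decide +kernel)

theorem f3998 : C.T (v8 C) [12, 42, 61, 78, 104, 109, 111] (v16 C) [12, 32, 56, 85, 91, 110, 121] :=
  C.conv (f3774 C) (f3876 C) (f3997 C) _ [141, 151, 168, 175] _ (by decide +kernel) (by decide +kernel) (by decide +kernel)

theorem f3999 : C.T (v16 C) [12, 32, 56, 85, 91, 110, 121] (v8 C) [12, 42, 61, 78, 104, 109, 111] :=
  C.flip (f3998 C)

theorem f4000 : C.T (v15 C) [25, 44, 66, 76, 90, 112] (v16 C) [24, 36, 61, 79, 91, 123] :=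
  C.closeT (p := (v8 C)) (pu := [21, 30, 59, 71, 96, 117])
    (C.pT (f3992 C)
    (C.pH [26, 38, 54, 89, 90, 113] [17, 38, 55, 73, 103, 118] (by decide +kernel)
    (C.pT (f3994 C)
    (C.pH [8, 30, 65, 84, 94, 117] [25, 44, 66, 76, 90, 112] (by decide +kernel) (C.pNil _ _)))))
    (C.pH [26, 38, 54, 89, 90, 113] [12, 32, 56, 85, 91, 110, 121] (by decide +kernel)
    (C.pT (f3999 C)
    (C.pH [8, 30, 65, 84, 94, 117] [21, 30, 59, 71, 96, 117] (by decide +kernel) (C.pNil _ _))))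
    (C.loop_of_one (relLoop2 C) _ _)

theorem f4001 : C.T (v16 C) [24, 36, 61, 79, 91, 123] (v15 C) [25, 44, 66, 76, 90, 112] :=
  C.flip (f4000 C)

theorem f4002 : C.T (v8 C) [4, 48, 59, 81, 107, 109, 125] (v9 C) [12, 47, 51, 79, 110, 116] :=
  C.conv (f2109 C) (f1541 C) (f1541 C) _ [136, 157, 170, 173] _ (by decide +kernel) (by decide +kernel) (by decide +kernel)

theorem f4003 : C.S (v9 C) [13, 48, 54, 73, 93, 110, 123] :=
  C.stMul (f1620 C) (f1610 C) _ (by decide +kernel)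

theorem f4004 : C.S (v9 C) [23, 37, 55, 75, 92, 110, 123] :=
  C.stMul (f1624 C) (f1607 C) _ (by decide +kernel)

theorem f4005 : C.T (v9 C) [14, 30, 56, 77, 102, 109, 122] (v16 C) [23, 39, 69, 70, 96, 116] :=
  C.conv (f3607 C) (f4003 C) (f4004 C) _ [128, 160, 168, 174] _ (by decide +kernel) (by decide +kernel) (by decide +kernel)

theorem f4006 : C.S (v8 C) [12, 44, 64, 80, 93, 110, 118] :=
  C.stMul (f1552 C) (f1532 C) _ (by decide +kernel)

theorem f4007 : C.S (v8 C) [7, 32, 67, 70, 98, 109, 115] :=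
  C.stMul (f1552 C) (f4006 C) _ (by decide +kernel)

theorem f4008 : C.S (v8 C) [22, 34, 51, 84, 97, 110, 114] :=
  C.stMul (f1526 C) (f4007 C) _ (by decide +kernel)

theorem f4009 : C.T (v8 C) [18, 45, 65, 85, 105, 110, 115] (v16 C) [19, 40, 55, 84, 101, 125] :=
  C.conv (f3774 C) (f3876 C) (f4008 C) _ [135, 163, 165, 172, 178] _ (by decide +kernel) (by decide +kernel) (by decide +kernel)

theorem f4010 : C.T (v16 C) [19, 40, 55, 84, 101, 125] (v8 C) [18, 45, 65, 85, 105, 110, 115] :=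
  C.flip (f4009 C)

theorem f4011 : C.T (v16 C) [10, 36, 63, 89, 109, 120] (v16 C) [22, 59, 80, 103, 110, 113] :=
  C.closeT (p := (v8 C)) (pu := [4, 48, 59, 81, 107, 109, 125])
    (C.pT (f4002 C)
    (C.pH [26, 38, 54, 89, 90, 113] [14, 30, 56, 77, 102, 109, 122] (by decide +kernel)
    (C.pT (f4005 C)
    (C.pH [8, 30, 65, 84, 94, 117] [10, 36, 63, 89, 109, 120] (by decide +kernel) (C.pNil _ _)))))
    (C.pH [26, 38, 54, 89, 90, 113] [19, 40, 55, 84, 101, 125] (by decide +kernel)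
    (C.pT (f4010 C)
    (C.pH [8, 30, 65, 84, 94, 117] [4, 48, 59, 81, 107, 109, 125] (by decide +kernel) (C.pNil _ _))))
    (C.loop_of_one (relLoop2 C) _ _)

theorem f4012 : C.T (v16 C) [22, 59, 80, 103, 110, 113] (v16 C) [10, 36, 63, 89, 109, 120] :=
  C.flip (f4011 C)

theorem f4013 : C.S (v9 C) [11, 45, 66, 71, 92, 109, 125] :=
  C.stMul (f1610 C) (f1607 C) _ (by decide +kernel)

theorem f4014 : C.T (v9 C) [24, 38, 69, 86, 100, 117] (v15 C) [8, 32, 57, 77, 104, 109, 119] :=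
  C.conv (f3025 C) (f4013 C) (f4013 C) _ [132, 153, 168, 178] _ (by decide +kernel) (by decide +kernel) (by decide +kernel)

theorem f4015 : C.S (v9 C) [13, 48, 54, 73, 93, 110, 123] :=
  C.stMul (f1620 C) (f1610 C) _ (by decide +kernel)

theorem f4016 : C.S (v9 C) [28, 53, 80, 101, 110, 112] :=
  C.stMul (f1615 C) (f4015 C) _ (by decide +kernel)

theorem f4017 : C.S (v9 C) [4, 48, 53, 80, 99, 115] :=
  C.stMul (f1615 C) (f1624 C) _ (by decide +kernel)

theorem f4018 : C.S (v9 C) [18, 29, 52, 87, 96, 125] :=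
  C.stMul (f1620 C) (f4017 C) _ (by decide +kernel)

theorem f4019 : C.T (v9 C) [19, 28, 55, 85, 98] (v16 C) [21, 47, 65, 73, 106, 109] :=
  C.conv (f3959 C) (f4016 C) (f4018 C) _ [134, 153, 168, 174, 178] _ (by decide +kernel) (by decide +kernel) (by decide +kernel)

theorem f4020 : C.T (v16 C) [21, 47, 65, 73, 106, 109] (v9 C) [19, 28, 55, 85, 98] :=
  C.flip (f4019 C)

theorem f4021 : C.T (v15 C) [10, 44, 55, 73, 97, 109, 124] (v16 C) [10, 35, 74, 102, 110, 123] :=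
  C.closeT (p := (v9 C)) (pu := [24, 38, 69, 86, 100, 117])
    (C.pT (f4014 C)
    (C.pH [12, 35, 50, 83] [10, 44, 55, 73, 97, 109, 124] (by decide +kernel) (C.pNil _ _)))
    (C.pH [12, 35, 50, 83] [21, 47, 65, 73, 106, 109] (by decide +kernel)
    (C.pT (f4020 C)
    (C.pH [12, 35, 50, 83] [24, 38, 69, 86, 100, 117] (by decide +kernel) (C.pNil _ _))))
    (C.loop_of_one (relLoop0 C) _ _)

theorem f4022 : C.T (v16 C) [10, 35, 74, 102, 110, 123] (v15 C) [10, 44, 55, 73, 97, 109, 124] :=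
  C.flip (f4021 C)

theorem f4023 : C.T (v9 C) [12, 27, 66, 102, 110, 121] (v16 C) [21, 42, 63, 76, 92, 109, 120] :=
  C.conv (f3492 C) (f3563 C) (f3563 C) _ [138, 150, 169, 174, 177] _ (by decide +kernel) (by decide +kernel) (by decide +kernel)

theorem f4024 : C.T (v9 C) [28, 64, 89, 90, 122] (v14 C) [18, 46, 50, 78, 93, 116] :=
  C.conv (f2500 C) (f2513 C) (f2514 C) _ [138, 152, 164, 172, 178] _ (by decide +kernel) (by decide +kernel) (by decide +kernel)

theorem f4025 : C.T (v14 C) [18, 46, 50, 78, 93, 116] (v9 C) [28, 64, 89, 90, 122] :=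
  C.flip (f4024 C)

theorem f4026 : C.T (v16 C) [8, 41, 55, 89, 92, 114] (v14 C) [18, 28, 56, 72, 107, 109, 114] :=
  C.closeT (p := (v9 C)) (pu := [12, 27, 66, 102, 110, 121])
    (C.pT (f4023 C)
    (C.pH [12, 35, 50, 83] [8, 41, 55, 89, 92, 114] (by decide +kernel) (C.pNil _ _)))
    (C.pH [12, 35, 50, 83] [18, 46, 50, 78, 93, 116] (by decide +kernel)
    (C.pT (f4025 C)
    (C.pH [12, 35, 50, 83] [12, 27, 66, 102, 110, 121] (by decide +kernel) (C.pNil _ _))))
    (C.loop_of_one (relLoop0 C) _ _)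

theorem f4027 : C.T (v14 C) [18, 28, 56, 72, 107, 109, 114] (v16 C) [8, 41, 55, 89, 92, 114] :=
  C.flip (f4026 C)

theorem f4028 : C.S (v9 C) [10, 47, 79, 100, 110, 114] :=
  C.stMul (f1620 C) (f1607 C) _ (by decide +kernel)

theorem f4029 : C.S (v9 C) [21, 32, 51, 87, 95, 109, 111] :=
  C.stMul (f1624 C) (f4028 C) _ (by decide +kernel)

theorem f4030 : C.S (v9 C) [12, 29, 53, 80, 106, 109, 118] :=
  C.stMul (f1620 C) (f4029 C) _ (by decide +kernel)

theorem f4031 : C.T (v9 C) [24, 46, 68, 80, 98, 109, 112] (v16 C) [17, 37, 55, 77, 93, 113] :=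
  C.conv (f3881 C) (f4030 C) (f4030 C) _ [141, 151, 169, 174] _ (by decide +kernel) (by decide +kernel) (by decide +kernel)

theorem f4032 : C.S (v9 C) [11, 40, 56, 79, 103, 109, 114] :=
  C.stMul (f1615 C) (f1620 C) _ (by decide +kernel)

theorem f4033 : C.T (v9 C) [19, 48, 55, 89, 104, 109, 123] (v16 C) [12, 27, 56, 76, 119] :=
  C.conv (f3959 C) (f4016 C) (f4032 C) _ [137, 163, 169, 172, 178] _ (by decide +kernel) (by decide +kernel) (by decide +kernel)

theorem f4034 : C.T (v16 C) [12, 27, 56, 76, 119] (v9 C) [19, 48, 55, 89, 104, 109, 123] :=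
  C.flip (f4033 C)

theorem f4035 : C.T (v16 C) [25, 39, 55, 77, 105, 109, 120] (v16 C) [28, 65, 75, 108, 121] :=
  C.closeT (p := (v9 C)) (pu := [24, 46, 68, 80, 98, 109, 112])
    (C.pT (f4031 C)
    (C.pH [12, 35, 50, 83] [25, 39, 55, 77, 105, 109, 120] (by decide +kernel) (C.pNil _ _)))
    (C.pH [12, 35, 50, 83] [12, 27, 56, 76, 119] (by decide +kernel)
    (C.pT (f4034 C)
    (C.pH [12, 35, 50, 83] [24, 46, 68, 80, 98, 109, 112] (by decide +kernel) (C.pNil _ _))))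
    (C.loop_of_one (relLoop0 C) _ _)

theorem f4039 : C.T (v9 C) [22, 44, 63, 75, 97, 109, 114] (v16 C) [18, 40, 62, 78, 94, 111] :=
  C.conv (f3959 C) (f4016 C) (f4016 C) _ [141, 158, 165, 173, 178] _ (by decide +kernel) (by decide +kernel) (by decide +kernel)

theorem f4040 : C.S (v9 C) [11, 45, 66, 71, 92, 109, 125] :=
  C.stMul (f1610 C) (f1607 C) _ (by decide +kernel)

theorem f4041 : C.S (v9 C) [13, 48, 69, 83, 106, 116] :=
  C.stMul (f1620 C) (f4040 C) _ (by decide +kernel)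

theorem f4042 : C.T (v9 C) [20, 30, 67, 75, 105, 122] (v16 C) [18, 47, 57, 89, 91, 109, 121] :=
  C.conv (f3959 C) (f4016 C) (f4041 C) _ [143, 162, 164, 172, 178] _ (by decide +kernel) (by decide +kernel) (by decide +kernel)

theorem f4043 : C.T (v16 C) [18, 47, 57, 89, 91, 109, 121] (v9 C) [20, 30, 67, 75, 105, 122] :=
  C.flip (f4042 C)

theorem f4044 : C.T (v16 C) [18, 40, 63, 81, 95, 109, 114] (v16 C) [18, 41, 49, 77, 95, 109, 112] :=
  C.closeT (p := (v9 C)) (pu := [22, 44, 63, 75, 97, 109, 114])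
    (C.pT (f4039 C)
    (C.pH [12, 35, 50, 83] [18, 40, 63, 81, 95, 109, 114] (by decide +kernel) (C.pNil _ _)))
    (C.pH [12, 35, 50, 83] [18, 47, 57, 89, 91, 109, 121] (by decide +kernel)
    (C.pT (f4043 C)
    (C.pH [12, 35, 50, 83] [22, 44, 63, 75, 97, 109, 114] (by decide +kernel) (C.pNil _ _))))
    (C.loop_of_one (relLoop0 C) _ _)

theorem f4048 : C.T (v9 C) [26, 29, 52, 81, 95, 118] (v9 C) [19, 35, 62, 84, 90, 111] :=
  C.conv (f2051 C) (f2054 C) (f2054 C) _ [139, 154, 166, 172, 177] _ (by decide +kernel) (by decide +kernel) (by decide +kernel)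

theorem f4049 : C.T (v9 C) [26, 43, 62, 75, 91, 109, 118] (v4 C) [17, 30, 65, 71, 103, 120] :=
  C.conv (f2043 C) (f2531 C) (f2534 C) _ [136, 158, 170, 175, 177] _ (by decide +kernel) (by decide +kernel) (by decide +kernel)

theorem f4050 : C.S (v9 C) [21, 32, 63, 85, 106, 110, 120] :=
  C.stMul (f1624 C) (f1620 C) _ (by decide +kernel)

theorem f4051 : C.S (v9 C) [12, 29, 63, 103, 119] :=
  C.stMul (f1620 C) (f4050 C) _ (by decide +kernel)

theorem f4052 : C.T (v9 C) [37, 77, 101, 110, 124] (v16 C) [10, 28, 53, 70, 99, 116] :=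
  C.conv (f3607 C) (f4003 C) (f4051 C) _ [144, 161, 170, 174, 178] _ (by decide +kernel) (by decide +kernel) (by decide +kernel)

theorem f4053 : C.T (v16 C) [10, 28, 53, 70, 99, 116] (v9 C) [37, 77, 101, 110, 124] :=
  C.flip (f4052 C)

theorem f4054 : C.T (v4 C) [20, 28, 65, 86, 93, 109, 111] (v16 C) [23, 67, 76, 102, 109, 115] :=
  C.closeT (p := (v9 C)) (pu := [26, 29, 52, 81, 95, 118])
    (C.pT (f4048 C)
    (C.pH [8, 30, 65, 84, 94, 117] [26, 43, 62, 75, 91, 109, 118] (by decide +kernel)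
    (C.pT (f4049 C)
    (C.pH [26, 38, 54, 89, 90, 113] [20, 28, 65, 86, 93, 109, 111] (by decide +kernel) (C.pNil _ _)))))
    (C.pH [8, 30, 65, 84, 94, 117] [10, 28, 53, 70, 99, 116] (by decide +kernel)
    (C.pT (f4053 C)
    (C.pH [26, 38, 54, 89, 90, 113] [26, 29, 52, 81, 95, 118] (by decide +kernel) (C.pNil _ _))))
    (C.loop_of_one (relLoop1 C) _ _)

theorem f4055 : C.T (v16 C) [23, 67, 76, 102, 109, 115] (v4 C) [20, 28, 65, 86, 93, 109, 111] :=
  C.flip (f4054 C)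

theorem f4056 : C.T (v9 C) [15, 40, 57, 79, 103, 109, 123] (v16 C) [22, 39, 69, 71, 95, 109, 123] :=
  C.conv (f3492 C) (f3563 C) (f3563 C) _ [135, 161, 170, 175, 178] _ (by decide +kernel) (by decide +kernel) (by decide +kernel)

theorem f4057 : C.S (v9 C) [4, 28, 59, 71, 101, 109, 111] :=
  C.stMul (f1624 C) (f3993 C) _ (by decide +kernel)

theorem f4058 : C.T (v9 C) [20, 34, 49, 89, 97, 109, 115] (v15 C) [10, 31, 67, 89, 93, 118] :=
  C.conv (f3038 C) (f3917 C) (f4057 C) _ [129, 157, 165] _ (by decide +kernel) (by decide +kernel) (by decide +kernel)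

theorem f4059 : C.T (v15 C) [10, 31, 67, 89, 93, 118] (v9 C) [20, 34, 49, 89, 97, 109, 115] :=
  C.flip (f4058 C)

theorem f4060 : C.S (v15 C) [31, 53, 71, 96, 116] :=
  C.stMul (f2569 C) (f2569 C) _ (by decide +kernel)

theorem f4061 : C.T (v15 C) [23, 35, 53, 82, 104, 110, 111] (v15 C) [7, 29, 65, 84, 107, 109, 113] :=
  C.conv (f3260 C) (f2652 C) (f4060 C) _ [147, 149, 170, 176, 177] _ (by decide +kernel) (by decide +kernel) (by decide +kernel)

theorem f4062 : C.T (v15 C) [7, 29, 65, 84, 107, 109, 113] (v15 C) [23, 35, 53, 82, 104, 110, 111] :=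
  C.flip (f4061 C)

theorem f4063 : C.T (v16 C) [6, 38, 53, 82, 95, 109, 111] (v15 C) [23, 31, 59, 83, 104, 123] :=
  C.closeT (p := (v9 C)) (pu := [15, 40, 57, 79, 103, 109, 123])
    (C.pT (f4056 C)
    (C.pH [8, 30, 65, 84, 94, 117] [6, 38, 53, 82, 95, 109, 111] (by decide +kernel) (C.pNil _ _)))
    (C.pH [26, 38, 54, 89, 90, 113] [7, 29, 65, 84, 107, 109, 113] (by decide +kernel)
    (C.pT (f4062 C)
    (C.pH [8, 30, 65, 84, 94, 117] [10, 31, 67, 89, 93, 118] (by decide +kernel)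
    (C.pT (f4059 C)
    (C.pH [26, 38, 54, 89, 90, 113] [15, 40, 57, 79, 103, 109, 123] (by decide +kernel) (C.pNil _ _))))))
    (C.loop_of_one (relLoop1 C) _ _)

theorem f4064 : C.T (v15 C) [23, 31, 59, 83, 104, 123] (v16 C) [6, 38, 53, 82, 95, 109, 111] :=
  C.flip (f4063 C)

theorem f4065 : C.T (v10 C) [10, 40, 50, 75, 108, 111] (v4 C) [25, 33, 52, 89, 109, 123] :=
  C.conv (f1797 C) (f1853 C) (f1853 C) _ [136, 149, 169, 172, 177] _ (by decide +kernel) (by decide +kernel) (by decide +kernel)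

theorem f4066 : C.S (v10 C) [20, 33, 80, 97, 116] :=
  C.stMul (f1709 C) (f1704 C) _ (by decide +kernel)

theorem f4067 : C.S (v10 C) [37, 66, 75, 96, 110, 124] :=
  C.stMul (f1714 C) (f4066 C) _ (by decide +kernel)

theorem f4068 : C.S (v10 C) [7, 40, 49, 79, 99, 109, 121] :=
  C.stMul (f1709 C) (f4067 C) _ (by decide +kernel)

theorem f4069 : C.S (v10 C) [12, 36, 63, 82, 101, 109, 123] :=
  C.stMul (f1714 C) (f1699 C) _ (by decide +kernel)

theorem f4070 : C.S (v10 C) [23, 30, 58, 82, 102, 109, 118] :=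
  C.stMul (f1722 C) (f4069 C) _ (by decide +kernel)

theorem f4071 : C.S (v10 C) [20, 33, 69, 104, 110, 121] :=
  C.stMul (f1709 C) (f4070 C) _ (by decide +kernel)

theorem f4072 : C.T (v10 C) [8, 29, 58, 82, 110, 120] (v16 C) [10, 43, 63, 85, 91, 116] :=
  C.conv (f3792 C) (f4068 C) (f4071 C) _ [127, 161, 170, 178] _ (by decide +kernel) (by decide +kernel) (by decide +kernel)

theorem f4073 : C.T (v16 C) [10, 43, 63, 85, 91, 116] (v10 C) [8, 29, 58, 82, 110, 120] :=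
  C.flip (f4072 C)

theorem f4074 : C.T (v4 C) [9, 46, 54, 85, 96, 110, 125] (v16 C) [8, 43, 63, 85, 105, 122] :=
  C.closeT (p := (v10 C)) (pu := [10, 40, 50, 75, 108, 111])
    (C.pT (f4065 C)
    (C.pH [12, 35, 50, 83] [9, 46, 54, 85, 96, 110, 125] (by decide +kernel) (C.pNil _ _)))
    (C.pH [12, 35, 50, 83] [10, 43, 63, 85, 91, 116] (by decide +kernel)
    (C.pT (f4073 C)
    (C.pH [12, 35, 50, 83] [10, 40, 50, 75, 108, 111] (by decide +kernel) (C.pNil _ _))))
    (C.loop_of_one (relLoop0 C) _ _)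

theorem f4075 : C.T (v16 C) [8, 43, 63, 85, 105, 122] (v4 C) [9, 46, 54, 85, 96, 110, 125] :=
  C.flip (f4074 C)

theorem f4076 : C.T (v10 C) [35, 49, 70, 105, 121] (v12 C) [13, 35, 59, 81, 98, 123] :=
  C.conv (f2210 C) (f2213 C) (f2213 C) _ [126, 162, 169, 174] _ (by decide +kernel) (by decide +kernel) (by decide +kernel)

theorem f4077 : C.S (v10 C) [12, 29, 59, 82, 105, 117] :=
  C.stMul (f1709 C) (f1699 C) _ (by decide +kernel)

theorem f4078 : C.S (v10 C) [23, 28, 67, 70, 108, 109, 122] :=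
  C.stMul (f1722 C) (f4077 C) _ (by decide +kernel)

theorem f4079 : C.S (v10 C) [22, 34, 56, 72, 106, 110, 125] :=
  C.stMul (f1704 C) (f1699 C) _ (by decide +kernel)

theorem f4080 : C.S (v10 C) [7, 27, 65, 87, 98, 109, 111] :=
  C.stMul (f1714 C) (f4079 C) _ (by decide +kernel)

theorem f4081 : C.T (v10 C) [23, 31, 63, 77, 91, 110, 111] (v16 C) [11, 46, 51, 86, 91, 120] :=
  C.conv (f3818 C) (f4078 C) (f4080 C) _ [129, 152, 167, 176, 177] _ (by decide +kernel) (by decide +kernel) (by decide +kernel)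

theorem f4082 : C.T (v16 C) [11, 46, 51, 86, 91, 120] (v10 C) [23, 31, 63, 77, 91, 110, 111] :=
  C.flip (f4081 C)

theorem f4083 : C.T (v12 C) [26, 45, 89, 105, 110, 122] (v16 C) [22, 41, 81, 96, 109, 123] :=
  C.closeT (p := (v10 C)) (pu := [35, 49, 70, 105, 121])
    (C.pT (f4076 C)
    (C.pH [12, 35, 50, 83] [26, 45, 89, 105, 110, 122] (by decide +kernel) (C.pNil _ _)))
    (C.pH [12, 35, 50, 83] [11, 46, 51, 86, 91, 120] (by decide +kernel)
    (C.pT (f4082 C)
    (C.pH [12, 35, 50, 83] [35, 49, 70, 105, 121] (by decide +kernel) (C.pNil _ _))))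
    (C.loop_of_one (relLoop0 C) _ _)

theorem f4084 : C.T (v16 C) [22, 41, 81, 96, 109, 123] (v12 C) [26, 45, 89, 105, 110, 122] :=
  C.flip (f4083 C)

theorem f4085 : C.S (v10 C) [18, 30, 59, 73] :=
  C.stMul (f1699 C) (f1714 C) _ (by decide +kernel)

theorem f4086 : C.T (v10 C) [25, 31, 93, 110, 122] (v14 C) [9, 42, 50, 89, 90, 109, 124] :=
  C.conv (f2527 C) (f4085 C) (f4085 C) _ [148, 149, 164, 174, 178] _ (by decide +kernel) (by decide +kernel) (by decide +kernel)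

theorem f4087 : C.T (v10 C) [17, 46, 54, 83, 97, 109, 123] (v16 C) [9, 29, 49, 81, 96, 110, 119] :=
  C.conv (f3792 C) (f4068 C) (f4070 C) _ [148, 151, 170, 175] _ (by decide +kernel) (by decide +kernel) (by decide +kernel)

theorem f4088 : C.T (v16 C) [9, 29, 49, 81, 96, 110, 119] (v10 C) [17, 46, 54, 83, 97, 109, 123] :=
  C.flip (f4087 C)

theorem f4089 : C.T (v14 C) [17, 55, 88, 107, 110, 114] (v16 C) [25, 34, 50, 81, 121] :=
  C.closeT (p := (v10 C)) (pu := [25, 31, 93, 110, 122])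
    (C.pT (f4086 C)
    (C.pH [12, 35, 50, 83] [17, 55, 88, 107, 110, 114] (by decide +kernel) (C.pNil _ _)))
    (C.pH [12, 35, 50, 83] [9, 29, 49, 81, 96, 110, 119] (by decide +kernel)
    (C.pT (f4088 C)
    (C.pH [12, 35, 50, 83] [25, 31, 93, 110, 122] (by decide +kernel) (C.pNil _ _))))
    (C.loop_of_one (relLoop0 C) _ _)

theorem f4090 : C.T (v16 C) [25, 34, 50, 81, 121] (v14 C) [17, 55, 88, 107, 110, 114] :=
  C.flip (f4089 C)

theorem f4091 : C.T (v10 C) [8, 27, 63, 75, 103, 109, 124] (v15 C) [4, 44, 62, 75, 93, 109, 124] :=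
  C.conv (f3132 C) (f3439 C) (f3439 C) _ [133, 162, 168, 174, 178] _ (by decide +kernel) (by decide +kernel) (by decide +kernel)

theorem f4092 : C.T (v10 C) [21, 45, 49, 74, 104, 110, 123] (v16 C) [18, 37, 67, 76, 105, 109, 115] :=
  C.conv (f3818 C) (f4078 C) (f4077 C) _ [158, 166, 175] _ (by decide +kernel) (by decide +kernel) (by decide +kernel)

theorem f4093 : C.T (v16 C) [18, 37, 67, 76, 105, 109, 115] (v10 C) [21, 45, 49, 74, 104, 110, 123] :=
  C.flip (f4092 C)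

theorem f4094 : C.T (v15 C) [13, 42, 55, 75, 93, 109, 124] (v16 C) [18, 27, 66, 89, 108, 110, 120] :=
  C.closeT (p := (v10 C)) (pu := [8, 27, 63, 75, 103, 109, 124])
    (C.pT (f4091 C)
    (C.pH [12, 35, 50, 83] [13, 42, 55, 75, 93, 109, 124] (by decide +kernel) (C.pNil _ _)))
    (C.pH [12, 35, 50, 83] [18, 37, 67, 76, 105, 109, 115] (by decide +kernel)
    (C.pT (f4093 C)
    (C.pH [12, 35, 50, 83] [8, 27, 63, 75, 103, 109, 124] (by decide +kernel) (C.pNil _ _))))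
    (C.loop_of_one (relLoop0 C) _ _)

theorem f4095 : C.T (v16 C) [18, 27, 66, 89, 108, 110, 120] (v15 C) [13, 42, 55, 75, 93, 109, 124] :=
  C.flip (f4094 C)

theorem f4096 : C.T (v10 C) [10, 31, 55, 83, 93, 110] (v16 C) [19, 32, 73, 100, 110] :=
  C.conv (f3487 C) (f3852 C) (f3852 C) _ [136, 161, 166, 178] _ (by decide +kernel) (by decide +kernel) (by decide +kernel)

theorem f4097 : C.S (v10 C) [18, 35, 59, 78, 91, 110, 122] :=
  C.stMul (f1722 C) (f1699 C) _ (by decide +kernel)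

theorem f4098 : C.T (v10 C) [8, 45, 64, 87, 104, 110, 116] (v16 C) [13, 43, 66, 82, 100, 122] :=
  C.conv (f3487 C) (f3852 C) (f4097 C) _ [147, 156, 168, 172, 177] _ (by decide +kernel) (by decide +kernel) (by decide +kernel)

theorem f4099 : C.T (v16 C) [13, 43, 66, 82, 100, 122] (v10 C) [8, 45, 64, 87, 104, 110, 116] :=
  C.flip (f4098 C)

theorem f4100 : C.T (v16 C) [24, 37, 63, 82, 107, 110, 121] (v16 C) [4, 41, 66, 82, 100, 122] :=
  C.closeT (p := (v10 C)) (pu := [10, 31, 55, 83, 93, 110])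
    (C.pT (f4096 C)
    (C.pH [12, 35, 50, 83] [24, 37, 63, 82, 107, 110, 121] (by decide +kernel) (C.pNil _ _)))
    (C.pH [12, 35, 50, 83] [13, 43, 66, 82, 100, 122] (by decide +kernel)
    (C.pT (f4099 C)
    (C.pH [12, 35, 50, 83] [10, 31, 55, 83, 93, 110] (by decide +kernel) (C.pNil _ _))))
    (C.loop_of_one (relLoop0 C) _ _)

theorem f4104 : C.T (v10 C) [8, 46, 66, 78, 99, 109, 112] (v4 C) [19, 41, 65, 78, 107, 110] :=
  C.conv (f1797 C) (f1853 C) (f1853 C) _ [129, 155, 167, 171, 177] _ (by decide +kernel) (by decide +kernel) (by decide +kernel)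

theorem f4105 : C.S (v4 C) [13, 28, 60, 83, 108, 110, 119] :=
  C.stMul (f421 C) (f693 C) _ (by decide +kernel)

theorem f4106 : C.S (v4 C) [17, 45, 53, 80, 99, 109, 123] :=
  C.stMul (f407 C) (f4105 C) _ (by decide +kernel)

theorem f4107 : C.S (v4 C) [23, 41, 49, 78, 91, 109] :=
  C.stMul (f693 C) (f421 C) _ (by decide +kernel)

theorem f4108 : C.S (v4 C) [26, 36, 62, 77, 94, 121] :=
  C.stMul (f421 C) (f4107 C) _ (by decide +kernel)

theorem f4109 : C.T (v4 C) [26, 46, 63, 78, 106, 109, 114] (v16 C) [15, 39, 54, 75, 93, 119] :=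
  C.conv (f3935 C) (f4106 C) (f4108 C) _ [132, 156, 170, 173, 177] _ (by decide +kernel) (by decide +kernel) (by decide +kernel)

theorem f4110 : C.S (v10 C) [22, 34, 56, 72, 106, 110, 125] :=
  C.stMul (f1704 C) (f1699 C) _ (by decide +kernel)

theorem f4111 : C.T (v10 C) [5, 46, 52, 76, 106] (v16 C) [25, 48, 53, 83, 99, 112] :=
  C.conv (f3792 C) (f4068 C) (f4110 C) _ [134, 149, 167, 174, 177] _ (by decide +kernel) (by decide +kernel) (by decide +kernel)

theorem f4112 : C.T (v16 C) [25, 48, 53, 83, 99, 112] (v10 C) [5, 46, 52, 76, 106] :=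
  C.flip (f4111 C)

theorem f4113 : C.T (v16 C) [9, 42, 61, 93, 125] (v16 C) [4, 56, 85, 93, 109, 125] :=
  C.closeT (p := (v10 C)) (pu := [8, 46, 66, 78, 99, 109, 112])
    (C.pT (f4104 C)
    (C.pH [8, 30, 65, 84, 94, 117] [26, 46, 63, 78, 106, 109, 114] (by decide +kernel)
    (C.pT (f4109 C)
    (C.pH [26, 38, 54, 89, 90, 113] [9, 42, 61, 93, 125] (by decide +kernel) (C.pNil _ _)))))
    (C.pH [8, 30, 65, 84, 94, 117] [25, 48, 53, 83, 99, 112] (by decide +kernel)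
    (C.pT (f4112 C)
    (C.pH [26, 38, 54, 89, 90, 113] [8, 46, 66, 78, 99, 109, 112] (by decide +kernel) (C.pNil _ _))))
    (C.loop_of_one (relLoop1 C) _ _)

theorem f4120 : C.T (v10 C) [20, 31, 65, 74, 92, 120] (v14 C) [22, 46, 64, 73, 97, 114] :=
  C.conv (f2527 C) (f4085 C) (f4085 C) _ [132, 159, 170, 174] _ (by decide +kernel) (by decide +kernel) (by decide +kernel)

theorem f4121 : C.T (v14 C) [6, 45, 65, 71, 98, 115] (v14 C) [10, 48, 60, 89, 90, 119] :=
  C.conv (f2558 C) (f2457 C) (f2457 C) _ [134, 151, 168, 171, 177] _ (by decide +kernel) (by decide +kernel) (by decide +kernel)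

theorem f4122 : C.S (v10 C) [22, 29, 89, 106, 109, 124] :=
  C.stMul (f1714 C) (f1709 C) _ (by decide +kernel)

theorem f4123 : C.T (v10 C) [17, 42, 67, 84, 101, 109, 124] (v16 C) [11, 57, 83, 98, 120] :=
  C.conv (f3913 C) (f4122 C) (f4122 C) _ [127, 162, 174, 178] _ (by decide +kernel) (by decide +kernel) (by decide +kernel)

theorem f4124 : C.T (v16 C) [11, 57, 83, 98, 120] (v10 C) [17, 42, 67, 84, 101, 109, 124] :=
  C.flip (f4123 C)

theorem f4125 : C.T (v14 C) [21, 47, 56, 107, 109, 122] (v16 C) [13, 30, 57, 77, 98, 110, 120] :=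
  C.closeT (p := (v10 C)) (pu := [20, 31, 65, 74, 92, 120])
    (C.pT (f4120 C)
    (C.pH [8, 30, 65, 84, 94, 117] [6, 45, 65, 71, 98, 115] (by decide +kernel)
    (C.pT (f4121 C)
    (C.pH [26, 38, 54, 89, 90, 113] [21, 47, 56, 107, 109, 122] (by decide +kernel) (C.pNil _ _)))))
    (C.pH [8, 30, 65, 84, 94, 117] [11, 57, 83, 98, 120] (by decide +kernel)
    (C.pT (f4124 C)
    (C.pH [26, 38, 54, 89, 90, 113] [20, 31, 65, 74, 92, 120] (by decide +kernel) (C.pNil _ _))))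
    (C.loop_of_one (relLoop1 C) _ _)

theorem f4126 : C.T (v16 C) [13, 30, 57, 77, 98, 110, 120] (v14 C) [21, 47, 56, 107, 109, 122] :=
  C.flip (f4125 C)

theorem f4127 : C.T (v8 C) [17] (v17 C) [] :=
  C.defn _ _

theorem f4128 : C.S (v8 C) [11, 65, 85, 105, 121] :=
  C.stMul (f1532 C) (f1529 C) _ (by decide +kernel)

theorem f4129 : C.S (v8 C) [27, 69, 82, 90, 120] :=
  C.stMul (f1546 C) (f1526 C) _ (by decide +kernel)

theorem f4130 : C.S (v8 C) [27, 69, 82, 90, 120] :=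
  C.stInv (f4129 C) _ (by decide +kernel)

theorem f4131 : C.S (v8 C) [11, 44, 64, 73, 97, 110, 123] :=
  C.stMul (f4130 C) (f4128 C) _ (by decide +kernel)

theorem f4132 : C.S (v17 C) [20, 58, 85, 99, 109, 116] :=
  C.transfer (f4127 C) (f4131 C) [142, 163, 164, 171, 177] _ (by decide +kernel) (by decide +kernel) (by decide +kernel)

theorem f4133 : C.S (v8 C) [24, 34, 69, 85, 105, 121] :=
  C.stMul (f1568 C) (f4129 C) _ (by decide +kernel)

theorem f4134 : C.S (v8 C) [28, 53, 73, 93, 109, 118] :=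
  C.stMul (f1579 C) (f1552 C) _ (by decide +kernel)

theorem f4135 : C.S (v8 C) [32, 65, 72, 105, 110, 113] :=
  C.stInv (f4134 C) _ (by decide +kernel)

theorem f4136 : C.S (v8 C) [22, 27, 69, 85, 96, 110] :=
  C.stMul (f4135 C) (f4133 C) _ (by decide +kernel)

theorem f4137 : C.S (v17 C) [20, 64, 80, 92, 113] :=
  C.transfer (f4127 C) (f4136 C) [142, 163, 169, 176, 178] _ (by decide +kernel) (by decide +kernel) (by decide +kernel)

theorem f4138 : C.T (v17 C) [] (v8 C) [17] :=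
  C.flip (f4127 C)

theorem f4139 : C.T (v7 C) [20, 29, 60, 86, 102, 110, 120] (v8 C) [43, 82, 110, 124] :=
  C.conv (f1523 C) (f1507 C) (f1507 C) _ [160, 165, 171, 177] _ (by decide +kernel) (by decide +kernel) (by decide +kernel)

theorem f4140 : C.S (v8 C) [20, 47, 84, 98, 111] :=
  C.stMul (f1546 C) (f1529 C) _ (by decide +kernel)

theorem f4141 : C.S (v8 C) [18, 41, 52, 71, 94, 110, 120] :=
  C.stMul (f1552 C) (f4140 C) _ (by decide +kernel)

theorem f4142 : C.T (v8 C) [8, 38, 64, 84, 99, 110, 125] (v17 C) [23, 35, 67, 85, 108, 109, 113] :=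
  C.conv (f4127 C) (f1598 C) (f4141 C) _ [145, 159, 175, 178] _ (by decide +kernel) (by decide +kernel) (by decide +kernel)

theorem f4143 : C.S (v7 C) [11, 40, 59, 82, 99, 110, 111] :=
  C.stMul (f1464 C) (f1459 C) _ (by decide +kernel)

theorem f4144 : C.S (v7 C) [19, 36, 55, 80, 104, 110, 114] :=
  C.stMul (f1484 C) (f4143 C) _ (by decide +kernel)

theorem f4145 : C.S (v7 C) [26, 30, 71, 95, 110, 114] :=
  C.stMul (f1476 C) (f4144 C) _ (by decide +kernel)

theorem f4146 : C.S (v7 C) [26, 27, 67, 89, 95, 110, 120] :=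
  C.stMul (f1497 C) (f4145 C) _ (by decide +kernel)

theorem f4147 : C.T (v7 C) [17, 34, 69, 87, 91, 110, 118] (v15 C) [46, 49, 84, 108, 117] :=
  C.conv (f3377 C) (f3417 C) (f4146 C) _ [137, 149, 171] _ (by decide +kernel) (by decide +kernel) (by decide +kernel)

theorem f4148 : C.T (v15 C) [46, 49, 84, 108, 117] (v7 C) [17, 34, 69, 87, 91, 110, 118] :=
  C.flip (f4147 C)

theorem f4149 : C.T (v17 C) [7, 45, 59, 74, 94, 112] (v15 C) [8, 37, 59, 106, 110, 115] :=
  C.closeT (p := (v7 C)) (pu := [20, 29, 60, 86, 102, 110, 120])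
    (C.pT (f4139 C)
    (C.pH [8, 30, 65, 84, 94, 117] [8, 38, 64, 84, 99, 110, 125] (by decide +kernel)
    (C.pT (f4142 C)
    (C.pH [26, 38, 54, 89, 90, 113] [7, 45, 59, 74, 94, 112] (by decide +kernel) (C.pNil _ _)))))
    (C.pH [8, 30, 65, 84, 94, 117] [46, 49, 84, 108, 117] (by decide +kernel)
    (C.pT (f4148 C)
    (C.pH [26, 38, 54, 89, 90, 113] [20, 29, 60, 86, 102, 110, 120] (by decide +kernel) (C.pNil _ _))))
    (C.loop_of_one (relLoop1 C) _ _)

theorem f4150 : C.T (v15 C) [8, 37, 59, 106, 110, 115] (v17 C) [7, 45, 59, 74, 94, 112] :=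
  C.flip (f4149 C)

theorem f4151 : C.T (v7 C) [19, 46, 56, 76, 100, 110, 125] (v15 C) [23, 46, 54, 87, 101, 109] :=
  C.conv (f3377 C) (f3417 C) (f3417 C) _ [131, 163, 170, 176, 177] _ (by decide +kernel) (by decide +kernel) (by decide +kernel)

theorem f4152 : C.S (v15 C) [25, 47, 66, 86, 107, 124] :=
  C.stMul (f2569 C) (f2565 C) _ (by decide +kernel)

theorem f4153 : C.S (v15 C) [20, 39, 55, 88, 95, 110, 125] :=
  C.stMul (f2581 C) (f2565 C) _ (by decide +kernel)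

theorem f4154 : C.T (v15 C) [10, 39, 55, 85, 108, 109, 120] (v17 C) [26, 32, 68, 75, 98, 109, 113] :=
  C.conv (f4150 C) (f4152 C) (f4153 C) _ [136, 156, 168, 174, 178] _ (by decide +kernel) (by decide +kernel) (by decide +kernel)

theorem f4155 : C.S (v7 C) [7, 41, 61, 71, 94, 109, 115] :=
  C.stMul (f1497 C) (f1464 C) _ (by decide +kernel)

theorem f4156 : C.S (v7 C) [11, 45, 70, 101, 109, 119] :=
  C.stMul (f1459 C) (f4155 C) _ (by decide +kernel)

theorem f4157 : C.S (v7 C) [7, 29, 51, 83, 98, 110, 114] :=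
  C.stMul (f1460 C) (f4156 C) _ (by decide +kernel)

theorem f4158 : C.S (v7 C) [8, 56, 89, 101, 122] :=
  C.stMul (f1484 C) (f4157 C) _ (by decide +kernel)

theorem f4159 : C.T (v7 C) [22, 45, 62, 83, 90, 109, 113] (v15 C) [13, 45, 50, 83, 91, 116] :=
  C.conv (f3377 C) (f3417 C) (f4158 C) _ [137, 154, 169, 171, 178] _ (by decide +kernel) (by decide +kernel) (by decide +kernel)

theorem f4160 : C.T (v15 C) [13, 45, 50, 83, 91, 116] (v7 C) [22, 45, 62, 83, 90, 109, 113] :=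
  C.flip (f4159 C)

theorem f4161 : C.T (v17 C) [16, 29, 68, 77, 91, 111] (v15 C) [6, 63, 71, 107, 113] :=
  C.closeT (p := (v7 C)) (pu := [19, 46, 56, 76, 100, 110, 125])
    (C.pT (f4151 C)
    (C.pH [8, 30, 65, 84, 94, 117] [10, 39, 55, 85, 108, 109, 120] (by decide +kernel)
    (C.pT (f4154 C)
    (C.pH [26, 38, 54, 89, 90, 113] [16, 29, 68, 77, 91, 111] (by decide +kernel) (C.pNil _ _)))))
    (C.pH [8, 30, 65, 84, 94, 117] [13, 45, 50, 83, 91, 116] (by decide +kernel)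
    (C.pT (f4160 C)
    (C.pH [26, 38, 54, 89, 90, 113] [19, 46, 56, 76, 100, 110, 125] (by decide +kernel) (C.pNil _ _))))
    (C.loop_of_one (relLoop1 C) _ _)

theorem f4162 : C.T (v15 C) [6, 63, 71, 107, 113] (v17 C) [16, 29, 68, 77, 91, 111] :=
  C.flip (f4161 C)

theorem f4163 : C.T (v7 C) [26, 48, 57, 77, 96, 109, 122] (v8 C) [8, 43, 57, 84, 105, 117] :=
  C.conv (f1523 C) (f1507 C) (f1507 C) _ [130, 150, 164, 174, 178] _ (by decide +kernel) (by decide +kernel) (by decide +kernel)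

theorem f4164 : C.S (v8 C) [27, 69, 82, 90, 120] :=
  C.stMul (f1546 C) (f1526 C) _ (by decide +kernel)

theorem f4165 : C.S (v8 C) [12, 29, 58, 77, 92, 110, 112] :=
  C.stMul (f1537 C) (f4164 C) _ (by decide +kernel)

theorem f4166 : C.S (v8 C) [18, 41, 53, 81, 99, 125] :=
  C.stMul (f1537 C) (f4165 C) _ (by decide +kernel)

theorem f4167 : C.T (v8 C) [11, 35, 49, 90, 109, 117] (v17 C) [11, 34, 68, 80, 108, 122] :=
  C.conv (f4127 C) (f1598 C) (f4166 C) _ [133, 160, 177] _ (by decide +kernel) (by decide +kernel) (by decide +kernel)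

theorem f4168 : C.S (v7 C) [28, 52, 73, 91, 110, 119] :=
  C.stMul (f1468 C) (f1460 C) _ (by decide +kernel)

theorem f4169 : C.S (v7 C) [9, 31, 64, 77, 92, 110, 113] :=
  C.stMul (f1497 C) (f4168 C) _ (by decide +kernel)

theorem f4170 : C.S (v7 C) [10, 45, 59, 82, 108, 121] :=
  C.stMul (f1459 C) (f4169 C) _ (by decide +kernel)

theorem f4171 : C.S (v7 C) [45, 65, 88, 108, 117] :=
  C.stMul (f1484 C) (f4170 C) _ (by decide +kernel)

theorem f4172 : C.S (v7 C) [13, 46, 55, 78, 103, 117] :=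
  C.stMul (f1476 C) (f4171 C) _ (by decide +kernel)

theorem f4173 : C.T (v7 C) [19, 61, 85, 96, 117] (v15 C) [14, 33, 68, 88, 91, 120] :=
  C.conv (f3377 C) (f3417 C) (f4172 C) _ [132, 151, 169, 172, 177] _ (by decide +kernel) (by decide +kernel) (by decide +kernel)

theorem f4174 : C.T (v15 C) [14, 33, 68, 88, 91, 120] (v7 C) [19, 61, 85, 96, 117] :=
  C.flip (f4173 C)

theorem f4175 : C.T (v17 C) [7, 38, 58, 82, 94, 119] (v15 C) [12, 35, 64, 75, 91, 114] :=
  C.closeT (p := (v7 C)) (pu := [26, 48, 57, 77, 96, 109, 122])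
    (C.pT (f4163 C)
    (C.pH [26, 38, 54, 89, 90, 113] [11, 35, 49, 90, 109, 117] (by decide +kernel)
    (C.pT (f4167 C)
    (C.pH [8, 30, 65, 84, 94, 117] [7, 38, 58, 82, 94, 119] (by decide +kernel) (C.pNil _ _)))))
    (C.pH [26, 38, 54, 89, 90, 113] [14, 33, 68, 88, 91, 120] (by decide +kernel)
    (C.pT (f4174 C)
    (C.pH [8, 30, 65, 84, 94, 117] [26, 48, 57, 77, 96, 109, 122] (by decide +kernel) (C.pNil _ _))))
    (C.loop_of_one (relLoop2 C) _ _)

theorem f4176 : C.T (v15 C) [12, 35, 64, 75, 91, 114] (v17 C) [7, 38, 58, 82, 94, 119] :=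
  C.flip (f4175 C)

theorem f4177 : C.T (v7 C) [25, 30, 76, 94, 109, 125] (v9 C) [9, 36, 51, 72, 96, 109, 118] :=
  C.conv (f1629 C) (f1631 C) (f1631 C) _ [127, 150, 172, 177] _ (by decide +kernel) (by decide +kernel) (by decide +kernel)

theorem f4178 : C.S (v7 C) [10, 58, 74, 96, 110] :=
  C.stMul (f1497 C) (f1459 C) _ (by decide +kernel)

theorem f4179 : C.S (v7 C) [24, 29, 60, 86, 105, 119] :=
  C.stMul (f1460 C) (f4178 C) _ (by decide +kernel)

theorem f4180 : C.S (v7 C) [11, 44, 56, 75, 108, 109, 119] :=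
  C.stMul (f1472 C) (f4179 C) _ (by decide +kernel)

theorem f4181 : C.S (v7 C) [19, 47, 58, 81, 104, 110, 122] :=
  C.stMul (f1484 C) (f4180 C) _ (by decide +kernel)

theorem f4182 : C.T (v7 C) [4, 48, 69, 75, 91, 109, 115] (v15 C) [4, 35, 55, 74, 90, 113] :=
  C.conv (f3377 C) (f3417 C) (f4181 C) _ [145, 154, 169, 178] _ (by decide +kernel) (by decide +kernel) (by decide +kernel)

theorem f4183 : C.T (v15 C) [4, 35, 55, 74, 90, 113] (v7 C) [4, 48, 69, 75, 91, 109, 115] :=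
  C.flip (f4182 C)

theorem f4184 : C.S (v15 C) [24, 47, 64, 83, 99, 109, 111] :=
  C.stMul (f2581 C) (f2569 C) _ (by decide +kernel)

theorem f4185 : C.T (v15 C) [6, 50, 75, 91, 110, 117] (v17 C) [4, 43, 62, 86, 105] :=
  C.conv (f4162 C) (f2581 C) (f4184 C) _ [130, 160, 167, 171, 178] _ (by decide +kernel) (by decide +kernel) (by decide +kernel)

theorem f4186 : C.T (v17 C) [4, 43, 62, 86, 105] (v15 C) [6, 50, 75, 91, 110, 117] :=
  C.flip (f4185 C)

theorem f4187 : C.T (v9 C) [22, 38, 57, 82, 94, 110, 116] (v17 C) [18, 28, 67, 71, 93, 109, 116] :=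
  C.closeT (p := (v7 C)) (pu := [25, 30, 76, 94, 109, 125])
    (C.pT (f4177 C)
    (C.pH [26, 38, 54, 89, 90, 113] [22, 38, 57, 82, 94, 110, 116] (by decide +kernel) (C.pNil _ _)))
    (C.pH [8, 30, 65, 84, 94, 117] [4, 43, 62, 86, 105] (by decide +kernel)
    (C.pT (f4186 C)
    (C.pH [26, 38, 54, 89, 90, 113] [4, 35, 55, 74, 90, 113] (by decide +kernel)
    (C.pT (f4183 C)
    (C.pH [8, 30, 65, 84, 94, 117] [25, 30, 76, 94, 109, 125] (by decide +kernel) (C.pNil _ _))))))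
    (C.loop_of_one (relLoop2 C) _ _)

theorem f4188 : C.T (v17 C) [18, 28, 67, 71, 93, 109, 116] (v9 C) [22, 38, 57, 82, 94, 110, 116] :=
  C.flip (f4187 C)

theorem f4189 : C.T (v7 C) [23, 28, 66, 77, 99, 110, 113] (v9 C) [12, 48, 69, 89, 94, 117] :=
  C.conv (f1629 C) (f1631 C) (f1631 C) _ [138, 162, 170, 176] _ (by decide +kernel) (by decide +kernel) (by decide +kernel)

theorem f4190 : C.S (v7 C) [7, 41, 61, 71, 94, 109, 115] :=
  C.stMul (f1497 C) (f1464 C) _ (by decide +kernel)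

theorem f4191 : C.S (v7 C) [8, 43, 53, 76, 104, 110, 124] :=
  C.stMul (f1484 C) (f4190 C) _ (by decide +kernel)

theorem f4192 : C.S (v7 C) [8, 30, 60, 83, 96, 120] :=
  C.stMul (f1497 C) (f4191 C) _ (by decide +kernel)

theorem f4193 : C.S (v7 C) [5, 28, 59, 88, 93, 109, 114] :=
  C.stMul (f1464 C) (f4192 C) _ (by decide +kernel)

theorem f4194 : C.T (v7 C) [20, 28, 55, 74, 110, 113] (v9 C) [8, 31, 77, 102, 110, 120] :=
  C.conv (f1629 C) (f1631 C) (f4193 C) _ [140, 163, 165, 177] _ (by decide +kernel) (by decide +kernel) (by decide +kernel)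

theorem f4195 : C.T (v9 C) [8, 31, 77, 102, 110, 120] (v7 C) [20, 28, 55, 74, 110, 113] :=
  C.flip (f4194 C)

theorem f4196 : C.S (v9 C) [21, 32, 63, 85, 106, 110, 120] :=
  C.stMul (f1624 C) (f1620 C) _ (by decide +kernel)

theorem f4197 : C.S (v9 C) [12, 29, 63, 103, 119] :=
  C.stMul (f1620 C) (f4196 C) _ (by decide +kernel)

theorem f4198 : C.S (v9 C) [22, 47, 63, 80, 93, 112] :=
  C.stMul (f1615 C) (f4196 C) _ (by decide +kernel)

theorem f4199 : C.T (v9 C) [5, 33, 65, 86, 91, 123] (v17 C) [14, 48, 54, 84, 95, 120] :=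
  C.conv (f4187 C) (f4197 C) (f4198 C) _ [137, 157, 168, 174] _ (by decide +kernel) (by decide +kernel) (by decide +kernel)

theorem f4200 : C.T (v17 C) [14, 48, 54, 84, 95, 120] (v9 C) [5, 33, 65, 86, 91, 123] :=
  C.flip (f4199 C)

theorem f4201 : C.T (v9 C) [14, 28, 58, 83, 105, 110, 123] (v17 C) [26, 47, 49, 80, 92, 109, 116] :=
  C.closeT (p := (v7 C)) (pu := [23, 28, 66, 77, 99, 110, 113])
    (C.pT (f4189 C)
    (C.pH [26, 38, 54, 89, 90, 113] [14, 28, 58, 83, 105, 110, 123] (by decide +kernel) (C.pNil _ _)))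
    (C.pH [8, 30, 65, 84, 94, 117] [14, 48, 54, 84, 95, 120] (by decide +kernel)
    (C.pT (f4200 C)
    (C.pH [26, 38, 54, 89, 90, 113] [8, 31, 77, 102, 110, 120] (by decide +kernel)
    (C.pT (f4195 C)
    (C.pH [8, 30, 65, 84, 94, 117] [23, 28, 66, 77, 99, 110, 113] (by decide +kernel) (C.pNil _ _))))))
    (C.loop_of_one (relLoop2 C) _ _)

theorem f4202 : C.T (v17 C) [26, 47, 49, 80, 92, 109, 116] (v9 C) [14, 28, 58, 83, 105, 110, 123] :=
  C.flip (f4201 C)

theorem f4203 : C.T (v7 C) [26, 48, 69, 93, 110, 116] (v9 C) [5, 29, 49, 79, 101, 109, 111] :=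
  C.conv (f1629 C) (f1631 C) (f1631 C) _ [133, 162, 169, 177] _ (by decide +kernel) (by decide +kernel) (by decide +kernel)

theorem f4204 : C.S (v9 C) [4, 48, 53, 80, 99, 115] :=
  C.stMul (f1615 C) (f1624 C) _ (by decide +kernel)

theorem f4205 : C.S (v9 C) [18, 29, 52, 87, 96, 125] :=
  C.stMul (f1620 C) (f4204 C) _ (by decide +kernel)

theorem f4206 : C.T (v9 C) [8, 36, 50, 87, 92, 110, 125] (v17 C) [8, 47, 52, 83, 94, 122] :=
  C.conv (f4201 C) (f1615 C) (f4205 C) _ [140, 151, 169, 172, 177] _ (by decide +kernel) (by decide +kernel) (by decide +kernel)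

theorem f4207 : C.S (v7 C) [20, 48, 51, 80, 93, 117] :=
  C.stMul (f1484 C) (f1472 C) _ (by decide +kernel)

theorem f4208 : C.S (v7 C) [9, 48, 58, 80, 119] :=
  C.stMul (f1476 C) (f4207 C) _ (by decide +kernel)

theorem f4209 : C.S (v7 C) [47, 54, 84, 103, 118] :=
  C.stMul (f1497 C) (f4208 C) _ (by decide +kernel)

theorem f4210 : C.S (v7 C) [13, 40, 54, 76, 108, 124] :=
  C.stMul (f1476 C) (f4209 C) _ (by decide +kernel)

theorem f4211 : C.T (v7 C) [19, 56, 83, 101, 118] (v15 C) [21, 35, 52, 72, 101, 109, 122] :=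
  C.conv (f3377 C) (f3417 C) (f4210 C) _ [129, 152, 168, 173] _ (by decide +kernel) (by decide +kernel) (by decide +kernel)

theorem f4212 : C.T (v15 C) [21, 35, 52, 72, 101, 109, 122] (v7 C) [19, 56, 83, 101, 118] :=
  C.flip (f4211 C)

theorem f4213 : C.T (v17 C) [45, 57, 74, 105, 109, 120] (v15 C) [10, 28, 53, 70, 96, 113] :=
  C.closeT (p := (v7 C)) (pu := [26, 48, 69, 93, 110, 116])
    (C.pT (f4203 C)
    (C.pH [26, 38, 54, 89, 90, 113] [8, 36, 50, 87, 92, 110, 125] (by decide +kernel)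
    (C.pT (f4206 C)
    (C.pH [8, 30, 65, 84, 94, 117] [45, 57, 74, 105, 109, 120] (by decide +kernel) (C.pNil _ _)))))
    (C.pH [26, 38, 54, 89, 90, 113] [21, 35, 52, 72, 101, 109, 122] (by decide +kernel)
    (C.pT (f4212 C)
    (C.pH [8, 30, 65, 84, 94, 117] [26, 48, 69, 93, 110, 116] (by decide +kernel) (C.pNil _ _))))
    (C.loop_of_one (relLoop2 C) _ _)

theorem f4214 : C.T (v15 C) [10, 28, 53, 70, 96, 113] (v17 C) [45, 57, 74, 105, 109, 120] :=
  C.flip (f4213 C)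

theorem f4215 : C.T (v7 C) [17, 30, 65, 88, 95, 110, 111] (v15 C) [13, 43, 69, 72, 102, 115] :=
  C.conv (f3377 C) (f3417 C) (f3417 C) _ [134, 162, 173, 177] _ (by decide +kernel) (by decide +kernel) (by decide +kernel)

theorem f4216 : C.S (v15 C) [20, 39, 55, 88, 95, 110, 125] :=
  C.stMul (f2581 C) (f2565 C) _ (by decide +kernel)

theorem f4217 : C.T (v15 C) [23, 44, 61, 89, 93, 116] (v17 C) [17, 44, 53, 86, 96, 124] :=
  C.conv (f4214 C) (f4216 C) (f2652 C) _ [139, 165, 171] _ (by decide +kernel) (by decide +kernel) (by decide +kernel)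

theorem f4218 : C.S (v7 C) [20, 38, 57, 73, 94, 121] :=
  C.stMul (f1484 C) (f1497 C) _ (by decide +kernel)

theorem f4219 : C.S (v7 C) [9, 38, 57, 73, 104, 109, 121] :=
  C.stMul (f1476 C) (f4218 C) _ (by decide +kernel)

theorem f4220 : C.S (v7 C) [34, 63, 85, 108, 110, 114] :=
  C.stMul (f1497 C) (f4219 C) _ (by decide +kernel)

theorem f4221 : C.S (v7 C) [20, 38, 57, 87, 97, 110, 116] :=
  C.stMul (f1459 C) (f4220 C) _ (by decide +kernel)

theorem f4222 : C.T (v7 C) [7, 46, 57, 88, 97, 110, 117] (v9 C) [26, 41, 69, 73, 102, 109, 125] :=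
  C.conv (f1629 C) (f1631 C) (f4221 C) _ [133, 150, 166] _ (by decide +kernel) (by decide +kernel) (by decide +kernel)

theorem f4223 : C.T (v9 C) [26, 41, 69, 73, 102, 109, 125] (v7 C) [7, 46, 57, 88, 97, 110, 117] :=
  C.flip (f4222 C)

theorem f4224 : C.T (v17 C) [22, 39, 65, 76, 108, 110, 123] (v9 C) [36, 55, 88, 101, 110, 118] :=
  C.closeT (p := (v7 C)) (pu := [17, 30, 65, 88, 95, 110, 111])
    (C.pT (f4215 C)
    (C.pH [26, 38, 54, 89, 90, 113] [23, 44, 61, 89, 93, 116] (by decide +kernel)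
    (C.pT (f4217 C)
    (C.pH [8, 30, 65, 84, 94, 117] [22, 39, 65, 76, 108, 110, 123] (by decide +kernel) (C.pNil _ _)))))
    (C.pH [26, 38, 54, 89, 90, 113] [26, 41, 69, 73, 102, 109, 125] (by decide +kernel)
    (C.pT (f4223 C)
    (C.pH [8, 30, 65, 84, 94, 117] [17, 30, 65, 88, 95, 110, 111] (by decide +kernel) (C.pNil _ _))))
    (C.loop_of_one (relLoop2 C) _ _)

theorem f4225 : C.T (v9 C) [36, 55, 88, 101, 110, 118] (v17 C) [22, 39, 65, 76, 108, 110, 123] :=
  C.flip (f4224 C)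

theorem f4226 : C.T (v8 C) [15, 34, 76, 90, 109, 115] (v9 C) [23, 35, 69, 84, 104, 109] :=
  C.conv (f1604 C) (f1598 C) (f1598 C) _ [145, 159, 167, 175, 177] _ (by decide +kernel) (by decide +kernel) (by decide +kernel)

theorem f4227 : C.S (v8 C) [25, 28, 57, 76, 102, 124] :=
  C.stMul (f1568 C) (f1526 C) _ (by decide +kernel)

theorem f4228 : C.S (v8 C) [14, 29, 62, 75, 102, 110, 119] :=
  C.stMul (f1537 C) (f4227 C) _ (by decide +kernel)

theorem f4229 : C.S (v8 C) [15, 43, 69, 84, 110, 124] :=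
  C.stMul (f1579 C) (f4228 C) _ (by decide +kernel)

theorem f4230 : C.T (v8 C) [15, 32, 62, 70, 106, 109, 115] (v17 C) [5, 38, 67, 81, 107, 109, 113] :=
  C.conv (f4127 C) (f1598 C) (f4229 C) _ [127, 151, 170, 174, 177] _ (by decide +kernel) (by decide +kernel) (by decide +kernel)

theorem f4231 : C.T (v17 C) [5, 38, 67, 81, 107, 109, 113] (v8 C) [15, 32, 62, 70, 106, 109, 115] :=
  C.flip (f4230 C)

theorem f4232 : C.T (v9 C) [38, 68, 83, 97, 109, 114] (v17 C) [5, 67, 81, 107, 109, 113] :=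
  C.closeT (p := (v8 C)) (pu := [15, 34, 76, 90, 109, 115])
    (C.pT (f4226 C)
    (C.pH [12, 35, 50, 83] [38, 68, 83, 97, 109, 114] (by decide +kernel) (C.pNil _ _)))
    (C.pH [12, 35, 50, 83] [5, 38, 67, 81, 107, 109, 113] (by decide +kernel)
    (C.pT (f4231 C)
    (C.pH [12, 35, 50, 83] [15, 34, 76, 90, 109, 115] (by decide +kernel) (C.pNil _ _))))
    (C.loop_of_one (relLoop0 C) _ _)

theorem f4233 : C.T (v17 C) [5, 67, 81, 107, 109, 113] (v9 C) [38, 68, 83, 97, 109, 114] :=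
  C.flip (f4232 C)

theorem f4234 : C.T (v8 C) [16, 28, 59, 82, 95, 112] (v10 C) [21, 35, 69, 73, 93, 110, 117] :=
  C.conv (f1695 C) (f1598 C) (f1598 C) _ [143, 159, 167, 171, 178] _ (by decide +kernel) (by decide +kernel) (by decide +kernel)

theorem f4235 : C.S (v8 C) [11, 48, 67, 71, 104, 110, 124] :=
  C.stMul (f1564 C) (f1529 C) _ (by decide +kernel)

theorem f4236 : C.S (v8 C) [15, 46, 49, 83, 120] :=
  C.stMul (f1568 C) (f4235 C) _ (by decide +kernel)

theorem f4237 : C.T (v8 C) [16, 27, 57, 74, 104, 109, 121] (v17 C) [31, 51, 75, 96, 109, 123] :=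
  C.conv (f4127 C) (f1598 C) (f4236 C) _ [152, 170, 178] _ (by decide +kernel) (by decide +kernel) (by decide +kernel)

theorem f4238 : C.T (v17 C) [31, 51, 75, 96, 109, 123] (v8 C) [16, 27, 57, 74, 104, 109, 121] :=
  C.flip (f4237 C)

theorem f4239 : C.T (v10 C) [8, 35, 65, 72, 101, 110, 114] (v17 C) [23, 38, 67, 70, 100, 109, 115] :=
  C.closeT (p := (v8 C)) (pu := [16, 28, 59, 82, 95, 112])
    (C.pT (f4234 C)
    (C.pH [12, 35, 50, 83] [8, 35, 65, 72, 101, 110, 114] (by decide +kernel) (C.pNil _ _)))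
    (C.pH [12, 35, 50, 83] [31, 51, 75, 96, 109, 123] (by decide +kernel)
    (C.pT (f4238 C)
    (C.pH [12, 35, 50, 83] [16, 28, 59, 82, 95, 112] (by decide +kernel) (C.pNil _ _))))
    (C.loop_of_one (relLoop0 C) _ _)

theorem f4240 : C.T (v17 C) [23, 38, 67, 70, 100, 109, 115] (v10 C) [8, 35, 65, 72, 101, 110, 114] :=
  C.flip (f4239 C)

theorem f4241 : C.T (v8 C) [15, 47, 55, 81, 100, 122] (v9 C) [21, 31, 64, 75, 106, 123] :=
  C.conv (f2109 C) (f1541 C) (f1541 C) _ [134, 158, 164, 175, 178] _ (by decide +kernel) (by decide +kernel) (by decide +kernel)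

theorem f4242 : C.S (v8 C) [28, 55, 71, 96, 114] :=
  C.stMul (f1579 C) (f1541 C) _ (by decide +kernel)

theorem f4243 : C.S (v8 C) [11, 30, 59, 76, 101, 109, 114] :=
  C.stMul (f1532 C) (f4242 C) _ (by decide +kernel)

theorem f4244 : C.S (v8 C) [12, 46, 51, 80, 106, 109, 112] :=
  C.stMul (f1546 C) (f4243 C) _ (by decide +kernel)

theorem f4245 : C.T (v8 C) [15, 34, 58, 78, 104, 123] (v17 C) [10, 36, 58, 73, 96, 109, 113] :=
  C.conv (f4127 C) (f1598 C) (f4244 C) _ [132, 155, 172] _ (by decide +kernel) (by decide +kernel) (by decide +kernel)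

theorem f4246 : C.T (v17 C) [10, 36, 58, 73, 96, 109, 113] (v8 C) [15, 34, 58, 78, 104, 123] :=
  C.flip (f4245 C)

theorem f4247 : C.T (v9 C) [8, 45, 66, 80, 107, 125] (v17 C) [8, 42, 59, 77, 103, 109, 112] :=
  C.closeT (p := (v8 C)) (pu := [15, 47, 55, 81, 100, 122])
    (C.pT (f4241 C)
    (C.pH [12, 35, 50, 83] [8, 45, 66, 80, 107, 125] (by decide +kernel) (C.pNil _ _)))
    (C.pH [12, 35, 50, 83] [10, 36, 58, 73, 96, 109, 113] (by decide +kernel)
    (C.pT (f4246 C)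
    (C.pH [12, 35, 50, 83] [15, 47, 55, 81, 100, 122] (by decide +kernel) (C.pNil _ _))))
    (C.loop_of_one (relLoop0 C) _ _)

theorem f4248 : C.T (v17 C) [8, 42, 59, 77, 103, 109, 112] (v9 C) [8, 45, 66, 80, 107, 125] :=
  C.flip (f4247 C)

theorem f4249 : C.T (v8 C) [5, 41, 69, 101, 110, 121] (v16 C) [14, 28, 66, 88, 94, 109, 125] :=
  C.conv (f3774 C) (f3876 C) (f3876 C) _ [142, 150, 166, 175] _ (by decide +kernel) (by decide +kernel) (by decide +kernel)

theorem f4250 : C.S (v8 C) [31, 56, 86, 90, 110, 124] :=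
  C.stMul (f1552 C) (f1529 C) _ (by decide +kernel)

theorem f4251 : C.S (v8 C) [20, 47, 59, 84, 103, 110, 120] :=
  C.stMul (f1546 C) (f4250 C) _ (by decide +kernel)

theorem f4252 : C.S (v8 C) [11, 48, 54, 73, 93, 110, 123] :=
  C.stMul (f1537 C) (f4251 C) _ (by decide +kernel)

theorem f4253 : C.S (v8 C) [31, 60, 71, 106, 109, 117] :=
  C.stMul (f1564 C) (f4252 C) _ (by decide +kernel)

theorem f4254 : C.T (v8 C) [5, 31, 61, 73, 105, 110, 113] (v17 C) [24, 39, 55, 85, 97, 124] :=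
  C.conv (f4127 C) (f1598 C) (f4253 C) _ [146, 154, 164, 173, 178] _ (by decide +kernel) (by decide +kernel) (by decide +kernel)

theorem f4255 : C.T (v17 C) [24, 39, 55, 85, 97, 124] (v8 C) [5, 31, 61, 73, 105, 110, 113] :=
  C.flip (f4254 C)

theorem f4256 : C.T (v16 C) [14, 56, 89, 94, 110, 124] (v17 C) [19, 31, 66, 82, 93, 109, 124] :=
  C.closeT (p := (v8 C)) (pu := [5, 41, 69, 101, 110, 121])
    (C.pT (f4249 C)
    (C.pH [12, 35, 50, 83] [14, 56, 89, 94, 110, 124] (by decide +kernel) (C.pNil _ _)))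
    (C.pH [12, 35, 50, 83] [24, 39, 55, 85, 97, 124] (by decide +kernel)
    (C.pT (f4255 C)
    (C.pH [12, 35, 50, 83] [5, 41, 69, 101, 110, 121] (by decide +kernel) (C.pNil _ _))))
    (C.loop_of_one (relLoop0 C) _ _)

theorem f4257 : C.T (v17 C) [19, 31, 66, 82, 93, 109, 124] (v16 C) [14, 56, 89, 94, 110, 124] :=
  C.flip (f4256 C)

theorem f4258 : C.T (v8 C) [8, 43, 52, 71, 91, 118] (v16 C) [5, 44, 54, 88, 100, 114] :=
  C.conv (f3774 C) (f3876 C) (f3876 C) _ [131, 162, 164, 175, 177] _ (by decide +kernel) (by decide +kernel) (by decide +kernel)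

theorem f4259 : C.S (v8 C) [11, 44, 56, 77, 100, 110, 116] :=
  C.stMul (f1537 C) (f1546 C) _ (by decide +kernel)

theorem f4260 : C.S (v8 C) [21, 41, 49, 75, 103, 117] :=
  C.stMul (f1579 C) (f4259 C) _ (by decide +kernel)

theorem f4261 : C.T (v8 C) [21, 43, 52, 74, 98, 110, 124] (v17 C) [6, 33, 57, 73, 98, 109] :=
  C.conv (f4127 C) (f1598 C) (f4260 C) _ [128, 151, 170, 172] _ (by decide +kernel) (by decide +kernel) (by decide +kernel)

theorem f4262 : C.T (v17 C) [6, 33, 57, 73, 98, 109] (v8 C) [21, 43, 52, 74, 98, 110, 124] :=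
  C.flip (f4261 C)

theorem f4263 : C.T (v16 C) [5, 31, 49, 80, 112] (v17 C) [24, 39, 67, 73, 98, 125] :=
  C.closeT (p := (v8 C)) (pu := [8, 43, 52, 71, 91, 118])
    (C.pT (f4258 C)
    (C.pH [12, 35, 50, 83] [5, 31, 49, 80, 112] (by decide +kernel) (C.pNil _ _)))
    (C.pH [12, 35, 50, 83] [6, 33, 57, 73, 98, 109] (by decide +kernel)
    (C.pT (f4262 C)
    (C.pH [12, 35, 50, 83] [8, 43, 52, 71, 91, 118] (by decide +kernel) (C.pNil _ _))))
    (C.loop_of_one (relLoop0 C) _ _)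

theorem f4264 : C.T (v17 C) [24, 39, 67, 73, 98, 125] (v16 C) [5, 31, 49, 80, 112] :=
  C.flip (f4263 C)

theorem f4265 : C.T (v8 C) [9, 35, 58, 80, 92, 109, 111] (v17 C) [22, 32, 53, 72, 104, 109, 122] :=
  C.conv (f4127 C) (f1598 C) (f1598 C) _ [144, 162, 166, 173, 177] _ (by decide +kernel) (by decide +kernel) (by decide +kernel)

theorem f4266 : C.S (v8 C) [12, 27, 69, 86, 90, 116] :=
  C.stMul (f1532 C) (f1526 C) _ (by decide +kernel)

theorem f4267 : C.S (v8 C) [7, 52, 78, 97, 114] :=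
  C.stMul (f1552 C) (f4266 C) _ (by decide +kernel)

theorem f4268 : C.S (v8 C) [22, 27, 53, 80, 93, 120] :=
  C.stMul (f1546 C) (f4267 C) _ (by decide +kernel)

theorem f4269 : C.T (v8 C) [25, 45, 52, 74, 100, 112] (v17 C) [11, 29, 62, 84, 103, 110, 120] :=
  C.conv (f4127 C) (f1598 C) (f4268 C) _ [133, 149, 170, 171] _ (by decide +kernel) (by decide +kernel) (by decide +kernel)

theorem f4270 : C.T (v17 C) [11, 29, 62, 84, 103, 110, 120] (v8 C) [25, 45, 52, 74, 100, 112] :=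
  C.flip (f4269 C)

theorem f4271 : C.T (v17 C) [11, 44, 56, 79, 93, 113] (v17 C) [22, 46, 62, 87, 102, 109, 112] :=
  C.closeT (p := (v8 C)) (pu := [9, 35, 58, 80, 92, 109, 111])
    (C.pT (f4265 C)
    (C.pH [12, 35, 50, 83] [11, 44, 56, 79, 93, 113] (by decide +kernel) (C.pNil _ _)))
    (C.pH [12, 35, 50, 83] [11, 29, 62, 84, 103, 110, 120] (by decide +kernel)
    (C.pT (f4270 C)
    (C.pH [12, 35, 50, 83] [9, 35, 58, 80, 92, 109, 111] (by decide +kernel) (C.pNil _ _))))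
    (C.loop_of_one (relLoop0 C) _ _)

theorem f4274 : C.T (v8 C) [14, 39, 56, 79, 104, 109, 114] (v17 C) [11, 36, 56, 81, 90, 124] :=
  C.conv (f4127 C) (f1598 C) (f1598 C) _ [133, 150, 170, 173, 178] _ (by decide +kernel) (by decide +kernel) (by decide +kernel)

theorem f4275 : C.S (v8 C) [20, 63, 89, 95, 116] :=
  C.stMul (f1579 C) (f1526 C) _ (by decide +kernel)

theorem f4276 : C.S (v8 C) [27, 69, 82, 93, 109, 114] :=
  C.stMul (f1546 C) (f4275 C) _ (by decide +kernel)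

theorem f4277 : C.S (v8 C) [12, 29, 58, 77, 105, 109, 114] :=
  C.stMul (f1537 C) (f4276 C) _ (by decide +kernel)

theorem f4278 : C.T (v8 C) [14, 34, 59, 89, 109, 118] (v17 C) [12, 44, 59, 78, 104, 110, 111] :=
  C.conv (f4127 C) (f1598 C) (f4277 C) _ [134, 155, 164, 171] _ (by decide +kernel) (by decide +kernel) (by decide +kernel)

theorem f4279 : C.T (v17 C) [12, 44, 59, 78, 104, 110, 111] (v8 C) [14, 34, 59, 89, 109, 118] :=
  C.flip (f4278 C)

theorem f4280 : C.T (v17 C) [20, 32, 69, 78, 108, 109, 114] (v17 C) [27, 68, 70, 103, 109, 116] :=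
  C.closeT (p := (v8 C)) (pu := [14, 39, 56, 79, 104, 109, 114])
    (C.pT (f4274 C)
    (C.pH [12, 35, 50, 83] [20, 32, 69, 78, 108, 109, 114] (by decide +kernel) (C.pNil _ _)))
    (C.pH [12, 35, 50, 83] [12, 44, 59, 78, 104, 110, 111] (by decide +kernel)
    (C.pT (f4279 C)
    (C.pH [12, 35, 50, 83] [14, 39, 56, 79, 104, 109, 114] (by decide +kernel) (C.pNil _ _))))
    (C.loop_of_one (relLoop0 C) _ _)

theorem f4284 : C.T (v8 C) [9, 33, 59, 86, 104, 109, 115] (v17 C) [12, 34, 54, 75, 90, 110, 125] :=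
  C.conv (f4127 C) (f1598 C) (f1598 C) _ [134, 159, 164, 175] _ (by decide +kernel) (by decide +kernel) (by decide +kernel)

theorem f4285 : C.S (v8 C) [39, 69, 87, 106, 110, 122] :=
  C.stMul (f1564 C) (f1532 C) _ (by decide +kernel)

theorem f4286 : C.S (v8 C) [24, 42, 58, 77, 101, 110, 118] :=
  C.stMul (f1568 C) (f4285 C) _ (by decide +kernel)

theorem f4287 : C.T (v8 C) [25, 36, 73, 95, 110, 118] (v17 C) [12, 35, 68, 79, 103, 109, 124] :=
  C.conv (f4127 C) (f1598 C) (f4286 C) _ [134, 161, 165, 171, 177] _ (by decide +kernel) (by decide +kernel) (by decide +kernel)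

theorem f4288 : C.T (v17 C) [12, 35, 68, 79, 103, 109, 124] (v8 C) [25, 36, 73, 95, 110, 118] :=
  C.flip (f4287 C)

theorem f4289 : C.T (v17 C) [23, 31, 57, 89, 107, 110, 118] (v17 C) [58, 71, 90, 109, 117] :=
  C.closeT (p := (v8 C)) (pu := [9, 33, 59, 86, 104, 109, 115])
    (C.pT (f4284 C)
    (C.pH [12, 35, 50, 83] [23, 31, 57, 89, 107, 110, 118] (by decide +kernel) (C.pNil _ _)))
    (C.pH [12, 35, 50, 83] [12, 35, 68, 79, 103, 109, 124] (by decide +kernel)
    (C.pT (f4288 C)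
    (C.pH [12, 35, 50, 83] [9, 33, 59, 86, 104, 109, 115] (by decide +kernel) (C.pNil _ _))))
    (C.loop_of_one (relLoop0 C) _ _)

theorem f4292 : C.T (v8 C) [7, 30, 49, 81, 106, 124] (v17 C) [10, 36, 60, 79, 106, 109, 124] :=
  C.conv (f4127 C) (f1598 C) (f1598 C) _ [132, 155, 164, 173, 178] _ (by decide +kernel) (by decide +kernel) (by decide +kernel)

theorem f4293 : C.S (v8 C) [12, 47, 65, 86, 91, 109, 120] :=
  C.stMul (f1537 C) (f1552 C) _ (by decide +kernel)

theorem f4294 : C.S (v8 C) [14, 44, 68, 89, 106, 109, 118] :=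
  C.stMul (f1568 C) (f4293 C) _ (by decide +kernel)

theorem f4295 : C.S (v8 C) [15, 28, 49, 81, 94, 110, 122] :=
  C.stMul (f1579 C) (f4294 C) _ (by decide +kernel)

theorem f4296 : C.T (v8 C) [7, 40, 67, 87, 107, 109, 115] (v17 C) [24, 43, 58, 78, 99, 116] :=
  C.conv (f4127 C) (f1598 C) (f4295 C) _ [146, 155, 169, 173, 177] _ (by decide +kernel) (by decide +kernel) (by decide +kernel)

theorem f4297 : C.T (v17 C) [24, 43, 58, 78, 99, 116] (v8 C) [7, 40, 67, 87, 107, 109, 115] :=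
  C.flip (f4296 C)

theorem f4298 : C.T (v17 C) [21, 40, 64, 73, 110, 117] (v17 C) [19, 29, 55, 73, 106, 109, 113] :=
  C.closeT (p := (v8 C)) (pu := [7, 30, 49, 81, 106, 124])
    (C.pT (f4292 C)
    (C.pH [12, 35, 50, 83] [21, 40, 64, 73, 110, 117] (by decide +kernel) (C.pNil _ _)))
    (C.pH [12, 35, 50, 83] [24, 43, 58, 78, 99, 116] (by decide +kernel)
    (C.pT (f4297 C)
    (C.pH [12, 35, 50, 83] [7, 30, 49, 81, 106, 124] (by decide +kernel) (C.pNil _ _))))
    (C.loop_of_one (relLoop0 C) _ _)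

theorem f4300 : C.S (v17 C) [] :=
  C.stOne _

theorem f4302 : C.T (v8 C) [9, 41, 52, 74, 96] (v17 C) [14, 33, 77, 94, 120] :=
  C.conv (f4127 C) (f1598 C) (f1598 C) _ [136, 154, 166, 173, 178] _ (by decide +kernel) (by decide +kernel) (by decide +kernel)

theorem f4303 : C.S (v8 C) [21, 44, 64, 81, 94, 110, 113] :=
  C.stMul (f1579 C) (f1564 C) _ (by decide +kernel)

theorem f4304 : C.S (v8 C) [8, 31, 60, 79, 93, 110, 111] :=
  C.stMul (f1532 C) (f4303 C) _ (by decide +kernel)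

theorem f4305 : C.T (v8 C) [25, 47, 58, 75, 90, 112] (v17 C) [10, 46, 58, 82, 103, 110, 112] :=
  C.conv (f4127 C) (f1598 C) (f4304 C) _ [132, 161, 165, 172, 178] _ (by decide +kernel) (by decide +kernel) (by decide +kernel)

theorem f4306 : C.T (v17 C) [10, 46, 58, 82, 103, 110, 112] (v8 C) [25, 47, 58, 75, 90, 112] :=
  C.flip (f4305 C)

theorem f4307 : C.T (v17 C) [14, 42, 51, 86, 108, 110, 111] (v17 C) [8, 44, 66, 82, 106, 110, 125] :=
  C.closeT (p := (v8 C)) (pu := [9, 41, 52, 74, 96])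
    (C.pT (f4302 C)
    (C.pH [12, 35, 50, 83] [14, 42, 51, 86, 108, 110, 111] (by decide +kernel) (C.pNil _ _)))
    (C.pH [12, 35, 50, 83] [10, 46, 58, 82, 103, 110, 112] (by decide +kernel)
    (C.pT (f4306 C)
    (C.pH [12, 35, 50, 83] [9, 41, 52, 74, 96] (by decide +kernel) (C.pNil _ _))))
    (C.loop_of_one (relLoop0 C) _ _)

theorem f4311 : C.T (v8 C) [18, 35, 58, 78, 102, 110, 114] (v17 C) [19, 46, 64, 85, 112] :=
  C.conv (f4127 C) (f1598 C) (f1598 C) _ [141, 162, 177] _ (by decide +kernel) (by decide +kernel) (by decide +kernel)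

theorem f4312 : C.S (v8 C) [11, 31, 52, 82, 91, 109, 115] :=
  C.stMul (f1537 C) (f1526 C) _ (by decide +kernel)

theorem f4313 : C.S (v8 C) [12, 28, 64, 74, 94, 110] :=
  C.stMul (f1546 C) (f4312 C) _ (by decide +kernel)

theorem f4314 : C.S (v8 C) [22, 27, 59, 83, 103, 110, 125] :=
  C.stMul (f1541 C) (f4313 C) _ (by decide +kernel)

theorem f4315 : C.T (v8 C) [18, 29, 52, 86, 107, 109, 118] (v17 C) [8, 36, 65, 70, 107, 110, 124] :=
  C.conv (f4127 C) (f1598 C) (f4314 C) _ [130, 151, 166, 174] _ (by decide +kernel) (by decide +kernel) (by decide +kernel)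

theorem f4316 : C.T (v17 C) [8, 36, 65, 70, 107, 110, 124] (v8 C) [18, 29, 52, 86, 107, 109, 118] :=
  C.flip (f4315 C)

theorem f4317 : C.T (v17 C) [24, 34, 62, 78, 90, 110, 121] (v17 C) [21, 41, 66, 75, 106, 110, 113] :=
  C.closeT (p := (v8 C)) (pu := [18, 35, 58, 78, 102, 110, 114])
    (C.pT (f4311 C)
    (C.pH [12, 35, 50, 83] [24, 34, 62, 78, 90, 110, 121] (by decide +kernel) (C.pNil _ _)))
    (C.pH [12, 35, 50, 83] [8, 36, 65, 70, 107, 110, 124] (by decide +kernel)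
    (C.pT (f4316 C)
    (C.pH [12, 35, 50, 83] [18, 35, 58, 78, 102, 110, 114] (by decide +kernel) (C.pNil _ _))))
    (C.loop_of_one (relLoop0 C) _ _)

theorem f4320 : C.T (v8 C) [12, 35, 55, 70, 97, 117] (v17 C) [15, 47, 50, 76, 105, 110, 111] :=
  C.conv (f4127 C) (f1598 C) (f1598 C) _ [137, 154, 166, 173, 177] _ (by decide +kernel) (by decide +kernel) (by decide +kernel)

theorem f4321 : C.S (v8 C) [11, 48, 50, 84, 103, 110, 123] :=
  C.stMul (f1537 C) (f4140 C) _ (by decide +kernel)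

theorem f4322 : C.T (v8 C) [68, 82, 96, 111] (v17 C) [9, 37, 59, 77, 108, 110, 120] :=
  C.conv (f4127 C) (f1598 C) (f4321 C) _ [131, 161, 167, 172, 178] _ (by decide +kernel) (by decide +kernel) (by decide +kernel)

theorem f4323 : C.T (v17 C) [9, 37, 59, 77, 108, 110, 120] (v8 C) [68, 82, 96, 111] :=
  C.flip (f4322 C)

theorem f4324 : C.T (v17 C) [15, 32, 64, 95, 120] (v17 C) [25, 38, 68, 77, 103, 109, 115] :=
  C.closeT (p := (v8 C)) (pu := [12, 35, 55, 70, 97, 117])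
    (C.pT (f4320 C)
    (C.pH [12, 35, 50, 83] [15, 32, 64, 95, 120] (by decide +kernel) (C.pNil _ _)))
    (C.pH [12, 35, 50, 83] [9, 37, 59, 77, 108, 110, 120] (by decide +kernel)
    (C.pT (f4323 C)
    (C.pH [12, 35, 50, 83] [12, 35, 55, 70, 97, 117] (by decide +kernel) (C.pNil _ _))))
    (C.loop_of_one (relLoop0 C) _ _)

theorem f4328 : C.T (v8 C) [16, 40, 66, 76, 98, 109, 123] (v8 C) [15, 32, 54, 70, 91, 110, 111] :=
  C.conv (f1574 C) (f1529 C) (f1529 C) _ [158, 172, 177] _ (by decide +kernel) (by decide +kernel) (by decide +kernel)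

theorem f4329 : C.S (v8 C) [11, 48, 53, 84, 105, 125] :=
  C.stMul (f1546 C) (f1537 C) _ (by decide +kernel)

theorem f4330 : C.S (v8 C) [12, 46, 57, 83, 102, 110, 117] :=
  C.stMul (f1552 C) (f4329 C) _ (by decide +kernel)

theorem f4331 : C.T (v8 C) [19, 36, 59, 74, 102, 110, 118] (v16 C) [23, 34, 57, 70, 102, 110, 114] :=
  C.conv (f3774 C) (f3876 C) (f4330 C) _ [146, 154, 170, 177] _ (by decide +kernel) (by decide +kernel) (by decide +kernel)

theorem f4332 : C.S (v8 C) [18, 34, 69, 89, 107, 116] :=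
  C.stMul (f1552 C) (f1526 C) _ (by decide +kernel)

theorem f4333 : C.S (v8 C) [22, 43, 62, 106, 122] :=
  C.stMul (f1537 C) (f4332 C) _ (by decide +kernel)

theorem f4334 : C.S (v8 C) [18, 65, 81, 108, 109, 118] :=
  C.stMul (f1564 C) (f4333 C) _ (by decide +kernel)

theorem f4335 : C.S (v8 C) [23, 28, 68, 84, 98, 109, 122] :=
  C.stMul (f1552 C) (f4334 C) _ (by decide +kernel)

theorem f4336 : C.T (v8 C) [26, 48, 61, 81, 106, 110, 111] (v17 C) [26, 30, 58, 73, 91, 110, 112] :=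
  C.conv (f4127 C) (f1598 C) (f4335 C) _ [148, 150, 169, 172, 178] _ (by decide +kernel) (by decide +kernel) (by decide +kernel)

theorem f4337 : C.T (v17 C) [26, 30, 58, 73, 91, 110, 112] (v8 C) [26, 48, 61, 81, 106, 110, 111] :=
  C.flip (f4336 C)

theorem f4338 : C.T (v16 C) [7, 48, 78, 103, 109, 117] (v17 C) [19, 47, 50, 73, 101, 109, 120] :=
  C.closeT (p := (v8 C)) (pu := [16, 40, 66, 76, 98, 109, 123])
    (C.pT (f4328 C)
    (C.pH [8, 30, 65, 84, 94, 117] [19, 36, 59, 74, 102, 110, 118] (by decide +kernel)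
    (C.pT (f4331 C)
    (C.pH [26, 38, 54, 89, 90, 113] [7, 48, 78, 103, 109, 117] (by decide +kernel) (C.pNil _ _)))))
    (C.pH [8, 30, 65, 84, 94, 117] [26, 30, 58, 73, 91, 110, 112] (by decide +kernel)
    (C.pT (f4337 C)
    (C.pH [26, 38, 54, 89, 90, 113] [16, 40, 66, 76, 98, 109, 123] (by decide +kernel) (C.pNil _ _))))
    (C.loop_of_one (relLoop1 C) _ _)

theorem f4339 : C.T (v17 C) [19, 47, 50, 73, 101, 109, 120] (v16 C) [7, 48, 78, 103, 109, 117] :=
  C.flip (f4338 C)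

theorem f4340 : C.T (v8 C) [26, 44, 69, 74, 103, 110, 113] (v8 C) [15, 33, 62, 84, 93, 110, 122] :=
  C.conv (f1574 C) (f1529 C) (f1529 C) _ [133, 163, 169, 173] _ (by decide +kernel) (by decide +kernel) (by decide +kernel)

theorem f4341 : C.S (v8 C) [32, 57, 85, 101, 120] :=
  C.stMul (f1579 C) (f1529 C) _ (by decide +kernel)

theorem f4342 : C.S (v8 C) [31, 56, 89, 104, 109, 115] :=
  C.stMul (f1541 C) (f4341 C) _ (by decide +kernel)

theorem f4343 : C.S (v8 C) [31, 60, 80, 102, 118] :=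
  C.stMul (f1552 C) (f4342 C) _ (by decide +kernel)

theorem f4344 : C.T (v8 C) [19, 31, 51, 78, 94, 110, 120] (v17 C) [22, 28, 59, 71, 101, 109, 111] :=
  C.conv (f4127 C) (f1598 C) (f4343 C) _ [144, 163, 165, 178] _ (by decide +kernel) (by decide +kernel) (by decide +kernel)

theorem f4345 : C.S (v8 C) [13, 35, 60, 78, 91, 121] :=
  C.stMul (f1579 C) (f1537 C) _ (by decide +kernel)

theorem f4346 : C.S (v8 C) [23, 47, 65, 84, 101, 109, 118] :=
  C.stMul (f1568 C) (f4345 C) _ (by decide +kernel)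

theorem f4347 : C.S (v8 C) [18, 48, 62, 106, 118] :=
  C.stMul (f1546 C) (f4346 C) _ (by decide +kernel)

theorem f4348 : C.T (v8 C) [44, 58, 88, 107, 110, 113] (v17 C) [14, 71, 100, 110, 111] :=
  C.conv (f4127 C) (f1598 C) (f4347 C) _ [136, 151, 166, 172, 178] _ (by decide +kernel) (by decide +kernel) (by decide +kernel)

theorem f4349 : C.T (v17 C) [14, 71, 100, 110, 111] (v8 C) [44, 58, 88, 107, 110, 113] :=
  C.flip (f4348 C)

theorem f4350 : C.T (v17 C) [19, 33, 57, 71, 106, 110] (v17 C) [26, 46, 56, 87, 93, 121] :=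
  C.closeT (p := (v8 C)) (pu := [26, 44, 69, 74, 103, 110, 113])
    (C.pT (f4340 C)
    (C.pH [8, 30, 65, 84, 94, 117] [19, 31, 51, 78, 94, 110, 120] (by decide +kernel)
    (C.pT (f4344 C)
    (C.pH [26, 38, 54, 89, 90, 113] [19, 33, 57, 71, 106, 110] (by decide +kernel) (C.pNil _ _)))))
    (C.pH [8, 30, 65, 84, 94, 117] [14, 71, 100, 110, 111] (by decide +kernel)
    (C.pT (f4349 C)
    (C.pH [26, 38, 54, 89, 90, 113] [26, 44, 69, 74, 103, 110, 113] (by decide +kernel) (C.pNil _ _))))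
    (C.loop_of_one (relLoop1 C) _ _)

theorem f4353 : C.T (v8 C) [16, 45, 65, 72, 99, 109, 112] (v8 C) [19, 39, 64, 87, 100, 109, 114] :=
  C.conv (f1574 C) (f1529 C) (f1529 C) _ [134, 158, 168, 173] _ (by decide +kernel) (by decide +kernel) (by decide +kernel)

theorem f4354 : C.S (v8 C) [12, 47, 60, 73, 103, 109, 115] :=
  C.stMul (f1564 C) (f1546 C) _ (by decide +kernel)

theorem f4355 : C.S (v8 C) [7, 38, 52, 98, 116] :=
  C.stMul (f1552 C) (f4354 C) _ (by decide +kernel)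

theorem f4356 : C.S (v8 C) [23, 32, 50, 110, 112] :=
  C.stMul (f1532 C) (f4355 C) _ (by decide +kernel)

theorem f4357 : C.T (v8 C) [26, 27, 60, 83, 105, 110, 113] (v17 C) [41, 54, 89, 105, 125] :=
  C.conv (f4127 C) (f1598 C) (f4356 C) _ [159, 169, 174, 177] _ (by decide +kernel) (by decide +kernel) (by decide +kernel)

theorem f4358 : C.S (v8 C) [12, 44, 64, 73, 104, 110] :=
  C.stMul (f1537 C) (f1529 C) _ (by decide +kernel)

theorem f4359 : C.S (v8 C) [7, 32, 67, 81, 97, 110, 112] :=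
  C.stMul (f1552 C) (f4358 C) _ (by decide +kernel)

theorem f4360 : C.S (v8 C) [23, 43, 65, 72, 97, 122] :=
  C.stMul (f1532 C) (f4359 C) _ (by decide +kernel)

theorem f4361 : C.S (v8 C) [7, 41, 66, 77, 103, 110, 124] :=
  C.stMul (f1564 C) (f4360 C) _ (by decide +kernel)

theorem f4362 : C.T (v8 C) [26, 42, 54, 73, 94, 113] (v17 C) [8, 28, 52, 80, 96, 112] :=
  C.conv (f4127 C) (f1598 C) (f4361 C) _ [130, 152, 176] _ (by decide +kernel) (by decide +kernel) (by decide +kernel)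

theorem f4363 : C.T (v17 C) [8, 28, 52, 80, 96, 112] (v8 C) [26, 42, 54, 73, 94, 113] :=
  C.flip (f4362 C)

theorem f4364 : C.T (v17 C) [26, 39, 62, 75, 96, 118] (v17 C) [30, 56, 74, 102, 110, 113] :=
  C.closeT (p := (v8 C)) (pu := [16, 45, 65, 72, 99, 109, 112])
    (C.pT (f4353 C)
    (C.pH [8, 30, 65, 84, 94, 117] [26, 27, 60, 83, 105, 110, 113] (by decide +kernel)
    (C.pT (f4357 C)
    (C.pH [26, 38, 54, 89, 90, 113] [26, 39, 62, 75, 96, 118] (by decide +kernel) (C.pNil _ _)))))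
    (C.pH [8, 30, 65, 84, 94, 117] [8, 28, 52, 80, 96, 112] (by decide +kernel)
    (C.pT (f4363 C)
    (C.pH [26, 38, 54, 89, 90, 113] [16, 45, 65, 72, 99, 109, 112] (by decide +kernel) (C.pNil _ _))))
    (C.loop_of_one (relLoop1 C) _ _)

theorem f4368 : C.T (v8 C) [9, 45, 58, 91, 110] (v8 C) [21, 42, 49, 81, 108, 115] :=
  C.conv (f1574 C) (f1529 C) (f1529 C) _ [144, 163, 168, 175, 177] _ (by decide +kernel) (by decide +kernel) (by decide +kernel)

theorem f4369 : C.S (v8 C) [12, 70, 105, 122] :=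
  C.stMul (f1532 C) (f1546 C) _ (by decide +kernel)

theorem f4370 : C.S (v8 C) [13, 32, 49, 85, 105, 125] :=
  C.stMul (f1579 C) (f4369 C) _ (by decide +kernel)

theorem f4371 : C.S (v8 C) [24, 42, 69, 73, 93, 110, 117] :=
  C.stMul (f1552 C) (f4370 C) _ (by decide +kernel)

theorem f4372 : C.T (v8 C) [24, 46, 59, 77, 118] (v9 C) [24, 32, 68, 84, 103, 110, 115] :=
  C.conv (f2109 C) (f1541 C) (f4371 C) _ [130, 160, 167, 178] _ (by decide +kernel) (by decide +kernel) (by decide +kernel)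

theorem f4373 : C.S (v8 C) [12, 27, 69, 86, 92, 109, 118] :=
  C.stMul (f1532 C) (f4275 C) _ (by decide +kernel)

theorem f4374 : C.S (v8 C) [11, 48, 67, 84, 106, 110, 113] :=
  C.stMul (f1546 C) (f4373 C) _ (by decide +kernel)

theorem f4375 : C.T (v8 C) [15, 35, 69, 87, 98, 125] (v17 C) [17, 28, 67, 74, 101, 113] :=
  C.conv (f4127 C) (f1598 C) (f4374 C) _ [139, 153, 164, 171] _ (by decide +kernel) (by decide +kernel) (by decide +kernel)

theorem f4376 : C.T (v17 C) [17, 28, 67, 74, 101, 113] (v8 C) [15, 35, 69, 87, 98, 125] :=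
  C.flip (f4375 C)

theorem f4377 : C.T (v9 C) [12, 47, 59, 83, 102, 110, 120] (v17 C) [7, 61, 76, 91, 109, 111] :=
  C.closeT (p := (v8 C)) (pu := [9, 45, 58, 91, 110])
    (C.pT (f4368 C)
    (C.pH [8, 30, 65, 84, 94, 117] [24, 46, 59, 77, 118] (by decide +kernel)
    (C.pT (f4372 C)
    (C.pH [26, 38, 54, 89, 90, 113] [12, 47, 59, 83, 102, 110, 120] (by decide +kernel) (C.pNil _ _)))))
    (C.pH [8, 30, 65, 84, 94, 117] [17, 28, 67, 74, 101, 113] (by decide +kernel)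
    (C.pT (f4376 C)
    (C.pH [26, 38, 54, 89, 90, 113] [9, 45, 58, 91, 110] (by decide +kernel) (C.pNil _ _))))
    (C.loop_of_one (relLoop1 C) _ _)

theorem f4378 : C.T (v17 C) [7, 61, 76, 91, 109, 111] (v9 C) [12, 47, 59, 83, 102, 110, 120] :=
  C.flip (f4377 C)

theorem f4379 : C.T (v8 C) [13, 36, 66, 76, 110, 117] (v8 C) [13, 39, 65, 89, 96, 110, 121] :=
  C.conv (f1592 C) (f1594 C) (f1594 C) _ [128, 163, 170, 174] _ (by decide +kernel) (by decide +kernel) (by decide +kernel)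

theorem f4380 : C.S (v8 C) [39, 55, 71, 101, 118] :=
  C.stMul (f1564 C) (f4312 C) _ (by decide +kernel)

theorem f4381 : C.S (v8 C) [24, 42, 57, 82, 97, 109, 114] :=
  C.stMul (f1568 C) (f4380 C) _ (by decide +kernel)

theorem f4382 : C.T (v8 C) [11, 42, 53, 76, 108, 109, 115] (v17 C) [24, 44, 76, 94, 118] :=
  C.conv (f4127 C) (f1598 C) (f4381 C) _ [146, 160, 167, 175, 178] _ (by decide +kernel) (by decide +kernel) (by decide +kernel)

theorem f4383 : C.S (v8 C) [11, 44, 50, 73, 106, 118] :=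
  C.stMul (f1546 C) (f4358 C) _ (by decide +kernel)

theorem f4384 : C.S (v8 C) [15, 32, 69, 77, 90, 110, 122] :=
  C.stMul (f1568 C) (f4383 C) _ (by decide +kernel)

theorem f4385 : C.T (v8 C) [16, 36, 51, 74, 108, 110, 123] (v17 C) [4, 40, 69, 75, 93, 122] :=
  C.conv (f4127 C) (f1598 C) (f4384 C) _ [126, 154, 165, 174, 177] _ (by decide +kernel) (by decide +kernel) (by decide +kernel)

theorem f4386 : C.T (v17 C) [4, 40, 69, 75, 93, 122] (v8 C) [16, 36, 51, 74, 108, 110, 123] :=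
  C.flip (f4385 C)

theorem f4387 : C.T (v17 C) [12, 48, 69, 73, 98, 109, 114] (v17 C) [18, 39, 51, 74, 105, 110, 115] :=
  C.closeT (p := (v8 C)) (pu := [13, 36, 66, 76, 110, 117])
    (C.pT (f4379 C)
    (C.pH [8, 30, 65, 84, 94, 117] [11, 42, 53, 76, 108, 109, 115] (by decide +kernel)
    (C.pT (f4382 C)
    (C.pH [26, 38, 54, 89, 90, 113] [12, 48, 69, 73, 98, 109, 114] (by decide +kernel) (C.pNil _ _)))))
    (C.pH [8, 30, 65, 84, 94, 117] [4, 40, 69, 75, 93, 122] (by decide +kernel)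
    (C.pT (f4386 C)
    (C.pH [26, 38, 54, 89, 90, 113] [13, 36, 66, 76, 110, 117] (by decide +kernel) (C.pNil _ _))))
    (C.loop_of_one (relLoop1 C) _ _)

theorem f4390 : C.T (v8 C) [6, 44, 63, 74, 105, 114] (v9 C) [23, 31, 57, 73, 101, 125] :=
  C.conv (f1604 C) (f1598 C) (f1598 C) _ [145, 152, 170, 174, 177] _ (by decide +kernel) (by decide +kernel) (by decide +kernel)

theorem f4391 : C.S (v9 C) [13, 45, 70, 104, 115] :=
  C.stMul (f1615 C) (f1607 C) _ (by decide +kernel)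

theorem f4392 : C.T (v9 C) [10, 40, 52, 81, 99, 119] (v15 C) [26, 34, 61, 87, 105, 110, 114] :=
  C.conv (f2928 C) (f3035 C) (f4391 C) _ [142, 155, 174, 178] _ (by decide +kernel) (by decide +kernel) (by decide +kernel)

theorem f4393 : C.S (v8 C) [11, 38, 65, 72, 104, 122] :=
  C.stMul (f1529 C) (f4313 C) _ (by decide +kernel)

theorem f4394 : C.T (v8 C) [21, 31, 53, 84, 98, 109, 121] (v17 C) [7, 35, 52, 73, 90, 113] :=
  C.conv (f4127 C) (f1598 C) (f4393 C) _ [129, 149, 164, 172] _ (by decide +kernel) (by decide +kernel) (by decide +kernel)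

theorem f4395 : C.T (v17 C) [7, 35, 52, 73, 90, 113] (v8 C) [21, 31, 53, 84, 98, 109, 121] :=
  C.flip (f4394 C)

theorem f4396 : C.T (v15 C) [16, 34, 56, 83, 98, 109, 121] (v17 C) [11, 38, 60, 85, 93, 110, 122] :=
  C.closeT (p := (v8 C)) (pu := [6, 44, 63, 74, 105, 114])
    (C.pT (f4390 C)
    (C.pH [8, 30, 65, 84, 94, 117] [10, 40, 52, 81, 99, 119] (by decide +kernel)
    (C.pT (f4392 C)
    (C.pH [26, 38, 54, 89, 90, 113] [16, 34, 56, 83, 98, 109, 121] (by decide +kernel) (C.pNil _ _)))))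
    (C.pH [8, 30, 65, 84, 94, 117] [7, 35, 52, 73, 90, 113] (by decide +kernel)
    (C.pT (f4395 C)
    (C.pH [26, 38, 54, 89, 90, 113] [6, 44, 63, 74, 105, 114] (by decide +kernel) (C.pNil _ _))))
    (C.loop_of_one (relLoop1 C) _ _)

theorem f4397 : C.T (v17 C) [11, 38, 60, 85, 93, 110, 122] (v15 C) [16, 34, 56, 83, 98, 109, 121] :=
  C.flip (f4396 C)

theorem f4398 : C.T (v8 C) [5, 27, 53, 75, 94, 121] (v9 C) [11, 31, 52, 85, 94, 112] :=
  C.conv (f1604 C) (f1598 C) (f1598 C) _ [133, 151, 168, 173, 177] _ (by decide +kernel) (by decide +kernel) (by decide +kernel)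

theorem f4399 : C.S (v9 C) [21, 32, 63, 85, 106, 110, 120] :=
  C.stMul (f1624 C) (f1620 C) _ (by decide +kernel)

theorem f4400 : C.S (v9 C) [12, 29, 63, 103, 119] :=
  C.stMul (f1620 C) (f4399 C) _ (by decide +kernel)

theorem f4401 : C.S (v9 C) [6, 33, 57, 77, 98, 119] :=
  C.stMul (f1615 C) (f4400 C) _ (by decide +kernel)

theorem f4402 : C.T (v9 C) [7, 48, 67, 70, 101, 110, 124] (v17 C) [19, 39, 55, 85, 106, 110, 118] :=
  C.conv (f4247 C) (f1624 C) (f4401 C) _ [147, 156, 164, 173] _ (by decide +kernel) (by decide +kernel) (by decide +kernel)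

end CfsgLib.J4Index
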