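import Cfsg.Agent.Lib.J4Index.Facts3

/-!
# Derived equations (generated)
-/

set_option autoImplicit false
set_option maxRecDepth 100000
set_option linter.style.longLine false

namespace CfsgLib.J4Index

variable {G X : Type} [Group G] [MulAction G X] (C : Ctx G X)

theorem f4403 : C.S (v8 C) [20, 47, 84, 98, 111] :=
  C.stMul (f1546 C) (f1529 C) _ (by decide +kernel)

theorem f4404 : C.S (v8 C) [18, 41, 52, 71, 94, 110, 120] :=
  C.stMul (f1552 C) (f4403 C) _ (by decide +kernel)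

theorem f4405 : C.S (v8 C) [22, 46, 62, 84, 97, 110, 115] :=
  C.stMul (f1537 C) (f4404 C) _ (by decide +kernel)

theorem f4406 : C.T (v8 C) [14, 37, 52, 79, 105, 110, 125] (v9 C) [24, 38, 69, 75, 99, 109] :=
  C.conv (f2109 C) (f1541 C) (f4405 C) _ [137, 156, 175, 178] _ (by decide +kernel) (by decide +kernel) (by decide +kernel)

theorem f4407 : C.T (v9 C) [24, 38, 69, 75, 99, 109] (v8 C) [14, 37, 52, 79, 105, 110, 125] :=
  C.flip (f4406 C)

theorem f4408 : C.T (v17 C) [17, 29, 64, 71, 95, 110, 122] (v9 C) [21, 28, 53, 88, 100, 110, 124] :=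
  C.closeT (p := (v8 C)) (pu := [5, 27, 53, 75, 94, 121])
    (C.pT (f4398 C)
    (C.pH [8, 30, 65, 84, 94, 117] [7, 48, 67, 70, 101, 110, 124] (by decide +kernel)
    (C.pT (f4402 C)
    (C.pH [26, 38, 54, 89, 90, 113] [17, 29, 64, 71, 95, 110, 122] (by decide +kernel) (C.pNil _ _)))))
    (C.pH [8, 30, 65, 84, 94, 117] [24, 38, 69, 75, 99, 109] (by decide +kernel)
    (C.pT (f4407 C)
    (C.pH [26, 38, 54, 89, 90, 113] [5, 27, 53, 75, 94, 121] (by decide +kernel) (C.pNil _ _))))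
    (C.loop_of_one (relLoop1 C) _ _)

theorem f4409 : C.T (v9 C) [21, 28, 53, 88, 100, 110, 124] (v17 C) [17, 29, 64, 71, 95, 110, 122] :=
  C.flip (f4408 C)

theorem f4410 : C.T (v8 C) [25, 34, 49, 70, 98, 110, 118] (v9 C) [8, 38, 49, 81, 91, 111] :=
  C.conv (f1604 C) (f1598 C) (f1598 C) _ [130, 159, 164, 177] _ (by decide +kernel) (by decide +kernel) (by decide +kernel)

theorem f4411 : C.S (v9 C) [11, 45, 66, 71, 92, 109, 125] :=
  C.stMul (f1610 C) (f1607 C) _ (by decide +kernel)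

theorem f4412 : C.S (v9 C) [4, 48, 68, 83, 104, 125] :=
  C.stMul (f1624 C) (f1615 C) _ (by decide +kernel)

theorem f4413 : C.T (v9 C) [38, 85, 96, 119] (v17 C) [12, 32, 49, 75, 101, 109, 112] :=
  C.conv (f4225 C) (f4411 C) (f4412 C) _ [133, 152, 171, 177] _ (by decide +kernel) (by decide +kernel) (by decide +kernel)

theorem f4414 : C.S (v8 C) [24, 27, 56, 83, 106, 121] :=
  C.stMul (f1568 C) (f1541 C) _ (by decide +kernel)

theorem f4415 : C.S (v8 C) [15, 53, 75, 90, 116] :=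
  C.stMul (f1546 C) (f4414 C) _ (by decide +kernel)

theorem f4416 : C.S (v8 C) [13, 49, 82, 103, 110, 115] :=
  C.stMul (f1537 C) (f4415 C) _ (by decide +kernel)

theorem f4417 : C.T (v8 C) [4, 36, 50, 72, 103, 110, 122] (v17 C) [23, 33, 51, 86, 106, 112] :=
  C.conv (f4127 C) (f1598 C) (f4416 C) _ [145, 151, 165] _ (by decide +kernel) (by decide +kernel) (by decide +kernel)

theorem f4418 : C.T (v17 C) [23, 33, 51, 86, 106, 112] (v8 C) [4, 36, 50, 72, 103, 110, 122] :=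
  C.flip (f4417 C)

theorem f4419 : C.T (v17 C) [14, 48, 66, 77, 106, 109, 125] (v17 C) [20, 36, 55, 76, 91, 109, 114] :=
  C.closeT (p := (v8 C)) (pu := [25, 34, 49, 70, 98, 110, 118])
    (C.pT (f4410 C)
    (C.pH [8, 30, 65, 84, 94, 117] [38, 85, 96, 119] (by decide +kernel)
    (C.pT (f4413 C)
    (C.pH [26, 38, 54, 89, 90, 113] [14, 48, 66, 77, 106, 109, 125] (by decide +kernel) (C.pNil _ _)))))
    (C.pH [8, 30, 65, 84, 94, 117] [23, 33, 51, 86, 106, 112] (by decide +kernel)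
    (C.pT (f4418 C)
    (C.pH [26, 38, 54, 89, 90, 113] [25, 34, 49, 70, 98, 110, 118] (by decide +kernel) (C.pNil _ _))))
    (C.loop_of_one (relLoop1 C) _ _)

theorem f4420 : C.T (v17 C) [20, 36, 55, 76, 91, 109, 114] (v17 C) [14, 48, 66, 77, 106, 109, 125] :=
  C.flip (f4419 C)

theorem f4421 : C.T (v8 C) [20, 39, 62, 89, 93, 122] (v10 C) [24, 28, 62, 70, 104, 112] :=
  C.conv (f1695 C) (f1598 C) (f1598 C) _ [146, 161, 166, 176, 177] _ (by decide +kernel) (by decide +kernel) (by decide +kernel)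

theorem f4422 : C.S (v10 C) [18, 29, 60, 70, 98, 110, 119] :=
  C.stMul (f1709 C) (f2135 C) _ (by decide +kernel)

theorem f4423 : C.T (v10 C) [16, 36, 69, 87, 91, 110, 116] (v10 C) [13, 31, 68, 77, 103, 110, 119] :=
  C.conv (f1872 C) (f1875 C) (f4422 C) _ [129, 154, 177] _ (by decide +kernel) (by decide +kernel) (by decide +kernel)

theorem f4424 : C.S (v8 C) [23, 28, 51, 80, 103, 110, 125] :=
  C.stMul (f1537 C) (f1564 C) _ (by decide +kernel)

theorem f4425 : C.S (v8 C) [20, 27, 69, 86, 95, 110, 119] :=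
  C.stMul (f1552 C) (f4424 C) _ (by decide +kernel)

theorem f4426 : C.S (v8 C) [25, 39, 69, 87, 100, 109, 112] :=
  C.stMul (f1568 C) (f4425 C) _ (by decide +kernel)

theorem f4427 : C.T (v8 C) [17, 63, 84, 107, 110, 116] (v17 C) [4, 34, 53, 84, 105, 110, 122] :=
  C.conv (f4127 C) (f1598 C) (f4426 C) _ [126, 150, 170, 172, 177] _ (by decide +kernel) (by decide +kernel) (by decide +kernel)

theorem f4428 : C.T (v17 C) [4, 34, 53, 84, 105, 110, 122] (v8 C) [17, 63, 84, 107, 110, 116] :=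
  C.flip (f4427 C)

theorem f4429 : C.T (v10 C) [23, 33, 66, 88, 102, 110, 117] (v17 C) [18, 41, 56, 77, 105, 109, 124] :=
  C.closeT (p := (v8 C)) (pu := [20, 39, 62, 89, 93, 122])
    (C.pT (f4421 C)
    (C.pH [8, 30, 65, 84, 94, 117] [16, 36, 69, 87, 91, 110, 116] (by decide +kernel)
    (C.pT (f4423 C)
    (C.pH [26, 38, 54, 89, 90, 113] [23, 33, 66, 88, 102, 110, 117] (by decide +kernel) (C.pNil _ _)))))
    (C.pH [8, 30, 65, 84, 94, 117] [4, 34, 53, 84, 105, 110, 122] (by decide +kernel)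
    (C.pT (f4428 C)
    (C.pH [26, 38, 54, 89, 90, 113] [20, 39, 62, 89, 93, 122] (by decide +kernel) (C.pNil _ _))))
    (C.loop_of_one (relLoop1 C) _ _)

theorem f4430 : C.T (v17 C) [18, 41, 56, 77, 105, 109, 124] (v10 C) [23, 33, 66, 88, 102, 110, 117] :=
  C.flip (f4429 C)

theorem f4431 : C.T (v8 C) [19, 49, 83, 98, 111] (v10 C) [10, 39, 53, 70, 97, 114] :=
  C.conv (f1695 C) (f1598 C) (f1598 C) _ [132, 158, 169, 173] _ (by decide +kernel) (by decide +kernel) (by decide +kernel)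

theorem f4432 : C.S (v10 C) [12, 36, 63, 82, 101, 109, 123] :=
  C.stMul (f1714 C) (f1699 C) _ (by decide +kernel)

theorem f4433 : C.S (v10 C) [20, 47, 60, 84] :=
  C.stMul (f1704 C) (f4432 C) _ (by decide +kernel)

theorem f4434 : C.S (v10 C) [23, 43, 60, 89, 99, 119] :=
  C.stMul (f1709 C) (f4433 C) _ (by decide +kernel)

theorem f4435 : C.T (v10 C) [15, 42, 57, 78, 96, 114] (v15 C) [22, 38, 58, 96, 110, 121] :=
  C.conv (f3110 C) (f4434 C) (f4434 C) _ [158, 165, 175, 177] _ (by decide +kernel) (by decide +kernel) (by decide +kernel)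

theorem f4436 : C.S (v8 C) [20, 46, 63, 77, 100, 109, 114] :=
  C.stMul (f1529 C) (f1526 C) _ (by decide +kernel)

theorem f4437 : C.S (v8 C) [18, 44, 64, 82, 109, 120] :=
  C.stMul (f1552 C) (f4436 C) _ (by decide +kernel)

theorem f4438 : C.S (v8 C) [23, 43, 65, 72, 101, 110, 115] :=
  C.stMul (f1579 C) (f4437 C) _ (by decide +kernel)

theorem f4439 : C.T (v8 C) [22, 29, 63, 84, 101, 110, 113] (v17 C) [15, 48, 69, 82, 95, 111] :=
  C.conv (f4127 C) (f1598 C) (f4438 C) _ [137, 163, 165, 173, 177] _ (by decide +kernel) (by decide +kernel) (by decide +kernel)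

theorem f4440 : C.T (v17 C) [15, 48, 69, 82, 95, 111] (v8 C) [22, 29, 63, 84, 101, 110, 113] :=
  C.flip (f4439 C)

theorem f4441 : C.T (v15 C) [19, 44, 49, 88, 104, 122] (v17 C) [10, 41, 67, 86, 93, 110, 125] :=
  C.closeT (p := (v8 C)) (pu := [19, 49, 83, 98, 111])
    (C.pT (f4431 C)
    (C.pH [8, 30, 65, 84, 94, 117] [15, 42, 57, 78, 96, 114] (by decide +kernel)
    (C.pT (f4435 C)
    (C.pH [26, 38, 54, 89, 90, 113] [19, 44, 49, 88, 104, 122] (by decide +kernel) (C.pNil _ _)))))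
    (C.pH [8, 30, 65, 84, 94, 117] [15, 48, 69, 82, 95, 111] (by decide +kernel)
    (C.pT (f4440 C)
    (C.pH [26, 38, 54, 89, 90, 113] [19, 49, 83, 98, 111] (by decide +kernel) (C.pNil _ _))))
    (C.loop_of_one (relLoop1 C) _ _)

theorem f4442 : C.T (v17 C) [10, 41, 67, 86, 93, 110, 125] (v15 C) [19, 44, 49, 88, 104, 122] :=
  C.flip (f4441 C)

theorem f4443 : C.T (v8 C) [5, 33, 53, 85, 95, 110, 112] (v10 C) [23, 33, 68, 74, 104, 109, 124] :=
  C.conv (f1695 C) (f1598 C) (f1598 C) _ [145, 151, 176, 178] _ (by decide +kernel) (by decide +kernel) (by decide +kernel)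

theorem f4444 : C.S (v10 C) [20, 33, 80, 97, 116] :=
  C.stMul (f1709 C) (f1704 C) _ (by decide +kernel)

theorem f4445 : C.S (v10 C) [12, 27, 52, 75, 96, 110, 111] :=
  C.stMul (f1704 C) (f4444 C) _ (by decide +kernel)

theorem f4446 : C.T (v10 C) [10, 32, 49, 83, 99, 110] (v15 C) [12, 48, 64, 80, 101, 109, 113] :=
  C.conv (f3076 C) (f3138 C) (f4445 C) _ [161, 164, 178] _ (by decide +kernel) (by decide +kernel) (by decide +kernel)

theorem f4447 : C.S (v8 C) [21, 40, 62, 80, 104, 110, 123] :=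
  C.stMul (f1579 C) (f1532 C) _ (by decide +kernel)

theorem f4448 : C.S (v8 C) [18, 44, 68, 81, 101, 109, 119] :=
  C.stMul (f1568 C) (f4447 C) _ (by decide +kernel)

theorem f4449 : C.S (v8 C) [18, 29, 49, 88, 108, 113] :=
  C.stMul (f1541 C) (f4448 C) _ (by decide +kernel)

theorem f4450 : C.T (v8 C) [14, 32, 50, 77, 103, 125] (v17 C) [23, 43, 60, 102, 110, 113] :=
  C.conv (f4127 C) (f1598 C) (f4449 C) _ [145, 150, 164, 177] _ (by decide +kernel) (by decide +kernel) (by decide +kernel)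

theorem f4451 : C.T (v17 C) [23, 43, 60, 102, 110, 113] (v8 C) [14, 32, 50, 77, 103, 125] :=
  C.flip (f4450 C)

theorem f4452 : C.T (v15 C) [14, 28, 51, 81, 90] (v17 C) [20, 30, 64, 88, 98, 109, 120] :=
  C.closeT (p := (v8 C)) (pu := [5, 33, 53, 85, 95, 110, 112])
    (C.pT (f4443 C)
    (C.pH [8, 30, 65, 84, 94, 117] [10, 32, 49, 83, 99, 110] (by decide +kernel)
    (C.pT (f4446 C)
    (C.pH [26, 38, 54, 89, 90, 113] [14, 28, 51, 81, 90] (by decide +kernel) (C.pNil _ _)))))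
    (C.pH [8, 30, 65, 84, 94, 117] [23, 43, 60, 102, 110, 113] (by decide +kernel)
    (C.pT (f4451 C)
    (C.pH [26, 38, 54, 89, 90, 113] [5, 33, 53, 85, 95, 110, 112] (by decide +kernel) (C.pNil _ _))))
    (C.loop_of_one (relLoop1 C) _ _)

theorem f4453 : C.T (v17 C) [20, 30, 64, 88, 98, 109, 120] (v15 C) [14, 28, 51, 81, 90] :=
  C.flip (f4452 C)

theorem f4454 : C.T (v8 C) [26, 48, 66, 71, 98, 109, 122] (v9 C) [7, 39, 69, 87, 105, 121] :=
  C.conv (f2109 C) (f1541 C) (f1541 C) _ [126, 160, 170, 174, 178] _ (by decide +kernel) (by decide +kernel) (by decide +kernel)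

theorem f4455 : C.S (v9 C) [10, 47, 79, 100, 110, 114] :=
  C.stMul (f1620 C) (f1607 C) _ (by decide +kernel)

theorem f4456 : C.S (v9 C) [10, 28, 52, 73, 91, 110, 119] :=
  C.stMul (f1607 C) (f4455 C) _ (by decide +kernel)

theorem f4457 : C.S (v9 C) [11, 44, 56, 75, 90, 109, 118] :=
  C.stMul (f1620 C) (f4456 C) _ (by decide +kernel)

theorem f4458 : C.S (v9 C) [22, 30, 60, 88, 92, 110, 119] :=
  C.stMul (f1624 C) (f4457 C) _ (by decide +kernel)

theorem f4459 : C.T (v9 C) [17, 43, 60, 71, 90, 116] (v17 C) [17, 41, 64, 78, 104, 125] :=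
  C.conv (f4247 C) (f1624 C) (f4458 C) _ [132, 152, 166, 173] _ (by decide +kernel) (by decide +kernel) (by decide +kernel)

theorem f4460 : C.S (v8 C) [12, 44, 64, 80, 93, 110, 118] :=
  C.stMul (f1552 C) (f1532 C) _ (by decide +kernel)

theorem f4461 : C.S (v8 C) [11, 60] :=
  C.stMul (f1526 C) (f4460 C) _ (by decide +kernel)

theorem f4462 : C.S (v8 C) [21, 46, 62, 79, 95, 119] :=
  C.stMul (f1579 C) (f4461 C) _ (by decide +kernel)

theorem f4463 : C.T (v8 C) [46, 63, 86, 91, 109, 123] (v17 C) [7, 27, 65, 89, 94, 110, 120] :=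
  C.conv (f4127 C) (f1598 C) (f4462 C) _ [129, 158, 164, 176] _ (by decide +kernel) (by decide +kernel) (by decide +kernel)

theorem f4464 : C.T (v17 C) [7, 27, 65, 89, 94, 110, 120] (v8 C) [46, 63, 86, 91, 109, 123] :=
  C.flip (f4463 C)

theorem f4465 : C.T (v17 C) [20, 47, 68, 89, 104, 124] (v17 C) [11, 33, 65, 84, 96, 118] :=
  C.closeT (p := (v8 C)) (pu := [26, 48, 66, 71, 98, 109, 122])
    (C.pT (f4454 C)
    (C.pH [8, 30, 65, 84, 94, 117] [17, 43, 60, 71, 90, 116] (by decide +kernel)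
    (C.pT (f4459 C)
    (C.pH [26, 38, 54, 89, 90, 113] [20, 47, 68, 89, 104, 124] (by decide +kernel) (C.pNil _ _)))))
    (C.pH [8, 30, 65, 84, 94, 117] [7, 27, 65, 89, 94, 110, 120] (by decide +kernel)
    (C.pT (f4464 C)
    (C.pH [26, 38, 54, 89, 90, 113] [26, 48, 66, 71, 98, 109, 122] (by decide +kernel) (C.pNil _ _))))
    (C.loop_of_one (relLoop1 C) _ _)

theorem f4469 : C.T (v8 C) [13, 39, 60, 80, 98, 110, 118] (v9 C) [18, 48, 50, 86, 98, 109, 118] :=
  C.conv (f2109 C) (f1541 C) (f1541 C) _ [136, 151, 170, 176] _ (by decide +kernel) (by decide +kernel) (by decide +kernel)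

theorem f4470 : C.S (v9 C) [10, 47, 79, 100, 110, 114] :=
  C.stMul (f1620 C) (f1607 C) _ (by decide +kernel)

theorem f4471 : C.S (v9 C) [21, 32, 51, 87, 95, 109, 111] :=
  C.stMul (f1624 C) (f4470 C) _ (by decide +kernel)

theorem f4472 : C.S (v9 C) [4, 48, 68, 83, 104, 125] :=
  C.stMul (f1624 C) (f1615 C) _ (by decide +kernel)

theorem f4473 : C.T (v9 C) [4, 27, 69, 82, 106, 110, 117] (v15 C) [18, 32, 55, 101, 110, 119] :=
  C.conv (f3324 C) (f4471 C) (f4472 C) _ [134, 150, 166, 177] _ (by decide +kernel) (by decide +kernel) (by decide +kernel)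

theorem f4474 : C.S (v8 C) [20, 42, 57, 78, 90, 109, 112] :=
  C.stMul (f1546 C) (f1579 C) _ (by decide +kernel)

theorem f4475 : C.S (v8 C) [11, 44, 56, 77, 97, 110, 123] :=
  C.stMul (f1537 C) (f4474 C) _ (by decide +kernel)

theorem f4476 : C.T (v8 C) [16, 28, 83, 125] (v17 C) [27, 61, 87, 93, 110, 124] :=
  C.conv (f4127 C) (f1598 C) (f4475 C) _ [149, 167, 173] _ (by decide +kernel) (by decide +kernel) (by decide +kernel)

theorem f4477 : C.T (v17 C) [27, 61, 87, 93, 110, 124] (v8 C) [16, 28, 83, 125] :=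
  C.flip (f4476 C)

theorem f4478 : C.T (v15 C) [10, 38, 57, 80, 100, 109, 116] (v17 C) [8, 35, 66, 71, 95, 109, 123] :=
  C.closeT (p := (v8 C)) (pu := [13, 39, 60, 80, 98, 110, 118])
    (C.pT (f4469 C)
    (C.pH [8, 30, 65, 84, 94, 117] [4, 27, 69, 82, 106, 110, 117] (by decide +kernel)
    (C.pT (f4473 C)
    (C.pH [26, 38, 54, 89, 90, 113] [10, 38, 57, 80, 100, 109, 116] (by decide +kernel) (C.pNil _ _)))))
    (C.pH [8, 30, 65, 84, 94, 117] [27, 61, 87, 93, 110, 124] (by decide +kernel)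
    (C.pT (f4477 C)
    (C.pH [26, 38, 54, 89, 90, 113] [13, 39, 60, 80, 98, 110, 118] (by decide +kernel) (C.pNil _ _))))
    (C.loop_of_one (relLoop1 C) _ _)

theorem f4479 : C.T (v17 C) [8, 35, 66, 71, 95, 109, 123] (v15 C) [10, 38, 57, 80, 100, 109, 116] :=
  C.flip (f4478 C)

theorem f4480 : C.T (v8 C) [35, 63, 73, 98, 118] (v16 C) [20, 45, 55, 86, 103, 110, 125] :=
  C.conv (f3774 C) (f3876 C) (f3876 C) _ [148, 157, 169, 172] _ (by decide +kernel) (by decide +kernel) (by decide +kernel)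

theorem f4481 : C.S (v16 C) [28, 52, 73, 91, 125] :=
  C.stMul (f3480 C) (f3456 C) _ (by decide +kernel)

theorem f4482 : C.S (v16 C) [22, 29, 62, 73, 96, 112] :=
  C.stMul (f3468 C) (f4481 C) _ (by decide +kernel)

theorem f4483 : C.S (v16 C) [20, 44, 68, 81, 93, 115] :=
  C.stMul (f3468 C) (f3451 C) _ (by decide +kernel)

theorem f4484 : C.T (v16 C) [23, 27, 60, 89, 101, 110, 123] (v15 C) [20, 38, 50, 71, 96, 119] :=
  C.conv (f4095 C) (f4482 C) (f4483 C) _ [146, 162, 171] _ (by decide +kernel) (by decide +kernel) (by decide +kernel)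

theorem f4485 : C.S (v8 C) [7, 39, 67, 73, 108, 110, 122] :=
  C.stMul (f1541 C) (f4383 C) _ (by decide +kernel)

theorem f4486 : C.T (v8 C) [7, 38, 56, 82, 94, 119] (v17 C) [15, 44, 58, 84, 91, 115] :=
  C.conv (f4127 C) (f1598 C) (f4485 C) _ [137, 169, 171, 178] _ (by decide +kernel) (by decide +kernel) (by decide +kernel)

theorem f4487 : C.T (v17 C) [15, 44, 58, 84, 91, 115] (v8 C) [7, 38, 56, 82, 94, 119] :=
  C.flip (f4486 C)

theorem f4488 : C.T (v15 C) [15, 28, 51, 78, 115] (v17 C) [10, 45, 65, 70, 103, 110, 115] :=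
  C.closeT (p := (v8 C)) (pu := [35, 63, 73, 98, 118])
    (C.pT (f4480 C)
    (C.pH [8, 30, 65, 84, 94, 117] [23, 27, 60, 89, 101, 110, 123] (by decide +kernel)
    (C.pT (f4484 C)
    (C.pH [26, 38, 54, 89, 90, 113] [15, 28, 51, 78, 115] (by decide +kernel) (C.pNil _ _)))))
    (C.pH [8, 30, 65, 84, 94, 117] [15, 44, 58, 84, 91, 115] (by decide +kernel)
    (C.pT (f4487 C)
    (C.pH [26, 38, 54, 89, 90, 113] [35, 63, 73, 98, 118] (by decide +kernel) (C.pNil _ _))))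
    (C.loop_of_one (relLoop1 C) _ _)

theorem f4489 : C.T (v17 C) [10, 45, 65, 70, 103, 110, 115] (v15 C) [15, 28, 51, 78, 115] :=
  C.flip (f4488 C)

theorem f4490 : C.T (v8 C) [4, 48, 61, 72, 98, 109, 112] (v16 C) [9, 38, 53, 71, 98, 110, 116] :=
  C.conv (f3774 C) (f3876 C) (f3876 C) _ [127, 151, 165, 172] _ (by decide +kernel) (by decide +kernel) (by decide +kernel)

theorem f4491 : C.S (v16 C) [28, 55, 71, 105, 109, 119] :=
  C.stMul (f3458 C) (f3451 C) _ (by decide +kernel)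

theorem f4492 : C.S (v16 C) [22, 29, 51, 75, 99, 109, 120] :=
  C.stMul (f3468 C) (f4491 C) _ (by decide +kernel)

theorem f4493 : C.S (v16 C) [18, 48, 62, 92] :=
  C.stMul (f3456 C) (f3451 C) _ (by decide +kernel)

theorem f4494 : C.S (v16 C) [7, 41, 57, 70, 98, 110, 111] :=
  C.stMul (f3458 C) (f4493 C) _ (by decide +kernel)

theorem f4495 : C.T (v16 C) [18, 44, 53, 71, 98, 110, 116] (v17 C) [16, 43, 56, 70, 98, 112] :=
  C.conv (f4256 C) (f4492 C) (f4494 C) _ [146, 152, 168, 172, 177] _ (by decide +kernel) (by decide +kernel) (by decide +kernel)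

theorem f4496 : C.S (v8 C) [21, 40, 62, 80, 104, 110, 123] :=
  C.stMul (f1579 C) (f1532 C) _ (by decide +kernel)

theorem f4497 : C.S (v8 C) [26, 40, 50, 77, 91, 110, 123] :=
  C.stMul (f1546 C) (f4496 C) _ (by decide +kernel)

theorem f4498 : C.S (v8 C) [26, 29, 59, 82, 92, 111] :=
  C.stMul (f1579 C) (f4497 C) _ (by decide +kernel)

theorem f4499 : C.T (v8 C) [6, 40, 65, 88, 106, 113] (v16 C) [20, 30, 53, 79, 92, 109, 118] :=
  C.conv (f3774 C) (f3876 C) (f4498 C) _ [128, 155, 170, 172] _ (by decide +kernel) (by decide +kernel) (by decide +kernel)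

theorem f4500 : C.T (v16 C) [20, 30, 53, 79, 92, 109, 118] (v8 C) [6, 40, 65, 88, 106, 113] :=
  C.flip (f4499 C)

theorem f4501 : C.T (v17 C) [13, 48, 67, 71, 103, 115] (v16 C) [16, 44, 69, 78, 105, 114] :=
  C.closeT (p := (v8 C)) (pu := [4, 48, 61, 72, 98, 109, 112])
    (C.pT (f4490 C)
    (C.pH [8, 30, 65, 84, 94, 117] [18, 44, 53, 71, 98, 110, 116] (by decide +kernel)
    (C.pT (f4495 C)
    (C.pH [26, 38, 54, 89, 90, 113] [13, 48, 67, 71, 103, 115] (by decide +kernel) (C.pNil _ _)))))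
    (C.pH [8, 30, 65, 84, 94, 117] [20, 30, 53, 79, 92, 109, 118] (by decide +kernel)
    (C.pT (f4500 C)
    (C.pH [26, 38, 54, 89, 90, 113] [4, 48, 61, 72, 98, 109, 112] (by decide +kernel) (C.pNil _ _))))
    (C.loop_of_one (relLoop1 C) _ _)

theorem f4502 : C.T (v16 C) [16, 44, 69, 78, 105, 114] (v17 C) [13, 48, 67, 71, 103, 115] :=
  C.flip (f4501 C)

theorem f4503 : C.T (v8 C) [4, 35, 57, 75, 107] (v16 C) [13, 41, 56, 88, 103, 117] :=
  C.conv (f3774 C) (f3876 C) (f3876 C) _ [140, 159, 168, 172] _ (by decide +kernel) (by decide +kernel) (by decide +kernel)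

theorem f4504 : C.S (v16 C) [18, 40, 55, 73, 98, 112] :=
  C.stMul (f3480 C) (f3451 C) _ (by decide +kernel)

theorem f4505 : C.S (v16 C) [11, 40, 62, 81, 115] :=
  C.stMul (f3468 C) (f4504 C) _ (by decide +kernel)

theorem f4506 : C.T (v16 C) [11, 30, 56, 79, 102, 109] (v15 C) [20, 38, 51, 76, 104, 109, 117] :=
  C.conv (f4022 C) (f4505 C) (f3510 C) _ [135, 169, 176] _ (by decide +kernel) (by decide +kernel) (by decide +kernel)

theorem f4507 : C.S (v8 C) [14, 48, 57, 71, 105, 109, 112] :=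
  C.stMul (f1568 C) (f1537 C) _ (by decide +kernel)

theorem f4508 : C.S (v8 C) [25, 38, 65, 106] :=
  C.stMul (f1546 C) (f4507 C) _ (by decide +kernel)

theorem f4509 : C.T (v8 C) [6, 59, 79, 101, 110] (v17 C) [13, 43, 55, 78, 96, 109, 112] :=
  C.conv (f4127 C) (f1598 C) (f4508 C) _ [135, 157] _ (by decide +kernel) (by decide +kernel) (by decide +kernel)

theorem f4510 : C.T (v17 C) [13, 43, 55, 78, 96, 109, 112] (v8 C) [6, 59, 79, 101, 110] :=
  C.flip (f4509 C)

theorem f4511 : C.T (v15 C) [15, 28, 56, 89, 93, 110, 122] (v17 C) [6, 40, 68, 89, 90, 109] :=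
  C.closeT (p := (v8 C)) (pu := [4, 35, 57, 75, 107])
    (C.pT (f4503 C)
    (C.pH [8, 30, 65, 84, 94, 117] [11, 30, 56, 79, 102, 109] (by decide +kernel)
    (C.pT (f4506 C)
    (C.pH [26, 38, 54, 89, 90, 113] [15, 28, 56, 89, 93, 110, 122] (by decide +kernel) (C.pNil _ _)))))
    (C.pH [8, 30, 65, 84, 94, 117] [13, 43, 55, 78, 96, 109, 112] (by decide +kernel)
    (C.pT (f4510 C)
    (C.pH [26, 38, 54, 89, 90, 113] [4, 35, 57, 75, 107] (by decide +kernel) (C.pNil _ _))))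
    (C.loop_of_one (relLoop1 C) _ _)

theorem f4512 : C.T (v17 C) [6, 40, 68, 89, 90, 109] (v15 C) [15, 28, 56, 89, 93, 110, 122] :=
  C.flip (f4511 C)

theorem f4513 : C.T (v8 C) [22, 64, 86, 97, 110, 116] (v17 C) [13, 35, 66, 89, 101, 121] :=
  C.conv (f4127 C) (f1598 C) (f1598 C) _ [135, 155, 168] _ (by decide +kernel) (by decide +kernel) (by decide +kernel)

theorem f4514 : C.S (v8 C) [12, 46, 68, 75, 94, 109, 118] :=
  C.stMul (f1564 C) (f1526 C) _ (by decide +kernel)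

theorem f4515 : C.S (v8 C) [22, 46, 49, 89, 100] :=
  C.stMul (f1541 C) (f4514 C) _ (by decide +kernel)

theorem f4516 : C.S (v8 C) [18, 34, 60] :=
  C.stMul (f1564 C) (f4515 C) _ (by decide +kernel)

theorem f4517 : C.T (v8 C) [9, 43, 62, 85, 105, 115] (v16 C) [16, 34, 50, 87, 99, 109, 118] :=
  C.conv (f3774 C) (f3876 C) (f4516 C) _ [142, 168, 172, 178] _ (by decide +kernel) (by decide +kernel) (by decide +kernel)

theorem f4518 : C.T (v16 C) [16, 34, 50, 87, 99, 109, 118] (v8 C) [9, 43, 62, 85, 105, 115] :=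
  C.flip (f4517 C)

theorem f4519 : C.S (v16 C) [28, 52, 73, 91, 125] :=
  C.stMul (f3480 C) (f3456 C) _ (by decide +kernel)

theorem f4520 : C.T (v16 C) [24, 73, 106, 123] (v17 C) [10, 30, 62, 70, 93, 124] :=
  C.conv (f4256 C) (f4492 C) (f4519 C) _ [137, 163, 170, 173, 178] _ (by decide +kernel) (by decide +kernel) (by decide +kernel)

theorem f4521 : C.T (v17 C) [10, 30, 62, 70, 93, 124] (v16 C) [24, 73, 106, 123] :=
  C.flip (f4520 C)

theorem f4522 : C.T (v17 C) [11, 47, 66, 80, 94, 115] (v17 C) [18, 31, 52, 70, 91, 109, 116] :=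
  C.closeT (p := (v8 C)) (pu := [22, 64, 86, 97, 110, 116])
    (C.pT (f4513 C)
    (C.pH [8, 30, 65, 84, 94, 117] [11, 47, 66, 80, 94, 115] (by decide +kernel) (C.pNil _ _)))
    (C.pH [26, 38, 54, 89, 90, 113] [10, 30, 62, 70, 93, 124] (by decide +kernel)
    (C.pT (f4521 C)
    (C.pH [8, 30, 65, 84, 94, 117] [16, 34, 50, 87, 99, 109, 118] (by decide +kernel)
    (C.pT (f4518 C)
    (C.pH [26, 38, 54, 89, 90, 113] [22, 64, 86, 97, 110, 116] (by decide +kernel) (C.pNil _ _))))))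
    (C.loop_of_one (relLoop1 C) _ _)

theorem f4525 : C.T (v8 C) [18, 45, 83, 97, 117] (v17 C) [10, 41, 77, 108, 110, 120] :=
  C.conv (f4127 C) (f1598 C) (f1598 C) _ [132, 159, 164] _ (by decide +kernel) (by decide +kernel) (by decide +kernel)

theorem f4526 : C.S (v8 C) [20, 27, 53, 84, 105, 117] :=
  C.stMul (f1546 C) (f1541 C) _ (by decide +kernel)

theorem f4527 : C.S (v8 C) [20, 47, 60, 84] :=
  C.stMul (f1541 C) (f4526 C) _ (by decide +kernel)

theorem f4528 : C.S (v8 C) [20, 47, 58, 86, 90, 110, 116] :=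
  C.stMul (f1579 C) (f4527 C) _ (by decide +kernel)

theorem f4529 : C.T (v8 C) [25, 41, 49, 73, 110, 117] (v16 C) [19, 29, 83, 96, 109, 117] :=
  C.conv (f3774 C) (f3876 C) (f4528 C) _ [126, 152, 166, 173, 178] _ (by decide +kernel) (by decide +kernel) (by decide +kernel)

theorem f4530 : C.T (v16 C) [19, 29, 83, 96, 109, 117] (v8 C) [25, 41, 49, 73, 110, 117] :=
  C.flip (f4529 C)

theorem f4531 : C.T (v16 C) [15, 44, 60, 88, 96, 110, 122] (v17 C) [7, 35, 52, 83, 107, 109] :=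
  C.conv (f4256 C) (f4492 C) (f3451 C) _ [137, 154, 174, 178] _ (by decide +kernel) (by decide +kernel) (by decide +kernel)

theorem f4532 : C.T (v17 C) [7, 35, 52, 83, 107, 109] (v16 C) [15, 44, 60, 88, 96, 110, 122] :=
  C.flip (f4531 C)

theorem f4533 : C.T (v17 C) [15, 48, 66, 87, 103, 118] (v17 C) [23, 44, 65, 75, 92, 117] :=
  C.closeT (p := (v8 C)) (pu := [18, 45, 83, 97, 117])
    (C.pT (f4525 C)
    (C.pH [8, 30, 65, 84, 94, 117] [15, 48, 66, 87, 103, 118] (by decide +kernel) (C.pNil _ _)))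
    (C.pH [26, 38, 54, 89, 90, 113] [7, 35, 52, 83, 107, 109] (by decide +kernel)
    (C.pT (f4532 C)
    (C.pH [8, 30, 65, 84, 94, 117] [19, 29, 83, 96, 109, 117] (by decide +kernel)
    (C.pT (f4530 C)
    (C.pH [26, 38, 54, 89, 90, 113] [18, 45, 83, 97, 117] (by decide +kernel) (C.pNil _ _))))))
    (C.loop_of_one (relLoop1 C) _ _)

theorem f4537 : C.T (v8 C) [16, 38, 61, 85, 108, 110, 122] (v17 C) [24, 29, 58, 81, 99, 110, 115] :=
  C.conv (f4127 C) (f1598 C) (f1598 C) _ [146, 166, 176, 177] _ (by decide +kernel) (by decide +kernel) (by decide +kernel)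

theorem f4538 : C.S (v8 C) [12, 47, 65, 86, 91, 109, 120] :=
  C.stMul (f1537 C) (f1552 C) _ (by decide +kernel)

theorem f4539 : C.S (v8 C) [13, 49, 84, 108, 109, 121] :=
  C.stMul (f1579 C) (f4538 C) _ (by decide +kernel)

theorem f4540 : C.T (v8 C) [26, 35, 56, 86, 99, 109, 112] (v9 C) [22, 32, 59, 82, 91, 110, 122] :=
  C.conv (f2109 C) (f1541 C) (f4539 C) _ [130, 151, 168, 172] _ (by decide +kernel) (by decide +kernel) (by decide +kernel)

theorem f4541 : C.T (v9 C) [22, 32, 59, 82, 91, 110, 122] (v8 C) [26, 35, 56, 86, 99, 109, 112] :=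
  C.flip (f4540 C)

theorem f4542 : C.S (v9 C) [10, 28, 53, 80, 101, 110, 112] :=
  C.stMul (f1607 C) (f1620 C) _ (by decide +kernel)

theorem f4543 : C.S (v9 C) [11, 44, 50, 87, 101, 113] :=
  C.stMul (f1620 C) (f4542 C) _ (by decide +kernel)

theorem f4544 : C.S (v9 C) [22, 30, 55, 82, 96, 109, 121] :=
  C.stMul (f1624 C) (f4543 C) _ (by decide +kernel)

theorem f4545 : C.T (v9 C) [17, 41, 67, 84, 97, 113] (v17 C) [17, 46, 61, 81, 108, 109, 113] :=
  C.conv (f4201 C) (f1615 C) (f4544 C) _ [128, 163, 168, 178] _ (by decide +kernel) (by decide +kernel) (by decide +kernel)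

theorem f4546 : C.T (v17 C) [17, 46, 61, 81, 108, 109, 113] (v9 C) [17, 41, 67, 84, 97, 113] :=
  C.flip (f4545 C)

theorem f4547 : C.T (v17 C) [16, 47, 69, 87, 108, 109, 119] (v17 C) [19, 42, 53, 76, 100, 110, 121] :=
  C.closeT (p := (v8 C)) (pu := [16, 38, 61, 85, 108, 110, 122])
    (C.pT (f4537 C)
    (C.pH [8, 30, 65, 84, 94, 117] [16, 47, 69, 87, 108, 109, 119] (by decide +kernel) (C.pNil _ _)))
    (C.pH [26, 38, 54, 89, 90, 113] [17, 46, 61, 81, 108, 109, 113] (by decide +kernel)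
    (C.pT (f4546 C)
    (C.pH [8, 30, 65, 84, 94, 117] [22, 32, 59, 82, 91, 110, 122] (by decide +kernel)
    (C.pT (f4541 C)
    (C.pH [26, 38, 54, 89, 90, 113] [16, 38, 61, 85, 108, 110, 122] (by decide +kernel) (C.pNil _ _))))))
    (C.loop_of_one (relLoop1 C) _ _)

theorem f4549 : C.S (v17 C) [51, 81, 96, 109, 125] :=
  C.stMul (f4132 C) (f4137 C) _ (by decide +kernel)

theorem f4551 : C.T (v8 C) [13, 36, 65, 70, 106, 109, 116] (v17 C) [8, 44, 66, 87, 95, 116] :=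
  C.conv (f4127 C) (f1598 C) (f1598 C) _ [130, 166, 175, 177] _ (by decide +kernel) (by decide +kernel) (by decide +kernel)

theorem f4552 : C.S (v8 C) [20, 27, 53, 84, 105, 117] :=
  C.stMul (f1546 C) (f1541 C) _ (by decide +kernel)

theorem f4553 : C.S (v8 C) [12, 39, 49, 77, 90, 116] :=
  C.stMul (f1564 C) (f4552 C) _ (by decide +kernel)

theorem f4554 : C.S (v8 C) [13, 43, 68, 77, 108, 109, 123] :=
  C.stMul (f1579 C) (f4553 C) _ (by decide +kernel)

theorem f4555 : C.T (v8 C) [16, 36, 61, 75, 98, 109, 115] (v9 C) [4, 29, 62, 81, 108, 109, 112] :=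
  C.conv (f2109 C) (f1541 C) (f4554 C) _ [137, 155, 170, 173, 178] _ (by decide +kernel) (by decide +kernel) (by decide +kernel)

theorem f4556 : C.T (v9 C) [4, 29, 62, 81, 108, 109, 112] (v8 C) [16, 36, 61, 75, 98, 109, 115] :=
  C.flip (f4555 C)

theorem f4557 : C.S (v9 C) [11, 40, 56, 79, 103, 109, 114] :=
  C.stMul (f1615 C) (f1620 C) _ (by decide +kernel)

theorem f4558 : C.S (v9 C) [22, 28, 59, 71, 101, 109, 111] :=
  C.stMul (f1624 C) (f4557 C) _ (by decide +kernel)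

theorem f4559 : C.S (v9 C) [6, 29, 63, 103, 119] :=
  C.stMul (f1620 C) (f4558 C) _ (by decide +kernel)

theorem f4560 : C.T (v9 C) [18, 47, 52, 82, 106, 110, 117] (v15 C) [40, 68, 77, 92, 110, 116] :=
  C.conv (f3025 C) (f4013 C) (f4559 C) _ [131, 150, 169, 171] _ (by decide +kernel) (by decide +kernel) (by decide +kernel)

theorem f4561 : C.T (v15 C) [40, 68, 77, 92, 110, 116] (v9 C) [18, 47, 52, 82, 106, 110, 117] :=
  C.flip (f4560 C)

theorem f4562 : C.T (v17 C) [39, 63, 83, 92, 109, 121] (v15 C) [7, 29, 65, 74, 104, 110, 114] :=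
  C.closeT (p := (v8 C)) (pu := [13, 36, 65, 70, 106, 109, 116])
    (C.pT (f4551 C)
    (C.pH [8, 30, 65, 84, 94, 117] [39, 63, 83, 92, 109, 121] (by decide +kernel) (C.pNil _ _)))
    (C.pH [26, 38, 54, 89, 90, 113] [40, 68, 77, 92, 110, 116] (by decide +kernel)
    (C.pT (f4561 C)
    (C.pH [8, 30, 65, 84, 94, 117] [4, 29, 62, 81, 108, 109, 112] (by decide +kernel)
    (C.pT (f4556 C)
    (C.pH [26, 38, 54, 89, 90, 113] [13, 36, 65, 70, 106, 109, 116] (by decide +kernel) (C.pNil _ _))))))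
    (C.loop_of_one (relLoop1 C) _ _)

theorem f4563 : C.T (v15 C) [7, 29, 65, 74, 104, 110, 114] (v17 C) [39, 63, 83, 92, 109, 121] :=
  C.flip (f4562 C)

theorem f4564 : C.T (v8 C) [18, 39, 53, 88, 91, 109, 122] (v8 C) [12, 41, 49, 86, 92, 109, 118] :=
  C.conv (f1574 C) (f1529 C) (f1529 C) _ [136, 153, 164, 172] _ (by decide +kernel) (by decide +kernel) (by decide +kernel)

theorem f4565 : C.S (v8 C) [32, 57, 72, 97, 110, 111] :=
  C.stMul (f1552 C) (f1541 C) _ (by decide +kernel)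

theorem f4566 : C.S (v8 C) [11, 44, 64, 73, 93, 110, 122] :=
  C.stMul (f1564 C) (f4565 C) _ (by decide +kernel)

theorem f4567 : C.S (v8 C) [23, 46, 92, 109, 114] :=
  C.stMul (f1537 C) (f4566 C) _ (by decide +kernel)

theorem f4568 : C.T (v8 C) [14, 46, 60, 85, 102, 117] (v17 C) [41, 55, 88, 93, 116] :=
  C.conv (f4127 C) (f1598 C) (f4567 C) _ [159, 167, 175, 177] _ (by decide +kernel) (by decide +kernel) (by decide +kernel)

theorem f4569 : C.S (v8 C) [11, 39, 62, 80, 106, 109, 114] :=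
  C.stMul (f1564 C) (f1552 C) _ (by decide +kernel)

theorem f4570 : C.S (v8 C) [12, 29, 59, 80, 96, 124] :=
  C.stMul (f1529 C) (f4569 C) _ (by decide +kernel)

theorem f4571 : C.S (v8 C) [18, 41, 64, 80, 104, 110] :=
  C.stMul (f1537 C) (f4570 C) _ (by decide +kernel)

theorem f4572 : C.T (v8 C) [9, 33, 51, 80, 97, 109, 120] (v17 C) [9, 33, 58, 73, 94, 110, 112] :=
  C.conv (f4127 C) (f1598 C) (f4571 C) _ [131, 168, 175, 178] _ (by decide +kernel) (by decide +kernel) (by decide +kernel)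

theorem f4573 : C.T (v17 C) [9, 33, 58, 73, 94, 110, 112] (v8 C) [9, 33, 51, 80, 97, 109, 120] :=
  C.flip (f4572 C)

theorem f4574 : C.T (v17 C) [8, 32, 61, 70, 103, 110, 116] (v17 C) [15, 46, 58, 78, 105, 114] :=
  C.closeT (p := (v8 C)) (pu := [18, 39, 53, 88, 91, 109, 122])
    (C.pT (f4564 C)
    (C.pH [26, 38, 54, 89, 90, 113] [14, 46, 60, 85, 102, 117] (by decide +kernel)
    (C.pT (f4568 C)
    (C.pH [8, 30, 65, 84, 94, 117] [8, 32, 61, 70, 103, 110, 116] (by decide +kernel) (C.pNil _ _)))))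
    (C.pH [26, 38, 54, 89, 90, 113] [9, 33, 58, 73, 94, 110, 112] (by decide +kernel)
    (C.pT (f4573 C)
    (C.pH [8, 30, 65, 84, 94, 117] [18, 39, 53, 88, 91, 109, 122] (by decide +kernel) (C.pNil _ _))))
    (C.loop_of_one (relLoop2 C) _ _)

theorem f4578 : C.T (v8 C) [6, 30, 67, 97, 109, 120] (v8 C) [10, 45, 69, 89, 98, 109, 115] :=
  C.conv (f1574 C) (f1529 C) (f1529 C) _ [139, 156, 165, 176, 178] _ (by decide +kernel) (by decide +kernel) (by decide +kernel)

theorem f4579 : C.S (v8 C) [18, 44, 68, 81, 106, 109, 118] :=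
  C.stMul (f1537 C) (f1537 C) _ (by decide +kernel)

theorem f4580 : C.S (v8 C) [23, 47, 59, 73, 95, 112] :=
  C.stMul (f1552 C) (f4579 C) _ (by decide +kernel)

theorem f4581 : C.S (v8 C) [18, 48, 52, 89, 99, 110, 111] :=
  C.stMul (f1546 C) (f4580 C) _ (by decide +kernel)

theorem f4582 : C.T (v8 C) [21, 48, 69, 72, 96, 110, 114] (v17 C) [22, 47, 58, 77, 104, 110, 112] :=
  C.conv (f4127 C) (f1598 C) (f4581 C) _ [144, 149, 168, 176] _ (by decide +kernel) (by decide +kernel) (by decide +kernel)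

theorem f4583 : C.S (v8 C) [18, 48, 57, 97, 110] :=
  C.stMul (f1552 C) (f1546 C) _ (by decide +kernel)

theorem f4584 : C.S (v8 C) [7, 28, 62, 76, 97, 110, 117] :=
  C.stMul (f1532 C) (f4583 C) _ (by decide +kernel)

theorem f4585 : C.S (v8 C) [25, 31, 65, 108, 124] :=
  C.stMul (f1579 C) (f4584 C) _ (by decide +kernel)

theorem f4586 : C.T (v8 C) [22, 47, 66, 75, 105, 123] (v9 C) [16, 39, 49, 81, 100, 109, 117] :=
  C.conv (f2109 C) (f1541 C) (f4585 C) _ [129, 150, 170, 173, 178] _ (by decide +kernel) (by decide +kernel) (by decide +kernel)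

theorem f4587 : C.T (v9 C) [16, 39, 49, 81, 100, 109, 117] (v8 C) [22, 47, 66, 75, 105, 123] :=
  C.flip (f4586 C)

theorem f4588 : C.T (v17 C) [6, 30, 66, 79, 93, 110, 119] (v9 C) [26, 38, 76, 105, 110, 125] :=
  C.closeT (p := (v8 C)) (pu := [6, 30, 67, 97, 109, 120])
    (C.pT (f4578 C)
    (C.pH [26, 38, 54, 89, 90, 113] [21, 48, 69, 72, 96, 110, 114] (by decide +kernel)
    (C.pT (f4582 C)
    (C.pH [8, 30, 65, 84, 94, 117] [6, 30, 66, 79, 93, 110, 119] (by decide +kernel) (C.pNil _ _)))))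
    (C.pH [26, 38, 54, 89, 90, 113] [16, 39, 49, 81, 100, 109, 117] (by decide +kernel)
    (C.pT (f4587 C)
    (C.pH [8, 30, 65, 84, 94, 117] [6, 30, 67, 97, 109, 120] (by decide +kernel) (C.pNil _ _))))
    (C.loop_of_one (relLoop2 C) _ _)

theorem f4589 : C.T (v9 C) [26, 38, 76, 105, 110, 125] (v17 C) [6, 30, 66, 79, 93, 110, 119] :=
  C.flip (f4588 C)

theorem f4590 : C.T (v8 C) [13, 47, 56, 85, 107, 109, 117] (v8 C) [6, 41, 51, 70, 90, 118] :=
  C.conv (f1574 C) (f1529 C) (f1529 C) _ [129, 154, 172] _ (by decide +kernel) (by decide +kernel) (by decide +kernel)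

theorem f4591 : C.S (v8 C) [7, 32, 63, 89, 107, 116] :=
  C.stMul (f1541 C) (f1532 C) _ (by decide +kernel)

theorem f4592 : C.S (v8 C) [11, 31, 52, 78, 98, 110] :=
  C.stMul (f1552 C) (f4591 C) _ (by decide +kernel)

theorem f4593 : C.S (v8 C) [15, 28, 57, 85, 95, 122] :=
  C.stMul (f1568 C) (f4592 C) _ (by decide +kernel)

theorem f4594 : C.T (v8 C) [4, 37, 49, 83, 94, 110, 115] (v17 C) [21, 29, 63, 99, 109, 112] :=
  C.conv (f4127 C) (f1598 C) (f4593 C) _ [143, 163, 164] _ (by decide +kernel) (by decide +kernel) (by decide +kernel)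

theorem f4595 : C.S (v8 C) [12, 28, 64, 80, 95, 110, 112] :=
  C.stMul (f1552 C) (f4259 C) _ (by decide +kernel)

theorem f4596 : C.S (v8 C) [7, 28, 57, 72, 102, 110, 125] :=
  C.stMul (f1552 C) (f4595 C) _ (by decide +kernel)

theorem f4597 : C.T (v8 C) [6, 32, 64, 87, 93, 110, 123] (v17 C) [9, 35, 53, 84, 100, 109, 119] :=
  C.conv (f4127 C) (f1598 C) (f4596 C) _ [131, 152, 166, 175, 177] _ (by decide +kernel) (by decide +kernel) (by decide +kernel)

theorem f4598 : C.T (v17 C) [9, 35, 53, 84, 100, 109, 119] (v8 C) [6, 32, 64, 87, 93, 110, 123] :=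
  C.flip (f4597 C)

theorem f4599 : C.T (v17 C) [24, 41, 56, 86, 92, 118] (v17 C) [15, 41, 62, 74, 104, 110, 119] :=
  C.closeT (p := (v8 C)) (pu := [13, 47, 56, 85, 107, 109, 117])
    (C.pT (f4590 C)
    (C.pH [26, 38, 54, 89, 90, 113] [4, 37, 49, 83, 94, 110, 115] (by decide +kernel)
    (C.pT (f4594 C)
    (C.pH [8, 30, 65, 84, 94, 117] [24, 41, 56, 86, 92, 118] (by decide +kernel) (C.pNil _ _)))))
    (C.pH [26, 38, 54, 89, 90, 113] [9, 35, 53, 84, 100, 109, 119] (by decide +kernel)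
    (C.pT (f4598 C)
    (C.pH [8, 30, 65, 84, 94, 117] [13, 47, 56, 85, 107, 109, 117] (by decide +kernel) (C.pNil _ _))))
    (C.loop_of_one (relLoop2 C) _ _)

theorem f4603 : C.T (v8 C) [10, 36, 57, 86, 98, 110, 124] (v6 C) [14, 39, 62, 84, 105, 110, 122] :=
  C.conv (f1562 C) (f1832 C) (f1832 C) _ [158, 168, 176] _ (by decide +kernel) (by decide +kernel) (by decide +kernel)

theorem f4604 : C.S (v8 C) [27, 69, 82, 90, 120] :=
  C.stMul (f1546 C) (f1526 C) _ (by decide +kernel)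

theorem f4605 : C.S (v8 C) [39, 69, 87, 108, 110, 111] :=
  C.stMul (f1552 C) (f4604 C) _ (by decide +kernel)

theorem f4606 : C.S (v8 C) [11, 38, 67, 74, 99, 109, 122] :=
  C.stMul (f1532 C) (f4605 C) _ (by decide +kernel)

theorem f4607 : C.T (v8 C) [23, 39, 66, 82, 91, 122] (v9 C) [23, 33, 62, 79, 106, 110, 125] :=
  C.conv (f2109 C) (f1541 C) (f4606 C) _ [127, 156, 175, 177] _ (by decide +kernel) (by decide +kernel) (by decide +kernel)

theorem f4608 : C.T (v9 C) [23, 33, 62, 79, 106, 110, 125] (v8 C) [23, 39, 66, 82, 91, 122] :=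
  C.flip (f4607 C)

theorem f4609 : C.S (v9 C) [47, 79, 100, 110, 114] :=
  C.stMul (f1620 C) (f1615 C) _ (by decide +kernel)

theorem f4610 : C.S (v9 C) [28, 52, 73, 91, 110, 119] :=
  C.stMul (f1607 C) (f4609 C) _ (by decide +kernel)

theorem f4611 : C.S (v9 C) [10, 69, 81, 100, 113] :=
  C.stMul (f1615 C) (f1610 C) _ (by decide +kernel)

theorem f4612 : C.S (v9 C) [21, 37, 62, 82, 103] :=
  C.stMul (f1624 C) (f4611 C) _ (by decide +kernel)

theorem f4613 : C.T (v9 C) [13, 31, 60, 86, 106, 123] (v17 C) [21, 42, 63, 78, 93, 109, 114] :=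
  C.conv (f4589 C) (f4610 C) (f4612 C) _ [139, 151, 166, 174] _ (by decide +kernel) (by decide +kernel) (by decide +kernel)

theorem f4614 : C.T (v17 C) [21, 42, 63, 78, 93, 109, 114] (v9 C) [13, 31, 60, 86, 106, 123] :=
  C.flip (f4613 C)

theorem f4615 : C.T (v6 C) [5, 43, 62, 81, 93, 121] (v17 C) [12, 29, 55, 76, 93, 109, 122] :=
  C.closeT (p := (v8 C)) (pu := [10, 36, 57, 86, 98, 110, 124])
    (C.pT (f4603 C)
    (C.pH [26, 38, 54, 89, 90, 113] [5, 43, 62, 81, 93, 121] (by decide +kernel) (C.pNil _ _)))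
    (C.pH [8, 30, 65, 84, 94, 117] [21, 42, 63, 78, 93, 109, 114] (by decide +kernel)
    (C.pT (f4614 C)
    (C.pH [26, 38, 54, 89, 90, 113] [23, 33, 62, 79, 106, 110, 125] (by decide +kernel)
    (C.pT (f4608 C)
    (C.pH [8, 30, 65, 84, 94, 117] [10, 36, 57, 86, 98, 110, 124] (by decide +kernel) (C.pNil _ _))))))
    (C.loop_of_one (relLoop2 C) _ _)

theorem f4616 : C.T (v17 C) [12, 29, 55, 76, 93, 109, 122] (v6 C) [5, 43, 62, 81, 93, 121] :=
  C.flip (f4615 C)

theorem f4617 : C.T (v8 C) [11, 43, 50, 78, 96, 117] (v8 C) [11, 30, 62, 83, 109] :=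
  C.conv (f1592 C) (f1594 C) (f1594 C) _ [142, 154, 167, 177] _ (by decide +kernel) (by decide +kernel) (by decide +kernel)

theorem f4618 : C.S (v8 C) [11, 48, 50, 84, 95, 122] :=
  C.stMul (f1564 C) (f4250 C) _ (by decide +kernel)

theorem f4619 : C.S (v8 C) [20, 43, 56, 85, 103, 114] :=
  C.stMul (f1532 C) (f4618 C) _ (by decide +kernel)

theorem f4620 : C.T (v8 C) [24, 33, 69, 85, 94, 110, 115] (v17 C) [15, 41, 54, 77, 110, 120] :=
  C.conv (f4127 C) (f1598 C) (f4619 C) _ [137, 155, 164, 171, 177] _ (by decide +kernel) (by decide +kernel) (by decide +kernel)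

theorem f4621 : C.S (v8 C) [32, 58, 100, 110, 123] :=
  C.stMul (f1541 C) (f1529 C) _ (by decide +kernel)

theorem f4622 : C.S (v8 C) [11, 44, 56, 75, 90, 110, 111] :=
  C.stMul (f1564 C) (f4621 C) _ (by decide +kernel)

theorem f4623 : C.S (v8 C) [12, 28, 64, 74, 92, 109, 123] :=
  C.stMul (f1552 C) (f4622 C) _ (by decide +kernel)

theorem f4624 : C.T (v8 C) [13, 55, 86, 97, 109, 115] (v17 C) [17, 32, 59, 87, 100, 109, 115] :=
  C.conv (f4127 C) (f1598 C) (f4623 C) _ [139, 152, 170, 175, 178] _ (by decide +kernel) (by decide +kernel) (by decide +kernel)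

theorem f4625 : C.T (v17 C) [17, 32, 59, 87, 100, 109, 115] (v8 C) [13, 55, 86, 97, 109, 115] :=
  C.flip (f4624 C)

theorem f4626 : C.T (v17 C) [19, 45, 61, 72, 106, 109, 120] (v17 C) [19, 45, 54, 70, 97, 110, 113] :=
  C.closeT (p := (v8 C)) (pu := [11, 43, 50, 78, 96, 117])
    (C.pT (f4617 C)
    (C.pH [26, 38, 54, 89, 90, 113] [24, 33, 69, 85, 94, 110, 115] (by decide +kernel)
    (C.pT (f4620 C)
    (C.pH [8, 30, 65, 84, 94, 117] [19, 45, 61, 72, 106, 109, 120] (by decide +kernel) (C.pNil _ _)))))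
    (C.pH [26, 38, 54, 89, 90, 113] [17, 32, 59, 87, 100, 109, 115] (by decide +kernel)
    (C.pT (f4625 C)
    (C.pH [8, 30, 65, 84, 94, 117] [11, 43, 50, 78, 96, 117] (by decide +kernel) (C.pNil _ _))))
    (C.loop_of_one (relLoop2 C) _ _)

theorem f4629 : C.T (v8 C) [48, 61, 81, 93, 109, 120] (v9 C) [10, 35, 53, 80, 92, 110] :=
  C.conv (f1604 C) (f1598 C) (f1598 C) _ [132, 154, 164, 175, 177] _ (by decide +kernel) (by decide +kernel) (by decide +kernel)

theorem f4630 : C.S (v9 C) [13, 45, 70, 104, 115] :=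
  C.stMul (f1615 C) (f1607 C) _ (by decide +kernel)

theorem f4631 : C.S (v9 C) [47, 62, 87, 90, 110, 118] :=
  C.stMul (f1620 C) (f4630 C) _ (by decide +kernel)

theorem f4632 : C.T (v9 C) [21, 27, 54, 83, 92, 109, 120] (v15 C) [8, 35, 57, 76, 107, 119] :=
  C.conv (f3025 C) (f4013 C) (f4631 C) _ [143, 150, 175] _ (by decide +kernel) (by decide +kernel) (by decide +kernel)

theorem f4633 : C.S (v8 C) [23, 68, 84, 98, 109, 118] :=
  C.stMul (f1537 C) (f4569 C) _ (by decide +kernel)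

theorem f4634 : C.S (v8 C) [22, 46, 49, 71, 103, 116] :=
  C.stMul (f1532 C) (f4633 C) _ (by decide +kernel)

theorem f4635 : C.T (v8 C) [8, 46, 68, 76, 115] (v17 C) [5, 36, 50, 84, 94] :=
  C.conv (f4127 C) (f1598 C) (f4634 C) _ [127, 161, 165, 172, 178] _ (by decide +kernel) (by decide +kernel) (by decide +kernel)

theorem f4636 : C.T (v17 C) [5, 36, 50, 84, 94] (v8 C) [8, 46, 68, 76, 115] :=
  C.flip (f4635 C)

theorem f4637 : C.T (v15 C) [27, 72, 108, 109, 117] (v17 C) [14, 34, 69, 80, 107, 124] :=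
  C.closeT (p := (v8 C)) (pu := [48, 61, 81, 93, 109, 120])
    (C.pT (f4629 C)
    (C.pH [26, 38, 54, 89, 90, 113] [21, 27, 54, 83, 92, 109, 120] (by decide +kernel)
    (C.pT (f4632 C)
    (C.pH [8, 30, 65, 84, 94, 117] [27, 72, 108, 109, 117] (by decide +kernel) (C.pNil _ _)))))
    (C.pH [26, 38, 54, 89, 90, 113] [5, 36, 50, 84, 94] (by decide +kernel)
    (C.pT (f4636 C)
    (C.pH [8, 30, 65, 84, 94, 117] [48, 61, 81, 93, 109, 120] (by decide +kernel) (C.pNil _ _))))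
    (C.loop_of_one (relLoop2 C) _ _)

theorem f4638 : C.T (v17 C) [14, 34, 69, 80, 107, 124] (v15 C) [27, 72, 108, 109, 117] :=
  C.flip (f4637 C)

theorem f4639 : C.T (v8 C) [25, 45, 59, 83, 105, 110, 114] (v9 C) [22, 47, 53, 87, 92, 109, 124] :=
  C.conv (f1604 C) (f1598 C) (f1598 C) _ [144, 149, 164, 172, 178] _ (by decide +kernel) (by decide +kernel) (by decide +kernel)

theorem f4640 : C.S (v9 C) [11, 40, 56, 79, 103, 109, 114] :=
  C.stMul (f1615 C) (f1620 C) _ (by decide +kernel)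

theorem f4641 : C.S (v9 C) [13, 44, 50, 87, 101, 113] :=
  C.stMul (f1620 C) (f4640 C) _ (by decide +kernel)

theorem f4642 : C.T (v9 C) [19, 42, 49, 85, 96, 110, 120] (v4 C) [7, 31, 66, 80, 101, 109, 111] :=
  C.conv (f2043 C) (f2531 C) (f4641 C) _ [144, 153, 169, 171, 178] _ (by decide +kernel) (by decide +kernel) (by decide +kernel)

theorem f4643 : C.S (v8 C) [62, 71, 100, 110, 112] :=
  C.stMul (f1541 C) (f1552 C) _ (by decide +kernel)

theorem f4644 : C.S (v8 C) [11, 38, 50, 86, 100, 119] :=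
  C.stMul (f1564 C) (f4643 C) _ (by decide +kernel)

theorem f4645 : C.S (v8 C) [20, 47, 58, 89, 107, 110, 120] :=
  C.stMul (f1532 C) (f4644 C) _ (by decide +kernel)

theorem f4646 : C.T (v8 C) [4, 44, 58, 70, 97, 110, 117] (v17 C) [11, 31, 62, 80, 107, 109, 125] :=
  C.conv (f4127 C) (f1598 C) (f4645 C) _ [133, 151, 164, 176] _ (by decide +kernel) (by decide +kernel) (by decide +kernel)

theorem f4647 : C.T (v17 C) [11, 31, 62, 80, 107, 109, 125] (v8 C) [4, 44, 58, 70, 97, 110, 117] :=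
  C.flip (f4646 C)

theorem f4648 : C.T (v4 C) [17, 38, 52, 74, 105, 110, 120] (v17 C) [8, 60, 83, 102, 109, 119] :=
  C.closeT (p := (v8 C)) (pu := [25, 45, 59, 83, 105, 110, 114])
    (C.pT (f4639 C)
    (C.pH [26, 38, 54, 89, 90, 113] [19, 42, 49, 85, 96, 110, 120] (by decide +kernel)
    (C.pT (f4642 C)
    (C.pH [8, 30, 65, 84, 94, 117] [17, 38, 52, 74, 105, 110, 120] (by decide +kernel) (C.pNil _ _)))))
    (C.pH [26, 38, 54, 89, 90, 113] [11, 31, 62, 80, 107, 109, 125] (by decide +kernel)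
    (C.pT (f4647 C)
    (C.pH [8, 30, 65, 84, 94, 117] [25, 45, 59, 83, 105, 110, 114] (by decide +kernel) (C.pNil _ _))))
    (C.loop_of_one (relLoop2 C) _ _)

theorem f4649 : C.T (v17 C) [8, 60, 83, 102, 109, 119] (v4 C) [17, 38, 52, 74, 105, 110, 120] :=
  C.flip (f4648 C)

theorem f4650 : C.T (v8 C) [13, 46, 68, 84, 95, 110] (v10 C) [18, 43, 67, 80, 105, 109, 116] :=
  C.conv (f1695 C) (f1598 C) (f1598 C) _ [140, 157, 164, 175, 178] _ (by decide +kernel) (by decide +kernel) (by decide +kernel)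

theorem f4651 : C.S (v10 C) [37, 66, 75, 96, 110, 124] :=
  C.stMul (f1714 C) (f4444 C) _ (by decide +kernel)

theorem f4652 : C.T (v10 C) [10, 47, 86, 91, 109, 123] (v15 C) [12, 38, 65, 76, 106, 110] :=
  C.conv (f3076 C) (f3138 C) (f4651 C) _ [145, 149, 174, 177] _ (by decide +kernel) (by decide +kernel) (by decide +kernel)

theorem f4653 : C.S (v8 C) [23, 35, 51, 72, 100, 110, 111] :=
  C.stMul (f1537 C) (f4235 C) _ (by decide +kernel)

theorem f4654 : C.S (v8 C) [18, 29, 52, 89, 103, 110, 122] :=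
  C.stMul (f1546 C) (f4653 C) _ (by decide +kernel)

theorem f4655 : C.T (v8 C) [6, 45, 58, 87, 91, 116] (v17 C) [11, 33, 54, 78, 90] :=
  C.conv (f4127 C) (f1598 C) (f4654 C) _ [133, 158, 170] _ (by decide +kernel) (by decide +kernel) (by decide +kernel)

theorem f4656 : C.T (v17 C) [11, 33, 54, 78, 90] (v8 C) [6, 45, 58, 87, 91, 116] :=
  C.flip (f4655 C)

theorem f4657 : C.T (v15 C) [21, 34, 50, 76, 106, 110] (v17 C) [8, 47, 61, 72, 98, 113] :=
  C.closeT (p := (v8 C)) (pu := [13, 46, 68, 84, 95, 110])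
    (C.pT (f4650 C)
    (C.pH [26, 38, 54, 89, 90, 113] [10, 47, 86, 91, 109, 123] (by decide +kernel)
    (C.pT (f4652 C)
    (C.pH [8, 30, 65, 84, 94, 117] [21, 34, 50, 76, 106, 110] (by decide +kernel) (C.pNil _ _)))))
    (C.pH [26, 38, 54, 89, 90, 113] [11, 33, 54, 78, 90] (by decide +kernel)
    (C.pT (f4656 C)
    (C.pH [8, 30, 65, 84, 94, 117] [13, 46, 68, 84, 95, 110] (by decide +kernel) (C.pNil _ _))))
    (C.loop_of_one (relLoop2 C) _ _)

theorem f4658 : C.T (v17 C) [8, 47, 61, 72, 98, 113] (v15 C) [21, 34, 50, 76, 106, 110] :=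
  C.flip (f4657 C)

theorem f4659 : C.T (v8 C) [5, 30, 54, 74, 98, 109, 118] (v9 C) [18, 34, 51, 77, 93, 109, 121] :=
  C.conv (f2109 C) (f1541 C) (f1541 C) _ [146, 149, 164, 171, 177] _ (by decide +kernel) (by decide +kernel) (by decide +kernel)

theorem f4660 : C.S (v9 C) [4, 48, 53, 80, 99, 115] :=
  C.stMul (f1615 C) (f1624 C) _ (by decide +kernel)

theorem f4661 : C.T (v9 C) [10, 44, 60, 81] (v17 C) [16, 34, 59, 82, 107, 110, 121] :=
  C.conv (f4589 C) (f4610 C) (f4660 C) _ [129, 149, 169, 178] _ (by decide +kernel) (by decide +kernel) (by decide +kernel)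

theorem f4662 : C.T (v8 C) [14, 30, 57, 76, 108, 109, 119] (v9 C) [22, 27, 65, 72, 100] :=
  C.conv (f2109 C) (f1541 C) (f4404 C) _ [132, 163, 167, 174, 178] _ (by decide +kernel) (by decide +kernel) (by decide +kernel)

theorem f4663 : C.T (v9 C) [22, 27, 65, 72, 100] (v8 C) [14, 30, 57, 76, 108, 109, 119] :=
  C.flip (f4662 C)

theorem f4664 : C.T (v17 C) [20, 37, 65, 81, 94, 110] (v9 C) [9, 39, 66, 75, 103, 125] :=
  C.closeT (p := (v8 C)) (pu := [5, 30, 54, 74, 98, 109, 118])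
    (C.pT (f4659 C)
    (C.pH [26, 38, 54, 89, 90, 113] [10, 44, 60, 81] (by decide +kernel)
    (C.pT (f4661 C)
    (C.pH [8, 30, 65, 84, 94, 117] [20, 37, 65, 81, 94, 110] (by decide +kernel) (C.pNil _ _)))))
    (C.pH [26, 38, 54, 89, 90, 113] [22, 27, 65, 72, 100] (by decide +kernel)
    (C.pT (f4663 C)
    (C.pH [8, 30, 65, 84, 94, 117] [5, 30, 54, 74, 98, 109, 118] (by decide +kernel) (C.pNil _ _))))
    (C.loop_of_one (relLoop2 C) _ _)

theorem f4665 : C.T (v9 C) [9, 39, 66, 75, 103, 125] (v17 C) [20, 37, 65, 81, 94, 110] :=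
  C.flip (f4664 C)

theorem f4666 : C.T (v8 C) [24, 67, 73, 106, 110, 118] (v9 C) [15, 37, 67, 84, 106, 120] :=
  C.conv (f2109 C) (f1541 C) (f1541 C) _ [134, 161, 166, 173, 178] _ (by decide +kernel) (by decide +kernel) (by decide +kernel)

theorem f4667 : C.S (v9 C) [10, 28, 53, 80, 101, 110, 112] :=
  C.stMul (f1607 C) (f1620 C) _ (by decide +kernel)

theorem f4668 : C.S (v9 C) [21, 38, 57, 84, 103, 109, 118] :=
  C.stMul (f1624 C) (f4667 C) _ (by decide +kernel)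

theorem f4669 : C.T (v9 C) [9, 41, 63, 81, 97, 110, 118] (v16 C) [17, 32, 59, 75, 102, 125] :=
  C.conv (f3959 C) (f4016 C) (f4668 C) _ [144, 150, 166, 176, 178] _ (by decide +kernel) (by decide +kernel) (by decide +kernel)

theorem f4670 : C.S (v8 C) [23, 46, 70, 93, 109] :=
  C.stMul (f1564 C) (f4591 C) _ (by decide +kernel)

theorem f4671 : C.T (v8 C) [21, 33, 60, 87, 93] (v17 C) [21, 33, 68, 81, 100, 109, 116] :=
  C.conv (f4127 C) (f1598 C) (f4670 C) _ [143, 151, 175, 178] _ (by decide +kernel) (by decide +kernel) (by decide +kernel)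

theorem f4672 : C.T (v17 C) [21, 33, 68, 81, 100, 109, 116] (v8 C) [21, 33, 60, 87, 93] :=
  C.flip (f4671 C)

theorem f4673 : C.T (v16 C) [22, 34, 66, 74, 97, 122] (v17 C) [10, 31, 58, 70, 108, 109, 120] :=
  C.closeT (p := (v8 C)) (pu := [24, 67, 73, 106, 110, 118])
    (C.pT (f4666 C)
    (C.pH [26, 38, 54, 89, 90, 113] [9, 41, 63, 81, 97, 110, 118] (by decide +kernel)
    (C.pT (f4669 C)
    (C.pH [8, 30, 65, 84, 94, 117] [22, 34, 66, 74, 97, 122] (by decide +kernel) (C.pNil _ _)))))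
    (C.pH [26, 38, 54, 89, 90, 113] [21, 33, 68, 81, 100, 109, 116] (by decide +kernel)
    (C.pT (f4672 C)
    (C.pH [8, 30, 65, 84, 94, 117] [24, 67, 73, 106, 110, 118] (by decide +kernel) (C.pNil _ _))))
    (C.loop_of_one (relLoop2 C) _ _)

theorem f4674 : C.T (v17 C) [10, 31, 58, 70, 108, 109, 120] (v16 C) [22, 34, 66, 74, 97, 122] :=
  C.flip (f4673 C)

theorem f4675 : C.T (v8 C) [15, 45, 53, 89, 108, 121] (v9 C) [10, 47, 53, 70, 106, 109] :=
  C.conv (f2109 C) (f1541 C) (f1541 C) _ [133, 157, 166, 173, 177] _ (by decide +kernel) (by decide +kernel) (by decide +kernel)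

theorem f4676 : C.S (v9 C) [23, 37, 55, 75, 92, 110, 123] :=
  C.stMul (f1624 C) (f1607 C) _ (by decide +kernel)

theorem f4677 : C.S (v9 C) [25, 29, 52, 87, 96, 125] :=
  C.stMul (f1620 C) (f4676 C) _ (by decide +kernel)

theorem f4678 : C.S (v9 C) [25, 35, 66, 89, 103, 113] :=
  C.stMul (f1624 C) (f4677 C) _ (by decide +kernel)

theorem f4679 : C.S (v9 C) [47, 79, 100, 110, 114] :=
  C.stMul (f1620 C) (f1615 C) _ (by decide +kernel)

theorem f4680 : C.S (v9 C) [13, 40, 59, 82, 99, 110, 111] :=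
  C.stMul (f1615 C) (f4679 C) _ (by decide +kernel)

theorem f4681 : C.S (v9 C) [43, 67, 71, 98, 119] :=
  C.stMul (f1620 C) (f4680 C) _ (by decide +kernel)

theorem f4682 : C.T (v9 C) [21, 34, 61, 85, 101, 121] (v17 C) [16, 35, 63, 79, 94, 117] :=
  C.conv (f4665 C) (f4678 C) (f4681 C) _ [139, 160, 170, 176, 178] _ (by decide +kernel) (by decide +kernel) (by decide +kernel)

theorem f4683 : C.S (v8 C) [11, 30, 69, 71, 102, 110, 122] :=
  C.stMul (f1532 C) (f1541 C) _ (by decide +kernel)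

theorem f4684 : C.S (v8 C) [21, 69, 83, 108, 110, 118] :=
  C.stMul (f1579 C) (f4683 C) _ (by decide +kernel)

theorem f4685 : C.T (v8 C) [10, 34, 57, 73, 104, 114] (v17 C) [16, 29, 67, 85, 99, 110, 113] :=
  C.conv (f4127 C) (f1598 C) (f4684 C) _ [138, 158, 167, 176] _ (by decide +kernel) (by decide +kernel) (by decide +kernel)

theorem f4686 : C.T (v17 C) [16, 29, 67, 85, 99, 110, 113] (v8 C) [10, 34, 57, 73, 104, 114] :=
  C.flip (f4685 C)

theorem f4687 : C.T (v17 C) [20, 46, 66, 73, 106, 110, 124] (v17 C) [26, 32, 50, 80, 105, 109, 122] :=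
  C.closeT (p := (v8 C)) (pu := [15, 45, 53, 89, 108, 121])
    (C.pT (f4675 C)
    (C.pH [26, 38, 54, 89, 90, 113] [21, 34, 61, 85, 101, 121] (by decide +kernel)
    (C.pT (f4682 C)
    (C.pH [8, 30, 65, 84, 94, 117] [20, 46, 66, 73, 106, 110, 124] (by decide +kernel) (C.pNil _ _)))))
    (C.pH [26, 38, 54, 89, 90, 113] [16, 29, 67, 85, 99, 110, 113] (by decide +kernel)
    (C.pT (f4686 C)
    (C.pH [8, 30, 65, 84, 94, 117] [15, 45, 53, 89, 108, 121] (by decide +kernel) (C.pNil _ _))))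
    (C.loop_of_one (relLoop2 C) _ _)

theorem f4691 : C.T (v8 C) [16, 57, 70, 104, 110, 118] (v9 C) [28, 63, 82, 92, 113] :=
  C.conv (f2109 C) (f1541 C) (f1541 C) _ [147, 153, 173, 177] _ (by decide +kernel) (by decide +kernel) (by decide +kernel)

theorem f4692 : C.S (v9 C) [10, 47, 79, 100, 110, 114] :=
  C.stMul (f1620 C) (f1607 C) _ (by decide +kernel)

theorem f4693 : C.S (v9 C) [11, 40, 59, 82, 99, 110, 111] :=
  C.stMul (f1615 C) (f4692 C) _ (by decide +kernel)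

theorem f4694 : C.S (v9 C) [22, 28, 57, 77, 98, 109, 116] :=
  C.stMul (f1624 C) (f4693 C) _ (by decide +kernel)

theorem f4695 : C.T (v9 C) [26, 31, 56, 77, 108, 110, 114] (v15 C) [24, 29, 56, 80, 104] :=
  C.conv (f3038 C) (f3917 C) (f4694 C) _ [129, 158, 169] _ (by decide +kernel) (by decide +kernel) (by decide +kernel)

theorem f4696 : C.S (v8 C) [20, 48, 69, 105, 110, 115] :=
  C.stMul (f1541 C) (f1526 C) _ (by decide +kernel)

theorem f4697 : C.S (v8 C) [18, 29, 62, 86, 97, 110] :=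
  C.stMul (f1552 C) (f4696 C) _ (by decide +kernel)

theorem f4698 : C.T (v8 C) [24, 48, 56, 88, 104, 109, 118] (v17 C) [15, 34, 49, 83, 91, 125] :=
  C.conv (f4127 C) (f1598 C) (f4697 C) _ [137, 161, 168, 178] _ (by decide +kernel) (by decide +kernel) (by decide +kernel)

theorem f4699 : C.T (v17 C) [15, 34, 49, 83, 91, 125] (v8 C) [24, 48, 56, 88, 104, 109, 118] :=
  C.flip (f4698 C)

theorem f4700 : C.T (v15 C) [16, 47, 49, 84, 92, 109, 125] (v17 C) [20, 67, 78, 107, 110] :=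
  C.closeT (p := (v8 C)) (pu := [16, 57, 70, 104, 110, 118])
    (C.pT (f4691 C)
    (C.pH [26, 38, 54, 89, 90, 113] [26, 31, 56, 77, 108, 110, 114] (by decide +kernel)
    (C.pT (f4695 C)
    (C.pH [8, 30, 65, 84, 94, 117] [16, 47, 49, 84, 92, 109, 125] (by decide +kernel) (C.pNil _ _)))))
    (C.pH [26, 38, 54, 89, 90, 113] [15, 34, 49, 83, 91, 125] (by decide +kernel)
    (C.pT (f4699 C)
    (C.pH [8, 30, 65, 84, 94, 117] [16, 57, 70, 104, 110, 118] (by decide +kernel) (C.pNil _ _))))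
    (C.loop_of_one (relLoop2 C) _ _)

theorem f4701 : C.T (v17 C) [20, 67, 78, 107, 110] (v15 C) [16, 47, 49, 84, 92, 109, 125] :=
  C.flip (f4700 C)

theorem f4702 : C.T (v8 C) [17, 40, 65, 89, 100, 112] (v16 C) [19, 65, 76, 94, 118] :=
  C.conv (f3774 C) (f3876 C) (f3876 C) _ [146, 155, 165, 175, 177] _ (by decide +kernel) (by decide +kernel) (by decide +kernel)

theorem f4703 : C.S (v16 C) [18, 48, 62, 92] :=
  C.stMul (f3456 C) (f3451 C) _ (by decide +kernel)

theorem f4704 : C.S (v16 C) [12, 39, 50, 77, 95, 109, 124] :=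
  C.stMul (f3480 C) (f4703 C) _ (by decide +kernel)

theorem f4705 : C.T (v16 C) [17, 37, 50, 89, 104, 123] (v15 C) [8, 40, 57, 76, 93, 124] :=
  C.conv (f4001 C) (f4704 C) (f4704 C) _ [140, 167, 176] _ (by decide +kernel) (by decide +kernel) (by decide +kernel)

theorem f4706 : C.T (v8 C) [7, 30, 59, 86, 101, 109, 120] (v17 C) [4, 48, 49, 85, 99, 111] :=
  C.conv (f4127 C) (f1598 C) (f4140 C) _ [126, 158, 167, 175, 178] _ (by decide +kernel) (by decide +kernel) (by decide +kernel)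

theorem f4707 : C.T (v17 C) [4, 48, 49, 85, 99, 111] (v8 C) [7, 30, 59, 86, 101, 109, 120] :=
  C.flip (f4706 C)

theorem f4708 : C.T (v15 C) [32, 62, 77, 102, 109, 123] (v17 C) [6, 40, 58, 76, 95, 110, 114] :=
  C.closeT (p := (v8 C)) (pu := [17, 40, 65, 89, 100, 112])
    (C.pT (f4702 C)
    (C.pH [26, 38, 54, 89, 90, 113] [17, 37, 50, 89, 104, 123] (by decide +kernel)
    (C.pT (f4705 C)
    (C.pH [8, 30, 65, 84, 94, 117] [32, 62, 77, 102, 109, 123] (by decide +kernel) (C.pNil _ _)))))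
    (C.pH [26, 38, 54, 89, 90, 113] [4, 48, 49, 85, 99, 111] (by decide +kernel)
    (C.pT (f4707 C)
    (C.pH [8, 30, 65, 84, 94, 117] [17, 40, 65, 89, 100, 112] (by decide +kernel) (C.pNil _ _))))
    (C.loop_of_one (relLoop2 C) _ _)

theorem f4709 : C.T (v17 C) [6, 40, 58, 76, 95, 110, 114] (v15 C) [32, 62, 77, 102, 109, 123] :=
  C.flip (f4708 C)

theorem f4710 : C.T (v8 C) [10, 39, 64, 79, 93, 109, 123] (v17 C) [18, 48, 66, 88, 97, 109, 115] :=
  C.conv (f4127 C) (f1598 C) (f1598 C) _ [140, 161, 168, 175] _ (by decide +kernel) (by decide +kernel) (by decide +kernel)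

theorem f4711 : C.S (v8 C) [13, 31, 61, 71, 92, 110, 114] :=
  C.stMul (f1579 C) (f1754 C) _ (by decide +kernel)

theorem f4712 : C.T (v8 C) [23, 46, 63, 84, 95, 110, 119] (v10 C) [9, 34, 63, 89, 104, 109, 111] :=
  C.conv (f1695 C) (f1598 C) (f4711 C) _ [131, 159, 175] _ (by decide +kernel) (by decide +kernel) (by decide +kernel)

theorem f4713 : C.T (v10 C) [9, 34, 63, 89, 104, 109, 111] (v8 C) [23, 46, 63, 84, 95, 110, 119] :=
  C.flip (f4712 C)

theorem f4714 : C.S (v10 C) [22, 34, 56, 72, 106, 110, 125] :=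
  C.stMul (f1704 C) (f1699 C) _ (by decide +kernel)

theorem f4715 : C.T (v10 C) [15, 38, 65, 81, 91, 109, 117] (v15 C) [17, 28, 53, 85, 102, 113] :=
  C.conv (f2781 C) (f1709 C) (f4714 C) _ [136, 159, 165, 172] _ (by decide +kernel) (by decide +kernel) (by decide +kernel)

theorem f4716 : C.T (v15 C) [17, 28, 53, 85, 102, 113] (v10 C) [15, 38, 65, 81, 91, 109, 117] :=
  C.flip (f4715 C)

theorem f4717 : C.T (v17 C) [10, 31, 64, 70, 92, 119] (v15 C) [7, 85, 102, 113] :=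
  C.closeT (p := (v8 C)) (pu := [10, 39, 64, 79, 93, 109, 123])
    (C.pT (f4710 C)
    (C.pH [26, 38, 54, 89, 90, 113] [10, 31, 64, 70, 92, 119] (by decide +kernel) (C.pNil _ _)))
    (C.pH [8, 30, 65, 84, 94, 117] [17, 28, 53, 85, 102, 113] (by decide +kernel)
    (C.pT (f4716 C)
    (C.pH [26, 38, 54, 89, 90, 113] [9, 34, 63, 89, 104, 109, 111] (by decide +kernel)
    (C.pT (f4713 C)
    (C.pH [8, 30, 65, 84, 94, 117] [10, 39, 64, 79, 93, 109, 123] (by decide +kernel) (C.pNil _ _))))))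
    (C.loop_of_one (relLoop2 C) _ _)

theorem f4718 : C.T (v15 C) [7, 85, 102, 113] (v17 C) [10, 31, 64, 70, 92, 119] :=
  C.flip (f4717 C)

theorem f4719 : C.T (v8 C) [16, 30, 66, 81, 96, 110, 119] (v17 C) [10, 28, 58, 74, 101, 109, 111] :=
  C.conv (f4127 C) (f1598 C) (f1598 C) _ [132, 150, 169, 175] _ (by decide +kernel) (by decide +kernel) (by decide +kernel)

theorem f4720 : C.S (v17 C) [51, 81, 96, 109, 125] :=
  C.stMul (f4132 C) (f4137 C) _ (by decide +kernel)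

theorem f4721 : C.T (v17 C) [21, 35, 68, 89, 96, 112] (v15 C) [36, 58, 81, 93, 110, 120] :=
  C.conv (f4701 C) (f4720 C) (f4132 C) _ [143, 159, 173, 178] _ (by decide +kernel) (by decide +kernel) (by decide +kernel)

theorem f4722 : C.S (v8 C) [11, 29, 49, 83, 94] :=
  C.stMul (f1532 C) (f4341 C) _ (by decide +kernel)

theorem f4723 : C.S (v8 C) [23, 32, 49, 81, 98, 109, 118] :=
  C.stMul (f1537 C) (f4722 C) _ (by decide +kernel)

theorem f4724 : C.T (v8 C) [24, 33, 57, 78, 92, 109, 111] (v17 C) [24, 39, 64, 71, 96, 112] :=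
  C.conv (f4127 C) (f1598 C) (f4723 C) _ [146, 154, 166, 175, 177] _ (by decide +kernel) (by decide +kernel) (by decide +kernel)

theorem f4725 : C.T (v17 C) [24, 39, 64, 71, 96, 112] (v8 C) [24, 33, 57, 78, 92, 109, 111] :=
  C.flip (f4724 C)

theorem f4726 : C.T (v15 C) [8, 31, 57, 76, 91, 110, 116] (v17 C) [11, 34, 62, 73, 104, 111] :=
  C.closeT (p := (v8 C)) (pu := [16, 30, 66, 81, 96, 110, 119])
    (C.pT (f4719 C)
    (C.pH [26, 38, 54, 89, 90, 113] [21, 35, 68, 89, 96, 112] (by decide +kernel)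
    (C.pT (f4721 C)
    (C.pH [8, 30, 65, 84, 94, 117] [8, 31, 57, 76, 91, 110, 116] (by decide +kernel) (C.pNil _ _)))))
    (C.pH [26, 38, 54, 89, 90, 113] [24, 39, 64, 71, 96, 112] (by decide +kernel)
    (C.pT (f4725 C)
    (C.pH [8, 30, 65, 84, 94, 117] [16, 30, 66, 81, 96, 110, 119] (by decide +kernel) (C.pNil _ _))))
    (C.loop_of_one (relLoop2 C) _ _)

theorem f4727 : C.T (v17 C) [11, 34, 62, 73, 104, 111] (v15 C) [8, 31, 57, 76, 91, 110, 116] :=
  C.flip (f4726 C)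

theorem f4728 : C.T (v8 C) [13, 30, 62, 84, 90, 110, 112] (v17 C) [20, 27, 58, 88, 108, 109, 125] :=
  C.conv (f4127 C) (f1598 C) (f1598 C) _ [142, 150, 164, 174, 178] _ (by decide +kernel) (by decide +kernel) (by decide +kernel)

theorem f4729 : C.T (v17 C) [15, 32, 68, 88, 90, 110, 116] (v15 C) [13, 27, 63, 74, 103, 110, 116] :=
  C.conv (f4727 C) (f4300 C) (f4137 C) _ [140, 167, 176] _ (by decide +kernel) (by decide +kernel) (by decide +kernel)

theorem f4730 : C.S (v8 C) [11, 38, 67, 74, 108, 124] :=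
  C.stMul (f1564 C) (f1579 C) _ (by decide +kernel)

theorem f4731 : C.S (v8 C) [7, 31, 65, 87, 100, 122] :=
  C.stMul (f1541 C) (f4730 C) _ (by decide +kernel)

theorem f4732 : C.S (v8 C) [11, 39, 49, 88, 111] :=
  C.stMul (f1552 C) (f4731 C) _ (by decide +kernel)

theorem f4733 : C.T (v8 C) [6, 39, 68, 84, 95, 110] (v17 C) [19, 43, 60, 73, 93, 109, 125] :=
  C.conv (f4127 C) (f1598 C) (f4732 C) _ [141, 168, 171, 178] _ (by decide +kernel) (by decide +kernel) (by decide +kernel)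

theorem f4734 : C.T (v17 C) [19, 43, 60, 73, 93, 109, 125] (v8 C) [6, 39, 68, 84, 95, 110] :=
  C.flip (f4733 C)

theorem f4735 : C.T (v15 C) [11, 39, 56, 86, 99, 109, 112] (v17 C) [22, 48, 56, 88, 91, 109, 115] :=
  C.closeT (p := (v8 C)) (pu := [13, 30, 62, 84, 90, 110, 112])
    (C.pT (f4728 C)
    (C.pH [26, 38, 54, 89, 90, 113] [15, 32, 68, 88, 90, 110, 116] (by decide +kernel)
    (C.pT (f4729 C)
    (C.pH [8, 30, 65, 84, 94, 117] [11, 39, 56, 86, 99, 109, 112] (by decide +kernel) (C.pNil _ _)))))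
    (C.pH [26, 38, 54, 89, 90, 113] [19, 43, 60, 73, 93, 109, 125] (by decide +kernel)
    (C.pT (f4734 C)
    (C.pH [8, 30, 65, 84, 94, 117] [13, 30, 62, 84, 90, 110, 112] (by decide +kernel) (C.pNil _ _))))
    (C.loop_of_one (relLoop2 C) _ _)

theorem f4736 : C.T (v17 C) [22, 48, 56, 88, 91, 109, 115] (v15 C) [11, 39, 56, 86, 99, 109, 112] :=
  C.flip (f4735 C)

theorem f4737 : C.T (v8 C) [4, 31, 56, 89, 105, 110, 124] (v17 C) [5, 46, 60, 72, 106, 109, 123] :=
  C.conv (f4127 C) (f1598 C) (f1598 C) _ [127, 153, 166, 173, 178] _ (by decide +kernel) (by decide +kernel) (by decide +kernel)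

theorem f4738 : C.S (v8 C) [18, 34, 69, 89, 107, 116] :=
  C.stMul (f1552 C) (f1526 C) _ (by decide +kernel)

theorem f4739 : C.S (v8 C) [22, 46, 52, 94, 110, 119] :=
  C.stMul (f1564 C) (f4738 C) _ (by decide +kernel)

theorem f4740 : C.S (v8 C) [27, 65, 82, 95, 110, 113] :=
  C.stMul (f1537 C) (f4739 C) _ (by decide +kernel)

theorem f4741 : C.S (v8 C) [20, 68, 85, 98, 110] :=
  C.stMul (f1546 C) (f4740 C) _ (by decide +kernel)

theorem f4742 : C.T (v8 C) [18, 37, 65, 86, 98, 122] (v9 C) [22, 38, 58, 89, 106, 110, 120] :=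
  C.conv (f2109 C) (f1541 C) (f4741 C) _ [132, 151, 167, 177] _ (by decide +kernel) (by decide +kernel) (by decide +kernel)

theorem f4743 : C.T (v9 C) [22, 38, 58, 89, 106, 110, 120] (v8 C) [18, 37, 65, 86, 98, 122] :=
  C.flip (f4742 C)

theorem f4744 : C.S (v9 C) [13, 45, 70, 104, 115] :=
  C.stMul (f1615 C) (f1607 C) _ (by decide +kernel)

theorem f4745 : C.S (v9 C) [47, 62, 87, 90, 110, 118] :=
  C.stMul (f1620 C) (f4744 C) _ (by decide +kernel)

theorem f4746 : C.S (v9 C) [23, 38, 57, 84, 103, 109, 118] :=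
  C.stMul (f1624 C) (f4745 C) _ (by decide +kernel)

theorem f4747 : C.S (v9 C) [25, 46, 49, 70, 90, 109, 119] :=
  C.stMul (f1620 C) (f4746 C) _ (by decide +kernel)

theorem f4748 : C.T (v9 C) [9, 36, 59, 74, 97, 109, 119] (v17 C) [48, 53, 75, 102, 117] :=
  C.conv (f4665 C) (f4678 C) (f4747 C) _ [144, 156, 168, 172, 177] _ (by decide +kernel) (by decide +kernel) (by decide +kernel)

theorem f4749 : C.T (v17 C) [48, 53, 75, 102, 117] (v9 C) [9, 36, 59, 74, 97, 109, 119] :=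
  C.flip (f4748 C)

theorem f4750 : C.T (v17 C) [8, 46, 57, 80, 100, 110, 117] (v17 C) [8, 46, 62, 70, 107, 110, 120] :=
  C.closeT (p := (v8 C)) (pu := [4, 31, 56, 89, 105, 110, 124])
    (C.pT (f4737 C)
    (C.pH [26, 38, 54, 89, 90, 113] [8, 46, 57, 80, 100, 110, 117] (by decide +kernel) (C.pNil _ _)))
    (C.pH [8, 30, 65, 84, 94, 117] [48, 53, 75, 102, 117] (by decide +kernel)
    (C.pT (f4749 C)
    (C.pH [26, 38, 54, 89, 90, 113] [22, 38, 58, 89, 106, 110, 120] (by decide +kernel)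
    (C.pT (f4743 C)
    (C.pH [8, 30, 65, 84, 94, 117] [4, 31, 56, 89, 105, 110, 124] (by decide +kernel) (C.pNil _ _))))))
    (C.loop_of_one (relLoop2 C) _ _)

theorem f4751 : C.T (v17 C) [8, 46, 62, 70, 107, 110, 120] (v17 C) [8, 46, 57, 80, 100, 110, 117] :=
  C.flip (f4750 C)

theorem f4752 : C.T (v9 C) [18, 29, 50, 70, 108, 113] (v10 C) [14, 40, 69, 80, 92, 110, 112] :=
  C.conv (f2002 C) (f3429 C) (f3429 C) _ [142, 158, 167] _ (by decide +kernel) (by decide +kernel) (by decide +kernel)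

theorem f4753 : C.S (v9 C) [22, 48, 68, 83, 104, 125] :=
  C.stMul (f1624 C) (f1610 C) _ (by decide +kernel)

theorem f4754 : C.S (v9 C) [6, 35, 59, 84, 106, 110, 112] :=
  C.stMul (f1620 C) (f4753 C) _ (by decide +kernel)

theorem f4755 : C.S (v9 C) [12, 46, 51, 82, 96, 109, 111] :=
  C.stMul (f1615 C) (f4754 C) _ (by decide +kernel)

theorem f4756 : C.T (v9 C) [18, 45, 63, 87, 106, 110, 112] (v17 C) [20, 32, 56, 85, 94, 109, 122] :=
  C.conv (f4377 C) (f4755 C) (f4755 C) _ [152, 167, 172, 177] _ (by decide +kernel) (by decide +kernel) (by decide +kernel)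

theorem f4757 : C.T (v17 C) [20, 32, 56, 85, 94, 109, 122] (v9 C) [18, 45, 63, 87, 106, 110, 112] :=
  C.flip (f4756 C)

theorem f4758 : C.T (v10 C) [14, 40, 67, 70, 100, 117] (v17 C) [11, 36, 54, 71, 101, 109, 122] :=
  C.closeT (p := (v9 C)) (pu := [18, 29, 50, 70, 108, 113])
    (C.pT (f4752 C)
    (C.pH [12, 35, 50, 83] [14, 40, 67, 70, 100, 117] (by decide +kernel) (C.pNil _ _)))
    (C.pH [12, 35, 50, 83] [20, 32, 56, 85, 94, 109, 122] (by decide +kernel)
    (C.pT (f4757 C)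
    (C.pH [12, 35, 50, 83] [18, 29, 50, 70, 108, 113] (by decide +kernel) (C.pNil _ _))))
    (C.loop_of_one (relLoop0 C) _ _)

theorem f4759 : C.T (v17 C) [11, 36, 54, 71, 101, 109, 122] (v10 C) [14, 40, 67, 70, 100, 117] :=
  C.flip (f4758 C)

theorem f4760 : C.T (v9 C) [10, 46, 69, 72, 103, 109, 113] (v10 C) [15, 46, 55, 72, 94, 110, 111] :=
  C.conv (f2002 C) (f3429 C) (f3429 C) _ [131, 159, 165, 173, 177] _ (by decide +kernel) (by decide +kernel) (by decide +kernel)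

theorem f4761 : C.S (v9 C) [4, 48, 68, 83, 104, 125] :=
  C.stMul (f1624 C) (f1615 C) _ (by decide +kernel)

theorem f4762 : C.S (v9 C) [18, 29, 50, 71, 91, 114] :=
  C.stMul (f1620 C) (f4761 C) _ (by decide +kernel)

theorem f4763 : C.S (v9 C) [25, 29, 50, 71, 91, 114] :=
  C.stMul (f1620 C) (f1624 C) _ (by decide +kernel)

theorem f4764 : C.T (v9 C) [8, 44, 68, 70, 105, 118] (v17 C) [15, 40, 65, 75, 98, 109] :=
  C.conv (f4409 C) (f4762 C) (f4763 C) _ [135, 160, 164, 171, 177] _ (by decide +kernel) (by decide +kernel) (by decide +kernel)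

theorem f4765 : C.T (v17 C) [15, 40, 65, 75, 98, 109] (v9 C) [8, 44, 68, 70, 105, 118] :=
  C.flip (f4764 C)

theorem f4766 : C.T (v10 C) [15, 46, 55, 79, 103, 110, 115] (v17 C) [15, 28, 53, 73, 108, 110, 119] :=
  C.closeT (p := (v9 C)) (pu := [10, 46, 69, 72, 103, 109, 113])
    (C.pT (f4760 C)
    (C.pH [12, 35, 50, 83] [15, 46, 55, 79, 103, 110, 115] (by decide +kernel) (C.pNil _ _)))
    (C.pH [12, 35, 50, 83] [15, 40, 65, 75, 98, 109] (by decide +kernel)
    (C.pT (f4765 C)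
    (C.pH [12, 35, 50, 83] [10, 46, 69, 72, 103, 109, 113] (by decide +kernel) (C.pNil _ _))))
    (C.loop_of_one (relLoop0 C) _ _)

theorem f4767 : C.T (v17 C) [15, 28, 53, 73, 108, 110, 119] (v10 C) [15, 46, 55, 79, 103, 110, 115] :=
  C.flip (f4766 C)

theorem f4768 : C.S (v9 C) [13, 48, 54, 73, 93, 110, 123] :=
  C.stMul (f1620 C) (f1610 C) _ (by decide +kernel)

theorem f4769 : C.T (v9 C) [12, 27, 68, 71, 110, 114] (v5 C) [23, 30, 54, 84, 99, 109, 114] :=
  C.conv (f2011 C) (f4768 C) (f4768 C) _ [162, 165] _ (by decide +kernel) (by decide +kernel) (by decide +kernel)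

theorem f4770 : C.S (v9 C) [4, 48, 68, 83, 104, 125] :=
  C.stMul (f1624 C) (f1615 C) _ (by decide +kernel)

theorem f4771 : C.S (v9 C) [18, 29, 50, 71, 91, 114] :=
  C.stMul (f1620 C) (f4770 C) _ (by decide +kernel)

theorem f4772 : C.T (v9 C) [28, 63, 75, 108, 109, 123] (v17 C) [11, 40, 49, 86, 103, 109, 122] :=
  C.conv (f4377 C) (f4755 C) (f4771 C) _ [129, 163, 167, 175] _ (by decide +kernel) (by decide +kernel) (by decide +kernel)

theorem f4773 : C.T (v17 C) [11, 40, 49, 86, 103, 109, 122] (v9 C) [28, 63, 75, 108, 109, 123] :=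
  C.flip (f4772 C)

theorem f4774 : C.T (v5 C) [30, 63, 71, 124] (v17 C) [22, 34, 64, 88, 96, 109] :=
  C.closeT (p := (v9 C)) (pu := [12, 27, 68, 71, 110, 114])
    (C.pT (f4769 C)
    (C.pH [12, 35, 50, 83] [30, 63, 71, 124] (by decide +kernel) (C.pNil _ _)))
    (C.pH [12, 35, 50, 83] [11, 40, 49, 86, 103, 109, 122] (by decide +kernel)
    (C.pT (f4773 C)
    (C.pH [12, 35, 50, 83] [12, 27, 68, 71, 110, 114] (by decide +kernel) (C.pNil _ _))))
    (C.loop_of_one (relLoop0 C) _ _)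

theorem f4775 : C.T (v17 C) [22, 34, 64, 88, 96, 109] (v5 C) [30, 63, 71, 124] :=
  C.flip (f4774 C)

theorem f4776 : C.T (v9 C) [8, 40, 67, 82, 92, 114] (v5 C) [21, 29, 55, 74, 96, 110, 118] :=
  C.conv (f2016 C) (f1657 C) (f1657 C) _ [134, 152, 167, 173, 178] _ (by decide +kernel) (by decide +kernel) (by decide +kernel)

theorem f4777 : C.S (v9 C) [6, 46, 51, 82, 96, 109, 111] :=
  C.stMul (f1607 C) (f4763 C) _ (by decide +kernel)

theorem f4778 : C.T (v9 C) [21, 32, 69, 83, 97, 109, 118] (v17 C) [24, 27, 54, 73, 98, 125] :=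
  C.conv (f4409 C) (f4762 C) (f4777 C) _ [137, 163, 164, 171, 177] _ (by decide +kernel) (by decide +kernel) (by decide +kernel)

theorem f4779 : C.T (v17 C) [24, 27, 54, 73, 98, 125] (v9 C) [21, 32, 69, 83, 97, 109, 118] :=
  C.flip (f4778 C)

theorem f4780 : C.T (v5 C) [8, 30, 63, 80, 96, 113] (v17 C) [19, 57, 88, 102, 110, 115] :=
  C.closeT (p := (v9 C)) (pu := [8, 40, 67, 82, 92, 114])
    (C.pT (f4776 C)
    (C.pH [12, 35, 50, 83] [8, 30, 63, 80, 96, 113] (by decide +kernel) (C.pNil _ _)))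
    (C.pH [12, 35, 50, 83] [24, 27, 54, 73, 98, 125] (by decide +kernel)
    (C.pT (f4779 C)
    (C.pH [12, 35, 50, 83] [8, 40, 67, 82, 92, 114] (by decide +kernel) (C.pNil _ _))))
    (C.loop_of_one (relLoop0 C) _ _)

theorem f4781 : C.T (v17 C) [19, 57, 88, 102, 110, 115] (v5 C) [8, 30, 63, 80, 96, 113] :=
  C.flip (f4780 C)

theorem f4782 : C.T (v9 C) [26, 48, 65, 72, 91, 110, 118] (v10 C) [11, 38, 55, 70, 94, 109, 123] :=
  C.conv (f2033 C) (f2523 C) (f2523 C) _ [140, 152, 169, 172, 177] _ (by decide +kernel) (by decide +kernel) (by decide +kernel)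

theorem f4783 : C.T (v9 C) [13, 38, 57, 71, 90, 109, 115] (v17 C) [18, 32, 51, 79, 92, 109, 118] :=
  C.conv (f4247 C) (f1624 C) (f4455 C) _ [146, 149, 164, 173, 178] _ (by decide +kernel) (by decide +kernel) (by decide +kernel)

theorem f4784 : C.T (v17 C) [18, 32, 51, 79, 92, 109, 118] (v9 C) [13, 38, 57, 71, 90, 109, 115] :=
  C.flip (f4783 C)

theorem f4785 : C.T (v10 C) [20, 29, 67, 76, 105, 109, 124] (v17 C) [18, 39, 51, 79, 92, 109, 124] :=
  C.closeT (p := (v9 C)) (pu := [26, 48, 65, 72, 91, 110, 118])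
    (C.pT (f4782 C)
    (C.pH [12, 35, 50, 83] [20, 29, 67, 76, 105, 109, 124] (by decide +kernel) (C.pNil _ _)))
    (C.pH [12, 35, 50, 83] [18, 32, 51, 79, 92, 109, 118] (by decide +kernel)
    (C.pT (f4784 C)
    (C.pH [12, 35, 50, 83] [26, 48, 65, 72, 91, 110, 118] (by decide +kernel) (C.pNil _ _))))
    (C.loop_of_one (relLoop0 C) _ _)

theorem f4786 : C.T (v17 C) [18, 39, 51, 79, 92, 109, 124] (v10 C) [20, 29, 67, 76, 105, 109, 124] :=
  C.flip (f4785 C)

theorem f4787 : C.T (v9 C) [18, 40, 53, 80, 97, 109, 121] (v4 C) [9, 32, 51, 89, 105, 112] :=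
  C.conv (f2043 C) (f2531 C) (f2531 C) _ [147, 159, 166, 176, 178] _ (by decide +kernel) (by decide +kernel) (by decide +kernel)

theorem f4788 : C.T (v9 C) [18, 40, 54, 86, 95, 121] (v17 C) [18, 43, 51, 79, 107, 109, 122] :=
  C.conv (f4232 C) (f1610 C) (f1620 C) _ [148, 161, 168, 174, 178] _ (by decide +kernel) (by decide +kernel) (by decide +kernel)

theorem f4789 : C.T (v17 C) [18, 43, 51, 79, 107, 109, 122] (v9 C) [18, 40, 54, 86, 95, 121] :=
  C.flip (f4788 C)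

theorem f4790 : C.T (v4 C) [17, 46, 61, 109, 118] (v17 C) [18, 48, 50, 71, 105, 109, 123] :=
  C.closeT (p := (v9 C)) (pu := [18, 40, 53, 80, 97, 109, 121])
    (C.pT (f4787 C)
    (C.pH [12, 35, 50, 83] [17, 46, 61, 109, 118] (by decide +kernel) (C.pNil _ _)))
    (C.pH [12, 35, 50, 83] [18, 43, 51, 79, 107, 109, 122] (by decide +kernel)
    (C.pT (f4789 C)
    (C.pH [12, 35, 50, 83] [18, 40, 53, 80, 97, 109, 121] (by decide +kernel) (C.pNil _ _))))
    (C.loop_of_one (relLoop0 C) _ _)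

theorem f4791 : C.T (v17 C) [18, 48, 50, 71, 105, 109, 123] (v4 C) [17, 46, 61, 109, 118] :=
  C.flip (f4790 C)

theorem f4792 : C.T (v9 C) [11, 43, 54, 88, 106, 110, 117] (v5 C) [16, 41, 67, 75, 102, 109, 115] :=
  C.conv (f2077 C) (f1620 C) (f1620 C) _ [134, 154, 167, 174, 178] _ (by decide +kernel) (by decide +kernel) (by decide +kernel)

theorem f4793 : C.S (v9 C) [11, 45, 66, 71, 92, 109, 125] :=
  C.stMul (f1610 C) (f1607 C) _ (by decide +kernel)

theorem f4794 : C.T (v9 C) [22, 30, 55, 80, 99, 109, 124] (v17 C) [24, 34, 65, 89, 94, 109, 111] :=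
  C.conv (f4589 C) (f4610 C) (f4793 C) _ [142, 149, 170, 175] _ (by decide +kernel) (by decide +kernel) (by decide +kernel)

theorem f4795 : C.T (v17 C) [24, 34, 65, 89, 94, 109, 111] (v9 C) [22, 30, 55, 80, 99, 109, 124] :=
  C.flip (f4794 C)

theorem f4796 : C.T (v5 C) [16, 43, 51, 83, 95, 109, 117] (v17 C) [19, 46, 63, 82, 95, 113] :=
  C.closeT (p := (v9 C)) (pu := [11, 43, 54, 88, 106, 110, 117])
    (C.pT (f4792 C)
    (C.pH [12, 35, 50, 83] [16, 43, 51, 83, 95, 109, 117] (by decide +kernel) (C.pNil _ _)))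
    (C.pH [12, 35, 50, 83] [24, 34, 65, 89, 94, 109, 111] (by decide +kernel)
    (C.pT (f4795 C)
    (C.pH [12, 35, 50, 83] [11, 43, 54, 88, 106, 110, 117] (by decide +kernel) (C.pNil _ _))))
    (C.loop_of_one (relLoop0 C) _ _)

theorem f4797 : C.T (v17 C) [19, 46, 63, 82, 95, 113] (v5 C) [16, 43, 51, 83, 95, 109, 117] :=
  C.flip (f4796 C)

theorem f4798 : C.T (v9 C) [22, 27, 66, 83, 104, 112] (v9 C) [4, 42, 61, 104, 109, 115] :=
  C.conv (f2087 C) (f1615 C) (f1615 C) _ [135, 157, 172] _ (by decide +kernel) (by decide +kernel) (by decide +kernel)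

theorem f4799 : C.S (v9 C) [10, 47, 79, 100, 110, 114] :=
  C.stMul (f1620 C) (f1607 C) _ (by decide +kernel)

theorem f4800 : C.S (v9 C) [10, 28, 52, 73, 91, 110, 119] :=
  C.stMul (f1607 C) (f4799 C) _ (by decide +kernel)

theorem f4801 : C.S (v9 C) [11, 44, 56, 75, 90, 109, 118] :=
  C.stMul (f1620 C) (f4800 C) _ (by decide +kernel)

theorem f4802 : C.T (v9 C) [13, 31, 59, 73, 93, 110, 125] (v17 C) [18, 27, 55, 72, 107, 122] :=
  C.conv (f4589 C) (f4610 C) (f4801 C) _ [146, 154, 174] _ (by decide +kernel) (by decide +kernel) (by decide +kernel)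

theorem f4803 : C.T (v17 C) [18, 37, 57, 77, 99, 109, 117] (v9 C) [20, 32, 69, 78, 94, 110, 116] :=
  C.closeT (p := (v9 C)) (pu := [22, 27, 66, 83, 104, 112])
    (C.pT (f4798 C)
    (C.pH [12, 35, 50, 83] [13, 31, 59, 73, 93, 110, 125] (by decide +kernel)
    (C.pT (f4802 C)
    (C.pH [12, 35, 50, 83] [18, 37, 57, 77, 99, 109, 117] (by decide +kernel) (C.pNil _ _)))))
    (C.pH [12, 35, 50, 83] [22, 27, 66, 83, 104, 112] (by decide +kernel) (C.pNil _ _))
    (C.loop_of_one (relLoop0 C) _ _)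

theorem f4804 : C.T (v9 C) [20, 32, 69, 78, 94, 110, 116] (v17 C) [18, 37, 57, 77, 99, 109, 117] :=
  C.flip (f4803 C)

theorem f4805 : C.S (v9 C) [23, 37, 55, 75, 92, 110, 123] :=
  C.stMul (f1624 C) (f1607 C) _ (by decide +kernel)

theorem f4806 : C.S (v9 C) [25, 29, 52, 87, 96, 125] :=
  C.stMul (f1620 C) (f4805 C) _ (by decide +kernel)

theorem f4807 : C.T (v9 C) [11, 42, 57, 76, 91, 109, 121] (v6 C) [8, 35, 69, 82, 100, 109, 125] :=
  C.conv (f2098 C) (f4806 C) (f4806 C) _ [127, 161, 167, 175, 178] _ (by decide +kernel) (by decide +kernel) (by decide +kernel)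

theorem f4808 : C.S (v9 C) [13, 45, 70, 104, 115] :=
  C.stMul (f1615 C) (f1607 C) _ (by decide +kernel)

theorem f4809 : C.T (v9 C) [22, 39, 50, 75, 103, 109, 116] (v17 C) [12, 43, 65, 83, 102, 123] :=
  C.conv (f4201 C) (f1615 C) (f4808 C) _ [141, 154, 169, 172] _ (by decide +kernel) (by decide +kernel) (by decide +kernel)

theorem f4810 : C.T (v17 C) [12, 43, 65, 83, 102, 123] (v9 C) [22, 39, 50, 75, 103, 109, 116] :=
  C.flip (f4809 C)

theorem f4811 : C.T (v6 C) [10, 38, 52, 71, 104, 109, 119] (v17 C) [43, 62, 84, 92, 110, 119] :=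
  C.closeT (p := (v9 C)) (pu := [11, 42, 57, 76, 91, 109, 121])
    (C.pT (f4807 C)
    (C.pH [12, 35, 50, 83] [10, 38, 52, 71, 104, 109, 119] (by decide +kernel) (C.pNil _ _)))
    (C.pH [12, 35, 50, 83] [12, 43, 65, 83, 102, 123] (by decide +kernel)
    (C.pT (f4810 C)
    (C.pH [12, 35, 50, 83] [11, 42, 57, 76, 91, 109, 121] (by decide +kernel) (C.pNil _ _))))
    (C.loop_of_one (relLoop0 C) _ _)

theorem f4812 : C.T (v17 C) [43, 62, 84, 92, 110, 119] (v6 C) [10, 38, 52, 71, 104, 109, 119] :=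
  C.flip (f4811 C)

theorem f4813 : C.T (v9 C) [20, 48, 55, 80, 106, 109, 119] (v14 C) [22, 40, 62, 75, 97, 109, 117] :=
  C.conv (f2500 C) (f2513 C) (f2513 C) _ [126, 169, 176, 177] _ (by decide +kernel) (by decide +kernel) (by decide +kernel)

theorem f4814 : C.S (v9 C) [47, 79, 100, 110, 114] :=
  C.stMul (f1620 C) (f1615 C) _ (by decide +kernel)

theorem f4815 : C.S (v9 C) [28, 52, 73, 91, 110, 119] :=
  C.stMul (f1607 C) (f4814 C) _ (by decide +kernel)

theorem f4816 : C.S (v9 C) [10, 43, 67, 71, 98, 119] :=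
  C.stMul (f1620 C) (f4815 C) _ (by decide +kernel)

theorem f4817 : C.T (v9 C) [11, 34, 52, 78, 105, 109, 120] (v17 C) [26, 38, 60, 72, 110, 112] :=
  C.conv (f4187 C) (f4197 C) (f4816 C) _ [141, 159, 173, 177] _ (by decide +kernel) (by decide +kernel) (by decide +kernel)

theorem f4818 : C.T (v17 C) [26, 38, 60, 72, 110, 112] (v9 C) [11, 34, 52, 78, 105, 109, 120] :=
  C.flip (f4817 C)

theorem f4819 : C.T (v14 C) [11, 33, 65, 85, 99, 110, 112] (v17 C) [13, 43, 67, 72, 110, 112] :=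
  C.closeT (p := (v9 C)) (pu := [20, 48, 55, 80, 106, 109, 119])
    (C.pT (f4813 C)
    (C.pH [12, 35, 50, 83] [11, 33, 65, 85, 99, 110, 112] (by decide +kernel) (C.pNil _ _)))
    (C.pH [12, 35, 50, 83] [26, 38, 60, 72, 110, 112] (by decide +kernel)
    (C.pT (f4818 C)
    (C.pH [12, 35, 50, 83] [20, 48, 55, 80, 106, 109, 119] (by decide +kernel) (C.pNil _ _))))
    (C.loop_of_one (relLoop0 C) _ _)

theorem f4820 : C.T (v17 C) [13, 43, 67, 72, 110, 112] (v14 C) [11, 33, 65, 85, 99, 110, 112] :=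
  C.flip (f4819 C)

theorem f4821 : C.T (v9 C) [12, 38, 60, 89, 101, 110, 119] (v15 C) [10, 60, 89, 102, 110, 122] :=
  C.conv (f2928 C) (f3035 C) (f3035 C) _ [151, 166, 171, 177] _ (by decide +kernel) (by decide +kernel) (by decide +kernel)

theorem f4822 : C.T (v9 C) [34, 51, 89, 104, 110, 115] (v17 C) [13, 59, 77, 92, 109, 114] :=
  C.conv (f4377 C) (f4755 C) (f4753 C) _ [147, 155, 165, 171, 177] _ (by decide +kernel) (by decide +kernel) (by decide +kernel)

theorem f4823 : C.T (v17 C) [13, 59, 77, 92, 109, 114] (v9 C) [34, 51, 89, 104, 110, 115] :=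
  C.flip (f4822 C)

theorem f4824 : C.T (v15 C) [21, 37, 49, 89, 102, 110, 122] (v17 C) [4, 39, 65, 86, 95] :=
  C.closeT (p := (v9 C)) (pu := [12, 38, 60, 89, 101, 110, 119])
    (C.pT (f4821 C)
    (C.pH [12, 35, 50, 83] [21, 37, 49, 89, 102, 110, 122] (by decide +kernel) (C.pNil _ _)))
    (C.pH [12, 35, 50, 83] [13, 59, 77, 92, 109, 114] (by decide +kernel)
    (C.pT (f4823 C)
    (C.pH [12, 35, 50, 83] [12, 38, 60, 89, 101, 110, 119] (by decide +kernel) (C.pNil _ _))))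
    (C.loop_of_one (relLoop0 C) _ _)

theorem f4825 : C.T (v17 C) [4, 39, 65, 86, 95] (v15 C) [21, 37, 49, 89, 102, 110, 122] :=
  C.flip (f4824 C)

theorem f4826 : C.T (v9 C) [10, 34, 49, 77] (v15 C) [17, 43, 54, 81, 125] :=
  C.conv (f2928 C) (f3035 C) (f3035 C) _ [126, 159, 165, 175] _ (by decide +kernel) (by decide +kernel) (by decide +kernel)

theorem f4827 : C.T (v15 C) [25, 48, 57, 73, 99, 110, 111] (v17 C) [7, 33, 54, 71, 95, 110, 117] :=
  C.conv (f4478 C) (f2652 C) (f2565 C) _ [148, 168, 174] _ (by decide +kernel) (by decide +kernel) (by decide +kernel)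

theorem f4828 : C.T (v17 C) [7, 46, 63, 76, 99, 109, 119] (v9 C) [8, 38, 51, 85, 94, 114] :=
  C.closeT (p := (v9 C)) (pu := [10, 34, 49, 77])
    (C.pT (f4826 C)
    (C.pH [12, 35, 50, 83] [25, 48, 57, 73, 99, 110, 111] (by decide +kernel)
    (C.pT (f4827 C)
    (C.pH [12, 35, 50, 83] [7, 46, 63, 76, 99, 109, 119] (by decide +kernel) (C.pNil _ _)))))
    (C.pH [12, 35, 50, 83] [10, 34, 49, 77] (by decide +kernel) (C.pNil _ _))
    (C.loop_of_one (relLoop0 C) _ _)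

theorem f4829 : C.T (v9 C) [8, 38, 51, 85, 94, 114] (v17 C) [7, 46, 63, 76, 99, 109, 119] :=
  C.flip (f4828 C)

theorem f4830 : C.T (v9 C) [22, 53, 84, 106, 110, 116] (v15 C) [17, 36, 60, 76, 91, 110, 124] :=
  C.conv (f3025 C) (f4013 C) (f4013 C) _ [145, 153, 167, 171, 177] _ (by decide +kernel) (by decide +kernel) (by decide +kernel)

theorem f4831 : C.T (v9 C) [20, 42, 59, 70, 92, 110, 118] (v17 C) [19, 28, 60, 73, 91, 109, 124] :=
  C.conv (f4589 C) (f4610 C) (f1624 C) _ [133, 158, 168, 174, 177] _ (by decide +kernel) (by decide +kernel) (by decide +kernel)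

theorem f4832 : C.T (v17 C) [19, 28, 60, 73, 91, 109, 124] (v9 C) [20, 42, 59, 70, 92, 110, 118] :=
  C.flip (f4831 C)

theorem f4833 : C.T (v15 C) [25, 38, 54, 86, 103, 121] (v17 C) [6, 47, 59, 78, 92, 120] :=
  C.closeT (p := (v9 C)) (pu := [22, 53, 84, 106, 110, 116])
    (C.pT (f4830 C)
    (C.pH [12, 35, 50, 83] [25, 38, 54, 86, 103, 121] (by decide +kernel) (C.pNil _ _)))
    (C.pH [12, 35, 50, 83] [19, 28, 60, 73, 91, 109, 124] (by decide +kernel)
    (C.pT (f4832 C)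
    (C.pH [12, 35, 50, 83] [22, 53, 84, 106, 110, 116] (by decide +kernel) (C.pNil _ _))))
    (C.loop_of_one (relLoop0 C) _ _)

theorem f4834 : C.T (v17 C) [6, 47, 59, 78, 92, 120] (v15 C) [25, 38, 54, 86, 103, 121] :=
  C.flip (f4833 C)

theorem f4835 : C.T (v9 C) [16, 32, 49, 88, 106, 117] (v15 C) [4, 36, 54, 81, 90, 109, 118] :=
  C.conv (f3025 C) (f4013 C) (f4013 C) _ [127, 153, 170, 171] _ (by decide +kernel) (by decide +kernel) (by decide +kernel)

theorem f4836 : C.S (v9 C) [4, 47, 59, 89, 108, 110, 111] :=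
  C.stMul (f1624 C) (f4680 C) _ (by decide +kernel)

theorem f4837 : C.T (v9 C) [16, 43, 63, 84, 110, 112] (v17 C) [31, 53, 73, 100, 109, 113] :=
  C.conv (f4665 C) (f4678 C) (f4836 C) _ [133, 158, 169, 175] _ (by decide +kernel) (by decide +kernel) (by decide +kernel)

theorem f4838 : C.T (v17 C) [31, 53, 73, 100, 109, 113] (v9 C) [16, 43, 63, 84, 110, 112] :=
  C.flip (f4837 C)

theorem f4839 : C.T (v15 C) [13, 28, 66, 72, 96, 110, 117] (v17 C) [23, 38, 98, 109, 113] :=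
  C.closeT (p := (v9 C)) (pu := [16, 32, 49, 88, 106, 117])
    (C.pT (f4835 C)
    (C.pH [12, 35, 50, 83] [13, 28, 66, 72, 96, 110, 117] (by decide +kernel) (C.pNil _ _)))
    (C.pH [12, 35, 50, 83] [31, 53, 73, 100, 109, 113] (by decide +kernel)
    (C.pT (f4838 C)
    (C.pH [12, 35, 50, 83] [16, 32, 49, 88, 106, 117] (by decide +kernel) (C.pNil _ _))))
    (C.loop_of_one (relLoop0 C) _ _)

theorem f4840 : C.T (v17 C) [23, 38, 98, 109, 113] (v15 C) [13, 28, 66, 72, 96, 110, 117] :=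
  C.flip (f4839 C)

theorem f4841 : C.T (v9 C) [20, 29, 59, 87, 101, 119] (v15 C) [9, 39, 63, 70, 108, 113] :=
  C.conv (f3025 C) (f4013 C) (f4013 C) _ [129, 163, 168, 174] _ (by decide +kernel) (by decide +kernel) (by decide +kernel)

theorem f4842 : C.S (v9 C) [18, 29, 52, 87, 96, 125] :=
  C.stMul (f1620 C) (f4660 C) _ (by decide +kernel)

theorem f4843 : C.S (v9 C) [12, 46, 57, 83, 110, 112] :=
  C.stMul (f1607 C) (f4842 C) _ (by decide +kernel)

theorem f4844 : C.T (v9 C) [11, 38, 50, 78, 93, 118] (v17 C) [4, 39, 65, 78, 93, 110, 121] :=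
  C.conv (f4589 C) (f4610 C) (f4843 C) _ [134, 153, 164, 173, 177] _ (by decide +kernel) (by decide +kernel) (by decide +kernel)

theorem f4845 : C.T (v17 C) [4, 39, 65, 78, 93, 110, 121] (v9 C) [11, 38, 50, 78, 93, 118] :=
  C.flip (f4844 C)

theorem f4846 : C.T (v15 C) [17, 41, 55, 70, 108, 113] (v17 C) [26, 32, 64, 77, 96, 109, 122] :=
  C.closeT (p := (v9 C)) (pu := [20, 29, 59, 87, 101, 119])
    (C.pT (f4841 C)
    (C.pH [12, 35, 50, 83] [17, 41, 55, 70, 108, 113] (by decide +kernel) (C.pNil _ _)))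
    (C.pH [12, 35, 50, 83] [4, 39, 65, 78, 93, 110, 121] (by decide +kernel)
    (C.pT (f4845 C)
    (C.pH [12, 35, 50, 83] [20, 29, 59, 87, 101, 119] (by decide +kernel) (C.pNil _ _))))
    (C.loop_of_one (relLoop0 C) _ _)

theorem f4847 : C.T (v17 C) [26, 32, 64, 77, 96, 109, 122] (v15 C) [17, 41, 55, 70, 108, 113] :=
  C.flip (f4846 C)

theorem f4848 : C.T (v9 C) [13, 33, 55, 88, 92, 110, 117] (v15 C) [9, 33, 66, 77, 94, 116] :=
  C.conv (f3038 C) (f3917 C) (f3917 C) _ [139, 162, 170, 171] _ (by decide +kernel) (by decide +kernel) (by decide +kernel)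

theorem f4849 : C.S (v9 C) [23, 37, 55, 75, 92, 110, 123] :=
  C.stMul (f1624 C) (f1607 C) _ (by decide +kernel)

theorem f4850 : C.T (v9 C) [4, 33, 54, 88, 105, 109, 111] (v17 C) [4, 47, 57, 82, 104, 110, 124] :=
  C.conv (f4201 C) (f1615 C) (f4849 C) _ [133, 157, 166, 175, 178] _ (by decide +kernel) (by decide +kernel) (by decide +kernel)

theorem f4851 : C.T (v17 C) [4, 47, 57, 82, 104, 110, 124] (v9 C) [4, 33, 54, 88, 105, 109, 111] :=
  C.flip (f4850 C)

theorem f4852 : C.T (v15 C) [17, 34, 85, 106, 109, 123] (v17 C) [26, 34, 57, 84, 102, 110, 121] :=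
  C.closeT (p := (v9 C)) (pu := [13, 33, 55, 88, 92, 110, 117])
    (C.pT (f4848 C)
    (C.pH [12, 35, 50, 83] [17, 34, 85, 106, 109, 123] (by decide +kernel) (C.pNil _ _)))
    (C.pH [12, 35, 50, 83] [4, 47, 57, 82, 104, 110, 124] (by decide +kernel)
    (C.pT (f4851 C)
    (C.pH [12, 35, 50, 83] [13, 33, 55, 88, 92, 110, 117] (by decide +kernel) (C.pNil _ _))))
    (C.loop_of_one (relLoop0 C) _ _)

theorem f4853 : C.T (v17 C) [26, 34, 57, 84, 102, 110, 121] (v15 C) [17, 34, 85, 106, 109, 123] :=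
  C.flip (f4852 C)

theorem f4854 : C.T (v9 C) [11, 39, 66, 84, 105, 110, 118] (v15 C) [23, 47, 58, 83, 91, 109, 117] :=
  C.conv (f3038 C) (f3917 C) (f3917 C) _ [143, 159, 170, 173, 178] _ (by decide +kernel) (by decide +kernel) (by decide +kernel)

theorem f4855 : C.T (v9 C) [22, 28, 59, 75, 97, 109, 124] (v17 C) [6, 28, 52, 70, 94, 111] :=
  C.conv (f4665 C) (f4678 C) (f1607 C) _ [126, 153, 165, 177] _ (by decide +kernel) (by decide +kernel) (by decide +kernel)

theorem f4856 : C.T (v17 C) [6, 28, 52, 70, 94, 111] (v9 C) [22, 28, 59, 75, 97, 109, 124] :=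
  C.flip (f4855 C)

theorem f4857 : C.T (v15 C) [39, 57, 83, 97, 125] (v17 C) [24, 28, 52, 82, 96, 109, 120] :=
  C.closeT (p := (v9 C)) (pu := [11, 39, 66, 84, 105, 110, 118])
    (C.pT (f4854 C)
    (C.pH [12, 35, 50, 83] [39, 57, 83, 97, 125] (by decide +kernel) (C.pNil _ _)))
    (C.pH [12, 35, 50, 83] [6, 28, 52, 70, 94, 111] (by decide +kernel)
    (C.pT (f4856 C)
    (C.pH [12, 35, 50, 83] [11, 39, 66, 84, 105, 110, 118] (by decide +kernel) (C.pNil _ _))))
    (C.loop_of_one (relLoop0 C) _ _)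

theorem f4858 : C.T (v17 C) [24, 28, 52, 82, 96, 109, 120] (v15 C) [39, 57, 83, 97, 125] :=
  C.flip (f4857 C)

theorem f4859 : C.T (v9 C) [17, 44, 60, 72, 105, 110, 124] (v15 C) [8, 46, 52, 85, 97, 110, 113] :=
  C.conv (f3324 C) (f4471 C) (f4471 C) _ [141, 170, 173, 177] _ (by decide +kernel) (by decide +kernel) (by decide +kernel)

theorem f4860 : C.S (v15 C) [25, 46, 61, 102, 110, 119] :=
  C.stMul (f2565 C) (f2569 C) _ (by decide +kernel)

theorem f4861 : C.T (v15 C) [10, 29, 55, 73, 96, 110, 121] (v17 C) [22, 28, 51, 86, 90, 110, 122] :=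
  C.conv (f4441 C) (f4860 C) (f2652 C) _ [136, 152, 165, 171, 178] _ (by decide +kernel) (by decide +kernel) (by decide +kernel)

theorem f4862 : C.T (v17 C) [11, 39, 56, 81, 101, 116] (v9 C) [9, 27, 60, 72, 105, 110, 124] :=
  C.closeT (p := (v9 C)) (pu := [17, 44, 60, 72, 105, 110, 124])
    (C.pT (f4859 C)
    (C.pH [12, 35, 50, 83] [10, 29, 55, 73, 96, 110, 121] (by decide +kernel)
    (C.pT (f4861 C)
    (C.pH [12, 35, 50, 83] [11, 39, 56, 81, 101, 116] (by decide +kernel) (C.pNil _ _)))))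
    (C.pH [12, 35, 50, 83] [17, 44, 60, 72, 105, 110, 124] (by decide +kernel) (C.pNil _ _))
    (C.loop_of_one (relLoop0 C) _ _)

theorem f4863 : C.T (v9 C) [9, 27, 60, 72, 105, 110, 124] (v17 C) [11, 39, 56, 81, 101, 116] :=
  C.flip (f4862 C)

theorem f4864 : C.T (v9 C) [18, 27, 58, 80, 109, 120] (v15 C) [23, 36, 68, 83, 100, 123] :=
  C.conv (f3324 C) (f4471 C) (f4471 C) _ [133, 155, 164, 173, 177] _ (by decide +kernel) (by decide +kernel) (by decide +kernel)

theorem f4865 : C.T (v9 C) [18, 31, 64, 81, 108, 110, 117] (v17 C) [18, 47, 49, 89, 93, 110, 117] :=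
  C.conv (f4201 C) (f1615 C) (f4544 C) _ [135, 157, 169, 172, 178] _ (by decide +kernel) (by decide +kernel) (by decide +kernel)

theorem f4866 : C.T (v17 C) [18, 47, 49, 89, 93, 110, 117] (v9 C) [18, 31, 64, 81, 108, 110, 117] :=
  C.flip (f4865 C)

theorem f4867 : C.T (v15 C) [42, 55, 73, 92, 109, 122] (v17 C) [18, 41, 61, 70, 92, 121] :=
  C.closeT (p := (v9 C)) (pu := [18, 27, 58, 80, 109, 120])
    (C.pT (f4864 C)
    (C.pH [12, 35, 50, 83] [42, 55, 73, 92, 109, 122] (by decide +kernel) (C.pNil _ _)))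
    (C.pH [12, 35, 50, 83] [18, 47, 49, 89, 93, 110, 117] (by decide +kernel)
    (C.pT (f4866 C)
    (C.pH [12, 35, 50, 83] [18, 27, 58, 80, 109, 120] (by decide +kernel) (C.pNil _ _))))
    (C.loop_of_one (relLoop0 C) _ _)

theorem f4868 : C.T (v17 C) [18, 41, 61, 70, 92, 121] (v15 C) [42, 55, 73, 92, 109, 122] :=
  C.flip (f4867 C)

theorem f4869 : C.T (v9 C) [22, 58, 86, 90, 122] (v16 C) [9, 28, 54, 70, 99, 124] :=
  C.conv (f3492 C) (f3563 C) (f3563 C) _ [137, 167, 176, 177] _ (by decide +kernel) (by decide +kernel) (by decide +kernel)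

theorem f4870 : C.T (v9 C) [20, 42, 51, 81, 104, 110, 125] (v17 C) [15, 55, 75, 97, 124] :=
  C.conv (f4187 C) (f4197 C) (f4814 C) _ [141, 159, 168, 175] _ (by decide +kernel) (by decide +kernel) (by decide +kernel)

theorem f4871 : C.T (v17 C) [15, 55, 75, 97, 124] (v9 C) [20, 42, 51, 81, 104, 110, 125] :=
  C.flip (f4870 C)

theorem f4872 : C.T (v16 C) [17, 48, 57, 89, 106, 124] (v17 C) [15, 29, 68, 88, 105, 109, 125] :=
  C.closeT (p := (v9 C)) (pu := [22, 58, 86, 90, 122])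
    (C.pT (f4869 C)
    (C.pH [12, 35, 50, 83] [17, 48, 57, 89, 106, 124] (by decide +kernel) (C.pNil _ _)))
    (C.pH [12, 35, 50, 83] [15, 55, 75, 97, 124] (by decide +kernel)
    (C.pT (f4871 C)
    (C.pH [12, 35, 50, 83] [22, 58, 86, 90, 122] (by decide +kernel) (C.pNil _ _))))
    (C.loop_of_one (relLoop0 C) _ _)

theorem f4873 : C.T (v17 C) [15, 29, 68, 88, 105, 109, 125] (v16 C) [17, 48, 57, 89, 106, 124] :=
  C.flip (f4872 C)

theorem f4874 : C.T (v9 C) [6, 36, 59, 79, 93, 109, 111] (v16 C) [18, 32, 63, 90, 110, 122] :=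
  C.conv (f3492 C) (f3563 C) (f3563 C) _ [137, 163, 170, 173, 177] _ (by decide +kernel) (by decide +kernel) (by decide +kernel)

theorem f4875 : C.S (v9 C) [10, 47, 79, 100, 110, 114] :=
  C.stMul (f1620 C) (f1607 C) _ (by decide +kernel)

theorem f4876 : C.S (v9 C) [11, 40, 59, 82, 99, 110, 111] :=
  C.stMul (f1615 C) (f4875 C) _ (by decide +kernel)

theorem f4877 : C.S (v9 C) [22, 28, 57, 77, 98, 109, 116] :=
  C.stMul (f1624 C) (f4876 C) _ (by decide +kernel)

theorem f4878 : C.S (v9 C) [13, 48, 54, 73, 93, 110, 123] :=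
  C.stMul (f1620 C) (f1610 C) _ (by decide +kernel)

theorem f4879 : C.S (v9 C) [28, 53, 80, 101, 110, 112] :=
  C.stMul (f1615 C) (f4878 C) _ (by decide +kernel)

theorem f4880 : C.S (v9 C) [10, 43, 61, 81, 106, 109, 124] :=
  C.stMul (f1620 C) (f4879 C) _ (by decide +kernel)

theorem f4881 : C.T (v9 C) [24, 43, 53, 70, 99, 110, 118] (v17 C) [7, 27, 63, 86, 104, 109, 122] :=
  C.conv (f4863 C) (f4877 C) (f4880 C) _ [142, 152, 164, 171, 177] _ (by decide +kernel) (by decide +kernel) (by decide +kernel)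

theorem f4882 : C.T (v17 C) [7, 27, 63, 86, 104, 109, 122] (v9 C) [24, 43, 53, 70, 99, 110, 118] :=
  C.flip (f4881 C)

theorem f4883 : C.T (v16 C) [18, 36, 69, 73, 108, 109, 124] (v17 C) [7, 39, 64, 85, 90, 110, 124] :=
  C.closeT (p := (v9 C)) (pu := [6, 36, 59, 79, 93, 109, 111])
    (C.pT (f4874 C)
    (C.pH [12, 35, 50, 83] [18, 36, 69, 73, 108, 109, 124] (by decide +kernel) (C.pNil _ _)))
    (C.pH [12, 35, 50, 83] [7, 27, 63, 86, 104, 109, 122] (by decide +kernel)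
    (C.pT (f4882 C)
    (C.pH [12, 35, 50, 83] [6, 36, 59, 79, 93, 109, 111] (by decide +kernel) (C.pNil _ _))))
    (C.loop_of_one (relLoop0 C) _ _)

theorem f4884 : C.T (v17 C) [7, 39, 64, 85, 90, 110, 124] (v16 C) [18, 36, 69, 73, 108, 109, 124] :=
  C.flip (f4883 C)

theorem f4885 : C.T (v9 C) [22, 29, 64, 79, 106, 110, 124] (v16 C) [23, 35, 64, 70, 101, 110, 119] :=
  C.conv (f3607 C) (f4003 C) (f4003 C) _ [136, 159, 166, 175, 178] _ (by decide +kernel) (by decide +kernel) (by decide +kernel)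

theorem f4886 : C.S (v9 C) [11, 40, 56, 79, 103, 109, 114] :=
  C.stMul (f1615 C) (f1620 C) _ (by decide +kernel)

theorem f4887 : C.S (v9 C) [22, 28, 59, 71, 101, 109, 111] :=
  C.stMul (f1624 C) (f4886 C) _ (by decide +kernel)

theorem f4888 : C.T (v9 C) [20, 37, 49, 76, 97, 109, 111] (v17 C) [4, 39, 57, 73, 99, 110, 125] :=
  C.conv (f4247 C) (f1624 C) (f4887 C) _ [130, 154, 174] _ (by decide +kernel) (by decide +kernel) (by decide +kernel)

theorem f4889 : C.T (v17 C) [4, 39, 57, 73, 99, 110, 125] (v9 C) [20, 37, 49, 76, 97, 109, 111] :=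
  C.flip (f4888 C)

theorem f4890 : C.T (v16 C) [38, 64, 70, 93, 110] (v17 C) [26, 32, 49, 87, 91, 110] :=
  C.closeT (p := (v9 C)) (pu := [22, 29, 64, 79, 106, 110, 124])
    (C.pT (f4885 C)
    (C.pH [12, 35, 50, 83] [38, 64, 70, 93, 110] (by decide +kernel) (C.pNil _ _)))
    (C.pH [12, 35, 50, 83] [4, 39, 57, 73, 99, 110, 125] (by decide +kernel)
    (C.pT (f4889 C)
    (C.pH [12, 35, 50, 83] [22, 29, 64, 79, 106, 110, 124] (by decide +kernel) (C.pNil _ _))))
    (C.loop_of_one (relLoop0 C) _ _)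

theorem f4891 : C.T (v17 C) [26, 32, 49, 87, 91, 110] (v16 C) [38, 64, 70, 93, 110] :=
  C.flip (f4890 C)

theorem f4892 : C.T (v9 C) [18, 39, 67, 82, 91, 122] (v16 C) [19, 34, 54, 88, 95, 125] :=
  C.conv (f3881 C) (f4030 C) (f4030 C) _ [139, 157, 176, 177] _ (by decide +kernel) (by decide +kernel) (by decide +kernel)

theorem f4893 : C.S (v9 C) [10, 47, 79, 100, 110, 114] :=
  C.stMul (f1620 C) (f1607 C) _ (by decide +kernel)

theorem f4894 : C.S (v9 C) [10, 28, 52, 73, 91, 110, 119] :=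
  C.stMul (f1607 C) (f4893 C) _ (by decide +kernel)

theorem f4895 : C.S (v9 C) [21, 38, 55, 89, 107, 110, 122] :=
  C.stMul (f1624 C) (f4894 C) _ (by decide +kernel)

theorem f4896 : C.S (v9 C) [21, 32, 51, 87, 95, 109, 111] :=
  C.stMul (f1624 C) (f4893 C) _ (by decide +kernel)

theorem f4897 : C.S (v9 C) [12, 29, 53, 80, 106, 109, 118] :=
  C.stMul (f1620 C) (f4896 C) _ (by decide +kernel)

theorem f4898 : C.T (v9 C) [18, 36, 60, 89, 97, 110] (v17 C) [14, 34, 52, 71, 91, 109, 113] :=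
  C.conv (f4804 C) (f4895 C) (f4897 C) _ [130, 150, 170, 173] _ (by decide +kernel) (by decide +kernel) (by decide +kernel)

theorem f4899 : C.T (v17 C) [14, 34, 52, 71, 91, 109, 113] (v9 C) [18, 36, 60, 89, 97, 110] :=
  C.flip (f4898 C)

theorem f4900 : C.T (v16 C) [24, 42, 49, 76, 104, 110, 120] (v17 C) [14, 44, 54, 76, 105, 109, 118] :=
  C.closeT (p := (v9 C)) (pu := [18, 39, 67, 82, 91, 122])
    (C.pT (f4892 C)
    (C.pH [12, 35, 50, 83] [24, 42, 49, 76, 104, 110, 120] (by decide +kernel) (C.pNil _ _)))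
    (C.pH [12, 35, 50, 83] [14, 34, 52, 71, 91, 109, 113] (by decide +kernel)
    (C.pT (f4899 C)
    (C.pH [12, 35, 50, 83] [18, 39, 67, 82, 91, 122] (by decide +kernel) (C.pNil _ _))))
    (C.loop_of_one (relLoop0 C) _ _)

theorem f4901 : C.T (v17 C) [14, 44, 54, 76, 105, 109, 118] (v16 C) [24, 42, 49, 76, 104, 110, 120] :=
  C.flip (f4900 C)

theorem f4902 : C.T (v9 C) [14, 34, 55, 84, 97, 110, 111] (v16 C) [19, 44, 61, 77, 90, 113] :=
  C.conv (f3959 C) (f4016 C) (f4016 C) _ [131, 153, 164, 175, 177] _ (by decide +kernel) (by decide +kernel) (by decide +kernel)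

theorem f4903 : C.S (v9 C) [10, 47, 79, 100, 110, 114] :=
  C.stMul (f1620 C) (f1607 C) _ (by decide +kernel)

theorem f4904 : C.S (v9 C) [10, 28, 52, 73, 91, 110, 119] :=
  C.stMul (f1607 C) (f4903 C) _ (by decide +kernel)

theorem f4905 : C.S (v9 C) [11, 44, 56, 75, 90, 109, 118] :=
  C.stMul (f1620 C) (f4904 C) _ (by decide +kernel)

theorem f4906 : C.T (v9 C) [14, 44, 52, 83, 103, 114] (v17 C) [18, 48, 61, 85, 99, 117] :=
  C.conv (f4187 C) (f4197 C) (f4905 C) _ [134, 152, 170, 173, 177] _ (by decide +kernel) (by decide +kernel) (by decide +kernel)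

theorem f4907 : C.T (v17 C) [18, 48, 61, 85, 99, 117] (v9 C) [14, 44, 52, 83, 103, 114] :=
  C.flip (f4906 C)

theorem f4908 : C.T (v16 C) [24, 50, 72, 107, 110] (v17 C) [18, 44, 69, 83] :=
  C.closeT (p := (v9 C)) (pu := [14, 34, 55, 84, 97, 110, 111])
    (C.pT (f4902 C)
    (C.pH [12, 35, 50, 83] [24, 50, 72, 107, 110] (by decide +kernel) (C.pNil _ _)))
    (C.pH [12, 35, 50, 83] [18, 48, 61, 85, 99, 117] (by decide +kernel)
    (C.pT (f4907 C)
    (C.pH [12, 35, 50, 83] [14, 34, 55, 84, 97, 110, 111] (by decide +kernel) (C.pNil _ _))))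
    (C.loop_of_one (relLoop0 C) _ _)

theorem f4909 : C.T (v17 C) [18, 44, 69, 83] (v16 C) [24, 50, 72, 107, 110] :=
  C.flip (f4908 C)

theorem f4910 : C.T (v9 C) [15, 33, 68, 70, 97, 117] (v16 C) [19, 27, 56, 72, 95, 109, 113] :=
  C.conv (f3959 C) (f4016 C) (f4016 C) _ [133, 151, 174] _ (by decide +kernel) (by decide +kernel) (by decide +kernel)

theorem f4911 : C.T (v9 C) [15, 40, 69, 80, 100, 110, 119] (v17 C) [22, 42, 66, 71, 101, 110] :=
  C.conv (f4665 C) (f4678 C) (f4744 C) _ [152, 168, 173, 178] _ (by decide +kernel) (by decide +kernel) (by decide +kernel)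

theorem f4912 : C.T (v17 C) [22, 42, 66, 71, 101, 110] (v9 C) [15, 40, 69, 80, 100, 110, 119] :=
  C.flip (f4911 C)

theorem f4913 : C.T (v16 C) [24, 41, 68, 93, 109, 125] (v17 C) [20, 48, 51, 77, 99, 110, 115] :=
  C.closeT (p := (v9 C)) (pu := [15, 33, 68, 70, 97, 117])
    (C.pT (f4910 C)
    (C.pH [12, 35, 50, 83] [24, 41, 68, 93, 109, 125] (by decide +kernel) (C.pNil _ _)))
    (C.pH [12, 35, 50, 83] [22, 42, 66, 71, 101, 110] (by decide +kernel)
    (C.pT (f4912 C)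
    (C.pH [12, 35, 50, 83] [15, 33, 68, 70, 97, 117] (by decide +kernel) (C.pNil _ _))))
    (C.loop_of_one (relLoop0 C) _ _)

theorem f4914 : C.T (v17 C) [20, 48, 51, 77, 99, 110, 115] (v16 C) [24, 41, 68, 93, 109, 125] :=
  C.flip (f4913 C)

theorem f4915 : C.T (v9 C) [15, 28, 67, 74, 103] (v17 C) [5, 47, 64, 73, 92, 125] :=
  C.conv (f4187 C) (f4197 C) (f4197 C) _ [141, 160, 166, 171, 177] _ (by decide +kernel) (by decide +kernel) (by decide +kernel)

theorem f4916 : C.S (v9 C) [11, 40, 56, 79, 103, 109, 114] :=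
  C.stMul (f1615 C) (f1620 C) _ (by decide +kernel)

theorem f4917 : C.S (v9 C) [13, 44, 50, 87, 101, 113] :=
  C.stMul (f1620 C) (f4916 C) _ (by decide +kernel)

theorem f4918 : C.S (v9 C) [4, 30, 60, 88, 92, 110, 119] :=
  C.stMul (f1624 C) (f4917 C) _ (by decide +kernel)

theorem f4919 : C.T (v9 C) [15, 33, 50, 82, 95, 125] (v15 C) [16, 58, 74, 94, 110, 111] :=
  C.conv (f2928 C) (f3035 C) (f4918 C) _ [134, 152, 164, 175] _ (by decide +kernel) (by decide +kernel) (by decide +kernel)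

theorem f4920 : C.T (v15 C) [16, 58, 74, 94, 110, 111] (v9 C) [15, 33, 50, 82, 95, 125] :=
  C.flip (f4919 C)

theorem f4921 : C.T (v17 C) [5, 35, 64, 77, 99, 109, 114] (v15 C) [16, 44, 67, 72, 97, 110, 114] :=
  C.closeT (p := (v9 C)) (pu := [15, 28, 67, 74, 103])
    (C.pT (f4915 C)
    (C.pH [12, 35, 50, 83] [5, 35, 64, 77, 99, 109, 114] (by decide +kernel) (C.pNil _ _)))
    (C.pH [12, 35, 50, 83] [16, 58, 74, 94, 110, 111] (by decide +kernel)
    (C.pT (f4920 C)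
    (C.pH [12, 35, 50, 83] [15, 28, 67, 74, 103] (by decide +kernel) (C.pNil _ _))))
    (C.loop_of_one (relLoop0 C) _ _)

theorem f4922 : C.T (v15 C) [16, 44, 67, 72, 97, 110, 114] (v17 C) [5, 35, 64, 77, 99, 109, 114] :=
  C.flip (f4921 C)

theorem f4923 : C.T (v9 C) [23, 27, 66, 82, 103, 122] (v17 C) [7, 29, 49, 86, 101, 110, 111] :=
  C.conv (f4201 C) (f1615 C) (f1615 C) _ [126, 161, 165, 171, 178] _ (by decide +kernel) (by decide +kernel) (by decide +kernel)

theorem f4924 : C.S (v9 C) [23, 38, 55, 89, 107, 110, 122] :=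
  C.stMul (f1624 C) (f4679 C) _ (by decide +kernel)

theorem f4925 : C.S (v9 C) [25, 46, 59, 72, 100, 109, 122] :=
  C.stMul (f1620 C) (f4924 C) _ (by decide +kernel)

theorem f4926 : C.T (v9 C) [12, 31, 68, 78, 96, 125] (v17 C) [14, 38, 68, 89, 93, 109, 111] :=
  C.conv (f4665 C) (f4678 C) (f4925 C) _ [148, 156, 169, 173] _ (by decide +kernel) (by decide +kernel) (by decide +kernel)

theorem f4927 : C.T (v17 C) [14, 38, 68, 89, 93, 109, 111] (v9 C) [12, 31, 68, 78, 96, 125] :=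
  C.flip (f4926 C)

theorem f4928 : C.T (v17 C) [7, 31, 53, 89, 102, 120] (v17 C) [14, 48, 65, 72, 102, 116] :=
  C.closeT (p := (v9 C)) (pu := [23, 27, 66, 82, 103, 122])
    (C.pT (f4923 C)
    (C.pH [12, 35, 50, 83] [7, 31, 53, 89, 102, 120] (by decide +kernel) (C.pNil _ _)))
    (C.pH [12, 35, 50, 83] [14, 38, 68, 89, 93, 109, 111] (by decide +kernel)
    (C.pT (f4927 C)
    (C.pH [12, 35, 50, 83] [23, 27, 66, 82, 103, 122] (by decide +kernel) (C.pNil _ _))))
    (C.loop_of_one (relLoop0 C) _ _)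

theorem f4929 : C.T (v17 C) [14, 48, 65, 72, 102, 116] (v17 C) [7, 31, 53, 89, 102, 120] :=
  C.flip (f4928 C)

theorem f4930 : C.T (v9 C) [18, 37, 59, 73, 91, 109, 124] (v17 C) [11, 34, 58, 74, 92, 110, 123] :=
  C.conv (f4201 C) (f1615 C) (f1615 C) _ [132, 156, 170, 174, 178] _ (by decide +kernel) (by decide +kernel) (by decide +kernel)

theorem f4931 : C.S (v9 C) [10, 69, 81, 100, 113] :=
  C.stMul (f1615 C) (f1610 C) _ (by decide +kernel)

theorem f4932 : C.S (v9 C) [21, 37, 62, 82, 103] :=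
  C.stMul (f1624 C) (f4931 C) _ (by decide +kernel)

theorem f4933 : C.S (v9 C) [12, 35, 59, 84, 106, 110, 112] :=
  C.stMul (f1620 C) (f4932 C) _ (by decide +kernel)

theorem f4934 : C.T (v9 C) [18, 27, 86, 92, 110] (v17 C) [25, 64, 78, 90, 116] :=
  C.conv (f4665 C) (f4678 C) (f4933 C) _ [143, 160, 169, 174, 177] _ (by decide +kernel) (by decide +kernel) (by decide +kernel)

theorem f4935 : C.T (v17 C) [25, 64, 78, 90, 116] (v9 C) [18, 27, 86, 92, 110] :=
  C.flip (f4934 C)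

theorem f4936 : C.T (v17 C) [20, 48, 60, 108, 110, 111] (v17 C) [17, 48, 64, 78, 90, 116] :=
  C.closeT (p := (v9 C)) (pu := [18, 37, 59, 73, 91, 109, 124])
    (C.pT (f4930 C)
    (C.pH [12, 35, 50, 83] [20, 48, 60, 108, 110, 111] (by decide +kernel) (C.pNil _ _)))
    (C.pH [12, 35, 50, 83] [25, 64, 78, 90, 116] (by decide +kernel)
    (C.pT (f4935 C)
    (C.pH [12, 35, 50, 83] [18, 37, 59, 73, 91, 109, 124] (by decide +kernel) (C.pNil _ _))))
    (C.loop_of_one (relLoop0 C) _ _)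

theorem f4937 : C.T (v17 C) [17, 48, 64, 78, 90, 116] (v17 C) [20, 48, 60, 108, 110, 111] :=
  C.flip (f4936 C)

theorem f4938 : C.T (v9 C) [17, 45, 76, 95, 110, 120] (v17 C) [14, 38, 63, 86, 98, 109, 111] :=
  C.conv (f4201 C) (f1615 C) (f1615 C) _ [135, 154, 165, 174] _ (by decide +kernel) (by decide +kernel) (by decide +kernel)

theorem f4939 : C.S (v9 C) [23, 37, 55, 75, 92, 110, 123] :=
  C.stMul (f1624 C) (f1607 C) _ (by decide +kernel)

theorem f4940 : C.T (v9 C) [9, 43, 53, 76, 93, 110, 115] (v17 C) [9, 28, 57, 71, 96, 110, 111] :=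
  C.conv (f4247 C) (f1624 C) (f4939 C) _ [141, 157, 165, 176, 178] _ (by decide +kernel) (by decide +kernel) (by decide +kernel)

theorem f4941 : C.T (v17 C) [9, 28, 57, 71, 96, 110, 111] (v9 C) [9, 43, 53, 76, 93, 110, 115] :=
  C.flip (f4940 C)

theorem f4942 : C.T (v17 C) [14, 45, 57, 77, 97, 114] (v17 C) [25, 52, 71, 96, 110, 111] :=
  C.closeT (p := (v9 C)) (pu := [17, 45, 76, 95, 110, 120])
    (C.pT (f4938 C)
    (C.pH [12, 35, 50, 83] [14, 45, 57, 77, 97, 114] (by decide +kernel) (C.pNil _ _)))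
    (C.pH [12, 35, 50, 83] [9, 28, 57, 71, 96, 110, 111] (by decide +kernel)
    (C.pT (f4941 C)
    (C.pH [12, 35, 50, 83] [17, 45, 76, 95, 110, 120] (by decide +kernel) (C.pNil _ _))))
    (C.loop_of_one (relLoop0 C) _ _)

theorem f4943 : C.T (v17 C) [25, 52, 71, 96, 110, 111] (v17 C) [14, 45, 57, 77, 97, 114] :=
  C.flip (f4942 C)

theorem f4944 : C.T (v9 C) [11, 43, 69, 76, 92, 110, 111] (v17 C) [12, 41, 60, 71, 105, 109, 118] :=
  C.conv (f4225 C) (f4411 C) (f4411 C) _ [133, 152, 167, 175, 177] _ (by decide +kernel) (by decide +kernel) (by decide +kernel)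

theorem f4945 : C.T (v9 C) [22, 30, 58, 74, 94, 119] (v17 C) [14, 28, 66, 71, 107, 110, 123] :=
  C.conv (f4804 C) (f4895 C) (f4894 C) _ [139, 157, 168, 174, 177] _ (by decide +kernel) (by decide +kernel) (by decide +kernel)

theorem f4946 : C.T (v17 C) [14, 28, 66, 71, 107, 110, 123] (v9 C) [22, 30, 58, 74, 94, 119] :=
  C.flip (f4945 C)

theorem f4947 : C.T (v17 C) [23, 36, 52, 76, 90, 109, 116] (v17 C) [14, 30, 68, 77, 98, 110, 125] :=
  C.closeT (p := (v9 C)) (pu := [11, 43, 69, 76, 92, 110, 111])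
    (C.pT (f4944 C)
    (C.pH [12, 35, 50, 83] [23, 36, 52, 76, 90, 109, 116] (by decide +kernel) (C.pNil _ _)))
    (C.pH [12, 35, 50, 83] [14, 28, 66, 71, 107, 110, 123] (by decide +kernel)
    (C.pT (f4946 C)
    (C.pH [12, 35, 50, 83] [11, 43, 69, 76, 92, 110, 111] (by decide +kernel) (C.pNil _ _))))
    (C.loop_of_one (relLoop0 C) _ _)

theorem f4949 : C.S (v17 C) [23, 31, 75, 92, 109, 116] :=
  C.stMul (f4137 C) (f4132 C) _ (by decide +kernel)

theorem f4951 : C.T (v9 C) [23, 38, 58, 84, 98, 109, 123] (v17 C) [18, 32, 63, 81, 107, 110, 120] :=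
  C.conv (f4225 C) (f4411 C) (f4411 C) _ [145, 158, 170, 178] _ (by decide +kernel) (by decide +kernel) (by decide +kernel)

theorem f4952 : C.S (v9 C) [47, 79, 100, 110, 114] :=
  C.stMul (f1620 C) (f1615 C) _ (by decide +kernel)

theorem f4953 : C.S (v9 C) [13, 40, 59, 82, 99, 110, 111] :=
  C.stMul (f1615 C) (f4952 C) _ (by decide +kernel)

theorem f4954 : C.S (v9 C) [4, 47, 59, 89, 108, 110, 111] :=
  C.stMul (f1624 C) (f4953 C) _ (by decide +kernel)

theorem f4955 : C.T (v9 C) [12, 39, 51, 77, 100, 110, 117] (v4 C) [37, 64, 78, 107, 109, 123] :=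
  C.conv (f2043 C) (f2531 C) (f4954 C) _ [140, 151, 170, 174] _ (by decide +kernel) (by decide +kernel) (by decide +kernel)

theorem f4956 : C.T (v4 C) [37, 64, 78, 107, 109, 123] (v9 C) [12, 39, 51, 77, 100, 110, 117] :=
  C.flip (f4955 C)

theorem f4957 : C.T (v17 C) [18, 36, 69, 88, 103, 109, 122] (v4 C) [23, 45, 66, 84, 99, 112] :=
  C.closeT (p := (v9 C)) (pu := [23, 38, 58, 84, 98, 109, 123])
    (C.pT (f4951 C)
    (C.pH [12, 35, 50, 83] [18, 36, 69, 88, 103, 109, 122] (by decide +kernel) (C.pNil _ _)))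
    (C.pH [12, 35, 50, 83] [37, 64, 78, 107, 109, 123] (by decide +kernel)
    (C.pT (f4956 C)
    (C.pH [12, 35, 50, 83] [23, 38, 58, 84, 98, 109, 123] (by decide +kernel) (C.pNil _ _))))
    (C.loop_of_one (relLoop0 C) _ _)

theorem f4958 : C.T (v4 C) [23, 45, 66, 84, 99, 112] (v17 C) [18, 36, 69, 88, 103, 109, 122] :=
  C.flip (f4957 C)

theorem f4959 : C.T (v9 C) [7, 41, 55, 79, 104, 109, 112] (v17 C) [23, 48, 61, 82, 91, 109, 120] :=
  C.conv (f4225 C) (f4411 C) (f4411 C) _ [129, 157, 164, 173, 177] _ (by decide +kernel) (by decide +kernel) (by decide +kernel)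

theorem f4960 : C.S (v9 C) [21, 32, 63, 85, 106, 110, 120] :=
  C.stMul (f1624 C) (f1620 C) _ (by decide +kernel)

theorem f4961 : C.T (v9 C) [7, 48, 67, 80, 106, 114] (v17 C) [9, 74, 102, 115] :=
  C.conv (f4863 C) (f4877 C) (f4960 C) _ [146, 160, 168, 176, 178] _ (by decide +kernel) (by decide +kernel) (by decide +kernel)

theorem f4962 : C.T (v17 C) [9, 74, 102, 115] (v9 C) [7, 48, 67, 80, 106, 114] :=
  C.flip (f4961 C)

theorem f4963 : C.T (v17 C) [45, 52, 81, 123] (v17 C) [25, 44, 68, 78, 106] :=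
  C.closeT (p := (v9 C)) (pu := [7, 41, 55, 79, 104, 109, 112])
    (C.pT (f4959 C)
    (C.pH [12, 35, 50, 83] [45, 52, 81, 123] (by decide +kernel) (C.pNil _ _)))
    (C.pH [12, 35, 50, 83] [9, 74, 102, 115] (by decide +kernel)
    (C.pT (f4962 C)
    (C.pH [12, 35, 50, 83] [7, 41, 55, 79, 104, 109, 112] (by decide +kernel) (C.pNil _ _))))
    (C.loop_of_one (relLoop0 C) _ _)

theorem f4964 : C.T (v17 C) [25, 44, 68, 78, 106] (v17 C) [45, 52, 81, 123] :=
  C.flip (f4963 C)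

theorem f4965 : C.T (v9 C) [19, 35, 54, 84, 107, 117] (v17 C) [9, 34, 64, 78, 105, 109, 120] :=
  C.conv (f4232 C) (f1610 C) (f1610 C) _ [141, 163, 164, 174, 178] _ (by decide +kernel) (by decide +kernel) (by decide +kernel)

theorem f4966 : C.S (v9 C) [47, 79, 100, 110, 114] :=
  C.stMul (f1620 C) (f1615 C) _ (by decide +kernel)

theorem f4967 : C.S (v9 C) [13, 40, 59, 82, 99, 110, 111] :=
  C.stMul (f1615 C) (f4966 C) _ (by decide +kernel)

theorem f4968 : C.S (v9 C) [13, 45, 70, 104, 115] :=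
  C.stMul (f1615 C) (f1607 C) _ (by decide +kernel)

theorem f4969 : C.T (v9 C) [6, 41, 67, 88, 108, 110, 112] (v17 C) [25, 37, 53, 70, 99, 109, 112] :=
  C.conv (f4829 C) (f4967 C) (f4968 C) _ [132, 154, 167, 175, 177] _ (by decide +kernel) (by decide +kernel) (by decide +kernel)

theorem f4970 : C.T (v17 C) [25, 37, 53, 70, 99, 109, 112] (v9 C) [6, 41, 67, 88, 108, 110, 112] :=
  C.flip (f4969 C)

theorem f4971 : C.T (v17 C) [17, 28, 50, 74, 94, 122] (v17 C) [17, 27, 54, 74, 103, 109] :=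
  C.closeT (p := (v9 C)) (pu := [19, 35, 54, 84, 107, 117])
    (C.pT (f4965 C)
    (C.pH [12, 35, 50, 83] [17, 28, 50, 74, 94, 122] (by decide +kernel) (C.pNil _ _)))
    (C.pH [12, 35, 50, 83] [25, 37, 53, 70, 99, 109, 112] (by decide +kernel)
    (C.pT (f4970 C)
    (C.pH [12, 35, 50, 83] [19, 35, 54, 84, 107, 117] (by decide +kernel) (C.pNil _ _))))
    (C.loop_of_one (relLoop0 C) _ _)

theorem f4974 : C.T (v9 C) [9, 29, 51, 89, 107, 120] (v17 C) [7, 30, 57, 72, 102, 109, 116] :=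
  C.conv (f4232 C) (f1610 C) (f1610 C) _ [131, 168, 175, 177] _ (by decide +kernel) (by decide +kernel) (by decide +kernel)

theorem f4975 : C.S (v9 C) [10, 47, 79, 100, 110, 114] :=
  C.stMul (f1620 C) (f1607 C) _ (by decide +kernel)

theorem f4976 : C.S (v9 C) [11, 40, 59, 82, 99, 110, 111] :=
  C.stMul (f1615 C) (f4975 C) _ (by decide +kernel)

theorem f4977 : C.T (v9 C) [25, 34, 66, 78, 100, 109] (v17 C) [25, 36, 54, 87, 103, 116] :=
  C.conv (f4829 C) (f4967 C) (f4976 C) _ [126, 152, 168, 173] _ (by decide +kernel) (by decide +kernel) (by decide +kernel)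

theorem f4978 : C.T (v17 C) [25, 36, 54, 87, 103, 116] (v9 C) [25, 34, 66, 78, 100, 109] :=
  C.flip (f4977 C)

theorem f4979 : C.T (v17 C) [7, 28, 61, 85, 94, 110, 119] (v17 C) [17, 34, 57, 90, 110, 124] :=
  C.closeT (p := (v9 C)) (pu := [9, 29, 51, 89, 107, 120])
    (C.pT (f4974 C)
    (C.pH [12, 35, 50, 83] [7, 28, 61, 85, 94, 110, 119] (by decide +kernel) (C.pNil _ _)))
    (C.pH [12, 35, 50, 83] [25, 36, 54, 87, 103, 116] (by decide +kernel)
    (C.pT (f4978 C)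
    (C.pH [12, 35, 50, 83] [9, 29, 51, 89, 107, 120] (by decide +kernel) (C.pNil _ _))))
    (C.loop_of_one (relLoop0 C) _ _)

theorem f4982 : C.T (v9 C) [24, 28, 57, 103, 109, 114] (v17 C) [25, 35, 55, 81, 90, 109, 124] :=
  C.conv (f4377 C) (f4755 C) (f4755 C) _ [126, 164, 178] _ (by decide +kernel) (by decide +kernel) (by decide +kernel)

theorem f4983 : C.S (v9 C) [23, 37, 55, 75, 92, 110, 123] :=
  C.stMul (f1624 C) (f1607 C) _ (by decide +kernel)

theorem f4984 : C.S (v9 C) [25, 29, 52, 87, 96, 125] :=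
  C.stMul (f1620 C) (f4983 C) _ (by decide +kernel)

theorem f4985 : C.S (v9 C) [18, 33, 89, 94, 112] :=
  C.stMul (f1615 C) (f4984 C) _ (by decide +kernel)

theorem f4986 : C.T (v9 C) [19, 45, 65, 74, 107, 117] (v17 C) [20, 39, 55, 78, 91, 109, 113] :=
  C.conv (f4804 C) (f4895 C) (f4985 C) _ [140, 158, 168, 173] _ (by decide +kernel) (by decide +kernel) (by decide +kernel)

theorem f4987 : C.T (v17 C) [20, 39, 55, 78, 91, 109, 113] (v9 C) [19, 45, 65, 74, 107, 117] :=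
  C.flip (f4986 C)

theorem f4988 : C.T (v17 C) [9, 34, 61, 84, 99, 110, 120] (v17 C) [11, 32, 55, 78, 108, 109, 123] :=
  C.closeT (p := (v9 C)) (pu := [24, 28, 57, 103, 109, 114])
    (C.pT (f4982 C)
    (C.pH [12, 35, 50, 83] [9, 34, 61, 84, 99, 110, 120] (by decide +kernel) (C.pNil _ _)))
    (C.pH [12, 35, 50, 83] [20, 39, 55, 78, 91, 109, 113] (by decide +kernel)
    (C.pT (f4987 C)
    (C.pH [12, 35, 50, 83] [24, 28, 57, 103, 109, 114] (by decide +kernel) (C.pNil _ _))))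
    (C.loop_of_one (relLoop0 C) _ _)

theorem f4993 : C.T (v9 C) [21, 32, 69, 86, 106, 109, 121] (v17 C) [13, 34, 58, 76, 95, 109, 116] :=
  C.conv (f4377 C) (f4755 C) (f4755 C) _ [146, 163, 170, 175] _ (by decide +kernel) (by decide +kernel) (by decide +kernel)

theorem f4994 : C.S (v9 C) [47, 79, 100, 110, 114] :=
  C.stMul (f1620 C) (f1615 C) _ (by decide +kernel)

theorem f4995 : C.S (v9 C) [23, 38, 55, 89, 107, 110, 122] :=
  C.stMul (f1624 C) (f4994 C) _ (by decide +kernel)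

theorem f4996 : C.T (v9 C) [10, 32, 61, 78, 92, 120] (v17 C) [18, 42, 69, 77, 95, 113] :=
  C.conv (f4804 C) (f4895 C) (f4995 C) _ [134, 151, 169, 174, 177] _ (by decide +kernel) (by decide +kernel) (by decide +kernel)

theorem f4997 : C.T (v17 C) [18, 42, 69, 77, 95, 113] (v9 C) [10, 32, 61, 78, 92, 120] :=
  C.flip (f4996 C)

theorem f4998 : C.T (v17 C) [26, 66, 82, 98, 110, 116] (v17 C) [18, 42, 67, 74, 108, 121] :=
  C.closeT (p := (v9 C)) (pu := [21, 32, 69, 86, 106, 109, 121])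
    (C.pT (f4993 C)
    (C.pH [12, 35, 50, 83] [26, 66, 82, 98, 110, 116] (by decide +kernel) (C.pNil _ _)))
    (C.pH [12, 35, 50, 83] [18, 42, 69, 77, 95, 113] (by decide +kernel)
    (C.pT (f4997 C)
    (C.pH [12, 35, 50, 83] [21, 32, 69, 86, 106, 109, 121] (by decide +kernel) (C.pNil _ _))))
    (C.loop_of_one (relLoop0 C) _ _)

theorem f5002 : C.T (v9 C) [24, 44, 80, 108, 109, 119] (v17 C) [9, 46, 65, 72, 90, 123] :=
  C.conv (f4377 C) (f4755 C) (f4755 C) _ [126, 153, 166, 178] _ (by decide +kernel) (by decide +kernel) (by decide +kernel)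

theorem f5003 : C.S (v9 C) [13, 48, 54, 73, 93, 110, 123] :=
  C.stMul (f1620 C) (f1610 C) _ (by decide +kernel)

theorem f5004 : C.S (v9 C) [28, 53, 80, 101, 110, 112] :=
  C.stMul (f1615 C) (f5003 C) _ (by decide +kernel)

theorem f5005 : C.T (v9 C) [19, 37, 55, 76, 98, 110] (v17 C) [14, 37, 60, 73, 107, 111] :=
  C.conv (f4377 C) (f4755 C) (f5004 C) _ [141, 160, 169, 175, 178] _ (by decide +kernel) (by decide +kernel) (by decide +kernel)

theorem f5006 : C.T (v17 C) [14, 37, 60, 73, 107, 111] (v9 C) [19, 37, 55, 76, 98, 110] :=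
  C.flip (f5005 C)

theorem f5007 : C.T (v17 C) [17, 31, 71, 95, 109, 115] (v17 C) [14, 47, 58, 81, 108, 124] :=
  C.closeT (p := (v9 C)) (pu := [24, 44, 80, 108, 109, 119])
    (C.pT (f5002 C)
    (C.pH [12, 35, 50, 83] [17, 31, 71, 95, 109, 115] (by decide +kernel) (C.pNil _ _)))
    (C.pH [12, 35, 50, 83] [14, 37, 60, 73, 107, 111] (by decide +kernel)
    (C.pT (f5006 C)
    (C.pH [12, 35, 50, 83] [24, 44, 80, 108, 109, 119] (by decide +kernel) (C.pNil _ _))))
    (C.loop_of_one (relLoop0 C) _ _)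

theorem f5009 : C.S (v17 C) [51, 81, 96, 109, 125] :=
  C.stMul (f4132 C) (f4137 C) _ (by decide +kernel)

theorem f5011 : C.T (v9 C) [17, 53, 79, 106, 110] (v17 C) [9, 34, 63, 71, 100, 109, 117] :=
  C.conv (f4409 C) (f4762 C) (f4762 C) _ [142, 160, 167, 174, 178] _ (by decide +kernel) (by decide +kernel) (by decide +kernel)

theorem f5012 : C.S (v9 C) [47, 62, 87, 90, 110, 118] :=
  C.stMul (f1620 C) (f4391 C) _ (by decide +kernel)

theorem f5013 : C.S (v9 C) [23, 38, 57, 84, 103, 109, 118] :=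
  C.stMul (f1624 C) (f5012 C) _ (by decide +kernel)

theorem f5014 : C.T (v9 C) [9, 42, 77, 104, 110, 112] (v15 C) [7, 48, 62, 78, 108, 110, 123] :=
  C.conv (f2928 C) (f3035 C) (f5013 C) _ [139, 149, 164, 174, 178] _ (by decide +kernel) (by decide +kernel) (by decide +kernel)

theorem f5015 : C.T (v15 C) [7, 48, 62, 78, 108, 110, 123] (v9 C) [9, 42, 77, 104, 110, 112] :=
  C.flip (f5014 C)

theorem f5016 : C.T (v17 C) [17, 28, 49, 79, 108, 114] (v15 C) [7, 45, 55, 78, 94, 109] :=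
  C.closeT (p := (v9 C)) (pu := [17, 53, 79, 106, 110])
    (C.pT (f5011 C)
    (C.pH [12, 35, 50, 83] [17, 28, 49, 79, 108, 114] (by decide +kernel) (C.pNil _ _)))
    (C.pH [12, 35, 50, 83] [7, 48, 62, 78, 108, 110, 123] (by decide +kernel)
    (C.pT (f5015 C)
    (C.pH [12, 35, 50, 83] [17, 53, 79, 106, 110] (by decide +kernel) (C.pNil _ _))))
    (C.loop_of_one (relLoop0 C) _ _)

theorem f5017 : C.T (v15 C) [7, 45, 55, 78, 94, 109] (v17 C) [17, 28, 49, 79, 108, 114] :=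
  C.flip (f5016 C)

theorem f5018 : C.T (v9 C) [24, 43, 88, 96, 115] (v17 C) [14, 28, 57, 78, 92, 111] :=
  C.conv (f4589 C) (f4610 C) (f4610 C) _ [159, 165, 176, 177] _ (by decide +kernel) (by decide +kernel) (by decide +kernel)

theorem f5019 : C.S (v9 C) [25, 29, 50, 71, 91, 114] :=
  C.stMul (f1620 C) (f1624 C) _ (by decide +kernel)

theorem f5020 : C.S (v9 C) [18, 33, 55, 71, 105, 109, 125] :=
  C.stMul (f1615 C) (f5019 C) _ (by decide +kernel)

theorem f5021 : C.T (v9 C) [19, 29, 60, 81, 106, 109, 122] (v16 C) [10, 42, 66, 88, 93, 110, 123] :=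
  C.conv (f3492 C) (f3563 C) (f5020 C) _ [152, 164, 172, 177] _ (by decide +kernel) (by decide +kernel) (by decide +kernel)

theorem f5022 : C.T (v16 C) [10, 42, 66, 88, 93, 110, 123] (v9 C) [19, 29, 60, 81, 106, 109, 122] :=
  C.flip (f5021 C)

theorem f5023 : C.T (v17 C) [14, 54, 87, 102, 113] (v16 C) [8, 30, 57, 86, 101, 110, 113] :=
  C.closeT (p := (v9 C)) (pu := [24, 43, 88, 96, 115])
    (C.pT (f5018 C)
    (C.pH [12, 35, 50, 83] [14, 54, 87, 102, 113] (by decide +kernel) (C.pNil _ _)))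
    (C.pH [12, 35, 50, 83] [10, 42, 66, 88, 93, 110, 123] (by decide +kernel)
    (C.pT (f5022 C)
    (C.pH [12, 35, 50, 83] [24, 43, 88, 96, 115] (by decide +kernel) (C.pNil _ _))))
    (C.loop_of_one (relLoop0 C) _ _)

theorem f5024 : C.T (v16 C) [8, 30, 57, 86, 101, 110, 113] (v17 C) [14, 54, 87, 102, 113] :=
  C.flip (f5023 C)

theorem f5025 : C.T (v9 C) [22, 35, 49, 72, 93, 113] (v17 C) [16, 34, 56, 84, 94, 109, 114] :=
  C.conv (f4589 C) (f4610 C) (f4610 C) _ [131, 152, 166, 173, 178] _ (by decide +kernel) (by decide +kernel) (by decide +kernel)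

theorem f5026 : C.T (v9 C) [20, 29, 49, 70, 101, 110, 120] (v15 C) [18, 34, 57, 75, 107, 109, 111] :=
  C.conv (f2928 C) (f3035 C) (f5012 C) _ [135, 158, 166, 175] _ (by decide +kernel) (by decide +kernel) (by decide +kernel)

theorem f5027 : C.T (v15 C) [18, 34, 57, 75, 107, 109, 111] (v9 C) [20, 29, 49, 70, 101, 110, 120] :=
  C.flip (f5026 C)

theorem f5028 : C.T (v17 C) [16, 47, 56, 85, 95, 110, 122] (v15 C) [18, 47, 49, 85, 91, 109, 115] :=
  C.closeT (p := (v9 C)) (pu := [22, 35, 49, 72, 93, 113])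
    (C.pT (f5025 C)
    (C.pH [12, 35, 50, 83] [16, 47, 56, 85, 95, 110, 122] (by decide +kernel) (C.pNil _ _)))
    (C.pH [12, 35, 50, 83] [18, 34, 57, 75, 107, 109, 111] (by decide +kernel)
    (C.pT (f5027 C)
    (C.pH [12, 35, 50, 83] [22, 35, 49, 72, 93, 113] (by decide +kernel) (C.pNil _ _))))
    (C.loop_of_one (relLoop0 C) _ _)

theorem f5029 : C.T (v15 C) [18, 47, 49, 85, 91, 109, 115] (v17 C) [16, 47, 56, 85, 95, 110, 122] :=
  C.flip (f5028 C)

theorem f5030 : C.T (v9 C) [18, 36, 57, 86, 106, 109, 116] (v17 C) [16, 37, 68, 86, 109] :=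
  C.conv (f4665 C) (f4678 C) (f4678 C) _ [148, 149, 168, 174] _ (by decide +kernel) (by decide +kernel) (by decide +kernel)

theorem f5031 : C.S (v9 C) [22, 48, 68, 83, 104, 125] :=
  C.stMul (f1624 C) (f1610 C) _ (by decide +kernel)

theorem f5032 : C.S (v9 C) [6, 35, 59, 84, 106, 110, 112] :=
  C.stMul (f1620 C) (f5031 C) _ (by decide +kernel)

theorem f5033 : C.S (v9 C) [12, 46, 51, 82, 96, 109, 111] :=
  C.stMul (f1615 C) (f5032 C) _ (by decide +kernel)

theorem f5034 : C.T (v9 C) [18, 32, 61, 70, 96, 124] (v17 C) [26, 30, 52, 89, 108, 110, 111] :=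
  C.conv (f4665 C) (f4678 C) (f5033 C) _ [127, 150, 174] _ (by decide +kernel) (by decide +kernel) (by decide +kernel)

theorem f5035 : C.T (v17 C) [26, 30, 52, 89, 108, 110, 111] (v9 C) [18, 32, 61, 70, 96, 124] :=
  C.flip (f5034 C)

theorem f5036 : C.T (v17 C) [16, 34, 69, 76, 91, 113] (v17 C) [13, 32, 58, 76, 96, 109, 118] :=
  C.closeT (p := (v9 C)) (pu := [18, 36, 57, 86, 106, 109, 116])
    (C.pT (f5030 C)
    (C.pH [12, 35, 50, 83] [16, 34, 69, 76, 91, 113] (by decide +kernel) (C.pNil _ _)))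
    (C.pH [12, 35, 50, 83] [26, 30, 52, 89, 108, 110, 111] (by decide +kernel)
    (C.pT (f5035 C)
    (C.pH [12, 35, 50, 83] [18, 36, 57, 86, 106, 109, 116] (by decide +kernel) (C.pNil _ _))))
    (C.loop_of_one (relLoop0 C) _ _)

theorem f5037 : C.T (v17 C) [13, 32, 58, 76, 96, 109, 118] (v17 C) [16, 34, 69, 76, 91, 113] :=
  C.flip (f5036 C)

theorem f5038 : C.T (v9 C) [4, 33, 56, 86, 118] (v17 C) [23, 33, 51, 76, 92, 110, 118] :=
  C.conv (f4665 C) (f4678 C) (f4678 C) _ [154, 171, 178] _ (by decide +kernel) (by decide +kernel) (by decide +kernel)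

theorem f5039 : C.S (v9 C) [13, 48, 69, 83, 106, 116] :=
  C.stMul (f1620 C) (f4411 C) _ (by decide +kernel)

theorem f5040 : C.T (v9 C) [26, 40, 59, 87, 102, 122] (v17 C) [16, 45, 63, 89, 91, 110, 118] :=
  C.conv (f4225 C) (f4411 C) (f5039 C) _ [127, 163, 166, 176] _ (by decide +kernel) (by decide +kernel) (by decide +kernel)

theorem f5041 : C.T (v17 C) [16, 45, 63, 89, 91, 110, 118] (v9 C) [26, 40, 59, 87, 102, 122] :=
  C.flip (f5040 C)

theorem f5042 : C.T (v17 C) [32, 68, 71, 106, 120] (v17 C) [16, 45, 49, 89, 100, 120] :=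
  C.closeT (p := (v9 C)) (pu := [4, 33, 56, 86, 118])
    (C.pT (f5038 C)
    (C.pH [12, 35, 50, 83] [32, 68, 71, 106, 120] (by decide +kernel) (C.pNil _ _)))
    (C.pH [12, 35, 50, 83] [16, 45, 63, 89, 91, 110, 118] (by decide +kernel)
    (C.pT (f5041 C)
    (C.pH [12, 35, 50, 83] [4, 33, 56, 86, 118] (by decide +kernel) (C.pNil _ _))))
    (C.loop_of_one (relLoop0 C) _ _)

theorem f5043 : C.T (v17 C) [16, 45, 49, 89, 100, 120] (v17 C) [32, 68, 71, 106, 120] :=
  C.flip (f5042 C)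

theorem f5044 : C.T (v9 C) [12, 48, 57, 76, 102, 121] (v17 C) [15, 44, 71, 95, 110, 121] :=
  C.conv (f4665 C) (f4678 C) (f4678 C) _ [130, 154, 176, 177] _ (by decide +kernel) (by decide +kernel) (by decide +kernel)

theorem f5045 : C.S (v9 C) [10, 47, 79, 100, 110, 114] :=
  C.stMul (f1620 C) (f1607 C) _ (by decide +kernel)

theorem f5046 : C.S (v9 C) [10, 28, 52, 73, 91, 110, 119] :=
  C.stMul (f1607 C) (f5045 C) _ (by decide +kernel)

theorem f5047 : C.S (v9 C) [11, 44, 56, 75, 90, 109, 118] :=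
  C.stMul (f1620 C) (f5046 C) _ (by decide +kernel)

theorem f5048 : C.S (v9 C) [22, 30, 60, 88, 92, 110, 119] :=
  C.stMul (f1624 C) (f5047 C) _ (by decide +kernel)

theorem f5049 : C.T (v9 C) [45, 65, 108, 110, 116] (v17 C) [59, 85, 100, 121] :=
  C.conv (f4201 C) (f1615 C) (f5048 C) _ [128, 160, 164, 175, 178] _ (by decide +kernel) (by decide +kernel) (by decide +kernel)

theorem f5050 : C.T (v17 C) [59, 85, 100, 121] (v9 C) [45, 65, 108, 110, 116] :=
  C.flip (f5049 C)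

theorem f5051 : C.T (v17 C) [15, 43, 56, 83, 100, 109, 116] (v17 C) [23, 29, 51, 85, 93, 109, 122] :=
  C.closeT (p := (v9 C)) (pu := [12, 48, 57, 76, 102, 121])
    (C.pT (f5044 C)
    (C.pH [12, 35, 50, 83] [15, 43, 56, 83, 100, 109, 116] (by decide +kernel) (C.pNil _ _)))
    (C.pH [12, 35, 50, 83] [59, 85, 100, 121] (by decide +kernel)
    (C.pT (f5050 C)
    (C.pH [12, 35, 50, 83] [12, 48, 57, 76, 102, 121] (by decide +kernel) (C.pNil _ _))))
    (C.loop_of_one (relLoop0 C) _ _)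

theorem f5052 : C.T (v17 C) [23, 29, 51, 85, 93, 109, 122] (v17 C) [15, 43, 56, 83, 100, 109, 116] :=
  C.flip (f5051 C)

theorem f5053 : C.T (v9 C) [18, 27, 61, 93, 109, 123] (v17 C) [25, 30, 53, 76, 103, 109, 125] :=
  C.conv (f4665 C) (f4678 C) (f4678 C) _ [132, 152, 169, 171] _ (by decide +kernel) (by decide +kernel) (by decide +kernel)

theorem f5054 : C.S (v9 C) [21, 32, 63, 85, 106, 110, 120] :=
  C.stMul (f1624 C) (f1620 C) _ (by decide +kernel)

theorem f5055 : C.S (v9 C) [12, 29, 63, 103, 119] :=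
  C.stMul (f1620 C) (f5054 C) _ (by decide +kernel)

theorem f5056 : C.S (v9 C) [6, 33, 57, 77, 98, 119] :=
  C.stMul (f1615 C) (f5055 C) _ (by decide +kernel)

theorem f5057 : C.T (v9 C) [18, 31, 59, 72, 110, 115] (v17 C) [8, 41, 58, 87, 108, 109, 121] :=
  C.conv (f4665 C) (f4678 C) (f5056 C) _ [139, 160, 165, 172, 178] _ (by decide +kernel) (by decide +kernel) (by decide +kernel)

theorem f5058 : C.T (v17 C) [8, 41, 58, 87, 108, 109, 121] (v9 C) [18, 31, 59, 72, 110, 115] :=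
  C.flip (f5057 C)

theorem f5059 : C.T (v17 C) [9, 36, 66, 77, 99, 109, 115] (v17 C) [21, 42, 53, 79, 103, 109, 114] :=
  C.closeT (p := (v9 C)) (pu := [18, 27, 61, 93, 109, 123])
    (C.pT (f5053 C)
    (C.pH [12, 35, 50, 83] [9, 36, 66, 77, 99, 109, 115] (by decide +kernel) (C.pNil _ _)))
    (C.pH [12, 35, 50, 83] [8, 41, 58, 87, 108, 109, 121] (by decide +kernel)
    (C.pT (f5058 C)
    (C.pH [12, 35, 50, 83] [18, 27, 61, 93, 109, 123] (by decide +kernel) (C.pNil _ _))))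
    (C.loop_of_one (relLoop0 C) _ _)

theorem f5061 : C.S (v17 C) [23, 31, 49, 84, 96, 117] :=
  C.stMul (f4137 C) (f4137 C) _ (by decide +kernel)

theorem f5063 : C.T (v9 C) [21, 34, 68, 82, 97, 109, 123] (v7 C) [6, 33, 67, 73, 90, 110] :=
  C.conv (f1628 C) (f1657 C) (f1657 C) _ [159, 170, 173, 178] _ (by decide +kernel) (by decide +kernel) (by decide +kernel)

theorem f5064 : C.S (v7 C) [10, 28, 58, 124] :=
  C.stMul (f1472 C) (f1459 C) _ (by decide +kernel)

theorem f5065 : C.S (v7 C) [59, 88, 105, 110, 123] :=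
  C.stMul (f1484 C) (f5064 C) _ (by decide +kernel)

theorem f5066 : C.S (v7 C) [5, 47, 50, 87, 93, 109, 122] :=
  C.stMul (f1484 C) (f5065 C) _ (by decide +kernel)

theorem f5067 : C.S (v7 C) [17, 48, 68, 72, 103, 114] :=
  C.stMul (f1476 C) (f5066 C) _ (by decide +kernel)

theorem f5068 : C.S (v7 C) [15, 59, 80, 99, 109, 120] :=
  C.stMul (f1497 C) (f5067 C) _ (by decide +kernel)

theorem f5069 : C.T (v7 C) [13, 32, 52, 80, 92, 110, 113] (v15 C) [25, 46, 65, 78, 90, 114] :=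
  C.conv (f3377 C) (f3417 C) (f5068 C) _ [136, 158, 170, 175] _ (by decide +kernel) (by decide +kernel) (by decide +kernel)

theorem f5070 : C.S (v9 C) [11, 45, 66, 71, 92, 109, 125] :=
  C.stMul (f1610 C) (f1607 C) _ (by decide +kernel)

theorem f5071 : C.S (v9 C) [22, 48, 53, 80, 99, 115] :=
  C.stMul (f1624 C) (f5070 C) _ (by decide +kernel)

theorem f5072 : C.T (v9 C) [10, 47, 56, 83, 94, 117] (v17 C) [20, 37, 59, 71, 102, 120] :=
  C.conv (f4665 C) (f4678 C) (f5071 C) _ [144, 163, 167, 173] _ (by decide +kernel) (by decide +kernel) (by decide +kernel)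

theorem f5073 : C.T (v17 C) [20, 37, 59, 71, 102, 120] (v9 C) [10, 47, 56, 83, 94, 117] :=
  C.flip (f5072 C)

theorem f5074 : C.T (v15 C) [18, 41, 52, 89, 109, 115] (v17 C) [16, 34, 55, 86, 90, 110, 112] :=
  C.closeT (p := (v9 C)) (pu := [21, 34, 68, 82, 97, 109, 123])
    (C.pT (f5063 C)
    (C.pH [8, 30, 65, 84, 94, 117] [13, 32, 52, 80, 92, 110, 113] (by decide +kernel)
    (C.pT (f5069 C)
    (C.pH [26, 38, 54, 89, 90, 113] [18, 41, 52, 89, 109, 115] (by decide +kernel) (C.pNil _ _)))))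
    (C.pH [8, 30, 65, 84, 94, 117] [20, 37, 59, 71, 102, 120] (by decide +kernel)
    (C.pT (f5073 C)
    (C.pH [26, 38, 54, 89, 90, 113] [21, 34, 68, 82, 97, 109, 123] (by decide +kernel) (C.pNil _ _))))
    (C.loop_of_one (relLoop1 C) _ _)

theorem f5075 : C.T (v17 C) [16, 34, 55, 86, 90, 110, 112] (v15 C) [18, 41, 52, 89, 109, 115] :=
  C.flip (f5074 C)

theorem f5076 : C.T (v9 C) [4, 39, 56, 78, 107, 122] (v7 C) [10, 46, 70, 94, 115] :=
  C.conv (f1628 C) (f1657 C) (f1657 C) _ [142, 154, 165, 172, 177] _ (by decide +kernel) (by decide +kernel) (by decide +kernel)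

theorem f5077 : C.S (v7 C) [20, 38, 57, 73, 94, 121] :=
  C.stMul (f1484 C) (f1497 C) _ (by decide +kernel)

theorem f5078 : C.S (v7 C) [10, 43, 49, 70, 92, 109, 111] :=
  C.stMul (f1497 C) (f5077 C) _ (by decide +kernel)

theorem f5079 : C.S (v7 C) [9, 48, 63, 86, 108, 109, 112] :=
  C.stMul (f1464 C) (f5078 C) _ (by decide +kernel)

theorem f5080 : C.T (v7 C) [15, 32, 77, 90, 110, 111] (v15 C) [9, 47, 64, 77, 100, 109, 111] :=
  C.conv (f3377 C) (f3417 C) (f5079 C) _ [134, 168, 176] _ (by decide +kernel) (by decide +kernel) (by decide +kernel)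

theorem f5081 : C.T (v9 C) [6, 38, 56, 81, 102, 110, 122] (v17 C) [16, 30, 54, 81, 97, 118] :=
  C.conv (f4665 C) (f4678 C) (f4678 C) _ [137, 154, 167, 175, 178] _ (by decide +kernel) (by decide +kernel) (by decide +kernel)

theorem f5082 : C.T (v17 C) [16, 30, 54, 81, 97, 118] (v9 C) [6, 38, 56, 81, 102, 110, 122] :=
  C.flip (f5081 C)

theorem f5083 : C.T (v15 C) [22, 43, 65, 77, 108, 109, 119] (v17 C) [24, 33, 54, 89, 94, 125] :=
  C.closeT (p := (v9 C)) (pu := [4, 39, 56, 78, 107, 122])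
    (C.pT (f5076 C)
    (C.pH [8, 30, 65, 84, 94, 117] [15, 32, 77, 90, 110, 111] (by decide +kernel)
    (C.pT (f5080 C)
    (C.pH [26, 38, 54, 89, 90, 113] [22, 43, 65, 77, 108, 109, 119] (by decide +kernel) (C.pNil _ _)))))
    (C.pH [8, 30, 65, 84, 94, 117] [16, 30, 54, 81, 97, 118] (by decide +kernel)
    (C.pT (f5082 C)
    (C.pH [26, 38, 54, 89, 90, 113] [4, 39, 56, 78, 107, 122] (by decide +kernel) (C.pNil _ _))))
    (C.loop_of_one (relLoop1 C) _ _)

theorem f5084 : C.T (v17 C) [24, 33, 54, 89, 94, 125] (v15 C) [22, 43, 65, 77, 108, 109, 119] :=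
  C.flip (f5083 C)

theorem f5085 : C.T (v9 C) [21, 27, 62, 79, 105, 110, 123] (v9 C) [21, 48, 51, 84, 91, 113] :=
  C.conv (f1643 C) (f1620 C) (f1620 C) _ [130, 154, 166, 175, 178] _ (by decide +kernel) (by decide +kernel) (by decide +kernel)

theorem f5086 : C.S (v9 C) [11, 40, 56, 79, 103, 109, 114] :=
  C.stMul (f1615 C) (f1620 C) _ (by decide +kernel)

theorem f5087 : C.S (v9 C) [22, 28, 59, 71, 101, 109, 111] :=
  C.stMul (f1624 C) (f5086 C) _ (by decide +kernel)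

theorem f5088 : C.S (v9 C) [6, 29, 63, 103, 119] :=
  C.stMul (f1620 C) (f5087 C) _ (by decide +kernel)

theorem f5089 : C.T (v9 C) [24, 33, 65, 102, 116] (v17 C) [10, 28, 60, 92, 113] :=
  C.conv (f4377 C) (f4755 C) (f5088 C) _ [126, 152, 164, 173, 178] _ (by decide +kernel) (by decide +kernel) (by decide +kernel)

theorem f5090 : C.S (v9 C) [25, 33, 55, 71, 105, 109, 125] :=
  C.stMul (f1607 C) (f4754 C) _ (by decide +kernel)

theorem f5091 : C.T (v9 C) [10, 35, 63, 75, 93, 109, 116] (v17 C) [25, 40, 51, 81, 108, 116] :=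
  C.conv (f4377 C) (f4755 C) (f5090 C) _ [135, 161, 165] _ (by decide +kernel) (by decide +kernel) (by decide +kernel)

theorem f5092 : C.T (v17 C) [25, 40, 51, 81, 108, 116] (v9 C) [10, 35, 63, 75, 93, 109, 116] :=
  C.flip (f5091 C)

theorem f5093 : C.T (v17 C) [21, 35, 54, 90, 110, 118] (v17 C) [4, 34, 65, 81, 101, 109, 118] :=
  C.closeT (p := (v9 C)) (pu := [21, 27, 62, 79, 105, 110, 123])
    (C.pT (f5085 C)
    (C.pH [8, 30, 65, 84, 94, 117] [24, 33, 65, 102, 116] (by decide +kernel)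
    (C.pT (f5089 C)
    (C.pH [26, 38, 54, 89, 90, 113] [21, 35, 54, 90, 110, 118] (by decide +kernel) (C.pNil _ _)))))
    (C.pH [8, 30, 65, 84, 94, 117] [25, 40, 51, 81, 108, 116] (by decide +kernel)
    (C.pT (f5092 C)
    (C.pH [26, 38, 54, 89, 90, 113] [21, 27, 62, 79, 105, 110, 123] (by decide +kernel) (C.pNil _ _))))
    (C.loop_of_one (relLoop1 C) _ _)

theorem f5096 : C.T (v9 C) [17, 39, 65, 75, 95, 109, 117] (v9 C) [17, 41, 59, 89, 99] :=
  C.conv (f1643 C) (f1620 C) (f1620 C) _ [131, 149, 170, 176, 178] _ (by decide +kernel) (by decide +kernel) (by decide +kernel)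

theorem f5097 : C.S (v9 C) [11, 45, 66, 71, 92, 109, 125] :=
  C.stMul (f1610 C) (f1607 C) _ (by decide +kernel)

theorem f5098 : C.S (v9 C) [13, 48, 69, 83, 106, 116] :=
  C.stMul (f1620 C) (f5097 C) _ (by decide +kernel)

theorem f5099 : C.T (v9 C) [22, 32, 55, 72, 92, 109, 116] (v17 C) [6, 47, 57, 73, 107, 120] :=
  C.conv (f4863 C) (f4877 C) (f5098 C) _ [135, 159, 166, 173, 177] _ (by decide +kernel) (by decide +kernel) (by decide +kernel)

theorem f5100 : C.T (v9 C) [19, 31, 50, 85, 106, 114] (v17 C) [9, 34, 54, 71, 104, 109, 114] :=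
  C.conv (f4863 C) (f4877 C) (f4878 C) _ [143, 169] _ (by decide +kernel) (by decide +kernel) (by decide +kernel)

theorem f5101 : C.T (v17 C) [9, 34, 54, 71, 104, 109, 114] (v9 C) [19, 31, 50, 85, 106, 114] :=
  C.flip (f5100 C)

theorem f5102 : C.T (v17 C) [4, 42, 67, 77, 104, 111] (v17 C) [25, 30, 66, 86, 91, 115] :=
  C.closeT (p := (v9 C)) (pu := [17, 39, 65, 75, 95, 109, 117])
    (C.pT (f5096 C)
    (C.pH [8, 30, 65, 84, 94, 117] [22, 32, 55, 72, 92, 109, 116] (by decide +kernel)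
    (C.pT (f5099 C)
    (C.pH [26, 38, 54, 89, 90, 113] [4, 42, 67, 77, 104, 111] (by decide +kernel) (C.pNil _ _)))))
    (C.pH [8, 30, 65, 84, 94, 117] [9, 34, 54, 71, 104, 109, 114] (by decide +kernel)
    (C.pT (f5101 C)
    (C.pH [26, 38, 54, 89, 90, 113] [17, 39, 65, 75, 95, 109, 117] (by decide +kernel) (C.pNil _ _))))
    (C.loop_of_one (relLoop1 C) _ _)

theorem f5105 : C.T (v9 C) [19, 37, 49, 81, 95, 119] (v9 C) [19, 31, 52, 74, 91, 110, 120] :=
  C.conv (f1669 C) (f1624 C) (f1624 C) _ [132, 159, 166, 176, 178] _ (by decide +kernel) (by decide +kernel) (by decide +kernel)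

theorem f5106 : C.S (v9 C) [25, 29, 52, 87, 96, 125] :=
  C.stMul (f1620 C) (f4849 C) _ (by decide +kernel)

theorem f5107 : C.S (v9 C) [6, 46, 57, 83, 110, 112] :=
  C.stMul (f1607 C) (f5106 C) _ (by decide +kernel)

theorem f5108 : C.T (v9 C) [26, 33, 69, 85, 90, 109, 117] (v17 C) [43, 56, 85, 96, 119] :=
  C.conv (f4201 C) (f1615 C) (f5107 C) _ [131, 161, 166, 176] _ (by decide +kernel) (by decide +kernel) (by decide +kernel)

theorem f5109 : C.S (v9 C) [11, 40, 59, 82, 99, 110, 111] :=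
  C.stMul (f1615 C) (f4455 C) _ (by decide +kernel)

theorem f5110 : C.T (v9 C) [22, 33, 65, 72, 90, 124] (v17 C) [9, 39, 55, 73, 108, 118] :=
  C.conv (f4247 C) (f1624 C) (f5109 C) _ [137, 159, 165, 175] _ (by decide +kernel) (by decide +kernel) (by decide +kernel)

theorem f5111 : C.T (v17 C) [9, 39, 55, 73, 108, 118] (v9 C) [22, 33, 65, 72, 90, 124] :=
  C.flip (f5110 C)

theorem f5112 : C.T (v17 C) [26, 28, 50, 80, 103, 109, 119] (v17 C) [25, 46, 68, 88, 105, 110, 112] :=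
  C.closeT (p := (v9 C)) (pu := [19, 37, 49, 81, 95, 119])
    (C.pT (f5105 C)
    (C.pH [8, 30, 65, 84, 94, 117] [26, 33, 69, 85, 90, 109, 117] (by decide +kernel)
    (C.pT (f5108 C)
    (C.pH [26, 38, 54, 89, 90, 113] [26, 28, 50, 80, 103, 109, 119] (by decide +kernel) (C.pNil _ _)))))
    (C.pH [8, 30, 65, 84, 94, 117] [9, 39, 55, 73, 108, 118] (by decide +kernel)
    (C.pT (f5111 C)
    (C.pH [26, 38, 54, 89, 90, 113] [19, 37, 49, 81, 95, 119] (by decide +kernel) (C.pNil _ _))))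
    (C.loop_of_one (relLoop1 C) _ _)

theorem f5113 : C.T (v17 C) [25, 46, 68, 88, 105, 110, 112] (v17 C) [26, 28, 50, 80, 103, 109, 119] :=
  C.flip (f5112 C)

theorem f5114 : C.T (v9 C) [22, 43, 51, 79, 90, 117] (v9 C) [22, 42, 65, 87, 106, 122] :=
  C.conv (f1669 C) (f1624 C) (f1624 C) _ [146, 154, 173] _ (by decide +kernel) (by decide +kernel) (by decide +kernel)

theorem f5115 : C.S (v9 C) [25, 29, 50, 71, 91, 114] :=
  C.stMul (f1620 C) (f1624 C) _ (by decide +kernel)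

theorem f5116 : C.S (v9 C) [6, 46, 51, 82, 96, 109, 111] :=
  C.stMul (f1607 C) (f5115 C) _ (by decide +kernel)

theorem f5117 : C.T (v9 C) [6, 39, 56, 87, 95, 109, 117] (v17 C) [10, 39, 54, 75, 91, 110, 119] :=
  C.conv (f4863 C) (f4877 C) (f5116 C) _ [143, 158, 170, 176, 177] _ (by decide +kernel) (by decide +kernel) (by decide +kernel)

theorem f5118 : C.S (v9 C) [4, 48, 68, 83, 104, 125] :=
  C.stMul (f1624 C) (f1615 C) _ (by decide +kernel)

theorem f5119 : C.T (v9 C) [9, 47, 56, 84, 104, 109, 124] (v17 C) [13, 30, 67, 88, 92, 110] :=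
  C.conv (f4863 C) (f4877 C) (f5118 C) _ [146, 156, 168] _ (by decide +kernel) (by decide +kernel) (by decide +kernel)

theorem f5120 : C.T (v17 C) [13, 30, 67, 88, 92, 110] (v9 C) [9, 47, 56, 84, 104, 109, 124] :=
  C.flip (f5119 C)

theorem f5121 : C.T (v17 C) [21, 40, 81, 100, 110, 117] (v17 C) [6, 39, 60, 72, 96, 113] :=
  C.closeT (p := (v9 C)) (pu := [22, 43, 51, 79, 90, 117])
    (C.pT (f5114 C)
    (C.pH [8, 30, 65, 84, 94, 117] [6, 39, 56, 87, 95, 109, 117] (by decide +kernel)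
    (C.pT (f5117 C)
    (C.pH [26, 38, 54, 89, 90, 113] [21, 40, 81, 100, 110, 117] (by decide +kernel) (C.pNil _ _)))))
    (C.pH [8, 30, 65, 84, 94, 117] [13, 30, 67, 88, 92, 110] (by decide +kernel)
    (C.pT (f5120 C)
    (C.pH [26, 38, 54, 89, 90, 113] [22, 43, 51, 79, 90, 117] (by decide +kernel) (C.pNil _ _))))
    (C.loop_of_one (relLoop1 C) _ _)

theorem f5124 : C.T (v9 C) [14, 28, 66, 79, 100, 122] (v9 C) [19, 40, 54, 86, 95, 109, 121] :=
  C.conv (f1675 C) (f1677 C) (f1677 C) _ [140, 153, 166, 172, 178] _ (by decide +kernel) (by decide +kernel) (by decide +kernel)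

theorem f5125 : C.T (v9 C) [26, 34, 62, 81, 107, 109, 112] (v17 C) [9, 47, 69, 71, 92, 119] :=
  C.conv (f4863 C) (f4877 C) (f4877 C) _ [132, 159, 164, 175, 177] _ (by decide +kernel) (by decide +kernel) (by decide +kernel)

theorem f5126 : C.S (v9 C) [10, 69, 81, 100, 113] :=
  C.stMul (f1615 C) (f1610 C) _ (by decide +kernel)

theorem f5127 : C.S (v9 C) [11, 48, 69, 83, 106, 116] :=
  C.stMul (f1620 C) (f5126 C) _ (by decide +kernel)

theorem f5128 : C.T (v9 C) [12, 48, 61, 88, 92, 120] (v17 C) [4, 43, 66, 71, 100, 110, 117] :=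
  C.conv (f4863 C) (f4877 C) (f5127 C) _ [135, 149, 173, 177] _ (by decide +kernel) (by decide +kernel) (by decide +kernel)

theorem f5129 : C.T (v17 C) [4, 43, 66, 71, 100, 110, 117] (v9 C) [12, 48, 61, 88, 92, 120] :=
  C.flip (f5128 C)

theorem f5130 : C.T (v17 C) [22, 43, 57, 88, 102, 110, 123] (v17 C) [18, 28, 63, 74, 94, 109, 115] :=
  C.closeT (p := (v9 C)) (pu := [14, 28, 66, 79, 100, 122])
    (C.pT (f5124 C)
    (C.pH [8, 30, 65, 84, 94, 117] [26, 34, 62, 81, 107, 109, 112] (by decide +kernel)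
    (C.pT (f5125 C)
    (C.pH [26, 38, 54, 89, 90, 113] [22, 43, 57, 88, 102, 110, 123] (by decide +kernel) (C.pNil _ _)))))
    (C.pH [8, 30, 65, 84, 94, 117] [4, 43, 66, 71, 100, 110, 117] (by decide +kernel)
    (C.pT (f5129 C)
    (C.pH [26, 38, 54, 89, 90, 113] [14, 28, 66, 79, 100, 122] (by decide +kernel) (C.pNil _ _))))
    (C.loop_of_one (relLoop1 C) _ _)

theorem f5133 : C.T (v9 C) [4, 30, 56, 80, 104, 110, 120] (v9 C) [6, 45, 53, 87, 100, 110, 123] :=
  C.conv (f1690 C) (f1693 C) (f1693 C) _ [139, 157, 178] _ (by decide +kernel) (by decide +kernel) (by decide +kernel)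

theorem f5134 : C.S (v9 C) [11, 45, 66, 71, 92, 109, 125] :=
  C.stMul (f1610 C) (f1607 C) _ (by decide +kernel)

theorem f5135 : C.S (v9 C) [22, 48, 53, 80, 99, 115] :=
  C.stMul (f1624 C) (f5134 C) _ (by decide +kernel)

theorem f5136 : C.T (v9 C) [13, 46, 50, 83, 95, 125] (v15 C) [17, 34, 61, 93, 120] :=
  C.conv (f2928 C) (f3035 C) (f5135 C) _ [143, 161, 165, 174] _ (by decide +kernel) (by decide +kernel) (by decide +kernel)

theorem f5137 : C.S (v9 C) [10, 28, 53, 80, 101, 110, 112] :=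
  C.stMul (f1607 C) (f1620 C) _ (by decide +kernel)

theorem f5138 : C.S (v9 C) [21, 38, 57, 84, 103, 109, 118] :=
  C.stMul (f1624 C) (f5137 C) _ (by decide +kernel)

theorem f5139 : C.T (v9 C) [6, 37, 74, 98, 119] (v17 C) [11, 37, 60, 70, 92, 110] :=
  C.conv (f4665 C) (f4678 C) (f5138 C) _ [140, 163, 166, 174] _ (by decide +kernel) (by decide +kernel) (by decide +kernel)

theorem f5140 : C.T (v17 C) [11, 37, 60, 70, 92, 110] (v9 C) [6, 37, 74, 98, 119] :=
  C.flip (f5139 C)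

theorem f5141 : C.T (v15 C) [20, 29, 57, 89, 93, 125] (v17 C) [13, 38, 63, 79, 109, 118] :=
  C.closeT (p := (v9 C)) (pu := [4, 30, 56, 80, 104, 110, 120])
    (C.pT (f5133 C)
    (C.pH [8, 30, 65, 84, 94, 117] [13, 46, 50, 83, 95, 125] (by decide +kernel)
    (C.pT (f5136 C)
    (C.pH [26, 38, 54, 89, 90, 113] [20, 29, 57, 89, 93, 125] (by decide +kernel) (C.pNil _ _)))))
    (C.pH [8, 30, 65, 84, 94, 117] [11, 37, 60, 70, 92, 110] (by decide +kernel)
    (C.pT (f5140 C)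
    (C.pH [26, 38, 54, 89, 90, 113] [4, 30, 56, 80, 104, 110, 120] (by decide +kernel) (C.pNil _ _))))
    (C.loop_of_one (relLoop1 C) _ _)

theorem f5142 : C.T (v17 C) [13, 38, 63, 79, 109, 118] (v15 C) [20, 29, 57, 89, 93, 125] :=
  C.flip (f5141 C)

theorem f5143 : C.T (v9 C) [5, 27, 57, 89, 103, 109, 116] (v10 C) [12, 41, 49, 71, 102, 123] :=
  C.conv (f2002 C) (f3429 C) (f3429 C) _ [137, 162, 165, 176, 177] _ (by decide +kernel) (by decide +kernel) (by decide +kernel)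

theorem f5144 : C.S (v10 C) [20, 33, 80, 97, 116] :=
  C.stMul (f1709 C) (f1704 C) _ (by decide +kernel)

theorem f5145 : C.S (v10 C) [35, 61, 89, 104, 125] :=
  C.stMul (f1722 C) (f5144 C) _ (by decide +kernel)

theorem f5146 : C.S (v10 C) [22, 29, 89, 106, 109, 124] :=
  C.stMul (f1714 C) (f1709 C) _ (by decide +kernel)

theorem f5147 : C.S (v10 C) [11, 29, 63, 78, 105, 110, 122] :=
  C.stMul (f1704 C) (f5146 C) _ (by decide +kernel)

theorem f5148 : C.T (v10 C) [21, 48, 55, 78, 105, 109, 120] (v10 C) [20, 41, 57, 81, 97, 109, 112] :=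
  C.conv (f1983 C) (f5145 C) (f5147 C) _ [133, 155, 172] _ (by decide +kernel) (by decide +kernel) (by decide +kernel)

theorem f5149 : C.T (v9 C) [14, 37, 64, 70, 90, 109, 112] (v17 C) [13, 37, 65, 70, 102, 110, 112] :=
  C.conv (f4665 C) (f4678 C) (f1615 C) _ [131, 155, 170, 174] _ (by decide +kernel) (by decide +kernel) (by decide +kernel)

theorem f5150 : C.T (v17 C) [13, 37, 65, 70, 102, 110, 112] (v9 C) [14, 37, 64, 70, 90, 109, 112] :=
  C.flip (f5149 C)

theorem f5151 : C.T (v10 C) [15, 48, 68, 79, 101] (v17 C) [6, 48, 58, 86, 109, 115] :=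
  C.closeT (p := (v9 C)) (pu := [5, 27, 57, 89, 103, 109, 116])
    (C.pT (f5143 C)
    (C.pH [8, 30, 65, 84, 94, 117] [21, 48, 55, 78, 105, 109, 120] (by decide +kernel)
    (C.pT (f5148 C)
    (C.pH [26, 38, 54, 89, 90, 113] [15, 48, 68, 79, 101] (by decide +kernel) (C.pNil _ _)))))
    (C.pH [8, 30, 65, 84, 94, 117] [13, 37, 65, 70, 102, 110, 112] (by decide +kernel)
    (C.pT (f5150 C)
    (C.pH [26, 38, 54, 89, 90, 113] [5, 27, 57, 89, 103, 109, 116] (by decide +kernel) (C.pNil _ _))))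
    (C.loop_of_one (relLoop1 C) _ _)

theorem f5152 : C.T (v17 C) [6, 48, 58, 86, 109, 115] (v10 C) [15, 48, 68, 79, 101] :=
  C.flip (f5151 C)

theorem f5153 : C.T (v9 C) [23, 29, 51, 72, 106, 118] (v5 C) [7, 28, 52, 76, 121] :=
  C.conv (f2011 C) (f4768 C) (f4768 C) _ [142, 155, 168, 171] _ (by decide +kernel) (by decide +kernel) (by decide +kernel)

theorem f5154 : C.S (v5 C) [10, 47, 68, 82, 95, 110] :=
  C.stMul (f986 C) (f3169 C) _ (by decide +kernel)

theorem f5155 : C.S (v5 C) [10, 47, 68, 83, 110, 121] :=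
  C.stMul (f1141 C) (f5154 C) _ (by decide +kernel)

theorem f5156 : C.S (v5 C) [11, 42, 59, 78, 101, 122] :=
  C.stMul (f1023 C) (f5155 C) _ (by decide +kernel)

theorem f5157 : C.T (v5 C) [17, 33, 54, 75, 95, 123] (v15 C) [21, 33, 53, 87, 96, 110, 112] :=
  C.conv (f2699 C) (f3160 C) (f5156 C) _ [136, 153, 168, 171, 178] _ (by decide +kernel) (by decide +kernel) (by decide +kernel)

theorem f5158 : C.T (v15 C) [6, 42, 49, 79, 105, 110, 121] (v17 C) [7, 27, 66, 72, 106, 118] :=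
  C.conv (f4922 C) (f2565 C) (f2581 C) _ [139, 158, 170, 173, 177] _ (by decide +kernel) (by decide +kernel) (by decide +kernel)

theorem f5159 : C.T (v17 C) [17, 39, 66, 72, 106, 118] (v9 C) [13, 38, 50, 93] :=
  C.closeT (p := (v9 C)) (pu := [23, 29, 51, 72, 106, 118])
    (C.pT (f5153 C)
    (C.pH [8, 30, 65, 84, 94, 117] [17, 33, 54, 75, 95, 123] (by decide +kernel)
    (C.pT (f5157 C)
    (C.pH [26, 38, 54, 89, 90, 113] [6, 42, 49, 79, 105, 110, 121] (by decide +kernel)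
    (C.pT (f5158 C)
    (C.pH [8, 30, 65, 84, 94, 117] [17, 39, 66, 72, 106, 118] (by decide +kernel) (C.pNil _ _)))))))
    (C.pH [26, 38, 54, 89, 90, 113] [23, 29, 51, 72, 106, 118] (by decide +kernel) (C.pNil _ _))
    (C.loop_of_one (relLoop1 C) _ _)

theorem f5160 : C.T (v9 C) [13, 38, 50, 93] (v17 C) [17, 39, 66, 72, 106, 118] :=
  C.flip (f5159 C)

theorem f5161 : C.T (v9 C) [20, 37, 56, 76, 103, 109, 122] (v5 C) [22, 47, 59, 72, 101, 110, 116] :=
  C.conv (f2011 C) (f4768 C) (f4768 C) _ [129, 161, 169, 175, 178] _ (by decide +kernel) (by decide +kernel) (by decide +kernel)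

theorem f5162 : C.S (v5 C) [20, 35, 58, 88, 120] :=
  C.stMul (f1023 C) (f1008 C) _ (by decide +kernel)

theorem f5163 : C.S (v5 C) [20, 48, 54, 79, 94, 109, 111] :=
  C.stMul (f1008 C) (f5162 C) _ (by decide +kernel)

theorem f5164 : C.T (v5 C) [6, 30, 57, 85, 108, 110, 112] (v4 C) [8, 45, 62, 77, 101, 110] :=
  C.conv (f1137 C) (f1149 C) (f5163 C) _ [128, 166, 175] _ (by decide +kernel) (by decide +kernel) (by decide +kernel)

theorem f5165 : C.T (v9 C) [17, 28, 64, 83, 102, 110] (v17 C) [13, 45, 53, 72, 92, 110, 111] :=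
  C.conv (f4863 C) (f4877 C) (f5098 C) _ [128, 149, 166, 173, 177] _ (by decide +kernel) (by decide +kernel) (by decide +kernel)

theorem f5166 : C.T (v17 C) [13, 45, 53, 72, 92, 110, 111] (v9 C) [17, 28, 64, 83, 102, 110] :=
  C.flip (f5165 C)

theorem f5167 : C.T (v4 C) [11, 34, 53, 74, 106, 109, 118] (v17 C) [6, 68, 79, 106, 110, 112] :=
  C.closeT (p := (v9 C)) (pu := [20, 37, 56, 76, 103, 109, 122])
    (C.pT (f5161 C)
    (C.pH [8, 30, 65, 84, 94, 117] [6, 30, 57, 85, 108, 110, 112] (by decide +kernel)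
    (C.pT (f5164 C)
    (C.pH [26, 38, 54, 89, 90, 113] [11, 34, 53, 74, 106, 109, 118] (by decide +kernel) (C.pNil _ _)))))
    (C.pH [8, 30, 65, 84, 94, 117] [13, 45, 53, 72, 92, 110, 111] (by decide +kernel)
    (C.pT (f5166 C)
    (C.pH [26, 38, 54, 89, 90, 113] [20, 37, 56, 76, 103, 109, 122] (by decide +kernel) (C.pNil _ _))))
    (C.loop_of_one (relLoop1 C) _ _)

theorem f5168 : C.T (v17 C) [6, 68, 79, 106, 110, 112] (v4 C) [11, 34, 53, 74, 106, 109, 118] :=
  C.flip (f5167 C)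

theorem f5169 : C.T (v9 C) [15, 36, 53, 87, 106, 109] (v5 C) [25, 40, 65, 72, 92, 109, 122] :=
  C.conv (f2016 C) (f1657 C) (f1657 C) _ [134, 160, 164, 171] _ (by decide +kernel) (by decide +kernel) (by decide +kernel)

theorem f5170 : C.T (v9 C) [20, 35, 75, 103, 109, 120] (v4 C) [5, 39, 56, 76, 92, 109, 122] :=
  C.conv (f2043 C) (f2531 C) (f1620 C) _ [138, 158, 169, 171] _ (by decide +kernel) (by decide +kernel) (by decide +kernel)

theorem f5171 : C.T (v4 C) [5, 39, 56, 76, 92, 109, 122] (v9 C) [20, 35, 75, 103, 109, 120] :=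
  C.flip (f5170 C)

theorem f5172 : C.S (v4 C) [8, 31, 60, 85, 98, 110, 125] :=
  C.stMul (f693 C) (f407 C) _ (by decide +kernel)

theorem f5173 : C.T (v4 C) [14, 33, 51, 85, 90, 109, 119] (v17 C) [23, 58, 77, 95, 109, 119] :=
  C.conv (f5167 C) (f421 C) (f5172 C) _ [141, 158, 175] _ (by decide +kernel) (by decide +kernel) (by decide +kernel)

theorem f5174 : C.T (v17 C) [23, 58, 77, 95, 109, 119] (v4 C) [14, 33, 51, 85, 90, 109, 119] :=
  C.flip (f5173 C)

theorem f5175 : C.T (v5 C) [9, 27, 52, 78, 107, 124] (v17 C) [13, 30, 68, 89, 91, 110] :=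
  C.closeT (p := (v9 C)) (pu := [15, 36, 53, 87, 106, 109])
    (C.pT (f5169 C)
    (C.pH [8, 30, 65, 84, 94, 117] [9, 27, 52, 78, 107, 124] (by decide +kernel) (C.pNil _ _)))
    (C.pH [26, 38, 54, 89, 90, 113] [23, 58, 77, 95, 109, 119] (by decide +kernel)
    (C.pT (f5174 C)
    (C.pH [8, 30, 65, 84, 94, 117] [5, 39, 56, 76, 92, 109, 122] (by decide +kernel)
    (C.pT (f5171 C)
    (C.pH [26, 38, 54, 89, 90, 113] [15, 36, 53, 87, 106, 109] (by decide +kernel) (C.pNil _ _))))))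
    (C.loop_of_one (relLoop1 C) _ _)

theorem f5176 : C.T (v17 C) [13, 30, 68, 89, 91, 110] (v5 C) [9, 27, 52, 78, 107, 124] :=
  C.flip (f5175 C)

theorem f5177 : C.T (v9 C) [19, 48, 50, 71, 108, 119] (v5 C) [12, 37, 68, 86, 99, 110, 119] :=
  C.conv (f2016 C) (f1657 C) (f1657 C) _ [143, 167, 172, 178] _ (by decide +kernel) (by decide +kernel) (by decide +kernel)

theorem f5178 : C.S (v9 C) [13, 45, 70, 104, 115] :=
  C.stMul (f1615 C) (f1607 C) _ (by decide +kernel)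

theorem f5179 : C.S (v9 C) [47, 62, 87, 90, 110, 118] :=
  C.stMul (f1620 C) (f5178 C) _ (by decide +kernel)

theorem f5180 : C.S (v9 C) [23, 38, 57, 84, 103, 109, 118] :=
  C.stMul (f1624 C) (f5179 C) _ (by decide +kernel)

theorem f5181 : C.S (v9 C) [25, 46, 49, 70, 90, 109, 119] :=
  C.stMul (f1620 C) (f5180 C) _ (by decide +kernel)

theorem f5182 : C.T (v9 C) [22, 27, 61, 71, 101, 116] (v15 C) [9, 52, 74, 93, 109, 115] :=
  C.conv (f3038 C) (f3917 C) (f5181 C) _ [140, 162, 166, 171, 178] _ (by decide +kernel) (by decide +kernel) (by decide +kernel)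

theorem f5183 : C.T (v15 C) [9, 52, 74, 93, 109, 115] (v9 C) [22, 27, 61, 71, 101, 116] :=
  C.flip (f5182 C)

theorem f5184 : C.S (v15 C) [25, 47, 66, 86, 107, 124] :=
  C.stMul (f2569 C) (f2565 C) _ (by decide +kernel)

theorem f5185 : C.T (v15 C) [25, 28, 51, 70, 105, 111] (v17 C) [25, 34, 52, 82, 101, 119] :=
  C.conv (f4922 C) (f2565 C) (f5184 C) _ [140, 162, 168, 171, 178] _ (by decide +kernel) (by decide +kernel) (by decide +kernel)

theorem f5186 : C.T (v17 C) [25, 34, 52, 82, 101, 119] (v15 C) [25, 28, 51, 70, 105, 111] :=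
  C.flip (f5185 C)

theorem f5187 : C.T (v5 C) [21, 55, 84, 100, 125] (v17 C) [4, 36, 58, 73, 103, 109, 124] :=
  C.closeT (p := (v9 C)) (pu := [19, 48, 50, 71, 108, 119])
    (C.pT (f5177 C)
    (C.pH [8, 30, 65, 84, 94, 117] [21, 55, 84, 100, 125] (by decide +kernel) (C.pNil _ _)))
    (C.pH [26, 38, 54, 89, 90, 113] [25, 34, 52, 82, 101, 119] (by decide +kernel)
    (C.pT (f5186 C)
    (C.pH [8, 30, 65, 84, 94, 117] [9, 52, 74, 93, 109, 115] (by decide +kernel)
    (C.pT (f5183 C)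
    (C.pH [26, 38, 54, 89, 90, 113] [19, 48, 50, 71, 108, 119] (by decide +kernel) (C.pNil _ _))))))
    (C.loop_of_one (relLoop1 C) _ _)

theorem f5188 : C.T (v17 C) [4, 36, 58, 73, 103, 109, 124] (v5 C) [21, 55, 84, 100, 125] :=
  C.flip (f5187 C)

theorem f5189 : C.T (v9 C) [23, 29, 64, 78, 107, 111] (v5 C) [25, 46, 57, 80, 91, 109, 111] :=
  C.conv (f2016 C) (f1657 C) (f1657 C) _ [137, 153, 168, 176, 178] _ (by decide +kernel) (by decide +kernel) (by decide +kernel)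

theorem f5190 : C.S (v5 C) [9, 47, 59, 85, 92, 123] :=
  C.stMul (f1008 C) (f986 C) _ (by decide +kernel)

theorem f5191 : C.S (v5 C) [7, 42, 67, 73, 102, 109, 111] :=
  C.stMul (f1141 C) (f5190 C) _ (by decide +kernel)

theorem f5192 : C.S (v5 C) [7, 32, 81, 92, 110, 117] :=
  C.stMul (f1008 C) (f5191 C) _ (by decide +kernel)

theorem f5193 : C.S (v5 C) [24, 27, 59, 84, 96, 114] :=
  C.stMul (f1023 C) (f5192 C) _ (by decide +kernel)

theorem f5194 : C.S (v5 C) [20, 31, 50, 86, 96, 109, 115] :=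
  C.stMul (f1141 C) (f1023 C) _ (by decide +kernel)

theorem f5195 : C.T (v5 C) [9, 39, 54, 85, 97, 113] (v17 C) [5, 34, 56, 82, 91, 109, 125] :=
  C.conv (f5187 C) (f5193 C) (f5194 C) _ [131, 150, 176] _ (by decide +kernel) (by decide +kernel) (by decide +kernel)

theorem f5196 : C.S (v9 C) [4, 48, 68, 83, 104, 125] :=
  C.stMul (f1624 C) (f1615 C) _ (by decide +kernel)

theorem f5197 : C.S (v9 C) [18, 29, 50, 71, 91, 114] :=
  C.stMul (f1620 C) (f5196 C) _ (by decide +kernel)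

theorem f5198 : C.S (v9 C) [12, 33, 53, 81, 108, 124] :=
  C.stMul (f1624 C) (f5197 C) _ (by decide +kernel)

theorem f5199 : C.T (v9 C) [13, 38, 56, 80, 107, 110, 121] (v16 C) [6, 35, 54, 84, 105, 109, 120] :=
  C.conv (f3959 C) (f4016 C) (f5198 C) _ [145, 153, 167, 174] _ (by decide +kernel) (by decide +kernel) (by decide +kernel)

theorem f5200 : C.T (v16 C) [6, 35, 54, 84, 105, 109, 120] (v9 C) [13, 38, 56, 80, 107, 110, 121] :=
  C.flip (f5199 C)

theorem f5201 : C.T (v17 C) [8, 42, 64, 72, 101, 110, 111] (v16 C) [22, 30, 51, 85, 97, 110, 118] :=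
  C.closeT (p := (v9 C)) (pu := [23, 29, 64, 78, 107, 111])
    (C.pT (f5189 C)
    (C.pH [8, 30, 65, 84, 94, 117] [9, 39, 54, 85, 97, 113] (by decide +kernel)
    (C.pT (f5195 C)
    (C.pH [26, 38, 54, 89, 90, 113] [8, 42, 64, 72, 101, 110, 111] (by decide +kernel) (C.pNil _ _)))))
    (C.pH [8, 30, 65, 84, 94, 117] [6, 35, 54, 84, 105, 109, 120] (by decide +kernel)
    (C.pT (f5200 C)
    (C.pH [26, 38, 54, 89, 90, 113] [23, 29, 64, 78, 107, 111] (by decide +kernel) (C.pNil _ _))))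
    (C.loop_of_one (relLoop1 C) _ _)

theorem f5202 : C.T (v16 C) [22, 30, 51, 85, 97, 110, 118] (v17 C) [8, 42, 64, 72, 101, 110, 111] :=
  C.flip (f5201 C)

theorem f5203 : C.T (v9 C) [6, 36, 50, 89, 92, 120] (v5 C) [23, 31, 56, 74, 106, 110, 111] :=
  C.conv (f2016 C) (f1657 C) (f1657 C) _ [130, 152, 169, 176, 178] _ (by decide +kernel) (by decide +kernel) (by decide +kernel)

theorem f5204 : C.S (v5 C) [7, 29, 66, 74, 106, 124] :=
  C.stMul (f1141 C) (f986 C) _ (by decide +kernel)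

theorem f5205 : C.S (v5 C) [24, 39, 60, 76, 105, 109, 124] :=
  C.stMul (f1023 C) (f5204 C) _ (by decide +kernel)

theorem f5206 : C.S (v5 C) [11, 40, 57, 81, 102, 125] :=
  C.stMul (f986 C) (f5205 C) _ (by decide +kernel)

theorem f5207 : C.T (v5 C) [10, 40, 69, 84, 100] (v4 C) [19, 29, 58, 88, 94, 125] :=
  C.conv (f1043 C) (f1023 C) (f5206 C) _ [141, 156, 164, 175, 178] _ (by decide +kernel) (by decide +kernel) (by decide +kernel)

theorem f5208 : C.S (v9 C) [25, 29, 50, 71, 91, 114] :=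
  C.stMul (f1620 C) (f1624 C) _ (by decide +kernel)

theorem f5209 : C.S (v9 C) [25, 35, 61, 81, 90, 109, 114] :=
  C.stMul (f1624 C) (f5208 C) _ (by decide +kernel)

theorem f5210 : C.S (v9 C) [18, 46, 49, 70, 90, 109, 119] :=
  C.stMul (f1615 C) (f5209 C) _ (by decide +kernel)

theorem f5211 : C.T (v9 C) [21, 28, 52, 70, 90, 110, 123] (v17 C) [19, 48, 59, 82, 90, 121] :=
  C.conv (f4665 C) (f4678 C) (f5210 C) _ [136, 170, 177] _ (by decide +kernel) (by decide +kernel) (by decide +kernel)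

theorem f5212 : C.T (v17 C) [19, 48, 59, 82, 90, 121] (v9 C) [21, 28, 52, 70, 90, 110, 123] :=
  C.flip (f5211 C)

theorem f5213 : C.T (v4 C) [17, 43, 60, 83, 101, 124] (v17 C) [15, 53, 86, 106, 109, 115] :=
  C.closeT (p := (v9 C)) (pu := [6, 36, 50, 89, 92, 120])
    (C.pT (f5203 C)
    (C.pH [8, 30, 65, 84, 94, 117] [10, 40, 69, 84, 100] (by decide +kernel)
    (C.pT (f5207 C)
    (C.pH [26, 38, 54, 89, 90, 113] [17, 43, 60, 83, 101, 124] (by decide +kernel) (C.pNil _ _)))))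
    (C.pH [8, 30, 65, 84, 94, 117] [19, 48, 59, 82, 90, 121] (by decide +kernel)
    (C.pT (f5212 C)
    (C.pH [26, 38, 54, 89, 90, 113] [6, 36, 50, 89, 92, 120] (by decide +kernel) (C.pNil _ _))))
    (C.loop_of_one (relLoop1 C) _ _)

theorem f5214 : C.T (v17 C) [15, 53, 86, 106, 109, 115] (v4 C) [17, 43, 60, 83, 101, 124] :=
  C.flip (f5213 C)

theorem f5215 : C.T (v9 C) [21, 41, 60, 89, 92, 110, 112] (v9 C) [13, 32, 54, 82, 99, 110, 116] :=
  C.conv (f2022 C) (f2024 C) (f2024 C) _ [129, 156, 167, 174] _ (by decide +kernel) (by decide +kernel) (by decide +kernel)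

theorem f5216 : C.S (v9 C) [25, 33, 55, 71, 105, 109, 125] :=
  C.stMul (f1607 C) (f5032 C) _ (by decide +kernel)

theorem f5217 : C.T (v9 C) [11, 33, 66, 88, 97, 110, 123] (v17 C) [19, 47, 60, 78, 91, 109, 113] :=
  C.conv (f4665 C) (f4678 C) (f5216 C) _ [148, 160, 167, 176, 177] _ (by decide +kernel) (by decide +kernel) (by decide +kernel)

theorem f5218 : C.S (v9 C) [10, 69, 81, 100, 113] :=
  C.stMul (f1615 C) (f1610 C) _ (by decide +kernel)

theorem f5219 : C.T (v9 C) [10, 34, 62, 75, 98, 115] (v15 C) [25, 45, 69, 77, 90, 109] :=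
  C.conv (f3051 C) (f3058 C) (f5218 C) _ [144, 154, 164, 173] _ (by decide +kernel) (by decide +kernel) (by decide +kernel)

theorem f5220 : C.T (v15 C) [25, 45, 69, 77, 90, 109] (v9 C) [10, 34, 62, 75, 98, 115] :=
  C.flip (f5219 C)

theorem f5221 : C.T (v17 C) [17, 45, 56, 85, 91, 109, 122] (v15 C) [4, 44, 63, 87, 108, 109, 123] :=
  C.closeT (p := (v9 C)) (pu := [21, 41, 60, 89, 92, 110, 112])
    (C.pT (f5215 C)
    (C.pH [8, 30, 65, 84, 94, 117] [11, 33, 66, 88, 97, 110, 123] (by decide +kernel)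
    (C.pT (f5217 C)
    (C.pH [26, 38, 54, 89, 90, 113] [17, 45, 56, 85, 91, 109, 122] (by decide +kernel) (C.pNil _ _)))))
    (C.pH [8, 30, 65, 84, 94, 117] [25, 45, 69, 77, 90, 109] (by decide +kernel)
    (C.pT (f5220 C)
    (C.pH [26, 38, 54, 89, 90, 113] [21, 41, 60, 89, 92, 110, 112] (by decide +kernel) (C.pNil _ _))))
    (C.loop_of_one (relLoop1 C) _ _)

theorem f5222 : C.T (v15 C) [4, 44, 63, 87, 108, 109, 123] (v17 C) [17, 45, 56, 85, 91, 109, 122] :=
  C.flip (f5221 C)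

theorem f5223 : C.T (v9 C) [15, 33, 58, 80, 119] (v9 C) [14, 28, 69, 71, 94, 110, 118] :=
  C.conv (f2022 C) (f2024 C) (f2024 C) _ [143, 161, 169, 176, 177] _ (by decide +kernel) (by decide +kernel) (by decide +kernel)

theorem f5224 : C.S (v9 C) [4, 28, 57, 77, 98, 109, 116] :=
  C.stMul (f1624 C) (f5098 C) _ (by decide +kernel)

theorem f5225 : C.T (v9 C) [5, 33, 62, 86, 99, 110, 114] (v17 C) [24, 50, 70, 97, 110, 125] :=
  C.conv (f4863 C) (f4877 C) (f5224 C) _ [128, 152, 164, 171, 177] _ (by decide +kernel) (by decide +kernel) (by decide +kernel)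

theorem f5226 : C.S (v9 C) [47, 79, 100, 110, 114] :=
  C.stMul (f1620 C) (f1615 C) _ (by decide +kernel)

theorem f5227 : C.S (v9 C) [13, 40, 59, 82, 99, 110, 111] :=
  C.stMul (f1615 C) (f5226 C) _ (by decide +kernel)

theorem f5228 : C.T (v9 C) [20, 42, 65, 83, 92, 109, 124] (v17 C) [9, 43, 67, 77, 100, 110, 123] :=
  C.conv (f4863 C) (f4877 C) (f5227 C) _ [132, 149, 170] _ (by decide +kernel) (by decide +kernel) (by decide +kernel)

theorem f5229 : C.T (v17 C) [9, 43, 67, 77, 100, 110, 123] (v9 C) [20, 42, 65, 83, 92, 109, 124] :=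
  C.flip (f5228 C)

theorem f5230 : C.T (v17 C) [12, 39, 63, 72, 99, 111] (v17 C) [25, 48, 66, 74, 105, 125] :=
  C.closeT (p := (v9 C)) (pu := [15, 33, 58, 80, 119])
    (C.pT (f5223 C)
    (C.pH [8, 30, 65, 84, 94, 117] [5, 33, 62, 86, 99, 110, 114] (by decide +kernel)
    (C.pT (f5225 C)
    (C.pH [26, 38, 54, 89, 90, 113] [12, 39, 63, 72, 99, 111] (by decide +kernel) (C.pNil _ _)))))
    (C.pH [8, 30, 65, 84, 94, 117] [9, 43, 67, 77, 100, 110, 123] (by decide +kernel)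
    (C.pT (f5229 C)
    (C.pH [26, 38, 54, 89, 90, 113] [15, 33, 58, 80, 119] (by decide +kernel) (C.pNil _ _))))
    (C.loop_of_one (relLoop1 C) _ _)

theorem f5234 : C.T (v9 C) [20, 45, 65, 84, 92, 114] (v9 C) [12, 38, 68, 83, 110, 112] :=
  C.conv (f2022 C) (f2024 C) (f2024 C) _ [128, 160, 168, 175] _ (by decide +kernel) (by decide +kernel) (by decide +kernel)

theorem f5235 : C.S (v9 C) [47, 79, 100, 110, 114] :=
  C.stMul (f1620 C) (f1615 C) _ (by decide +kernel)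

theorem f5236 : C.S (v9 C) [23, 38, 55, 89, 107, 110, 122] :=
  C.stMul (f1624 C) (f5235 C) _ (by decide +kernel)

theorem f5237 : C.T (v9 C) [21, 34, 68, 110, 111] (v15 C) [4, 67, 77, 99, 116] :=
  C.conv (f3051 C) (f3058 C) (f5236 C) _ [142, 150, 170, 172] _ (by decide +kernel) (by decide +kernel) (by decide +kernel)

theorem f5238 : C.S (v9 C) [6, 46, 57, 83, 110, 112] :=
  C.stMul (f1607 C) (f4677 C) _ (by decide +kernel)

theorem f5239 : C.T (v9 C) [17, 37, 63, 70, 93, 120] (v17 C) [16, 30, 68, 77, 96, 117] :=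
  C.conv (f4665 C) (f4678 C) (f5238 C) _ [137, 152, 172, 177] _ (by decide +kernel) (by decide +kernel) (by decide +kernel)

theorem f5240 : C.T (v17 C) [16, 30, 68, 77, 96, 117] (v9 C) [17, 37, 63, 70, 93, 120] :=
  C.flip (f5239 C)

theorem f5241 : C.T (v15 C) [25, 28, 50, 74, 103, 109, 111] (v17 C) [24, 33, 60, 75, 99, 117] :=
  C.closeT (p := (v9 C)) (pu := [20, 45, 65, 84, 92, 114])
    (C.pT (f5234 C)
    (C.pH [8, 30, 65, 84, 94, 117] [21, 34, 68, 110, 111] (by decide +kernel)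
    (C.pT (f5237 C)
    (C.pH [26, 38, 54, 89, 90, 113] [25, 28, 50, 74, 103, 109, 111] (by decide +kernel) (C.pNil _ _)))))
    (C.pH [8, 30, 65, 84, 94, 117] [16, 30, 68, 77, 96, 117] (by decide +kernel)
    (C.pT (f5240 C)
    (C.pH [26, 38, 54, 89, 90, 113] [20, 45, 65, 84, 92, 114] (by decide +kernel) (C.pNil _ _))))
    (C.loop_of_one (relLoop1 C) _ _)

theorem f5242 : C.T (v17 C) [24, 33, 60, 75, 99, 117] (v15 C) [25, 28, 50, 74, 103, 109, 111] :=
  C.flip (f5241 C)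

theorem f5243 : C.T (v9 C) [12, 32, 63, 87, 99, 110, 123] (v9 C) [7, 46, 63, 84, 107, 110, 123] :=
  C.conv (f2022 C) (f2024 C) (f2024 C) _ [127, 163, 165, 176, 177] _ (by decide +kernel) (by decide +kernel) (by decide +kernel)

theorem f5244 : C.S (v9 C) [21, 32, 63, 85, 106, 110, 120] :=
  C.stMul (f1624 C) (f1620 C) _ (by decide +kernel)

theorem f5245 : C.S (v9 C) [12, 29, 63, 103, 119] :=
  C.stMul (f1620 C) (f5244 C) _ (by decide +kernel)

theorem f5246 : C.T (v9 C) [17, 30, 61, 93, 113] (v17 C) [27, 69, 74, 94, 110, 112] :=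
  C.conv (f4409 C) (f4762 C) (f5245 C) _ [136, 157] _ (by decide +kernel) (by decide +kernel) (by decide +kernel)

theorem f5247 : C.S (v9 C) [4, 28, 59, 71, 101, 109, 111] :=
  C.stMul (f1624 C) (f5003 C) _ (by decide +kernel)

theorem f5248 : C.S (v9 C) [18, 35, 66, 89, 103, 113] :=
  C.stMul (f1620 C) (f5247 C) _ (by decide +kernel)

theorem f5249 : C.T (v9 C) [24, 36, 70, 90, 117] (v17 C) [10, 47, 85, 102, 119] :=
  C.conv (f4377 C) (f4755 C) (f5248 C) _ [128, 170, 171, 177] _ (by decide +kernel) (by decide +kernel) (by decide +kernel)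

theorem f5250 : C.T (v17 C) [10, 47, 85, 102, 119] (v9 C) [24, 36, 70, 90, 117] :=
  C.flip (f5249 C)

theorem f5251 : C.T (v17 C) [26, 33, 66, 78, 97, 109, 123] (v17 C) [23, 47, 50, 78, 96, 110, 124] :=
  C.closeT (p := (v9 C)) (pu := [12, 32, 63, 87, 99, 110, 123])
    (C.pT (f5243 C)
    (C.pH [8, 30, 65, 84, 94, 117] [17, 30, 61, 93, 113] (by decide +kernel)
    (C.pT (f5246 C)
    (C.pH [26, 38, 54, 89, 90, 113] [26, 33, 66, 78, 97, 109, 123] (by decide +kernel) (C.pNil _ _)))))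
    (C.pH [8, 30, 65, 84, 94, 117] [10, 47, 85, 102, 119] (by decide +kernel)
    (C.pT (f5250 C)
    (C.pH [26, 38, 54, 89, 90, 113] [12, 32, 63, 87, 99, 110, 123] (by decide +kernel) (C.pNil _ _))))
    (C.loop_of_one (relLoop1 C) _ _)

theorem f5252 : C.T (v17 C) [23, 47, 50, 78, 96, 110, 124] (v17 C) [26, 33, 66, 78, 97, 109, 123] :=
  C.flip (f5251 C)

theorem f5253 : C.T (v9 C) [5, 41, 55, 81, 107, 109, 124] (v4 C) [12, 28, 68, 83, 105, 110, 124] :=
  C.conv (f2043 C) (f2531 C) (f2531 C) _ [144, 162, 170, 175, 177] _ (by decide +kernel) (by decide +kernel) (by decide +kernel)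

theorem f5254 : C.T (v4 C) [21, 36, 53, 81, 108, 109, 121] (v5 C) [19, 45, 58, 100, 109, 122] :=
  C.conv (f1044 C) (f1279 C) (f1295 C) _ [145, 163, 166] _ (by decide +kernel) (by decide +kernel) (by decide +kernel)

theorem f5255 : C.S (v5 C) [20, 35, 58, 88, 120] :=
  C.stMul (f1023 C) (f1008 C) _ (by decide +kernel)

theorem f5256 : C.S (v5 C) [10, 44, 68, 76, 97, 110, 125] :=
  C.stMul (f1023 C) (f5255 C) _ (by decide +kernel)

theorem f5257 : C.S (v5 C) [13, 35, 69, 89, 94, 109, 112] :=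
  C.stMul (f1023 C) (f986 C) _ (by decide +kernel)

theorem f5258 : C.S (v5 C) [13, 40, 57, 80, 101, 109, 113] :=
  C.stMul (f1008 C) (f5257 C) _ (by decide +kernel)

theorem f5259 : C.S (v5 C) [7, 37, 54, 76, 108, 117] :=
  C.stMul (f1023 C) (f5258 C) _ (by decide +kernel)

theorem f5260 : C.T (v5 C) [17, 32, 53, 87, 94, 110, 122] (v17 C) [20, 43, 53, 75, 104, 109, 123] :=
  C.conv (f5175 C) (f5256 C) (f5259 C) _ [126, 157, 165, 173] _ (by decide +kernel) (by decide +kernel) (by decide +kernel)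

theorem f5261 : C.T (v17 C) [23, 44, 52, 71, 104, 110, 112] (v9 C) [14, 36, 63, 70, 107, 116] :=
  C.closeT (p := (v9 C)) (pu := [5, 41, 55, 81, 107, 109, 124])
    (C.pT (f5253 C)
    (C.pH [8, 30, 65, 84, 94, 117] [21, 36, 53, 81, 108, 109, 121] (by decide +kernel)
    (C.pT (f5254 C)
    (C.pH [26, 38, 54, 89, 90, 113] [17, 32, 53, 87, 94, 110, 122] (by decide +kernel)
    (C.pT (f5260 C)
    (C.pH [8, 30, 65, 84, 94, 117] [23, 44, 52, 71, 104, 110, 112] (by decide +kernel) (C.pNil _ _)))))))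
    (C.pH [26, 38, 54, 89, 90, 113] [5, 41, 55, 81, 107, 109, 124] (by decide +kernel) (C.pNil _ _))
    (C.loop_of_one (relLoop1 C) _ _)

theorem f5262 : C.T (v9 C) [14, 36, 63, 70, 107, 116] (v17 C) [23, 44, 52, 71, 104, 110, 112] :=
  C.flip (f5261 C)

theorem f5263 : C.T (v9 C) [14, 42, 59, 85, 96, 109, 119] (v9 C) [26, 27, 66, 76, 102, 123] :=
  C.conv (f2051 C) (f2054 C) (f2054 C) _ [141, 166, 177] _ (by decide +kernel) (by decide +kernel) (by decide +kernel)

theorem f5264 : C.S (v9 C) [4, 48, 53, 80, 99, 115] :=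
  C.stMul (f1615 C) (f1624 C) _ (by decide +kernel)

theorem f5265 : C.S (v9 C) [18, 29, 52, 87, 96, 125] :=
  C.stMul (f1620 C) (f5264 C) _ (by decide +kernel)

theorem f5266 : C.S (v9 C) [12, 33, 57, 77, 98, 119] :=
  C.stMul (f1624 C) (f5265 C) _ (by decide +kernel)

theorem f5267 : C.T (v9 C) [14, 29, 54, 71, 104, 109, 123] (v17 C) [5, 29, 50, 83, 107, 124] :=
  C.conv (f4247 C) (f1624 C) (f5266 C) _ [132, 150, 169, 172, 178] _ (by decide +kernel) (by decide +kernel) (by decide +kernel)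

theorem f5268 : C.S (v9 C) [10, 47, 79, 100, 110, 114] :=
  C.stMul (f1620 C) (f1607 C) _ (by decide +kernel)

theorem f5269 : C.S (v9 C) [21, 32, 51, 87, 95, 109, 111] :=
  C.stMul (f1624 C) (f5268 C) _ (by decide +kernel)

theorem f5270 : C.S (v9 C) [22, 47, 59, 89, 108, 110, 111] :=
  C.stMul (f1615 C) (f5269 C) _ (by decide +kernel)

theorem f5271 : C.S (v9 C) [22, 48, 68, 83, 104, 125] :=
  C.stMul (f1624 C) (f1610 C) _ (by decide +kernel)

theorem f5272 : C.S (v9 C) [6, 35, 59, 84, 106, 110, 112] :=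
  C.stMul (f1620 C) (f5271 C) _ (by decide +kernel)

theorem f5273 : C.S (v9 C) [25, 33, 55, 71, 105, 109, 125] :=
  C.stMul (f1607 C) (f5272 C) _ (by decide +kernel)

theorem f5274 : C.T (v9 C) [12, 31, 67, 72, 93, 114] (v17 C) [14, 45, 69, 72, 91, 125] :=
  C.conv (f5262 C) (f5270 C) (f5273 C) _ [127, 154, 167, 172, 178] _ (by decide +kernel) (by decide +kernel) (by decide +kernel)

theorem f5275 : C.T (v17 C) [14, 45, 69, 72, 91, 125] (v9 C) [12, 31, 67, 72, 93, 114] :=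
  C.flip (f5274 C)

theorem f5276 : C.T (v17 C) [8, 36, 64, 74, 103, 110] (v17 C) [26, 34, 68, 100] :=
  C.closeT (p := (v9 C)) (pu := [14, 42, 59, 85, 96, 109, 119])
    (C.pT (f5263 C)
    (C.pH [8, 30, 65, 84, 94, 117] [14, 29, 54, 71, 104, 109, 123] (by decide +kernel)
    (C.pT (f5267 C)
    (C.pH [26, 38, 54, 89, 90, 113] [8, 36, 64, 74, 103, 110] (by decide +kernel) (C.pNil _ _)))))
    (C.pH [8, 30, 65, 84, 94, 117] [14, 45, 69, 72, 91, 125] (by decide +kernel)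
    (C.pT (f5275 C)
    (C.pH [26, 38, 54, 89, 90, 113] [14, 42, 59, 85, 96, 109, 119] (by decide +kernel) (C.pNil _ _))))
    (C.loop_of_one (relLoop1 C) _ _)

theorem f5277 : C.T (v17 C) [26, 34, 68, 100] (v17 C) [8, 36, 64, 74, 103, 110] :=
  C.flip (f5276 C)

theorem f5278 : C.T (v9 C) [6, 53, 81, 104, 110, 115] (v9 C) [24, 45, 62, 70, 108, 110, 119] :=
  C.conv (f2051 C) (f2054 C) (f2054 C) _ [143, 151, 170, 172] _ (by decide +kernel) (by decide +kernel) (by decide +kernel)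

theorem f5279 : C.S (v9 C) [10, 47, 79, 100, 110, 114] :=
  C.stMul (f1620 C) (f1607 C) _ (by decide +kernel)

theorem f5280 : C.S (v9 C) [10, 28, 52, 73, 91, 110, 119] :=
  C.stMul (f1607 C) (f5279 C) _ (by decide +kernel)

theorem f5281 : C.S (v9 C) [11, 44, 56, 75, 90, 109, 118] :=
  C.stMul (f1620 C) (f5280 C) _ (by decide +kernel)

theorem f5282 : C.S (v9 C) [22, 30, 60, 88, 92, 110, 119] :=
  C.stMul (f1624 C) (f5281 C) _ (by decide +kernel)

theorem f5283 : C.T (v9 C) [16, 31, 53, 75, 94, 110, 122] (v17 C) [35, 68, 83, 106, 110, 118] :=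
  C.conv (f4665 C) (f4678 C) (f5282 C) _ [142, 152, 169, 171, 178] _ (by decide +kernel) (by decide +kernel) (by decide +kernel)

theorem f5284 : C.T (v9 C) [21, 29, 52, 96, 119] (v17 C) [17, 31, 56, 87, 106, 116] :=
  C.conv (f4863 C) (f4877 C) (f5097 C) _ [141, 157, 170, 171, 177] _ (by decide +kernel) (by decide +kernel) (by decide +kernel)

theorem f5285 : C.T (v17 C) [17, 31, 56, 87, 106, 116] (v9 C) [21, 29, 52, 96, 119] :=
  C.flip (f5284 C)

theorem f5286 : C.T (v17 C) [26, 47, 69, 88, 108, 110, 121] (v17 C) [7, 32, 55, 87, 106, 110, 124] :=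
  C.closeT (p := (v9 C)) (pu := [6, 53, 81, 104, 110, 115])
    (C.pT (f5278 C)
    (C.pH [8, 30, 65, 84, 94, 117] [16, 31, 53, 75, 94, 110, 122] (by decide +kernel)
    (C.pT (f5283 C)
    (C.pH [26, 38, 54, 89, 90, 113] [26, 47, 69, 88, 108, 110, 121] (by decide +kernel) (C.pNil _ _)))))
    (C.pH [8, 30, 65, 84, 94, 117] [17, 31, 56, 87, 106, 116] (by decide +kernel)
    (C.pT (f5285 C)
    (C.pH [26, 38, 54, 89, 90, 113] [6, 53, 81, 104, 110, 115] (by decide +kernel) (C.pNil _ _))))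
    (C.loop_of_one (relLoop1 C) _ _)

theorem f5287 : C.T (v17 C) [7, 32, 55, 87, 106, 110, 124] (v17 C) [26, 47, 69, 88, 108, 110, 121] :=
  C.flip (f5286 C)

theorem f5288 : C.T (v9 C) [5, 46, 56, 73, 93, 117] (v9 C) [19, 30, 65, 106, 109, 119] :=
  C.conv (f2051 C) (f2054 C) (f2054 C) _ [138, 154, 166, 176, 177] _ (by decide +kernel) (by decide +kernel) (by decide +kernel)

theorem f5289 : C.S (v9 C) [10, 69, 81, 100, 113] :=
  C.stMul (f1615 C) (f1610 C) _ (by decide +kernel)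

theorem f5290 : C.S (v9 C) [21, 37, 62, 82, 103] :=
  C.stMul (f1624 C) (f5289 C) _ (by decide +kernel)

theorem f5291 : C.T (v9 C) [26, 53, 78, 92, 117] (v17 C) [40, 51, 78, 112] :=
  C.conv (f4225 C) (f4411 C) (f5290 C) _ [129, 150, 169, 171, 177] _ (by decide +kernel) (by decide +kernel) (by decide +kernel)

theorem f5292 : C.S (v17 C) [23, 31, 49, 84, 96, 117] :=
  C.stMul (f4137 C) (f4137 C) _ (by decide +kernel)

theorem f5293 : C.T (v17 C) [26, 40, 53, 72, 99, 122] (v17 C) [7, 44, 72, 94, 110, 123] :=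
  C.conv (f4928 C) (f5292 C) (f5292 C) _ [138, 162, 164, 173] _ (by decide +kernel) (by decide +kernel) (by decide +kernel)

theorem f5294 : C.T (v17 C) [17, 36, 55, 80, 100, 109, 112] (v9 C) [14, 44, 75, 93, 115] :=
  C.closeT (p := (v9 C)) (pu := [5, 46, 56, 73, 93, 117])
    (C.pT (f5288 C)
    (C.pH [8, 30, 65, 84, 94, 117] [26, 53, 78, 92, 117] (by decide +kernel)
    (C.pT (f5291 C)
    (C.pH [26, 38, 54, 89, 90, 113] [26, 40, 53, 72, 99, 122] (by decide +kernel)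
    (C.pT (f5293 C)
    (C.pH [8, 30, 65, 84, 94, 117] [17, 36, 55, 80, 100, 109, 112] (by decide +kernel) (C.pNil _ _)))))))
    (C.pH [26, 38, 54, 89, 90, 113] [5, 46, 56, 73, 93, 117] (by decide +kernel) (C.pNil _ _))
    (C.loop_of_one (relLoop1 C) _ _)

theorem f5295 : C.T (v9 C) [14, 44, 75, 93, 115] (v17 C) [17, 36, 55, 80, 100, 109, 112] :=
  C.flip (f5294 C)

theorem f5296 : C.T (v9 C) [4, 38, 54, 81, 104, 110, 115] (v9 C) [13, 48, 50, 87, 92, 124] :=
  C.conv (f2051 C) (f2054 C) (f2054 C) _ [147, 152, 165, 172, 178] _ (by decide +kernel) (by decide +kernel) (by decide +kernel)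

theorem f5297 : C.S (v9 C) [25, 29, 50, 71, 91, 114] :=
  C.stMul (f1620 C) (f1624 C) _ (by decide +kernel)

theorem f5298 : C.S (v9 C) [6, 46, 51, 82, 96, 109, 111] :=
  C.stMul (f1607 C) (f5297 C) _ (by decide +kernel)

theorem f5299 : C.S (v9 C) [11, 45, 66, 71, 92, 109, 125] :=
  C.stMul (f1610 C) (f1607 C) _ (by decide +kernel)

theorem f5300 : C.S (v9 C) [13, 48, 69, 83, 106, 116] :=
  C.stMul (f1620 C) (f5299 C) _ (by decide +kernel)

theorem f5301 : C.T (v9 C) [11, 45, 73, 104, 110, 125] (v17 C) [10, 34, 60, 87, 98, 109, 121] :=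
  C.conv (f5295 C) (f5298 C) (f5300 C) _ [127, 150, 175, 177] _ (by decide +kernel) (by decide +kernel) (by decide +kernel)

theorem f5302 : C.S (v9 C) [47, 79, 100, 110, 114] :=
  C.stMul (f1620 C) (f1615 C) _ (by decide +kernel)

theorem f5303 : C.S (v9 C) [28, 52, 73, 91, 110, 119] :=
  C.stMul (f1607 C) (f5302 C) _ (by decide +kernel)

theorem f5304 : C.T (v9 C) [6, 30, 69, 82, 110, 118] (v17 C) [6, 48, 50, 88, 102, 110, 114] :=
  C.conv (f5295 C) (f5298 C) (f5303 C) _ [134, 155, 175, 177] _ (by decide +kernel) (by decide +kernel) (by decide +kernel)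

theorem f5305 : C.T (v17 C) [6, 48, 50, 88, 102, 110, 114] (v9 C) [6, 30, 69, 82, 110, 118] :=
  C.flip (f5304 C)

theorem f5306 : C.T (v17 C) [21, 41, 66, 88, 92, 110, 111] (v17 C) [22, 33, 59, 106, 110, 114] :=
  C.closeT (p := (v9 C)) (pu := [4, 38, 54, 81, 104, 110, 115])
    (C.pT (f5296 C)
    (C.pH [8, 30, 65, 84, 94, 117] [11, 45, 73, 104, 110, 125] (by decide +kernel)
    (C.pT (f5301 C)
    (C.pH [26, 38, 54, 89, 90, 113] [21, 41, 66, 88, 92, 110, 111] (by decide +kernel) (C.pNil _ _)))))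
    (C.pH [8, 30, 65, 84, 94, 117] [6, 48, 50, 88, 102, 110, 114] (by decide +kernel)
    (C.pT (f5305 C)
    (C.pH [26, 38, 54, 89, 90, 113] [4, 38, 54, 81, 104, 110, 115] (by decide +kernel) (C.pNil _ _))))
    (C.loop_of_one (relLoop1 C) _ _)

theorem f5308 : C.S (v17 C) [51, 81, 96, 109, 125] :=
  C.stMul (f4132 C) (f4137 C) _ (by decide +kernel)

theorem f5310 : C.T (v9 C) [18, 32, 53, 87, 106, 120] (v9 C) [23, 27, 57, 77, 95, 109, 115] :=
  C.conv (f2064 C) (f2066 C) (f2066 C) _ [139, 166, 175, 178] _ (by decide +kernel) (by decide +kernel) (by decide +kernel)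

theorem f5311 : C.T (v9 C) [10, 48, 65, 78, 102, 113] (v17 C) [14, 38, 64, 73, 96, 109, 124] :=
  C.conv (f4665 C) (f4678 C) (f1607 C) _ [141, 158, 164, 174] _ (by decide +kernel) (by decide +kernel) (by decide +kernel)

theorem f5312 : C.S (v9 C) [21, 32, 63, 85, 106, 110, 120] :=
  C.stMul (f1624 C) (f1620 C) _ (by decide +kernel)

theorem f5313 : C.S (v9 C) [12, 29, 63, 103, 119] :=
  C.stMul (f1620 C) (f5312 C) _ (by decide +kernel)

theorem f5314 : C.S (v9 C) [11, 40, 56, 79, 103, 109, 114] :=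
  C.stMul (f1615 C) (f1620 C) _ (by decide +kernel)

theorem f5315 : C.S (v9 C) [13, 44, 50, 87, 101, 113] :=
  C.stMul (f1620 C) (f5314 C) _ (by decide +kernel)

theorem f5316 : C.T (v9 C) [25, 42, 50, 81, 102, 109, 120] (v17 C) [7, 47, 67, 86, 105, 124] :=
  C.conv (f5160 C) (f5313 C) (f5315 C) _ [131, 150, 166, 173, 178] _ (by decide +kernel) (by decide +kernel) (by decide +kernel)

theorem f5317 : C.T (v17 C) [7, 47, 67, 86, 105, 124] (v9 C) [25, 42, 50, 81, 102, 109, 120] :=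
  C.flip (f5316 C)

theorem f5318 : C.T (v17 C) [5, 32, 84, 96, 116] (v17 C) [11, 37, 53, 72, 96, 109, 123] :=
  C.closeT (p := (v9 C)) (pu := [18, 32, 53, 87, 106, 120])
    (C.pT (f5310 C)
    (C.pH [8, 30, 65, 84, 94, 117] [10, 48, 65, 78, 102, 113] (by decide +kernel)
    (C.pT (f5311 C)
    (C.pH [26, 38, 54, 89, 90, 113] [5, 32, 84, 96, 116] (by decide +kernel) (C.pNil _ _)))))
    (C.pH [8, 30, 65, 84, 94, 117] [7, 47, 67, 86, 105, 124] (by decide +kernel)
    (C.pT (f5317 C)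
    (C.pH [26, 38, 54, 89, 90, 113] [18, 32, 53, 87, 106, 120] (by decide +kernel) (C.pNil _ _))))
    (C.loop_of_one (relLoop1 C) _ _)

theorem f5319 : C.T (v17 C) [11, 37, 53, 72, 96, 109, 123] (v17 C) [5, 32, 84, 96, 116] :=
  C.flip (f5318 C)

theorem f5320 : C.T (v9 C) [8, 46, 69, 71, 107, 116] (v9 C) [14, 34, 69, 85, 100, 109, 123] :=
  C.conv (f2064 C) (f2066 C) (f2066 C) _ [134, 156, 164, 173, 177] _ (by decide +kernel) (by decide +kernel) (by decide +kernel)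

theorem f5321 : C.S (v9 C) [23, 32, 63, 85, 106, 110, 120] :=
  C.stMul (f1624 C) (f4879 C) _ (by decide +kernel)

theorem f5322 : C.T (v9 C) [5, 46, 56, 74, 99, 122] (v17 C) [21, 46, 55, 76, 92, 110, 125] :=
  C.conv (f4863 C) (f4877 C) (f5321 C) _ [131, 153, 166, 175, 177] _ (by decide +kernel) (by decide +kernel) (by decide +kernel)

theorem f5323 : C.S (v9 C) [10, 28, 53, 80, 101, 110, 112] :=
  C.stMul (f1607 C) (f1620 C) _ (by decide +kernel)

theorem f5324 : C.T (v9 C) [5, 46, 67, 80, 95, 116] (v17 C) [4, 47, 53, 74, 109, 115] :=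
  C.conv (f4863 C) (f4877 C) (f5323 C) _ [146, 153, 169, 171, 177] _ (by decide +kernel) (by decide +kernel) (by decide +kernel)

theorem f5325 : C.T (v17 C) [4, 47, 53, 74, 109, 115] (v9 C) [5, 46, 67, 80, 95, 116] :=
  C.flip (f5324 C)

theorem f5326 : C.T (v17 C) [6, 37, 65, 89, 97, 109, 122] (v17 C) [18, 63, 71, 94, 124] :=
  C.closeT (p := (v9 C)) (pu := [8, 46, 69, 71, 107, 116])
    (C.pT (f5320 C)
    (C.pH [8, 30, 65, 84, 94, 117] [5, 46, 56, 74, 99, 122] (by decide +kernel)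
    (C.pT (f5322 C)
    (C.pH [26, 38, 54, 89, 90, 113] [6, 37, 65, 89, 97, 109, 122] (by decide +kernel) (C.pNil _ _)))))
    (C.pH [8, 30, 65, 84, 94, 117] [4, 47, 53, 74, 109, 115] (by decide +kernel)
    (C.pT (f5325 C)
    (C.pH [26, 38, 54, 89, 90, 113] [8, 46, 69, 71, 107, 116] (by decide +kernel) (C.pNil _ _))))
    (C.loop_of_one (relLoop1 C) _ _)

theorem f5328 : C.S (v17 C) [51, 81, 96, 109, 125] :=
  C.stMul (f4132 C) (f4137 C) _ (by decide +kernel)

theorem f5330 : C.T (v9 C) [15, 43, 54, 80, 90, 110, 123] (v9 C) [6, 29, 65, 76, 100, 110, 113] :=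
  C.conv (f2087 C) (f1615 C) (f1615 C) _ [143, 160, 166, 175, 178] _ (by decide +kernel) (by decide +kernel) (by decide +kernel)

theorem f5331 : C.S (v9 C) [10, 28, 52, 73, 91, 110, 119] :=
  C.stMul (f1607 C) (f5268 C) _ (by decide +kernel)

theorem f5332 : C.T (v9 C) [13, 28, 55, 89, 107, 119] (v17 C) [15, 31, 57, 79, 92, 109, 112] :=
  C.conv (f5262 C) (f5270 C) (f5331 C) _ [138, 151, 170, 175] _ (by decide +kernel) (by decide +kernel) (by decide +kernel)

theorem f5333 : C.S (v9 C) [4, 48, 68, 83, 104, 125] :=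
  C.stMul (f1624 C) (f1615 C) _ (by decide +kernel)

theorem f5334 : C.S (v9 C) [18, 29, 50, 71, 91, 114] :=
  C.stMul (f1620 C) (f5333 C) _ (by decide +kernel)

theorem f5335 : C.S (v9 C) [12, 33, 53, 81, 108, 124] :=
  C.stMul (f1624 C) (f5334 C) _ (by decide +kernel)

theorem f5336 : C.T (v9 C) [20, 29, 53, 78, 104, 109] (v17 C) [8, 32, 64, 84, 106, 109] :=
  C.conv (f4247 C) (f1624 C) (f5335 C) _ [132, 152, 170, 172, 178] _ (by decide +kernel) (by decide +kernel) (by decide +kernel)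

theorem f5337 : C.T (v17 C) [8, 32, 64, 84, 106, 109] (v9 C) [20, 29, 53, 78, 104, 109] :=
  C.flip (f5336 C)

theorem f5338 : C.T (v17 C) [9, 32, 66, 89, 96, 117] (v17 C) [41, 53, 70, 93, 109, 117] :=
  C.closeT (p := (v9 C)) (pu := [15, 43, 54, 80, 90, 110, 123])
    (C.pT (f5330 C)
    (C.pH [8, 30, 65, 84, 94, 117] [13, 28, 55, 89, 107, 119] (by decide +kernel)
    (C.pT (f5332 C)
    (C.pH [26, 38, 54, 89, 90, 113] [9, 32, 66, 89, 96, 117] (by decide +kernel) (C.pNil _ _)))))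
    (C.pH [8, 30, 65, 84, 94, 117] [8, 32, 64, 84, 106, 109] (by decide +kernel)
    (C.pT (f5337 C)
    (C.pH [26, 38, 54, 89, 90, 113] [15, 43, 54, 80, 90, 110, 123] (by decide +kernel) (C.pNil _ _))))
    (C.loop_of_one (relLoop1 C) _ _)

theorem f5339 : C.T (v17 C) [41, 53, 70, 93, 109, 117] (v17 C) [9, 32, 66, 89, 96, 117] :=
  C.flip (f5338 C)

theorem f5340 : C.T (v9 C) [22, 42, 59, 84, 99, 109] (v9 C) [19, 46, 55, 106, 110, 111] :=
  C.conv (f2087 C) (f1615 C) (f1615 C) _ [137, 160, 168, 174] _ (by decide +kernel) (by decide +kernel) (by decide +kernel)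

theorem f5341 : C.T (v9 C) [26, 45, 68, 78, 105, 124] (v17 C) [45, 64, 79, 103, 109] :=
  C.conv (f5262 C) (f5270 C) (f5272 C) _ [142, 165, 176, 177] _ (by decide +kernel) (by decide +kernel) (by decide +kernel)

theorem f5342 : C.T (v9 C) [9, 67, 88, 110, 117] (v9 C) [13, 43, 67, 70, 117] :=
  C.conv (f2087 C) (f1615 C) (f1610 C) _ [146, 156, 164, 176, 178] _ (by decide +kernel) (by decide +kernel) (by decide +kernel)

theorem f5343 : C.T (v9 C) [13, 43, 67, 70, 117] (v9 C) [9, 67, 88, 110, 117] :=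
  C.flip (f5342 C)

theorem f5344 : C.T (v17 C) [26, 57, 73, 92, 109, 123] (v9 C) [6, 40, 67, 83, 98, 109, 124] :=
  C.closeT (p := (v9 C)) (pu := [22, 42, 59, 84, 99, 109])
    (C.pT (f5340 C)
    (C.pH [8, 30, 65, 84, 94, 117] [26, 45, 68, 78, 105, 124] (by decide +kernel)
    (C.pT (f5341 C)
    (C.pH [26, 38, 54, 89, 90, 113] [26, 57, 73, 92, 109, 123] (by decide +kernel) (C.pNil _ _)))))
    (C.pH [8, 30, 65, 84, 94, 117] [13, 43, 67, 70, 117] (by decide +kernel)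
    (C.pT (f5343 C)
    (C.pH [26, 38, 54, 89, 90, 113] [22, 42, 59, 84, 99, 109] (by decide +kernel) (C.pNil _ _))))
    (C.loop_of_one (relLoop1 C) _ _)

theorem f5345 : C.T (v9 C) [6, 40, 67, 83, 98, 109, 124] (v17 C) [26, 57, 73, 92, 109, 123] :=
  C.flip (f5344 C)

theorem f5346 : C.T (v9 C) [26, 48, 49, 81, 96, 113] (v9 C) [12, 45, 49, 73, 100, 110] :=
  C.conv (f2087 C) (f1615 C) (f1615 C) _ [142, 158, 170, 172, 178] _ (by decide +kernel) (by decide +kernel) (by decide +kernel)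

theorem f5347 : C.T (v9 C) [21, 44, 51, 86, 96, 109, 113] (v4 C) [13, 33, 66, 75, 96, 109, 113] :=
  C.conv (f2043 C) (f2531 C) (f4640 C) _ [146, 160, 165, 175] _ (by decide +kernel) (by decide +kernel) (by decide +kernel)

theorem f5348 : C.T (v9 C) [46, 57, 78, 91, 110, 115] (v17 C) [18, 47, 86, 94, 110, 112] :=
  C.conv (f4863 C) (f4877 C) (f5115 C) _ [133, 154, 168, 173] _ (by decide +kernel) (by decide +kernel) (by decide +kernel)

theorem f5349 : C.T (v17 C) [18, 47, 86, 94, 110, 112] (v9 C) [46, 57, 78, 91, 110, 115] :=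
  C.flip (f5348 C)

theorem f5350 : C.T (v4 C) [23, 36, 54, 74, 102, 125] (v17 C) [9, 30, 75, 108, 109, 111] :=
  C.closeT (p := (v9 C)) (pu := [26, 48, 49, 81, 96, 113])
    (C.pT (f5346 C)
    (C.pH [8, 30, 65, 84, 94, 117] [21, 44, 51, 86, 96, 109, 113] (by decide +kernel)
    (C.pT (f5347 C)
    (C.pH [26, 38, 54, 89, 90, 113] [23, 36, 54, 74, 102, 125] (by decide +kernel) (C.pNil _ _)))))
    (C.pH [8, 30, 65, 84, 94, 117] [18, 47, 86, 94, 110, 112] (by decide +kernel)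
    (C.pT (f5349 C)
    (C.pH [26, 38, 54, 89, 90, 113] [26, 48, 49, 81, 96, 113] (by decide +kernel) (C.pNil _ _))))
    (C.loop_of_one (relLoop1 C) _ _)

theorem f5351 : C.T (v17 C) [9, 30, 75, 108, 109, 111] (v4 C) [23, 36, 54, 74, 102, 125] :=
  C.flip (f5350 C)

theorem f5352 : C.T (v9 C) [4, 42, 57, 74, 102, 109, 114] (v9 C) [5, 30, 60, 73, 99, 125] :=
  C.conv (f2087 C) (f1615 C) (f1615 C) _ [141, 158, 169, 172, 177] _ (by decide +kernel) (by decide +kernel) (by decide +kernel)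

theorem f5353 : C.S (v9 C) [21, 32, 63, 85, 106, 110, 120] :=
  C.stMul (f1624 C) (f1620 C) _ (by decide +kernel)

theorem f5354 : C.S (v9 C) [22, 47, 63, 80, 93, 112] :=
  C.stMul (f1615 C) (f5353 C) _ (by decide +kernel)

theorem f5355 : C.T (v9 C) [12, 31, 67, 78, 93, 109, 113] (v17 C) [10, 45, 58, 70, 99, 123] :=
  C.conv (f4804 C) (f4895 C) (f5354 C) _ [128, 153, 167, 175, 178] _ (by decide +kernel) (by decide +kernel) (by decide +kernel)

end CfsgLib.J4Index
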