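import Cfsg.Agent.Lib.J4Index.Facts4

/-!
# Derived equations (generated)
-/

set_option autoImplicit false
set_option maxRecDepth 100000
set_option linter.style.longLine false

namespace CfsgLib.J4Index

variable {G X : Type} [Group G] [MulAction G X] (C : Ctx G X)

theorem f5356 : C.S (v9 C) [11, 45, 66, 71, 92, 109, 125] :=
  C.stMul (f1610 C) (f1607 C) _ (by decide +kernel)

theorem f5357 : C.S (v9 C) [13, 48, 69, 83, 106, 116] :=
  C.stMul (f1620 C) (f5356 C) _ (by decide +kernel)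

theorem f5358 : C.T (v9 C) [6, 47, 69, 83, 93, 120] (v17 C) [9, 38, 63, 72, 107, 110, 123] :=
  C.conv (f4804 C) (f4895 C) (f5357 C) _ [135, 153, 165, 172, 178] _ (by decide +kernel) (by decide +kernel) (by decide +kernel)

theorem f5359 : C.T (v17 C) [9, 38, 63, 72, 107, 110, 123] (v9 C) [6, 47, 69, 83, 93, 120] :=
  C.flip (f5358 C)

theorem f5360 : C.T (v17 C) [21, 48, 56, 86, 100, 109, 125] (v17 C) [25, 27, 50, 71, 107, 109, 119] :=
  C.closeT (p := (v9 C)) (pu := [4, 42, 57, 74, 102, 109, 114])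
    (C.pT (f5352 C)
    (C.pH [8, 30, 65, 84, 94, 117] [12, 31, 67, 78, 93, 109, 113] (by decide +kernel)
    (C.pT (f5355 C)
    (C.pH [26, 38, 54, 89, 90, 113] [21, 48, 56, 86, 100, 109, 125] (by decide +kernel) (C.pNil _ _)))))
    (C.pH [8, 30, 65, 84, 94, 117] [9, 38, 63, 72, 107, 110, 123] (by decide +kernel)
    (C.pT (f5359 C)
    (C.pH [26, 38, 54, 89, 90, 113] [4, 42, 57, 74, 102, 109, 114] (by decide +kernel) (C.pNil _ _))))
    (C.loop_of_one (relLoop1 C) _ _)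

theorem f5363 : C.T (v9 C) [4, 29, 60, 85, 99, 115] (v9 C) [16, 38, 52, 89, 100, 121] :=
  C.conv (f2087 C) (f1615 C) (f1615 C) _ [141, 163, 165, 175, 178] _ (by decide +kernel) (by decide +kernel) (by decide +kernel)

theorem f5364 : C.T (v9 C) [20, 34, 63, 74, 90, 109, 111] (v17 C) [13, 48, 50, 73, 90, 110, 121] :=
  C.conv (f4665 C) (f4678 C) (f1607 C) _ [126, 153, 167, 172, 178] _ (by decide +kernel) (by decide +kernel) (by decide +kernel)

theorem f5365 : C.S (v9 C) [18, 33, 89, 94, 112] :=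
  C.stMul (f1615 C) (f4677 C) _ (by decide +kernel)

theorem f5366 : C.S (v9 C) [21, 43, 63, 80, 106, 119] :=
  C.stMul (f1620 C) (f5365 C) _ (by decide +kernel)

theorem f5367 : C.T (v9 C) [6, 39, 49, 87, 94, 109, 113] (v17 C) [9, 47, 80, 96, 109, 112] :=
  C.conv (f4665 C) (f4678 C) (f5366 C) _ [143, 150, 164, 172, 178] _ (by decide +kernel) (by decide +kernel) (by decide +kernel)

theorem f5368 : C.T (v17 C) [9, 47, 80, 96, 109, 112] (v9 C) [6, 39, 49, 87, 94, 109, 113] :=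
  C.flip (f5367 C)

theorem f5369 : C.T (v17 C) [23, 40, 59, 77, 100, 121] (v17 C) [25, 62, 80, 96, 109, 112] :=
  C.closeT (p := (v9 C)) (pu := [4, 29, 60, 85, 99, 115])
    (C.pT (f5363 C)
    (C.pH [8, 30, 65, 84, 94, 117] [20, 34, 63, 74, 90, 109, 111] (by decide +kernel)
    (C.pT (f5364 C)
    (C.pH [26, 38, 54, 89, 90, 113] [23, 40, 59, 77, 100, 121] (by decide +kernel) (C.pNil _ _)))))
    (C.pH [8, 30, 65, 84, 94, 117] [9, 47, 80, 96, 109, 112] (by decide +kernel)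
    (C.pT (f5368 C)
    (C.pH [26, 38, 54, 89, 90, 113] [4, 29, 60, 85, 99, 115] (by decide +kernel) (C.pNil _ _))))
    (C.loop_of_one (relLoop1 C) _ _)

theorem f5371 : C.S (v17 C) [51, 81, 96, 109, 125] :=
  C.stMul (f4132 C) (f4137 C) _ (by decide +kernel)

theorem f5373 : C.T (v9 C) [9, 28, 87, 104, 117] (v6 C) [16, 46, 59, 73, 95, 110, 117] :=
  C.conv (f2098 C) (f4806 C) (f4806 C) _ [141, 154, 165, 176, 178] _ (by decide +kernel) (by decide +kernel) (by decide +kernel)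

theorem f5374 : C.S (v6 C) [7, 41, 67, 76, 108, 117] :=
  C.stMul (f1307 C) (f1270 C) _ (by decide +kernel)

theorem f5375 : C.S (v6 C) [20, 32, 61, 73, 92, 110, 122] :=
  C.stMul (f1307 C) (f5374 C) _ (by decide +kernel)

theorem f5376 : C.S (v6 C) [19, 63, 80, 102, 110, 111] :=
  C.stMul (f1358 C) (f5375 C) _ (by decide +kernel)

theorem f5377 : C.T (v6 C) [20, 39, 55, 88, 92, 109, 125] (v15 C) [20, 33, 61, 83, 92, 109, 120] :=
  C.conv (f3290 C) (f3680 C) (f5376 C) _ [136, 155, 167, 171] _ (by decide +kernel) (by decide +kernel) (by decide +kernel)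

theorem f5378 : C.T (v9 C) [15, 36, 55, 84, 104, 114] (v17 C) [25, 67, 88, 99, 109] :=
  C.conv (f4863 C) (f4877 C) (f4879 C) _ [128, 161, 168, 176, 178] _ (by decide +kernel) (by decide +kernel) (by decide +kernel)

theorem f5379 : C.T (v17 C) [25, 67, 88, 99, 109] (v9 C) [15, 36, 55, 84, 104, 114] :=
  C.flip (f5378 C)

theorem f5380 : C.T (v15 C) [15, 47, 50, 78, 90, 125] (v17 C) [4, 35, 51, 72, 98, 119] :=
  C.closeT (p := (v9 C)) (pu := [9, 28, 87, 104, 117])
    (C.pT (f5373 C)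
    (C.pH [8, 30, 65, 84, 94, 117] [20, 39, 55, 88, 92, 109, 125] (by decide +kernel)
    (C.pT (f5377 C)
    (C.pH [26, 38, 54, 89, 90, 113] [15, 47, 50, 78, 90, 125] (by decide +kernel) (C.pNil _ _)))))
    (C.pH [8, 30, 65, 84, 94, 117] [25, 67, 88, 99, 109] (by decide +kernel)
    (C.pT (f5379 C)
    (C.pH [26, 38, 54, 89, 90, 113] [9, 28, 87, 104, 117] (by decide +kernel) (C.pNil _ _))))
    (C.loop_of_one (relLoop1 C) _ _)

theorem f5381 : C.T (v17 C) [4, 35, 51, 72, 98, 119] (v15 C) [15, 47, 50, 78, 90, 125] :=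
  C.flip (f5380 C)

theorem f5382 : C.T (v9 C) [42, 51, 84, 93, 117] (v6 C) [8, 35, 49, 83, 90, 125] :=
  C.conv (f2098 C) (f4806 C) (f4806 C) _ [138, 149, 170, 175, 178] _ (by decide +kernel) (by decide +kernel) (by decide +kernel)

theorem f5383 : C.S (v6 C) [15, 67, 76, 100, 118] :=
  C.stMul (f1291 C) (f1266 C) _ (by decide +kernel)

theorem f5384 : C.T (v6 C) [27, 64, 71, 93, 110, 121] (v15 C) [7, 32, 55, 83, 103, 110, 124] :=
  C.conv (f3290 C) (f3680 C) (f5383 C) _ [141, 152, 168, 172, 178] _ (by decide +kernel) (by decide +kernel) (by decide +kernel)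

theorem f5385 : C.S (v9 C) [10, 28, 52, 73, 91, 110, 119] :=
  C.stMul (f1607 C) (f4875 C) _ (by decide +kernel)

theorem f5386 : C.T (v9 C) [7, 32, 64, 87, 90, 112] (v17 C) [6, 34, 61, 88, 105, 109, 113] :=
  C.conv (f4863 C) (f4877 C) (f5385 C) _ [147, 153, 168, 172] _ (by decide +kernel) (by decide +kernel) (by decide +kernel)

theorem f5387 : C.T (v17 C) [6, 34, 61, 88, 105, 109, 113] (v9 C) [7, 32, 64, 87, 90, 112] :=
  C.flip (f5386 C)

theorem f5388 : C.T (v15 C) [42, 68, 77, 100, 110, 120] (v17 C) [22, 36, 63, 89, 105, 109, 113] :=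
  C.closeT (p := (v9 C)) (pu := [42, 51, 84, 93, 117])
    (C.pT (f5382 C)
    (C.pH [8, 30, 65, 84, 94, 117] [27, 64, 71, 93, 110, 121] (by decide +kernel)
    (C.pT (f5384 C)
    (C.pH [26, 38, 54, 89, 90, 113] [42, 68, 77, 100, 110, 120] (by decide +kernel) (C.pNil _ _)))))
    (C.pH [8, 30, 65, 84, 94, 117] [6, 34, 61, 88, 105, 109, 113] (by decide +kernel)
    (C.pT (f5387 C)
    (C.pH [26, 38, 54, 89, 90, 113] [42, 51, 84, 93, 117] (by decide +kernel) (C.pNil _ _))))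
    (C.loop_of_one (relLoop1 C) _ _)

theorem f5389 : C.T (v17 C) [22, 36, 63, 89, 105, 109, 113] (v15 C) [42, 68, 77, 100, 110, 120] :=
  C.flip (f5388 C)

theorem f5390 : C.S (v9 C) [23, 37, 55, 75, 92, 110, 123] :=
  C.stMul (f1624 C) (f1607 C) _ (by decide +kernel)

theorem f5391 : C.S (v9 C) [25, 29, 52, 87, 96, 125] :=
  C.stMul (f1620 C) (f5390 C) _ (by decide +kernel)

theorem f5392 : C.T (v9 C) [19, 44, 52, 79, 108, 109, 113] (v8 C) [22, 60, 72, 105, 124] :=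
  C.conv (f2110 C) (f5391 C) (f5391 C) _ [143, 160, 169, 172, 178] _ (by decide +kernel) (by decide +kernel) (by decide +kernel)

theorem f5393 : C.S (v8 C) [24, 55, 73, 93, 109, 123] :=
  C.stMul (f1579 C) (f4333 C) _ (by decide +kernel)

theorem f5394 : C.T (v8 C) [6, 28, 62, 71, 94, 109, 125] (v17 C) [24, 27, 65, 81, 90, 110, 118] :=
  C.conv (f4127 C) (f1598 C) (f5393 C) _ [146, 156, 169, 171, 178] _ (by decide +kernel) (by decide +kernel) (by decide +kernel)

theorem f5395 : C.S (v9 C) [11, 44, 50, 87, 101, 113] :=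
  C.stMul (f1620 C) (f5137 C) _ (by decide +kernel)

theorem f5396 : C.S (v9 C) [22, 30, 55, 82, 96, 109, 121] :=
  C.stMul (f1624 C) (f5395 C) _ (by decide +kernel)

theorem f5397 : C.T (v9 C) [22, 38, 63, 83, 100, 119] (v17 C) [13, 59, 71, 105, 110, 120] :=
  C.conv (f4665 C) (f4678 C) (f5396 C) _ [146, 153, 168, 178] _ (by decide +kernel) (by decide +kernel) (by decide +kernel)

theorem f5398 : C.T (v17 C) [13, 59, 71, 105, 110, 120] (v9 C) [22, 38, 63, 83, 100, 119] :=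
  C.flip (f5397 C)

theorem f5399 : C.T (v17 C) [12, 43, 59, 79, 93, 110, 112] (v17 C) [6, 43, 59, 78, 99, 110, 118] :=
  C.closeT (p := (v9 C)) (pu := [19, 44, 52, 79, 108, 109, 113])
    (C.pT (f5392 C)
    (C.pH [8, 30, 65, 84, 94, 117] [6, 28, 62, 71, 94, 109, 125] (by decide +kernel)
    (C.pT (f5394 C)
    (C.pH [26, 38, 54, 89, 90, 113] [12, 43, 59, 79, 93, 110, 112] (by decide +kernel) (C.pNil _ _)))))
    (C.pH [8, 30, 65, 84, 94, 117] [13, 59, 71, 105, 110, 120] (by decide +kernel)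
    (C.pT (f5398 C)
    (C.pH [26, 38, 54, 89, 90, 113] [19, 44, 52, 79, 108, 109, 113] (by decide +kernel) (C.pNil _ _))))
    (C.loop_of_one (relLoop1 C) _ _)

theorem f5402 : C.T (v9 C) [14, 29, 59, 88, 96, 110, 122] (v8 C) [22, 62, 86, 102, 109, 122] :=
  C.conv (f2110 C) (f5391 C) (f5391 C) _ [143, 154, 169, 178] _ (by decide +kernel) (by decide +kernel) (by decide +kernel)

theorem f5403 : C.S (v8 C) [12, 47, 60, 72, 102, 110, 121] :=
  C.stMul (f1537 C) (f1541 C) _ (by decide +kernel)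

theorem f5404 : C.S (v8 C) [13, 68, 83, 99, 110, 118] :=
  C.stMul (f1579 C) (f5403 C) _ (by decide +kernel)

theorem f5405 : C.T (v8 C) [6, 28, 54, 75, 96, 109, 115] (v17 C) [62, 74, 90, 110] :=
  C.conv (f4127 C) (f1598 C) (f5404 C) _ [169, 176, 177] _ (by decide +kernel) (by decide +kernel) (by decide +kernel)

theorem f5406 : C.T (v9 C) [12, 33, 68, 77, 93, 113] (v17 C) [26, 35, 59, 85, 107, 112] :=
  C.conv (f4863 C) (f4877 C) (f1615 C) _ [138, 161, 168, 175] _ (by decide +kernel) (by decide +kernel) (by decide +kernel)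

theorem f5407 : C.T (v17 C) [26, 35, 59, 85, 107, 112] (v9 C) [12, 33, 68, 77, 93, 113] :=
  C.flip (f5406 C)

theorem f5408 : C.T (v17 C) [26, 38, 61, 82, 99, 121] (v17 C) [19, 44, 60, 82, 104, 109, 125] :=
  C.closeT (p := (v9 C)) (pu := [14, 29, 59, 88, 96, 110, 122])
    (C.pT (f5402 C)
    (C.pH [8, 30, 65, 84, 94, 117] [6, 28, 54, 75, 96, 109, 115] (by decide +kernel)
    (C.pT (f5405 C)
    (C.pH [26, 38, 54, 89, 90, 113] [26, 38, 61, 82, 99, 121] (by decide +kernel) (C.pNil _ _)))))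
    (C.pH [8, 30, 65, 84, 94, 117] [26, 35, 59, 85, 107, 112] (by decide +kernel)
    (C.pT (f5407 C)
    (C.pH [26, 38, 54, 89, 90, 113] [14, 29, 59, 88, 96, 110, 122] (by decide +kernel) (C.pNil _ _))))
    (C.loop_of_one (relLoop1 C) _ _)

theorem f5412 : C.T (v9 C) [5, 48, 51, 84, 105, 109, 122] (v8 C) [24, 35, 60, 78, 105, 110, 122] :=
  C.conv (f2110 C) (f5391 C) (f5391 C) _ [140, 157, 170, 172, 178] _ (by decide +kernel) (by decide +kernel) (by decide +kernel)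

theorem f5413 : C.S (v8 C) [20, 46, 52, 71, 91, 109, 122] :=
  C.stMul (f1526 C) (f4250 C) _ (by decide +kernel)

theorem f5414 : C.S (v8 C) [11, 65, 86, 91, 109, 120] :=
  C.stMul (f1537 C) (f5413 C) _ (by decide +kernel)

theorem f5415 : C.T (v8 C) [16, 48, 77, 99, 109, 119] (v17 C) [6, 46, 63, 78, 97, 110, 125] :=
  C.conv (f4127 C) (f1598 C) (f5414 C) _ [128, 149, 176, 177] _ (by decide +kernel) (by decide +kernel) (by decide +kernel)

theorem f5416 : C.T (v9 C) [14, 33, 56, 86, 93, 125] (v17 C) [16, 41, 68, 75, 91, 114] :=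
  C.conv (f5262 C) (f5270 C) (f1624 C) _ [130, 151, 165] _ (by decide +kernel) (by decide +kernel) (by decide +kernel)

theorem f5417 : C.T (v17 C) [16, 41, 68, 75, 91, 114] (v9 C) [14, 33, 56, 86, 93, 125] :=
  C.flip (f5416 C)

theorem f5418 : C.T (v17 C) [4, 34, 60, 79, 110, 113] (v17 C) [24, 30, 62, 76, 105, 109, 116] :=
  C.closeT (p := (v9 C)) (pu := [5, 48, 51, 84, 105, 109, 122])
    (C.pT (f5412 C)
    (C.pH [8, 30, 65, 84, 94, 117] [16, 48, 77, 99, 109, 119] (by decide +kernel)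
    (C.pT (f5415 C)
    (C.pH [26, 38, 54, 89, 90, 113] [4, 34, 60, 79, 110, 113] (by decide +kernel) (C.pNil _ _)))))
    (C.pH [8, 30, 65, 84, 94, 117] [16, 41, 68, 75, 91, 114] (by decide +kernel)
    (C.pT (f5417 C)
    (C.pH [26, 38, 54, 89, 90, 113] [5, 48, 51, 84, 105, 109, 122] (by decide +kernel) (C.pNil _ _))))
    (C.loop_of_one (relLoop1 C) _ _)

theorem f5422 : C.T (v9 C) [21, 38, 65, 75, 110, 111] (v14 C) [6, 43, 61, 74, 105, 109, 119] :=
  C.conv (f2500 C) (f2513 C) (f2513 C) _ [129, 158, 169, 176, 177] _ (by decide +kernel) (by decide +kernel) (by decide +kernel)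

theorem f5423 : C.S (v14 C) [26, 34, 58, 72, 92, 116] :=
  C.stMul (f2441 C) (f2445 C) _ (by decide +kernel)

theorem f5424 : C.S (v14 C) [23, 43, 54, 85, 97, 124] :=
  C.stMul (f2445 C) (f5423 C) _ (by decide +kernel)

theorem f5425 : C.S (v14 C) [10, 39, 54, 89, 95, 114] :=
  C.stMul (f2441 C) (f5424 C) _ (by decide +kernel)

theorem f5426 : C.S (v14 C) [19, 45, 66, 82, 101, 109] :=
  C.stMul (f2445 C) (f5425 C) _ (by decide +kernel)

theorem f5427 : C.S (v14 C) [10, 27, 65, 89, 108, 110, 123] :=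
  C.stMul (f2437 C) (f2441 C) _ (by decide +kernel)

theorem f5428 : C.S (v14 C) [25, 33, 82, 102, 114] :=
  C.stMul (f2454 C) (f5427 C) _ (by decide +kernel)

theorem f5429 : C.S (v14 C) [26, 30, 58, 80, 90, 110] :=
  C.stMul (f2445 C) (f5428 C) _ (by decide +kernel)

theorem f5430 : C.S (v14 C) [23, 45, 53, 74, 91] :=
  C.stMul (f2445 C) (f5429 C) _ (by decide +kernel)

theorem f5431 : C.S (v14 C) [10, 47, 50, 83, 100, 110, 117] :=
  C.stMul (f2441 C) (f5430 C) _ (by decide +kernel)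

theorem f5432 : C.T (v14 C) [13, 51, 81, 99, 117] (v17 C) [9, 29, 50, 75, 90, 110, 117] :=
  C.conv (f4819 C) (f5426 C) (f5431 C) _ [137, 160, 165, 173, 178] _ (by decide +kernel) (by decide +kernel) (by decide +kernel)

theorem f5433 : C.S (v9 C) [21, 32, 63, 85, 106, 110, 120] :=
  C.stMul (f1624 C) (f1620 C) _ (by decide +kernel)

theorem f5434 : C.S (v9 C) [12, 29, 63, 103, 119] :=
  C.stMul (f1620 C) (f5433 C) _ (by decide +kernel)

theorem f5435 : C.S (v9 C) [18, 46, 59, 72, 100, 109, 122] :=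
  C.stMul (f1607 C) (f5434 C) _ (by decide +kernel)

theorem f5436 : C.T (v9 C) [10, 40, 57, 79, 92, 109, 114] (v17 C) [16, 40, 60, 70, 92, 110, 112] :=
  C.conv (f5262 C) (f5270 C) (f5435 C) _ [148, 160, 169, 173, 178] _ (by decide +kernel) (by decide +kernel) (by decide +kernel)

theorem f5437 : C.T (v17 C) [16, 40, 60, 70, 92, 110, 112] (v9 C) [10, 40, 57, 79, 92, 109, 114] :=
  C.flip (f5436 C)

theorem f5438 : C.T (v17 C) [22, 36, 55, 72, 101, 110, 120] (v17 C) [24, 32, 57, 88, 109, 116] :=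
  C.closeT (p := (v9 C)) (pu := [21, 38, 65, 75, 110, 111])
    (C.pT (f5422 C)
    (C.pH [8, 30, 65, 84, 94, 117] [13, 51, 81, 99, 117] (by decide +kernel)
    (C.pT (f5432 C)
    (C.pH [26, 38, 54, 89, 90, 113] [22, 36, 55, 72, 101, 110, 120] (by decide +kernel) (C.pNil _ _)))))
    (C.pH [8, 30, 65, 84, 94, 117] [16, 40, 60, 70, 92, 110, 112] (by decide +kernel)
    (C.pT (f5437 C)
    (C.pH [26, 38, 54, 89, 90, 113] [21, 38, 65, 75, 110, 111] (by decide +kernel) (C.pNil _ _))))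
    (C.loop_of_one (relLoop1 C) _ _)

theorem f5439 : C.T (v17 C) [24, 32, 57, 88, 109, 116] (v17 C) [22, 36, 55, 72, 101, 110, 120] :=
  C.flip (f5438 C)

theorem f5440 : C.T (v9 C) [7, 30, 63, 83, 101, 110, 123] (v14 C) [23, 38, 61, 88, 101, 109, 117] :=
  C.conv (f2500 C) (f2513 C) (f2513 C) _ [141, 161, 169, 173, 177] _ (by decide +kernel) (by decide +kernel) (by decide +kernel)

theorem f5441 : C.S (v14 C) [26, 49, 71, 102, 110, 114] :=
  C.stMul (f2445 C) (f2441 C) _ (by decide +kernel)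

theorem f5442 : C.S (v14 C) [23, 39, 50, 75, 91, 112] :=
  C.stMul (f2445 C) (f5441 C) _ (by decide +kernel)

theorem f5443 : C.S (v14 C) [4, 40, 77, 95, 110, 123] :=
  C.stMul (f2445 C) (f5442 C) _ (by decide +kernel)

theorem f5444 : C.S (v14 C) [4, 28, 57, 88, 93, 110, 115] :=
  C.stMul (f2454 C) (f5443 C) _ (by decide +kernel)

theorem f5445 : C.S (v14 C) [19, 43, 69, 74, 90, 110, 118] :=
  C.stMul (f2441 C) (f5444 C) _ (by decide +kernel)

theorem f5446 : C.T (v14 C) [10, 42, 62, 77, 102, 113] (v17 C) [6, 33, 51, 70, 102, 109, 116] :=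
  C.conv (f4819 C) (f5426 C) (f5445 C) _ [136, 155, 170, 171, 177] _ (by decide +kernel) (by decide +kernel) (by decide +kernel)

theorem f5447 : C.S (v9 C) [47, 79, 100, 110, 114] :=
  C.stMul (f1620 C) (f1615 C) _ (by decide +kernel)

theorem f5448 : C.S (v9 C) [28, 52, 73, 91, 110, 119] :=
  C.stMul (f1607 C) (f5447 C) _ (by decide +kernel)

theorem f5449 : C.T (v9 C) [23, 67, 82, 94, 109, 117] (v17 C) [9, 32, 66, 74, 90, 113] :=
  C.conv (f4232 C) (f1610 C) (f5448 C) _ [144, 150, 167, 177] _ (by decide +kernel) (by decide +kernel) (by decide +kernel)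

theorem f5450 : C.T (v17 C) [9, 32, 66, 74, 90, 113] (v9 C) [23, 67, 82, 94, 109, 117] :=
  C.flip (f5449 C)

theorem f5451 : C.T (v17 C) [4, 31, 69, 73, 95, 110, 121] (v17 C) [25, 47, 56, 80, 107, 120] :=
  C.closeT (p := (v9 C)) (pu := [7, 30, 63, 83, 101, 110, 123])
    (C.pT (f5440 C)
    (C.pH [8, 30, 65, 84, 94, 117] [10, 42, 62, 77, 102, 113] (by decide +kernel)
    (C.pT (f5446 C)
    (C.pH [26, 38, 54, 89, 90, 113] [4, 31, 69, 73, 95, 110, 121] (by decide +kernel) (C.pNil _ _)))))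
    (C.pH [8, 30, 65, 84, 94, 117] [9, 32, 66, 74, 90, 113] (by decide +kernel)
    (C.pT (f5450 C)
    (C.pH [26, 38, 54, 89, 90, 113] [7, 30, 63, 83, 101, 110, 123] (by decide +kernel) (C.pNil _ _))))
    (C.loop_of_one (relLoop1 C) _ _)

theorem f5455 : C.T (v9 C) [11, 35, 69, 89, 101, 122] (v14 C) [23, 47, 53, 76, 100, 123] :=
  C.conv (f2500 C) (f2513 C) (f2513 C) _ [139, 149, 164, 176] _ (by decide +kernel) (by decide +kernel) (by decide +kernel)

theorem f5456 : C.S (v14 C) [4, 40, 49, 75, 107, 118] :=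
  C.stMul (f2445 C) (f2437 C) _ (by decide +kernel)

theorem f5457 : C.S (v14 C) [17, 40, 58, 100, 114] :=
  C.stMul (f2445 C) (f5456 C) _ (by decide +kernel)

theorem f5458 : C.S (v14 C) [12, 46, 58, 74, 95, 119] :=
  C.stMul (f2445 C) (f5457 C) _ (by decide +kernel)

theorem f5459 : C.T (v14 C) [10, 47, 61, 87, 92, 110, 116] (v17 C) [24, 40, 60, 77, 93, 110, 121] :=
  C.conv (f4819 C) (f5426 C) (f5458 C) _ [136, 155, 164, 175, 177] _ (by decide +kernel) (by decide +kernel) (by decide +kernel)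

theorem f5460 : C.S (v9 C) [13, 45, 70, 104, 115] :=
  C.stMul (f1615 C) (f1607 C) _ (by decide +kernel)

theorem f5461 : C.S (v9 C) [47, 62, 87, 90, 110, 118] :=
  C.stMul (f1620 C) (f5460 C) _ (by decide +kernel)

theorem f5462 : C.S (v9 C) [23, 38, 57, 84, 103, 109, 118] :=
  C.stMul (f1624 C) (f5461 C) _ (by decide +kernel)

theorem f5463 : C.S (v9 C) [25, 46, 49, 70, 90, 109, 119] :=
  C.stMul (f1620 C) (f5462 C) _ (by decide +kernel)

theorem f5464 : C.T (v9 C) [8, 43, 65, 78, 104, 110, 111] (v17 C) [15, 32, 67, 71, 90, 109, 123] :=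
  C.conv (f5295 C) (f5298 C) (f5463 C) _ [144, 158, 170] _ (by decide +kernel) (by decide +kernel) (by decide +kernel)

theorem f5465 : C.T (v17 C) [15, 32, 67, 71, 90, 109, 123] (v9 C) [8, 43, 65, 78, 104, 110, 111] :=
  C.flip (f5464 C)

theorem f5466 : C.T (v17 C) [12, 31, 53, 70, 109, 123] (v17 C) [10, 46, 64, 87, 102, 114] :=
  C.closeT (p := (v9 C)) (pu := [11, 35, 69, 89, 101, 122])
    (C.pT (f5455 C)
    (C.pH [8, 30, 65, 84, 94, 117] [10, 47, 61, 87, 92, 110, 116] (by decide +kernel)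
    (C.pT (f5459 C)
    (C.pH [26, 38, 54, 89, 90, 113] [12, 31, 53, 70, 109, 123] (by decide +kernel) (C.pNil _ _)))))
    (C.pH [8, 30, 65, 84, 94, 117] [15, 32, 67, 71, 90, 109, 123] (by decide +kernel)
    (C.pT (f5465 C)
    (C.pH [26, 38, 54, 89, 90, 113] [11, 35, 69, 89, 101, 122] (by decide +kernel) (C.pNil _ _))))
    (C.loop_of_one (relLoop1 C) _ _)

theorem f5468 : C.S (v17 C) [51, 81, 96, 109, 125] :=
  C.stMul (f4132 C) (f4137 C) _ (by decide +kernel)

theorem f5471 : C.T (v9 C) [20, 29, 62, 78, 98, 116] (v14 C) [18, 40, 49, 83, 101, 109, 114] :=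
  C.conv (f2500 C) (f2513 C) (f2513 C) _ [128, 154, 166, 177] _ (by decide +kernel) (by decide +kernel) (by decide +kernel)

theorem f5472 : C.S (v14 C) [10, 37, 55, 71, 103, 109, 123] :=
  C.stMul (f2441 C) (f2437 C) _ (by decide +kernel)

theorem f5473 : C.S (v14 C) [25, 30, 53, 81, 101, 109, 115] :=
  C.stMul (f2437 C) (f5472 C) _ (by decide +kernel)

theorem f5474 : C.S (v14 C) [10, 47, 88, 98] :=
  C.stMul (f2454 C) (f5473 C) _ (by decide +kernel)

theorem f5475 : C.S (v14 C) [19, 41, 58, 73, 96, 110, 120] :=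
  C.stMul (f2445 C) (f5474 C) _ (by decide +kernel)

theorem f5476 : C.S (v14 C) [11, 39, 61, 75, 90, 123] :=
  C.stMul (f2454 C) (f5475 C) _ (by decide +kernel)

theorem f5477 : C.S (v14 C) [21, 40, 94, 109, 123] :=
  C.stMul (f2445 C) (f5476 C) _ (by decide +kernel)

theorem f5478 : C.S (v14 C) [10, 27, 65, 89, 108, 110, 123] :=
  C.stMul (f2437 C) (f2441 C) _ (by decide +kernel)

theorem f5479 : C.S (v14 C) [25, 33, 82, 102, 114] :=
  C.stMul (f2454 C) (f5478 C) _ (by decide +kernel)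

theorem f5480 : C.S (v14 C) [26, 30, 58, 80, 90, 110] :=
  C.stMul (f2445 C) (f5479 C) _ (by decide +kernel)

theorem f5481 : C.S (v14 C) [20, 48, 50, 70, 105, 117] :=
  C.stMul (f2454 C) (f5480 C) _ (by decide +kernel)

theorem f5482 : C.S (v14 C) [9, 43, 57, 85, 107, 113] :=
  C.stMul (f2441 C) (f5481 C) _ (by decide +kernel)

theorem f5483 : C.S (v14 C) [5, 30, 55, 78, 103, 109, 116] :=
  C.stMul (f2441 C) (f5482 C) _ (by decide +kernel)

theorem f5484 : C.T (v14 C) [4, 46, 49, 76, 91, 110, 120] (v4 C) [38, 55, 77, 95, 110, 120] :=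
  C.conv (f2537 C) (f5477 C) (f5483 C) _ [138, 157, 167, 172] _ (by decide +kernel) (by decide +kernel) (by decide +kernel)

theorem f5485 : C.S (v9 C) [12, 29, 53, 80, 106, 109, 118] :=
  C.stMul (f1620 C) (f5269 C) _ (by decide +kernel)

theorem f5486 : C.T (v9 C) [17, 34, 67, 89, 95, 118] (v17 C) [18, 31, 61, 82, 107, 109, 114] :=
  C.conv (f5262 C) (f5270 C) (f5485 C) _ [144, 157, 170, 172, 178] _ (by decide +kernel) (by decide +kernel) (by decide +kernel)

theorem f5487 : C.T (v17 C) [18, 31, 61, 82, 107, 109, 114] (v9 C) [17, 34, 67, 89, 95, 118] :=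
  C.flip (f5486 C)

theorem f5488 : C.T (v4 C) [26, 35, 56, 73, 98, 121] (v17 C) [9, 37, 50, 86, 102, 110, 113] :=
  C.closeT (p := (v9 C)) (pu := [20, 29, 62, 78, 98, 116])
    (C.pT (f5471 C)
    (C.pH [8, 30, 65, 84, 94, 117] [4, 46, 49, 76, 91, 110, 120] (by decide +kernel)
    (C.pT (f5484 C)
    (C.pH [26, 38, 54, 89, 90, 113] [26, 35, 56, 73, 98, 121] (by decide +kernel) (C.pNil _ _)))))
    (C.pH [8, 30, 65, 84, 94, 117] [18, 31, 61, 82, 107, 109, 114] (by decide +kernel)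
    (C.pT (f5487 C)
    (C.pH [26, 38, 54, 89, 90, 113] [20, 29, 62, 78, 98, 116] (by decide +kernel) (C.pNil _ _))))
    (C.loop_of_one (relLoop1 C) _ _)

theorem f5489 : C.T (v17 C) [9, 37, 50, 86, 102, 110, 113] (v4 C) [26, 35, 56, 73, 98, 121] :=
  C.flip (f5488 C)

theorem f5490 : C.T (v9 C) [11, 27, 55, 86, 109, 125] (v15 C) [8, 28, 55, 87, 104, 109, 111] :=
  C.conv (f2928 C) (f3035 C) (f3035 C) _ [144, 156, 164, 174] _ (by decide +kernel) (by decide +kernel) (by decide +kernel)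

theorem f5491 : C.T (v15 C) [30, 67, 81, 97, 120] (v15 C) [16, 41, 76, 98, 111] :=
  C.conv (f2988 C) (f2569 C) (f2569 C) _ [131, 151, 167] _ (by decide +kernel) (by decide +kernel) (by decide +kernel)

theorem f5492 : C.T (v9 C) [8, 30, 58, 73, 100, 109, 125] (v17 C) [12, 41, 51, 70, 103, 109, 115] :=
  C.conv (f4247 C) (f1624 C) (f5264 C) _ [127, 163, 177] _ (by decide +kernel) (by decide +kernel) (by decide +kernel)

theorem f5493 : C.T (v17 C) [12, 41, 51, 70, 103, 109, 115] (v9 C) [8, 30, 58, 73, 100, 109, 125] :=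
  C.flip (f5492 C)

theorem f5494 : C.T (v15 C) [13, 43, 68, 81, 104, 116] (v17 C) [5, 44, 66, 100, 110, 123] :=
  C.closeT (p := (v9 C)) (pu := [11, 27, 55, 86, 109, 125])
    (C.pT (f5490 C)
    (C.pH [8, 30, 65, 84, 94, 117] [30, 67, 81, 97, 120] (by decide +kernel)
    (C.pT (f5491 C)
    (C.pH [26, 38, 54, 89, 90, 113] [13, 43, 68, 81, 104, 116] (by decide +kernel) (C.pNil _ _)))))
    (C.pH [8, 30, 65, 84, 94, 117] [12, 41, 51, 70, 103, 109, 115] (by decide +kernel)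
    (C.pT (f5493 C)
    (C.pH [26, 38, 54, 89, 90, 113] [11, 27, 55, 86, 109, 125] (by decide +kernel) (C.pNil _ _))))
    (C.loop_of_one (relLoop1 C) _ _)

theorem f5495 : C.T (v17 C) [5, 44, 66, 100, 110, 123] (v15 C) [13, 43, 68, 81, 104, 116] :=
  C.flip (f5494 C)

theorem f5496 : C.T (v9 C) [9, 38, 64, 76, 95, 109, 117] (v15 C) [5, 57, 72, 102, 123] :=
  C.conv (f2928 C) (f3035 C) (f3035 C) _ [128, 155, 173] _ (by decide +kernel) (by decide +kernel) (by decide +kernel)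

theorem f5497 : C.S (v15 C) [20, 39, 55, 88, 95, 110, 125] :=
  C.stMul (f2581 C) (f2565 C) _ (by decide +kernel)

theorem f5498 : C.S (v15 C) [34, 69, 79, 92, 114] :=
  C.stMul (f2565 C) (f5497 C) _ (by decide +kernel)

theorem f5499 : C.T (v15 C) [12, 45, 61, 79, 96, 110, 117] (v16 C) [26, 44, 64, 72, 103] :=
  C.conv (f4000 C) (f2569 C) (f5498 C) _ [131, 160, 164, 171, 177] _ (by decide +kernel) (by decide +kernel) (by decide +kernel)

theorem f5500 : C.S (v9 C) [10, 28, 53, 80, 101, 110, 112] :=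
  C.stMul (f1607 C) (f1620 C) _ (by decide +kernel)

theorem f5501 : C.S (v9 C) [11, 44, 50, 87, 101, 113] :=
  C.stMul (f1620 C) (f5500 C) _ (by decide +kernel)

theorem f5502 : C.S (v9 C) [22, 30, 55, 82, 96, 109, 121] :=
  C.stMul (f1624 C) (f5501 C) _ (by decide +kernel)

theorem f5503 : C.T (v9 C) [15, 69, 89, 100, 110] (v17 C) [25, 44, 49, 76, 97, 110, 119] :=
  C.conv (f5345 C) (f5502 C) (f1610 C) _ [134, 158, 165, 171, 178] _ (by decide +kernel) (by decide +kernel) (by decide +kernel)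

theorem f5504 : C.T (v17 C) [25, 44, 49, 76, 97, 110, 119] (v9 C) [15, 69, 89, 100, 110] :=
  C.flip (f5503 C)

theorem f5505 : C.T (v16 C) [16, 28, 69, 88, 106, 109, 116] (v17 C) [4, 29, 56, 79, 97, 110, 119] :=
  C.closeT (p := (v9 C)) (pu := [9, 38, 64, 76, 95, 109, 117])
    (C.pT (f5496 C)
    (C.pH [8, 30, 65, 84, 94, 117] [12, 45, 61, 79, 96, 110, 117] (by decide +kernel)
    (C.pT (f5499 C)
    (C.pH [26, 38, 54, 89, 90, 113] [16, 28, 69, 88, 106, 109, 116] (by decide +kernel) (C.pNil _ _)))))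
    (C.pH [8, 30, 65, 84, 94, 117] [25, 44, 49, 76, 97, 110, 119] (by decide +kernel)
    (C.pT (f5504 C)
    (C.pH [26, 38, 54, 89, 90, 113] [9, 38, 64, 76, 95, 109, 117] (by decide +kernel) (C.pNil _ _))))
    (C.loop_of_one (relLoop1 C) _ _)

theorem f5506 : C.T (v17 C) [4, 29, 56, 79, 97, 110, 119] (v16 C) [16, 28, 69, 88, 106, 109, 116] :=
  C.flip (f5505 C)

theorem f5507 : C.T (v9 C) [7, 43, 67, 80, 103, 123] (v15 C) [14, 34, 57, 85, 102, 110, 125] :=
  C.conv (f2975 C) (f3307 C) (f3307 C) _ [126, 149, 170, 171] _ (by decide +kernel) (by decide +kernel) (by decide +kernel)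

theorem f5508 : C.S (v9 C) [10, 47, 79, 100, 110, 114] :=
  C.stMul (f1620 C) (f1607 C) _ (by decide +kernel)

theorem f5509 : C.S (v9 C) [11, 40, 59, 82, 99, 110, 111] :=
  C.stMul (f1615 C) (f5508 C) _ (by decide +kernel)

theorem f5510 : C.S (v9 C) [22, 28, 57, 77, 98, 109, 116] :=
  C.stMul (f1624 C) (f5509 C) _ (by decide +kernel)

theorem f5511 : C.T (v9 C) [23, 48, 68, 76, 91, 109, 118] (v17 C) [15, 32, 67, 71, 94, 111] :=
  C.conv (f5295 C) (f5298 C) (f5510 C) _ [146, 153, 166, 177] _ (by decide +kernel) (by decide +kernel) (by decide +kernel)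

theorem f5512 : C.T (v17 C) [15, 32, 67, 71, 94, 111] (v9 C) [23, 48, 68, 76, 91, 109, 118] :=
  C.flip (f5511 C)

theorem f5513 : C.S (v17 C) [23, 31, 75, 92, 109, 116] :=
  C.stMul (f4137 C) (f4132 C) _ (by decide +kernel)

theorem f5514 : C.T (v17 C) [10, 46, 64, 87, 95] (v17 C) [19, 45, 58, 77, 107, 109] :=
  C.conv (f4928 C) (f5292 C) (f5513 C) _ [128, 159, 165, 175, 177] _ (by decide +kernel) (by decide +kernel) (by decide +kernel)

theorem f5515 : C.T (v17 C) [19, 45, 58, 77, 107, 109] (v17 C) [10, 46, 64, 87, 95] :=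
  C.flip (f5514 C)

theorem f5516 : C.T (v15 C) [5, 46, 64, 84, 99, 110, 124] (v17 C) [22, 30, 50, 106, 109, 123] :=
  C.closeT (p := (v9 C)) (pu := [7, 43, 67, 80, 103, 123])
    (C.pT (f5507 C)
    (C.pH [8, 30, 65, 84, 94, 117] [5, 46, 64, 84, 99, 110, 124] (by decide +kernel) (C.pNil _ _)))
    (C.pH [26, 38, 54, 89, 90, 113] [19, 45, 58, 77, 107, 109] (by decide +kernel)
    (C.pT (f5515 C)
    (C.pH [8, 30, 65, 84, 94, 117] [15, 32, 67, 71, 94, 111] (by decide +kernel)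
    (C.pT (f5512 C)
    (C.pH [26, 38, 54, 89, 90, 113] [7, 43, 67, 80, 103, 123] (by decide +kernel) (C.pNil _ _))))))
    (C.loop_of_one (relLoop1 C) _ _)

theorem f5517 : C.T (v17 C) [22, 30, 50, 106, 109, 123] (v15 C) [5, 46, 64, 84, 99, 110, 124] :=
  C.flip (f5516 C)

theorem f5518 : C.T (v9 C) [6, 33, 65, 72, 105, 110, 119] (v15 C) [12, 30, 57, 76, 91, 117] :=
  C.conv (f3025 C) (f4013 C) (f4013 C) _ [126, 161, 164, 173, 178] _ (by decide +kernel) (by decide +kernel) (by decide +kernel)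

theorem f5519 : C.S (v15 C) [20, 45, 65, 78, 96, 109, 125] :=
  C.stMul (f2565 C) (f2581 C) _ (by decide +kernel)

theorem f5520 : C.T (v15 C) [21, 39, 58, 87, 90, 110] (v4 C) [23, 38, 65, 80, 96, 109, 123] :=
  C.conv (f2614 C) (f5519 C) (f5519 C) _ [126, 155, 170, 176, 178] _ (by decide +kernel) (by decide +kernel) (by decide +kernel)

theorem f5521 : C.S (v9 C) [11, 40, 56, 79, 103, 109, 114] :=
  C.stMul (f1615 C) (f1620 C) _ (by decide +kernel)

theorem f5522 : C.S (v9 C) [22, 28, 59, 71, 101, 109, 111] :=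
  C.stMul (f1624 C) (f5521 C) _ (by decide +kernel)

theorem f5523 : C.S (v9 C) [6, 29, 63, 103, 119] :=
  C.stMul (f1620 C) (f5522 C) _ (by decide +kernel)

theorem f5524 : C.T (v9 C) [21, 36, 59, 87, 92, 119] (v17 C) [22, 40, 69, 77, 98, 121] :=
  C.conv (f4665 C) (f4678 C) (f5523 C) _ [134, 162, 168, 177] _ (by decide +kernel) (by decide +kernel) (by decide +kernel)

theorem f5525 : C.T (v17 C) [22, 40, 69, 77, 98, 121] (v9 C) [21, 36, 59, 87, 92, 119] :=
  C.flip (f5524 C)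

theorem f5526 : C.T (v4 C) [7, 36, 54, 76, 91, 109, 114] (v17 C) [17, 34, 57, 77, 94, 118] :=
  C.closeT (p := (v9 C)) (pu := [6, 33, 65, 72, 105, 110, 119])
    (C.pT (f5518 C)
    (C.pH [8, 30, 65, 84, 94, 117] [21, 39, 58, 87, 90, 110] (by decide +kernel)
    (C.pT (f5520 C)
    (C.pH [26, 38, 54, 89, 90, 113] [7, 36, 54, 76, 91, 109, 114] (by decide +kernel) (C.pNil _ _)))))
    (C.pH [8, 30, 65, 84, 94, 117] [22, 40, 69, 77, 98, 121] (by decide +kernel)
    (C.pT (f5525 C)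
    (C.pH [26, 38, 54, 89, 90, 113] [6, 33, 65, 72, 105, 110, 119] (by decide +kernel) (C.pNil _ _))))
    (C.loop_of_one (relLoop1 C) _ _)

theorem f5527 : C.T (v17 C) [17, 34, 57, 77, 94, 118] (v4 C) [7, 36, 54, 76, 91, 109, 114] :=
  C.flip (f5526 C)

theorem f5528 : C.T (v9 C) [9, 41, 49, 106, 110, 116] (v15 C) [10, 46, 54, 73, 102, 111] :=
  C.conv (f3038 C) (f3917 C) (f3917 C) _ [134, 158, 167, 175, 178] _ (by decide +kernel) (by decide +kernel) (by decide +kernel)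

theorem f5529 : C.S (v9 C) [23, 37, 55, 75, 92, 110, 123] :=
  C.stMul (f1624 C) (f1607 C) _ (by decide +kernel)

theorem f5530 : C.S (v9 C) [25, 29, 52, 87, 96, 125] :=
  C.stMul (f1620 C) (f5529 C) _ (by decide +kernel)

theorem f5531 : C.S (v9 C) [6, 46, 57, 83, 110, 112] :=
  C.stMul (f1607 C) (f5530 C) _ (by decide +kernel)

theorem f5532 : C.S (v9 C) [23, 43, 63, 80, 106, 119] :=
  C.stMul (f1620 C) (f5531 C) _ (by decide +kernel)

theorem f5533 : C.T (v9 C) [15, 37, 51, 86, 104, 110, 122] (v15 C) [20, 40, 67, 74, 107, 110, 111] :=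
  C.conv (f3038 C) (f3917 C) (f5532 C) _ [146, 149, 167, 173, 178] _ (by decide +kernel) (by decide +kernel) (by decide +kernel)

theorem f5534 : C.T (v15 C) [20, 40, 67, 74, 107, 110, 111] (v9 C) [15, 37, 51, 86, 104, 110, 122] :=
  C.flip (f5533 C)

theorem f5535 : C.S (v15 C) [20, 45, 65, 78, 96, 109, 125] :=
  C.stMul (f2565 C) (f2581 C) _ (by decide +kernel)

theorem f5536 : C.S (v15 C) [25, 47, 66, 86, 107, 124] :=
  C.stMul (f2569 C) (f2565 C) _ (by decide +kernel)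

theorem f5537 : C.S (v15 C) [24, 44, 51, 82, 106, 110, 112] :=
  C.stMul (f2565 C) (f5536 C) _ (by decide +kernel)

theorem f5538 : C.T (v15 C) [16, 32, 60, 72, 97, 109, 114] (v17 C) [14, 37, 53, 86, 97, 125] :=
  C.conv (f5516 C) (f5535 C) (f5537 C) _ [127, 154, 167, 177] _ (by decide +kernel) (by decide +kernel) (by decide +kernel)

theorem f5539 : C.T (v17 C) [14, 37, 53, 86, 97, 125] (v15 C) [16, 32, 60, 72, 97, 109, 114] :=
  C.flip (f5538 C)

theorem f5540 : C.T (v15 C) [15, 32, 55, 79, 90, 122] (v17 C) [12, 43, 55, 77, 93, 111] :=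
  C.closeT (p := (v9 C)) (pu := [9, 41, 49, 106, 110, 116])
    (C.pT (f5528 C)
    (C.pH [8, 30, 65, 84, 94, 117] [15, 32, 55, 79, 90, 122] (by decide +kernel) (C.pNil _ _)))
    (C.pH [26, 38, 54, 89, 90, 113] [14, 37, 53, 86, 97, 125] (by decide +kernel)
    (C.pT (f5539 C)
    (C.pH [8, 30, 65, 84, 94, 117] [20, 40, 67, 74, 107, 110, 111] (by decide +kernel)
    (C.pT (f5534 C)
    (C.pH [26, 38, 54, 89, 90, 113] [9, 41, 49, 106, 110, 116] (by decide +kernel) (C.pNil _ _))))))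
    (C.loop_of_one (relLoop1 C) _ _)

theorem f5541 : C.T (v17 C) [12, 43, 55, 77, 93, 111] (v15 C) [15, 32, 55, 79, 90, 122] :=
  C.flip (f5540 C)

theorem f5542 : C.T (v9 C) [22, 31, 55, 72, 90, 119] (v15 C) [46, 54, 73, 103, 109, 118] :=
  C.conv (f3038 C) (f3917 C) (f3917 C) _ [135, 155, 168, 176, 178] _ (by decide +kernel) (by decide +kernel) (by decide +kernel)

theorem f5543 : C.S (v9 C) [10, 69, 81, 100, 113] :=
  C.stMul (f1615 C) (f1610 C) _ (by decide +kernel)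

theorem f5544 : C.S (v9 C) [21, 37, 62, 82, 103] :=
  C.stMul (f1624 C) (f5543 C) _ (by decide +kernel)

theorem f5545 : C.S (v9 C) [12, 35, 59, 84, 106, 110, 112] :=
  C.stMul (f1620 C) (f5544 C) _ (by decide +kernel)

theorem f5546 : C.T (v9 C) [9, 40, 49, 74, 90, 109, 112] (v15 C) [26, 30, 58, 89, 92, 122] :=
  C.conv (f2928 C) (f3035 C) (f5545 C) _ [147, 158, 164, 174, 178] _ (by decide +kernel) (by decide +kernel) (by decide +kernel)

theorem f5547 : C.T (v15 C) [26, 30, 58, 89, 92, 122] (v9 C) [9, 40, 49, 74, 90, 109, 112] :=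
  C.flip (f5546 C)

theorem f5548 : C.S (v15 C) [25, 47, 66, 86, 107, 124] :=
  C.stMul (f2569 C) (f2565 C) _ (by decide +kernel)

theorem f5549 : C.S (v15 C) [20, 63, 89, 93, 110, 115] :=
  C.stMul (f2569 C) (f5548 C) _ (by decide +kernel)

theorem f5550 : C.S (v15 C) [20, 39, 55, 88, 95, 110, 125] :=
  C.stMul (f2581 C) (f2565 C) _ (by decide +kernel)

theorem f5551 : C.T (v15 C) [19, 47, 50, 76, 109, 122] (v17 C) [21, 34, 64, 87, 100, 110, 119] :=
  C.conv (f4488 C) (f5549 C) (f5550 C) _ [133, 150, 170, 174, 177] _ (by decide +kernel) (by decide +kernel) (by decide +kernel)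

theorem f5552 : C.T (v17 C) [21, 34, 64, 87, 100, 110, 119] (v15 C) [19, 47, 50, 76, 109, 122] :=
  C.flip (f5551 C)

theorem f5553 : C.T (v15 C) [8, 42, 55, 84, 92, 110, 112] (v17 C) [10, 47, 60, 71, 108, 109, 118] :=
  C.closeT (p := (v9 C)) (pu := [22, 31, 55, 72, 90, 119])
    (C.pT (f5542 C)
    (C.pH [8, 30, 65, 84, 94, 117] [8, 42, 55, 84, 92, 110, 112] (by decide +kernel) (C.pNil _ _)))
    (C.pH [26, 38, 54, 89, 90, 113] [21, 34, 64, 87, 100, 110, 119] (by decide +kernel)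
    (C.pT (f5552 C)
    (C.pH [8, 30, 65, 84, 94, 117] [26, 30, 58, 89, 92, 122] (by decide +kernel)
    (C.pT (f5547 C)
    (C.pH [26, 38, 54, 89, 90, 113] [22, 31, 55, 72, 90, 119] (by decide +kernel) (C.pNil _ _))))))
    (C.loop_of_one (relLoop1 C) _ _)

theorem f5554 : C.T (v17 C) [10, 47, 60, 71, 108, 109, 118] (v15 C) [8, 42, 55, 84, 92, 110, 112] :=
  C.flip (f5553 C)

theorem f5555 : C.T (v9 C) [25, 38, 69, 75, 108, 110, 113] (v15 C) [6, 36, 60, 84, 95, 110, 118] :=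
  C.conv (f3038 C) (f3917 C) (f3917 C) _ [137, 163, 167, 173] _ (by decide +kernel) (by decide +kernel) (by decide +kernel)

theorem f5556 : C.T (v15 C) [13, 39, 54, 87, 98, 110, 115] (v15 C) [13, 39, 68, 83, 91, 110, 124] :=
  C.conv (f3279 C) (f2569 C) (f2569 C) _ [146, 160, 165, 172] _ (by decide +kernel) (by decide +kernel) (by decide +kernel)

theorem f5557 : C.S (v9 C) [13, 40, 59, 82, 99, 110, 111] :=
  C.stMul (f1615 C) (f4994 C) _ (by decide +kernel)

theorem f5558 : C.S (v9 C) [43, 67, 71, 98, 119] :=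
  C.stMul (f1620 C) (f5557 C) _ (by decide +kernel)

theorem f5559 : C.T (v9 C) [4, 34, 69, 82, 90, 110, 115] (v17 C) [19, 28, 51, 70, 93, 110, 114] :=
  C.conv (f4804 C) (f4895 C) (f5558 C) _ [138, 149, 165, 172, 178] _ (by decide +kernel) (by decide +kernel) (by decide +kernel)

theorem f5560 : C.T (v17 C) [19, 28, 51, 70, 93, 110, 114] (v9 C) [4, 34, 69, 82, 90, 110, 115] :=
  C.flip (f5559 C)

theorem f5561 : C.T (v15 C) [23, 45, 68, 82, 99, 109, 115] (v17 C) [15, 29, 49, 89, 105, 110, 116] :=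
  C.closeT (p := (v9 C)) (pu := [25, 38, 69, 75, 108, 110, 113])
    (C.pT (f5555 C)
    (C.pH [8, 30, 65, 84, 94, 117] [13, 39, 54, 87, 98, 110, 115] (by decide +kernel)
    (C.pT (f5556 C)
    (C.pH [26, 38, 54, 89, 90, 113] [23, 45, 68, 82, 99, 109, 115] (by decide +kernel) (C.pNil _ _)))))
    (C.pH [8, 30, 65, 84, 94, 117] [19, 28, 51, 70, 93, 110, 114] (by decide +kernel)
    (C.pT (f5560 C)
    (C.pH [26, 38, 54, 89, 90, 113] [25, 38, 69, 75, 108, 110, 113] (by decide +kernel) (C.pNil _ _))))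
    (C.loop_of_one (relLoop1 C) _ _)

theorem f5562 : C.T (v17 C) [15, 29, 49, 89, 105, 110, 116] (v15 C) [23, 45, 68, 82, 99, 109, 115] :=
  C.flip (f5561 C)

theorem f5563 : C.T (v9 C) [24, 45, 50, 89, 102, 109, 124] (v15 C) [13, 38, 56, 80, 108, 117] :=
  C.conv (f3051 C) (f3058 C) (f3058 C) _ [137, 157, 165, 176] _ (by decide +kernel) (by decide +kernel) (by decide +kernel)

theorem f5564 : C.S (v15 C) [25, 46, 61, 102, 110, 119] :=
  C.stMul (f2565 C) (f2569 C) _ (by decide +kernel)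

theorem f5565 : C.T (v15 C) [11, 37, 66, 80, 101, 125] (v15 C) [22, 45, 56, 77, 94, 120] :=
  C.conv (f2890 C) (f2893 C) (f5564 C) _ [148, 153, 166] _ (by decide +kernel) (by decide +kernel) (by decide +kernel)

theorem f5566 : C.S (v9 C) [4, 48, 68, 83, 104, 125] :=
  C.stMul (f1624 C) (f1615 C) _ (by decide +kernel)

theorem f5567 : C.S (v9 C) [18, 29, 50, 71, 91, 114] :=
  C.stMul (f1620 C) (f5566 C) _ (by decide +kernel)

theorem f5568 : C.T (v9 C) [11, 37, 88, 102, 109] (v17 C) [19, 34, 61, 72, 99, 110, 123] :=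
  C.conv (f5295 C) (f5298 C) (f5567 C) _ [142, 157, 165, 172] _ (by decide +kernel) (by decide +kernel) (by decide +kernel)

theorem f5569 : C.T (v17 C) [19, 34, 61, 72, 99, 110, 123] (v9 C) [11, 37, 88, 102, 109] :=
  C.flip (f5568 C)

theorem f5570 : C.T (v15 C) [19, 46, 54, 85, 107, 110] (v17 C) [15, 31, 59, 77, 101, 123] :=
  C.closeT (p := (v9 C)) (pu := [24, 45, 50, 89, 102, 109, 124])
    (C.pT (f5563 C)
    (C.pH [8, 30, 65, 84, 94, 117] [11, 37, 66, 80, 101, 125] (by decide +kernel)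
    (C.pT (f5565 C)
    (C.pH [26, 38, 54, 89, 90, 113] [19, 46, 54, 85, 107, 110] (by decide +kernel) (C.pNil _ _)))))
    (C.pH [8, 30, 65, 84, 94, 117] [19, 34, 61, 72, 99, 110, 123] (by decide +kernel)
    (C.pT (f5569 C)
    (C.pH [26, 38, 54, 89, 90, 113] [24, 45, 50, 89, 102, 109, 124] (by decide +kernel) (C.pNil _ _))))
    (C.loop_of_one (relLoop1 C) _ _)

theorem f5571 : C.T (v17 C) [15, 31, 59, 77, 101, 123] (v15 C) [19, 46, 54, 85, 107, 110] :=
  C.flip (f5570 C)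

theorem f5572 : C.T (v9 C) [26, 29, 50, 81, 98, 110, 114] (v15 C) [16, 47, 59, 80, 105, 117] :=
  C.conv (f3051 C) (f3058 C) (f3058 C) _ [144, 157, 165, 175, 178] _ (by decide +kernel) (by decide +kernel) (by decide +kernel)

theorem f5573 : C.T (v9 C) [37, 64, 74, 95, 124] (v9 C) [26, 44, 80, 101, 110, 125] :=
  C.conv (f2022 C) (f2024 C) (f1607 C) _ [140, 149, 164, 172] _ (by decide +kernel) (by decide +kernel) (by decide +kernel)

theorem f5574 : C.T (v9 C) [26, 44, 80, 101, 110, 125] (v9 C) [37, 64, 74, 95, 124] :=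
  C.flip (f5573 C)

theorem f5575 : C.T (v9 C) [19, 38, 61, 88, 93, 115] (v17 C) [11, 39, 62, 73, 104, 109] :=
  C.conv (f4665 C) (f4678 C) (f5365 C) _ [142, 152, 167, 176, 177] _ (by decide +kernel) (by decide +kernel) (by decide +kernel)

theorem f5576 : C.T (v17 C) [11, 39, 62, 73, 104, 109] (v9 C) [19, 38, 61, 88, 93, 115] :=
  C.flip (f5575 C)

theorem f5577 : C.T (v15 C) [20, 44, 52, 81, 90, 113] (v17 C) [8, 33, 55, 72, 95, 123] :=
  C.closeT (p := (v9 C)) (pu := [26, 29, 50, 81, 98, 110, 114])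
    (C.pT (f5572 C)
    (C.pH [8, 30, 65, 84, 94, 117] [20, 44, 52, 81, 90, 113] (by decide +kernel) (C.pNil _ _)))
    (C.pH [26, 38, 54, 89, 90, 113] [11, 39, 62, 73, 104, 109] (by decide +kernel)
    (C.pT (f5576 C)
    (C.pH [8, 30, 65, 84, 94, 117] [26, 44, 80, 101, 110, 125] (by decide +kernel)
    (C.pT (f5574 C)
    (C.pH [26, 38, 54, 89, 90, 113] [26, 29, 50, 81, 98, 110, 114] (by decide +kernel) (C.pNil _ _))))))
    (C.loop_of_one (relLoop1 C) _ _)

theorem f5578 : C.T (v17 C) [8, 33, 55, 72, 95, 123] (v15 C) [20, 44, 52, 81, 90, 113] :=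
  C.flip (f5577 C)

theorem f5579 : C.T (v9 C) [13, 45, 68, 79, 97, 111] (v15 C) [6, 46, 57, 82, 97, 110, 115] :=
  C.conv (f3051 C) (f3058 C) (f3058 C) _ [148, 159, 169, 173] _ (by decide +kernel) (by decide +kernel) (by decide +kernel)

theorem f5580 : C.T (v15 C) [13, 33, 51, 76, 99, 109, 113] (v17 C) [10, 33, 59, 95, 119] :=
  C.conv (f5561 C) (f2565 C) (f2652 C) _ [145, 149, 164, 176, 177] _ (by decide +kernel) (by decide +kernel) (by decide +kernel)

theorem f5581 : C.S (v9 C) [21, 32, 63, 85, 106, 110, 120] :=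
  C.stMul (f1624 C) (f1620 C) _ (by decide +kernel)

theorem f5582 : C.T (v9 C) [16, 37, 50, 96, 109, 112] (v17 C) [6, 48, 61, 70, 90, 109, 123] :=
  C.conv (f4225 C) (f4411 C) (f5581 C) _ [135, 160, 168, 177] _ (by decide +kernel) (by decide +kernel) (by decide +kernel)

theorem f5583 : C.T (v17 C) [6, 48, 61, 70, 90, 109, 123] (v9 C) [16, 37, 50, 96, 109, 112] :=
  C.flip (f5582 C)

theorem f5584 : C.T (v17 C) [21, 30, 55, 85, 91, 110, 119] (v17 C) [22, 33, 67, 76, 96] :=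
  C.closeT (p := (v9 C)) (pu := [13, 45, 68, 79, 97, 111])
    (C.pT (f5579 C)
    (C.pH [8, 30, 65, 84, 94, 117] [13, 33, 51, 76, 99, 109, 113] (by decide +kernel)
    (C.pT (f5580 C)
    (C.pH [26, 38, 54, 89, 90, 113] [21, 30, 55, 85, 91, 110, 119] (by decide +kernel) (C.pNil _ _)))))
    (C.pH [8, 30, 65, 84, 94, 117] [6, 48, 61, 70, 90, 109, 123] (by decide +kernel)
    (C.pT (f5583 C)
    (C.pH [26, 38, 54, 89, 90, 113] [13, 45, 68, 79, 97, 111] (by decide +kernel) (C.pNil _ _))))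
    (C.loop_of_one (relLoop1 C) _ _)

theorem f5585 : C.T (v17 C) [22, 33, 67, 76, 96] (v17 C) [21, 30, 55, 85, 91, 110, 119] :=
  C.flip (f5584 C)

theorem f5586 : C.T (v9 C) [22, 42, 65, 78, 102, 109, 123] (v15 C) [26, 54, 77, 108, 119] :=
  C.conv (f3185 C) (f1615 C) (f1615 C) _ [153, 165, 176, 178] _ (by decide +kernel) (by decide +kernel) (by decide +kernel)

theorem f5587 : C.S (v15 C) [25, 47, 66, 86, 107, 124] :=
  C.stMul (f2569 C) (f2565 C) _ (by decide +kernel)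

theorem f5588 : C.S (v15 C) [24, 44, 51, 82, 106, 110, 112] :=
  C.stMul (f2565 C) (f5587 C) _ (by decide +kernel)

theorem f5589 : C.T (v15 C) [14, 34, 73, 98, 109, 120] (v17 C) [18, 29, 56, 84, 106, 110, 123] :=
  C.conv (f4511 C) (f5588 C) (f2569 C) _ [146, 154, 174, 177] _ (by decide +kernel) (by decide +kernel) (by decide +kernel)

theorem f5590 : C.S (v9 C) [13, 48, 54, 73, 93, 110, 123] :=
  C.stMul (f1620 C) (f1610 C) _ (by decide +kernel)

theorem f5591 : C.S (v9 C) [28, 53, 80, 101, 110, 112] :=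
  C.stMul (f1615 C) (f5590 C) _ (by decide +kernel)

theorem f5592 : C.S (v9 C) [10, 43, 61, 81, 106, 109, 124] :=
  C.stMul (f1620 C) (f5591 C) _ (by decide +kernel)

theorem f5593 : C.T (v9 C) [9, 51, 88, 124] (v17 C) [24, 33, 54, 71, 97, 109, 111] :=
  C.conv (f5160 C) (f5313 C) (f5592 C) _ [134, 156, 165, 174] _ (by decide +kernel) (by decide +kernel) (by decide +kernel)

theorem f5594 : C.T (v17 C) [24, 33, 54, 71, 97, 109, 111] (v9 C) [9, 51, 88, 124] :=
  C.flip (f5593 C)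

theorem f5595 : C.T (v17 C) [10, 45, 66, 72, 93, 110, 111] (v17 C) [21, 48, 52, 81, 110, 123] :=
  C.closeT (p := (v9 C)) (pu := [22, 42, 65, 78, 102, 109, 123])
    (C.pT (f5586 C)
    (C.pH [8, 30, 65, 84, 94, 117] [14, 34, 73, 98, 109, 120] (by decide +kernel)
    (C.pT (f5589 C)
    (C.pH [26, 38, 54, 89, 90, 113] [10, 45, 66, 72, 93, 110, 111] (by decide +kernel) (C.pNil _ _)))))
    (C.pH [8, 30, 65, 84, 94, 117] [24, 33, 54, 71, 97, 109, 111] (by decide +kernel)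
    (C.pT (f5594 C)
    (C.pH [26, 38, 54, 89, 90, 113] [22, 42, 65, 78, 102, 109, 123] (by decide +kernel) (C.pNil _ _))))
    (C.loop_of_one (relLoop1 C) _ _)

theorem f5598 : C.T (v9 C) [12, 29, 64, 86, 93, 110] (v15 C) [10, 43, 55, 79, 106, 110, 121] :=
  C.conv (f3185 C) (f1615 C) (f1615 C) _ [140, 160, 169, 171, 177] _ (by decide +kernel) (by decide +kernel) (by decide +kernel)

theorem f5599 : C.S (v15 C) [20, 45, 65, 78, 96, 109, 125] :=
  C.stMul (f2565 C) (f2581 C) _ (by decide +kernel)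

theorem f5600 : C.S (v15 C) [25, 47, 66, 86, 107, 124] :=
  C.stMul (f2569 C) (f2565 C) _ (by decide +kernel)

theorem f5601 : C.S (v15 C) [25, 32, 63, 84, 105, 109, 124] :=
  C.stMul (f2581 C) (f5600 C) _ (by decide +kernel)

theorem f5602 : C.T (v15 C) [15, 28, 50, 88, 106, 110, 125] (v17 C) [17, 39, 68, 89, 105, 109, 113] :=
  C.conv (f5494 C) (f5599 C) (f5601 C) _ [135, 154, 166, 173] _ (by decide +kernel) (by decide +kernel) (by decide +kernel)

theorem f5603 : C.S (v9 C) [22, 48, 53, 80, 99, 115] :=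
  C.stMul (f1624 C) (f5299 C) _ (by decide +kernel)

theorem f5604 : C.T (v9 C) [24, 34, 63, 81, 90, 110, 122] (v17 C) [17, 39, 51, 88, 104, 116] :=
  C.conv (f5295 C) (f5298 C) (f5603 C) _ [166, 174, 177] _ (by decide +kernel) (by decide +kernel) (by decide +kernel)

theorem f5605 : C.T (v17 C) [17, 39, 51, 88, 104, 116] (v9 C) [24, 34, 63, 81, 90, 110, 122] :=
  C.flip (f5604 C)

theorem f5606 : C.T (v17 C) [20, 43, 51, 86, 108, 109, 116] (v17 C) [7, 27, 51, 88, 104, 116] :=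
  C.closeT (p := (v9 C)) (pu := [12, 29, 64, 86, 93, 110])
    (C.pT (f5598 C)
    (C.pH [8, 30, 65, 84, 94, 117] [15, 28, 50, 88, 106, 110, 125] (by decide +kernel)
    (C.pT (f5602 C)
    (C.pH [26, 38, 54, 89, 90, 113] [20, 43, 51, 86, 108, 109, 116] (by decide +kernel) (C.pNil _ _)))))
    (C.pH [8, 30, 65, 84, 94, 117] [17, 39, 51, 88, 104, 116] (by decide +kernel)
    (C.pT (f5605 C)
    (C.pH [26, 38, 54, 89, 90, 113] [12, 29, 64, 86, 93, 110] (by decide +kernel) (C.pNil _ _))))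
    (C.loop_of_one (relLoop1 C) _ _)

theorem f5610 : C.T (v9 C) [18, 40, 58, 75, 96, 110, 116] (v15 C) [8, 53, 79, 108, 116] :=
  C.conv (f3185 C) (f1615 C) (f1615 C) _ [145, 150, 168, 172] _ (by decide +kernel) (by decide +kernel) (by decide +kernel)

theorem f5611 : C.S (v9 C) [18, 33, 55, 71, 105, 109, 125] :=
  C.stMul (f1615 C) (f5115 C) _ (by decide +kernel)

theorem f5612 : C.T (v9 C) [25, 48, 66, 72, 91, 110, 119] (v17 C) [20, 27, 63, 76, 109, 117] :=
  C.conv (f4863 C) (f4877 C) (f5611 C) _ [140, 169, 172, 177] _ (by decide +kernel) (by decide +kernel) (by decide +kernel)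

theorem f5613 : C.T (v17 C) [20, 27, 63, 76, 109, 117] (v9 C) [25, 48, 66, 72, 91, 110, 119] :=
  C.flip (f5612 C)

theorem f5614 : C.T (v17 C) [16, 45, 63, 79, 90, 110, 119] (v17 C) [19, 34, 64, 72, 96, 122] :=
  C.conv (f5059 C) (f5061 C) (f5061 C) _ [147, 153, 165, 171, 178] _ (by decide +kernel) (by decide +kernel) (by decide +kernel)

theorem f5615 : C.T (v17 C) [19, 34, 64, 72, 96, 122] (v17 C) [16, 45, 63, 79, 90, 110, 119] :=
  C.flip (f5614 C)

theorem f5616 : C.T (v15 C) [28, 60, 73, 96, 110, 117] (v17 C) [22, 44, 52, 73, 91, 110, 118] :=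
  C.closeT (p := (v9 C)) (pu := [18, 40, 58, 75, 96, 110, 116])
    (C.pT (f5610 C)
    (C.pH [8, 30, 65, 84, 94, 117] [28, 60, 73, 96, 110, 117] (by decide +kernel) (C.pNil _ _)))
    (C.pH [26, 38, 54, 89, 90, 113] [19, 34, 64, 72, 96, 122] (by decide +kernel)
    (C.pT (f5615 C)
    (C.pH [8, 30, 65, 84, 94, 117] [20, 27, 63, 76, 109, 117] (by decide +kernel)
    (C.pT (f5613 C)
    (C.pH [26, 38, 54, 89, 90, 113] [18, 40, 58, 75, 96, 110, 116] (by decide +kernel) (C.pNil _ _))))))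
    (C.loop_of_one (relLoop1 C) _ _)

theorem f5617 : C.T (v17 C) [22, 44, 52, 73, 91, 110, 118] (v15 C) [28, 60, 73, 96, 110, 117] :=
  C.flip (f5616 C)

theorem f5618 : C.T (v9 C) [21, 42, 49, 85, 101, 110, 124] (v15 C) [6, 42, 67, 89, 103, 120] :=
  C.conv (f3324 C) (f4471 C) (f4471 C) _ [131, 156, 170, 176] _ (by decide +kernel) (by decide +kernel) (by decide +kernel)

theorem f5619 : C.S (v15 C) [31, 53, 71, 96, 116] :=
  C.stMul (f2569 C) (f2569 C) _ (by decide +kernel)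

theorem f5620 : C.S (v15 C) [25, 47, 66, 86, 107, 124] :=
  C.stMul (f2569 C) (f2565 C) _ (by decide +kernel)

theorem f5621 : C.S (v15 C) [24, 44, 51, 82, 106, 110, 112] :=
  C.stMul (f2565 C) (f5620 C) _ (by decide +kernel)

theorem f5622 : C.T (v15 C) [13, 40, 66, 73, 97, 109, 121] (v17 C) [20, 37, 63, 87, 103, 109, 115] :=
  C.conv (f4708 C) (f5619 C) (f5621 C) _ [139, 162, 167, 173] _ (by decide +kernel) (by decide +kernel) (by decide +kernel)

theorem f5623 : C.S (v9 C) [22, 28, 57, 77, 98, 109, 116] :=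
  C.stMul (f1624 C) (f3060 C) _ (by decide +kernel)

theorem f5624 : C.T (v9 C) [10, 44, 76, 100, 109] (v15 C) [10, 31, 63, 91, 121] :=
  C.conv (f3051 C) (f3058 C) (f5623 C) _ [138, 156, 168, 175, 178] _ (by decide +kernel) (by decide +kernel) (by decide +kernel)

theorem f5625 : C.T (v15 C) [10, 31, 63, 91, 121] (v9 C) [10, 44, 76, 100, 109] :=
  C.flip (f5624 C)

theorem f5626 : C.T (v17 C) [15, 46, 64, 87, 97, 110, 125] (v15 C) [23, 35, 57, 83, 90, 113] :=
  C.closeT (p := (v9 C)) (pu := [21, 42, 49, 85, 101, 110, 124])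
    (C.pT (f5618 C)
    (C.pH [8, 30, 65, 84, 94, 117] [13, 40, 66, 73, 97, 109, 121] (by decide +kernel)
    (C.pT (f5622 C)
    (C.pH [26, 38, 54, 89, 90, 113] [15, 46, 64, 87, 97, 110, 125] (by decide +kernel) (C.pNil _ _)))))
    (C.pH [8, 30, 65, 84, 94, 117] [10, 31, 63, 91, 121] (by decide +kernel)
    (C.pT (f5625 C)
    (C.pH [26, 38, 54, 89, 90, 113] [21, 42, 49, 85, 101, 110, 124] (by decide +kernel) (C.pNil _ _))))
    (C.loop_of_one (relLoop1 C) _ _)

theorem f5627 : C.T (v15 C) [23, 35, 57, 83, 90, 113] (v17 C) [15, 46, 64, 87, 97, 110, 125] :=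
  C.flip (f5626 C)

theorem f5628 : C.T (v9 C) [14, 28, 63, 88, 105, 113] (v15 C) [16, 46, 59, 81, 98, 110, 122] :=
  C.conv (f3324 C) (f4471 C) (f4471 C) _ [127, 150, 170, 174, 178] _ (by decide +kernel) (by decide +kernel) (by decide +kernel)

theorem f5629 : C.S (v15 C) [20, 39, 55, 88, 95, 110, 125] :=
  C.stMul (f2581 C) (f2565 C) _ (by decide +kernel)

theorem f5630 : C.S (v15 C) [34, 69, 79, 92, 114] :=
  C.stMul (f2565 C) (f5629 C) _ (by decide +kernel)

theorem f5631 : C.T (v15 C) [20, 39, 55, 78, 103, 109, 111] (v17 C) [19, 31, 64, 84, 103, 109, 121] :=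
  C.conv (f4708 C) (f5619 C) (f5630 C) _ [142, 162, 168, 176, 177] _ (by decide +kernel) (by decide +kernel) (by decide +kernel)

theorem f5632 : C.S (v9 C) [21, 32, 51, 87, 95, 109, 111] :=
  C.stMul (f1624 C) (f3059 C) _ (by decide +kernel)

theorem f5633 : C.T (v9 C) [12, 48, 50, 72, 108, 114] (v15 C) [9, 33, 65, 83, 104, 125] :=
  C.conv (f3051 C) (f3058 C) (f5632 C) _ [133, 163, 166, 175, 178] _ (by decide +kernel) (by decide +kernel) (by decide +kernel)

theorem f5634 : C.T (v15 C) [9, 33, 65, 83, 104, 125] (v9 C) [12, 48, 50, 72, 108, 114] :=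
  C.flip (f5633 C)

theorem f5635 : C.T (v17 C) [17, 39, 64, 80, 110, 113] (v15 C) [25, 29, 57, 76, 103, 113] :=
  C.closeT (p := (v9 C)) (pu := [14, 28, 63, 88, 105, 113])
    (C.pT (f5628 C)
    (C.pH [8, 30, 65, 84, 94, 117] [20, 39, 55, 78, 103, 109, 111] (by decide +kernel)
    (C.pT (f5631 C)
    (C.pH [26, 38, 54, 89, 90, 113] [17, 39, 64, 80, 110, 113] (by decide +kernel) (C.pNil _ _)))))
    (C.pH [8, 30, 65, 84, 94, 117] [9, 33, 65, 83, 104, 125] (by decide +kernel)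
    (C.pT (f5634 C)
    (C.pH [26, 38, 54, 89, 90, 113] [14, 28, 63, 88, 105, 113] (by decide +kernel) (C.pNil _ _))))
    (C.loop_of_one (relLoop1 C) _ _)

theorem f5636 : C.T (v15 C) [25, 29, 57, 76, 103, 113] (v17 C) [17, 39, 64, 80, 110, 113] :=
  C.flip (f5635 C)

theorem f5637 : C.T (v9 C) [19, 44, 64, 78, 91, 109, 118] (v16 C) [20, 31, 62, 76, 108, 110, 114] :=
  C.conv (f3492 C) (f3563 C) (f3563 C) _ [126, 157, 166, 171] _ (by decide +kernel) (by decide +kernel) (by decide +kernel)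

theorem f5638 : C.S (v9 C) [18, 46, 59, 72, 100, 109, 122] :=
  C.stMul (f1607 C) (f5313 C) _ (by decide +kernel)

theorem f5639 : C.T (v9 C) [22, 38, 50, 86, 90, 109, 115] (v17 C) [15, 33, 65, 72, 98, 110] :=
  C.conv (f5160 C) (f5313 C) (f5638 C) _ [143, 150, 172] _ (by decide +kernel) (by decide +kernel) (by decide +kernel)

theorem f5640 : C.T (v17 C) [15, 33, 65, 72, 98, 110] (v9 C) [22, 38, 50, 86, 90, 109, 115] :=
  C.flip (f5639 C)

theorem f5641 : C.T (v17 C) [10, 32, 63, 83, 94, 115] (v17 C) [4, 48, 57, 81, 101, 110, 125] :=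
  C.conv (f5466 C) (f5468 C) (f4137 C) _ [133, 152, 168, 172, 177] _ (by decide +kernel) (by decide +kernel) (by decide +kernel)

theorem f5642 : C.T (v17 C) [4, 48, 57, 81, 101, 110, 125] (v17 C) [10, 32, 63, 83, 94, 115] :=
  C.flip (f5641 C)

theorem f5643 : C.T (v16 C) [23, 32, 55, 78, 90, 109, 119] (v17 C) [6, 40, 60, 88, 107, 109, 122] :=
  C.closeT (p := (v9 C)) (pu := [19, 44, 64, 78, 91, 109, 118])
    (C.pT (f5637 C)
    (C.pH [8, 30, 65, 84, 94, 117] [23, 32, 55, 78, 90, 109, 119] (by decide +kernel) (C.pNil _ _)))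
    (C.pH [26, 38, 54, 89, 90, 113] [4, 48, 57, 81, 101, 110, 125] (by decide +kernel)
    (C.pT (f5642 C)
    (C.pH [8, 30, 65, 84, 94, 117] [15, 33, 65, 72, 98, 110] (by decide +kernel)
    (C.pT (f5640 C)
    (C.pH [26, 38, 54, 89, 90, 113] [19, 44, 64, 78, 91, 109, 118] (by decide +kernel) (C.pNil _ _))))))
    (C.loop_of_one (relLoop1 C) _ _)

theorem f5644 : C.T (v17 C) [6, 40, 60, 88, 107, 109, 122] (v16 C) [23, 32, 55, 78, 90, 109, 119] :=
  C.flip (f5643 C)

theorem f5645 : C.T (v9 C) [20, 48, 54, 83, 103, 110, 123] (v16 C) [15, 29, 50, 71, 99, 123] :=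
  C.conv (f3492 C) (f3563 C) (f3563 C) _ [135, 149, 165, 174] _ (by decide +kernel) (by decide +kernel) (by decide +kernel)

theorem f5646 : C.S (v16 C) [28, 55, 71, 105, 109, 119] :=
  C.stMul (f3458 C) (f3451 C) _ (by decide +kernel)

theorem f5647 : C.S (v16 C) [22, 29, 51, 75, 99, 109, 120] :=
  C.stMul (f3468 C) (f5646 C) _ (by decide +kernel)

theorem f5648 : C.T (v16 C) [19, 28, 62, 71, 91, 111] (v17 C) [4, 38, 55, 82, 99, 114] :=
  C.conv (f4883 C) (f5647 C) (f5646 C) _ [146, 170, 174, 178] _ (by decide +kernel) (by decide +kernel) (by decide +kernel)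

theorem f5649 : C.S (v9 C) [11, 44, 50, 87, 101, 113] :=
  C.stMul (f1620 C) (f5323 C) _ (by decide +kernel)

theorem f5650 : C.T (v9 C) [17, 47, 63, 87, 100, 113] (v17 C) [6, 33, 53, 74, 100, 110, 119] :=
  C.conv (f4863 C) (f4877 C) (f5649 C) _ [126, 155, 168, 174, 177] _ (by decide +kernel) (by decide +kernel) (by decide +kernel)

theorem f5651 : C.T (v17 C) [6, 33, 53, 74, 100, 110, 119] (v9 C) [17, 47, 63, 87, 100, 113] :=
  C.flip (f5650 C)

theorem f5652 : C.T (v17 C) [25, 47, 65, 89, 90, 121] (v17 C) [22, 41, 49, 82, 92, 117] :=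
  C.closeT (p := (v9 C)) (pu := [20, 48, 54, 83, 103, 110, 123])
    (C.pT (f5645 C)
    (C.pH [8, 30, 65, 84, 94, 117] [19, 28, 62, 71, 91, 111] (by decide +kernel)
    (C.pT (f5648 C)
    (C.pH [26, 38, 54, 89, 90, 113] [25, 47, 65, 89, 90, 121] (by decide +kernel) (C.pNil _ _)))))
    (C.pH [8, 30, 65, 84, 94, 117] [6, 33, 53, 74, 100, 110, 119] (by decide +kernel)
    (C.pT (f5651 C)
    (C.pH [26, 38, 54, 89, 90, 113] [20, 48, 54, 83, 103, 110, 123] (by decide +kernel) (C.pNil _ _))))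
    (C.loop_of_one (relLoop1 C) _ _)

theorem f5653 : C.T (v17 C) [22, 41, 49, 82, 92, 117] (v17 C) [25, 47, 65, 89, 90, 121] :=
  C.flip (f5652 C)

theorem f5654 : C.T (v9 C) [26, 53, 71, 97, 109, 121] (v16 C) [17, 31, 68, 87, 94, 109, 116] :=
  C.conv (f3607 C) (f4003 C) (f4003 C) _ [129, 150, 168, 171, 177] _ (by decide +kernel) (by decide +kernel) (by decide +kernel)

theorem f5655 : C.S (v9 C) [11, 40, 56, 79, 103, 109, 114] :=
  C.stMul (f1615 C) (f1620 C) _ (by decide +kernel)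

theorem f5656 : C.S (v9 C) [22, 28, 59, 71, 101, 109, 111] :=
  C.stMul (f1624 C) (f5655 C) _ (by decide +kernel)

theorem f5657 : C.S (v9 C) [6, 29, 63, 103, 119] :=
  C.stMul (f1620 C) (f5656 C) _ (by decide +kernel)

theorem f5658 : C.T (v9 C) [45, 63, 86, 95, 112] (v17 C) [19, 37, 52, 79, 90, 109, 115] :=
  C.conv (f4863 C) (f4877 C) (f5657 C) _ [136, 167, 171, 177] _ (by decide +kernel) (by decide +kernel) (by decide +kernel)

theorem f5659 : C.T (v17 C) [19, 37, 52, 79, 90, 109, 115] (v9 C) [45, 63, 86, 95, 112] :=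
  C.flip (f5658 C)

theorem f5660 : C.S (v17 C) [23, 31, 49, 84, 96, 117] :=
  C.stMul (f4137 C) (f4137 C) _ (by decide +kernel)

theorem f5661 : C.T (v17 C) [15, 36, 59, 83, 103, 125] (v17 C) [19, 57, 80, 102, 110, 120] :=
  C.conv (f5306 C) (f5308 C) (f5660 C) _ [137, 151, 169, 171, 178] _ (by decide +kernel) (by decide +kernel) (by decide +kernel)

theorem f5662 : C.T (v17 C) [19, 57, 80, 102, 110, 120] (v17 C) [15, 36, 59, 83, 103, 125] :=
  C.flip (f5661 C)

theorem f5663 : C.T (v16 C) [22, 47, 60, 73, 109, 115] (v17 C) [22, 29, 71, 103, 119] :=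
  C.closeT (p := (v9 C)) (pu := [26, 53, 71, 97, 109, 121])
    (C.pT (f5654 C)
    (C.pH [8, 30, 65, 84, 94, 117] [22, 47, 60, 73, 109, 115] (by decide +kernel) (C.pNil _ _)))
    (C.pH [26, 38, 54, 89, 90, 113] [19, 57, 80, 102, 110, 120] (by decide +kernel)
    (C.pT (f5662 C)
    (C.pH [8, 30, 65, 84, 94, 117] [19, 37, 52, 79, 90, 109, 115] (by decide +kernel)
    (C.pT (f5659 C)
    (C.pH [26, 38, 54, 89, 90, 113] [26, 53, 71, 97, 109, 121] (by decide +kernel) (C.pNil _ _))))))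
    (C.loop_of_one (relLoop1 C) _ _)

theorem f5664 : C.T (v17 C) [22, 29, 71, 103, 119] (v16 C) [22, 47, 60, 73, 109, 115] :=
  C.flip (f5663 C)

theorem f5665 : C.T (v9 C) [21, 33, 49, 79, 108, 109, 114] (v16 C) [10, 41, 51, 71, 96, 116] :=
  C.conv (f3607 C) (f4003 C) (f4003 C) _ [137, 163, 170, 173, 177] _ (by decide +kernel) (by decide +kernel) (by decide +kernel)

theorem f5666 : C.S (v16 C) [18, 40, 55, 73, 98, 112] :=
  C.stMul (f3480 C) (f3451 C) _ (by decide +kernel)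

theorem f5667 : C.T (v16 C) [15, 48, 56, 86, 106, 124] (v16 C) [11, 28, 53, 77, 110, 118] :=
  C.conv (f3868 C) (f3871 C) (f5666 C) _ [146, 158, 164, 171, 178] _ (by decide +kernel) (by decide +kernel) (by decide +kernel)

theorem f5668 : C.S (v9 C) [11, 40, 56, 79, 103, 109, 114] :=
  C.stMul (f1615 C) (f1620 C) _ (by decide +kernel)

theorem f5669 : C.S (v9 C) [22, 28, 59, 71, 101, 109, 111] :=
  C.stMul (f1624 C) (f5668 C) _ (by decide +kernel)

theorem f5670 : C.T (v9 C) [10, 31, 68, 76, 101, 110, 116] (v17 C) [19, 29, 65, 81, 102, 114] :=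
  C.conv (f5262 C) (f5270 C) (f5669 C) _ [136, 163, 167, 174, 177] _ (by decide +kernel) (by decide +kernel) (by decide +kernel)

theorem f5671 : C.T (v17 C) [19, 29, 65, 81, 102, 114] (v9 C) [10, 31, 68, 76, 101, 110, 116] :=
  C.flip (f5670 C)

theorem f5672 : C.T (v16 C) [24, 38, 52, 75, 96, 109, 111] (v17 C) [15, 44, 53, 70, 100, 109, 116] :=
  C.closeT (p := (v9 C)) (pu := [21, 33, 49, 79, 108, 109, 114])
    (C.pT (f5665 C)
    (C.pH [8, 30, 65, 84, 94, 117] [15, 48, 56, 86, 106, 124] (by decide +kernel)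
    (C.pT (f5667 C)
    (C.pH [26, 38, 54, 89, 90, 113] [24, 38, 52, 75, 96, 109, 111] (by decide +kernel) (C.pNil _ _)))))
    (C.pH [8, 30, 65, 84, 94, 117] [19, 29, 65, 81, 102, 114] (by decide +kernel)
    (C.pT (f5671 C)
    (C.pH [26, 38, 54, 89, 90, 113] [21, 33, 49, 79, 108, 109, 114] (by decide +kernel) (C.pNil _ _))))
    (C.loop_of_one (relLoop1 C) _ _)

theorem f5673 : C.T (v17 C) [15, 44, 53, 70, 100, 109, 116] (v16 C) [24, 38, 52, 75, 96, 109, 111] :=
  C.flip (f5672 C)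

theorem f5674 : C.T (v9 C) [5, 32, 50, 80, 103, 123] (v16 C) [8, 41, 68, 82, 102, 110, 114] :=
  C.conv (f3607 C) (f4003 C) (f4003 C) _ [128, 157, 169, 176, 178] _ (by decide +kernel) (by decide +kernel) (by decide +kernel)

theorem f5675 : C.S (v16 C) [20, 29, 62, 80, 101, 124] :=
  C.stMul (f3468 C) (f3458 C) _ (by decide +kernel)

theorem f5676 : C.S (v16 C) [23, 29, 61, 89, 109, 115] :=
  C.stMul (f3468 C) (f3480 C) _ (by decide +kernel)

theorem f5677 : C.T (v16 C) [40, 59, 71, 94, 109, 121] (v17 C) [16, 48, 88, 105, 109, 116] :=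
  C.conv (f5672 C) (f5675 C) (f5676 C) _ [128, 159, 169, 178] _ (by decide +kernel) (by decide +kernel) (by decide +kernel)

theorem f5678 : C.S (v9 C) [4, 48, 53, 80, 99, 115] :=
  C.stMul (f1615 C) (f1624 C) _ (by decide +kernel)

theorem f5679 : C.T (v9 C) [14, 38, 62, 72, 102, 109, 113] (v17 C) [6, 43, 50, 75, 93, 110, 119] :=
  C.conv (f4377 C) (f4755 C) (f5678 C) _ [143, 150, 164, 176] _ (by decide +kernel) (by decide +kernel) (by decide +kernel)

theorem f5680 : C.T (v17 C) [6, 43, 50, 75, 93, 110, 119] (v9 C) [14, 38, 62, 72, 102, 109, 113] :=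
  C.flip (f5679 C)

theorem f5681 : C.T (v17 C) [13, 29, 68, 82, 94, 116] (v17 C) [22, 48, 57, 79, 106, 110, 119] :=
  C.closeT (p := (v9 C)) (pu := [5, 32, 50, 80, 103, 123])
    (C.pT (f5674 C)
    (C.pH [8, 30, 65, 84, 94, 117] [40, 59, 71, 94, 109, 121] (by decide +kernel)
    (C.pT (f5677 C)
    (C.pH [26, 38, 54, 89, 90, 113] [13, 29, 68, 82, 94, 116] (by decide +kernel) (C.pNil _ _)))))
    (C.pH [8, 30, 65, 84, 94, 117] [6, 43, 50, 75, 93, 110, 119] (by decide +kernel)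
    (C.pT (f5680 C)
    (C.pH [26, 38, 54, 89, 90, 113] [5, 32, 50, 80, 103, 123] (by decide +kernel) (C.pNil _ _))))
    (C.loop_of_one (relLoop1 C) _ _)

theorem f5682 : C.T (v17 C) [22, 48, 57, 79, 106, 110, 119] (v17 C) [13, 29, 68, 82, 94, 116] :=
  C.flip (f5681 C)

theorem f5683 : C.T (v9 C) [10, 38, 52, 77, 100, 109, 116] (v16 C) [16, 28, 57, 88, 100, 110, 112] :=
  C.conv (f3615 C) (f3626 C) (f3626 C) _ [130, 156, 166, 171, 178] _ (by decide +kernel) (by decide +kernel) (by decide +kernel)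

theorem f5684 : C.S (v9 C) [23, 37, 55, 75, 92, 110, 123] :=
  C.stMul (f1624 C) (f1607 C) _ (by decide +kernel)

theorem f5685 : C.S (v9 C) [25, 29, 52, 87, 96, 125] :=
  C.stMul (f1620 C) (f5684 C) _ (by decide +kernel)

theorem f5686 : C.S (v9 C) [18, 33, 89, 94, 112] :=
  C.stMul (f1615 C) (f5685 C) _ (by decide +kernel)

theorem f5687 : C.T (v9 C) [18, 32, 57, 89, 101, 118] (v15 C) [14, 43, 66, 87, 104, 123] :=
  C.conv (f2928 C) (f3035 C) (f5686 C) _ [145, 162, 166, 173, 177] _ (by decide +kernel) (by decide +kernel) (by decide +kernel)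

theorem f5688 : C.T (v15 C) [14, 43, 66, 87, 104, 123] (v9 C) [18, 32, 57, 89, 101, 118] :=
  C.flip (f5687 C)

theorem f5689 : C.T (v15 C) [26, 43, 56, 80, 90, 114] (v17 C) [16, 34, 67, 85, 105, 110, 116] :=
  C.conv (f5241 C) (f2569 C) (f2652 C) _ [128, 154, 170, 174] _ (by decide +kernel) (by decide +kernel) (by decide +kernel)

theorem f5690 : C.T (v17 C) [16, 34, 67, 85, 105, 110, 116] (v15 C) [26, 43, 56, 80, 90, 114] :=
  C.flip (f5689 C)

theorem f5691 : C.T (v16 C) [20, 31, 62, 80, 90, 120] (v17 C) [26, 34, 65, 74, 105, 110, 113] :=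
  C.closeT (p := (v9 C)) (pu := [10, 38, 52, 77, 100, 109, 116])
    (C.pT (f5683 C)
    (C.pH [8, 30, 65, 84, 94, 117] [20, 31, 62, 80, 90, 120] (by decide +kernel) (C.pNil _ _)))
    (C.pH [26, 38, 54, 89, 90, 113] [16, 34, 67, 85, 105, 110, 116] (by decide +kernel)
    (C.pT (f5690 C)
    (C.pH [8, 30, 65, 84, 94, 117] [14, 43, 66, 87, 104, 123] (by decide +kernel)
    (C.pT (f5688 C)
    (C.pH [26, 38, 54, 89, 90, 113] [10, 38, 52, 77, 100, 109, 116] (by decide +kernel) (C.pNil _ _))))))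
    (C.loop_of_one (relLoop1 C) _ _)

theorem f5692 : C.T (v17 C) [26, 34, 65, 74, 105, 110, 113] (v16 C) [20, 31, 62, 80, 90, 120] :=
  C.flip (f5691 C)

theorem f5693 : C.T (v9 C) [16, 51, 74, 103, 110, 114] (v16 C) [18, 36, 49, 70, 91, 123] :=
  C.conv (f3615 C) (f3626 C) (f3626 C) _ [159, 172, 178] _ (by decide +kernel) (by decide +kernel) (by decide +kernel)

theorem f5694 : C.S (v9 C) [12, 33, 53, 81, 108, 124] :=
  C.stMul (f1624 C) (f5567 C) _ (by decide +kernel)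

theorem f5695 : C.T (v9 C) [26, 29, 56, 107, 121] (v17 C) [14, 45, 69, 89, 93, 124] :=
  C.conv (f5295 C) (f5298 C) (f5694 C) _ [128, 151, 167, 176] _ (by decide +kernel) (by decide +kernel) (by decide +kernel)

theorem f5696 : C.T (v17 C) [14, 45, 69, 89, 93, 124] (v9 C) [26, 29, 56, 107, 121] :=
  C.flip (f5695 C)

theorem f5697 : C.T (v17 C) [26, 34, 68, 86, 110, 117] (v17 C) [5, 30, 59, 88, 91, 119] :=
  C.conv (f5408 C) (f4137 C) (f4137 C) _ [132, 162, 168, 175] _ (by decide +kernel) (by decide +kernel) (by decide +kernel)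

theorem f5698 : C.T (v17 C) [5, 30, 59, 88, 91, 119] (v17 C) [26, 34, 68, 86, 110, 117] :=
  C.flip (f5697 C)

theorem f5699 : C.T (v16 C) [4, 44, 52, 72, 111] (v17 C) [14, 45, 69, 75, 93, 110, 112] :=
  C.closeT (p := (v9 C)) (pu := [16, 51, 74, 103, 110, 114])
    (C.pT (f5693 C)
    (C.pH [8, 30, 65, 84, 94, 117] [4, 44, 52, 72, 111] (by decide +kernel) (C.pNil _ _)))
    (C.pH [26, 38, 54, 89, 90, 113] [5, 30, 59, 88, 91, 119] (by decide +kernel)
    (C.pT (f5698 C)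
    (C.pH [8, 30, 65, 84, 94, 117] [14, 45, 69, 89, 93, 124] (by decide +kernel)
    (C.pT (f5696 C)
    (C.pH [26, 38, 54, 89, 90, 113] [16, 51, 74, 103, 110, 114] (by decide +kernel) (C.pNil _ _))))))
    (C.loop_of_one (relLoop1 C) _ _)

theorem f5700 : C.T (v17 C) [14, 45, 69, 75, 93, 110, 112] (v16 C) [4, 44, 52, 72, 111] :=
  C.flip (f5699 C)

theorem f5701 : C.T (v9 C) [19, 41, 69, 80, 107, 109, 117] (v16 C) [25, 32, 65, 71, 94, 116] :=
  C.conv (f3615 C) (f3626 C) (f3626 C) _ [132, 158, 170, 171, 177] _ (by decide +kernel) (by decide +kernel) (by decide +kernel)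

theorem f5702 : C.S (v16 C) [18, 40, 56, 88, 99, 110, 122] :=
  C.stMul (f3458 C) (f3456 C) _ (by decide +kernel)

theorem f5703 : C.S (v16 C) [20, 29, 62, 80, 101, 124] :=
  C.stMul (f3468 C) (f3458 C) _ (by decide +kernel)

theorem f5704 : C.T (v16 C) [9, 45, 51, 73, 97, 110, 118] (v17 C) [19, 29, 53, 75, 90, 114] :=
  C.conv (f5699 C) (f5702 C) (f5703 C) _ [142, 151, 166, 173] _ (by decide +kernel) (by decide +kernel) (by decide +kernel)

theorem f5705 : C.S (v9 C) [25, 29, 50, 71, 91, 114] :=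
  C.stMul (f1620 C) (f1624 C) _ (by decide +kernel)

theorem f5706 : C.S (v9 C) [6, 46, 51, 82, 96, 109, 111] :=
  C.stMul (f1607 C) (f5705 C) _ (by decide +kernel)

theorem f5707 : C.S (v9 C) [23, 43, 68, 73, 95, 110, 113] :=
  C.stMul (f1620 C) (f5706 C) _ (by decide +kernel)

theorem f5708 : C.T (v9 C) [22, 40, 58, 81, 113] (v17 C) [26, 35, 53, 88, 92, 109, 122] :=
  C.conv (f5345 C) (f5502 C) (f5707 C) _ [147, 156, 167, 174, 177] _ (by decide +kernel) (by decide +kernel) (by decide +kernel)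

theorem f5709 : C.T (v17 C) [26, 35, 53, 88, 92, 109, 122] (v9 C) [22, 40, 58, 81, 113] :=
  C.flip (f5708 C)

theorem f5710 : C.T (v17 C) [17, 43, 57, 71, 103, 109, 123] (v17 C) [19, 44, 53, 70, 93, 109, 113] :=
  C.closeT (p := (v9 C)) (pu := [19, 41, 69, 80, 107, 109, 117])
    (C.pT (f5701 C)
    (C.pH [8, 30, 65, 84, 94, 117] [9, 45, 51, 73, 97, 110, 118] (by decide +kernel)
    (C.pT (f5704 C)
    (C.pH [26, 38, 54, 89, 90, 113] [17, 43, 57, 71, 103, 109, 123] (by decide +kernel) (C.pNil _ _)))))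
    (C.pH [8, 30, 65, 84, 94, 117] [26, 35, 53, 88, 92, 109, 122] (by decide +kernel)
    (C.pT (f5709 C)
    (C.pH [26, 38, 54, 89, 90, 113] [19, 41, 69, 80, 107, 109, 117] (by decide +kernel) (C.pNil _ _))))
    (C.loop_of_one (relLoop1 C) _ _)

theorem f5714 : C.T (v9 C) [24, 41, 53, 88, 93, 119] (v16 C) [18, 37, 51, 89, 95, 110, 115] :=
  C.conv (f3615 C) (f3626 C) (f3626 C) _ [134, 162, 169, 174, 178] _ (by decide +kernel) (by decide +kernel) (by decide +kernel)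

theorem f5715 : C.S (v16 C) [18, 48, 62, 92] :=
  C.stMul (f3456 C) (f3451 C) _ (by decide +kernel)

theorem f5716 : C.S (v16 C) [18, 40, 56, 88, 99, 110, 122] :=
  C.stMul (f3458 C) (f3456 C) _ (by decide +kernel)

theorem f5717 : C.S (v16 C) [12, 47, 60, 73, 103, 109, 115] :=
  C.stMul (f3480 C) (f5716 C) _ (by decide +kernel)

theorem f5718 : C.T (v16 C) [4, 31, 51, 80, 102, 110, 114] (v15 C) [7, 76, 103, 112] :=
  C.conv (f3582 C) (f5715 C) (f5717 C) _ [140, 163, 164, 173] _ (by decide +kernel) (by decide +kernel) (by decide +kernel)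

theorem f5719 : C.T (v9 C) [11, 39, 60, 83, 105, 109, 120] (v17 C) [6, 46, 61, 85, 91, 110, 115] :=
  C.conv (f4187 C) (f4197 C) (f1610 C) _ [147, 165] _ (by decide +kernel) (by decide +kernel) (by decide +kernel)

theorem f5720 : C.T (v17 C) [6, 46, 61, 85, 91, 110, 115] (v9 C) [11, 39, 60, 83, 105, 109, 120] :=
  C.flip (f5719 C)

theorem f5721 : C.T (v15 C) [30, 61, 76, 96, 110, 119] (v17 C) [22, 35, 65, 92, 109, 120] :=
  C.closeT (p := (v9 C)) (pu := [24, 41, 53, 88, 93, 119])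
    (C.pT (f5714 C)
    (C.pH [8, 30, 65, 84, 94, 117] [4, 31, 51, 80, 102, 110, 114] (by decide +kernel)
    (C.pT (f5718 C)
    (C.pH [26, 38, 54, 89, 90, 113] [30, 61, 76, 96, 110, 119] (by decide +kernel) (C.pNil _ _)))))
    (C.pH [8, 30, 65, 84, 94, 117] [6, 46, 61, 85, 91, 110, 115] (by decide +kernel)
    (C.pT (f5720 C)
    (C.pH [26, 38, 54, 89, 90, 113] [24, 41, 53, 88, 93, 119] (by decide +kernel) (C.pNil _ _))))
    (C.loop_of_one (relLoop1 C) _ _)

theorem f5722 : C.T (v17 C) [22, 35, 65, 92, 109, 120] (v15 C) [30, 61, 76, 96, 110, 119] :=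
  C.flip (f5721 C)

theorem f5723 : C.T (v9 C) [18, 41, 67, 82, 106, 114] (v17 C) [35, 61, 86, 97, 109, 111] :=
  C.conv (f4187 C) (f4197 C) (f4197 C) _ [133, 163, 164, 171, 177] _ (by decide +kernel) (by decide +kernel) (by decide +kernel)

theorem f5724 : C.T (v9 C) [25, 46, 61, 89, 92, 109, 116] (v9 C) [25, 33, 61, 73, 107, 110, 120] :=
  C.conv (f1669 C) (f1624 C) (f1624 C) _ [148, 150, 165, 171, 177] _ (by decide +kernel) (by decide +kernel) (by decide +kernel)

theorem f5725 : C.T (v9 C) [25, 33, 61, 73, 107, 110, 120] (v9 C) [25, 46, 61, 89, 92, 109, 116] :=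
  C.flip (f5724 C)

theorem f5726 : C.S (v9 C) [21, 32, 51, 87, 95, 109, 111] :=
  C.stMul (f1624 C) (f4903 C) _ (by decide +kernel)

theorem f5727 : C.S (v9 C) [22, 47, 59, 89, 108, 110, 111] :=
  C.stMul (f1615 C) (f5726 C) _ (by decide +kernel)

theorem f5728 : C.T (v9 C) [4, 45, 53, 115] (v17 C) [13, 38, 66, 83, 93, 110, 121] :=
  C.conv (f4187 C) (f4197 C) (f5727 C) _ [146, 151, 167, 172, 178] _ (by decide +kernel) (by decide +kernel) (by decide +kernel)

theorem f5729 : C.T (v17 C) [13, 38, 66, 83, 93, 110, 121] (v9 C) [4, 45, 53, 115] :=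
  C.flip (f5728 C)

theorem f5730 : C.T (v17 C) [8, 45, 67, 71, 105, 109, 124] (v17 C) [16, 31, 58, 70, 100, 109, 118] :=
  C.closeT (p := (v9 C)) (pu := [18, 41, 67, 82, 106, 114])
    (C.pT (f5723 C)
    (C.pH [8, 30, 65, 84, 94, 117] [8, 45, 67, 71, 105, 109, 124] (by decide +kernel) (C.pNil _ _)))
    (C.pH [26, 38, 54, 89, 90, 113] [13, 38, 66, 83, 93, 110, 121] (by decide +kernel)
    (C.pT (f5729 C)
    (C.pH [8, 30, 65, 84, 94, 117] [25, 33, 61, 73, 107, 110, 120] (by decide +kernel)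
    (C.pT (f5725 C)
    (C.pH [26, 38, 54, 89, 90, 113] [18, 41, 67, 82, 106, 114] (by decide +kernel) (C.pNil _ _))))))
    (C.loop_of_one (relLoop1 C) _ _)

theorem f5733 : C.T (v9 C) [6, 36, 55, 89, 98, 113] (v17 C) [24, 40, 64, 81, 95, 110, 117] :=
  C.conv (f4187 C) (f4197 C) (f4197 C) _ [132, 163, 167, 174] _ (by decide +kernel) (by decide +kernel) (by decide +kernel)

theorem f5734 : C.S (v9 C) [12, 29, 63, 103, 119] :=
  C.stMul (f1620 C) (f4960 C) _ (by decide +kernel)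

theorem f5735 : C.S (v9 C) [18, 46, 59, 72, 100, 109, 122] :=
  C.stMul (f1607 C) (f5734 C) _ (by decide +kernel)

theorem f5736 : C.T (v9 C) [21, 28, 51, 75, 93, 109] (v17 C) [16, 32, 64, 85, 100, 109, 123] :=
  C.conv (f4863 C) (f4877 C) (f5735 C) _ [130, 157, 165] _ (by decide +kernel) (by decide +kernel) (by decide +kernel)

theorem f5737 : C.T (v17 C) [16, 32, 64, 85, 100, 109, 123] (v9 C) [21, 28, 51, 75, 93, 109] :=
  C.flip (f5736 C)

theorem f5738 : C.S (v17 C) [23, 31, 49, 84, 96, 117] :=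
  C.stMul (f4137 C) (f4137 C) _ (by decide +kernel)

theorem f5739 : C.S (v17 C) [23, 31, 75, 92, 109, 116] :=
  C.stMul (f4137 C) (f4132 C) _ (by decide +kernel)

theorem f5740 : C.T (v17 C) [24, 41, 59, 83, 92, 114] (v4 C) [18, 48, 63, 102, 110, 121] :=
  C.conv (f5489 C) (f5738 C) (f5739 C) _ [128, 152, 164, 175] _ (by decide +kernel) (by decide +kernel) (by decide +kernel)

theorem f5741 : C.T (v4 C) [18, 48, 63, 102, 110, 121] (v17 C) [24, 41, 59, 83, 92, 114] :=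
  C.flip (f5740 C)

theorem f5742 : C.T (v17 C) [16, 42, 51, 70, 94, 120] (v4 C) [25, 67, 75, 105, 122] :=
  C.closeT (p := (v9 C)) (pu := [6, 36, 55, 89, 98, 113])
    (C.pT (f5733 C)
    (C.pH [8, 30, 65, 84, 94, 117] [16, 42, 51, 70, 94, 120] (by decide +kernel) (C.pNil _ _)))
    (C.pH [26, 38, 54, 89, 90, 113] [18, 48, 63, 102, 110, 121] (by decide +kernel)
    (C.pT (f5741 C)
    (C.pH [8, 30, 65, 84, 94, 117] [16, 32, 64, 85, 100, 109, 123] (by decide +kernel)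
    (C.pT (f5737 C)
    (C.pH [26, 38, 54, 89, 90, 113] [6, 36, 55, 89, 98, 113] (by decide +kernel) (C.pNil _ _))))))
    (C.loop_of_one (relLoop1 C) _ _)

theorem f5743 : C.T (v4 C) [25, 67, 75, 105, 122] (v17 C) [16, 42, 51, 70, 94, 120] :=
  C.flip (f5742 C)

theorem f5744 : C.T (v9 C) [41, 56, 89, 110, 114] (v17 C) [22, 27, 51, 71, 107, 110, 125] :=
  C.conv (f4187 C) (f4197 C) (f4197 C) _ [145, 159, 169, 172, 177] _ (by decide +kernel) (by decide +kernel) (by decide +kernel)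

theorem f5745 : C.S (v9 C) [13, 48, 54, 73, 93, 110, 123] :=
  C.stMul (f1620 C) (f1610 C) _ (by decide +kernel)

theorem f5746 : C.S (v9 C) [13, 40, 56, 79, 103, 109, 114] :=
  C.stMul (f1607 C) (f5745 C) _ (by decide +kernel)

theorem f5747 : C.S (v9 C) [4, 47, 63, 80, 93, 112] :=
  C.stMul (f1624 C) (f5746 C) _ (by decide +kernel)

theorem f5748 : C.T (v9 C) [7, 42, 65, 73, 106, 109, 115] (v17 C) [23, 29, 64, 72, 98, 111] :=
  C.conv (f4409 C) (f4762 C) (f5747 C) _ [138, 153, 174] _ (by decide +kernel) (by decide +kernel) (by decide +kernel)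

theorem f5749 : C.T (v17 C) [23, 29, 64, 72, 98, 111] (v9 C) [7, 42, 65, 73, 106, 109, 115] :=
  C.flip (f5748 C)

theorem f5750 : C.S (v17 C) [23, 31, 49, 84, 96, 117] :=
  C.stMul (f4137 C) (f4137 C) _ (by decide +kernel)

theorem f5751 : C.T (v17 C) [20, 27, 58, 88, 103, 109, 116] (v15 C) [22, 30, 52, 80, 90, 110, 116] :=
  C.conv (f5578 C) (f4137 C) (f5750 C) _ [133, 154, 165, 173] _ (by decide +kernel) (by decide +kernel) (by decide +kernel)

theorem f5752 : C.T (v15 C) [22, 30, 52, 80, 90, 110, 116] (v17 C) [20, 27, 58, 88, 103, 109, 116] :=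
  C.flip (f5751 C)

theorem f5753 : C.T (v17 C) [6, 32, 59, 79, 107, 109, 117] (v15 C) [9, 37, 60, 77, 98, 109] :=
  C.closeT (p := (v9 C)) (pu := [41, 56, 89, 110, 114])
    (C.pT (f5744 C)
    (C.pH [8, 30, 65, 84, 94, 117] [6, 32, 59, 79, 107, 109, 117] (by decide +kernel) (C.pNil _ _)))
    (C.pH [26, 38, 54, 89, 90, 113] [22, 30, 52, 80, 90, 110, 116] (by decide +kernel)
    (C.pT (f5752 C)
    (C.pH [8, 30, 65, 84, 94, 117] [23, 29, 64, 72, 98, 111] (by decide +kernel)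
    (C.pT (f5749 C)
    (C.pH [26, 38, 54, 89, 90, 113] [41, 56, 89, 110, 114] (by decide +kernel) (C.pNil _ _))))))
    (C.loop_of_one (relLoop1 C) _ _)

theorem f5754 : C.T (v15 C) [9, 37, 60, 77, 98, 109] (v17 C) [6, 32, 59, 79, 107, 109, 117] :=
  C.flip (f5753 C)

theorem f5755 : C.T (v9 C) [12, 41, 68, 76, 107, 110] (v17 C) [22, 35, 56, 72, 93, 109, 119] :=
  C.conv (f4201 C) (f1615 C) (f1615 C) _ [127, 163, 167, 172, 178] _ (by decide +kernel) (by decide +kernel) (by decide +kernel)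

theorem f5756 : C.S (v9 C) [13, 48, 54, 73, 93, 110, 123] :=
  C.stMul (f1620 C) (f1610 C) _ (by decide +kernel)

theorem f5757 : C.S (v9 C) [28, 53, 80, 101, 110, 112] :=
  C.stMul (f1615 C) (f5756 C) _ (by decide +kernel)

theorem f5758 : C.T (v9 C) [24, 46, 67, 79, 91, 110, 111] (v15 C) [22, 33, 61, 71, 110, 111] :=
  C.conv (f3025 C) (f4013 C) (f5757 C) _ [146, 159, 171, 178] _ (by decide +kernel) (by decide +kernel) (by decide +kernel)

theorem f5759 : C.T (v15 C) [22, 33, 61, 71, 110, 111] (v9 C) [24, 46, 67, 79, 91, 110, 111] :=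
  C.flip (f5758 C)

theorem f5760 : C.S (v15 C) [25, 46, 61, 102, 110, 119] :=
  C.stMul (f2565 C) (f2569 C) _ (by decide +kernel)

theorem f5761 : C.T (v15 C) [17, 29, 58, 80, 104, 111] (v17 C) [22, 33, 60, 80, 98, 110, 120] :=
  C.conv (f5074 C) (f5760 C) (f5760 C) _ [130, 149, 165, 175] _ (by decide +kernel) (by decide +kernel) (by decide +kernel)

theorem f5762 : C.T (v17 C) [22, 33, 60, 80, 98, 110, 120] (v15 C) [17, 29, 58, 80, 104, 111] :=
  C.flip (f5761 C)

theorem f5763 : C.T (v17 C) [6, 46, 86, 103, 119] (v17 C) [9, 45, 89, 98, 110, 118] :=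
  C.closeT (p := (v9 C)) (pu := [12, 41, 68, 76, 107, 110])
    (C.pT (f5755 C)
    (C.pH [8, 30, 65, 84, 94, 117] [6, 46, 86, 103, 119] (by decide +kernel) (C.pNil _ _)))
    (C.pH [26, 38, 54, 89, 90, 113] [22, 33, 60, 80, 98, 110, 120] (by decide +kernel)
    (C.pT (f5762 C)
    (C.pH [8, 30, 65, 84, 94, 117] [22, 33, 61, 71, 110, 111] (by decide +kernel)
    (C.pT (f5759 C)
    (C.pH [26, 38, 54, 89, 90, 113] [12, 41, 68, 76, 107, 110] (by decide +kernel) (C.pNil _ _))))))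
    (C.loop_of_one (relLoop1 C) _ _)

theorem f5764 : C.T (v17 C) [9, 45, 89, 98, 110, 118] (v17 C) [6, 46, 86, 103, 119] :=
  C.flip (f5763 C)

theorem f5765 : C.T (v9 C) [7, 35, 51, 79, 97, 110] (v17 C) [20, 36, 65, 85, 97, 109, 118] :=
  C.conv (f4225 C) (f4411 C) (f4411 C) _ [129, 162, 165, 171, 178] _ (by decide +kernel) (by decide +kernel) (by decide +kernel)

theorem f5766 : C.T (v9 C) [23, 44, 62, 75, 98, 122] (v17 C) [9, 37, 62, 77, 108, 110, 125] :=
  C.conv (f4201 C) (f1615 C) (f5107 C) _ [127, 160, 167, 175, 177] _ (by decide +kernel) (by decide +kernel) (by decide +kernel)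

theorem f5767 : C.T (v17 C) [9, 37, 62, 77, 108, 110, 125] (v9 C) [23, 44, 62, 75, 98, 122] :=
  C.flip (f5766 C)

theorem f5768 : C.S (v17 C) [23, 31, 75, 92, 109, 116] :=
  C.stMul (f4137 C) (f4132 C) _ (by decide +kernel)

theorem f5769 : C.T (v17 C) [25, 42, 55, 82, 102, 120] (v15 C) [21, 44, 53, 72, 92, 109, 112] :=
  C.conv (f5389 C) (f5768 C) (f5768 C) _ [143, 163, 172, 178] _ (by decide +kernel) (by decide +kernel) (by decide +kernel)

theorem f5770 : C.T (v15 C) [21, 44, 53, 72, 92, 109, 112] (v17 C) [25, 42, 55, 82, 102, 120] :=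
  C.flip (f5769 C)

theorem f5771 : C.T (v17 C) [23, 33, 62, 70, 114] (v15 C) [10, 30, 63, 80, 107] :=
  C.closeT (p := (v9 C)) (pu := [7, 35, 51, 79, 97, 110])
    (C.pT (f5765 C)
    (C.pH [8, 30, 65, 84, 94, 117] [23, 33, 62, 70, 114] (by decide +kernel) (C.pNil _ _)))
    (C.pH [26, 38, 54, 89, 90, 113] [21, 44, 53, 72, 92, 109, 112] (by decide +kernel)
    (C.pT (f5770 C)
    (C.pH [8, 30, 65, 84, 94, 117] [9, 37, 62, 77, 108, 110, 125] (by decide +kernel)
    (C.pT (f5767 C)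
    (C.pH [26, 38, 54, 89, 90, 113] [7, 35, 51, 79, 97, 110] (by decide +kernel) (C.pNil _ _))))))
    (C.loop_of_one (relLoop1 C) _ _)

theorem f5772 : C.T (v15 C) [10, 30, 63, 80, 107] (v17 C) [23, 33, 62, 70, 114] :=
  C.flip (f5771 C)

theorem f5773 : C.T (v9 C) [6, 35, 65, 75, 99, 110, 116] (v17 C) [24, 37, 67, 76, 104, 109, 111] :=
  C.conv (f4225 C) (f4411 C) (f4411 C) _ [128, 161, 169, 172, 178] _ (by decide +kernel) (by decide +kernel) (by decide +kernel)

theorem f5774 : C.S (v9 C) [10, 28, 53, 80, 101, 110, 112] :=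
  C.stMul (f1607 C) (f1620 C) _ (by decide +kernel)

theorem f5775 : C.S (v9 C) [21, 38, 57, 84, 103, 109, 118] :=
  C.stMul (f1624 C) (f5774 C) _ (by decide +kernel)

theorem f5776 : C.T (v9 C) [21, 45, 49, 70, 96] (v15 C) [8, 33, 65, 78, 93, 109, 113] :=
  C.conv (f2975 C) (f3307 C) (f5775 C) _ [134, 150, 168, 173] _ (by decide +kernel) (by decide +kernel) (by decide +kernel)

theorem f5777 : C.T (v15 C) [8, 33, 65, 78, 93, 109, 113] (v9 C) [21, 45, 49, 70, 96] :=
  C.flip (f5776 C)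

theorem f5778 : C.S (v15 C) [20, 39, 55, 88, 95, 110, 125] :=
  C.stMul (f2581 C) (f2565 C) _ (by decide +kernel)

theorem f5779 : C.T (v15 C) [32, 62, 103, 109, 121] (v17 C) [19, 42, 53, 81, 92, 109] :=
  C.conv (f4162 C) (f2581 C) (f5778 C) _ [128, 159, 174, 178] _ (by decide +kernel) (by decide +kernel) (by decide +kernel)

theorem f5780 : C.T (v17 C) [19, 42, 53, 81, 92, 109] (v15 C) [32, 62, 103, 109, 121] :=
  C.flip (f5779 C)

theorem f5781 : C.T (v17 C) [16, 43, 67, 76, 104, 109, 111] (v17 C) [22, 47, 61, 70, 93, 121] :=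
  C.closeT (p := (v9 C)) (pu := [6, 35, 65, 75, 99, 110, 116])
    (C.pT (f5773 C)
    (C.pH [8, 30, 65, 84, 94, 117] [16, 43, 67, 76, 104, 109, 111] (by decide +kernel) (C.pNil _ _)))
    (C.pH [26, 38, 54, 89, 90, 113] [19, 42, 53, 81, 92, 109] (by decide +kernel)
    (C.pT (f5780 C)
    (C.pH [8, 30, 65, 84, 94, 117] [8, 33, 65, 78, 93, 109, 113] (by decide +kernel)
    (C.pT (f5777 C)
    (C.pH [26, 38, 54, 89, 90, 113] [6, 35, 65, 75, 99, 110, 116] (by decide +kernel) (C.pNil _ _))))))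
    (C.loop_of_one (relLoop1 C) _ _)

theorem f5784 : C.T (v9 C) [4, 35, 51, 79, 106, 118] (v17 C) [24, 37, 49, 82, 91, 109, 123] :=
  C.conv (f4225 C) (f4411 C) (f4411 C) _ [126, 158, 168, 171, 178] _ (by decide +kernel) (by decide +kernel) (by decide +kernel)

theorem f5785 : C.S (v17 C) [23, 31, 75, 92, 109, 116] :=
  C.stMul (f4137 C) (f4132 C) _ (by decide +kernel)

theorem f5786 : C.T (v17 C) [16, 43, 49, 82, 91, 109, 123] (v17 C) [16, 40, 51, 72, 103, 110, 115] :=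
  C.conv (f5042 C) (f5785 C) (f4300 C) _ [142, 151, 168, 171, 178] _ (by decide +kernel) (by decide +kernel) (by decide +kernel)

theorem f5787 : C.T (v9 C) [6, 65, 85, 93, 109, 117] (v4 C) [30, 51, 102, 115] :=
  C.conv (f2043 C) (f2531 C) (f1615 C) _ [142, 149, 168, 173, 177] _ (by decide +kernel) (by decide +kernel) (by decide +kernel)

theorem f5788 : C.T (v4 C) [30, 51, 102, 115] (v9 C) [6, 65, 85, 93, 109, 117] :=
  C.flip (f5787 C)

theorem f5789 : C.T (v17 C) [13, 31, 50, 74, 93, 109] (v4 C) [8, 28, 65, 86, 108, 109, 116] :=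
  C.closeT (p := (v9 C)) (pu := [4, 35, 51, 79, 106, 118])
    (C.pT (f5784 C)
    (C.pH [8, 30, 65, 84, 94, 117] [16, 43, 49, 82, 91, 109, 123] (by decide +kernel)
    (C.pT (f5786 C)
    (C.pH [26, 38, 54, 89, 90, 113] [13, 31, 50, 74, 93, 109] (by decide +kernel) (C.pNil _ _)))))
    (C.pH [8, 30, 65, 84, 94, 117] [30, 51, 102, 115] (by decide +kernel)
    (C.pT (f5788 C)
    (C.pH [26, 38, 54, 89, 90, 113] [4, 35, 51, 79, 106, 118] (by decide +kernel) (C.pNil _ _))))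
    (C.loop_of_one (relLoop1 C) _ _)

theorem f5790 : C.T (v4 C) [8, 28, 65, 86, 108, 109, 116] (v17 C) [13, 31, 50, 74, 93, 109] :=
  C.flip (f5789 C)

theorem f5791 : C.T (v9 C) [10, 49, 79, 107, 118] (v17 C) [25, 27, 52, 76, 96, 117] :=
  C.conv (f4225 C) (f4411 C) (f4411 C) _ [132, 155, 165, 171, 178] _ (by decide +kernel) (by decide +kernel) (by decide +kernel)

theorem f5792 : C.T (v17 C) [9, 38, 55, 75, 108, 109, 125] (v17 C) [18, 35, 68, 85, 109, 124] :=
  C.conv (f5326 C) (f5328 C) (f4137 C) _ [142, 160, 168, 171, 177] _ (by decide +kernel) (by decide +kernel) (by decide +kernel)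

theorem f5793 : C.T (v9 C) [18, 44, 67, 76, 106, 110, 117] (v17 C) [5, 39, 53, 81, 103, 110, 113] :=
  C.conv (f4377 C) (f4755 C) (f5087 C) _ [141, 156, 164, 177] _ (by decide +kernel) (by decide +kernel) (by decide +kernel)

theorem f5794 : C.T (v17 C) [5, 39, 53, 81, 103, 110, 113] (v9 C) [18, 44, 67, 76, 106, 110, 117] :=
  C.flip (f5793 C)

theorem f5795 : C.T (v17 C) [10, 34, 50, 74, 95, 109] (v17 C) [14, 33, 58, 76, 101, 109, 124] :=
  C.closeT (p := (v9 C)) (pu := [10, 49, 79, 107, 118])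
    (C.pT (f5791 C)
    (C.pH [8, 30, 65, 84, 94, 117] [9, 38, 55, 75, 108, 109, 125] (by decide +kernel)
    (C.pT (f5792 C)
    (C.pH [26, 38, 54, 89, 90, 113] [10, 34, 50, 74, 95, 109] (by decide +kernel) (C.pNil _ _)))))
    (C.pH [8, 30, 65, 84, 94, 117] [5, 39, 53, 81, 103, 110, 113] (by decide +kernel)
    (C.pT (f5794 C)
    (C.pH [26, 38, 54, 89, 90, 113] [10, 49, 79, 107, 118] (by decide +kernel) (C.pNil _ _))))
    (C.loop_of_one (relLoop1 C) _ _)

theorem f5796 : C.T (v17 C) [14, 33, 58, 76, 101, 109, 124] (v17 C) [10, 34, 50, 74, 95, 109] :=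
  C.flip (f5795 C)

theorem f5797 : C.T (v9 C) [13, 33, 65, 72, 104, 110, 116] (v17 C) [5, 30, 63, 86, 101, 123] :=
  C.conv (f4232 C) (f1610 C) (f1610 C) _ [135, 150, 164, 178] _ (by decide +kernel) (by decide +kernel) (by decide +kernel)

theorem f5798 : C.T (v17 C) [12, 31, 66, 85, 93, 110, 114] (v17 C) [14, 34, 52, 78, 107, 109, 115] :=
  C.conv (f5036 C) (f4137 C) (f4132 C) _ [147, 153, 175, 177] _ (by decide +kernel) (by decide +kernel) (by decide +kernel)

theorem f5799 : C.S (v9 C) [11, 45, 66, 71, 92, 109, 125] :=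
  C.stMul (f1610 C) (f1607 C) _ (by decide +kernel)

theorem f5800 : C.S (v9 C) [13, 48, 69, 83, 106, 116] :=
  C.stMul (f1620 C) (f5799 C) _ (by decide +kernel)

theorem f5801 : C.S (v9 C) [4, 28, 57, 77, 98, 109, 116] :=
  C.stMul (f1624 C) (f5800 C) _ (by decide +kernel)

theorem f5802 : C.S (v9 C) [18, 35, 61, 81, 90, 109, 114] :=
  C.stMul (f1620 C) (f5801 C) _ (by decide +kernel)

theorem f5803 : C.T (v9 C) [16, 46, 50, 83, 103, 109, 123] (v17 C) [16, 31, 62, 87, 113] :=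
  C.conv (f5345 C) (f5502 C) (f5802 C) _ [142, 155, 176, 178] _ (by decide +kernel) (by decide +kernel) (by decide +kernel)

theorem f5804 : C.T (v17 C) [16, 31, 62, 87, 113] (v9 C) [16, 46, 50, 83, 103, 109, 123] :=
  C.flip (f5803 C)

theorem f5805 : C.T (v17 C) [5, 36, 69, 73, 99, 110, 122] (v17 C) [24, 45, 58, 78, 105, 110, 112] :=
  C.closeT (p := (v9 C)) (pu := [13, 33, 65, 72, 104, 110, 116])
    (C.pT (f5797 C)
    (C.pH [8, 30, 65, 84, 94, 117] [12, 31, 66, 85, 93, 110, 114] (by decide +kernel)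
    (C.pT (f5798 C)
    (C.pH [26, 38, 54, 89, 90, 113] [5, 36, 69, 73, 99, 110, 122] (by decide +kernel) (C.pNil _ _)))))
    (C.pH [8, 30, 65, 84, 94, 117] [16, 31, 62, 87, 113] (by decide +kernel)
    (C.pT (f5804 C)
    (C.pH [26, 38, 54, 89, 90, 113] [13, 33, 65, 72, 104, 110, 116] (by decide +kernel) (C.pNil _ _))))
    (C.loop_of_one (relLoop1 C) _ _)

theorem f5807 : C.S (v17 C) [23, 31, 49, 84, 96, 117] :=
  C.stMul (f4137 C) (f4137 C) _ (by decide +kernel)

theorem f5809 : C.T (v9 C) [13, 43, 51, 73, 102, 110, 123] (v17 C) [13, 41, 59, 77, 99, 110] :=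
  C.conv (f4247 C) (f1624 C) (f1624 C) _ [130, 170, 172, 177] _ (by decide +kernel) (by decide +kernel) (by decide +kernel)

theorem f5810 : C.T (v9 C) [16, 41, 52, 70, 98, 109, 119] (v16 C) [5, 46, 60, 81, 109, 117] :=
  C.conv (f3959 C) (f4016 C) (f4041 C) _ [129, 156, 169, 174, 177] _ (by decide +kernel) (by decide +kernel) (by decide +kernel)

theorem f5811 : C.T (v16 C) [5, 46, 60, 81, 109, 117] (v9 C) [16, 41, 52, 70, 98, 109, 119] :=
  C.flip (f5810 C)

theorem f5812 : C.S (v16 C) [28, 55, 71, 105, 109, 119] :=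
  C.stMul (f3458 C) (f3451 C) _ (by decide +kernel)

theorem f5813 : C.S (v16 C) [22, 29, 51, 75, 99, 109, 120] :=
  C.stMul (f3468 C) (f5812 C) _ (by decide +kernel)

theorem f5814 : C.S (v16 C) [18, 40, 55, 73, 98, 112] :=
  C.stMul (f3480 C) (f3451 C) _ (by decide +kernel)

theorem f5815 : C.S (v16 C) [11, 40, 62, 81, 115] :=
  C.stMul (f3468 C) (f5814 C) _ (by decide +kernel)

theorem f5816 : C.T (v16 C) [14, 34, 56, 78, 91, 109, 117] (v17 C) [14, 44, 67, 89, 97, 110, 118] :=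
  C.conv (f5663 C) (f5813 C) (f5815 C) _ [127, 160, 168, 175, 178] _ (by decide +kernel) (by decide +kernel) (by decide +kernel)

theorem f5817 : C.T (v17 C) [14, 44, 67, 89, 97, 110, 118] (v16 C) [14, 34, 56, 78, 91, 109, 117] :=
  C.flip (f5816 C)

theorem f5818 : C.T (v17 C) [11, 30, 58, 89, 108, 109, 117] (v17 C) [12, 37, 55, 79, 95, 110, 112] :=
  C.closeT (p := (v9 C)) (pu := [13, 43, 51, 73, 102, 110, 123])
    (C.pT (f5809 C)
    (C.pH [8, 30, 65, 84, 94, 117] [11, 30, 58, 89, 108, 109, 117] (by decide +kernel) (C.pNil _ _)))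
    (C.pH [26, 38, 54, 89, 90, 113] [14, 44, 67, 89, 97, 110, 118] (by decide +kernel)
    (C.pT (f5817 C)
    (C.pH [8, 30, 65, 84, 94, 117] [5, 46, 60, 81, 109, 117] (by decide +kernel)
    (C.pT (f5811 C)
    (C.pH [26, 38, 54, 89, 90, 113] [13, 43, 51, 73, 102, 110, 123] (by decide +kernel) (C.pNil _ _))))))
    (C.loop_of_one (relLoop1 C) _ _)

theorem f5819 : C.T (v17 C) [12, 37, 55, 79, 95, 110, 112] (v17 C) [11, 30, 58, 89, 108, 109, 117] :=
  C.flip (f5818 C)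

theorem f5820 : C.T (v9 C) [14, 30, 69, 99, 109, 124] (v17 C) [14, 28, 63, 80, 93, 113] :=
  C.conv (f4247 C) (f1624 C) (f1624 C) _ [126, 155, 171, 177] _ (by decide +kernel) (by decide +kernel) (by decide +kernel)

theorem f5821 : C.S (v9 C) [13, 48, 54, 73, 93, 110, 123] :=
  C.stMul (f1620 C) (f1610 C) _ (by decide +kernel)

theorem f5822 : C.S (v9 C) [13, 40, 56, 79, 103, 109, 114] :=
  C.stMul (f1607 C) (f5821 C) _ (by decide +kernel)

theorem f5823 : C.T (v9 C) [12, 47, 53, 72, 96, 114] (v17 C) [14, 30, 69, 76, 107, 109, 122] :=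
  C.conv (f4187 C) (f4197 C) (f5822 C) _ [141, 157, 169, 174, 177] _ (by decide +kernel) (by decide +kernel) (by decide +kernel)

theorem f5824 : C.T (v17 C) [14, 30, 69, 76, 107, 109, 122] (v9 C) [12, 47, 53, 72, 96, 114] :=
  C.flip (f5823 C)

theorem f5825 : C.S (v17 C) [23, 31, 75, 92, 109, 116] :=
  C.stMul (f4137 C) (f4132 C) _ (by decide +kernel)

theorem f5826 : C.T (v17 C) [26, 28, 68, 74, 103, 109, 125] (v17 C) [7, 31, 60, 79, 100, 120] :=
  C.conv (f5399 C) (f4137 C) (f5825 C) _ [138, 158, 167, 173] _ (by decide +kernel) (by decide +kernel) (by decide +kernel)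

theorem f5827 : C.T (v17 C) [7, 31, 60, 79, 100, 120] (v17 C) [26, 28, 68, 74, 103, 109, 125] :=
  C.flip (f5826 C)

theorem f5828 : C.T (v17 C) [5, 33, 50, 81, 106, 110, 117] (v17 C) [23, 45, 62, 86, 95, 110] :=
  C.closeT (p := (v9 C)) (pu := [14, 30, 69, 99, 109, 124])
    (C.pT (f5820 C)
    (C.pH [8, 30, 65, 84, 94, 117] [5, 33, 50, 81, 106, 110, 117] (by decide +kernel) (C.pNil _ _)))
    (C.pH [26, 38, 54, 89, 90, 113] [7, 31, 60, 79, 100, 120] (by decide +kernel)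
    (C.pT (f5827 C)
    (C.pH [8, 30, 65, 84, 94, 117] [14, 30, 69, 76, 107, 109, 122] (by decide +kernel)
    (C.pT (f5824 C)
    (C.pH [26, 38, 54, 89, 90, 113] [14, 30, 69, 99, 109, 124] (by decide +kernel) (C.pNil _ _))))))
    (C.loop_of_one (relLoop1 C) _ _)

theorem f5829 : C.T (v17 C) [23, 45, 62, 86, 95, 110] (v17 C) [5, 33, 50, 81, 106, 110, 117] :=
  C.flip (f5828 C)

theorem f5830 : C.T (v9 C) [16, 38, 55, 82, 95, 110, 124] (v17 C) [16, 40, 56, 74, 105, 124] :=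
  C.conv (f4247 C) (f1624 C) (f1624 C) _ [152, 164, 173] _ (by decide +kernel) (by decide +kernel) (by decide +kernel)

theorem f5831 : C.S (v9 C) [10, 28, 53, 80, 101, 110, 112] :=
  C.stMul (f1607 C) (f1620 C) _ (by decide +kernel)

theorem f5832 : C.S (v9 C) [21, 38, 57, 84, 103, 109, 118] :=
  C.stMul (f1624 C) (f5831 C) _ (by decide +kernel)

theorem f5833 : C.T (v9 C) [26, 35, 63, 74, 108, 109, 125] (v17 C) [45, 65, 72, 95, 111] :=
  C.conv (f4804 C) (f4895 C) (f5832 C) _ [129, 158, 166] _ (by decide +kernel) (by decide +kernel) (by decide +kernel)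

theorem f5834 : C.T (v17 C) [45, 65, 72, 95, 111] (v9 C) [26, 35, 63, 74, 108, 109, 125] :=
  C.flip (f5833 C)

theorem f5835 : C.T (v17 C) [8, 47, 76, 101, 110, 120] (v4 C) [13, 28, 69, 73, 90, 110, 114] :=
  C.conv (f5527 C) (f4137 C) (f4132 C) _ [143, 161, 164, 171, 177] _ (by decide +kernel) (by decide +kernel) (by decide +kernel)

theorem f5836 : C.T (v4 C) [13, 28, 69, 73, 90, 110, 114] (v17 C) [8, 47, 76, 101, 110, 120] :=
  C.flip (f5835 C)

theorem f5837 : C.T (v17 C) [20, 42, 49, 82, 91, 109] (v4 C) [16, 33, 49, 82, 103, 110, 112] :=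
  C.closeT (p := (v9 C)) (pu := [16, 38, 55, 82, 95, 110, 124])
    (C.pT (f5830 C)
    (C.pH [8, 30, 65, 84, 94, 117] [20, 42, 49, 82, 91, 109] (by decide +kernel) (C.pNil _ _)))
    (C.pH [26, 38, 54, 89, 90, 113] [13, 28, 69, 73, 90, 110, 114] (by decide +kernel)
    (C.pT (f5836 C)
    (C.pH [8, 30, 65, 84, 94, 117] [45, 65, 72, 95, 111] (by decide +kernel)
    (C.pT (f5834 C)
    (C.pH [26, 38, 54, 89, 90, 113] [16, 38, 55, 82, 95, 110, 124] (by decide +kernel) (C.pNil _ _))))))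
    (C.loop_of_one (relLoop1 C) _ _)

theorem f5838 : C.T (v4 C) [16, 33, 49, 82, 103, 110, 112] (v17 C) [20, 42, 49, 82, 91, 109] :=
  C.flip (f5837 C)

theorem f5839 : C.T (v9 C) [5, 28, 49, 78, 94, 110, 118] (v17 C) [15, 43, 67, 78, 102, 109, 116] :=
  C.conv (f4377 C) (f4755 C) (f4755 C) _ [136, 152, 166, 177] _ (by decide +kernel) (by decide +kernel) (by decide +kernel)

theorem f5840 : C.S (v9 C) [22, 48, 68, 83, 104, 125] :=
  C.stMul (f1624 C) (f1610 C) _ (by decide +kernel)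

theorem f5841 : C.S (v9 C) [6, 35, 59, 84, 106, 110, 112] :=
  C.stMul (f1620 C) (f5840 C) _ (by decide +kernel)

theorem f5842 : C.S (v9 C) [6, 29, 53, 80, 106, 109, 118] :=
  C.stMul (f1624 C) (f5841 C) _ (by decide +kernel)

theorem f5843 : C.T (v9 C) [14, 48, 62, 80, 106, 109, 120] (v17 C) [15, 29, 68, 82, 100, 114] :=
  C.conv (f5295 C) (f5298 C) (f5842 C) _ [126, 151, 173, 178] _ (by decide +kernel) (by decide +kernel) (by decide +kernel)

theorem f5844 : C.T (v17 C) [15, 29, 68, 82, 100, 114] (v9 C) [14, 48, 62, 80, 106, 109, 120] :=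
  C.flip (f5843 C)

theorem f5845 : C.S (v17 C) [23, 31, 75, 92, 109, 116] :=
  C.stMul (f4137 C) (f4132 C) _ (by decide +kernel)

theorem f5846 : C.T (v17 C) [10, 27, 56, 91, 109] (v4 C) [17, 65, 76, 91, 122] :=
  C.conv (f5168 C) (f5845 C) (f4137 C) _ [136, 149, 167, 172] _ (by decide +kernel) (by decide +kernel) (by decide +kernel)

theorem f5847 : C.T (v4 C) [17, 65, 76, 91, 122] (v17 C) [10, 27, 56, 91, 109] :=
  C.flip (f5846 C)

theorem f5848 : C.T (v17 C) [19, 35, 65, 74, 97, 109, 114] (v4 C) [19, 30, 57, 77, 95, 113] :=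
  C.closeT (p := (v9 C)) (pu := [5, 28, 49, 78, 94, 110, 118])
    (C.pT (f5839 C)
    (C.pH [8, 30, 65, 84, 94, 117] [19, 35, 65, 74, 97, 109, 114] (by decide +kernel) (C.pNil _ _)))
    (C.pH [26, 38, 54, 89, 90, 113] [17, 65, 76, 91, 122] (by decide +kernel)
    (C.pT (f5847 C)
    (C.pH [8, 30, 65, 84, 94, 117] [15, 29, 68, 82, 100, 114] (by decide +kernel)
    (C.pT (f5844 C)
    (C.pH [26, 38, 54, 89, 90, 113] [5, 28, 49, 78, 94, 110, 118] (by decide +kernel) (C.pNil _ _))))))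
    (C.loop_of_one (relLoop1 C) _ _)

theorem f5849 : C.T (v4 C) [19, 30, 57, 77, 95, 113] (v17 C) [19, 35, 65, 74, 97, 109, 114] :=
  C.flip (f5848 C)

theorem f5850 : C.T (v9 C) [25, 43, 63, 72, 103, 109, 125] (v17 C) [10, 35, 62, 87, 94, 109, 121] :=
  C.conv (f4377 C) (f4755 C) (f4755 C) _ [146, 151, 169, 171, 177] _ (by decide +kernel) (by decide +kernel) (by decide +kernel)

theorem f5851 : C.S (v9 C) [21, 38, 55, 89, 107, 110, 122] :=
  C.stMul (f1624 C) (f5046 C) _ (by decide +kernel)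

theorem f5852 : C.T (v9 C) [4, 37, 55, 79, 108, 110, 115] (v17 C) [17, 27, 49, 89, 97, 120] :=
  C.conv (f4201 C) (f1615 C) (f5851 C) _ [131, 157, 166, 172, 177] _ (by decide +kernel) (by decide +kernel) (by decide +kernel)

theorem f5853 : C.T (v17 C) [17, 27, 49, 89, 97, 120] (v9 C) [4, 37, 55, 79, 108, 110, 115] :=
  C.flip (f5852 C)

theorem f5854 : C.T (v17 C) [7, 36, 60, 89, 103, 109, 112] (v17 C) [13, 37, 50, 70, 100, 109, 123] :=
  C.conv (f5113 C) (f4300 C) (f4137 C) _ [145, 159, 166, 172, 178] _ (by decide +kernel) (by decide +kernel) (by decide +kernel)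

theorem f5855 : C.T (v17 C) [13, 37, 50, 70, 100, 109, 123] (v17 C) [7, 36, 60, 89, 103, 109, 112] :=
  C.flip (f5854 C)

theorem f5856 : C.T (v17 C) [15, 38, 50, 87, 98, 110, 118] (v17 C) [16, 44, 67, 85, 101, 119] :=
  C.closeT (p := (v9 C)) (pu := [25, 43, 63, 72, 103, 109, 125])
    (C.pT (f5850 C)
    (C.pH [8, 30, 65, 84, 94, 117] [15, 38, 50, 87, 98, 110, 118] (by decide +kernel) (C.pNil _ _)))
    (C.pH [26, 38, 54, 89, 90, 113] [13, 37, 50, 70, 100, 109, 123] (by decide +kernel)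
    (C.pT (f5855 C)
    (C.pH [8, 30, 65, 84, 94, 117] [17, 27, 49, 89, 97, 120] (by decide +kernel)
    (C.pT (f5853 C)
    (C.pH [26, 38, 54, 89, 90, 113] [25, 43, 63, 72, 103, 109, 125] (by decide +kernel) (C.pNil _ _))))))
    (C.loop_of_one (relLoop1 C) _ _)

theorem f5858 : C.S (v17 C) [23, 31, 49, 84, 96, 117] :=
  C.stMul (f4137 C) (f4137 C) _ (by decide +kernel)

theorem f5860 : C.T (v9 C) [18, 41, 59, 74, 98, 109, 125] (v17 C) [17, 48, 64, 74, 107, 109, 114] :=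
  C.conv (f4409 C) (f4762 C) (f4762 C) _ [135, 153, 167, 172, 178] _ (by decide +kernel) (by decide +kernel) (by decide +kernel)

theorem f5861 : C.S (v9 C) [21, 32, 51, 87, 95, 109, 111] :=
  C.stMul (f1624 C) (f2523 C) _ (by decide +kernel)

theorem f5862 : C.S (v9 C) [12, 29, 53, 80, 106, 109, 118] :=
  C.stMul (f1620 C) (f5861 C) _ (by decide +kernel)

theorem f5863 : C.T (v9 C) [25, 46, 57, 88, 104, 109, 112] (v10 C) [4, 38, 79, 100, 110, 124] :=
  C.conv (f2033 C) (f2523 C) (f5862 C) _ [131, 153, 169, 173, 177] _ (by decide +kernel) (by decide +kernel) (by decide +kernel)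

theorem f5864 : C.T (v10 C) [4, 38, 79, 100, 110, 124] (v9 C) [25, 46, 57, 88, 104, 109, 112] :=
  C.flip (f5863 C)

theorem f5865 : C.S (v10 C) [23, 28, 62, 82, 97, 109, 114] :=
  C.stMul (f1709 C) (f1714 C) _ (by decide +kernel)

theorem f5866 : C.S (v10 C) [18, 41, 51, 92, 109, 117] :=
  C.stMul (f1714 C) (f5865 C) _ (by decide +kernel)

theorem f5867 : C.S (v10 C) [11, 38, 49, 79, 100, 119] :=
  C.stMul (f1722 C) (f5866 C) _ (by decide +kernel)

theorem f5868 : C.S (v10 C) [12, 29, 59, 82, 105, 117] :=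
  C.stMul (f1709 C) (f1699 C) _ (by decide +kernel)

theorem f5869 : C.S (v10 C) [20, 29, 67, 83, 102, 110, 114] :=
  C.stMul (f1704 C) (f5868 C) _ (by decide +kernel)

theorem f5870 : C.S (v10 C) [43, 66, 70, 98, 109, 122] :=
  C.stMul (f1714 C) (f5869 C) _ (by decide +kernel)

theorem f5871 : C.T (v10 C) [18, 31, 54, 74, 96, 110, 122] (v17 C) [24, 47, 55, 89, 91, 120] :=
  C.conv (f5151 C) (f5867 C) (f5870 C) _ [145, 162, 173] _ (by decide +kernel) (by decide +kernel) (by decide +kernel)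

theorem f5872 : C.T (v17 C) [24, 47, 55, 89, 91, 120] (v10 C) [18, 31, 54, 74, 96, 110, 122] :=
  C.flip (f5871 C)

theorem f5873 : C.T (v17 C) [22, 30, 52, 77, 99, 110, 122] (v17 C) [11, 27, 69, 77, 106, 109, 113] :=
  C.closeT (p := (v9 C)) (pu := [18, 41, 59, 74, 98, 109, 125])
    (C.pT (f5860 C)
    (C.pH [8, 30, 65, 84, 94, 117] [22, 30, 52, 77, 99, 110, 122] (by decide +kernel) (C.pNil _ _)))
    (C.pH [26, 38, 54, 89, 90, 113] [24, 47, 55, 89, 91, 120] (by decide +kernel)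
    (C.pT (f5872 C)
    (C.pH [8, 30, 65, 84, 94, 117] [4, 38, 79, 100, 110, 124] (by decide +kernel)
    (C.pT (f5864 C)
    (C.pH [26, 38, 54, 89, 90, 113] [18, 41, 59, 74, 98, 109, 125] (by decide +kernel) (C.pNil _ _))))))
    (C.loop_of_one (relLoop1 C) _ _)

theorem f5874 : C.T (v17 C) [11, 27, 69, 77, 106, 109, 113] (v17 C) [22, 30, 52, 77, 99, 110, 122] :=
  C.flip (f5873 C)

theorem f5875 : C.T (v9 C) [11, 45, 54, 77, 94, 113] (v17 C) [9, 42, 59, 71, 93, 109] :=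
  C.conv (f4409 C) (f4762 C) (f4762 C) _ [130, 160, 166, 173, 178] _ (by decide +kernel) (by decide +kernel) (by decide +kernel)

theorem f5876 : C.T (v17 C) [18, 28, 82, 100, 113] (v17 C) [7, 35, 64, 83, 103, 109, 114] :=
  C.conv (f5606 C) (f4300 C) (f4137 C) _ [161, 167, 171, 177] _ (by decide +kernel) (by decide +kernel) (by decide +kernel)

theorem f5877 : C.S (v9 C) [47, 79, 100, 110, 114] :=
  C.stMul (f1620 C) (f1615 C) _ (by decide +kernel)

theorem f5878 : C.S (v9 C) [23, 38, 55, 89, 107, 110, 122] :=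
  C.stMul (f1624 C) (f5877 C) _ (by decide +kernel)

theorem f5879 : C.T (v9 C) [8, 27, 56, 75, 90, 109, 117] (v17 C) [21, 36, 52, 76, 96, 117] :=
  C.conv (f4225 C) (f4411 C) (f5878 C) _ [131, 168, 173, 178] _ (by decide +kernel) (by decide +kernel) (by decide +kernel)

theorem f5880 : C.T (v17 C) [21, 36, 52, 76, 96, 117] (v9 C) [8, 27, 56, 75, 90, 109, 117] :=
  C.flip (f5879 C)

theorem f5881 : C.T (v17 C) [31, 56, 85, 102, 109, 121] (v17 C) [12, 28, 49, 85, 101, 116] :=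
  C.closeT (p := (v9 C)) (pu := [11, 45, 54, 77, 94, 113])
    (C.pT (f5875 C)
    (C.pH [8, 30, 65, 84, 94, 117] [18, 28, 82, 100, 113] (by decide +kernel)
    (C.pT (f5876 C)
    (C.pH [26, 38, 54, 89, 90, 113] [31, 56, 85, 102, 109, 121] (by decide +kernel) (C.pNil _ _)))))
    (C.pH [8, 30, 65, 84, 94, 117] [21, 36, 52, 76, 96, 117] (by decide +kernel)
    (C.pT (f5880 C)
    (C.pH [26, 38, 54, 89, 90, 113] [11, 45, 54, 77, 94, 113] (by decide +kernel) (C.pNil _ _))))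
    (C.loop_of_one (relLoop1 C) _ _)

theorem f5886 : C.T (v9 C) [15, 36, 63, 88, 107] (v17 C) [23, 39, 51, 79, 99, 120] :=
  C.conv (f4409 C) (f4762 C) (f4762 C) _ [135, 155, 168, 171] _ (by decide +kernel) (by decide +kernel) (by decide +kernel)

theorem f5887 : C.T (v9 C) [20, 35, 66, 81, 95, 110, 123] (v9 C) [18, 38, 50, 73, 99, 109, 113] :=
  C.conv (f1655 C) (f1657 C) (f1624 C) _ [135, 157, 164, 174, 178] _ (by decide +kernel) (by decide +kernel) (by decide +kernel)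

theorem f5888 : C.T (v9 C) [18, 38, 50, 73, 99, 109, 113] (v9 C) [20, 35, 66, 81, 95, 110, 123] :=
  C.flip (f5887 C)

theorem f5889 : C.T (v9 C) [9, 47, 69, 79, 101, 110, 124] (v17 C) [6, 35, 68, 70, 94, 110, 114] :=
  C.conv (f4409 C) (f4762 C) (f4763 C) _ [129, 157, 167, 176, 177] _ (by decide +kernel) (by decide +kernel) (by decide +kernel)

theorem f5890 : C.T (v17 C) [6, 35, 68, 70, 94, 110, 114] (v9 C) [9, 47, 69, 79, 101, 110, 124] :=
  C.flip (f5889 C)

theorem f5891 : C.T (v17 C) [10, 36, 62, 71, 92, 109, 112] (v17 C) [21, 45, 69, 88, 106, 113] :=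
  C.closeT (p := (v9 C)) (pu := [15, 36, 63, 88, 107])
    (C.pT (f5886 C)
    (C.pH [8, 30, 65, 84, 94, 117] [10, 36, 62, 71, 92, 109, 112] (by decide +kernel) (C.pNil _ _)))
    (C.pH [26, 38, 54, 89, 90, 113] [6, 35, 68, 70, 94, 110, 114] (by decide +kernel)
    (C.pT (f5890 C)
    (C.pH [8, 30, 65, 84, 94, 117] [18, 38, 50, 73, 99, 109, 113] (by decide +kernel)
    (C.pT (f5888 C)
    (C.pH [26, 38, 54, 89, 90, 113] [15, 36, 63, 88, 107] (by decide +kernel) (C.pNil _ _))))))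
    (C.loop_of_one (relLoop1 C) _ _)

theorem f5894 : C.T (v9 C) [8, 47, 50, 73, 108, 110, 124] (v17 C) [18, 35, 65, 70, 104, 117] :=
  C.conv (f4409 C) (f4762 C) (f4762 C) _ [126, 161, 168, 172, 178] _ (by decide +kernel) (by decide +kernel) (by decide +kernel)

theorem f5895 : C.S (v17 C) [51, 81, 96, 109, 125] :=
  C.stMul (f4132 C) (f4137 C) _ (by decide +kernel)

theorem f5896 : C.T (v17 C) [4, 36, 64, 86, 90, 110, 125] (v17 C) [15, 29, 58, 83, 107, 124] :=
  C.conv (f5036 C) (f4137 C) (f5895 C) _ [142, 153, 166, 176, 178] _ (by decide +kernel) (by decide +kernel) (by decide +kernel)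

theorem f5897 : C.S (v9 C) [21, 32, 51, 87, 95, 109, 111] :=
  C.stMul (f1624 C) (f4875 C) _ (by decide +kernel)

theorem f5898 : C.T (v9 C) [5, 44, 65, 85, 101, 124] (v17 C) [24, 31, 66, 85, 97, 110, 123] :=
  C.conv (f4863 C) (f4877 C) (f5897 C) _ [128, 156, 170, 178] _ (by decide +kernel) (by decide +kernel) (by decide +kernel)

theorem f5899 : C.T (v17 C) [24, 31, 66, 85, 97, 110, 123] (v9 C) [5, 44, 65, 85, 101, 124] :=
  C.flip (f5898 C)

theorem f5900 : C.T (v17 C) [9, 37, 58, 78, 91, 110] (v17 C) [21, 40, 51, 87, 110, 125] :=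
  C.closeT (p := (v9 C)) (pu := [8, 47, 50, 73, 108, 110, 124])
    (C.pT (f5894 C)
    (C.pH [8, 30, 65, 84, 94, 117] [4, 36, 64, 86, 90, 110, 125] (by decide +kernel)
    (C.pT (f5896 C)
    (C.pH [26, 38, 54, 89, 90, 113] [9, 37, 58, 78, 91, 110] (by decide +kernel) (C.pNil _ _)))))
    (C.pH [8, 30, 65, 84, 94, 117] [24, 31, 66, 85, 97, 110, 123] (by decide +kernel)
    (C.pT (f5899 C)
    (C.pH [26, 38, 54, 89, 90, 113] [8, 47, 50, 73, 108, 110, 124] (by decide +kernel) (C.pNil _ _))))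
    (C.loop_of_one (relLoop1 C) _ _)

theorem f5902 : C.S (v17 C) [51, 81, 96, 109, 125] :=
  C.stMul (f4132 C) (f4137 C) _ (by decide +kernel)

theorem f5903 : C.S (v17 C) [23, 31, 49, 84, 96, 117] :=
  C.stMul (f4137 C) (f4137 C) _ (by decide +kernel)

theorem f5905 : C.T (v9 C) [20, 46, 59, 89, 99, 116] (v17 C) [13, 42, 57, 88, 90, 109, 116] :=
  C.conv (f4589 C) (f4610 C) (f4610 C) _ [127, 158, 165] _ (by decide +kernel) (by decide +kernel) (by decide +kernel)

theorem f5906 : C.S (v9 C) [11, 40, 56, 79, 103, 109, 114] :=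
  C.stMul (f1615 C) (f1620 C) _ (by decide +kernel)

theorem f5907 : C.T (v9 C) [17, 33, 69, 73, 105, 110, 124] (v10 C) [9, 30, 68, 80, 97, 114] :=
  C.conv (f2002 C) (f3429 C) (f5906 C) _ [133, 156, 168, 172] _ (by decide +kernel) (by decide +kernel) (by decide +kernel)

theorem f5908 : C.T (v10 C) [9, 30, 68, 80, 97, 114] (v9 C) [17, 33, 69, 73, 105, 110, 124] :=
  C.flip (f5907 C)

theorem f5909 : C.S (v10 C) [12, 29, 59, 82, 105, 117] :=
  C.stMul (f1709 C) (f1699 C) _ (by decide +kernel)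

theorem f5910 : C.S (v10 C) [22, 34, 56, 72, 106, 110, 125] :=
  C.stMul (f1704 C) (f1699 C) _ (by decide +kernel)

theorem f5911 : C.S (v10 C) [18, 29, 60, 70, 98, 110, 119] :=
  C.stMul (f1709 C) (f5910 C) _ (by decide +kernel)

theorem f5912 : C.S (v10 C) [11, 31, 65, 85, 101, 109, 111] :=
  C.stMul (f1722 C) (f5911 C) _ (by decide +kernel)

theorem f5913 : C.T (v10 C) [25, 34, 49, 87, 91, 110, 117] (v17 C) [18, 27, 59, 101, 116] :=
  C.conv (f4785 C) (f5909 C) (f5912 C) _ [144, 154, 165, 174] _ (by decide +kernel) (by decide +kernel) (by decide +kernel)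

theorem f5914 : C.T (v17 C) [18, 27, 59, 101, 116] (v10 C) [25, 34, 49, 87, 91, 110, 117] :=
  C.flip (f5913 C)

theorem f5915 : C.T (v17 C) [11, 34, 64, 86, 100, 117] (v17 C) [25, 31, 56, 83, 98, 110, 120] :=
  C.closeT (p := (v9 C)) (pu := [20, 46, 59, 89, 99, 116])
    (C.pT (f5905 C)
    (C.pH [8, 30, 65, 84, 94, 117] [11, 34, 64, 86, 100, 117] (by decide +kernel) (C.pNil _ _)))
    (C.pH [26, 38, 54, 89, 90, 113] [18, 27, 59, 101, 116] (by decide +kernel)
    (C.pT (f5914 C)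
    (C.pH [8, 30, 65, 84, 94, 117] [9, 30, 68, 80, 97, 114] (by decide +kernel)
    (C.pT (f5908 C)
    (C.pH [26, 38, 54, 89, 90, 113] [20, 46, 59, 89, 99, 116] (by decide +kernel) (C.pNil _ _))))))
    (C.loop_of_one (relLoop1 C) _ _)

theorem f5916 : C.T (v17 C) [25, 31, 56, 83, 98, 110, 120] (v17 C) [11, 34, 64, 86, 100, 117] :=
  C.flip (f5915 C)

theorem f5917 : C.T (v9 C) [48, 64, 81, 99, 121] (v17 C) [5, 45, 60, 79, 96, 110] :=
  C.conv (f4589 C) (f4610 C) (f4610 C) _ [128, 164, 176] _ (by decide +kernel) (by decide +kernel) (by decide +kernel)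

theorem f5918 : C.S (v9 C) [10, 47, 79, 100, 110, 114] :=
  C.stMul (f1620 C) (f1607 C) _ (by decide +kernel)

theorem f5919 : C.S (v9 C) [11, 40, 59, 82, 99, 110, 111] :=
  C.stMul (f1615 C) (f5918 C) _ (by decide +kernel)

theorem f5920 : C.T (v9 C) [7, 47, 89, 99, 122] (v17 C) [13, 31, 49, 83, 106, 110, 120] :=
  C.conv (f5345 C) (f5502 C) (f5919 C) _ [148, 158, 172] _ (by decide +kernel) (by decide +kernel) (by decide +kernel)

theorem f5921 : C.T (v17 C) [13, 31, 49, 83, 106, 110, 120] (v9 C) [7, 47, 89, 99, 122] :=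
  C.flip (f5920 C)

theorem f5922 : C.T (v17 C) [6, 47, 69, 80, 101, 119] (v17 C) [10, 38, 57, 80, 92, 110, 122] :=
  C.conv (f4547 C) (f4549 C) (f4300 C) _ [145, 155, 168, 174, 177] _ (by decide +kernel) (by decide +kernel) (by decide +kernel)

theorem f5923 : C.T (v17 C) [10, 38, 57, 80, 92, 110, 122] (v17 C) [6, 47, 69, 80, 101, 119] :=
  C.flip (f5922 C)

theorem f5924 : C.T (v17 C) [12, 27, 62, 85, 91, 109, 115] (v17 C) [18, 32, 55, 102, 110, 111] :=
  C.closeT (p := (v9 C)) (pu := [48, 64, 81, 99, 121])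
    (C.pT (f5917 C)
    (C.pH [8, 30, 65, 84, 94, 117] [12, 27, 62, 85, 91, 109, 115] (by decide +kernel) (C.pNil _ _)))
    (C.pH [26, 38, 54, 89, 90, 113] [10, 38, 57, 80, 92, 110, 122] (by decide +kernel)
    (C.pT (f5923 C)
    (C.pH [8, 30, 65, 84, 94, 117] [13, 31, 49, 83, 106, 110, 120] (by decide +kernel)
    (C.pT (f5921 C)
    (C.pH [26, 38, 54, 89, 90, 113] [48, 64, 81, 99, 121] (by decide +kernel) (C.pNil _ _))))))
    (C.loop_of_one (relLoop1 C) _ _)

theorem f5925 : C.T (v17 C) [18, 32, 55, 102, 110, 111] (v17 C) [12, 27, 62, 85, 91, 109, 115] :=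
  C.flip (f5924 C)

theorem f5926 : C.T (v9 C) [6, 32, 55, 77, 93, 110, 125] (v17 C) [15, 39, 57, 77, 102, 109, 111] :=
  C.conv (f4665 C) (f4678 C) (f4678 C) _ [127, 155, 170, 176] _ (by decide +kernel) (by decide +kernel) (by decide +kernel)

theorem f5927 : C.S (v9 C) [25, 29, 50, 71, 91, 114] :=
  C.stMul (f1620 C) (f1624 C) _ (by decide +kernel)

theorem f5928 : C.T (v9 C) [21, 41, 54, 74, 95, 110, 124] (v15 C) [16, 46, 63, 79, 93, 120] :=
  C.conv (f3025 C) (f4013 C) (f5927 C) _ [147, 163] _ (by decide +kernel) (by decide +kernel) (by decide +kernel)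

theorem f5929 : C.T (v15 C) [16, 46, 63, 79, 93, 120] (v9 C) [21, 41, 54, 74, 95, 110, 124] :=
  C.flip (f5928 C)

theorem f5930 : C.T (v15 C) [24, 38, 51, 77, 104, 110, 119] (v17 C) [10, 46, 54, 74, 107, 115] :=
  C.conv (f5516 C) (f5535 C) (f2652 C) _ [128, 159, 164, 171, 178] _ (by decide +kernel) (by decide +kernel) (by decide +kernel)

theorem f5931 : C.T (v17 C) [10, 46, 54, 74, 107, 115] (v15 C) [24, 38, 51, 77, 104, 110, 119] :=
  C.flip (f5930 C)

theorem f5932 : C.T (v17 C) [19, 44, 68, 71, 97, 109, 116] (v17 C) [18, 36, 66, 78, 90, 116] :=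
  C.closeT (p := (v9 C)) (pu := [6, 32, 55, 77, 93, 110, 125])
    (C.pT (f5926 C)
    (C.pH [8, 30, 65, 84, 94, 117] [19, 44, 68, 71, 97, 109, 116] (by decide +kernel) (C.pNil _ _)))
    (C.pH [26, 38, 54, 89, 90, 113] [10, 46, 54, 74, 107, 115] (by decide +kernel)
    (C.pT (f5931 C)
    (C.pH [8, 30, 65, 84, 94, 117] [16, 46, 63, 79, 93, 120] (by decide +kernel)
    (C.pT (f5929 C)
    (C.pH [26, 38, 54, 89, 90, 113] [6, 32, 55, 77, 93, 110, 125] (by decide +kernel) (C.pNil _ _))))))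
    (C.loop_of_one (relLoop1 C) _ _)

theorem f5933 : C.T (v17 C) [18, 36, 66, 78, 90, 116] (v17 C) [19, 44, 68, 71, 97, 109, 116] :=
  C.flip (f5932 C)

theorem f5934 : C.T (v9 C) [17, 37, 52, 74, 106, 109, 115] (v17 C) [6, 28, 58, 80, 91, 110, 114] :=
  C.conv (f4665 C) (f4678 C) (f4678 C) _ [132, 157, 173] _ (by decide +kernel) (by decide +kernel) (by decide +kernel)

theorem f5935 : C.S (v17 C) [23, 31, 75, 92, 109, 116] :=
  C.stMul (f4137 C) (f4132 C) _ (by decide +kernel)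

theorem f5936 : C.S (v17 C) [51, 81, 96, 109, 125] :=
  C.stMul (f4132 C) (f4137 C) _ (by decide +kernel)

theorem f5937 : C.T (v17 C) [13, 42, 51, 78, 92, 109] (v16 C) [17, 40, 64, 80, 94, 109, 118] :=
  C.conv (f5201 C) (f5935 C) (f5936 C) _ [138, 156, 170, 176, 178] _ (by decide +kernel) (by decide +kernel) (by decide +kernel)

theorem f5938 : C.S (v9 C) [23, 37, 55, 75, 92, 110, 123] :=
  C.stMul (f1624 C) (f1607 C) _ (by decide +kernel)

theorem f5939 : C.T (v9 C) [19, 59, 73, 99, 117] (v17 C) [7, 42, 51, 102, 110, 118] :=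
  C.conv (f5160 C) (f5313 C) (f5938 C) _ [138, 154, 167, 176] _ (by decide +kernel) (by decide +kernel) (by decide +kernel)

theorem f5940 : C.T (v17 C) [7, 42, 51, 102, 110, 118] (v9 C) [19, 59, 73, 99, 117] :=
  C.flip (f5939 C)

theorem f5941 : C.T (v16 C) [20, 32, 60, 71, 105, 109, 125] (v17 C) [11, 29, 53, 76, 103, 109, 120] :=
  C.closeT (p := (v9 C)) (pu := [17, 37, 52, 74, 106, 109, 115])
    (C.pT (f5934 C)
    (C.pH [8, 30, 65, 84, 94, 117] [13, 42, 51, 78, 92, 109] (by decide +kernel)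
    (C.pT (f5937 C)
    (C.pH [26, 38, 54, 89, 90, 113] [20, 32, 60, 71, 105, 109, 125] (by decide +kernel) (C.pNil _ _)))))
    (C.pH [8, 30, 65, 84, 94, 117] [7, 42, 51, 102, 110, 118] (by decide +kernel)
    (C.pT (f5940 C)
    (C.pH [26, 38, 54, 89, 90, 113] [17, 37, 52, 74, 106, 109, 115] (by decide +kernel) (C.pNil _ _))))
    (C.loop_of_one (relLoop1 C) _ _)

theorem f5942 : C.T (v17 C) [11, 29, 53, 76, 103, 109, 120] (v16 C) [20, 32, 60, 71, 105, 109, 125] :=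
  C.flip (f5941 C)

theorem f5943 : C.T (v9 C) [15, 41, 58, 86, 105, 109, 119] (v17 C) [16, 41, 53, 81, 91, 120] :=
  C.conv (f4804 C) (f4895 C) (f4895 C) _ [139, 155, 170, 176] _ (by decide +kernel) (by decide +kernel) (by decide +kernel)

theorem f5944 : C.S (v17 C) [23, 31, 75, 92, 109, 116] :=
  C.stMul (f4137 C) (f4132 C) _ (by decide +kernel)

theorem f5945 : C.T (v17 C) [20, 32, 68, 89, 102, 109, 111] (v17 C) [10, 38, 67, 72, 105, 110, 113] :=
  C.conv (f4929 C) (f4137 C) (f5944 C) _ [143, 151, 176, 177] _ (by decide +kernel) (by decide +kernel) (by decide +kernel)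

theorem f5946 : C.S (v9 C) [13, 48, 54, 73, 93, 110, 123] :=
  C.stMul (f1620 C) (f1610 C) _ (by decide +kernel)

theorem f5947 : C.S (v9 C) [28, 53, 80, 101, 110, 112] :=
  C.stMul (f1615 C) (f5946 C) _ (by decide +kernel)

theorem f5948 : C.T (v9 C) [20, 47, 61, 79, 93, 121] (v17 C) [23, 44, 49, 82, 93, 110, 112] :=
  C.conv (f5262 C) (f5270 C) (f5947 C) _ [133, 151, 175, 177] _ (by decide +kernel) (by decide +kernel) (by decide +kernel)

theorem f5949 : C.T (v17 C) [23, 44, 49, 82, 93, 110, 112] (v9 C) [20, 47, 61, 79, 93, 121] :=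
  C.flip (f5948 C)

theorem f5950 : C.T (v17 C) [21, 46, 51, 80, 93, 110, 122] (v17 C) [20, 43, 68, 88, 106, 110, 125] :=
  C.closeT (p := (v9 C)) (pu := [15, 41, 58, 86, 105, 109, 119])
    (C.pT (f5943 C)
    (C.pH [8, 30, 65, 84, 94, 117] [20, 32, 68, 89, 102, 109, 111] (by decide +kernel)
    (C.pT (f5945 C)
    (C.pH [26, 38, 54, 89, 90, 113] [21, 46, 51, 80, 93, 110, 122] (by decide +kernel) (C.pNil _ _)))))
    (C.pH [8, 30, 65, 84, 94, 117] [23, 44, 49, 82, 93, 110, 112] (by decide +kernel)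
    (C.pT (f5949 C)
    (C.pH [26, 38, 54, 89, 90, 113] [15, 41, 58, 86, 105, 109, 119] (by decide +kernel) (C.pNil _ _))))
    (C.loop_of_one (relLoop1 C) _ _)

theorem f5951 : C.T (v17 C) [20, 43, 68, 88, 106, 110, 125] (v17 C) [21, 46, 51, 80, 93, 110, 122] :=
  C.flip (f5950 C)

theorem f5952 : C.T (v9 C) [20, 47, 59, 80, 104, 110, 114] (v17 C) [11, 46, 66, 76, 92, 109, 122] :=
  C.conv (f4804 C) (f4895 C) (f4895 C) _ [177] _ (by decide +kernel) (by decide +kernel) (by decide +kernel)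

theorem f5953 : C.T (v17 C) [7, 39, 60, 75, 97, 109, 115] (v17 C) [46, 54, 86, 99, 112] :=
  C.conv (f5093 C) (f4137 C) (f4300 C) _ [139, 164, 172] _ (by decide +kernel) (by decide +kernel) (by decide +kernel)

theorem f5954 : C.S (v9 C) [11, 40, 56, 79, 103, 109, 114] :=
  C.stMul (f1615 C) (f1620 C) _ (by decide +kernel)

theorem f5955 : C.S (v9 C) [22, 28, 59, 71, 101, 109, 111] :=
  C.stMul (f1624 C) (f5954 C) _ (by decide +kernel)

theorem f5956 : C.T (v9 C) [17, 41, 56, 74, 93, 109, 115] (v15 C) [18, 37, 52, 86, 105, 110, 120] :=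
  C.conv (f3324 C) (f4471 C) (f5955 C) _ [133, 155, 168, 174, 177] _ (by decide +kernel) (by decide +kernel) (by decide +kernel)

theorem f5957 : C.T (v15 C) [18, 37, 52, 86, 105, 110, 120] (v9 C) [17, 41, 56, 74, 93, 109, 115] :=
  C.flip (f5956 C)

theorem f5958 : C.T (v17 C) [26, 48, 68, 70, 93, 110, 120] (v15 C) [9, 45, 50, 73, 90, 118] :=
  C.closeT (p := (v9 C)) (pu := [20, 47, 59, 80, 104, 110, 114])
    (C.pT (f5952 C)
    (C.pH [8, 30, 65, 84, 94, 117] [7, 39, 60, 75, 97, 109, 115] (by decide +kernel)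
    (C.pT (f5953 C)
    (C.pH [26, 38, 54, 89, 90, 113] [26, 48, 68, 70, 93, 110, 120] (by decide +kernel) (C.pNil _ _)))))
    (C.pH [8, 30, 65, 84, 94, 117] [18, 37, 52, 86, 105, 110, 120] (by decide +kernel)
    (C.pT (f5957 C)
    (C.pH [26, 38, 54, 89, 90, 113] [20, 47, 59, 80, 104, 110, 114] (by decide +kernel) (C.pNil _ _))))
    (C.loop_of_one (relLoop1 C) _ _)

theorem f5959 : C.T (v15 C) [9, 45, 50, 73, 90, 118] (v17 C) [26, 48, 68, 70, 93, 110, 120] :=
  C.flip (f5958 C)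

theorem f5960 : C.T (v9 C) [20, 40, 72, 103, 110, 120] (v17 C) [11, 32, 55, 76, 93, 124] :=
  C.conv (f4804 C) (f4895 C) (f4895 C) _ [145, 157, 164, 174] _ (by decide +kernel) (by decide +kernel) (by decide +kernel)

theorem f5961 : C.T (v9 C) [17, 36, 60, 89, 105, 109, 118] (v15 C) [17, 35, 57, 74, 102, 109, 122] :=
  C.conv (f3038 C) (f3917 C) (f3918 C) _ [134, 167, 178] _ (by decide +kernel) (by decide +kernel) (by decide +kernel)

theorem f5962 : C.T (v15 C) [17, 35, 57, 74, 102, 109, 122] (v9 C) [17, 36, 60, 89, 105, 109, 118] :=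
  C.flip (f5961 C)

theorem f5963 : C.S (v15 C) [25, 47, 66, 86, 107, 124] :=
  C.stMul (f2569 C) (f2565 C) _ (by decide +kernel)

theorem f5964 : C.S (v15 C) [24, 44, 51, 82, 106, 110, 112] :=
  C.stMul (f2565 C) (f5963 C) _ (by decide +kernel)

theorem f5965 : C.S (v15 C) [24, 34, 69, 71, 96, 109] :=
  C.stMul (f2581 C) (f5964 C) _ (by decide +kernel)

theorem f5966 : C.T (v15 C) [7, 45, 55, 75, 90, 110, 116] (v17 C) [8, 31, 56, 78, 97, 110] :=
  C.conv (f5577 C) (f2565 C) (f5965 C) _ [143, 153, 167, 171] _ (by decide +kernel) (by decide +kernel) (by decide +kernel)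

theorem f5967 : C.T (v17 C) [8, 31, 56, 78, 97, 110] (v15 C) [7, 45, 55, 75, 90, 110, 116] :=
  C.flip (f5966 C)

theorem f5968 : C.T (v17 C) [7, 30, 54, 84, 103, 119] (v17 C) [5, 33, 49, 70, 95, 110, 111] :=
  C.closeT (p := (v9 C)) (pu := [20, 40, 72, 103, 110, 120])
    (C.pT (f5960 C)
    (C.pH [8, 30, 65, 84, 94, 117] [7, 30, 54, 84, 103, 119] (by decide +kernel) (C.pNil _ _)))
    (C.pH [26, 38, 54, 89, 90, 113] [8, 31, 56, 78, 97, 110] (by decide +kernel)
    (C.pT (f5967 C)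
    (C.pH [8, 30, 65, 84, 94, 117] [17, 35, 57, 74, 102, 109, 122] (by decide +kernel)
    (C.pT (f5962 C)
    (C.pH [26, 38, 54, 89, 90, 113] [20, 40, 72, 103, 110, 120] (by decide +kernel) (C.pNil _ _))))))
    (C.loop_of_one (relLoop1 C) _ _)

theorem f5970 : C.S (v17 C) [23, 31, 49, 84, 96, 117] :=
  C.stMul (f4137 C) (f4137 C) _ (by decide +kernel)

theorem f5972 : C.T (v9 C) [21, 31, 61, 76, 97, 109, 119] (v17 C) [16, 46, 65, 83, 94, 110, 122] :=
  C.conv (f4829 C) (f4967 C) (f4967 C) _ [141, 158, 170, 176] _ (by decide +kernel) (by decide +kernel) (by decide +kernel)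

theorem f5973 : C.T (v17 C) [20, 39, 68, 79, 107, 109, 115] (v15 C) [13, 40, 59, 79, 100, 112] :=
  C.conv (f5771 C) (f4300 C) (f4137 C) _ [141, 153, 167, 174] _ (by decide +kernel) (by decide +kernel) (by decide +kernel)

theorem f5974 : C.S (v9 C) [11, 45, 66, 71, 92, 109, 125] :=
  C.stMul (f1610 C) (f1607 C) _ (by decide +kernel)

theorem f5975 : C.S (v9 C) [10] :=
  C.stMul (f1615 C) (f5974 C) _ (by decide +kernel)

theorem f5976 : C.T (v9 C) [10, 42, 49, 85, 102, 110, 113] (v17 C) [17, 48, 54, 107, 110, 116] :=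
  C.conv (f4409 C) (f4762 C) (f5975 C) _ [143, 150, 168, 174] _ (by decide +kernel) (by decide +kernel) (by decide +kernel)

theorem f5977 : C.T (v17 C) [17, 48, 54, 107, 110, 116] (v9 C) [10, 42, 49, 85, 102, 110, 113] :=
  C.flip (f5976 C)

theorem f5978 : C.T (v15 C) [23, 43, 63, 81, 91] (v17 C) [7, 42, 68, 88, 110, 122] :=
  C.closeT (p := (v9 C)) (pu := [21, 31, 61, 76, 97, 109, 119])
    (C.pT (f5972 C)
    (C.pH [8, 30, 65, 84, 94, 117] [20, 39, 68, 79, 107, 109, 115] (by decide +kernel)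
    (C.pT (f5973 C)
    (C.pH [26, 38, 54, 89, 90, 113] [23, 43, 63, 81, 91] (by decide +kernel) (C.pNil _ _)))))
    (C.pH [8, 30, 65, 84, 94, 117] [17, 48, 54, 107, 110, 116] (by decide +kernel)
    (C.pT (f5977 C)
    (C.pH [26, 38, 54, 89, 90, 113] [21, 31, 61, 76, 97, 109, 119] (by decide +kernel) (C.pNil _ _))))
    (C.loop_of_one (relLoop1 C) _ _)

theorem f5979 : C.T (v17 C) [7, 42, 68, 88, 110, 122] (v15 C) [23, 43, 63, 81, 91] :=
  C.flip (f5978 C)

theorem f5980 : C.T (v9 C) [17, 31, 66, 72, 94, 115] (v17 C) [24, 37, 64, 89, 108, 110, 113] :=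
  C.conv (f4829 C) (f4967 C) (f4967 C) _ [135, 164, 176, 178] _ (by decide +kernel) (by decide +kernel) (by decide +kernel)

theorem f5981 : C.S (v17 C) [51, 81, 96, 109, 125] :=
  C.stMul (f4132 C) (f4137 C) _ (by decide +kernel)

theorem f5982 : C.T (v17 C) [16, 43, 64, 89, 108, 110, 113] (v4 C) [9, 46, 69, 72, 90, 118] :=
  C.conv (f5837 C) (f5981 C) (f5981 C) _ [127, 167, 173, 177] _ (by decide +kernel) (by decide +kernel) (by decide +kernel)

theorem f5983 : C.T (v9 C) [19, 41, 49, 72, 98, 112] (v17 C) [24, 32, 51, 80, 90, 110, 125] :=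
  C.conv (f4665 C) (f4678 C) (f5210 C) _ [143, 150, 166, 171, 177] _ (by decide +kernel) (by decide +kernel) (by decide +kernel)

theorem f5984 : C.T (v17 C) [24, 32, 51, 80, 90, 110, 125] (v9 C) [19, 41, 49, 72, 98, 112] :=
  C.flip (f5983 C)

theorem f5985 : C.T (v4 C) [22, 40, 56, 78, 110, 119] (v17 C) [21, 65, 83, 100, 109, 124] :=
  C.closeT (p := (v9 C)) (pu := [17, 31, 66, 72, 94, 115])
    (C.pT (f5980 C)
    (C.pH [8, 30, 65, 84, 94, 117] [16, 43, 64, 89, 108, 110, 113] (by decide +kernel)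
    (C.pT (f5982 C)
    (C.pH [26, 38, 54, 89, 90, 113] [22, 40, 56, 78, 110, 119] (by decide +kernel) (C.pNil _ _)))))
    (C.pH [8, 30, 65, 84, 94, 117] [24, 32, 51, 80, 90, 110, 125] (by decide +kernel)
    (C.pT (f5984 C)
    (C.pH [26, 38, 54, 89, 90, 113] [17, 31, 66, 72, 94, 115] (by decide +kernel) (C.pNil _ _))))
    (C.loop_of_one (relLoop1 C) _ _)

theorem f5986 : C.T (v17 C) [21, 65, 83, 100, 109, 124] (v4 C) [22, 40, 56, 78, 110, 119] :=
  C.flip (f5985 C)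

theorem f5987 : C.T (v9 C) [23, 28, 49, 70, 104, 119] (v17 C) [6, 31, 59, 70, 108, 109, 124] :=
  C.conv (f4829 C) (f4967 C) (f4967 C) _ [147, 161, 168, 172, 177] _ (by decide +kernel) (by decide +kernel) (by decide +kernel)

theorem f5988 : C.S (v9 C) [11, 40, 56, 79, 103, 109, 114] :=
  C.stMul (f1615 C) (f1620 C) _ (by decide +kernel)

theorem f5989 : C.S (v9 C) [13, 44, 50, 87, 101, 113] :=
  C.stMul (f1620 C) (f5988 C) _ (by decide +kernel)

theorem f5990 : C.T (v9 C) [13, 65, 86, 101, 113] (v5 C) [15, 33, 63, 89, 98, 110, 114] :=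
  C.conv (f2077 C) (f1620 C) (f5989 C) _ [146, 168, 174] _ (by decide +kernel) (by decide +kernel) (by decide +kernel)

theorem f5991 : C.T (v5 C) [15, 33, 63, 89, 98, 110, 114] (v9 C) [13, 65, 86, 101, 113] :=
  C.flip (f5990 C)

theorem f5992 : C.S (v5 C) [41, 51, 86, 105, 123] :=
  C.stMul (f1141 C) (f1008 C) _ (by decide +kernel)

theorem f5993 : C.S (v5 C) [85, 93, 110, 124] :=
  C.stMul (f1008 C) (f5992 C) _ (by decide +kernel)

theorem f5994 : C.T (v5 C) [10, 32, 56, 83, 105, 109, 118] (v17 C) [12, 41, 67, 74, 105, 110, 117] :=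
  C.conv (f5187 C) (f5193 C) (f5993 C) _ [148, 163, 170, 172] _ (by decide +kernel) (by decide +kernel) (by decide +kernel)

theorem f5995 : C.T (v17 C) [12, 41, 67, 74, 105, 110, 117] (v5 C) [10, 32, 56, 83, 105, 109, 118] :=
  C.flip (f5994 C)

theorem f5996 : C.T (v17 C) [13, 35, 61, 73, 97, 110, 123] (v17 C) [24, 46, 64, 79, 95, 109] :=
  C.closeT (p := (v9 C)) (pu := [23, 28, 49, 70, 104, 119])
    (C.pT (f5987 C)
    (C.pH [8, 30, 65, 84, 94, 117] [13, 35, 61, 73, 97, 110, 123] (by decide +kernel) (C.pNil _ _)))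
    (C.pH [26, 38, 54, 89, 90, 113] [12, 41, 67, 74, 105, 110, 117] (by decide +kernel)
    (C.pT (f5995 C)
    (C.pH [8, 30, 65, 84, 94, 117] [15, 33, 63, 89, 98, 110, 114] (by decide +kernel)
    (C.pT (f5991 C)
    (C.pH [26, 38, 54, 89, 90, 113] [23, 28, 49, 70, 104, 119] (by decide +kernel) (C.pNil _ _))))))
    (C.loop_of_one (relLoop1 C) _ _)

theorem f5997 : C.T (v17 C) [24, 46, 64, 79, 95, 109] (v17 C) [13, 35, 61, 73, 97, 110, 123] :=
  C.flip (f5996 C)

theorem f5998 : C.T (v9 C) [24, 45, 50, 73, 105, 109, 117] (v17 C) [8, 32, 65, 86, 91, 109, 118] :=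
  C.conv (f4829 C) (f4967 C) (f4967 C) _ [127, 162, 164, 173, 177] _ (by decide +kernel) (by decide +kernel) (by decide +kernel)

theorem f5999 : C.S (v9 C) [11, 40, 56, 79, 103, 109, 114] :=
  C.stMul (f1615 C) (f1620 C) _ (by decide +kernel)

theorem f6000 : C.S (v9 C) [13, 44, 50, 87, 101, 113] :=
  C.stMul (f1620 C) (f5999 C) _ (by decide +kernel)

theorem f6001 : C.T (v9 C) [11, 37, 73, 96, 109] (v17 C) [40, 85, 108, 117] :=
  C.conv (f4589 C) (f4610 C) (f6000 C) _ [138, 156, 164, 172] _ (by decide +kernel) (by decide +kernel) (by decide +kernel)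

theorem f6002 : C.T (v17 C) [40, 85, 108, 117] (v9 C) [11, 37, 73, 96, 109] :=
  C.flip (f6001 C)

theorem f6003 : C.S (v17 C) [23, 31, 49, 84, 96, 117] :=
  C.stMul (f4137 C) (f4137 C) _ (by decide +kernel)

theorem f6004 : C.T (v17 C) [8, 41, 59, 89, 92, 121] (v15 C) [20, 35, 51, 86, 99, 110, 116] :=
  C.conv (f5517 C) (f6003 C) (f4132 C) _ [138, 150, 169, 172, 178] _ (by decide +kernel) (by decide +kernel) (by decide +kernel)

theorem f6005 : C.T (v15 C) [20, 35, 51, 86, 99, 110, 116] (v17 C) [8, 41, 59, 89, 92, 121] :=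
  C.flip (f6004 C)

theorem f6006 : C.T (v17 C) [36, 66, 93, 110, 111] (v15 C) [17, 44, 60, 89, 108, 109, 116] :=
  C.closeT (p := (v9 C)) (pu := [24, 45, 50, 73, 105, 109, 117])
    (C.pT (f5998 C)
    (C.pH [8, 30, 65, 84, 94, 117] [36, 66, 93, 110, 111] (by decide +kernel) (C.pNil _ _)))
    (C.pH [26, 38, 54, 89, 90, 113] [20, 35, 51, 86, 99, 110, 116] (by decide +kernel)
    (C.pT (f6005 C)
    (C.pH [8, 30, 65, 84, 94, 117] [40, 85, 108, 117] (by decide +kernel)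
    (C.pT (f6002 C)
    (C.pH [26, 38, 54, 89, 90, 113] [24, 45, 50, 73, 105, 109, 117] (by decide +kernel) (C.pNil _ _))))))
    (C.loop_of_one (relLoop1 C) _ _)

theorem f6007 : C.T (v15 C) [17, 44, 60, 89, 108, 109, 116] (v17 C) [36, 66, 93, 110, 111] :=
  C.flip (f6006 C)

theorem f6008 : C.T (v9 C) [8, 38, 58, 74, 98, 110, 114] (v17 C) [23, 33, 68, 72, 102, 110, 113] :=
  C.conv (f4863 C) (f4877 C) (f4877 C) _ [149, 165, 178] _ (by decide +kernel) (by decide +kernel) (by decide +kernel)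

theorem f6009 : C.S (v17 C) [23, 31, 75, 92, 109, 116] :=
  C.stMul (f4137 C) (f4132 C) _ (by decide +kernel)

theorem f6010 : C.T (v17 C) [10, 32, 49, 94, 125] (v17 C) [20, 37, 61, 80, 95, 110, 111] :=
  C.conv (f5319 C) (f4137 C) (f6009 C) _ [131, 161, 169, 171, 177] _ (by decide +kernel) (by decide +kernel) (by decide +kernel)

theorem f6011 : C.S (v9 C) [13, 48, 54, 73, 93, 110, 123] :=
  C.stMul (f1620 C) (f1610 C) _ (by decide +kernel)

theorem f6012 : C.S (v9 C) [4, 28, 59, 71, 101, 109, 111] :=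
  C.stMul (f1624 C) (f6011 C) _ (by decide +kernel)

theorem f6013 : C.T (v9 C) [5, 30, 59, 87, 105, 122] (v5 C) [26, 65, 88, 109, 118] :=
  C.conv (f2016 C) (f1657 C) (f6012 C) _ [143, 163, 170, 175, 178] _ (by decide +kernel) (by decide +kernel) (by decide +kernel)

theorem f6014 : C.T (v5 C) [26, 65, 88, 109, 118] (v9 C) [5, 30, 59, 87, 105, 122] :=
  C.flip (f6013 C)

theorem f6015 : C.T (v17 C) [15, 46, 57, 77, 92, 115] (v5 C) [19, 30, 49, 82, 91, 120] :=
  C.closeT (p := (v9 C)) (pu := [8, 38, 58, 74, 98, 110, 114])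
    (C.pT (f6008 C)
    (C.pH [8, 30, 65, 84, 94, 117] [10, 32, 49, 94, 125] (by decide +kernel)
    (C.pT (f6010 C)
    (C.pH [26, 38, 54, 89, 90, 113] [15, 46, 57, 77, 92, 115] (by decide +kernel) (C.pNil _ _)))))
    (C.pH [8, 30, 65, 84, 94, 117] [26, 65, 88, 109, 118] (by decide +kernel)
    (C.pT (f6014 C)
    (C.pH [26, 38, 54, 89, 90, 113] [8, 38, 58, 74, 98, 110, 114] (by decide +kernel) (C.pNil _ _))))
    (C.loop_of_one (relLoop1 C) _ _)

theorem f6016 : C.T (v5 C) [19, 30, 49, 82, 91, 120] (v17 C) [15, 46, 57, 77, 92, 115] :=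
  C.flip (f6015 C)

theorem f6017 : C.T (v9 C) [26, 51, 76, 96, 119] (v17 C) [25, 48, 62, 83, 101, 110, 118] :=
  C.conv (f4863 C) (f4877 C) (f4877 C) _ [126, 160, 168, 174, 178] _ (by decide +kernel) (by decide +kernel) (by decide +kernel)

theorem f6018 : C.S (v9 C) [10, 28, 53, 80, 101, 110, 112] :=
  C.stMul (f1607 C) (f1620 C) _ (by decide +kernel)

theorem f6019 : C.S (v9 C) [11, 44, 50, 87, 101, 113] :=
  C.stMul (f1620 C) (f6018 C) _ (by decide +kernel)

theorem f6020 : C.T (v9 C) [45, 58, 72, 106, 116] (v17 C) [34, 56, 77, 105, 110] :=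
  C.conv (f4829 C) (f4967 C) (f6019 C) _ [144, 153, 167, 174] _ (by decide +kernel) (by decide +kernel) (by decide +kernel)

theorem f6021 : C.T (v17 C) [34, 56, 77, 105, 110] (v9 C) [45, 58, 72, 106, 116] :=
  C.flip (f6020 C)

theorem f6022 : C.S (v17 C) [51, 81, 96, 109, 125] :=
  C.stMul (f4132 C) (f4137 C) _ (by decide +kernel)

theorem f6023 : C.T (v17 C) [8, 31, 60, 74, 103, 109, 120] (v17 C) [22, 30, 49, 86, 103, 110, 112] :=
  C.conv (f5933 C) (f4300 C) (f6022 C) _ [138, 174] _ (by decide +kernel) (by decide +kernel) (by decide +kernel)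

theorem f6024 : C.T (v17 C) [22, 30, 49, 86, 103, 110, 112] (v17 C) [8, 31, 60, 74, 103, 109, 120] :=
  C.flip (f6023 C)

theorem f6025 : C.T (v17 C) [9, 43, 50, 93, 124] (v17 C) [9, 37, 77, 98, 117] :=
  C.closeT (p := (v9 C)) (pu := [26, 51, 76, 96, 119])
    (C.pT (f6017 C)
    (C.pH [8, 30, 65, 84, 94, 117] [9, 43, 50, 93, 124] (by decide +kernel) (C.pNil _ _)))
    (C.pH [26, 38, 54, 89, 90, 113] [22, 30, 49, 86, 103, 110, 112] (by decide +kernel)
    (C.pT (f6024 C)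
    (C.pH [8, 30, 65, 84, 94, 117] [34, 56, 77, 105, 110] (by decide +kernel)
    (C.pT (f6021 C)
    (C.pH [26, 38, 54, 89, 90, 113] [26, 51, 76, 96, 119] (by decide +kernel) (C.pNil _ _))))))
    (C.loop_of_one (relLoop1 C) _ _)

theorem f6029 : C.T (v9 C) [22, 36, 61, 79, 90] (v9 C) [22, 33, 67, 72, 93, 110, 114] :=
  C.conv (f1643 C) (f1620 C) (f1620 C) _ [127, 149, 165, 177] _ (by decide +kernel) (by decide +kernel) (by decide +kernel)

theorem f6030 : C.S (v9 C) [47, 79, 100, 110, 114] :=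
  C.stMul (f1620 C) (f1615 C) _ (by decide +kernel)

theorem f6031 : C.S (v9 C) [23, 38, 55, 89, 107, 110, 122] :=
  C.stMul (f1624 C) (f6030 C) _ (by decide +kernel)

theorem f6032 : C.S (v9 C) [25, 46, 59, 72, 100, 109, 122] :=
  C.stMul (f1620 C) (f6031 C) _ (by decide +kernel)

theorem f6033 : C.T (v9 C) [19, 37, 84, 93, 121] (v17 C) [7, 28, 51, 73, 103, 122] :=
  C.conv (f4201 C) (f1615 C) (f6032 C) _ [135, 151, 168, 171, 178] _ (by decide +kernel) (by decide +kernel) (by decide +kernel)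

theorem f6034 : C.S (v9 C) [47, 79, 100, 110, 114] :=
  C.stMul (f1620 C) (f1615 C) _ (by decide +kernel)

theorem f6035 : C.S (v9 C) [23, 38, 55, 89, 107, 110, 122] :=
  C.stMul (f1624 C) (f6034 C) _ (by decide +kernel)

theorem f6036 : C.T (v9 C) [17, 35, 61, 87, 102, 109, 117] (v17 C) [4, 44, 53, 78, 92, 109, 113] :=
  C.conv (f4247 C) (f1624 C) (f6035 C) _ [134, 158, 173, 177] _ (by decide +kernel) (by decide +kernel) (by decide +kernel)

theorem f6037 : C.T (v17 C) [4, 44, 53, 78, 92, 109, 113] (v9 C) [17, 35, 61, 87, 102, 109, 117] :=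
  C.flip (f6036 C)

theorem f6038 : C.T (v17 C) [17, 33, 53, 86, 91, 110, 111] (v17 C) [6, 45, 58, 119] :=
  C.closeT (p := (v9 C)) (pu := [22, 36, 61, 79, 90])
    (C.pT (f6029 C)
    (C.pH [26, 38, 54, 89, 90, 113] [19, 37, 84, 93, 121] (by decide +kernel)
    (C.pT (f6033 C)
    (C.pH [8, 30, 65, 84, 94, 117] [17, 33, 53, 86, 91, 110, 111] (by decide +kernel) (C.pNil _ _)))))
    (C.pH [26, 38, 54, 89, 90, 113] [4, 44, 53, 78, 92, 109, 113] (by decide +kernel)
    (C.pT (f6037 C)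
    (C.pH [8, 30, 65, 84, 94, 117] [22, 36, 61, 79, 90] (by decide +kernel) (C.pNil _ _))))
    (C.loop_of_one (relLoop2 C) _ _)

theorem f6039 : C.T (v17 C) [6, 45, 58, 119] (v17 C) [17, 33, 53, 86, 91, 110, 111] :=
  C.flip (f6038 C)

theorem f6040 : C.T (v9 C) [22, 46, 49, 85, 109, 118] (v9 C) [21, 37, 51, 77, 105, 121] :=
  C.conv (f1655 C) (f1657 C) (f1657 C) _ [148, 163, 173] _ (by decide +kernel) (by decide +kernel) (by decide +kernel)

theorem f6041 : C.S (v9 C) [21, 32, 51, 87, 95, 109, 111] :=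
  C.stMul (f1624 C) (f5045 C) _ (by decide +kernel)

theorem f6042 : C.T (v9 C) [6, 31, 54, 71, 110, 121] (v17 C) [17, 48, 65, 71, 96, 113] :=
  C.conv (f4201 C) (f1615 C) (f6041 C) _ [147, 159, 169, 171, 177] _ (by decide +kernel) (by decide +kernel) (by decide +kernel)

theorem f6043 : C.S (v9 C) [25, 29, 50, 71, 91, 114] :=
  C.stMul (f1620 C) (f1624 C) _ (by decide +kernel)

theorem f6044 : C.T (v9 C) [17, 46, 56, 89, 104, 109, 112] (v17 C) [13, 42, 69, 78, 102, 109, 123] :=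
  C.conv (f4247 C) (f1624 C) (f6043 C) _ [148, 149, 166, 171, 178] _ (by decide +kernel) (by decide +kernel) (by decide +kernel)

theorem f6045 : C.T (v17 C) [13, 42, 69, 78, 102, 109, 123] (v9 C) [17, 46, 56, 89, 104, 109, 112] :=
  C.flip (f6044 C)

theorem f6046 : C.T (v17 C) [22, 30, 64, 71, 105, 118] (v17 C) [16, 42, 70, 96, 118] :=
  C.closeT (p := (v9 C)) (pu := [22, 46, 49, 85, 109, 118])
    (C.pT (f6040 C)
    (C.pH [26, 38, 54, 89, 90, 113] [6, 31, 54, 71, 110, 121] (by decide +kernel)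
    (C.pT (f6042 C)
    (C.pH [8, 30, 65, 84, 94, 117] [22, 30, 64, 71, 105, 118] (by decide +kernel) (C.pNil _ _)))))
    (C.pH [26, 38, 54, 89, 90, 113] [13, 42, 69, 78, 102, 109, 123] (by decide +kernel)
    (C.pT (f6045 C)
    (C.pH [8, 30, 65, 84, 94, 117] [22, 46, 49, 85, 109, 118] (by decide +kernel) (C.pNil _ _))))
    (C.loop_of_one (relLoop2 C) _ _)

theorem f6049 : C.T (v9 C) [17, 30, 55, 103, 118] (v9 C) [17, 29, 58, 71, 93, 110] :=
  C.conv (f1669 C) (f1624 C) (f1624 C) _ [147, 150, 166, 176] _ (by decide +kernel) (by decide +kernel) (by decide +kernel)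

theorem f6050 : C.T (v9 C) [20, 33, 53, 88, 104, 109, 119] (v17 C) [18, 37, 67, 73, 97, 109, 122] :=
  C.conv (f4589 C) (f4610 C) (f4612 C) _ [127, 161, 169, 175] _ (by decide +kernel) (by decide +kernel) (by decide +kernel)

theorem f6051 : C.T (v9 C) [7, 46, 58, 87, 108, 110, 114] (v17 C) [4, 44, 60, 82, 96, 110, 118] :=
  C.conv (f4589 C) (f4610 C) (f4660 C) _ [141, 162, 174] _ (by decide +kernel) (by decide +kernel) (by decide +kernel)

theorem f6052 : C.T (v17 C) [4, 44, 60, 82, 96, 110, 118] (v9 C) [7, 46, 58, 87, 108, 110, 114] :=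
  C.flip (f6051 C)

theorem f6053 : C.T (v17 C) [4, 31, 65, 85, 91, 110] (v17 C) [6, 45, 55, 87, 94, 109, 120] :=
  C.closeT (p := (v9 C)) (pu := [17, 30, 55, 103, 118])
    (C.pT (f6049 C)
    (C.pH [26, 38, 54, 89, 90, 113] [20, 33, 53, 88, 104, 109, 119] (by decide +kernel)
    (C.pT (f6050 C)
    (C.pH [8, 30, 65, 84, 94, 117] [4, 31, 65, 85, 91, 110] (by decide +kernel) (C.pNil _ _)))))
    (C.pH [26, 38, 54, 89, 90, 113] [4, 44, 60, 82, 96, 110, 118] (by decide +kernel)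
    (C.pT (f6052 C)
    (C.pH [8, 30, 65, 84, 94, 117] [17, 30, 55, 103, 118] (by decide +kernel) (C.pNil _ _))))
    (C.loop_of_one (relLoop2 C) _ _)

theorem f6056 : C.T (v9 C) [22, 47, 61, 70, 92, 109, 117] (v9 C) [18, 46, 60, 86, 100, 110, 111] :=
  C.conv (f1690 C) (f1693 C) (f1693 C) _ [137, 163, 168, 178] _ (by decide +kernel) (by decide +kernel) (by decide +kernel)

theorem f6057 : C.S (v9 C) [10, 69, 81, 100, 113] :=
  C.stMul (f1615 C) (f1610 C) _ (by decide +kernel)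

theorem f6058 : C.S (v9 C) [21, 37, 62, 82, 103] :=
  C.stMul (f1624 C) (f6057 C) _ (by decide +kernel)

theorem f6059 : C.T (v9 C) [10, 40, 67, 78, 94, 110, 118] (v17 C) [25, 65, 83, 97, 109, 123] :=
  C.conv (f4377 C) (f4755 C) (f6058 C) _ [143, 153, 165, 172, 177] _ (by decide +kernel) (by decide +kernel) (by decide +kernel)

theorem f6060 : C.T (v9 C) [17, 31, 59, 70, 94, 109, 117] (v17 C) [23, 35, 56, 70, 101, 109, 114] :=
  C.conv (f4377 C) (f4755 C) (f5247 C) _ [144, 159, 167] _ (by decide +kernel) (by decide +kernel) (by decide +kernel)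

theorem f6061 : C.T (v17 C) [23, 35, 56, 70, 101, 109, 114] (v9 C) [17, 31, 59, 70, 94, 109, 117] :=
  C.flip (f6060 C)

theorem f6062 : C.T (v17 C) [9, 47, 69, 89, 107, 119] (v17 C) [13, 29, 74, 97, 109, 119] :=
  C.closeT (p := (v9 C)) (pu := [22, 47, 61, 70, 92, 109, 117])
    (C.pT (f6056 C)
    (C.pH [26, 38, 54, 89, 90, 113] [10, 40, 67, 78, 94, 110, 118] (by decide +kernel)
    (C.pT (f6059 C)
    (C.pH [8, 30, 65, 84, 94, 117] [9, 47, 69, 89, 107, 119] (by decide +kernel) (C.pNil _ _)))))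
    (C.pH [26, 38, 54, 89, 90, 113] [23, 35, 56, 70, 101, 109, 114] (by decide +kernel)
    (C.pT (f6061 C)
    (C.pH [8, 30, 65, 84, 94, 117] [22, 47, 61, 70, 92, 109, 117] (by decide +kernel) (C.pNil _ _))))
    (C.loop_of_one (relLoop2 C) _ _)

theorem f6067 : C.T (v9 C) [8, 36, 49, 72, 99, 110, 121] (v10 C) [18, 36, 52, 84, 92, 110, 125] :=
  C.conv (f2002 C) (f3429 C) (f3429 C) _ [148, 152, 165, 172, 177] _ (by decide +kernel) (by decide +kernel) (by decide +kernel)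

theorem f6068 : C.S (v10 C) [12, 36, 63, 82, 101, 109, 123] :=
  C.stMul (f1714 C) (f1699 C) _ (by decide +kernel)

theorem f6069 : C.S (v10 C) [20, 47, 60, 84] :=
  C.stMul (f1704 C) (f6068 C) _ (by decide +kernel)

theorem f6070 : C.S (v10 C) [23, 43, 49, 72, 99, 110, 111] :=
  C.stMul (f1709 C) (f1722 C) _ (by decide +kernel)

theorem f6071 : C.T (v10 C) [10, 46, 65, 70, 93, 120] (v17 C) [22, 32, 60, 70, 96, 109, 115] :=
  C.conv (f4758 C) (f6069 C) (f6070 C) _ [140, 150, 167, 173, 177] _ (by decide +kernel) (by decide +kernel) (by decide +kernel)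

theorem f6072 : C.S (v9 C) [47, 79, 100, 110, 114] :=
  C.stMul (f1620 C) (f1615 C) _ (by decide +kernel)

theorem f6073 : C.S (v9 C) [28, 52, 73, 91, 110, 119] :=
  C.stMul (f1607 C) (f6072 C) _ (by decide +kernel)

theorem f6074 : C.T (v9 C) [28, 66, 81, 92, 110, 118] (v17 C) [5, 40, 63, 74, 95, 110, 116] :=
  C.conv (f5160 C) (f5313 C) (f6073 C) _ [131, 157, 167, 176, 178] _ (by decide +kernel) (by decide +kernel) (by decide +kernel)

theorem f6075 : C.T (v17 C) [5, 40, 63, 74, 95, 110, 116] (v9 C) [28, 66, 81, 92, 110, 118] :=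
  C.flip (f6074 C)

theorem f6076 : C.T (v17 C) [6, 47, 53, 82, 98, 109, 122] (v17 C) [14, 41, 63, 93, 123] :=
  C.closeT (p := (v9 C)) (pu := [8, 36, 49, 72, 99, 110, 121])
    (C.pT (f6067 C)
    (C.pH [26, 38, 54, 89, 90, 113] [10, 46, 65, 70, 93, 120] (by decide +kernel)
    (C.pT (f6071 C)
    (C.pH [8, 30, 65, 84, 94, 117] [6, 47, 53, 82, 98, 109, 122] (by decide +kernel) (C.pNil _ _)))))
    (C.pH [26, 38, 54, 89, 90, 113] [5, 40, 63, 74, 95, 110, 116] (by decide +kernel)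
    (C.pT (f6075 C)
    (C.pH [8, 30, 65, 84, 94, 117] [8, 36, 49, 72, 99, 110, 121] (by decide +kernel) (C.pNil _ _))))
    (C.loop_of_one (relLoop2 C) _ _)

theorem f6077 : C.T (v17 C) [14, 41, 63, 93, 123] (v17 C) [6, 47, 53, 82, 98, 109, 122] :=
  C.flip (f6076 C)

theorem f6078 : C.T (v9 C) [5, 47, 53, 75, 93, 109, 114] (v10 C) [13, 32, 64, 75, 101, 110] :=
  C.conv (f2002 C) (f3429 C) (f3429 C) _ [141, 158, 169, 177] _ (by decide +kernel) (by decide +kernel) (by decide +kernel)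

theorem f6079 : C.S (v10 C) [20, 33, 80, 97, 116] :=
  C.stMul (f1709 C) (f1704 C) _ (by decide +kernel)

theorem f6080 : C.S (v10 C) [35, 61, 89, 104, 125] :=
  C.stMul (f1722 C) (f6079 C) _ (by decide +kernel)

theorem f6081 : C.S (v10 C) [7, 27, 69, 81, 96, 110, 119] :=
  C.stMul (f1709 C) (f6080 C) _ (by decide +kernel)

theorem f6082 : C.T (v10 C) [23, 30, 67, 71, 92, 109, 124] (v17 C) [8, 46, 67, 77, 108, 109, 117] :=
  C.conv (f5151 C) (f5867 C) (f6081 C) _ [128, 162, 166, 176] _ (by decide +kernel) (by decide +kernel) (by decide +kernel)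

theorem f6083 : C.S (v9 C) [18, 33, 55, 71, 105, 109, 125] :=
  C.stMul (f1615 C) (f5208 C) _ (by decide +kernel)

theorem f6084 : C.T (v9 C) [14, 41, 58, 78, 102, 109, 115] (v17 C) [13, 34, 57, 74, 98, 111] :=
  C.conv (f4665 C) (f4678 C) (f6083 C) _ [131, 161, 165, 172, 178] _ (by decide +kernel) (by decide +kernel) (by decide +kernel)

theorem f6085 : C.T (v17 C) [13, 34, 57, 74, 98, 111] (v9 C) [14, 41, 58, 78, 102, 109, 115] :=
  C.flip (f6084 C)

theorem f6086 : C.T (v17 C) [48, 50, 81, 102, 109, 122] (v17 C) [16, 38, 50, 74, 105, 118] :=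
  C.closeT (p := (v9 C)) (pu := [5, 47, 53, 75, 93, 109, 114])
    (C.pT (f6078 C)
    (C.pH [26, 38, 54, 89, 90, 113] [23, 30, 67, 71, 92, 109, 124] (by decide +kernel)
    (C.pT (f6082 C)
    (C.pH [8, 30, 65, 84, 94, 117] [48, 50, 81, 102, 109, 122] (by decide +kernel) (C.pNil _ _)))))
    (C.pH [26, 38, 54, 89, 90, 113] [13, 34, 57, 74, 98, 111] (by decide +kernel)
    (C.pT (f6085 C)
    (C.pH [8, 30, 65, 84, 94, 117] [5, 47, 53, 75, 93, 109, 114] (by decide +kernel) (C.pNil _ _))))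
    (C.loop_of_one (relLoop2 C) _ _)

theorem f6087 : C.T (v17 C) [16, 38, 50, 74, 105, 118] (v17 C) [48, 50, 81, 102, 109, 122] :=
  C.flip (f6086 C)

theorem f6088 : C.T (v9 C) [24, 47, 62, 80, 96, 110, 119] (v9 C) [9, 45, 66, 74, 108, 109, 114] :=
  C.conv (f2022 C) (f2024 C) (f2024 C) _ [127, 162, 167, 176] _ (by decide +kernel) (by decide +kernel) (by decide +kernel)

theorem f6089 : C.S (v9 C) [13, 48, 54, 73, 93, 110, 123] :=
  C.stMul (f1620 C) (f1610 C) _ (by decide +kernel)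

theorem f6090 : C.S (v9 C) [13, 40, 56, 79, 103, 109, 114] :=
  C.stMul (f1607 C) (f6089 C) _ (by decide +kernel)

theorem f6091 : C.T (v9 C) [22, 33, 55, 84, 102, 109, 115] (v17 C) [6, 30, 49, 83, 109, 125] :=
  C.conv (f5295 C) (f5298 C) (f6090 C) _ [136, 160, 164, 174] _ (by decide +kernel) (by decide +kernel) (by decide +kernel)

theorem f6092 : C.S (v9 C) [11, 40, 56, 79, 103, 109, 114] :=
  C.stMul (f1615 C) (f1620 C) _ (by decide +kernel)

theorem f6093 : C.T (v9 C) [21, 30, 66, 77, 100, 119] (v17 C) [12, 31, 69, 89, 90, 121] :=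
  C.conv (f5295 C) (f5298 C) (f6092 C) _ [139, 159, 170, 175, 178] _ (by decide +kernel) (by decide +kernel) (by decide +kernel)

theorem f6094 : C.T (v17 C) [12, 31, 69, 89, 90, 121] (v9 C) [21, 30, 66, 77, 100, 119] :=
  C.flip (f6093 C)

theorem f6095 : C.T (v17 C) [13, 36, 57, 83, 94, 109] (v17 C) [24, 40, 54, 76, 93, 110] :=
  C.closeT (p := (v9 C)) (pu := [24, 47, 62, 80, 96, 110, 119])
    (C.pT (f6088 C)
    (C.pH [26, 38, 54, 89, 90, 113] [22, 33, 55, 84, 102, 109, 115] (by decide +kernel)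
    (C.pT (f6091 C)
    (C.pH [8, 30, 65, 84, 94, 117] [13, 36, 57, 83, 94, 109] (by decide +kernel) (C.pNil _ _)))))
    (C.pH [26, 38, 54, 89, 90, 113] [12, 31, 69, 89, 90, 121] (by decide +kernel)
    (C.pT (f6094 C)
    (C.pH [8, 30, 65, 84, 94, 117] [24, 47, 62, 80, 96, 110, 119] (by decide +kernel) (C.pNil _ _))))
    (C.loop_of_one (relLoop2 C) _ _)

theorem f6098 : C.T (v9 C) [22, 32, 63, 77, 97, 109, 123] (v10 C) [19, 41, 60, 71, 104, 109, 112] :=
  C.conv (f2033 C) (f2523 C) (f2523 C) _ [127, 150, 169, 175] _ (by decide +kernel) (by decide +kernel) (by decide +kernel)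

theorem f6099 : C.T (v9 C) [17, 41, 57, 82, 90, 109, 117] (v16 C) [9, 38, 71, 94, 119] :=
  C.conv (f3492 C) (f3563 C) (f5019 C) _ [130, 149, 168, 172, 178] _ (by decide +kernel) (by decide +kernel) (by decide +kernel)

theorem f6100 : C.T (v16 C) [9, 38, 71, 94, 119] (v9 C) [17, 41, 57, 82, 90, 109, 117] :=
  C.flip (f6099 C)

theorem f6101 : C.T (v16 C) [15, 52, 82, 95, 109, 122] (v17 C) [4, 35, 66, 72, 96, 109, 113] :=
  C.conv (f4256 C) (f4492 C) (f3458 C) _ [137, 151, 164, 176] _ (by decide +kernel) (by decide +kernel) (by decide +kernel)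

theorem f6102 : C.T (v17 C) [4, 35, 66, 72, 96, 109, 113] (v16 C) [15, 52, 82, 95, 109, 122] :=
  C.flip (f6101 C)

theorem f6103 : C.T (v10 C) [17, 31, 67, 85, 102, 120] (v17 C) [18, 29, 61, 84, 93, 118] :=
  C.closeT (p := (v9 C)) (pu := [22, 32, 63, 77, 97, 109, 123])
    (C.pT (f6098 C)
    (C.pH [26, 38, 54, 89, 90, 113] [17, 31, 67, 85, 102, 120] (by decide +kernel) (C.pNil _ _)))
    (C.pH [8, 30, 65, 84, 94, 117] [4, 35, 66, 72, 96, 109, 113] (by decide +kernel)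
    (C.pT (f6102 C)
    (C.pH [26, 38, 54, 89, 90, 113] [9, 38, 71, 94, 119] (by decide +kernel)
    (C.pT (f6100 C)
    (C.pH [8, 30, 65, 84, 94, 117] [22, 32, 63, 77, 97, 109, 123] (by decide +kernel) (C.pNil _ _))))))
    (C.loop_of_one (relLoop2 C) _ _)

theorem f6104 : C.T (v17 C) [18, 29, 61, 84, 93, 118] (v10 C) [17, 31, 67, 85, 102, 120] :=
  C.flip (f6103 C)

theorem f6105 : C.T (v9 C) [25, 34, 56, 74, 91, 109, 117] (v4 C) [8, 40, 61, 82, 106, 118] :=
  C.conv (f2043 C) (f2531 C) (f2531 C) _ [136, 159, 167] _ (by decide +kernel) (by decide +kernel) (by decide +kernel)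

theorem f6106 : C.S (v9 C) [10, 47, 79, 100, 110, 114] :=
  C.stMul (f1620 C) (f1607 C) _ (by decide +kernel)

theorem f6107 : C.S (v9 C) [10, 28, 52, 73, 91, 110, 119] :=
  C.stMul (f1607 C) (f6106 C) _ (by decide +kernel)

theorem f6108 : C.T (v9 C) [4, 42, 56, 74, 92, 110, 124] (v17 C) [4, 48, 57, 78, 105, 110, 113] :=
  C.conv (f4232 C) (f1610 C) (f6107 C) _ [136, 164, 172, 178] _ (by decide +kernel) (by decide +kernel) (by decide +kernel)

theorem f6109 : C.T (v17 C) [4, 48, 57, 78, 105, 110, 113] (v9 C) [4, 42, 56, 74, 92, 110, 124] :=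
  C.flip (f6108 C)

theorem f6110 : C.S (v17 C) [23, 31, 75, 92, 109, 116] :=
  C.stMul (f4137 C) (f4132 C) _ (by decide +kernel)

theorem f6111 : C.T (v17 C) [6, 40, 60, 77, 103, 109, 113] (v17 C) [22, 45, 56, 87, 92, 109, 119] :=
  C.conv (f4943 C) (f6110 C) (f4300 C) _ [135, 158, 166, 176] _ (by decide +kernel) (by decide +kernel) (by decide +kernel)

theorem f6112 : C.T (v17 C) [22, 45, 56, 87, 92, 109, 119] (v17 C) [6, 40, 60, 77, 103, 109, 113] :=
  C.flip (f6111 C)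

theorem f6113 : C.T (v4 C) [11, 41, 49, 83, 92, 123] (v17 C) [17, 43, 72, 109, 121] :=
  C.closeT (p := (v9 C)) (pu := [25, 34, 56, 74, 91, 109, 117])
    (C.pT (f6105 C)
    (C.pH [26, 38, 54, 89, 90, 113] [11, 41, 49, 83, 92, 123] (by decide +kernel) (C.pNil _ _)))
    (C.pH [8, 30, 65, 84, 94, 117] [22, 45, 56, 87, 92, 109, 119] (by decide +kernel)
    (C.pT (f6112 C)
    (C.pH [26, 38, 54, 89, 90, 113] [4, 48, 57, 78, 105, 110, 113] (by decide +kernel)
    (C.pT (f6109 C)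
    (C.pH [8, 30, 65, 84, 94, 117] [25, 34, 56, 74, 91, 109, 117] (by decide +kernel) (C.pNil _ _))))))
    (C.loop_of_one (relLoop2 C) _ _)

theorem f6114 : C.T (v17 C) [17, 43, 72, 109, 121] (v4 C) [11, 41, 49, 83, 92, 123] :=
  C.flip (f6113 C)

theorem f6115 : C.T (v9 C) [5, 31, 69, 70, 97, 110, 116] (v4 C) [20, 48, 65, 74, 100, 110, 117] :=
  C.conv (f2043 C) (f2531 C) (f2531 C) _ [158, 166, 174, 177] _ (by decide +kernel) (by decide +kernel) (by decide +kernel)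

theorem f6116 : C.S (v4 C) [10, 27, 56, 84, 93, 109, 113] :=
  C.stMul (f407 C) (f421 C) _ (by decide +kernel)

theorem f6117 : C.S (v4 C) [16, 32, 68, 79, 93, 110, 124] :=
  C.stMul (f407 C) (f6116 C) _ (by decide +kernel)

theorem f6118 : C.T (v4 C) [15, 57, 76, 90, 122] (v4 C) [17, 35, 53, 83, 105, 110, 113] :=
  C.conv (f901 C) (f697 C) (f6117 C) _ [132, 159, 169, 172] _ (by decide +kernel) (by decide +kernel) (by decide +kernel)

theorem f6119 : C.T (v9 C) [14, 50, 72, 94, 115] (v17 C) [8, 32, 51, 107, 110, 114] :=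
  C.conv (f5295 C) (f5298 C) (f5842 C) _ [131, 158, 170, 176, 177] _ (by decide +kernel) (by decide +kernel) (by decide +kernel)

theorem f6120 : C.T (v17 C) [8, 32, 51, 107, 110, 114] (v9 C) [14, 50, 72, 94, 115] :=
  C.flip (f6119 C)

theorem f6121 : C.T (v4 C) [22, 36, 58, 80, 100, 109, 111] (v17 C) [5, 37, 52, 80, 90, 110, 122] :=
  C.closeT (p := (v9 C)) (pu := [5, 31, 69, 70, 97, 110, 116])
    (C.pT (f6115 C)
    (C.pH [26, 38, 54, 89, 90, 113] [15, 57, 76, 90, 122] (by decide +kernel)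
    (C.pT (f6118 C)
    (C.pH [8, 30, 65, 84, 94, 117] [22, 36, 58, 80, 100, 109, 111] (by decide +kernel) (C.pNil _ _)))))
    (C.pH [26, 38, 54, 89, 90, 113] [8, 32, 51, 107, 110, 114] (by decide +kernel)
    (C.pT (f6120 C)
    (C.pH [8, 30, 65, 84, 94, 117] [5, 31, 69, 70, 97, 110, 116] (by decide +kernel) (C.pNil _ _))))
    (C.loop_of_one (relLoop2 C) _ _)

theorem f6122 : C.T (v17 C) [5, 37, 52, 80, 90, 110, 122] (v4 C) [22, 36, 58, 80, 100, 109, 111] :=
  C.flip (f6121 C)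

theorem f6123 : C.T (v9 C) [26, 48, 66, 71, 99, 109, 116] (v9 C) [16, 48, 66, 73, 97, 110, 116] :=
  C.conv (f2051 C) (f2054 C) (f2054 C) _ [141, 165, 171] _ (by decide +kernel) (by decide +kernel) (by decide +kernel)

theorem f6124 : C.S (v9 C) [13, 40, 59, 82, 99, 110, 111] :=
  C.stMul (f1615 C) (f5302 C) _ (by decide +kernel)

theorem f6125 : C.T (v9 C) [13, 29, 50, 94, 109, 115] (v17 C) [14, 46, 61, 85, 102, 109, 125] :=
  C.conv (f5295 C) (f5298 C) (f6124 C) _ [144, 163, 168, 172, 178] _ (by decide +kernel) (by decide +kernel) (by decide +kernel)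

theorem f6126 : C.S (v9 C) [21, 32, 63, 85, 106, 110, 120] :=
  C.stMul (f1624 C) (f1620 C) _ (by decide +kernel)

theorem f6127 : C.S (v9 C) [12, 29, 63, 103, 119] :=
  C.stMul (f1620 C) (f6126 C) _ (by decide +kernel)

theorem f6128 : C.S (v9 C) [6, 33, 57, 77, 98, 119] :=
  C.stMul (f1615 C) (f6127 C) _ (by decide +kernel)

theorem f6129 : C.T (v9 C) [19, 52, 87, 99, 114] (v17 C) [9, 29, 50, 86, 91, 110, 111] :=
  C.conv (f5345 C) (f5502 C) (f6128 C) _ [149, 166, 172, 177] _ (by decide +kernel) (by decide +kernel) (by decide +kernel)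

theorem f6130 : C.T (v17 C) [9, 29, 50, 86, 91, 110, 111] (v9 C) [19, 52, 87, 99, 114] :=
  C.flip (f6129 C)

theorem f6131 : C.T (v17 C) [5, 34, 67, 75, 96, 110, 120] (v17 C) [15, 45, 67, 106, 110, 117] :=
  C.closeT (p := (v9 C)) (pu := [26, 48, 66, 71, 99, 109, 116])
    (C.pT (f6123 C)
    (C.pH [26, 38, 54, 89, 90, 113] [13, 29, 50, 94, 109, 115] (by decide +kernel)
    (C.pT (f6125 C)
    (C.pH [8, 30, 65, 84, 94, 117] [5, 34, 67, 75, 96, 110, 120] (by decide +kernel) (C.pNil _ _)))))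
    (C.pH [26, 38, 54, 89, 90, 113] [9, 29, 50, 86, 91, 110, 111] (by decide +kernel)
    (C.pT (f6130 C)
    (C.pH [8, 30, 65, 84, 94, 117] [26, 48, 66, 71, 99, 109, 116] (by decide +kernel) (C.pNil _ _))))
    (C.loop_of_one (relLoop2 C) _ _)

theorem f6132 : C.T (v17 C) [15, 45, 67, 106, 110, 117] (v17 C) [5, 34, 67, 75, 96, 110, 120] :=
  C.flip (f6131 C)

theorem f6133 : C.T (v9 C) [11, 44, 68, 108, 109, 121] (v9 C) [22, 28, 57, 73, 102, 109, 123] :=
  C.conv (f2051 C) (f2054 C) (f2054 C) _ [142, 160, 165] _ (by decide +kernel) (by decide +kernel) (by decide +kernel)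

theorem f6134 : C.S (v9 C) [43, 67, 71, 98, 119] :=
  C.stMul (f1620 C) (f5227 C) _ (by decide +kernel)

theorem f6135 : C.T (v9 C) [19, 33, 50, 76, 108, 109, 117] (v17 C) [18, 28, 49, 75, 92, 109, 125] :=
  C.conv (f4863 C) (f4877 C) (f6134 C) _ [133, 159, 165, 174, 177] _ (by decide +kernel) (by decide +kernel) (by decide +kernel)

theorem f6136 : C.S (v9 C) [13, 44, 56, 75, 90, 109, 118] :=
  C.stMul (f1620 C) (f4976 C) _ (by decide +kernel)

theorem f6137 : C.T (v9 C) [13, 40, 65, 72, 92, 110, 118] (v17 C) [21, 27, 50, 77, 107, 124] :=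
  C.conv (f4829 C) (f4967 C) (f6136 C) _ [147, 151, 168, 172, 177] _ (by decide +kernel) (by decide +kernel) (by decide +kernel)

theorem f6138 : C.T (v17 C) [21, 27, 50, 77, 107, 124] (v9 C) [13, 40, 65, 72, 92, 110, 118] :=
  C.flip (f6137 C)

theorem f6139 : C.T (v17 C) [4, 43, 59, 82, 103, 110, 122] (v17 C) [10, 35, 57, 78, 98, 110, 118] :=
  C.closeT (p := (v9 C)) (pu := [11, 44, 68, 108, 109, 121])
    (C.pT (f6133 C)
    (C.pH [26, 38, 54, 89, 90, 113] [19, 33, 50, 76, 108, 109, 117] (by decide +kernel)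
    (C.pT (f6135 C)
    (C.pH [8, 30, 65, 84, 94, 117] [4, 43, 59, 82, 103, 110, 122] (by decide +kernel) (C.pNil _ _)))))
    (C.pH [26, 38, 54, 89, 90, 113] [21, 27, 50, 77, 107, 124] (by decide +kernel)
    (C.pT (f6138 C)
    (C.pH [8, 30, 65, 84, 94, 117] [11, 44, 68, 108, 109, 121] (by decide +kernel) (C.pNil _ _))))
    (C.loop_of_one (relLoop2 C) _ _)

theorem f6143 : C.T (v9 C) [4, 31, 62, 78, 100, 110, 114] (v5 C) [23, 44, 63, 97, 116] :=
  C.conv (f2077 C) (f1620 C) (f1620 C) _ [131, 152, 173] _ (by decide +kernel) (by decide +kernel) (by decide +kernel)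

theorem f6144 : C.T (v9 C) [18, 37, 60, 100, 109] (v17 C) [8, 33, 65, 85, 122] :=
  C.conv (f5160 C) (f5313 C) (f5938 C) _ [145, 161, 174, 178] _ (by decide +kernel) (by decide +kernel) (by decide +kernel)

theorem f6145 : C.T (v17 C) [8, 33, 65, 85, 122] (v9 C) [18, 37, 60, 100, 109] :=
  C.flip (f6144 C)

theorem f6146 : C.T (v17 C) [5, 36, 61, 87, 95, 121] (v17 C) [13, 48, 54, 85, 97, 123] :=
  C.conv (f5805 C) (f5807 C) (f4137 C) _ [133, 160, 178] _ (by decide +kernel) (by decide +kernel) (by decide +kernel)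

theorem f6147 : C.T (v17 C) [13, 48, 54, 85, 97, 123] (v17 C) [5, 36, 61, 87, 95, 121] :=
  C.flip (f6146 C)

theorem f6148 : C.T (v5 C) [7, 35, 53, 88, 99, 109, 117] (v17 C) [6, 27, 72, 91, 117] :=
  C.closeT (p := (v9 C)) (pu := [4, 31, 62, 78, 100, 110, 114])
    (C.pT (f6143 C)
    (C.pH [26, 38, 54, 89, 90, 113] [7, 35, 53, 88, 99, 109, 117] (by decide +kernel) (C.pNil _ _)))
    (C.pH [8, 30, 65, 84, 94, 117] [13, 48, 54, 85, 97, 123] (by decide +kernel)
    (C.pT (f6147 C)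
    (C.pH [26, 38, 54, 89, 90, 113] [8, 33, 65, 85, 122] (by decide +kernel)
    (C.pT (f6145 C)
    (C.pH [8, 30, 65, 84, 94, 117] [4, 31, 62, 78, 100, 110, 114] (by decide +kernel) (C.pNil _ _))))))
    (C.loop_of_one (relLoop2 C) _ _)

theorem f6149 : C.T (v17 C) [6, 27, 72, 91, 117] (v5 C) [7, 35, 53, 88, 99, 109, 117] :=
  C.flip (f6148 C)

theorem f6150 : C.T (v9 C) [18, 34, 57, 87, 109, 113] (v5 C) [9, 28, 59, 74, 90, 109, 112] :=
  C.conv (f2077 C) (f1620 C) (f1620 C) _ [134, 159, 168, 174] _ (by decide +kernel) (by decide +kernel) (by decide +kernel)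

theorem f6151 : C.S (v5 C) [10, 27, 54, 88, 92, 110, 113] :=
  C.stMul (f1023 C) (f1023 C) _ (by decide +kernel)

theorem f6152 : C.S (v5 C) [11, 37, 62, 72, 90, 110, 124] :=
  C.stMul (f1023 C) (f6151 C) _ (by decide +kernel)

theorem f6153 : C.T (v5 C) [22, 39, 55, 71, 95, 110, 122] (v4 C) [5, 45, 60, 79, 102, 109, 115] :=
  C.conv (f1043 C) (f1023 C) (f6152 C) _ [127, 151, 168, 175, 178] _ (by decide +kernel) (by decide +kernel) (by decide +kernel)

theorem f6154 : C.T (v9 C) [9, 57, 87, 105, 112] (v17 C) [17, 35, 59, 72, 93, 110, 116] :=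
  C.conv (f4863 C) (f4877 C) (f4880 C) _ [127, 161, 168, 174, 178] _ (by decide +kernel) (by decide +kernel) (by decide +kernel)

theorem f6155 : C.T (v17 C) [17, 35, 59, 72, 93, 110, 116] (v9 C) [9, 57, 87, 105, 112] :=
  C.flip (f6154 C)

theorem f6156 : C.T (v4 C) [12, 27, 62, 85, 102, 116] (v17 C) [19, 40, 54, 80, 95, 110, 117] :=
  C.closeT (p := (v9 C)) (pu := [18, 34, 57, 87, 109, 113])
    (C.pT (f6150 C)
    (C.pH [26, 38, 54, 89, 90, 113] [22, 39, 55, 71, 95, 110, 122] (by decide +kernel)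
    (C.pT (f6153 C)
    (C.pH [8, 30, 65, 84, 94, 117] [12, 27, 62, 85, 102, 116] (by decide +kernel) (C.pNil _ _)))))
    (C.pH [26, 38, 54, 89, 90, 113] [17, 35, 59, 72, 93, 110, 116] (by decide +kernel)
    (C.pT (f6155 C)
    (C.pH [8, 30, 65, 84, 94, 117] [18, 34, 57, 87, 109, 113] (by decide +kernel) (C.pNil _ _))))
    (C.loop_of_one (relLoop2 C) _ _)

theorem f6157 : C.T (v17 C) [19, 40, 54, 80, 95, 110, 117] (v4 C) [12, 27, 62, 85, 102, 116] :=
  C.flip (f6156 C)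

theorem f6158 : C.T (v9 C) [11, 37, 66, 76, 102, 110, 113] (v9 C) [8, 37, 61, 81, 108, 110, 125] :=
  C.conv (f2087 C) (f1615 C) (f1615 C) _ [141, 154, 166, 175, 178] _ (by decide +kernel) (by decide +kernel) (by decide +kernel)

theorem f6159 : C.S (v9 C) [22, 48, 68, 83, 104, 125] :=
  C.stMul (f1624 C) (f1610 C) _ (by decide +kernel)

theorem f6160 : C.S (v9 C) [21, 37, 55, 75, 92, 110, 123] :=
  C.stMul (f1615 C) (f6159 C) _ (by decide +kernel)

theorem f6161 : C.T (v9 C) [11, 48, 67, 75, 95, 109] (v17 C) [27, 53, 72, 103, 109, 113] :=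
  C.conv (f5345 C) (f5502 C) (f6160 C) _ [141, 153, 167, 171] _ (by decide +kernel) (by decide +kernel) (by decide +kernel)

theorem f6162 : C.T (v9 C) [13, 38, 56, 85, 92, 110, 123] (v15 C) [12, 35, 66, 79, 101, 110, 117] :=
  C.conv (f3038 C) (f3917 C) (f5181 C) _ [132, 151, 165, 172] _ (by decide +kernel) (by decide +kernel) (by decide +kernel)

theorem f6163 : C.T (v15 C) [12, 35, 66, 79, 101, 110, 117] (v9 C) [13, 38, 56, 85, 92, 110, 123] :=
  C.flip (f6162 C)

theorem f6164 : C.T (v17 C) [8, 43, 59, 80, 99, 109, 112] (v15 C) [24, 43, 64, 77, 107, 110, 119] :=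
  C.closeT (p := (v9 C)) (pu := [11, 37, 66, 76, 102, 110, 113])
    (C.pT (f6158 C)
    (C.pH [26, 38, 54, 89, 90, 113] [11, 48, 67, 75, 95, 109] (by decide +kernel)
    (C.pT (f6161 C)
    (C.pH [8, 30, 65, 84, 94, 117] [8, 43, 59, 80, 99, 109, 112] (by decide +kernel) (C.pNil _ _)))))
    (C.pH [26, 38, 54, 89, 90, 113] [12, 35, 66, 79, 101, 110, 117] (by decide +kernel)
    (C.pT (f6163 C)
    (C.pH [8, 30, 65, 84, 94, 117] [11, 37, 66, 76, 102, 110, 113] (by decide +kernel) (C.pNil _ _))))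
    (C.loop_of_one (relLoop2 C) _ _)

theorem f6165 : C.T (v15 C) [24, 43, 64, 77, 107, 110, 119] (v17 C) [8, 43, 59, 80, 99, 109, 112] :=
  C.flip (f6164 C)

theorem f6166 : C.T (v9 C) [5, 35, 67, 70, 93, 110, 112] (v9 C) [23, 30, 64, 80, 96, 111] :=
  C.conv (f2087 C) (f1615 C) (f1615 C) _ [133, 152, 165, 177] _ (by decide +kernel) (by decide +kernel) (by decide +kernel)

theorem f6167 : C.S (v9 C) [4, 48, 53, 80, 99, 115] :=
  C.stMul (f1615 C) (f1624 C) _ (by decide +kernel)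

theorem f6168 : C.T (v9 C) [7, 39, 59, 82, 98] (v17 C) [4, 39, 59, 81, 92, 110, 111] :=
  C.conv (f5262 C) (f5270 C) (f6167 C) _ [147, 158, 170, 173, 178] _ (by decide +kernel) (by decide +kernel) (by decide +kernel)

theorem f6169 : C.S (v9 C) [10, 28, 53, 80, 101, 110, 112] :=
  C.stMul (f1607 C) (f1620 C) _ (by decide +kernel)

theorem f6170 : C.S (v9 C) [11, 44, 50, 87, 101, 113] :=
  C.stMul (f1620 C) (f6169 C) _ (by decide +kernel)

theorem f6171 : C.T (v9 C) [14, 27, 66, 82, 96, 109, 112] (v17 C) [22, 44, 54, 75, 94, 110, 112] :=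
  C.conv (f5295 C) (f5298 C) (f6170 C) _ [126, 154, 168, 174] _ (by decide +kernel) (by decide +kernel) (by decide +kernel)

theorem f6172 : C.T (v17 C) [22, 44, 54, 75, 94, 110, 112] (v9 C) [14, 27, 66, 82, 96, 109, 112] :=
  C.flip (f6171 C)

theorem f6173 : C.T (v17 C) [25, 37, 69, 79, 112] (v17 C) [9, 41, 54, 87, 100, 110, 112] :=
  C.closeT (p := (v9 C)) (pu := [5, 35, 67, 70, 93, 110, 112])
    (C.pT (f6166 C)
    (C.pH [26, 38, 54, 89, 90, 113] [7, 39, 59, 82, 98] (by decide +kernel)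
    (C.pT (f6168 C)
    (C.pH [8, 30, 65, 84, 94, 117] [25, 37, 69, 79, 112] (by decide +kernel) (C.pNil _ _)))))
    (C.pH [26, 38, 54, 89, 90, 113] [22, 44, 54, 75, 94, 110, 112] (by decide +kernel)
    (C.pT (f6172 C)
    (C.pH [8, 30, 65, 84, 94, 117] [5, 35, 67, 70, 93, 110, 112] (by decide +kernel) (C.pNil _ _))))
    (C.loop_of_one (relLoop2 C) _ _)

theorem f6174 : C.T (v17 C) [9, 41, 54, 87, 100, 110, 112] (v17 C) [25, 37, 69, 79, 112] :=
  C.flip (f6173 C)

theorem f6175 : C.T (v9 C) [9, 35, 62, 92, 109, 117] (v14 C) [13, 38, 69, 89, 96, 109, 111] :=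
  C.conv (f2500 C) (f2513 C) (f2513 C) _ [136, 153, 169, 172] _ (by decide +kernel) (by decide +kernel) (by decide +kernel)

theorem f6176 : C.S (v14 C) [10, 37, 55, 71, 103, 109, 123] :=
  C.stMul (f2441 C) (f2437 C) _ (by decide +kernel)

theorem f6177 : C.S (v14 C) [25, 43, 63, 76, 105, 110, 120] :=
  C.stMul (f2454 C) (f6176 C) _ (by decide +kernel)

theorem f6178 : C.S (v14 C) [17, 47, 57, 75, 97, 109, 114] :=
  C.stMul (f2441 C) (f6177 C) _ (by decide +kernel)

theorem f6179 : C.S (v14 C) [37, 58, 89, 108, 119] :=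
  C.stMul (f2441 C) (f6178 C) _ (by decide +kernel)

theorem f6180 : C.T (v14 C) [23, 29, 62, 78, 108, 110, 120] (v17 C) [16, 30, 73, 108, 122] :=
  C.conv (f4819 C) (f5426 C) (f6179 C) _ [128, 169, 176, 178] _ (by decide +kernel) (by decide +kernel) (by decide +kernel)

theorem f6181 : C.S (v9 C) [13, 40, 56, 79, 103, 109, 114] :=
  C.stMul (f1607 C) (f5590 C) _ (by decide +kernel)

theorem f6182 : C.S (v9 C) [4, 47, 63, 80, 93, 112] :=
  C.stMul (f1624 C) (f6181 C) _ (by decide +kernel)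

theorem f6183 : C.T (v9 C) [25, 39, 66, 70, 99, 109, 122] (v17 C) [11, 32, 69, 84, 105, 110, 118] :=
  C.conv (f5160 C) (f5313 C) (f6182 C) _ [127, 159, 170, 174] _ (by decide +kernel) (by decide +kernel) (by decide +kernel)

theorem f6184 : C.T (v17 C) [11, 32, 69, 84, 105, 110, 118] (v9 C) [25, 39, 66, 70, 99, 109, 122] :=
  C.flip (f6183 C)

theorem f6185 : C.T (v17 C) [20, 28, 57, 107, 110] (v17 C) [8, 44, 69, 73, 96, 110, 125] :=
  C.closeT (p := (v9 C)) (pu := [9, 35, 62, 92, 109, 117])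
    (C.pT (f6175 C)
    (C.pH [26, 38, 54, 89, 90, 113] [23, 29, 62, 78, 108, 110, 120] (by decide +kernel)
    (C.pT (f6180 C)
    (C.pH [8, 30, 65, 84, 94, 117] [20, 28, 57, 107, 110] (by decide +kernel) (C.pNil _ _)))))
    (C.pH [26, 38, 54, 89, 90, 113] [11, 32, 69, 84, 105, 110, 118] (by decide +kernel)
    (C.pT (f6184 C)
    (C.pH [8, 30, 65, 84, 94, 117] [9, 35, 62, 92, 109, 117] (by decide +kernel) (C.pNil _ _))))
    (C.loop_of_one (relLoop2 C) _ _)

theorem f6188 : C.T (v9 C) [9, 31, 55, 82, 106, 109, 122] (v15 C) [5, 39, 68, 72, 94, 121] :=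
  C.conv (f2928 C) (f3035 C) (f3035 C) _ [146, 150, 170, 172] _ (by decide +kernel) (by decide +kernel) (by decide +kernel)

theorem f6189 : C.S (v9 C) [22, 28, 59, 71, 101, 109, 111] :=
  C.stMul (f1624 C) (f4640 C) _ (by decide +kernel)

theorem f6190 : C.T (v9 C) [25, 43, 65, 85, 108, 118] (v4 C) [6, 44, 62, 88, 103, 111] :=
  C.conv (f2043 C) (f2531 C) (f6189 C) _ [126, 157, 170, 176, 177] _ (by decide +kernel) (by decide +kernel) (by decide +kernel)

theorem f6191 : C.T (v4 C) [6, 44, 62, 88, 103, 111] (v9 C) [25, 43, 65, 85, 108, 118] :=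
  C.flip (f6190 C)

theorem f6192 : C.S (v4 C) [18, 46, 49, 75, 97, 110, 118] :=
  C.stMul (f407 C) (f407 C) _ (by decide +kernel)

theorem f6193 : C.S (v4 C) [23, 45, 57, 77, 95, 110, 118] :=
  C.stMul (f407 C) (f6192 C) _ (by decide +kernel)

theorem f6194 : C.S (v4 C) [16, 46, 68, 72, 103, 110, 111] :=
  C.stMul (f693 C) (f6193 C) _ (by decide +kernel)

theorem f6195 : C.T (v4 C) [21, 31, 60, 89, 97, 109, 120] (v17 C) [15, 41, 60, 76, 107, 117] :=
  C.conv (f5985 C) (f6194 C) (f6194 C) _ [126, 161, 165, 175, 178] _ (by decide +kernel) (by decide +kernel) (by decide +kernel)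

theorem f6196 : C.T (v17 C) [15, 41, 60, 76, 107, 117] (v4 C) [21, 31, 60, 89, 97, 109, 120] :=
  C.flip (f6195 C)

theorem f6197 : C.T (v15 C) [8, 37, 50, 80, 99, 110, 111] (v17 C) [10, 36, 58, 73, 105, 121] :=
  C.closeT (p := (v9 C)) (pu := [9, 31, 55, 82, 106, 109, 122])
    (C.pT (f6188 C)
    (C.pH [26, 38, 54, 89, 90, 113] [8, 37, 50, 80, 99, 110, 111] (by decide +kernel) (C.pNil _ _)))
    (C.pH [8, 30, 65, 84, 94, 117] [15, 41, 60, 76, 107, 117] (by decide +kernel)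
    (C.pT (f6196 C)
    (C.pH [26, 38, 54, 89, 90, 113] [6, 44, 62, 88, 103, 111] (by decide +kernel)
    (C.pT (f6191 C)
    (C.pH [8, 30, 65, 84, 94, 117] [9, 31, 55, 82, 106, 109, 122] (by decide +kernel) (C.pNil _ _))))))
    (C.loop_of_one (relLoop2 C) _ _)

theorem f6198 : C.T (v17 C) [10, 36, 58, 73, 105, 121] (v15 C) [8, 37, 50, 80, 99, 110, 111] :=
  C.flip (f6197 C)

theorem f6199 : C.T (v9 C) [21, 45, 59, 81, 97, 109] (v15 C) [8, 29, 50, 88, 98, 114] :=
  C.conv (f2975 C) (f3307 C) (f3307 C) _ [129, 150, 164, 175] _ (by decide +kernel) (by decide +kernel) (by decide +kernel)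

theorem f6200 : C.S (v9 C) [4, 48, 68, 83, 104, 125] :=
  C.stMul (f1624 C) (f1615 C) _ (by decide +kernel)

theorem f6201 : C.S (v9 C) [18, 29, 50, 71, 91, 114] :=
  C.stMul (f1620 C) (f6200 C) _ (by decide +kernel)

theorem f6202 : C.T (v9 C) [12, 48, 50, 70, 106, 123] (v17 C) [15, 45, 69, 76, 97, 109, 111] :=
  C.conv (f5345 C) (f5502 C) (f6201 C) _ [147, 163, 167, 176] _ (by decide +kernel) (by decide +kernel) (by decide +kernel)

theorem f6203 : C.T (v17 C) [15, 45, 69, 76, 97, 109, 111] (v9 C) [12, 48, 50, 70, 106, 123] :=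
  C.flip (f6202 C)

theorem f6204 : C.S (v17 C) [51, 81, 96, 109, 125] :=
  C.stMul (f4132 C) (f4137 C) _ (by decide +kernel)

theorem f6205 : C.T (v17 C) [20, 43, 59, 88, 100, 117] (v17 C) [20, 27, 67, 70, 102, 112] :=
  C.conv (f5408 C) (f4137 C) (f6204 C) _ [143, 163, 169, 171, 178] _ (by decide +kernel) (by decide +kernel) (by decide +kernel)

theorem f6206 : C.T (v17 C) [20, 27, 67, 70, 102, 112] (v17 C) [20, 43, 59, 88, 100, 117] :=
  C.flip (f6205 C)

theorem f6207 : C.T (v15 C) [11, 47, 64, 74, 105, 109, 111] (v17 C) [16, 45, 67, 84, 108, 109, 117] :=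
  C.closeT (p := (v9 C)) (pu := [21, 45, 59, 81, 97, 109])
    (C.pT (f6199 C)
    (C.pH [26, 38, 54, 89, 90, 113] [11, 47, 64, 74, 105, 109, 111] (by decide +kernel) (C.pNil _ _)))
    (C.pH [8, 30, 65, 84, 94, 117] [20, 27, 67, 70, 102, 112] (by decide +kernel)
    (C.pT (f6206 C)
    (C.pH [26, 38, 54, 89, 90, 113] [15, 45, 69, 76, 97, 109, 111] (by decide +kernel)
    (C.pT (f6203 C)
    (C.pH [8, 30, 65, 84, 94, 117] [21, 45, 59, 81, 97, 109] (by decide +kernel) (C.pNil _ _))))))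
    (C.loop_of_one (relLoop2 C) _ _)

theorem f6208 : C.T (v17 C) [16, 45, 67, 84, 108, 109, 117] (v15 C) [11, 47, 64, 74, 105, 109, 111] :=
  C.flip (f6207 C)

theorem f6209 : C.T (v9 C) [16, 33, 51, 78, 94, 109, 114] (v15 C) [21, 27, 66, 71, 102, 109, 117] :=
  C.conv (f2975 C) (f3307 C) (f3307 C) _ [133, 155, 175] _ (by decide +kernel) (by decide +kernel) (by decide +kernel)

theorem f6210 : C.S (v9 C) [25, 29, 52, 87, 96, 125] :=
  C.stMul (f1620 C) (f5938 C) _ (by decide +kernel)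

theorem f6211 : C.T (v9 C) [24, 39, 52, 82, 94] (v17 C) [14, 45, 53, 89, 109, 123] :=
  C.conv (f5160 C) (f5313 C) (f6210 C) _ [146, 153, 168, 173, 178] _ (by decide +kernel) (by decide +kernel) (by decide +kernel)

theorem f6212 : C.T (v17 C) [14, 45, 53, 89, 109, 123] (v9 C) [24, 39, 52, 82, 94] :=
  C.flip (f6211 C)

theorem f6213 : C.S (v17 C) [51, 81, 96, 109, 125] :=
  C.stMul (f4132 C) (f4137 C) _ (by decide +kernel)

theorem f6214 : C.T (v17 C) [12, 44, 51, 79, 106, 109, 116] (v17 C) [15, 34, 63, 83, 106, 110, 113] :=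
  C.conv (f5286 C) (f6213 C) (f4132 C) _ [141, 151, 167, 177] _ (by decide +kernel) (by decide +kernel) (by decide +kernel)

theorem f6215 : C.T (v17 C) [15, 34, 63, 83, 106, 110, 113] (v17 C) [12, 44, 51, 79, 106, 109, 116] :=
  C.flip (f6214 C)

theorem f6216 : C.T (v15 C) [6, 28, 61, 86, 97, 109, 121] (v17 C) [10, 44, 62, 77, 90, 109, 111] :=
  C.closeT (p := (v9 C)) (pu := [16, 33, 51, 78, 94, 109, 114])
    (C.pT (f6209 C)
    (C.pH [26, 38, 54, 89, 90, 113] [6, 28, 61, 86, 97, 109, 121] (by decide +kernel) (C.pNil _ _)))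
    (C.pH [8, 30, 65, 84, 94, 117] [15, 34, 63, 83, 106, 110, 113] (by decide +kernel)
    (C.pT (f6215 C)
    (C.pH [26, 38, 54, 89, 90, 113] [14, 45, 53, 89, 109, 123] (by decide +kernel)
    (C.pT (f6212 C)
    (C.pH [8, 30, 65, 84, 94, 117] [16, 33, 51, 78, 94, 109, 114] (by decide +kernel) (C.pNil _ _))))))
    (C.loop_of_one (relLoop2 C) _ _)

theorem f6217 : C.T (v17 C) [10, 44, 62, 77, 90, 109, 111] (v15 C) [6, 28, 61, 86, 97, 109, 121] :=
  C.flip (f6216 C)

theorem f6218 : C.T (v9 C) [5, 35, 60, 87, 100, 109, 112] (v15 C) [18, 31, 65, 88, 107, 109] :=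
  C.conv (f3025 C) (f4013 C) (f4013 C) _ [136, 163, 167, 173, 177] _ (by decide +kernel) (by decide +kernel) (by decide +kernel)

theorem f6219 : C.S (v15 C) [24, 47, 64, 83, 99, 109, 111] :=
  C.stMul (f2581 C) (f2569 C) _ (by decide +kernel)

theorem f6220 : C.T (v15 C) [10, 30, 50, 106, 125] (v15 C) [4, 33, 51, 76, 102, 112] :=
  C.conv (f3230 C) (f2569 C) (f6219 C) _ [135, 157, 176, 177] _ (by decide +kernel) (by decide +kernel) (by decide +kernel)

theorem f6221 : C.S (v9 C) [47, 79, 100, 110, 114] :=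
  C.stMul (f1620 C) (f1615 C) _ (by decide +kernel)

theorem f6222 : C.S (v9 C) [13, 40, 59, 82, 99, 110, 111] :=
  C.stMul (f1615 C) (f6221 C) _ (by decide +kernel)

theorem f6223 : C.T (v9 C) [14, 27, 53, 89, 106, 110, 112] (v17 C) [25, 32, 60, 88, 97, 109, 114] :=
  C.conv (f5262 C) (f5270 C) (f6222 C) _ [135, 150, 170, 174, 178] _ (by decide +kernel) (by decide +kernel) (by decide +kernel)

theorem f6224 : C.T (v17 C) [25, 32, 60, 88, 97, 109, 114] (v9 C) [14, 27, 53, 89, 106, 110, 112] :=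
  C.flip (f6223 C)

theorem f6225 : C.T (v15 C) [25, 42, 65, 81, 105, 121] (v17 C) [4, 33, 54, 72, 109, 117] :=
  C.closeT (p := (v9 C)) (pu := [5, 35, 60, 87, 100, 109, 112])
    (C.pT (f6218 C)
    (C.pH [26, 38, 54, 89, 90, 113] [10, 30, 50, 106, 125] (by decide +kernel)
    (C.pT (f6220 C)
    (C.pH [8, 30, 65, 84, 94, 117] [25, 42, 65, 81, 105, 121] (by decide +kernel) (C.pNil _ _)))))
    (C.pH [26, 38, 54, 89, 90, 113] [25, 32, 60, 88, 97, 109, 114] (by decide +kernel)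
    (C.pT (f6224 C)
    (C.pH [8, 30, 65, 84, 94, 117] [5, 35, 60, 87, 100, 109, 112] (by decide +kernel) (C.pNil _ _))))
    (C.loop_of_one (relLoop2 C) _ _)

theorem f6226 : C.T (v17 C) [4, 33, 54, 72, 109, 117] (v15 C) [25, 42, 65, 81, 105, 121] :=
  C.flip (f6225 C)

theorem f6227 : C.T (v9 C) [5, 47, 60, 81, 91, 110, 119] (v15 C) [20, 45, 49, 83, 106, 109] :=
  C.conv (f3025 C) (f4013 C) (f4013 C) _ [138, 161, 167, 173, 177] _ (by decide +kernel) (by decide +kernel) (by decide +kernel)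

theorem f6228 : C.S (v9 C) [11, 45, 66, 71, 92, 109, 125] :=
  C.stMul (f1610 C) (f1607 C) _ (by decide +kernel)

theorem f6229 : C.S (v9 C) [10] :=
  C.stMul (f1615 C) (f6228 C) _ (by decide +kernel)

theorem f6230 : C.T (v9 C) [14, 41, 68, 70, 100, 109, 116] (v10 C) [12, 38, 54, 78, 108, 110, 124] :=
  C.conv (f2002 C) (f3429 C) (f6229 C) _ [138, 162, 165, 173, 178] _ (by decide +kernel) (by decide +kernel) (by decide +kernel)

theorem f6231 : C.T (v10 C) [12, 38, 54, 78, 108, 110, 124] (v9 C) [14, 41, 68, 70, 100, 109, 116] :=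
  C.flip (f6230 C)

theorem f6232 : C.S (v10 C) [18, 35, 52, 77, 102, 109, 115] :=
  C.stMul (f1714 C) (f1704 C) _ (by decide +kernel)

theorem f6233 : C.S (v10 C) [22, 40, 53, 75, 107, 125] :=
  C.stMul (f1709 C) (f6232 C) _ (by decide +kernel)

theorem f6234 : C.S (v10 C) [12, 36, 63, 82, 101, 109, 123] :=
  C.stMul (f1714 C) (f1699 C) _ (by decide +kernel)

theorem f6235 : C.S (v10 C) [11, 44, 66, 74, 91, 109, 124] :=
  C.stMul (f1709 C) (f6234 C) _ (by decide +kernel)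

theorem f6236 : C.S (v10 C) [12, 46, 65, 78, 96, 110, 118] :=
  C.stMul (f1714 C) (f6235 C) _ (by decide +kernel)

theorem f6237 : C.T (v10 C) [24, 33, 59, 83, 103, 109] (v17 C) [25, 38, 52, 83, 107, 109, 117] :=
  C.conv (f4429 C) (f6233 C) (f6236 C) _ [135, 160, 170, 174, 178] _ (by decide +kernel) (by decide +kernel) (by decide +kernel)

theorem f6238 : C.T (v17 C) [25, 38, 52, 83, 107, 109, 117] (v10 C) [24, 33, 59, 83, 103, 109] :=
  C.flip (f6237 C)

theorem f6239 : C.T (v15 C) [15, 44, 61, 84, 94, 109, 123] (v17 C) [4, 36, 56, 81, 99, 120] :=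
  C.closeT (p := (v9 C)) (pu := [5, 47, 60, 81, 91, 110, 119])
    (C.pT (f6227 C)
    (C.pH [26, 38, 54, 89, 90, 113] [15, 44, 61, 84, 94, 109, 123] (by decide +kernel) (C.pNil _ _)))
    (C.pH [8, 30, 65, 84, 94, 117] [25, 38, 52, 83, 107, 109, 117] (by decide +kernel)
    (C.pT (f6238 C)
    (C.pH [26, 38, 54, 89, 90, 113] [12, 38, 54, 78, 108, 110, 124] (by decide +kernel)
    (C.pT (f6231 C)
    (C.pH [8, 30, 65, 84, 94, 117] [5, 47, 60, 81, 91, 110, 119] (by decide +kernel) (C.pNil _ _))))))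
    (C.loop_of_one (relLoop2 C) _ _)

theorem f6240 : C.T (v17 C) [4, 36, 56, 81, 99, 120] (v15 C) [15, 44, 61, 84, 94, 109, 123] :=
  C.flip (f6239 C)

theorem f6241 : C.T (v9 C) [19, 46, 69, 79, 108, 109, 117] (v15 C) [6, 41, 53, 81, 98, 109, 114] :=
  C.conv (f3025 C) (f4013 C) (f4013 C) _ [130, 153, 164, 173, 178] _ (by decide +kernel) (by decide +kernel) (by decide +kernel)

theorem f6242 : C.S (v15 C) [25, 47, 66, 86, 107, 124] :=
  C.stMul (f2569 C) (f2565 C) _ (by decide +kernel)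

theorem f6243 : C.S (v15 C) [24, 44, 51, 82, 106, 110, 112] :=
  C.stMul (f2565 C) (f6242 C) _ (by decide +kernel)

theorem f6244 : C.S (v15 C) [20, 63, 89, 93, 110, 115] :=
  C.stMul (f2569 C) (f6242 C) _ (by decide +kernel)

theorem f6245 : C.T (v15 C) [4, 37, 54, 78, 103, 109, 121] (v16 C) [6, 28, 57, 78, 90, 110, 115] :=
  C.conv (f4021 C) (f6243 C) (f6244 C) _ [140, 151, 164, 173, 178] _ (by decide +kernel) (by decide +kernel) (by decide +kernel)

theorem f6246 : C.S (v9 C) [28, 52, 73, 91, 110, 119] :=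
  C.stMul (f1607 C) (f4994 C) _ (by decide +kernel)

theorem f6247 : C.S (v9 C) [23, 32, 51, 87, 95, 109, 111] :=
  C.stMul (f1624 C) (f6246 C) _ (by decide +kernel)

theorem f6248 : C.T (v9 C) [15, 40, 59, 87, 102, 110, 120] (v17 C) [6, 31, 52, 84, 100, 109, 113] :=
  C.conv (f4804 C) (f4895 C) (f6247 C) _ [126, 157, 166, 171, 177] _ (by decide +kernel) (by decide +kernel) (by decide +kernel)

theorem f6249 : C.T (v17 C) [6, 31, 52, 84, 100, 109, 113] (v9 C) [15, 40, 59, 87, 102, 110, 120] :=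
  C.flip (f6248 C)

theorem f6250 : C.T (v16 C) [13, 42, 65, 71, 101] (v17 C) [21, 37, 66, 86, 104, 117] :=
  C.closeT (p := (v9 C)) (pu := [19, 46, 69, 79, 108, 109, 117])
    (C.pT (f6241 C)
    (C.pH [26, 38, 54, 89, 90, 113] [4, 37, 54, 78, 103, 109, 121] (by decide +kernel)
    (C.pT (f6245 C)
    (C.pH [8, 30, 65, 84, 94, 117] [13, 42, 65, 71, 101] (by decide +kernel) (C.pNil _ _)))))
    (C.pH [26, 38, 54, 89, 90, 113] [6, 31, 52, 84, 100, 109, 113] (by decide +kernel)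
    (C.pT (f6249 C)
    (C.pH [8, 30, 65, 84, 94, 117] [19, 46, 69, 79, 108, 109, 117] (by decide +kernel) (C.pNil _ _))))
    (C.loop_of_one (relLoop2 C) _ _)

theorem f6251 : C.T (v17 C) [21, 37, 66, 86, 104, 117] (v16 C) [13, 42, 65, 71, 101] :=
  C.flip (f6250 C)

theorem f6252 : C.T (v9 C) [22, 28, 52, 85, 108, 124] (v15 C) [10, 33, 55, 85, 104, 123] :=
  C.conv (f3025 C) (f4013 C) (f4013 C) _ [163, 167, 172, 178] _ (by decide +kernel) (by decide +kernel) (by decide +kernel)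

theorem f6253 : C.S (v15 C) [24, 47, 64, 83, 99, 109, 111] :=
  C.stMul (f2581 C) (f2569 C) _ (by decide +kernel)

theorem f6254 : C.T (v15 C) [21, 30, 62, 86, 104, 110, 112] (v17 C) [6, 31, 59, 86, 102, 116] :=
  C.conv (f6216 C) (f2569 C) (f6253 C) _ [142, 158, 167, 178] _ (by decide +kernel) (by decide +kernel) (by decide +kernel)

theorem f6255 : C.S (v9 C) [28, 52, 73, 91, 110, 119] :=
  C.stMul (f1607 C) (f5226 C) _ (by decide +kernel)

theorem f6256 : C.S (v9 C) [10, 43, 67, 71, 98, 119] :=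
  C.stMul (f1620 C) (f6255 C) _ (by decide +kernel)

theorem f6257 : C.T (v9 C) [17, 27, 49, 108, 109, 115] (v17 C) [11, 48, 65, 85, 100, 112] :=
  C.conv (f4863 C) (f4877 C) (f6256 C) _ [142, 157, 170, 174, 177] _ (by decide +kernel) (by decide +kernel) (by decide +kernel)

theorem f6258 : C.T (v17 C) [11, 48, 65, 85, 100, 112] (v9 C) [17, 27, 49, 108, 109, 115] :=
  C.flip (f6257 C)

theorem f6259 : C.T (v17 C) [13, 35, 61, 85, 90, 109, 123] (v17 C) [8, 37, 64, 73, 95, 109, 117] :=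
  C.closeT (p := (v9 C)) (pu := [22, 28, 52, 85, 108, 124])
    (C.pT (f6252 C)
    (C.pH [26, 38, 54, 89, 90, 113] [21, 30, 62, 86, 104, 110, 112] (by decide +kernel)
    (C.pT (f6254 C)
    (C.pH [8, 30, 65, 84, 94, 117] [13, 35, 61, 85, 90, 109, 123] (by decide +kernel) (C.pNil _ _)))))
    (C.pH [26, 38, 54, 89, 90, 113] [11, 48, 65, 85, 100, 112] (by decide +kernel)
    (C.pT (f6258 C)
    (C.pH [8, 30, 65, 84, 94, 117] [22, 28, 52, 85, 108, 124] (by decide +kernel) (C.pNil _ _))))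
    (C.loop_of_one (relLoop2 C) _ _)

theorem f6260 : C.T (v17 C) [8, 37, 64, 73, 95, 109, 117] (v17 C) [13, 35, 61, 85, 90, 109, 123] :=
  C.flip (f6259 C)

theorem f6261 : C.T (v9 C) [19, 43, 49, 77, 99, 109, 113] (v15 C) [25, 27, 69, 73, 90, 119] :=
  C.conv (f3025 C) (f4013 C) (f4013 C) _ [139, 161, 166, 173] _ (by decide +kernel) (by decide +kernel) (by decide +kernel)

theorem f6262 : C.S (v15 C) [25, 47, 66, 86, 107, 124] :=
  C.stMul (f2569 C) (f2565 C) _ (by decide +kernel)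

theorem f6263 : C.S (v15 C) [25, 32, 63, 84, 105, 109, 124] :=
  C.stMul (f2581 C) (f6262 C) _ (by decide +kernel)

theorem f6264 : C.T (v15 C) [18, 43, 56, 84, 96, 117] (v3 C) [26, 42, 51, 85, 102, 110, 125] :=
  C.conv (f2903 C) (f6262 C) (f6263 C) _ [144, 151, 169] _ (by decide +kernel) (by decide +kernel) (by decide +kernel)

theorem f6265 : C.S (v9 C) [21, 32, 51, 87, 95, 109, 111] :=
  C.stMul (f1624 C) (f5279 C) _ (by decide +kernel)

theorem f6266 : C.S (v9 C) [12, 29, 53, 80, 106, 109, 118] :=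
  C.stMul (f1620 C) (f6265 C) _ (by decide +kernel)

theorem f6267 : C.T (v9 C) [15, 48, 60, 72, 102, 109, 113] (v17 C) [22, 32, 68, 89, 95, 109, 113] :=
  C.conv (f4665 C) (f4678 C) (f6266 C) _ [133, 162, 176, 178] _ (by decide +kernel) (by decide +kernel) (by decide +kernel)

theorem f6268 : C.T (v17 C) [22, 32, 68, 89, 95, 109, 113] (v9 C) [15, 48, 60, 72, 102, 109, 113] :=
  C.flip (f6267 C)

theorem f6269 : C.T (v3 C) [14, 33, 53, 82, 101, 109, 120] (v17 C) [9, 34, 68, 87, 102, 115] :=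
  C.closeT (p := (v9 C)) (pu := [19, 43, 49, 77, 99, 109, 113])
    (C.pT (f6261 C)
    (C.pH [26, 38, 54, 89, 90, 113] [18, 43, 56, 84, 96, 117] (by decide +kernel)
    (C.pT (f6264 C)
    (C.pH [8, 30, 65, 84, 94, 117] [14, 33, 53, 82, 101, 109, 120] (by decide +kernel) (C.pNil _ _)))))
    (C.pH [26, 38, 54, 89, 90, 113] [22, 32, 68, 89, 95, 109, 113] (by decide +kernel)
    (C.pT (f6268 C)
    (C.pH [8, 30, 65, 84, 94, 117] [19, 43, 49, 77, 99, 109, 113] (by decide +kernel) (C.pNil _ _))))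
    (C.loop_of_one (relLoop2 C) _ _)

theorem f6270 : C.T (v17 C) [9, 34, 68, 87, 102, 115] (v3 C) [14, 33, 53, 82, 101, 109, 120] :=
  C.flip (f6269 C)

theorem f6271 : C.T (v9 C) [12, 37, 63, 77, 117] (v15 C) [23, 45, 64, 77, 90, 110, 111] :=
  C.conv (f3038 C) (f3917 C) (f3917 C) _ [130, 157, 171, 178] _ (by decide +kernel) (by decide +kernel) (by decide +kernel)

theorem f6272 : C.S (v15 C) [20, 39, 55, 88, 95, 110, 125] :=
  C.stMul (f2581 C) (f2565 C) _ (by decide +kernel)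

theorem f6273 : C.S (v15 C) [25, 47, 66, 86, 107, 124] :=
  C.stMul (f2569 C) (f2565 C) _ (by decide +kernel)

theorem f6274 : C.S (v15 C) [24, 44, 51, 82, 106, 110, 112] :=
  C.stMul (f2565 C) (f6273 C) _ (by decide +kernel)

theorem f6275 : C.T (v15 C) [7, 31, 50, 79, 101, 112] (v5 C) [22, 33, 60, 84, 98, 113] :=
  C.conv (f2700 C) (f6272 C) (f6274 C) _ [127, 150, 165, 173, 177] _ (by decide +kernel) (by decide +kernel) (by decide +kernel)

theorem f6276 : C.T (v9 C) [5, 39, 52, 76, 107, 110, 115] (v17 C) [18, 43, 49, 100, 121] :=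
  C.conv (f5345 C) (f5502 C) (f6200 C) _ [126, 150, 167, 174, 178] _ (by decide +kernel) (by decide +kernel) (by decide +kernel)

theorem f6277 : C.T (v17 C) [18, 43, 49, 100, 121] (v9 C) [5, 39, 52, 76, 107, 110, 115] :=
  C.flip (f6276 C)

theorem f6278 : C.T (v5 C) [6, 48, 71, 105, 110, 122] (v17 C) [25, 27, 64, 89, 100, 110, 111] :=
  C.closeT (p := (v9 C)) (pu := [12, 37, 63, 77, 117])
    (C.pT (f6271 C)
    (C.pH [26, 38, 54, 89, 90, 113] [7, 31, 50, 79, 101, 112] (by decide +kernel)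
    (C.pT (f6275 C)
    (C.pH [8, 30, 65, 84, 94, 117] [6, 48, 71, 105, 110, 122] (by decide +kernel) (C.pNil _ _)))))
    (C.pH [26, 38, 54, 89, 90, 113] [18, 43, 49, 100, 121] (by decide +kernel)
    (C.pT (f6277 C)
    (C.pH [8, 30, 65, 84, 94, 117] [12, 37, 63, 77, 117] (by decide +kernel) (C.pNil _ _))))
    (C.loop_of_one (relLoop2 C) _ _)

theorem f6279 : C.T (v17 C) [25, 27, 64, 89, 100, 110, 111] (v5 C) [6, 48, 71, 105, 110, 122] :=
  C.flip (f6278 C)

theorem f6280 : C.T (v9 C) [13, 35, 69, 74, 91, 110, 124] (v15 C) [21, 40, 62, 88, 94, 110, 111] :=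
  C.conv (f3038 C) (f3917 C) (f3917 C) _ [139, 153, 164, 171, 178] _ (by decide +kernel) (by decide +kernel) (by decide +kernel)

theorem f6281 : C.S (v15 C) [25, 47, 66, 86, 107, 124] :=
  C.stMul (f2569 C) (f2565 C) _ (by decide +kernel)

theorem f6282 : C.S (v15 C) [25, 32, 63, 84, 105, 109, 124] :=
  C.stMul (f2581 C) (f6281 C) _ (by decide +kernel)

theorem f6283 : C.S (v15 C) [20, 63, 89, 93, 110, 115] :=
  C.stMul (f2569 C) (f6281 C) _ (by decide +kernel)

theorem f6284 : C.T (v15 C) [6, 30, 49, 87, 93, 117] (v17 C) [7, 36, 61, 89, 105, 109, 111] :=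
  C.conv (f5616 C) (f6282 C) (f6283 C) _ [140, 168, 174, 177] _ (by decide +kernel) (by decide +kernel) (by decide +kernel)

theorem f6285 : C.T (v9 C) [6, 31, 55, 96, 109, 120] (v17 C) [16, 32, 56, 85, 106, 110, 111] :=
  C.conv (f4201 C) (f1615 C) (f5851 C) _ [135, 150, 164, 176] _ (by decide +kernel) (by decide +kernel) (by decide +kernel)

theorem f6286 : C.T (v17 C) [16, 32, 56, 85, 106, 110, 111] (v9 C) [6, 31, 55, 96, 109, 120] :=
  C.flip (f6285 C)

theorem f6287 : C.T (v17 C) [17, 27, 60, 75, 98, 109, 120] (v17 C) [26, 30, 61, 73, 95, 110, 111] :=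
  C.closeT (p := (v9 C)) (pu := [13, 35, 69, 74, 91, 110, 124])
    (C.pT (f6280 C)
    (C.pH [26, 38, 54, 89, 90, 113] [6, 30, 49, 87, 93, 117] (by decide +kernel)
    (C.pT (f6284 C)
    (C.pH [8, 30, 65, 84, 94, 117] [17, 27, 60, 75, 98, 109, 120] (by decide +kernel) (C.pNil _ _)))))
    (C.pH [26, 38, 54, 89, 90, 113] [16, 32, 56, 85, 106, 110, 111] (by decide +kernel)
    (C.pT (f6286 C)
    (C.pH [8, 30, 65, 84, 94, 117] [13, 35, 69, 74, 91, 110, 124] (by decide +kernel) (C.pNil _ _))))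
    (C.loop_of_one (relLoop2 C) _ _)

theorem f6288 : C.T (v17 C) [26, 30, 61, 73, 95, 110, 111] (v17 C) [17, 27, 60, 75, 98, 109, 120] :=
  C.flip (f6287 C)

theorem f6289 : C.T (v9 C) [7, 27, 49, 77, 105, 110, 123] (v15 C) [20, 35, 52, 73, 94, 110, 117] :=
  C.conv (f3051 C) (f3058 C) (f3058 C) _ [135, 158, 166, 176, 178] _ (by decide +kernel) (by decide +kernel) (by decide +kernel)

theorem f6290 : C.S (v15 C) [25, 47, 66, 86, 107, 124] :=
  C.stMul (f2569 C) (f2565 C) _ (by decide +kernel)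

theorem f6291 : C.S (v15 C) [20, 63, 89, 93, 110, 115] :=
  C.stMul (f2569 C) (f6290 C) _ (by decide +kernel)

theorem f6292 : C.T (v15 C) [15, 36, 81, 109, 118] (v16 C) [22, 44, 54, 81, 100, 109, 112] :=
  C.conv (f3581 C) (f6291 C) (f6291 C) _ [141, 152, 164, 175, 177] _ (by decide +kernel) (by decide +kernel) (by decide +kernel)

theorem f6293 : C.S (v9 C) [6, 46, 57, 83, 110, 112] :=
  C.stMul (f1607 C) (f6210 C) _ (by decide +kernel)

theorem f6294 : C.T (v9 C) [11, 33, 63, 81, 108, 122] (v17 C) [9, 38, 49, 81, 106, 109, 119] :=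
  C.conv (f5160 C) (f5313 C) (f6293 C) _ [133, 163, 169, 177] _ (by decide +kernel) (by decide +kernel) (by decide +kernel)

theorem f6295 : C.T (v17 C) [9, 38, 49, 81, 106, 109, 119] (v9 C) [11, 33, 63, 81, 108, 122] :=
  C.flip (f6294 C)

theorem f6296 : C.T (v16 C) [6, 37, 68, 86, 103, 116] (v17 C) [15, 54, 85, 107, 110, 117] :=
  C.closeT (p := (v9 C)) (pu := [7, 27, 49, 77, 105, 110, 123])
    (C.pT (f6289 C)
    (C.pH [26, 38, 54, 89, 90, 113] [15, 36, 81, 109, 118] (by decide +kernel)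
    (C.pT (f6292 C)
    (C.pH [8, 30, 65, 84, 94, 117] [6, 37, 68, 86, 103, 116] (by decide +kernel) (C.pNil _ _)))))
    (C.pH [26, 38, 54, 89, 90, 113] [9, 38, 49, 81, 106, 109, 119] (by decide +kernel)
    (C.pT (f6295 C)
    (C.pH [8, 30, 65, 84, 94, 117] [7, 27, 49, 77, 105, 110, 123] (by decide +kernel) (C.pNil _ _))))
    (C.loop_of_one (relLoop2 C) _ _)

theorem f6297 : C.T (v17 C) [15, 54, 85, 107, 110, 117] (v16 C) [6, 37, 68, 86, 103, 116] :=
  C.flip (f6296 C)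

theorem f6298 : C.T (v9 C) [16, 42, 69, 78, 91, 109, 112] (v15 C) [5, 28, 65, 85, 98, 109] :=
  C.conv (f3051 C) (f3058 C) (f3058 C) _ [133, 162, 170, 172, 177] _ (by decide +kernel) (by decide +kernel) (by decide +kernel)

theorem f6299 : C.S (v15 C) [24, 47, 64, 83, 99, 109, 111] :=
  C.stMul (f2581 C) (f2569 C) _ (by decide +kernel)

theorem f6300 : C.T (v15 C) [8, 48, 64, 83, 104, 110, 113] (v17 C) [9, 38, 52, 84, 94, 117] :=
  C.conv (f5561 C) (f2565 C) (f6299 C) _ [134, 151, 168, 171, 177] _ (by decide +kernel) (by decide +kernel) (by decide +kernel)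

theorem f6301 : C.S (v9 C) [22, 48, 68, 83, 104, 125] :=
  C.stMul (f1624 C) (f1610 C) _ (by decide +kernel)

theorem f6302 : C.T (v9 C) [24, 40, 66, 82, 92, 109, 111] (v17 C) [14, 46, 60, 83, 97, 109, 124] :=
  C.conv (f4829 C) (f4967 C) (f6301 C) _ [138, 154, 167, 171, 178] _ (by decide +kernel) (by decide +kernel) (by decide +kernel)

theorem f6303 : C.T (v17 C) [14, 46, 60, 83, 97, 109, 124] (v9 C) [24, 40, 66, 82, 92, 109, 111] :=
  C.flip (f6302 C)

theorem f6304 : C.T (v17 C) [18, 44, 52, 84, 94, 117] (v17 C) [12, 41, 49, 79, 105, 114] :=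
  C.closeT (p := (v9 C)) (pu := [16, 42, 69, 78, 91, 109, 112])
    (C.pT (f6298 C)
    (C.pH [26, 38, 54, 89, 90, 113] [8, 48, 64, 83, 104, 110, 113] (by decide +kernel)
    (C.pT (f6300 C)
    (C.pH [8, 30, 65, 84, 94, 117] [18, 44, 52, 84, 94, 117] (by decide +kernel) (C.pNil _ _)))))
    (C.pH [26, 38, 54, 89, 90, 113] [14, 46, 60, 83, 97, 109, 124] (by decide +kernel)
    (C.pT (f6303 C)
    (C.pH [8, 30, 65, 84, 94, 117] [16, 42, 69, 78, 91, 109, 112] (by decide +kernel) (C.pNil _ _))))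
    (C.loop_of_one (relLoop2 C) _ _)

theorem f6305 : C.T (v17 C) [12, 41, 49, 79, 105, 114] (v17 C) [18, 44, 52, 84, 94, 117] :=
  C.flip (f6304 C)

theorem f6306 : C.T (v9 C) [17, 27, 66, 83, 93, 109, 112] (v15 C) [24, 32, 50, 75, 92, 123] :=
  C.conv (f3185 C) (f1615 C) (f1615 C) _ [137, 163, 166, 178] _ (by decide +kernel) (by decide +kernel) (by decide +kernel)

theorem f6307 : C.S (v15 C) [25, 47, 66, 86, 107, 124] :=
  C.stMul (f2569 C) (f2565 C) _ (by decide +kernel)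

theorem f6308 : C.S (v15 C) [25, 32, 63, 84, 105, 109, 124] :=
  C.stMul (f2581 C) (f6307 C) _ (by decide +kernel)

theorem f6309 : C.S (v15 C) [24, 44, 51, 82, 106, 110, 112] :=
  C.stMul (f2565 C) (f6307 C) _ (by decide +kernel)

theorem f6310 : C.T (v15 C) [12, 47, 62, 86, 102, 109, 118] (v4 C) [29, 58, 83, 110, 124] :=
  C.conv (f2754 C) (f6308 C) (f6309 C) _ [126, 159, 170, 175, 177] _ (by decide +kernel) (by decide +kernel) (by decide +kernel)

theorem f6311 : C.T (v9 C) [7, 36, 69, 79, 98, 123] (v17 C) [19, 36, 51, 77, 100, 110, 123] :=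
  C.conv (f4863 C) (f4877 C) (f5224 C) _ [130, 169, 171, 177] _ (by decide +kernel) (by decide +kernel) (by decide +kernel)

theorem f6312 : C.T (v17 C) [19, 36, 51, 77, 100, 110, 123] (v9 C) [7, 36, 69, 79, 98, 123] :=
  C.flip (f6311 C)

theorem f6313 : C.T (v4 C) [8, 29, 69, 73, 101, 120] (v17 C) [22, 46, 65, 83, 106, 120] :=
  C.closeT (p := (v9 C)) (pu := [17, 27, 66, 83, 93, 109, 112])
    (C.pT (f6306 C)
    (C.pH [26, 38, 54, 89, 90, 113] [12, 47, 62, 86, 102, 109, 118] (by decide +kernel)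
    (C.pT (f6310 C)
    (C.pH [8, 30, 65, 84, 94, 117] [8, 29, 69, 73, 101, 120] (by decide +kernel) (C.pNil _ _)))))
    (C.pH [26, 38, 54, 89, 90, 113] [19, 36, 51, 77, 100, 110, 123] (by decide +kernel)
    (C.pT (f6312 C)
    (C.pH [8, 30, 65, 84, 94, 117] [17, 27, 66, 83, 93, 109, 112] (by decide +kernel) (C.pNil _ _))))
    (C.loop_of_one (relLoop2 C) _ _)

theorem f6314 : C.T (v17 C) [22, 46, 65, 83, 106, 120] (v4 C) [8, 29, 69, 73, 101, 120] :=
  C.flip (f6313 C)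

theorem f6315 : C.T (v9 C) [23, 39, 60, 80, 92, 116] (v16 C) [26, 41, 54, 71, 91, 109, 124] :=
  C.conv (f3492 C) (f3563 C) (f3563 C) _ [135, 151, 166, 173, 177] _ (by decide +kernel) (by decide +kernel) (by decide +kernel)

theorem f6316 : C.T (v16 C) [16, 36, 53, 83, 105, 121] (v16 C) [24, 47, 49, 86, 100, 110, 111] :=
  C.conv (f3827 C) (f3510 C) (f3456 C) _ [136, 154, 166, 172, 177] _ (by decide +kernel) (by decide +kernel) (by decide +kernel)

theorem f6317 : C.S (v9 C) [28, 52, 73, 91, 110, 119] :=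
  C.stMul (f1607 C) (f5877 C) _ (by decide +kernel)

end CfsgLib.J4Index
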