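import Cfsg.Agent.Lib.J4Index.Facts5

/-!
# Derived equations (generated)
-/

set_option autoImplicit false
set_option maxRecDepth 100000
set_option linter.style.longLine false

namespace CfsgLib.J4Index

variable {G X : Type} [Group G] [MulAction G X] (C : Ctx G X)

theorem f6318 : C.S (v9 C) [23, 32, 51, 87, 95, 109, 111] :=
  C.stMul (f1624 C) (f6317 C) _ (by decide +kernel)

theorem f6319 : C.T (v9 C) [20, 29, 80, 103, 109, 124] (v17 C) [6, 30, 54, 80, 90] :=
  C.conv (f4225 C) (f4411 C) (f6318 C) _ [146, 153, 168, 171, 178] _ (by decide +kernel) (by decide +kernel) (by decide +kernel)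

theorem f6320 : C.T (v17 C) [6, 30, 54, 80, 90] (v9 C) [20, 29, 80, 103, 109, 124] :=
  C.flip (f6319 C)

theorem f6321 : C.T (v16 C) [16, 45, 60, 86, 97, 110, 111] (v17 C) [21, 40, 65, 89, 95, 110, 117] :=
  C.closeT (p := (v9 C)) (pu := [23, 39, 60, 80, 92, 116])
    (C.pT (f6315 C)
    (C.pH [26, 38, 54, 89, 90, 113] [16, 36, 53, 83, 105, 121] (by decide +kernel)
    (C.pT (f6316 C)
    (C.pH [8, 30, 65, 84, 94, 117] [16, 45, 60, 86, 97, 110, 111] (by decide +kernel) (C.pNil _ _)))))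
    (C.pH [26, 38, 54, 89, 90, 113] [6, 30, 54, 80, 90] (by decide +kernel)
    (C.pT (f6320 C)
    (C.pH [8, 30, 65, 84, 94, 117] [23, 39, 60, 80, 92, 116] (by decide +kernel) (C.pNil _ _))))
    (C.loop_of_one (relLoop2 C) _ _)

theorem f6322 : C.T (v17 C) [21, 40, 65, 89, 95, 110, 117] (v16 C) [16, 45, 60, 86, 97, 110, 111] :=
  C.flip (f6321 C)

theorem f6323 : C.T (v9 C) [4, 42, 84, 93, 112] (v16 C) [20, 36, 62, 80, 106, 125] :=
  C.conv (f3492 C) (f3563 C) (f3563 C) _ [139, 167, 172] _ (by decide +kernel) (by decide +kernel) (by decide +kernel)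

theorem f6324 : C.S (v16 C) [18, 48, 62, 92] :=
  C.stMul (f3456 C) (f3451 C) _ (by decide +kernel)

theorem f6325 : C.S (v16 C) [7, 41, 57, 70, 98, 110, 111] :=
  C.stMul (f3458 C) (f6324 C) _ (by decide +kernel)

theorem f6326 : C.S (v16 C) [62, 79, 96, 109, 121] :=
  C.stMul (f3480 C) (f6325 C) _ (by decide +kernel)

theorem f6327 : C.S (v16 C) [18, 40, 55, 73, 98, 112] :=
  C.stMul (f3480 C) (f3451 C) _ (by decide +kernel)

theorem f6328 : C.S (v16 C) [11, 40, 62, 81, 115] :=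
  C.stMul (f3468 C) (f6327 C) _ (by decide +kernel)

theorem f6329 : C.T (v16 C) [15, 29, 68, 77, 100, 110, 112] (v17 C) [24, 38, 49, 71, 95, 110, 116] :=
  C.conv (f4502 C) (f6326 C) (f6328 C) _ [148, 153, 167, 171, 178] _ (by decide +kernel) (by decide +kernel) (by decide +kernel)

theorem f6330 : C.S (v9 C) [10, 47, 79, 100, 110, 114] :=
  C.stMul (f1620 C) (f1607 C) _ (by decide +kernel)

theorem f6331 : C.S (v9 C) [11, 40, 59, 82, 99, 110, 111] :=
  C.stMul (f1615 C) (f6330 C) _ (by decide +kernel)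

theorem f6332 : C.S (v9 C) [13, 44, 56, 75, 90, 109, 118] :=
  C.stMul (f1620 C) (f6331 C) _ (by decide +kernel)

theorem f6333 : C.T (v9 C) [18, 38, 64, 79, 106, 116] (v15 C) [13, 43, 57, 95, 109, 122] :=
  C.conv (f2928 C) (f3035 C) (f6332 C) _ [141, 156, 166, 175] _ (by decide +kernel) (by decide +kernel) (by decide +kernel)

theorem f6334 : C.T (v15 C) [13, 43, 57, 95, 109, 122] (v9 C) [18, 38, 64, 79, 106, 116] :=
  C.flip (f6333 C)

theorem f6335 : C.T (v17 C) [16, 46, 52, 83, 94, 109, 116] (v15 C) [16, 41, 63, 89, 92, 110, 119] :=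
  C.closeT (p := (v9 C)) (pu := [4, 42, 84, 93, 112])
    (C.pT (f6323 C)
    (C.pH [26, 38, 54, 89, 90, 113] [15, 29, 68, 77, 100, 110, 112] (by decide +kernel)
    (C.pT (f6329 C)
    (C.pH [8, 30, 65, 84, 94, 117] [16, 46, 52, 83, 94, 109, 116] (by decide +kernel) (C.pNil _ _)))))
    (C.pH [26, 38, 54, 89, 90, 113] [13, 43, 57, 95, 109, 122] (by decide +kernel)
    (C.pT (f6334 C)
    (C.pH [8, 30, 65, 84, 94, 117] [4, 42, 84, 93, 112] (by decide +kernel) (C.pNil _ _))))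
    (C.loop_of_one (relLoop2 C) _ _)

theorem f6336 : C.T (v15 C) [16, 41, 63, 89, 92, 110, 119] (v17 C) [16, 46, 52, 83, 94, 109, 116] :=
  C.flip (f6335 C)

theorem f6337 : C.T (v9 C) [6, 40, 62, 83, 103, 119] (v16 C) [13, 44, 64, 72, 109, 122] :=
  C.conv (f3607 C) (f4003 C) (f4003 C) _ [129, 159, 170, 176] _ (by decide +kernel) (by decide +kernel) (by decide +kernel)

theorem f6338 : C.S (v16 C) [20, 29, 62, 80, 101, 124] :=
  C.stMul (f3468 C) (f3458 C) _ (by decide +kernel)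

theorem f6339 : C.S (v16 C) [18, 48, 62, 92] :=
  C.stMul (f3456 C) (f3451 C) _ (by decide +kernel)

theorem f6340 : C.S (v16 C) [11, 45, 64, 79, 106, 110, 119] :=
  C.stMul (f3468 C) (f6339 C) _ (by decide +kernel)

theorem f6341 : C.S (v16 C) [23, 40, 54, 78, 93, 109, 112] :=
  C.stMul (f3480 C) (f6340 C) _ (by decide +kernel)

theorem f6342 : C.T (v16 C) [23, 46, 67, 89, 102, 110] (v4 C) [25, 40, 64, 77, 108, 114] :=
  C.conv (f3640 C) (f6338 C) (f6341 C) _ [146, 158, 164] _ (by decide +kernel) (by decide +kernel) (by decide +kernel)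

theorem f6343 : C.T (v9 C) [22, 45, 67, 75, 104, 123] (v17 C) [6, 64, 89, 98, 118] :=
  C.conv (f4863 C) (f4877 C) (f5657 C) _ [126, 157, 170, 171, 178] _ (by decide +kernel) (by decide +kernel) (by decide +kernel)

theorem f6344 : C.T (v17 C) [6, 64, 89, 98, 118] (v9 C) [22, 45, 67, 75, 104, 123] :=
  C.flip (f6343 C)

theorem f6345 : C.T (v4 C) [9, 27, 58, 82, 99, 109, 114] (v17 C) [21, 29, 64, 72, 104, 109, 113] :=
  C.closeT (p := (v9 C)) (pu := [6, 40, 62, 83, 103, 119])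
    (C.pT (f6337 C)
    (C.pH [26, 38, 54, 89, 90, 113] [23, 46, 67, 89, 102, 110] (by decide +kernel)
    (C.pT (f6342 C)
    (C.pH [8, 30, 65, 84, 94, 117] [9, 27, 58, 82, 99, 109, 114] (by decide +kernel) (C.pNil _ _)))))
    (C.pH [26, 38, 54, 89, 90, 113] [6, 64, 89, 98, 118] (by decide +kernel)
    (C.pT (f6344 C)
    (C.pH [8, 30, 65, 84, 94, 117] [6, 40, 62, 83, 103, 119] (by decide +kernel) (C.pNil _ _))))
    (C.loop_of_one (relLoop2 C) _ _)

theorem f6346 : C.T (v17 C) [21, 29, 64, 72, 104, 109, 113] (v4 C) [9, 27, 58, 82, 99, 109, 114] :=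
  C.flip (f6345 C)

theorem f6347 : C.T (v9 C) [20, 84, 90, 110, 120] (v16 C) [23, 30, 62, 88, 98, 109, 120] :=
  C.conv (f3607 C) (f4003 C) (f4003 C) _ [126, 154, 167, 172] _ (by decide +kernel) (by decide +kernel) (by decide +kernel)

theorem f6348 : C.T (v9 C) [16, 39, 51, 75, 99, 118] (v17 C) [8, 32, 53, 89, 104, 110, 111] :=
  C.conv (f5160 C) (f5313 C) (f5592 C) _ [142, 163, 165, 173, 178] _ (by decide +kernel) (by decide +kernel) (by decide +kernel)

theorem f6349 : C.T (v17 C) [8, 32, 53, 89, 104, 110, 111] (v9 C) [16, 39, 51, 75, 99, 118] :=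
  C.flip (f6348 C)

theorem f6350 : C.S (v17 C) [23, 31, 75, 92, 109, 116] :=
  C.stMul (f4137 C) (f4132 C) _ (by decide +kernel)

theorem f6351 : C.T (v17 C) [5, 37, 63, 87, 103, 124] (v17 C) [12, 47, 83, 91, 112] :=
  C.conv (f5682 C) (f4132 C) (f6350 C) _ [128, 157, 165, 172] _ (by decide +kernel) (by decide +kernel) (by decide +kernel)

theorem f6352 : C.T (v17 C) [12, 47, 83, 91, 112] (v17 C) [5, 37, 63, 87, 103, 124] :=
  C.flip (f6351 C)

theorem f6353 : C.T (v16 C) [7, 39, 56, 87, 110, 119] (v17 C) [5, 27, 50, 87, 106, 115] :=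
  C.closeT (p := (v9 C)) (pu := [20, 84, 90, 110, 120])
    (C.pT (f6347 C)
    (C.pH [26, 38, 54, 89, 90, 113] [7, 39, 56, 87, 110, 119] (by decide +kernel) (C.pNil _ _)))
    (C.pH [8, 30, 65, 84, 94, 117] [12, 47, 83, 91, 112] (by decide +kernel)
    (C.pT (f6352 C)
    (C.pH [26, 38, 54, 89, 90, 113] [8, 32, 53, 89, 104, 110, 111] (by decide +kernel)
    (C.pT (f6349 C)
    (C.pH [8, 30, 65, 84, 94, 117] [20, 84, 90, 110, 120] (by decide +kernel) (C.pNil _ _))))))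
    (C.loop_of_one (relLoop2 C) _ _)

theorem f6354 : C.T (v17 C) [5, 27, 50, 87, 106, 115] (v16 C) [7, 39, 56, 87, 110, 119] :=
  C.flip (f6353 C)

theorem f6355 : C.T (v9 C) [13, 35, 65, 86, 98, 109, 116] (v16 C) [24, 35, 53, 78, 101, 111] :=
  C.conv (f3607 C) (f4003 C) (f4003 C) _ [138, 157, 166, 171] _ (by decide +kernel) (by decide +kernel) (by decide +kernel)

theorem f6356 : C.S (v9 C) [10, 28, 52, 73, 91, 110, 119] :=
  C.stMul (f1607 C) (f6330 C) _ (by decide +kernel)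

theorem f6357 : C.S (v9 C) [11, 44, 56, 75, 90, 109, 118] :=
  C.stMul (f1620 C) (f6356 C) _ (by decide +kernel)

theorem f6358 : C.T (v9 C) [6, 31, 65, 77, 108, 110, 112] (v15 C) [17, 29, 60, 77, 102, 110, 118] :=
  C.conv (f2928 C) (f3035 C) (f6357 C) _ [144, 159, 168, 176, 178] _ (by decide +kernel) (by decide +kernel) (by decide +kernel)

theorem f6359 : C.T (v15 C) [17, 29, 60, 77, 102, 110, 118] (v9 C) [6, 31, 65, 77, 108, 110, 112] :=
  C.flip (f6358 C)

theorem f6360 : C.S (v15 C) [24, 47, 64, 83, 99, 109, 111] :=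
  C.stMul (f2581 C) (f2569 C) _ (by decide +kernel)

theorem f6361 : C.T (v15 C) [19, 39, 56, 76, 92, 110, 114] (v17 C) [19, 34, 69, 79, 109, 120] :=
  C.conv (f5616 C) (f6282 C) (f6360 C) _ [148, 160, 166, 172] _ (by decide +kernel) (by decide +kernel) (by decide +kernel)

theorem f6362 : C.T (v17 C) [19, 34, 69, 79, 109, 120] (v15 C) [19, 39, 56, 76, 92, 110, 114] :=
  C.flip (f6361 C)

theorem f6363 : C.T (v16 C) [12, 30, 52, 83, 95, 110, 122] (v17 C) [15, 31, 65, 103, 120] :=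
  C.closeT (p := (v9 C)) (pu := [13, 35, 65, 86, 98, 109, 116])
    (C.pT (f6355 C)
    (C.pH [26, 38, 54, 89, 90, 113] [12, 30, 52, 83, 95, 110, 122] (by decide +kernel) (C.pNil _ _)))
    (C.pH [8, 30, 65, 84, 94, 117] [19, 34, 69, 79, 109, 120] (by decide +kernel)
    (C.pT (f6362 C)
    (C.pH [26, 38, 54, 89, 90, 113] [17, 29, 60, 77, 102, 110, 118] (by decide +kernel)
    (C.pT (f6359 C)
    (C.pH [8, 30, 65, 84, 94, 117] [13, 35, 65, 86, 98, 109, 116] (by decide +kernel) (C.pNil _ _))))))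
    (C.loop_of_one (relLoop2 C) _ _)

theorem f6364 : C.T (v17 C) [15, 31, 65, 103, 120] (v16 C) [12, 30, 52, 83, 95, 110, 122] :=
  C.flip (f6363 C)

theorem f6365 : C.T (v9 C) [24, 27, 62, 88, 102, 110, 122] (v16 C) [15, 33, 63, 79, 99, 109, 119] :=
  C.conv (f3615 C) (f3626 C) (f3626 C) _ [138, 153, 170, 176, 178] _ (by decide +kernel) (by decide +kernel) (by decide +kernel)

theorem f6366 : C.S (v16 C) [23, 40, 50, 79, 96] :=
  C.stMul (f3468 C) (f3456 C) _ (by decide +kernel)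

theorem f6367 : C.T (v16 C) [9, 40, 55, 76, 97, 109, 118] (v17 C) [6, 47, 62, 72, 104, 109, 116] :=
  C.conv (f6353 C) (f3480 C) (f6366 C) _ [134, 158, 167, 178] _ (by decide +kernel) (by decide +kernel) (by decide +kernel)

theorem f6368 : C.S (v9 C) [4, 48, 53, 80, 99, 115] :=
  C.stMul (f1615 C) (f1624 C) _ (by decide +kernel)

theorem f6369 : C.T (v9 C) [21, 35, 55, 71, 108, 109, 123] (v17 C) [12, 43, 67, 85, 98, 110, 123] :=
  C.conv (f5345 C) (f5502 C) (f6368 C) _ [139, 163, 164, 176, 178] _ (by decide +kernel) (by decide +kernel) (by decide +kernel)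

theorem f6370 : C.T (v17 C) [12, 43, 67, 85, 98, 110, 123] (v9 C) [21, 35, 55, 71, 108, 109, 123] :=
  C.flip (f6369 C)

theorem f6371 : C.T (v17 C) [13, 31, 56, 82, 98] (v17 C) [24, 27, 56, 82, 93, 110, 124] :=
  C.closeT (p := (v9 C)) (pu := [24, 27, 62, 88, 102, 110, 122])
    (C.pT (f6365 C)
    (C.pH [26, 38, 54, 89, 90, 113] [9, 40, 55, 76, 97, 109, 118] (by decide +kernel)
    (C.pT (f6367 C)
    (C.pH [8, 30, 65, 84, 94, 117] [13, 31, 56, 82, 98] (by decide +kernel) (C.pNil _ _)))))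
    (C.pH [26, 38, 54, 89, 90, 113] [12, 43, 67, 85, 98, 110, 123] (by decide +kernel)
    (C.pT (f6370 C)
    (C.pH [8, 30, 65, 84, 94, 117] [24, 27, 62, 88, 102, 110, 122] (by decide +kernel) (C.pNil _ _))))
    (C.loop_of_one (relLoop2 C) _ _)

theorem f6374 : C.T (v9 C) [17, 47, 63, 77, 108, 109, 121] (v16 C) [13, 46, 77, 101, 109, 114] :=
  C.conv (f3615 C) (f3626 C) (f3626 C) _ [146, 155, 170, 172] _ (by decide +kernel) (by decide +kernel) (by decide +kernel)

theorem f6375 : C.S (v16 C) [18, 40, 56, 88, 99, 110, 122] :=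
  C.stMul (f3458 C) (f3456 C) _ (by decide +kernel)

theorem f6376 : C.S (v16 C) [11, 40, 65, 85, 95, 109, 114] :=
  C.stMul (f3468 C) (f6375 C) _ (by decide +kernel)

theorem f6377 : C.T (v16 C) [23, 38, 54, 77, 94, 109, 115] (v17 C) [26, 40, 57, 88, 96, 109, 115] :=
  C.conv (f4502 C) (f6326 C) (f6376 C) _ [128, 154, 167, 172, 178] _ (by decide +kernel) (by decide +kernel) (by decide +kernel)

theorem f6378 : C.T (v9 C) [7, 34, 50, 76, 93] (v17 C) [12, 40, 52, 82, 97, 110, 122] :=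
  C.conv (f5345 C) (f5502 C) (f1620 C) _ [147, 162, 166, 176] _ (by decide +kernel) (by decide +kernel) (by decide +kernel)

theorem f6379 : C.T (v17 C) [12, 40, 52, 82, 97, 110, 122] (v9 C) [7, 34, 50, 76, 93] :=
  C.flip (f6378 C)

theorem f6380 : C.T (v17 C) [14, 36, 52, 82, 102, 118] (v17 C) [24, 45, 67, 78, 94, 125] :=
  C.closeT (p := (v9 C)) (pu := [17, 47, 63, 77, 108, 109, 121])
    (C.pT (f6374 C)
    (C.pH [26, 38, 54, 89, 90, 113] [23, 38, 54, 77, 94, 109, 115] (by decide +kernel)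
    (C.pT (f6377 C)
    (C.pH [8, 30, 65, 84, 94, 117] [14, 36, 52, 82, 102, 118] (by decide +kernel) (C.pNil _ _)))))
    (C.pH [26, 38, 54, 89, 90, 113] [12, 40, 52, 82, 97, 110, 122] (by decide +kernel)
    (C.pT (f6379 C)
    (C.pH [8, 30, 65, 84, 94, 117] [17, 47, 63, 77, 108, 109, 121] (by decide +kernel) (C.pNil _ _))))
    (C.loop_of_one (relLoop2 C) _ _)

theorem f6381 : C.T (v17 C) [24, 45, 67, 78, 94, 125] (v17 C) [14, 36, 52, 82, 102, 118] :=
  C.flip (f6380 C)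

theorem f6382 : C.T (v9 C) [20, 38, 54, 85, 98, 110, 117] (v17 C) [18, 67, 73, 99, 123] :=
  C.conv (f4201 C) (f1615 C) (f1615 C) _ [130, 163, 170, 176, 177] _ (by decide +kernel) (by decide +kernel) (by decide +kernel)

theorem f6383 : C.S (v17 C) [23, 31, 75, 92, 109, 116] :=
  C.stMul (f4137 C) (f4132 C) _ (by decide +kernel)

theorem f6384 : C.T (v17 C) [10, 37, 53, 86, 103, 110, 118] (v17 C) [13, 29, 85, 97, 121] :=
  C.conv (f5710 C) (f4132 C) (f6383 C) _ [133, 156, 174] _ (by decide +kernel) (by decide +kernel) (by decide +kernel)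

theorem f6385 : C.S (v9 C) [25, 29, 50, 71, 91, 114] :=
  C.stMul (f1620 C) (f1624 C) _ (by decide +kernel)

theorem f6386 : C.S (v9 C) [18, 33, 55, 71, 105, 109, 125] :=
  C.stMul (f1615 C) (f6385 C) _ (by decide +kernel)

theorem f6387 : C.S (v9 C) [21, 43, 68, 73, 95, 110, 113] :=
  C.stMul (f1620 C) (f6386 C) _ (by decide +kernel)

theorem f6388 : C.T (v9 C) [16, 27, 64, 82, 108, 109, 111] (v17 C) [34, 62, 70, 101, 110, 115] :=
  C.conv (f4804 C) (f4895 C) (f6387 C) _ [142, 150, 168, 171, 177] _ (by decide +kernel) (by decide +kernel) (by decide +kernel)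

theorem f6389 : C.T (v17 C) [34, 62, 70, 101, 110, 115] (v9 C) [16, 27, 64, 82, 108, 109, 111] :=
  C.flip (f6388 C)

theorem f6390 : C.T (v17 C) [11, 35, 52, 76, 101, 109, 124] (v17 C) [7, 44, 69, 73, 98, 121] :=
  C.closeT (p := (v9 C)) (pu := [20, 38, 54, 85, 98, 110, 117])
    (C.pT (f6382 C)
    (C.pH [26, 38, 54, 89, 90, 113] [10, 37, 53, 86, 103, 110, 118] (by decide +kernel)
    (C.pT (f6384 C)
    (C.pH [8, 30, 65, 84, 94, 117] [11, 35, 52, 76, 101, 109, 124] (by decide +kernel) (C.pNil _ _)))))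
    (C.pH [26, 38, 54, 89, 90, 113] [34, 62, 70, 101, 110, 115] (by decide +kernel)
    (C.pT (f6389 C)
    (C.pH [8, 30, 65, 84, 94, 117] [20, 38, 54, 85, 98, 110, 117] (by decide +kernel) (C.pNil _ _))))
    (C.loop_of_one (relLoop2 C) _ _)

theorem f6392 : C.S (v17 C) [23, 31, 75, 92, 109, 116] :=
  C.stMul (f4137 C) (f4132 C) _ (by decide +kernel)

theorem f6394 : C.T (v9 C) [23, 45, 70, 96, 110, 123] (v17 C) [11, 32, 56, 85, 99, 109, 117] :=
  C.conv (f4225 C) (f4411 C) (f4411 C) _ [145, 162, 169, 172, 178] _ (by decide +kernel) (by decide +kernel) (by decide +kernel)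

theorem f6395 : C.S (v17 C) [51, 81, 96, 109, 125] :=
  C.stMul (f4132 C) (f4137 C) _ (by decide +kernel)

theorem f6396 : C.T (v17 C) [24, 32, 55, 89, 110, 125] (v17 C) [27, 65, 73, 90, 110, 111] :=
  C.conv (f5339 C) (f6395 C) (f6395 C) _ [146, 167, 172, 177] _ (by decide +kernel) (by decide +kernel) (by decide +kernel)

theorem f6397 : C.S (v9 C) [11, 44, 50, 87, 101, 113] :=
  C.stMul (f1620 C) (f5831 C) _ (by decide +kernel)

theorem f6398 : C.T (v9 C) [20, 34, 68, 86, 104, 109, 111] (v17 C) [19, 29, 58, 88, 92, 117] :=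
  C.conv (f4804 C) (f4895 C) (f6397 C) _ [136, 156, 164, 172, 178] _ (by decide +kernel) (by decide +kernel) (by decide +kernel)

theorem f6399 : C.T (v17 C) [19, 29, 58, 88, 92, 117] (v9 C) [20, 34, 68, 86, 104, 109, 111] :=
  C.flip (f6398 C)

theorem f6400 : C.T (v17 C) [8, 43, 55, 75, 99, 110, 123] (v17 C) [22, 32, 61, 70, 107, 113] :=
  C.closeT (p := (v9 C)) (pu := [23, 45, 70, 96, 110, 123])
    (C.pT (f6394 C)
    (C.pH [26, 38, 54, 89, 90, 113] [24, 32, 55, 89, 110, 125] (by decide +kernel)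
    (C.pT (f6396 C)
    (C.pH [8, 30, 65, 84, 94, 117] [8, 43, 55, 75, 99, 110, 123] (by decide +kernel) (C.pNil _ _)))))
    (C.pH [26, 38, 54, 89, 90, 113] [19, 29, 58, 88, 92, 117] (by decide +kernel)
    (C.pT (f6399 C)
    (C.pH [8, 30, 65, 84, 94, 117] [23, 45, 70, 96, 110, 123] (by decide +kernel) (C.pNil _ _))))
    (C.loop_of_one (relLoop2 C) _ _)

theorem f6401 : C.T (v17 C) [22, 32, 61, 70, 107, 113] (v17 C) [8, 43, 55, 75, 99, 110, 123] :=
  C.flip (f6400 C)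

theorem f6402 : C.T (v9 C) [15, 55, 72, 93, 110, 116] (v17 C) [17, 41, 54, 81, 102, 110, 123] :=
  C.conv (f4225 C) (f4411 C) (f4411 C) _ [137, 156, 169, 172, 177] _ (by decide +kernel) (by decide +kernel) (by decide +kernel)

theorem f6403 : C.T (v17 C) [20, 47, 56, 74, 91, 114] (v15 C) [16, 45, 49, 77, 91, 110, 120] :=
  C.conv (f4840 C) (f4137 C) (f4300 C) _ [144, 153, 169, 172, 177] _ (by decide +kernel) (by decide +kernel) (by decide +kernel)

theorem f6404 : C.S (v9 C) [13, 44, 50, 87, 101, 113] :=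
  C.stMul (f1620 C) (f5655 C) _ (by decide +kernel)

theorem f6405 : C.S (v9 C) [4, 30, 60, 88, 92, 110, 119] :=
  C.stMul (f1624 C) (f6404 C) _ (by decide +kernel)

theorem f6406 : C.T (v9 C) [10, 47, 51, 86, 99, 109, 115] (v17 C) [10, 28, 69, 75, 111] :=
  C.conv (f4863 C) (f4877 C) (f6405 C) _ [135, 152, 165, 175, 178] _ (by decide +kernel) (by decide +kernel) (by decide +kernel)

theorem f6407 : C.T (v17 C) [10, 28, 69, 75, 111] (v9 C) [10, 47, 51, 86, 99, 109, 115] :=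
  C.flip (f6406 C)

theorem f6408 : C.T (v15 C) [20, 27, 55, 87, 98, 110, 119] (v17 C) [18, 47, 62, 86, 97, 110, 119] :=
  C.closeT (p := (v9 C)) (pu := [15, 55, 72, 93, 110, 116])
    (C.pT (f6402 C)
    (C.pH [26, 38, 54, 89, 90, 113] [20, 47, 56, 74, 91, 114] (by decide +kernel)
    (C.pT (f6403 C)
    (C.pH [8, 30, 65, 84, 94, 117] [20, 27, 55, 87, 98, 110, 119] (by decide +kernel) (C.pNil _ _)))))
    (C.pH [26, 38, 54, 89, 90, 113] [10, 28, 69, 75, 111] (by decide +kernel)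
    (C.pT (f6407 C)
    (C.pH [8, 30, 65, 84, 94, 117] [15, 55, 72, 93, 110, 116] (by decide +kernel) (C.pNil _ _))))
    (C.loop_of_one (relLoop2 C) _ _)

theorem f6409 : C.T (v17 C) [18, 47, 62, 86, 97, 110, 119] (v15 C) [20, 27, 55, 87, 98, 110, 119] :=
  C.flip (f6408 C)

theorem f6410 : C.T (v9 C) [15, 48, 50, 85, 93, 109, 115] (v17 C) [14, 45, 61, 87, 98, 111] :=
  C.conv (f4225 C) (f4411 C) (f4411 C) _ [137, 160, 166, 176, 177] _ (by decide +kernel) (by decide +kernel) (by decide +kernel)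

theorem f6411 : C.S (v17 C) [23, 31, 49, 84, 96, 117] :=
  C.stMul (f4137 C) (f4137 C) _ (by decide +kernel)

theorem f6412 : C.T (v17 C) [5, 30, 63, 99, 110, 121] (v17 C) [9, 40, 51, 77, 97, 110, 114] :=
  C.conv (f4936 C) (f6411 C) (f6411 C) _ [139, 153, 164, 174, 177] _ (by decide +kernel) (by decide +kernel) (by decide +kernel)

theorem f6413 : C.S (v9 C) [13, 40, 59, 82, 99, 110, 111] :=
  C.stMul (f1615 C) (f5447 C) _ (by decide +kernel)

theorem f6414 : C.T (v9 C) [10, 41, 69, 85, 91, 110, 117] (v17 C) [11, 36, 56, 71, 94, 109, 119] :=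
  C.conv (f4232 C) (f1610 C) (f6413 C) _ [136, 163, 170] _ (by decide +kernel) (by decide +kernel) (by decide +kernel)

theorem f6415 : C.T (v17 C) [11, 36, 56, 71, 94, 109, 119] (v9 C) [10, 41, 69, 85, 91, 110, 117] :=
  C.flip (f6414 C)

theorem f6416 : C.T (v17 C) [18, 42, 57, 83, 100, 109, 113] (v17 C) [8, 42, 66, 80, 108, 125] :=
  C.closeT (p := (v9 C)) (pu := [15, 48, 50, 85, 93, 109, 115])
    (C.pT (f6410 C)
    (C.pH [26, 38, 54, 89, 90, 113] [5, 30, 63, 99, 110, 121] (by decide +kernel)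
    (C.pT (f6412 C)
    (C.pH [8, 30, 65, 84, 94, 117] [18, 42, 57, 83, 100, 109, 113] (by decide +kernel) (C.pNil _ _)))))
    (C.pH [26, 38, 54, 89, 90, 113] [11, 36, 56, 71, 94, 109, 119] (by decide +kernel)
    (C.pT (f6415 C)
    (C.pH [8, 30, 65, 84, 94, 117] [15, 48, 50, 85, 93, 109, 115] (by decide +kernel) (C.pNil _ _))))
    (C.loop_of_one (relLoop2 C) _ _)

theorem f6417 : C.T (v17 C) [8, 42, 66, 80, 108, 125] (v17 C) [18, 42, 57, 83, 100, 109, 113] :=
  C.flip (f6416 C)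

theorem f6418 : C.T (v9 C) [21, 29, 65, 78, 108, 110, 115] (v17 C) [6, 39, 66, 80, 102, 110, 123] :=
  C.conv (f4377 C) (f4755 C) (f4755 C) _ [132, 154, 165, 176, 178] _ (by decide +kernel) (by decide +kernel) (by decide +kernel)

theorem f6419 : C.S (v9 C) [23, 37, 55, 75, 92, 110, 123] :=
  C.stMul (f1624 C) (f1607 C) _ (by decide +kernel)

theorem f6420 : C.T (v9 C) [12, 31, 65, 88, 105, 114] (v15 C) [22, 40, 67, 77, 91, 118] :=
  C.conv (f3051 C) (f3058 C) (f6419 C) _ [143, 151, 169, 175] _ (by decide +kernel) (by decide +kernel) (by decide +kernel)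

theorem f6421 : C.T (v15 C) [22, 40, 67, 77, 91, 118] (v9 C) [12, 31, 65, 88, 105, 114] :=
  C.flip (f6420 C)

theorem f6422 : C.S (v15 C) [24, 47, 64, 83, 99, 109, 111] :=
  C.stMul (f2581 C) (f2569 C) _ (by decide +kernel)

theorem f6423 : C.S (v15 C) [25, 47, 66, 86, 107, 124] :=
  C.stMul (f2569 C) (f2565 C) _ (by decide +kernel)

theorem f6424 : C.S (v15 C) [20, 63, 89, 93, 110, 115] :=
  C.stMul (f2569 C) (f6423 C) _ (by decide +kernel)

theorem f6425 : C.T (v15 C) [9, 46, 53, 79, 106, 111] (v17 C) [16, 40, 64, 77, 99, 117] :=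
  C.conv (f5978 C) (f6422 C) (f6424 C) _ [148, 160, 164, 173] _ (by decide +kernel) (by decide +kernel) (by decide +kernel)

theorem f6426 : C.T (v17 C) [16, 40, 64, 77, 99, 117] (v15 C) [9, 46, 53, 79, 106, 111] :=
  C.flip (f6425 C)

theorem f6427 : C.T (v17 C) [4, 29, 49, 81, 95, 110, 111] (v17 C) [24, 32, 54, 96, 110, 115] :=
  C.closeT (p := (v9 C)) (pu := [21, 29, 65, 78, 108, 110, 115])
    (C.pT (f6418 C)
    (C.pH [26, 38, 54, 89, 90, 113] [4, 29, 49, 81, 95, 110, 111] (by decide +kernel) (C.pNil _ _)))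
    (C.pH [8, 30, 65, 84, 94, 117] [16, 40, 64, 77, 99, 117] (by decide +kernel)
    (C.pT (f6426 C)
    (C.pH [26, 38, 54, 89, 90, 113] [22, 40, 67, 77, 91, 118] (by decide +kernel)
    (C.pT (f6421 C)
    (C.pH [8, 30, 65, 84, 94, 117] [21, 29, 65, 78, 108, 110, 115] (by decide +kernel) (C.pNil _ _))))))
    (C.loop_of_one (relLoop2 C) _ _)

theorem f6429 : C.S (v17 C) [23, 31, 49, 84, 96, 117] :=
  C.stMul (f4137 C) (f4137 C) _ (by decide +kernel)

theorem f6431 : C.T (v9 C) [20, 35, 53, 70, 96, 110, 116] (v17 C) [22, 34, 57, 72, 99, 109, 123] :=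
  C.conv (f4377 C) (f4755 C) (f4755 C) _ [152, 166, 176, 177] _ (by decide +kernel) (by decide +kernel) (by decide +kernel)

theorem f6432 : C.S (v9 C) [11, 45, 66, 71, 92, 109, 125] :=
  C.stMul (f1610 C) (f1607 C) _ (by decide +kernel)

theorem f6433 : C.S (v9 C) [22, 48, 53, 80, 99, 115] :=
  C.stMul (f1624 C) (f6432 C) _ (by decide +kernel)

theorem f6434 : C.T (v9 C) [16, 48, 66, 73, 103, 109, 123] (v15 C) [13, 48, 56, 81, 98, 109, 114] :=
  C.conv (f3038 C) (f3917 C) (f6433 C) _ [129, 158, 168, 171, 177] _ (by decide +kernel) (by decide +kernel) (by decide +kernel)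

theorem f6435 : C.T (v15 C) [13, 48, 56, 81, 98, 109, 114] (v9 C) [16, 48, 66, 73, 103, 109, 123] :=
  C.flip (f6434 C)

theorem f6436 : C.S (v15 C) [25, 47, 66, 86, 107, 124] :=
  C.stMul (f2569 C) (f2565 C) _ (by decide +kernel)

theorem f6437 : C.S (v15 C) [20, 63, 89, 93, 110, 115] :=
  C.stMul (f2569 C) (f6436 C) _ (by decide +kernel)

theorem f6438 : C.T (v15 C) [16, 43, 60, 71, 105, 122] (v17 C) [17, 44, 62, 85, 98, 109, 121] :=
  C.conv (f5754 C) (f6437 C) (f2565 C) _ [129, 149, 167, 173] _ (by decide +kernel) (by decide +kernel) (by decide +kernel)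

theorem f6439 : C.T (v17 C) [17, 44, 62, 85, 98, 109, 121] (v15 C) [16, 43, 60, 71, 105, 122] :=
  C.flip (f6438 C)

theorem f6440 : C.T (v17 C) [19, 27, 54, 81, 105, 112] (v17 C) [7, 43, 67, 84, 90, 109, 115] :=
  C.closeT (p := (v9 C)) (pu := [20, 35, 53, 70, 96, 110, 116])
    (C.pT (f6431 C)
    (C.pH [26, 38, 54, 89, 90, 113] [19, 27, 54, 81, 105, 112] (by decide +kernel) (C.pNil _ _)))
    (C.pH [8, 30, 65, 84, 94, 117] [17, 44, 62, 85, 98, 109, 121] (by decide +kernel)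
    (C.pT (f6439 C)
    (C.pH [26, 38, 54, 89, 90, 113] [13, 48, 56, 81, 98, 109, 114] (by decide +kernel)
    (C.pT (f6435 C)
    (C.pH [8, 30, 65, 84, 94, 117] [20, 35, 53, 70, 96, 110, 116] (by decide +kernel) (C.pNil _ _))))))
    (C.loop_of_one (relLoop2 C) _ _)

theorem f6441 : C.T (v17 C) [7, 43, 67, 84, 90, 109, 115] (v17 C) [19, 27, 54, 81, 105, 112] :=
  C.flip (f6440 C)

theorem f6442 : C.T (v9 C) [11, 45, 54, 71, 104, 110, 114] (v17 C) [24, 32, 54, 75, 96, 110, 124] :=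
  C.conv (f4409 C) (f4762 C) (f4762 C) _ [127, 161, 168, 171, 178] _ (by decide +kernel) (by decide +kernel) (by decide +kernel)

theorem f6443 : C.S (v9 C) [25, 35, 61, 81, 90, 109, 114] :=
  C.stMul (f1624 C) (f5297 C) _ (by decide +kernel)

theorem f6444 : C.S (v9 C) [18, 46, 49, 70, 90, 109, 119] :=
  C.stMul (f1615 C) (f6443 C) _ (by decide +kernel)

theorem f6445 : C.T (v9 C) [13, 48, 57, 75, 96, 122] (v17 C) [22, 36, 49, 78, 101] :=
  C.conv (f5295 C) (f5298 C) (f6444 C) _ [148, 153, 168, 174, 178] _ (by decide +kernel) (by decide +kernel) (by decide +kernel)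

theorem f6446 : C.T (v17 C) [22, 36, 49, 78, 101] (v9 C) [13, 48, 57, 75, 96, 122] :=
  C.flip (f6445 C)

theorem f6447 : C.T (v17 C) [9, 29, 56, 76, 91, 110, 112] (v17 C) [26, 32, 49, 84, 102, 109, 114] :=
  C.conv (f5051 C) (f4137 C) (f4132 C) _ [137, 151, 166, 174] _ (by decide +kernel) (by decide +kernel) (by decide +kernel)

theorem f6448 : C.T (v17 C) [26, 32, 49, 84, 102, 109, 114] (v17 C) [9, 29, 56, 76, 91, 110, 112] :=
  C.flip (f6447 C)

theorem f6449 : C.T (v17 C) [12, 47, 57, 79, 104, 110, 125] (v17 C) [19, 43, 64, 78, 90, 109, 119] :=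
  C.closeT (p := (v9 C)) (pu := [11, 45, 54, 71, 104, 110, 114])
    (C.pT (f6442 C)
    (C.pH [26, 38, 54, 89, 90, 113] [12, 47, 57, 79, 104, 110, 125] (by decide +kernel) (C.pNil _ _)))
    (C.pH [8, 30, 65, 84, 94, 117] [26, 32, 49, 84, 102, 109, 114] (by decide +kernel)
    (C.pT (f6448 C)
    (C.pH [26, 38, 54, 89, 90, 113] [22, 36, 49, 78, 101] (by decide +kernel)
    (C.pT (f6446 C)
    (C.pH [8, 30, 65, 84, 94, 117] [11, 45, 54, 71, 104, 110, 114] (by decide +kernel) (C.pNil _ _))))))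
    (C.loop_of_one (relLoop2 C) _ _)

theorem f6450 : C.T (v17 C) [19, 43, 64, 78, 90, 109, 119] (v17 C) [12, 47, 57, 79, 104, 110, 125] :=
  C.flip (f6449 C)

theorem f6451 : C.T (v9 C) [20, 37, 64, 87, 104, 121] (v17 C) [5, 44, 53, 95, 109, 117] :=
  C.conv (f4589 C) (f4610 C) (f4610 C) _ [135, 159, 165, 172, 178] _ (by decide +kernel) (by decide +kernel) (by decide +kernel)

theorem f6452 : C.T (v17 C) [8, 47, 76, 93, 110] (v17 C) [56, 89, 104, 117] :=
  C.conv (f6449 C) (f4300 C) (f4300 C) _ [127, 158, 166, 173, 177] _ (by decide +kernel) (by decide +kernel) (by decide +kernel)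

theorem f6453 : C.S (v9 C) [18, 46, 59, 72, 100, 109, 122] :=
  C.stMul (f1607 C) (f5055 C) _ (by decide +kernel)

theorem f6454 : C.T (v9 C) [16, 34, 64, 87, 91, 109, 113] (v17 C) [14, 33, 55, 84, 103, 110, 121] :=
  C.conv (f4665 C) (f4678 C) (f6453 C) _ [139, 156, 166, 173, 177] _ (by decide +kernel) (by decide +kernel) (by decide +kernel)

theorem f6455 : C.T (v17 C) [14, 33, 55, 84, 103, 110, 121] (v9 C) [16, 34, 64, 87, 91, 109, 113] :=
  C.flip (f6454 C)

theorem f6456 : C.T (v17 C) [8, 30, 56, 89, 99, 109, 113] (v17 C) [12, 35, 61, 75, 107, 120] :=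
  C.closeT (p := (v9 C)) (pu := [20, 37, 64, 87, 104, 121])
    (C.pT (f6451 C)
    (C.pH [26, 38, 54, 89, 90, 113] [8, 47, 76, 93, 110] (by decide +kernel)
    (C.pT (f6452 C)
    (C.pH [8, 30, 65, 84, 94, 117] [8, 30, 56, 89, 99, 109, 113] (by decide +kernel) (C.pNil _ _)))))
    (C.pH [26, 38, 54, 89, 90, 113] [14, 33, 55, 84, 103, 110, 121] (by decide +kernel)
    (C.pT (f6455 C)
    (C.pH [8, 30, 65, 84, 94, 117] [20, 37, 64, 87, 104, 121] (by decide +kernel) (C.pNil _ _))))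
    (C.loop_of_one (relLoop2 C) _ _)

theorem f6460 : C.T (v9 C) [15, 31, 49, 77, 104, 109, 120] (v17 C) [4, 46, 49, 83, 94, 114] :=
  C.conv (f4665 C) (f4678 C) (f4678 C) _ [131, 161, 165, 173, 178] _ (by decide +kernel) (by decide +kernel) (by decide +kernel)

theorem f6461 : C.S (v9 C) [13, 48, 54, 73, 93, 110, 123] :=
  C.stMul (f1620 C) (f1610 C) _ (by decide +kernel)

theorem f6462 : C.T (v9 C) [10, 30, 65, 84, 104, 109, 124] (v17 C) [25, 42, 50, 70, 104, 109, 124] :=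
  C.conv (f4804 C) (f4895 C) (f6461 C) _ [131, 162, 168, 176, 178] _ (by decide +kernel) (by decide +kernel) (by decide +kernel)

theorem f6463 : C.T (v17 C) [25, 42, 50, 70, 104, 109, 124] (v9 C) [10, 30, 65, 84, 104, 109, 124] :=
  C.flip (f6462 C)

theorem f6464 : C.T (v17 C) [4, 30, 67, 83, 106, 125] (v17 C) [9, 41, 58, 72, 95, 109, 122] :=
  C.conv (f5828 C) (f4300 C) (f4132 C) _ [132, 163, 176, 178] _ (by decide +kernel) (by decide +kernel) (by decide +kernel)

theorem f6465 : C.T (v17 C) [9, 41, 58, 72, 95, 109, 122] (v17 C) [4, 30, 67, 83, 106, 125] :=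
  C.flip (f6464 C)

theorem f6466 : C.T (v17 C) [25, 45, 56, 81, 96, 110, 116] (v17 C) [25, 33, 55, 86, 91, 110, 116] :=
  C.closeT (p := (v9 C)) (pu := [15, 31, 49, 77, 104, 109, 120])
    (C.pT (f6460 C)
    (C.pH [26, 38, 54, 89, 90, 113] [25, 45, 56, 81, 96, 110, 116] (by decide +kernel) (C.pNil _ _)))
    (C.pH [8, 30, 65, 84, 94, 117] [9, 41, 58, 72, 95, 109, 122] (by decide +kernel)
    (C.pT (f6465 C)
    (C.pH [26, 38, 54, 89, 90, 113] [25, 42, 50, 70, 104, 109, 124] (by decide +kernel)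
    (C.pT (f6463 C)
    (C.pH [8, 30, 65, 84, 94, 117] [15, 31, 49, 77, 104, 109, 120] (by decide +kernel) (C.pNil _ _))))))
    (C.loop_of_one (relLoop2 C) _ _)

theorem f6467 : C.T (v17 C) [25, 33, 55, 86, 91, 110, 116] (v17 C) [25, 45, 56, 81, 96, 110, 116] :=
  C.flip (f6466 C)

theorem f6468 : C.T (v9 C) [11, 37, 79, 125] (v17 C) [18, 31, 70, 103, 109, 112] :=
  C.conv (f4804 C) (f4895 C) (f4895 C) _ [134, 161, 165, 175] _ (by decide +kernel) (by decide +kernel) (by decide +kernel)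

theorem f6469 : C.S (v17 C) [51, 81, 96, 109, 125] :=
  C.stMul (f4132 C) (f4137 C) _ (by decide +kernel)

theorem f6470 : C.T (v17 C) [10, 30, 68, 72, 92, 109, 118] (v4 C) [18, 39, 52, 81, 110, 118] :=
  C.conv (f6314 C) (f4137 C) (f6469 C) _ [147, 154, 165, 176, 178] _ (by decide +kernel) (by decide +kernel) (by decide +kernel)

theorem f6471 : C.S (v9 C) [21, 32, 51, 87, 95, 109, 111] :=
  C.stMul (f1624 C) (f5508 C) _ (by decide +kernel)

theorem f6472 : C.S (v9 C) [12, 29, 53, 80, 106, 109, 118] :=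
  C.stMul (f1620 C) (f6471 C) _ (by decide +kernel)

theorem f6473 : C.T (v9 C) [13, 38, 60, 70, 92, 109, 122] (v17 C) [20, 31, 60, 74, 98, 110, 119] :=
  C.conv (f5295 C) (f5298 C) (f6472 C) _ [127, 158, 167, 172] _ (by decide +kernel) (by decide +kernel) (by decide +kernel)

theorem f6474 : C.T (v17 C) [20, 31, 60, 74, 98, 110, 119] (v9 C) [13, 38, 60, 70, 92, 109, 122] :=
  C.flip (f6473 C)

theorem f6475 : C.T (v4 C) [4, 40, 49, 72, 96, 110, 123] (v17 C) [17, 42, 57, 75, 100, 110, 112] :=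
  C.closeT (p := (v9 C)) (pu := [11, 37, 79, 125])
    (C.pT (f6468 C)
    (C.pH [26, 38, 54, 89, 90, 113] [10, 30, 68, 72, 92, 109, 118] (by decide +kernel)
    (C.pT (f6470 C)
    (C.pH [8, 30, 65, 84, 94, 117] [4, 40, 49, 72, 96, 110, 123] (by decide +kernel) (C.pNil _ _)))))
    (C.pH [26, 38, 54, 89, 90, 113] [20, 31, 60, 74, 98, 110, 119] (by decide +kernel)
    (C.pT (f6474 C)
    (C.pH [8, 30, 65, 84, 94, 117] [11, 37, 79, 125] (by decide +kernel) (C.pNil _ _))))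
    (C.loop_of_one (relLoop2 C) _ _)

theorem f6476 : C.T (v17 C) [17, 42, 57, 75, 100, 110, 112] (v4 C) [4, 40, 49, 72, 96, 110, 123] :=
  C.flip (f6475 C)

theorem f6477 : C.T (v9 C) [25, 35, 59, 84, 105, 109, 122] (v17 C) [15, 32, 54, 85, 99, 111] :=
  C.conv (f4829 C) (f4967 C) (f4967 C) _ [148, 157, 165, 175, 177] _ (by decide +kernel) (by decide +kernel) (by decide +kernel)

theorem f6478 : C.S (v17 C) [23, 31, 49, 84, 96, 117] :=
  C.stMul (f4137 C) (f4137 C) _ (by decide +kernel)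

theorem f6479 : C.T (v17 C) [9, 46, 66, 79, 93, 119] (v15 C) [25, 37, 59, 83, 103, 109, 117] :=
  C.conv (f5958 C) (f4137 C) (f6478 C) _ [140, 151, 169, 173, 177] _ (by decide +kernel) (by decide +kernel) (by decide +kernel)

theorem f6480 : C.T (v9 C) [4, 46, 52, 80, 96, 115] (v17 C) [14, 41, 54, 84, 102, 109, 115] :=
  C.conv (f5295 C) (f5298 C) (f1610 C) _ [133, 173, 178] _ (by decide +kernel) (by decide +kernel) (by decide +kernel)

theorem f6481 : C.T (v17 C) [14, 41, 54, 84, 102, 109, 115] (v9 C) [4, 46, 52, 80, 96, 115] :=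
  C.flip (f6480 C)

theorem f6482 : C.T (v15 C) [9, 40, 49, 72, 104, 121] (v17 C) [12, 36, 64, 87, 98, 110, 120] :=
  C.closeT (p := (v9 C)) (pu := [25, 35, 59, 84, 105, 109, 122])
    (C.pT (f6477 C)
    (C.pH [26, 38, 54, 89, 90, 113] [9, 46, 66, 79, 93, 119] (by decide +kernel)
    (C.pT (f6479 C)
    (C.pH [8, 30, 65, 84, 94, 117] [9, 40, 49, 72, 104, 121] (by decide +kernel) (C.pNil _ _)))))
    (C.pH [26, 38, 54, 89, 90, 113] [14, 41, 54, 84, 102, 109, 115] (by decide +kernel)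
    (C.pT (f6481 C)
    (C.pH [8, 30, 65, 84, 94, 117] [25, 35, 59, 84, 105, 109, 122] (by decide +kernel) (C.pNil _ _))))
    (C.loop_of_one (relLoop2 C) _ _)

theorem f6483 : C.T (v17 C) [12, 36, 64, 87, 98, 110, 120] (v15 C) [9, 40, 49, 72, 104, 121] :=
  C.flip (f6482 C)

theorem f6484 : C.T (v9 C) [17, 38, 68, 84, 103, 110, 117] (v17 C) [6, 38, 62, 89, 99, 110, 125] :=
  C.conv (f4829 C) (f4967 C) (f4967 C) _ [131, 158, 166, 175] _ (by decide +kernel) (by decide +kernel) (by decide +kernel)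

theorem f6485 : C.T (v9 C) [7, 31, 88, 91, 109, 122] (v17 C) [8, 35, 60, 85, 106, 109, 124] :=
  C.conv (f5262 C) (f5270 C) (f5669 C) _ [148, 159, 170, 173] _ (by decide +kernel) (by decide +kernel) (by decide +kernel)

theorem f6486 : C.T (v17 C) [8, 35, 60, 85, 106, 109, 124] (v9 C) [7, 31, 88, 91, 109, 122] :=
  C.flip (f6485 C)

theorem f6487 : C.S (v17 C) [23, 31, 75, 92, 109, 116] :=
  C.stMul (f4137 C) (f4132 C) _ (by decide +kernel)

theorem f6488 : C.S (v17 C) [23, 31, 49, 84, 96, 117] :=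
  C.stMul (f4137 C) (f4137 C) _ (by decide +kernel)

theorem f6489 : C.T (v17 C) [5, 47, 60, 87, 91, 114] (v17 C) [9, 38, 66, 84, 106, 109, 118] :=
  C.conv (f5924 C) (f6487 C) (f6488 C) _ [146, 157, 167, 171] _ (by decide +kernel) (by decide +kernel) (by decide +kernel)

theorem f6490 : C.T (v17 C) [9, 38, 66, 84, 106, 109, 118] (v17 C) [5, 47, 60, 87, 91, 114] :=
  C.flip (f6489 C)

theorem f6491 : C.T (v17 C) [4, 39, 55, 84, 104, 110, 125] (v17 C) [25, 27, 62, 95, 110, 118] :=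
  C.closeT (p := (v9 C)) (pu := [17, 38, 68, 84, 103, 110, 117])
    (C.pT (f6484 C)
    (C.pH [26, 38, 54, 89, 90, 113] [4, 39, 55, 84, 104, 110, 125] (by decide +kernel) (C.pNil _ _)))
    (C.pH [8, 30, 65, 84, 94, 117] [9, 38, 66, 84, 106, 109, 118] (by decide +kernel)
    (C.pT (f6490 C)
    (C.pH [26, 38, 54, 89, 90, 113] [8, 35, 60, 85, 106, 109, 124] (by decide +kernel)
    (C.pT (f6486 C)
    (C.pH [8, 30, 65, 84, 94, 117] [17, 38, 68, 84, 103, 110, 117] (by decide +kernel) (C.pNil _ _))))))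
    (C.loop_of_one (relLoop2 C) _ _)

theorem f6492 : C.T (v17 C) [25, 27, 62, 95, 110, 118] (v17 C) [4, 39, 55, 84, 104, 110, 125] :=
  C.flip (f6491 C)

theorem f6493 : C.T (v9 C) [10, 31, 60, 74, 94, 109, 112] (v17 C) [16, 42, 49, 70, 101, 110, 116] :=
  C.conv (f4863 C) (f4877 C) (f4877 C) _ [127, 158, 175] _ (by decide +kernel) (by decide +kernel) (by decide +kernel)

theorem f6494 : C.T (v17 C) [13, 42, 56, 83, 104, 110, 117] (v17 C) [18, 34, 65, 85, 95, 125] :=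
  C.conv (f5339 C) (f6395 C) (f4137 C) _ [137, 159, 165, 171, 178] _ (by decide +kernel) (by decide +kernel) (by decide +kernel)

theorem f6495 : C.S (v9 C) [11, 45, 66, 71, 92, 109, 125] :=
  C.stMul (f1610 C) (f1607 C) _ (by decide +kernel)

theorem f6496 : C.S (v9 C) [13, 48, 69, 83, 106, 116] :=
  C.stMul (f1620 C) (f6495 C) _ (by decide +kernel)

theorem f6497 : C.T (v9 C) [23, 35, 60, 77, 103, 110, 114] (v17 C) [4, 44, 51, 75, 97, 111] :=
  C.conv (f4829 C) (f4967 C) (f6496 C) _ [135, 159, 168, 174, 177] _ (by decide +kernel) (by decide +kernel) (by decide +kernel)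

theorem f6498 : C.T (v17 C) [4, 44, 51, 75, 97, 111] (v9 C) [23, 35, 60, 77, 103, 110, 114] :=
  C.flip (f6497 C)

theorem f6499 : C.T (v17 C) [4, 45, 64, 78, 95, 110, 121] (v17 C) [6, 45, 52, 83, 102, 109, 116] :=
  C.closeT (p := (v9 C)) (pu := [10, 31, 60, 74, 94, 109, 112])
    (C.pT (f6493 C)
    (C.pH [26, 38, 54, 89, 90, 113] [13, 42, 56, 83, 104, 110, 117] (by decide +kernel)
    (C.pT (f6494 C)
    (C.pH [8, 30, 65, 84, 94, 117] [4, 45, 64, 78, 95, 110, 121] (by decide +kernel) (C.pNil _ _)))))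
    (C.pH [26, 38, 54, 89, 90, 113] [4, 44, 51, 75, 97, 111] (by decide +kernel)
    (C.pT (f6498 C)
    (C.pH [8, 30, 65, 84, 94, 117] [10, 31, 60, 74, 94, 109, 112] (by decide +kernel) (C.pNil _ _))))
    (C.loop_of_one (relLoop2 C) _ _)

theorem f6500 : C.T (v17 C) [6, 45, 52, 83, 102, 109, 116] (v17 C) [4, 45, 64, 78, 95, 110, 121] :=
  C.flip (f6499 C)

theorem f6501 : C.T (v9 C) [13, 37, 59, 80, 98, 115] (v17 C) [20, 40, 66, 89, 107, 116] :=
  C.conv (f4863 C) (f4877 C) (f4877 C) _ [134, 166, 173, 177] _ (by decide +kernel) (by decide +kernel) (by decide +kernel)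

theorem f6502 : C.S (v9 C) [23, 37, 55, 75, 92, 110, 123] :=
  C.stMul (f1624 C) (f1607 C) _ (by decide +kernel)

theorem f6503 : C.S (v9 C) [25, 29, 52, 87, 96, 125] :=
  C.stMul (f1620 C) (f6502 C) _ (by decide +kernel)

theorem f6504 : C.S (v9 C) [18, 33, 89, 94, 112] :=
  C.stMul (f1615 C) (f6503 C) _ (by decide +kernel)

theorem f6505 : C.T (v9 C) [6, 48, 65, 76, 90, 110, 125] (v17 C) [7, 38, 58, 84, 95, 114] :=
  C.conv (f5345 C) (f5502 C) (f6504 C) _ [148, 153, 170, 172] _ (by decide +kernel) (by decide +kernel) (by decide +kernel)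

theorem f6506 : C.T (v17 C) [7, 38, 58, 84, 95, 114] (v9 C) [6, 48, 65, 76, 90, 110, 125] :=
  C.flip (f6505 C)

theorem f6507 : C.S (v17 C) [23, 31, 49, 84, 96, 117] :=
  C.stMul (f4137 C) (f4137 C) _ (by decide +kernel)

theorem f6508 : C.T (v17 C) [23, 29, 58, 81, 102, 116] (v17 C) [30, 52, 83, 106, 110] :=
  C.conv (f5891 C) (f4132 C) (f6507 C) _ [146, 150, 169, 173, 177] _ (by decide +kernel) (by decide +kernel) (by decide +kernel)

theorem f6509 : C.T (v17 C) [30, 52, 83, 106, 110] (v17 C) [23, 29, 58, 81, 102, 116] :=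
  C.flip (f6508 C)

theorem f6510 : C.T (v17 C) [15, 37, 61, 95, 110, 120] (v17 C) [8, 28, 66, 78, 102, 117] :=
  C.closeT (p := (v9 C)) (pu := [13, 37, 59, 80, 98, 115])
    (C.pT (f6501 C)
    (C.pH [26, 38, 54, 89, 90, 113] [15, 37, 61, 95, 110, 120] (by decide +kernel) (C.pNil _ _)))
    (C.pH [8, 30, 65, 84, 94, 117] [30, 52, 83, 106, 110] (by decide +kernel)
    (C.pT (f6509 C)
    (C.pH [26, 38, 54, 89, 90, 113] [7, 38, 58, 84, 95, 114] (by decide +kernel)
    (C.pT (f6506 C)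
    (C.pH [8, 30, 65, 84, 94, 117] [13, 37, 59, 80, 98, 115] (by decide +kernel) (C.pNil _ _))))))
    (C.loop_of_one (relLoop2 C) _ _)

theorem f6511 : C.T (v17 C) [8, 28, 66, 78, 102, 117] (v17 C) [15, 37, 61, 95, 110, 120] :=
  C.flip (f6510 C)

theorem f6512 : C.T (v9 C) [22, 29, 54, 77, 92, 116] (v17 C) [21, 27, 61, 73, 91, 109, 115] :=
  C.conv (f5160 C) (f5313 C) (f5313 C) _ [136, 150, 170, 176, 178] _ (by decide +kernel) (by decide +kernel) (by decide +kernel)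

theorem f6513 : C.T (v17 C) [6, 28, 52, 86, 100, 110, 116] (v17 C) [10, 28, 62, 87, 96, 110, 112] :=
  C.conv (f5900 C) (f5902 C) (f5903 C) _ [136, 149, 169, 171, 177] _ (by decide +kernel) (by decide +kernel) (by decide +kernel)

theorem f6514 : C.T (v9 C) [17, 39, 53, 84, 98, 110, 112] (v17 C) [6, 40, 58, 72, 101, 110, 113] :=
  C.conv (f4863 C) (f4877 C) (f4876 C) _ [135, 161, 168] _ (by decide +kernel) (by decide +kernel) (by decide +kernel)

theorem f6515 : C.T (v17 C) [6, 40, 58, 72, 101, 110, 113] (v9 C) [17, 39, 53, 84, 98, 110, 112] :=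
  C.flip (f6514 C)

theorem f6516 : C.T (v17 C) [15, 40, 60, 86, 105] (v17 C) [21, 30, 63, 70, 103, 117] :=
  C.closeT (p := (v9 C)) (pu := [22, 29, 54, 77, 92, 116])
    (C.pT (f6512 C)
    (C.pH [26, 38, 54, 89, 90, 113] [6, 28, 52, 86, 100, 110, 116] (by decide +kernel)
    (C.pT (f6513 C)
    (C.pH [8, 30, 65, 84, 94, 117] [15, 40, 60, 86, 105] (by decide +kernel) (C.pNil _ _)))))
    (C.pH [26, 38, 54, 89, 90, 113] [6, 40, 58, 72, 101, 110, 113] (by decide +kernel)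
    (C.pT (f6515 C)
    (C.pH [8, 30, 65, 84, 94, 117] [22, 29, 54, 77, 92, 116] (by decide +kernel) (C.pNil _ _))))
    (C.loop_of_one (relLoop2 C) _ _)

theorem f6517 : C.T (v17 C) [21, 30, 63, 70, 103, 117] (v17 C) [15, 40, 60, 86, 105] :=
  C.flip (f6516 C)

theorem f6518 : C.T (v9 C) [13, 38, 65, 78, 108, 116] (v17 C) [16, 46, 69, 102, 109] :=
  C.conv (f5160 C) (f5313 C) (f5313 C) _ [153, 167, 175, 178] _ (by decide +kernel) (by decide +kernel) (by decide +kernel)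

theorem f6519 : C.S (v9 C) [13, 48, 54, 73, 93, 110, 123] :=
  C.stMul (f1620 C) (f1610 C) _ (by decide +kernel)

theorem f6520 : C.S (v9 C) [13, 40, 56, 79, 103, 109, 114] :=
  C.stMul (f1607 C) (f6519 C) _ (by decide +kernel)

theorem f6521 : C.S (v9 C) [4, 47, 63, 80, 93, 112] :=
  C.stMul (f1624 C) (f6520 C) _ (by decide +kernel)

theorem f6522 : C.T (v9 C) [6, 37, 58, 84, 103, 109, 113] (v17 C) [11, 30, 63, 85, 94, 116] :=
  C.conv (f5345 C) (f5502 C) (f6521 C) _ [136, 157, 167, 172, 177] _ (by decide +kernel) (by decide +kernel) (by decide +kernel)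

theorem f6523 : C.T (v17 C) [11, 30, 63, 85, 94, 116] (v9 C) [6, 37, 58, 84, 103, 109, 113] :=
  C.flip (f6522 C)

theorem f6524 : C.T (v17 C) [8, 32, 56, 71, 92, 110, 115] (v15 C) [22, 31, 55, 84, 106, 124] :=
  C.conv (f5517 C) (f6003 C) (f4300 C) _ [143, 151, 170, 177] _ (by decide +kernel) (by decide +kernel) (by decide +kernel)

theorem f6525 : C.T (v15 C) [22, 31, 55, 84, 106, 124] (v17 C) [8, 32, 56, 71, 92, 110, 115] :=
  C.flip (f6524 C)

theorem f6526 : C.T (v17 C) [13, 33, 50, 89, 108, 117] (v15 C) [17, 47, 67, 77, 90, 111] :=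
  C.closeT (p := (v9 C)) (pu := [13, 38, 65, 78, 108, 116])
    (C.pT (f6518 C)
    (C.pH [26, 38, 54, 89, 90, 113] [13, 33, 50, 89, 108, 117] (by decide +kernel) (C.pNil _ _)))
    (C.pH [8, 30, 65, 84, 94, 117] [22, 31, 55, 84, 106, 124] (by decide +kernel)
    (C.pT (f6525 C)
    (C.pH [26, 38, 54, 89, 90, 113] [11, 30, 63, 85, 94, 116] (by decide +kernel)
    (C.pT (f6523 C)
    (C.pH [8, 30, 65, 84, 94, 117] [13, 38, 65, 78, 108, 116] (by decide +kernel) (C.pNil _ _))))))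
    (C.loop_of_one (relLoop2 C) _ _)

theorem f6527 : C.T (v15 C) [17, 47, 67, 77, 90, 111] (v17 C) [13, 33, 50, 89, 108, 117] :=
  C.flip (f6526 C)

theorem f6528 : C.T (v9 C) [44, 69, 75, 90, 110, 114] (v17 C) [15, 33, 67, 73, 90, 113] :=
  C.conv (f5262 C) (f5270 C) (f5270 C) _ [139, 151, 166, 172, 178] _ (by decide +kernel) (by decide +kernel) (by decide +kernel)

theorem f6529 : C.S (v17 C) [23, 31, 49, 84, 96, 117] :=
  C.stMul (f4137 C) (f4137 C) _ (by decide +kernel)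

theorem f6530 : C.T (v17 C) [9, 40, 54, 70, 98, 109, 114] (v17 C) [12, 30, 67, 87, 99, 117] :=
  C.conv (f4998 C) (f4132 C) (f6529 C) _ [163, 171, 178] _ (by decide +kernel) (by decide +kernel) (by decide +kernel)

theorem f6531 : C.S (v9 C) [10, 69, 81, 100, 113] :=
  C.stMul (f1615 C) (f1610 C) _ (by decide +kernel)

theorem f6532 : C.S (v9 C) [11, 48, 69, 83, 106, 116] :=
  C.stMul (f1620 C) (f6531 C) _ (by decide +kernel)

theorem f6533 : C.T (v9 C) [8, 29, 49, 87, 100, 110, 114] (v17 C) [23, 45, 54, 78, 97, 109, 112] :=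
  C.conv (f4187 C) (f4197 C) (f6532 C) _ [140, 156, 165, 173, 177] _ (by decide +kernel) (by decide +kernel) (by decide +kernel)

theorem f6534 : C.T (v17 C) [23, 45, 54, 78, 97, 109, 112] (v9 C) [8, 29, 49, 87, 100, 110, 114] :=
  C.flip (f6533 C)

theorem f6535 : C.T (v17 C) [21, 39, 66, 84, 93, 110, 113] (v17 C) [13, 39, 65, 85, 94, 110, 120] :=
  C.closeT (p := (v9 C)) (pu := [44, 69, 75, 90, 110, 114])
    (C.pT (f6528 C)
    (C.pH [26, 38, 54, 89, 90, 113] [9, 40, 54, 70, 98, 109, 114] (by decide +kernel)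
    (C.pT (f6530 C)
    (C.pH [8, 30, 65, 84, 94, 117] [21, 39, 66, 84, 93, 110, 113] (by decide +kernel) (C.pNil _ _)))))
    (C.pH [26, 38, 54, 89, 90, 113] [23, 45, 54, 78, 97, 109, 112] (by decide +kernel)
    (C.pT (f6534 C)
    (C.pH [8, 30, 65, 84, 94, 117] [44, 69, 75, 90, 110, 114] (by decide +kernel) (C.pNil _ _))))
    (C.loop_of_one (relLoop2 C) _ _)

theorem f6539 : C.T (v9 C) [25, 43, 54, 87, 92, 109, 114] (v17 C) [4, 33, 54, 75, 101, 110, 115] :=
  C.conv (f5295 C) (f5298 C) (f5298 C) _ [139, 162, 168, 174] _ (by decide +kernel) (by decide +kernel) (by decide +kernel)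

theorem f6540 : C.T (v9 C) [4, 41, 68, 76, 93, 110, 122] (v17 C) [14, 47, 59, 83, 98, 109, 120] :=
  C.conv (f4201 C) (f1615 C) (f5106 C) _ [161, 164, 175, 177] _ (by decide +kernel) (by decide +kernel) (by decide +kernel)

theorem f6541 : C.T (v17 C) [14, 47, 59, 83, 98, 109, 120] (v9 C) [4, 41, 68, 76, 93, 110, 122] :=
  C.flip (f6540 C)

theorem f6542 : C.T (v17 C) [12, 49, 84, 95, 109] (v17 C) [11, 40, 68, 73, 91, 109, 119] :=
  C.conv (f5856 C) (f5858 C) (f4132 C) _ [146, 151, 164, 175] _ (by decide +kernel) (by decide +kernel) (by decide +kernel)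

theorem f6543 : C.T (v17 C) [11, 40, 68, 73, 91, 109, 119] (v17 C) [12, 49, 84, 95, 109] :=
  C.flip (f6542 C)

theorem f6544 : C.T (v17 C) [25, 32, 60, 79, 104, 109, 116] (v17 C) [13, 46, 66, 82, 103, 119] :=
  C.closeT (p := (v9 C)) (pu := [25, 43, 54, 87, 92, 109, 114])
    (C.pT (f6539 C)
    (C.pH [26, 38, 54, 89, 90, 113] [25, 32, 60, 79, 104, 109, 116] (by decide +kernel) (C.pNil _ _)))
    (C.pH [8, 30, 65, 84, 94, 117] [11, 40, 68, 73, 91, 109, 119] (by decide +kernel)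
    (C.pT (f6543 C)
    (C.pH [26, 38, 54, 89, 90, 113] [14, 47, 59, 83, 98, 109, 120] (by decide +kernel)
    (C.pT (f6541 C)
    (C.pH [8, 30, 65, 84, 94, 117] [25, 43, 54, 87, 92, 109, 114] (by decide +kernel) (C.pNil _ _))))))
    (C.loop_of_one (relLoop2 C) _ _)

theorem f6545 : C.T (v17 C) [13, 46, 66, 82, 103, 119] (v17 C) [25, 32, 60, 79, 104, 109, 116] :=
  C.flip (f6544 C)

theorem f6546 : C.T (v9 C) [25, 43, 53, 70, 104, 109, 121] (v17 C) [26, 46, 58, 100, 115] :=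
  C.conv (f5345 C) (f5502 C) (f5502 C) _ [142, 149, 166, 172] _ (by decide +kernel) (by decide +kernel) (by decide +kernel)

theorem f6547 : C.S (v17 C) [51, 81, 96, 109, 125] :=
  C.stMul (f4132 C) (f4137 C) _ (by decide +kernel)

theorem f6548 : C.T (v17 C) [16, 42, 58, 84, 108, 110, 116] (v17 C) [5, 46, 89, 102, 113] :=
  C.conv (f6390 C) (f6392 C) (f6547 C) _ [141, 163, 176] _ (by decide +kernel) (by decide +kernel) (by decide +kernel)

theorem f6549 : C.T (v9 C) [4, 41, 60, 87, 90, 110, 111] (v17 C) [6, 37, 57, 78, 103, 116] :=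
  C.conv (f4409 C) (f4762 C) (f1657 C) _ [137, 159, 166, 176] _ (by decide +kernel) (by decide +kernel) (by decide +kernel)

theorem f6550 : C.T (v17 C) [6, 37, 57, 78, 103, 116] (v9 C) [4, 41, 60, 87, 90, 110, 111] :=
  C.flip (f6549 C)

theorem f6551 : C.T (v17 C) [12, 28, 67, 87, 105, 119] (v17 C) [21, 46, 63, 71, 115] :=
  C.closeT (p := (v9 C)) (pu := [25, 43, 53, 70, 104, 109, 121])
    (C.pT (f6546 C)
    (C.pH [26, 38, 54, 89, 90, 113] [16, 42, 58, 84, 108, 110, 116] (by decide +kernel)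
    (C.pT (f6548 C)
    (C.pH [8, 30, 65, 84, 94, 117] [12, 28, 67, 87, 105, 119] (by decide +kernel) (C.pNil _ _)))))
    (C.pH [26, 38, 54, 89, 90, 113] [6, 37, 57, 78, 103, 116] (by decide +kernel)
    (C.pT (f6550 C)
    (C.pH [8, 30, 65, 84, 94, 117] [25, 43, 53, 70, 104, 109, 121] (by decide +kernel) (C.pNil _ _))))
    (C.loop_of_one (relLoop2 C) _ _)

theorem f6552 : C.T (v17 C) [21, 46, 63, 71, 115] (v17 C) [12, 28, 67, 87, 105, 119] :=
  C.flip (f6551 C)

theorem f6553 : C.T (v10 C) [22, 40, 67, 79, 112] (v10 C) [11, 37, 83, 106, 119] :=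
  C.conv (f1770 C) (f1773 C) (f1773 C) _ [144, 149, 166, 174, 178] _ (by decide +kernel) (by decide +kernel) (by decide +kernel)

theorem f6554 : C.S (v10 C) [12, 29, 59, 82, 105, 117] :=
  C.stMul (f1709 C) (f1699 C) _ (by decide +kernel)

theorem f6555 : C.S (v10 C) [23, 28, 67, 70, 108, 109, 122] :=
  C.stMul (f1722 C) (f6554 C) _ (by decide +kernel)

theorem f6556 : C.S (v10 C) [20, 29, 67, 83, 102, 110, 114] :=
  C.stMul (f1704 C) (f6554 C) _ (by decide +kernel)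

theorem f6557 : C.T (v10 C) [20, 33, 63, 76, 105, 111] (v17 C) [20, 34, 74, 98, 124] :=
  C.conv (f6103 C) (f6555 C) (f6556 C) _ [145, 162, 168, 172, 177] _ (by decide +kernel) (by decide +kernel) (by decide +kernel)

theorem f6558 : C.T (v17 C) [20, 34, 74, 98, 124] (v10 C) [20, 33, 63, 76, 105, 111] :=
  C.flip (f6557 C)

theorem f6559 : C.T (v10 C) [20, 34, 63, 71, 108, 110, 113] (v17 C) [11, 37, 55, 77, 103, 109, 112] :=
  C.closeT (p := (v10 C)) (pu := [22, 40, 67, 79, 112])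
    (C.pT (f6553 C)
    (C.pH [12, 35, 50, 83] [20, 34, 63, 71, 108, 110, 113] (by decide +kernel) (C.pNil _ _)))
    (C.pH [12, 35, 50, 83] [20, 34, 74, 98, 124] (by decide +kernel)
    (C.pT (f6558 C)
    (C.pH [12, 35, 50, 83] [22, 40, 67, 79, 112] (by decide +kernel) (C.pNil _ _))))
    (C.loop_of_one (relLoop0 C) _ _)

theorem f6560 : C.T (v17 C) [11, 37, 55, 77, 103, 109, 112] (v10 C) [20, 34, 63, 71, 108, 110, 113] :=
  C.flip (f6559 C)

theorem f6561 : C.T (v10 C) [6, 41, 55, 89, 94, 110, 115] (v4 C) [4, 35, 54, 84, 105, 110] :=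
  C.conv (f1797 C) (f1853 C) (f1853 C) _ [144, 155, 165, 172, 177] _ (by decide +kernel) (by decide +kernel) (by decide +kernel)

theorem f6562 : C.S (v4 C) [18, 46, 49, 75, 97, 110, 118] :=
  C.stMul (f407 C) (f407 C) _ (by decide +kernel)

theorem f6563 : C.S (v4 C) [23, 45, 57, 77, 95, 110, 118] :=
  C.stMul (f407 C) (f6562 C) _ (by decide +kernel)

theorem f6564 : C.S (v4 C) [26, 43, 63, 73, 104, 112] :=
  C.stMul (f421 C) (f6563 C) _ (by decide +kernel)

theorem f6565 : C.S (v4 C) [17, 35, 66, 70, 95] :=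
  C.stMul (f421 C) (f407 C) _ (by decide +kernel)

theorem f6566 : C.S (v4 C) [26, 44, 64, 94, 121] :=
  C.stMul (f693 C) (f6565 C) _ (by decide +kernel)

theorem f6567 : C.S (v4 C) [23, 27, 56, 70, 98, 125] :=
  C.stMul (f421 C) (f6566 C) _ (by decide +kernel)

theorem f6568 : C.T (v4 C) [13, 37, 57, 85, 107, 110, 119] (v17 C) [10, 33, 87, 93, 110, 120] :=
  C.conv (f6156 C) (f6564 C) (f6567 C) _ [141, 156, 170, 177] _ (by decide +kernel) (by decide +kernel) (by decide +kernel)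

theorem f6569 : C.T (v17 C) [21, 28, 73, 94, 109] (v10 C) [24, 32, 69, 77, 94, 123] :=
  C.closeT (p := (v10 C)) (pu := [6, 41, 55, 89, 94, 110, 115])
    (C.pT (f6561 C)
    (C.pH [12, 35, 50, 83] [13, 37, 57, 85, 107, 110, 119] (by decide +kernel)
    (C.pT (f6568 C)
    (C.pH [12, 35, 50, 83] [21, 28, 73, 94, 109] (by decide +kernel) (C.pNil _ _)))))
    (C.pH [12, 35, 50, 83] [6, 41, 55, 89, 94, 110, 115] (by decide +kernel) (C.pNil _ _))
    (C.loop_of_one (relLoop0 C) _ _)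

theorem f6570 : C.T (v10 C) [24, 32, 69, 77, 94, 123] (v17 C) [21, 28, 73, 94, 109] :=
  C.flip (f6569 C)

theorem f6571 : C.T (v10 C) [4, 28, 54, 86, 98, 109, 121] (v17 C) [14, 41, 53, 97, 109, 124] :=
  C.conv (f5151 C) (f5867 C) (f5867 C) _ [145, 159, 165, 176, 177] _ (by decide +kernel) (by decide +kernel) (by decide +kernel)

theorem f6572 : C.S (v10 C) [12, 36, 63, 82, 101, 109, 123] :=
  C.stMul (f1714 C) (f1699 C) _ (by decide +kernel)

theorem f6573 : C.S (v10 C) [20, 47, 60, 84] :=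
  C.stMul (f1704 C) (f6572 C) _ (by decide +kernel)

theorem f6574 : C.S (v10 C) [23, 43, 60, 89, 99, 119] :=
  C.stMul (f1709 C) (f6573 C) _ (by decide +kernel)

theorem f6575 : C.T (v10 C) [26, 46, 61, 75, 98, 109, 124] (v17 C) [10, 44, 51, 74, 91, 110, 111] :=
  C.conv (f5151 C) (f5867 C) (f6574 C) _ [134, 154, 168, 171] _ (by decide +kernel) (by decide +kernel) (by decide +kernel)

theorem f6576 : C.T (v17 C) [10, 44, 51, 74, 91, 110, 111] (v10 C) [26, 46, 61, 75, 98, 109, 124] :=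
  C.flip (f6575 C)

theorem f6577 : C.T (v17 C) [14, 41, 68, 84, 90, 110, 123] (v17 C) [8, 32, 52, 75, 108, 109, 112] :=
  C.closeT (p := (v10 C)) (pu := [4, 28, 54, 86, 98, 109, 121])
    (C.pT (f6571 C)
    (C.pH [12, 35, 50, 83] [14, 41, 68, 84, 90, 110, 123] (by decide +kernel) (C.pNil _ _)))
    (C.pH [12, 35, 50, 83] [10, 44, 51, 74, 91, 110, 111] (by decide +kernel)
    (C.pT (f6576 C)
    (C.pH [12, 35, 50, 83] [4, 28, 54, 86, 98, 109, 121] (by decide +kernel) (C.pNil _ _))))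
    (C.loop_of_one (relLoop0 C) _ _)

theorem f6581 : C.T (v10 C) [21, 47, 59, 70, 93, 110, 115] (v17 C) [18, 41, 51, 88, 94, 109, 124] :=
  C.conv (f6103 C) (f6555 C) (f6555 C) _ [134, 157, 169, 176] _ (by decide +kernel) (by decide +kernel) (by decide +kernel)

theorem f6582 : C.S (v10 C) [18, 30, 59, 73] :=
  C.stMul (f1699 C) (f1714 C) _ (by decide +kernel)

theorem f6583 : C.S (v10 C) [23, 45, 58, 72, 105, 121] :=
  C.stMul (f1714 C) (f6582 C) _ (by decide +kernel)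

theorem f6584 : C.T (v10 C) [10, 35, 59, 87, 95, 111] (v17 C) [22, 46, 62, 71, 90, 109, 119] :=
  C.conv (f6103 C) (f6555 C) (f6583 C) _ [134, 154, 169, 174, 177] _ (by decide +kernel) (by decide +kernel) (by decide +kernel)

theorem f6585 : C.T (v17 C) [22, 46, 62, 71, 90, 109, 119] (v10 C) [10, 35, 59, 87, 95, 111] :=
  C.flip (f6584 C)

theorem f6586 : C.T (v17 C) [18, 47, 51, 88, 98, 115] (v17 C) [20, 44, 62, 71, 90, 109, 119] :=
  C.closeT (p := (v10 C)) (pu := [21, 47, 59, 70, 93, 110, 115])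
    (C.pT (f6581 C)
    (C.pH [12, 35, 50, 83] [18, 47, 51, 88, 98, 115] (by decide +kernel) (C.pNil _ _)))
    (C.pH [12, 35, 50, 83] [22, 46, 62, 71, 90, 109, 119] (by decide +kernel)
    (C.pT (f6585 C)
    (C.pH [12, 35, 50, 83] [21, 47, 59, 70, 93, 110, 115] (by decide +kernel) (C.pNil _ _))))
    (C.loop_of_one (relLoop0 C) _ _)

theorem f6590 : C.T (v10 C) [25, 38, 75, 96, 114] (v10 C) [25, 28, 53, 76, 103, 110, 123] :=
  C.conv (f1863 C) (f1866 C) (f1866 C) _ [142, 151, 165, 176, 177] _ (by decide +kernel) (by decide +kernel) (by decide +kernel)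

theorem f6591 : C.S (v10 C) [23, 43, 49, 72, 99, 110, 111] :=
  C.stMul (f1709 C) (f1722 C) _ (by decide +kernel)

theorem f6592 : C.S (v10 C) [18, 46, 51, 74, 101, 109] :=
  C.stMul (f1714 C) (f6591 C) _ (by decide +kernel)

theorem f6593 : C.S (v10 C) [20, 37, 64, 88, 103, 109, 112] :=
  C.stMul (f1699 C) (f6592 C) _ (by decide +kernel)

theorem f6594 : C.T (v10 C) [9, 56, 88, 104, 110, 119] (v17 C) [18, 27, 60, 86, 101, 109, 121] :=
  C.conv (f4785 C) (f5909 C) (f6593 C) _ [144, 152, 168, 177] _ (by decide +kernel) (by decide +kernel) (by decide +kernel)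

theorem f6595 : C.T (v10 C) [4, 34, 54, 74, 93, 109] (v17 C) [22, 41, 51, 97, 109] :=
  C.conv (f5151 C) (f5867 C) (f6572 C) _ [126, 151, 166, 178] _ (by decide +kernel) (by decide +kernel) (by decide +kernel)

theorem f6596 : C.T (v17 C) [22, 41, 51, 97, 109] (v10 C) [4, 34, 54, 74, 93, 109] :=
  C.flip (f6595 C)

theorem f6597 : C.T (v17 C) [10, 27, 54, 85, 108, 109, 120] (v17 C) [17, 36, 63, 88, 100, 110, 119] :=
  C.closeT (p := (v10 C)) (pu := [25, 38, 75, 96, 114])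
    (C.pT (f6590 C)
    (C.pH [8, 30, 65, 84, 94, 117] [9, 56, 88, 104, 110, 119] (by decide +kernel)
    (C.pT (f6594 C)
    (C.pH [26, 38, 54, 89, 90, 113] [10, 27, 54, 85, 108, 109, 120] (by decide +kernel) (C.pNil _ _)))))
    (C.pH [8, 30, 65, 84, 94, 117] [22, 41, 51, 97, 109] (by decide +kernel)
    (C.pT (f6596 C)
    (C.pH [26, 38, 54, 89, 90, 113] [25, 38, 75, 96, 114] (by decide +kernel) (C.pNil _ _))))
    (C.loop_of_one (relLoop1 C) _ _)

theorem f6598 : C.T (v17 C) [17, 36, 63, 88, 100, 110, 119] (v17 C) [10, 27, 54, 85, 108, 109, 120] :=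
  C.flip (f6597 C)

theorem f6599 : C.S (v10 C) [20, 33, 80, 97, 116] :=
  C.stMul (f1709 C) (f1704 C) _ (by decide +kernel)

theorem f6600 : C.T (v10 C) [12, 48, 58, 77, 108, 118] (v6 C) [21, 36, 54, 84, 94, 121] :=
  C.conv (f1988 C) (f6599 C) (f6599 C) _ [136, 158, 164, 173, 178] _ (by decide +kernel) (by decide +kernel) (by decide +kernel)

theorem f6601 : C.S (v6 C) [22] :=
  C.stMul (f1353 C) (f1266 C) _ (by decide +kernel)

theorem f6602 : C.S (v6 C) [24, 32, 53, 71, 90, 110, 121] :=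
  C.stMul (f1358 C) (f6601 C) _ (by decide +kernel)

theorem f6603 : C.S (v6 C) [9, 30, 50, 80, 108, 116] :=
  C.stMul (f1307 C) (f6602 C) _ (by decide +kernel)

theorem f6604 : C.S (v6 C) [6, 38, 51, 86, 91, 109, 114] :=
  C.stMul (f1266 C) (f6603 C) _ (by decide +kernel)

theorem f6605 : C.S (v6 C) [22, 38, 64, 77, 91, 115] :=
  C.stMul (f1270 C) (f1270 C) _ (by decide +kernel)

theorem f6606 : C.S (v6 C) [24, 35, 79, 106, 110, 116] :=
  C.stMul (f1358 C) (f6605 C) _ (by decide +kernel)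

theorem f6607 : C.S (v6 C) [25, 30, 50, 71, 103, 110, 120] :=
  C.stMul (f1266 C) (f6606 C) _ (by decide +kernel)

theorem f6608 : C.S (v6 C) [19, 43, 50, 81, 105, 110, 116] :=
  C.stMul (f1270 C) (f6607 C) _ (by decide +kernel)

theorem f6609 : C.T (v6 C) [24, 45, 60, 74, 107, 110, 125] (v17 C) [22, 30, 65, 80, 105, 118] :=
  C.conv (f4615 C) (f6604 C) (f6608 C) _ [145, 154, 167, 173] _ (by decide +kernel) (by decide +kernel) (by decide +kernel)

theorem f6610 : C.T (v10 C) [24, 44, 68, 83, 96] (v17 C) [23, 45, 52, 89, 92, 109, 123] :=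
  C.conv (f4758 C) (f6069 C) (f6070 C) _ [157, 168, 176, 178] _ (by decide +kernel) (by decide +kernel) (by decide +kernel)

theorem f6611 : C.T (v17 C) [23, 45, 52, 89, 92, 109, 123] (v10 C) [24, 44, 68, 83, 96] :=
  C.flip (f6610 C)

theorem f6612 : C.T (v17 C) [19, 45, 65, 97, 110, 119] (v17 C) [20, 34, 69, 88, 98, 110, 121] :=
  C.closeT (p := (v10 C)) (pu := [12, 48, 58, 77, 108, 118])
    (C.pT (f6600 C)
    (C.pH [8, 30, 65, 84, 94, 117] [24, 45, 60, 74, 107, 110, 125] (by decide +kernel)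
    (C.pT (f6609 C)
    (C.pH [26, 38, 54, 89, 90, 113] [19, 45, 65, 97, 110, 119] (by decide +kernel) (C.pNil _ _)))))
    (C.pH [8, 30, 65, 84, 94, 117] [23, 45, 52, 89, 92, 109, 123] (by decide +kernel)
    (C.pT (f6611 C)
    (C.pH [26, 38, 54, 89, 90, 113] [12, 48, 58, 77, 108, 118] (by decide +kernel) (C.pNil _ _))))
    (C.loop_of_one (relLoop1 C) _ _)

theorem f6613 : C.T (v17 C) [20, 34, 69, 88, 98, 110, 121] (v17 C) [19, 45, 65, 97, 110, 119] :=
  C.flip (f6612 C)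

theorem f6614 : C.T (v10 C) [19, 40, 50, 88, 110, 114] (v9 C) [25, 35, 56, 79, 93, 120] :=
  C.conv (f2001 C) (f2006 C) (f2006 C) _ [143, 153, 164, 175] _ (by decide +kernel) (by decide +kernel) (by decide +kernel)

theorem f6615 : C.T (v9 C) [9, 36, 69, 91, 110, 115] (v17 C) [35, 54, 77, 105, 119] :=
  C.conv (f4665 C) (f4678 C) (f5280 C) _ [134, 155, 170, 175, 177] _ (by decide +kernel) (by decide +kernel) (by decide +kernel)

theorem f6616 : C.S (v10 C) [12, 35, 58, 88, 108, 110, 119] :=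
  C.stMul (f1704 C) (f1714 C) _ (by decide +kernel)

theorem f6617 : C.S (v10 C) [11, 31, 62, 77, 107, 109, 115] :=
  C.stMul (f1709 C) (f6616 C) _ (by decide +kernel)

theorem f6618 : C.T (v10 C) [22, 51, 84, 107, 109, 115] (v17 C) [22, 34, 64, 83, 92, 118] :=
  C.conv (f4429 C) (f6233 C) (f6617 C) _ [142, 159, 165, 176, 178] _ (by decide +kernel) (by decide +kernel) (by decide +kernel)

theorem f6619 : C.T (v17 C) [22, 34, 64, 83, 92, 118] (v10 C) [22, 51, 84, 107, 109, 115] :=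
  C.flip (f6618 C)

theorem f6620 : C.T (v17 C) [26, 47, 62, 83, 102, 109, 125] (v17 C) [17, 32, 69, 84, 100, 109, 113] :=
  C.closeT (p := (v10 C)) (pu := [19, 40, 50, 88, 110, 114])
    (C.pT (f6614 C)
    (C.pH [8, 30, 65, 84, 94, 117] [9, 36, 69, 91, 110, 115] (by decide +kernel)
    (C.pT (f6615 C)
    (C.pH [26, 38, 54, 89, 90, 113] [26, 47, 62, 83, 102, 109, 125] (by decide +kernel) (C.pNil _ _)))))
    (C.pH [8, 30, 65, 84, 94, 117] [22, 34, 64, 83, 92, 118] (by decide +kernel)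
    (C.pT (f6619 C)
    (C.pH [26, 38, 54, 89, 90, 113] [19, 40, 50, 88, 110, 114] (by decide +kernel) (C.pNil _ _))))
    (C.loop_of_one (relLoop1 C) _ _)

theorem f6624 : C.T (v10 C) [25, 36, 59, 84, 122] (v15 C) [20, 39, 69, 76, 106, 110, 119] :=
  C.conv (f3076 C) (f3138 C) (f3138 C) _ [134, 162, 171, 177] _ (by decide +kernel) (by decide +kernel) (by decide +kernel)

theorem f6625 : C.S (v15 C) [25, 46, 61, 102, 110, 119] :=
  C.stMul (f2565 C) (f2569 C) _ (by decide +kernel)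

theorem f6626 : C.T (v15 C) [23, 30, 57, 78, 96, 110, 112] (v2 C) [16, 36, 61, 76, 99, 109, 119] :=
  C.conv (f2639 C) (f2569 C) (f6625 C) _ [140, 158, 167, 175] _ (by decide +kernel) (by decide +kernel) (by decide +kernel)

theorem f6627 : C.S (v10 C) [12, 29, 59, 82, 105, 117] :=
  C.stMul (f1709 C) (f1699 C) _ (by decide +kernel)

theorem f6628 : C.S (v10 C) [11, 38, 67, 74, 101, 109, 111] :=
  C.stMul (f1714 C) (f6627 C) _ (by decide +kernel)

theorem f6629 : C.S (v10 C) [12, 39, 51, 75, 99, 110, 118] :=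
  C.stMul (f1709 C) (f6628 C) _ (by decide +kernel)

theorem f6630 : C.T (v10 C) [4, 44, 49, 80, 99, 110, 119] (v17 C) [19, 47, 64, 77, 97, 110, 118] :=
  C.conv (f4758 C) (f6069 C) (f6629 C) _ [137, 159, 165, 175] _ (by decide +kernel) (by decide +kernel) (by decide +kernel)

theorem f6631 : C.T (v17 C) [19, 47, 64, 77, 97, 110, 118] (v10 C) [4, 44, 49, 80, 99, 110, 119] :=
  C.flip (f6630 C)

theorem f6632 : C.T (v2 C) [13, 36, 65, 89, 97, 113] (v17 C) [15, 46, 69, 83, 102, 114] :=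
  C.closeT (p := (v10 C)) (pu := [25, 36, 59, 84, 122])
    (C.pT (f6624 C)
    (C.pH [8, 30, 65, 84, 94, 117] [23, 30, 57, 78, 96, 110, 112] (by decide +kernel)
    (C.pT (f6626 C)
    (C.pH [26, 38, 54, 89, 90, 113] [13, 36, 65, 89, 97, 113] (by decide +kernel) (C.pNil _ _)))))
    (C.pH [8, 30, 65, 84, 94, 117] [19, 47, 64, 77, 97, 110, 118] (by decide +kernel)
    (C.pT (f6631 C)
    (C.pH [26, 38, 54, 89, 90, 113] [25, 36, 59, 84, 122] (by decide +kernel) (C.pNil _ _))))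
    (C.loop_of_one (relLoop1 C) _ _)

theorem f6633 : C.T (v17 C) [15, 46, 69, 83, 102, 114] (v2 C) [13, 36, 65, 89, 97, 113] :=
  C.flip (f6632 C)

theorem f6634 : C.T (v10 C) [5, 27, 63, 88, 91, 110, 125] (v15 C) [10, 29, 69, 79, 113] :=
  C.conv (f3132 C) (f3439 C) (f3439 C) _ [142, 151, 164, 174, 177] _ (by decide +kernel) (by decide +kernel) (by decide +kernel)

theorem f6635 : C.S (v15 C) [25, 47, 66, 86, 107, 124] :=
  C.stMul (f2569 C) (f2565 C) _ (by decide +kernel)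

theorem f6636 : C.S (v15 C) [25, 32, 63, 84, 105, 109, 124] :=
  C.stMul (f2581 C) (f6635 C) _ (by decide +kernel)

theorem f6637 : C.T (v15 C) [15, 35, 61, 88, 95, 124] (v17 C) [16, 46, 61, 89, 100, 110, 120] :=
  C.conv (f4452 C) (f2652 C) (f6636 C) _ [136, 156, 164, 174, 177] _ (by decide +kernel) (by decide +kernel) (by decide +kernel)

theorem f6638 : C.S (v10 C) [18, 30, 59, 73] :=
  C.stMul (f1699 C) (f1714 C) _ (by decide +kernel)

theorem f6639 : C.S (v10 C) [22, 38, 68, 79, 106, 109, 111] :=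
  C.stMul (f1709 C) (f6638 C) _ (by decide +kernel)

theorem f6640 : C.S (v10 C) [7, 43, 51, 102, 110, 123] :=
  C.stMul (f1722 C) (f6639 C) _ (by decide +kernel)

theorem f6641 : C.T (v10 C) [14, 37, 83, 90, 125] (v17 C) [22, 34, 60, 79, 102, 110, 118] :=
  C.conv (f4429 C) (f6233 C) (f6640 C) _ [142, 149, 164] _ (by decide +kernel) (by decide +kernel) (by decide +kernel)

theorem f6642 : C.T (v17 C) [22, 34, 60, 79, 102, 110, 118] (v10 C) [14, 37, 83, 90, 125] :=
  C.flip (f6641 C)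

theorem f6643 : C.T (v17 C) [13, 33, 56, 88, 95, 110, 121] (v17 C) [17, 32, 61, 98, 109, 113] :=
  C.closeT (p := (v10 C)) (pu := [5, 27, 63, 88, 91, 110, 125])
    (C.pT (f6634 C)
    (C.pH [8, 30, 65, 84, 94, 117] [15, 35, 61, 88, 95, 124] (by decide +kernel)
    (C.pT (f6637 C)
    (C.pH [26, 38, 54, 89, 90, 113] [13, 33, 56, 88, 95, 110, 121] (by decide +kernel) (C.pNil _ _)))))
    (C.pH [8, 30, 65, 84, 94, 117] [22, 34, 60, 79, 102, 110, 118] (by decide +kernel)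
    (C.pT (f6642 C)
    (C.pH [26, 38, 54, 89, 90, 113] [5, 27, 63, 88, 91, 110, 125] (by decide +kernel) (C.pNil _ _))))
    (C.loop_of_one (relLoop1 C) _ _)

theorem f6648 : C.S (v10 C) [41, 66, 82, 98, 110, 124] :=
  C.stMul (f1722 C) (f1714 C) _ (by decide +kernel)

theorem f6649 : C.S (v10 C) [7, 45, 54, 73, 106, 109, 125] :=
  C.stMul (f1709 C) (f6648 C) _ (by decide +kernel)

theorem f6650 : C.T (v10 C) [25, 48, 69, 82, 95, 110, 111] (v15 C) [26, 35, 83, 106, 110, 114] :=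
  C.conv (f3174 C) (f6649 C) (f6649 C) _ [131, 168, 175, 177] _ (by decide +kernel) (by decide +kernel) (by decide +kernel)

theorem f6651 : C.T (v15 C) [14, 37, 52, 79, 98, 110, 111] (v17 C) [13, 42, 53, 82, 94, 109, 118] :=
  C.conv (f5083 C) (f2581 C) (f2581 C) _ [138, 162, 168, 173] _ (by decide +kernel) (by decide +kernel) (by decide +kernel)

theorem f6652 : C.S (v10 C) [18, 35, 59, 78, 91, 110, 122] :=
  C.stMul (f1722 C) (f1699 C) _ (by decide +kernel)

theorem f6653 : C.S (v10 C) [22, 40, 59, 86, 103, 110, 122] :=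
  C.stMul (f1709 C) (f6652 C) _ (by decide +kernel)

theorem f6654 : C.S (v10 C) [12, 36, 63, 82, 101, 109, 123] :=
  C.stMul (f1714 C) (f1699 C) _ (by decide +kernel)

theorem f6655 : C.T (v10 C) [4, 48, 60, 82, 93, 110, 116] (v17 C) [19, 33, 68, 75, 92, 109, 122] :=
  C.conv (f4239 C) (f6653 C) (f6654 C) _ [138, 163, 171, 177] _ (by decide +kernel) (by decide +kernel) (by decide +kernel)

theorem f6656 : C.T (v17 C) [19, 33, 68, 75, 92, 109, 122] (v10 C) [4, 48, 60, 82, 93, 110, 116] :=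
  C.flip (f6655 C)

theorem f6657 : C.T (v17 C) [23, 32, 53, 82, 94, 109] (v17 C) [15, 47, 54, 87, 102, 109, 117] :=
  C.closeT (p := (v10 C)) (pu := [25, 48, 69, 82, 95, 110, 111])
    (C.pT (f6650 C)
    (C.pH [8, 30, 65, 84, 94, 117] [14, 37, 52, 79, 98, 110, 111] (by decide +kernel)
    (C.pT (f6651 C)
    (C.pH [26, 38, 54, 89, 90, 113] [23, 32, 53, 82, 94, 109] (by decide +kernel) (C.pNil _ _)))))
    (C.pH [8, 30, 65, 84, 94, 117] [19, 33, 68, 75, 92, 109, 122] (by decide +kernel)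
    (C.pT (f6656 C)
    (C.pH [26, 38, 54, 89, 90, 113] [25, 48, 69, 82, 95, 110, 111] (by decide +kernel) (C.pNil _ _))))
    (C.loop_of_one (relLoop1 C) _ _)

theorem f6660 : C.T (v10 C) [14, 30, 69, 79, 90, 109, 125] (v16 C) [6, 34, 53, 80, 105, 109, 118] :=
  C.conv (f3792 C) (f4068 C) (f4068 C) _ [133, 151, 167, 175, 177] _ (by decide +kernel) (by decide +kernel) (by decide +kernel)

theorem f6661 : C.S (v10 C) [18, 35, 52, 77, 102, 109, 115] :=
  C.stMul (f1714 C) (f1704 C) _ (by decide +kernel)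

theorem f6662 : C.S (v10 C) [22, 40, 53, 75, 107, 125] :=
  C.stMul (f1709 C) (f6661 C) _ (by decide +kernel)

theorem f6663 : C.T (v10 C) [12, 47, 53, 77, 96, 110, 112] (v17 C) [17, 36, 69, 79, 93, 109] :=
  C.conv (f5151 C) (f5867 C) (f6662 C) _ [149, 164, 177] _ (by decide +kernel) (by decide +kernel) (by decide +kernel)

theorem f6664 : C.T (v17 C) [17, 36, 69, 79, 93, 109] (v10 C) [12, 47, 53, 77, 96, 110, 112] :=
  C.flip (f6663 C)

theorem f6665 : C.S (v17 C) [23, 31, 75, 92, 109, 116] :=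
  C.stMul (f4137 C) (f4132 C) _ (by decide +kernel)

theorem f6666 : C.T (v17 C) [7, 44, 68, 88, 104, 109, 121] (v17 C) [8, 39, 64, 72, 102, 117] :=
  C.conv (f5369 C) (f5371 C) (f6665 C) _ [140, 160, 164] _ (by decide +kernel) (by decide +kernel) (by decide +kernel)

theorem f6667 : C.T (v17 C) [8, 39, 64, 72, 102, 117] (v17 C) [7, 44, 68, 88, 104, 109, 121] :=
  C.flip (f6666 C)

theorem f6668 : C.T (v16 C) [13, 44, 52, 80, 105, 109, 118] (v17 C) [5, 32, 63, 76, 91, 114] :=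
  C.closeT (p := (v10 C)) (pu := [14, 30, 69, 79, 90, 109, 125])
    (C.pT (f6660 C)
    (C.pH [8, 30, 65, 84, 94, 117] [13, 44, 52, 80, 105, 109, 118] (by decide +kernel) (C.pNil _ _)))
    (C.pH [26, 38, 54, 89, 90, 113] [8, 39, 64, 72, 102, 117] (by decide +kernel)
    (C.pT (f6667 C)
    (C.pH [8, 30, 65, 84, 94, 117] [17, 36, 69, 79, 93, 109] (by decide +kernel)
    (C.pT (f6664 C)
    (C.pH [26, 38, 54, 89, 90, 113] [14, 30, 69, 79, 90, 109, 125] (by decide +kernel) (C.pNil _ _))))))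
    (C.loop_of_one (relLoop1 C) _ _)

theorem f6669 : C.T (v17 C) [5, 32, 63, 76, 91, 114] (v16 C) [13, 44, 52, 80, 105, 109, 118] :=
  C.flip (f6668 C)

theorem f6670 : C.T (v10 C) [20, 31, 55, 73, 99, 110, 117] (v17 C) [16, 43, 70, 91, 110, 119] :=
  C.conv (f4239 C) (f6653 C) (f6653 C) _ [141, 160, 166, 176] _ (by decide +kernel) (by decide +kernel) (by decide +kernel)

theorem f6671 : C.T (v10 C) [17, 42, 83, 101, 110, 113] (v9 C) [18, 35, 65, 79, 91, 110, 111] :=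
  C.conv (f2034 C) (f2037 C) (f1828 C) _ [135, 152, 167, 175, 177] _ (by decide +kernel) (by decide +kernel) (by decide +kernel)

theorem f6672 : C.T (v9 C) [18, 35, 65, 79, 91, 110, 111] (v10 C) [17, 42, 83, 101, 110, 113] :=
  C.flip (f6671 C)

theorem f6673 : C.S (v9 C) [10, 47, 79, 100, 110, 114] :=
  C.stMul (f1620 C) (f1607 C) _ (by decide +kernel)

theorem f6674 : C.T (v9 C) [9, 48, 57, 87, 92, 109, 123] (v17 C) [7, 36, 68, 77, 98, 109, 115] :=
  C.conv (f5160 C) (f5313 C) (f6673 C) _ [146, 149, 167, 171, 177] _ (by decide +kernel) (by decide +kernel) (by decide +kernel)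

theorem f6675 : C.T (v17 C) [7, 36, 68, 77, 98, 109, 115] (v9 C) [9, 48, 57, 87, 92, 109, 123] :=
  C.flip (f6674 C)

theorem f6676 : C.T (v17 C) [20, 43, 66, 78, 100, 110] (v17 C) [23, 38, 51, 74, 106, 117] :=
  C.closeT (p := (v10 C)) (pu := [20, 31, 55, 73, 99, 110, 117])
    (C.pT (f6670 C)
    (C.pH [8, 30, 65, 84, 94, 117] [20, 43, 66, 78, 100, 110] (by decide +kernel) (C.pNil _ _)))
    (C.pH [26, 38, 54, 89, 90, 113] [7, 36, 68, 77, 98, 109, 115] (by decide +kernel)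
    (C.pT (f6675 C)
    (C.pH [8, 30, 65, 84, 94, 117] [18, 35, 65, 79, 91, 110, 111] (by decide +kernel)
    (C.pT (f6672 C)
    (C.pH [26, 38, 54, 89, 90, 113] [20, 31, 55, 73, 99, 110, 117] (by decide +kernel) (C.pNil _ _))))))
    (C.loop_of_one (relLoop1 C) _ _)

theorem f6677 : C.T (v17 C) [23, 38, 51, 74, 106, 117] (v17 C) [20, 43, 66, 78, 100, 110] :=
  C.flip (f6676 C)

theorem f6678 : C.T (v10 C) [24, 35, 57, 85, 93, 109, 113] (v17 C) [6, 44, 65, 70, 93, 109, 117] :=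
  C.conv (f4429 C) (f6233 C) (f6233 C) _ [131, 155, 170, 175, 178] _ (by decide +kernel) (by decide +kernel) (by decide +kernel)

theorem f6679 : C.S (v10 C) [20, 29, 67, 83, 102, 110, 114] :=
  C.stMul (f1704 C) (f4077 C) _ (by decide +kernel)

theorem f6680 : C.S (v10 C) [43, 66, 70, 98, 109, 122] :=
  C.stMul (f1714 C) (f6679 C) _ (by decide +kernel)

theorem f6681 : C.T (v10 C) [11, 55, 75, 106, 125] (v16 C) [9, 30, 66, 84, 95, 110, 117] :=
  C.conv (f3818 C) (f4078 C) (f6680 C) _ [146, 154, 169, 176] _ (by decide +kernel) (by decide +kernel) (by decide +kernel)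

theorem f6682 : C.T (v16 C) [9, 30, 66, 84, 95, 110, 117] (v10 C) [11, 55, 75, 106, 125] :=
  C.flip (f6681 C)

theorem f6683 : C.S (v16 C) [20, 44, 60, 72, 104, 109, 122] :=
  C.stMul (f3480 C) (f3468 C) _ (by decide +kernel)

theorem f6684 : C.S (v16 C) [18, 48, 62, 92] :=
  C.stMul (f3456 C) (f3451 C) _ (by decide +kernel)

theorem f6685 : C.S (v16 C) [7, 41, 57, 70, 98, 110, 111] :=
  C.stMul (f3458 C) (f6684 C) _ (by decide +kernel)

theorem f6686 : C.S (v16 C) [62, 79, 96, 109, 121] :=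
  C.stMul (f3480 C) (f6685 C) _ (by decide +kernel)

theorem f6687 : C.T (v16 C) [25, 34, 52, 70, 108, 109, 112] (v17 C) [17, 40, 67, 89, 122] :=
  C.conv (f6668 C) (f6683 C) (f6686 C) _ [126, 151, 167, 173, 177] _ (by decide +kernel) (by decide +kernel) (by decide +kernel)

theorem f6688 : C.T (v17 C) [17, 40, 67, 89, 122] (v16 C) [25, 34, 52, 70, 108, 109, 112] :=
  C.flip (f6687 C)

theorem f6689 : C.T (v17 C) [13, 29, 60, 81, 91, 113] (v17 C) [19, 37, 65, 72, 92, 110, 117] :=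
  C.closeT (p := (v10 C)) (pu := [24, 35, 57, 85, 93, 109, 113])
    (C.pT (f6678 C)
    (C.pH [8, 30, 65, 84, 94, 117] [13, 29, 60, 81, 91, 113] (by decide +kernel) (C.pNil _ _)))
    (C.pH [26, 38, 54, 89, 90, 113] [17, 40, 67, 89, 122] (by decide +kernel)
    (C.pT (f6688 C)
    (C.pH [8, 30, 65, 84, 94, 117] [9, 30, 66, 84, 95, 110, 117] (by decide +kernel)
    (C.pT (f6682 C)
    (C.pH [26, 38, 54, 89, 90, 113] [24, 35, 57, 85, 93, 109, 113] (by decide +kernel) (C.pNil _ _))))))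
    (C.loop_of_one (relLoop1 C) _ _)

theorem f6690 : C.T (v17 C) [19, 37, 65, 72, 92, 110, 117] (v17 C) [13, 29, 60, 81, 91, 113] :=
  C.flip (f6689 C)

theorem f6691 : C.T (v10 C) [17, 35, 58, 70, 121] (v17 C) [5, 40, 61, 89, 94, 118] :=
  C.conv (f4785 C) (f5909 C) (f5909 C) _ [130, 153, 169, 175, 177] _ (by decide +kernel) (by decide +kernel) (by decide +kernel)

theorem f6692 : C.T (v10 C) [19, 40, 52, 72, 100, 109, 111] (v17 C) [14, 48, 65, 99, 114] :=
  C.conv (f6103 C) (f6555 C) (f1828 C) _ [130, 158, 167, 172, 178] _ (by decide +kernel) (by decide +kernel) (by decide +kernel)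

theorem f6693 : C.T (v17 C) [14, 48, 65, 99, 114] (v10 C) [19, 40, 52, 72, 100, 109, 111] :=
  C.flip (f6692 C)

theorem f6694 : C.S (v17 C) [23, 31, 75, 92, 109, 116] :=
  C.stMul (f4137 C) (f4132 C) _ (by decide +kernel)

theorem f6695 : C.T (v17 C) [26, 47, 69, 88, 98, 109, 122] (v17 C) [6, 33, 75, 105, 123] :=
  C.conv (f5007 C) (f5009 C) (f6694 C) _ [133, 159, 164, 172, 177] _ (by decide +kernel) (by decide +kernel) (by decide +kernel)

theorem f6696 : C.T (v17 C) [6, 33, 75, 105, 123] (v17 C) [26, 47, 69, 88, 98, 109, 122] :=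
  C.flip (f6695 C)

theorem f6697 : C.T (v17 C) [12, 48, 60, 79, 106, 125] (v17 C) [21, 36, 61, 95, 124] :=
  C.closeT (p := (v10 C)) (pu := [17, 35, 58, 70, 121])
    (C.pT (f6691 C)
    (C.pH [8, 30, 65, 84, 94, 117] [12, 48, 60, 79, 106, 125] (by decide +kernel) (C.pNil _ _)))
    (C.pH [26, 38, 54, 89, 90, 113] [6, 33, 75, 105, 123] (by decide +kernel)
    (C.pT (f6696 C)
    (C.pH [8, 30, 65, 84, 94, 117] [14, 48, 65, 99, 114] (by decide +kernel)
    (C.pT (f6693 C)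
    (C.pH [26, 38, 54, 89, 90, 113] [17, 35, 58, 70, 121] (by decide +kernel) (C.pNil _ _))))))
    (C.loop_of_one (relLoop1 C) _ _)

theorem f6701 : C.T (v10 C) [16, 39, 84, 101, 112] (v17 C) [8, 46, 55, 79, 97, 119] :=
  C.conv (f4785 C) (f5909 C) (f5909 C) _ [141, 156, 167, 174] _ (by decide +kernel) (by decide +kernel) (by decide +kernel)

theorem f6702 : C.S (v10 C) [18, 29, 60, 70, 98, 110, 119] :=
  C.stMul (f1709 C) (f4714 C) _ (by decide +kernel)

theorem f6703 : C.T (v10 C) [26, 38, 66, 82, 101, 111] (v15 C) [22, 28, 55, 81, 95, 113] :=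
  C.conv (f2781 C) (f1709 C) (f6702 C) _ [134, 157, 168, 176] _ (by decide +kernel) (by decide +kernel) (by decide +kernel)

theorem f6704 : C.T (v15 C) [22, 28, 55, 81, 95, 113] (v10 C) [26, 38, 66, 82, 101, 111] :=
  C.flip (f6703 C)

theorem f6705 : C.S (v15 C) [25, 46, 61, 102, 110, 119] :=
  C.stMul (f2565 C) (f2569 C) _ (by decide +kernel)

theorem f6706 : C.S (v15 C) [25, 47, 66, 86, 107, 124] :=
  C.stMul (f2569 C) (f2565 C) _ (by decide +kernel)

theorem f6707 : C.T (v15 C) [17, 27, 67, 70, 103, 114] (v17 C) [17, 44, 64, 85, 98, 110, 116] :=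
  C.conv (f6336 C) (f6705 C) (f6706 C) _ [144, 151, 168, 173, 177] _ (by decide +kernel) (by decide +kernel) (by decide +kernel)

theorem f6708 : C.T (v17 C) [17, 44, 64, 85, 98, 110, 116] (v15 C) [17, 27, 67, 70, 103, 114] :=
  C.flip (f6707 C)

theorem f6709 : C.T (v17 C) [48, 64, 83, 104, 112] (v17 C) [19, 28, 65, 83, 104, 123] :=
  C.closeT (p := (v10 C)) (pu := [16, 39, 84, 101, 112])
    (C.pT (f6701 C)
    (C.pH [8, 30, 65, 84, 94, 117] [48, 64, 83, 104, 112] (by decide +kernel) (C.pNil _ _)))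
    (C.pH [26, 38, 54, 89, 90, 113] [17, 44, 64, 85, 98, 110, 116] (by decide +kernel)
    (C.pT (f6708 C)
    (C.pH [8, 30, 65, 84, 94, 117] [22, 28, 55, 81, 95, 113] (by decide +kernel)
    (C.pT (f6704 C)
    (C.pH [26, 38, 54, 89, 90, 113] [16, 39, 84, 101, 112] (by decide +kernel) (C.pNil _ _))))))
    (C.loop_of_one (relLoop1 C) _ _)

theorem f6713 : C.S (v10 C) [18, 30, 59, 73] :=
  C.stMul (f1699 C) (f1714 C) _ (by decide +kernel)

theorem f6714 : C.S (v10 C) [22, 38, 68, 79, 106, 109, 111] :=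
  C.stMul (f1709 C) (f6713 C) _ (by decide +kernel)

theorem f6715 : C.T (v10 C) [9, 32, 53, 85, 109] (v17 C) [6, 34, 65, 77, 106, 113] :=
  C.conv (f6570 C) (f6714 C) (f6714 C) _ [133, 150, 173] _ (by decide +kernel) (by decide +kernel) (by decide +kernel)

theorem f6716 : C.S (v10 C) [18, 48, 57, 98, 110, 125] :=
  C.stMul (f1704 C) (f1709 C) _ (by decide +kernel)

theorem f6717 : C.S (v10 C) [23, 46, 68, 81, 97, 110, 119] :=
  C.stMul (f1714 C) (f6716 C) _ (by decide +kernel)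

theorem f6718 : C.T (v10 C) [15, 31, 56, 77, 108, 109, 112] (v15 C) [9, 44, 56, 81, 100, 113] :=
  C.conv (f3174 C) (f6649 C) (f6717 C) _ [129, 154, 170, 176] _ (by decide +kernel) (by decide +kernel) (by decide +kernel)

theorem f6719 : C.T (v15 C) [9, 44, 56, 81, 100, 113] (v10 C) [15, 31, 56, 77, 108, 109, 112] :=
  C.flip (f6718 C)

theorem f6720 : C.S (v15 C) [20, 63, 89, 93, 110, 115] :=
  C.stMul (f2569 C) (f5536 C) _ (by decide +kernel)

theorem f6721 : C.T (v15 C) [25, 31, 64, 87, 96, 109, 113] (v17 C) [23, 29, 52, 76, 105, 124] :=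
  C.conv (f5516 C) (f5535 C) (f6720 C) _ [134, 158, 170, 171, 178] _ (by decide +kernel) (by decide +kernel) (by decide +kernel)

theorem f6722 : C.T (v17 C) [23, 29, 52, 76, 105, 124] (v15 C) [25, 31, 64, 87, 96, 109, 113] :=
  C.flip (f6721 C)

theorem f6723 : C.T (v17 C) [13, 44, 83, 102, 110, 124] (v17 C) [13, 38, 58, 80, 103, 110, 112] :=
  C.closeT (p := (v10 C)) (pu := [9, 32, 53, 85, 109])
    (C.pT (f6715 C)
    (C.pH [8, 30, 65, 84, 94, 117] [13, 44, 83, 102, 110, 124] (by decide +kernel) (C.pNil _ _)))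
    (C.pH [26, 38, 54, 89, 90, 113] [23, 29, 52, 76, 105, 124] (by decide +kernel)
    (C.pT (f6722 C)
    (C.pH [8, 30, 65, 84, 94, 117] [9, 44, 56, 81, 100, 113] (by decide +kernel)
    (C.pT (f6719 C)
    (C.pH [26, 38, 54, 89, 90, 113] [9, 32, 53, 85, 109] (by decide +kernel) (C.pNil _ _))))))
    (C.loop_of_one (relLoop1 C) _ _)

theorem f6727 : C.T (v10 C) [26, 45, 52, 73, 93, 109, 112] (v4 C) [16, 44, 59, 76, 108, 121] :=
  C.conv (f1797 C) (f1853 C) (f1853 C) _ [143, 151, 164, 174] _ (by decide +kernel) (by decide +kernel) (by decide +kernel)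

theorem f6728 : C.S (v10 C) [18, 30, 59, 73] :=
  C.stMul (f1699 C) (f1714 C) _ (by decide +kernel)

theorem f6729 : C.S (v10 C) [22, 38, 68, 79, 106, 109, 111] :=
  C.stMul (f1709 C) (f6728 C) _ (by decide +kernel)

theorem f6730 : C.T (v10 C) [19, 46, 60, 86, 101, 123] (v15 C) [25, 34, 67, 84, 107, 112] :=
  C.conv (f3174 C) (f6649 C) (f6729 C) _ [140, 163, 166, 171, 177] _ (by decide +kernel) (by decide +kernel) (by decide +kernel)

theorem f6731 : C.T (v15 C) [25, 34, 67, 84, 107, 112] (v10 C) [19, 46, 60, 86, 101, 123] :=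
  C.flip (f6730 C)

theorem f6732 : C.S (v15 C) [24, 44, 51, 82, 106, 110, 112] :=
  C.stMul (f2565 C) (f5600 C) _ (by decide +kernel)

theorem f6733 : C.S (v15 C) [24, 34, 69, 71, 96, 109] :=
  C.stMul (f2581 C) (f6732 C) _ (by decide +kernel)

theorem f6734 : C.T (v15 C) [4, 36, 68, 82, 102, 109, 116] (v17 C) [22, 41, 56, 89, 106, 109, 115] :=
  C.conv (f5494 C) (f5599 C) (f6733 C) _ [132, 159, 165, 173, 178] _ (by decide +kernel) (by decide +kernel) (by decide +kernel)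

theorem f6735 : C.T (v17 C) [22, 41, 56, 89, 106, 109, 115] (v15 C) [4, 36, 68, 82, 102, 109, 116] :=
  C.flip (f6734 C)

theorem f6736 : C.T (v4 C) [13, 37, 58, 74, 97, 111] (v17 C) [17, 36, 59, 85, 93] :=
  C.closeT (p := (v10 C)) (pu := [26, 45, 52, 73, 93, 109, 112])
    (C.pT (f6727 C)
    (C.pH [26, 38, 54, 89, 90, 113] [13, 37, 58, 74, 97, 111] (by decide +kernel) (C.pNil _ _)))
    (C.pH [8, 30, 65, 84, 94, 117] [22, 41, 56, 89, 106, 109, 115] (by decide +kernel)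
    (C.pT (f6735 C)
    (C.pH [26, 38, 54, 89, 90, 113] [25, 34, 67, 84, 107, 112] (by decide +kernel)
    (C.pT (f6731 C)
    (C.pH [8, 30, 65, 84, 94, 117] [26, 45, 52, 73, 93, 109, 112] (by decide +kernel) (C.pNil _ _))))))
    (C.loop_of_one (relLoop2 C) _ _)

theorem f6737 : C.T (v17 C) [17, 36, 59, 85, 93] (v4 C) [13, 37, 58, 74, 97, 111] :=
  C.flip (f6736 C)

theorem f6738 : C.T (v10 C) [25, 42, 57, 70, 95, 120] (v9 C) [22, 42, 56, 82, 98, 109, 114] :=
  C.conv (f2001 C) (f2006 C) (f2006 C) _ [158, 170, 171, 178] _ (by decide +kernel) (by decide +kernel) (by decide +kernel)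

theorem f6739 : C.S (v9 C) [6, 46, 51, 82, 96, 109, 111] :=
  C.stMul (f1607 C) (f6385 C) _ (by decide +kernel)

theorem f6740 : C.S (v9 C) [23, 43, 68, 73, 95, 110, 113] :=
  C.stMul (f1620 C) (f6739 C) _ (by decide +kernel)

theorem f6741 : C.T (v9 C) [19, 39, 51, 71, 97, 117] (v17 C) [20, 45, 63, 75, 102, 110, 113] :=
  C.conv (f4804 C) (f4895 C) (f6740 C) _ [145, 150, 170, 174] _ (by decide +kernel) (by decide +kernel) (by decide +kernel)

theorem f6742 : C.S (v10 C) [12, 36, 68, 81, 93, 109, 118] :=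
  C.stMul (f1722 C) (f1704 C) _ (by decide +kernel)

theorem f6743 : C.S (v10 C) [11, 44, 52, 84, 94, 109, 118] :=
  C.stMul (f1709 C) (f6742 C) _ (by decide +kernel)

theorem f6744 : C.S (v10 C) [12, 46, 49, 75, 118] :=
  C.stMul (f1714 C) (f6743 C) _ (by decide +kernel)

theorem f6745 : C.T (v10 C) [4, 33, 69, 71, 96, 113] (v15 C) [21, 46, 69, 83, 97, 109, 114] :=
  C.conv (f3174 C) (f6649 C) (f6744 C) _ [138, 162, 164, 171, 178] _ (by decide +kernel) (by decide +kernel) (by decide +kernel)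

theorem f6746 : C.T (v15 C) [21, 46, 69, 83, 97, 109, 114] (v10 C) [4, 33, 69, 71, 96, 113] :=
  C.flip (f6745 C)

theorem f6747 : C.T (v17 C) [23, 27, 56, 88, 100, 109, 122] (v15 C) [10, 38, 66, 88, 97, 109, 119] :=
  C.closeT (p := (v10 C)) (pu := [25, 42, 57, 70, 95, 120])
    (C.pT (f6738 C)
    (C.pH [26, 38, 54, 89, 90, 113] [19, 39, 51, 71, 97, 117] (by decide +kernel)
    (C.pT (f6741 C)
    (C.pH [8, 30, 65, 84, 94, 117] [23, 27, 56, 88, 100, 109, 122] (by decide +kernel) (C.pNil _ _)))))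
    (C.pH [26, 38, 54, 89, 90, 113] [21, 46, 69, 83, 97, 109, 114] (by decide +kernel)
    (C.pT (f6746 C)
    (C.pH [8, 30, 65, 84, 94, 117] [25, 42, 57, 70, 95, 120] (by decide +kernel) (C.pNil _ _))))
    (C.loop_of_one (relLoop2 C) _ _)

theorem f6748 : C.T (v15 C) [10, 38, 66, 88, 97, 109, 119] (v17 C) [23, 27, 56, 88, 100, 109, 122] :=
  C.flip (f6747 C)

theorem f6749 : C.S (v10 C) [12, 36, 68, 81, 93, 109, 118] :=
  C.stMul (f1722 C) (f1704 C) _ (by decide +kernel)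

theorem f6750 : C.T (v10 C) [23, 27, 54, 71, 101, 110, 123] (v17 C) [23, 31, 57, 86, 94, 109, 114] :=
  C.conv (f4766 C) (f6749 C) (f6749 C) _ [138, 150, 167, 172, 177] _ (by decide +kernel) (by decide +kernel) (by decide +kernel)

theorem f6751 : C.S (v17 C) [23, 31, 49, 84, 96, 117] :=
  C.stMul (f4137 C) (f4137 C) _ (by decide +kernel)

theorem f6752 : C.T (v17 C) [7, 29, 56, 83, 104, 110, 124] (v17 C) [11, 44, 50, 88, 101, 110, 113] :=
  C.conv (f6288 C) (f6751 C) (f6751 C) _ [136, 151, 168, 171, 177] _ (by decide +kernel) (by decide +kernel) (by decide +kernel)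

theorem f6753 : C.S (v10 C) [20, 33, 80, 97, 116] :=
  C.stMul (f1709 C) (f1704 C) _ (by decide +kernel)

theorem f6754 : C.S (v10 C) [37, 66, 75, 96, 110, 124] :=
  C.stMul (f1714 C) (f6753 C) _ (by decide +kernel)

theorem f6755 : C.S (v10 C) [20, 40, 60, 103, 110, 114] :=
  C.stMul (f1722 C) (f6754 C) _ (by decide +kernel)

theorem f6756 : C.T (v10 C) [20, 45, 64, 87, 103, 122] (v17 C) [15, 38, 63, 84, 100, 121] :=
  C.conv (f4429 C) (f6233 C) (f6755 C) _ [141, 153, 167, 177] _ (by decide +kernel) (by decide +kernel) (by decide +kernel)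

theorem f6757 : C.T (v17 C) [15, 38, 63, 84, 100, 121] (v10 C) [20, 45, 64, 87, 103, 122] :=
  C.flip (f6756 C)

theorem f6758 : C.T (v17 C) [7, 29, 67, 75, 104, 110, 120] (v17 C) [20, 30, 57, 79, 102, 110, 119] :=
  C.closeT (p := (v10 C)) (pu := [23, 27, 54, 71, 101, 110, 123])
    (C.pT (f6750 C)
    (C.pH [26, 38, 54, 89, 90, 113] [7, 29, 56, 83, 104, 110, 124] (by decide +kernel)
    (C.pT (f6752 C)
    (C.pH [8, 30, 65, 84, 94, 117] [7, 29, 67, 75, 104, 110, 120] (by decide +kernel) (C.pNil _ _)))))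
    (C.pH [26, 38, 54, 89, 90, 113] [15, 38, 63, 84, 100, 121] (by decide +kernel)
    (C.pT (f6757 C)
    (C.pH [8, 30, 65, 84, 94, 117] [23, 27, 54, 71, 101, 110, 123] (by decide +kernel) (C.pNil _ _))))
    (C.loop_of_one (relLoop2 C) _ _)

theorem f6759 : C.T (v17 C) [20, 30, 57, 79, 102, 110, 119] (v17 C) [7, 29, 67, 75, 104, 110, 120] :=
  C.flip (f6758 C)

theorem f6760 : C.T (v10 C) [9, 38, 50, 72, 106, 120] (v17 C) [9, 37, 55, 85, 106, 125] :=
  C.conv (f4766 C) (f6749 C) (f6749 C) _ [133, 149, 170, 171, 177] _ (by decide +kernel) (by decide +kernel) (by decide +kernel)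

theorem f6761 : C.S (v10 C) [22, 34, 56, 72, 106, 110, 125] :=
  C.stMul (f1704 C) (f1699 C) _ (by decide +kernel)

theorem f6762 : C.T (v10 C) [25, 27, 58, 75, 96, 110, 124] (v17 C) [7, 27, 55, 83, 108, 109, 117] :=
  C.conv (f6570 C) (f6714 C) (f6761 C) _ [128, 159, 168, 171] _ (by decide +kernel) (by decide +kernel) (by decide +kernel)

theorem f6763 : C.T (v17 C) [7, 27, 55, 83, 108, 109, 117] (v10 C) [25, 27, 58, 75, 96, 110, 124] :=
  C.flip (f6762 C)

theorem f6764 : C.T (v17 C) [23, 41, 60, 72, 90, 109, 118] (v17 C) [6, 43, 73, 90, 122] :=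
  C.conv (f5933 C) (f4300 C) (f6022 C) _ [140, 153, 164, 173, 177] _ (by decide +kernel) (by decide +kernel) (by decide +kernel)

theorem f6765 : C.T (v17 C) [6, 43, 73, 90, 122] (v17 C) [23, 41, 60, 72, 90, 109, 118] :=
  C.flip (f6764 C)

theorem f6766 : C.T (v17 C) [22, 30, 60, 77, 109, 115] (v17 C) [22, 48, 67, 88, 108, 109, 113] :=
  C.closeT (p := (v10 C)) (pu := [9, 38, 50, 72, 106, 120])
    (C.pT (f6760 C)
    (C.pH [26, 38, 54, 89, 90, 113] [22, 30, 60, 77, 109, 115] (by decide +kernel) (C.pNil _ _)))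
    (C.pH [8, 30, 65, 84, 94, 117] [6, 43, 73, 90, 122] (by decide +kernel)
    (C.pT (f6765 C)
    (C.pH [26, 38, 54, 89, 90, 113] [7, 27, 55, 83, 108, 109, 117] (by decide +kernel)
    (C.pT (f6763 C)
    (C.pH [8, 30, 65, 84, 94, 117] [9, 38, 50, 72, 106, 120] (by decide +kernel) (C.pNil _ _))))))
    (C.loop_of_one (relLoop2 C) _ _)

theorem f6769 : C.T (v10 C) [19, 30, 65, 71, 97, 110, 124] (v17 C) [8, 33, 52, 84, 108, 113] :=
  C.conv (f4785 C) (f5909 C) (f5909 C) _ [137, 158, 168] _ (by decide +kernel) (by decide +kernel) (by decide +kernel)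

theorem f6770 : C.S (v17 C) [51, 81, 96, 109, 125] :=
  C.stMul (f4132 C) (f4137 C) _ (by decide +kernel)

theorem f6771 : C.T (v17 C) [11, 39, 60, 76, 102, 110, 122] (v17 C) [18, 33, 74, 92, 110, 116] :=
  C.conv (f5805 C) (f5807 C) (f6770 C) _ [143, 160, 169, 175, 177] _ (by decide +kernel) (by decide +kernel) (by decide +kernel)

theorem f6772 : C.S (v10 C) [23, 28, 62, 82, 97, 109, 114] :=
  C.stMul (f1709 C) (f1714 C) _ (by decide +kernel)

theorem f6773 : C.S (v10 C) [18, 35, 52, 77, 102, 109, 115] :=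
  C.stMul (f1714 C) (f1704 C) _ (by decide +kernel)

theorem f6774 : C.T (v10 C) [15, 45, 51, 73, 103, 124] (v17 C) [4, 43, 52, 89, 108, 122] :=
  C.conv (f6559 C) (f6772 C) (f6773 C) _ [132, 164, 176, 178] _ (by decide +kernel) (by decide +kernel) (by decide +kernel)

theorem f6775 : C.T (v17 C) [4, 43, 52, 89, 108, 122] (v10 C) [15, 45, 51, 73, 103, 124] :=
  C.flip (f6774 C)

theorem f6776 : C.T (v17 C) [4, 30, 52, 73, 99, 118] (v17 C) [6, 28, 67, 75, 91, 109, 116] :=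
  C.closeT (p := (v10 C)) (pu := [19, 30, 65, 71, 97, 110, 124])
    (C.pT (f6769 C)
    (C.pH [26, 38, 54, 89, 90, 113] [11, 39, 60, 76, 102, 110, 122] (by decide +kernel)
    (C.pT (f6771 C)
    (C.pH [8, 30, 65, 84, 94, 117] [4, 30, 52, 73, 99, 118] (by decide +kernel) (C.pNil _ _)))))
    (C.pH [26, 38, 54, 89, 90, 113] [4, 43, 52, 89, 108, 122] (by decide +kernel)
    (C.pT (f6775 C)
    (C.pH [8, 30, 65, 84, 94, 117] [19, 30, 65, 71, 97, 110, 124] (by decide +kernel) (C.pNil _ _))))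
    (C.loop_of_one (relLoop2 C) _ _)

theorem f6781 : C.T (v14 C) [25, 28, 54, 76, 102, 116] (v17 C) [20, 42, 51, 74, 93, 109, 121] :=
  C.conv (f4819 C) (f5426 C) (f5426 C) _ [128, 151, 165, 171, 177] _ (by decide +kernel) (by decide +kernel) (by decide +kernel)

theorem f6782 : C.T (v14 C) [4, 31, 84, 101, 110, 113] (v4 C) [22, 42, 66, 95, 109, 125] :=
  C.conv (f2537 C) (f5477 C) (f5477 C) _ [141, 155, 168, 173, 178] _ (by decide +kernel) (by decide +kernel) (by decide +kernel)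

theorem f6783 : C.T (v4 C) [22, 42, 66, 95, 109, 125] (v14 C) [4, 31, 84, 101, 110, 113] :=
  C.flip (f6782 C)

theorem f6784 : C.S (v4 C) [8, 31, 60, 85, 98, 110, 125] :=
  C.stMul (f693 C) (f407 C) _ (by decide +kernel)

theorem f6785 : C.S (v4 C) [42, 63, 82, 91, 110, 125] :=
  C.stMul (f421 C) (f6784 C) _ (by decide +kernel)

theorem f6786 : C.S (v4 C) [12, 31, 56, 72, 107, 109, 112] :=
  C.stMul (f407 C) (f6785 C) _ (by decide +kernel)

theorem f6787 : C.S (v4 C) [10, 27, 56, 84, 93, 109, 113] :=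
  C.stMul (f407 C) (f421 C) _ (by decide +kernel)

theorem f6788 : C.S (v4 C) [25, 47, 59, 76, 103, 109, 113] :=
  C.stMul (f421 C) (f6787 C) _ (by decide +kernel)

theorem f6789 : C.S (v4 C) [13, 41, 65, 83, 103, 110, 118] :=
  C.stMul (f693 C) (f6788 C) _ (by decide +kernel)

theorem f6790 : C.S (v4 C) [21, 41, 64, 81, 97, 110, 115] :=
  C.stMul (f421 C) (f6789 C) _ (by decide +kernel)

theorem f6791 : C.T (v4 C) [9, 52, 84, 97, 123] (v17 C) [19, 31, 64, 90, 109, 119] :=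
  C.conv (f6313 C) (f6786 C) (f6790 C) _ [139, 162, 164, 173] _ (by decide +kernel) (by decide +kernel) (by decide +kernel)

theorem f6792 : C.T (v17 C) [19, 31, 64, 90, 109, 119] (v4 C) [9, 52, 84, 97, 123] :=
  C.flip (f6791 C)

theorem f6793 : C.T (v17 C) [15, 33, 61, 73, 95, 110, 125] (v17 C) [15, 33, 83, 106] :=
  C.closeT (p := (v14 C)) (pu := [25, 28, 54, 76, 102, 116])
    (C.pT (f6781 C)
    (C.pH [26, 38, 54, 89, 90, 113] [15, 33, 61, 73, 95, 110, 125] (by decide +kernel) (C.pNil _ _)))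
    (C.pH [8, 30, 65, 84, 94, 117] [19, 31, 64, 90, 109, 119] (by decide +kernel)
    (C.pT (f6792 C)
    (C.pH [26, 38, 54, 89, 90, 113] [22, 42, 66, 95, 109, 125] (by decide +kernel)
    (C.pT (f6783 C)
    (C.pH [8, 30, 65, 84, 94, 117] [25, 28, 54, 76, 102, 116] (by decide +kernel) (C.pNil _ _))))))
    (C.loop_of_one (relLoop2 C) _ _)

theorem f6796 : C.T (v15 C) [21, 53, 86, 93, 110, 118] (v15 C) [21, 35, 54, 72, 107, 110] :=
  C.conv (f2801 C) (f2803 C) (f2803 C) _ [126, 157, 168, 172, 177] _ (by decide +kernel) (by decide +kernel) (by decide +kernel)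

theorem f6797 : C.S (v15 C) [24, 47, 64, 83, 99, 109, 111] :=
  C.stMul (f2581 C) (f2569 C) _ (by decide +kernel)

theorem f6798 : C.S (v15 C) [25, 47, 66, 86, 107, 124] :=
  C.stMul (f2569 C) (f2565 C) _ (by decide +kernel)

theorem f6799 : C.S (v15 C) [20, 63, 89, 93, 110, 115] :=
  C.stMul (f2569 C) (f6798 C) _ (by decide +kernel)

theorem f6800 : C.T (v15 C) [10, 34, 63, 78, 94, 116] (v17 C) [24, 40, 58, 87, 93, 112] :=
  C.conv (f5141 C) (f6797 C) (f6799 C) _ [145, 154, 167, 171] _ (by decide +kernel) (by decide +kernel) (by decide +kernel)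

theorem f6801 : C.T (v17 C) [24, 40, 58, 87, 93, 112] (v15 C) [10, 34, 63, 78, 94, 116] :=
  C.flip (f6800 C)

theorem f6802 : C.T (v15 C) [8, 35, 51, 77, 101, 109, 111] (v17 C) [19, 47, 57, 72, 102, 119] :=
  C.closeT (p := (v15 C)) (pu := [21, 53, 86, 93, 110, 118])
    (C.pT (f6796 C)
    (C.pH [12, 35, 50, 83] [8, 35, 51, 77, 101, 109, 111] (by decide +kernel) (C.pNil _ _)))
    (C.pH [12, 35, 50, 83] [24, 40, 58, 87, 93, 112] (by decide +kernel)
    (C.pT (f6801 C)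
    (C.pH [12, 35, 50, 83] [21, 53, 86, 93, 110, 118] (by decide +kernel) (C.pNil _ _))))
    (C.loop_of_one (relLoop0 C) _ _)

theorem f6803 : C.T (v17 C) [19, 47, 57, 72, 102, 119] (v15 C) [8, 35, 51, 77, 101, 109, 111] :=
  C.flip (f6802 C)

theorem f6804 : C.T (v15 C) [26, 34, 49, 87, 103, 109] (v3 C) [10, 27, 65, 80, 95, 110, 122] :=
  C.conv (f2903 C) (f6262 C) (f6262 C) _ [137, 151, 169, 174, 178] _ (by decide +kernel) (by decide +kernel) (by decide +kernel)

theorem f6805 : C.S (v15 C) [20, 45, 65, 78, 96, 109, 125] :=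
  C.stMul (f2565 C) (f2581 C) _ (by decide +kernel)

theorem f6806 : C.T (v15 C) [13, 45, 57, 78, 100, 109, 115] (v17 C) [6, 46, 65, 71, 101, 110, 125] :=
  C.conv (f4708 C) (f5619 C) (f6805 C) _ [134, 150, 165, 175, 177] _ (by decide +kernel) (by decide +kernel) (by decide +kernel)

theorem f6807 : C.T (v17 C) [6, 46, 65, 71, 101, 110, 125] (v15 C) [13, 45, 57, 78, 100, 109, 115] :=
  C.flip (f6806 C)

theorem f6808 : C.T (v3 C) [21, 27, 65, 85, 95, 110, 122] (v17 C) [24, 40, 49, 74, 99, 110, 111] :=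
  C.closeT (p := (v15 C)) (pu := [26, 34, 49, 87, 103, 109])
    (C.pT (f6804 C)
    (C.pH [12, 35, 50, 83] [21, 27, 65, 85, 95, 110, 122] (by decide +kernel) (C.pNil _ _)))
    (C.pH [12, 35, 50, 83] [6, 46, 65, 71, 101, 110, 125] (by decide +kernel)
    (C.pT (f6807 C)
    (C.pH [12, 35, 50, 83] [26, 34, 49, 87, 103, 109] (by decide +kernel) (C.pNil _ _))))
    (C.loop_of_one (relLoop0 C) _ _)

theorem f6809 : C.T (v17 C) [24, 40, 49, 74, 99, 110, 111] (v3 C) [21, 27, 65, 85, 95, 110, 122] :=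
  C.flip (f6808 C)

theorem f6810 : C.T (v15 C) [13, 34, 53, 89, 107, 110, 118] (v3 C) [8, 27, 53, 73, 92, 113] :=
  C.conv (f2903 C) (f6262 C) (f6262 C) _ [146, 161, 164, 172] _ (by decide +kernel) (by decide +kernel) (by decide +kernel)

theorem f6811 : C.S (v15 C) [20, 39, 55, 88, 95, 110, 125] :=
  C.stMul (f2581 C) (f2565 C) _ (by decide +kernel)

theorem f6812 : C.T (v15 C) [4, 31, 61, 83, 102, 109, 119] (v17 C) [18, 45, 75, 97, 124] :=
  C.conv (f4511 C) (f5588 C) (f6811 C) _ [138, 158, 166, 175] _ (by decide +kernel) (by decide +kernel) (by decide +kernel)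

theorem f6813 : C.T (v17 C) [18, 45, 75, 97, 124] (v15 C) [4, 31, 61, 83, 102, 109, 119] :=
  C.flip (f6812 C)

theorem f6814 : C.T (v3 C) [10, 45, 57, 80, 107, 109, 113] (v17 C) [18, 35, 55, 73, 103, 110, 124] :=
  C.closeT (p := (v15 C)) (pu := [13, 34, 53, 89, 107, 110, 118])
    (C.pT (f6810 C)
    (C.pH [12, 35, 50, 83] [10, 45, 57, 80, 107, 109, 113] (by decide +kernel) (C.pNil _ _)))
    (C.pH [12, 35, 50, 83] [18, 45, 75, 97, 124] (by decide +kernel)
    (C.pT (f6813 C)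
    (C.pH [12, 35, 50, 83] [13, 34, 53, 89, 107, 110, 118] (by decide +kernel) (C.pNil _ _))))
    (C.loop_of_one (relLoop0 C) _ _)

theorem f6815 : C.T (v17 C) [18, 35, 55, 73, 103, 110, 124] (v3 C) [10, 45, 57, 80, 107, 109, 113] :=
  C.flip (f6814 C)

theorem f6816 : C.T (v15 C) [4, 34, 68, 88, 109, 114] (v3 C) [23, 47, 60, 84, 90, 110, 124] :=
  C.conv (f2903 C) (f6262 C) (f6262 C) _ [128, 154, 167, 176, 177] _ (by decide +kernel) (by decide +kernel) (by decide +kernel)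

theorem f6817 : C.S (v15 C) [31, 53, 71, 96, 116] :=
  C.stMul (f2569 C) (f2569 C) _ (by decide +kernel)

theorem f6818 : C.S (v15 C) [25, 47, 66, 86, 107, 124] :=
  C.stMul (f2569 C) (f2565 C) _ (by decide +kernel)

theorem f6819 : C.S (v15 C) [20, 63, 89, 93, 110, 115] :=
  C.stMul (f2569 C) (f6818 C) _ (by decide +kernel)

theorem f6820 : C.T (v15 C) [26, 35, 57, 81, 92, 123] (v17 C) [18, 47, 53, 89, 98, 110, 123] :=
  C.conv (f4396 C) (f6817 C) (f6819 C) _ [144, 163, 167, 176, 178] _ (by decide +kernel) (by decide +kernel) (by decide +kernel)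

theorem f6821 : C.T (v17 C) [18, 47, 53, 89, 98, 110, 123] (v15 C) [26, 35, 57, 81, 92, 123] :=
  C.flip (f6820 C)

theorem f6822 : C.T (v3 C) [39, 63, 70, 94, 115] (v17 C) [18, 41, 65, 75, 103, 109, 117] :=
  C.closeT (p := (v15 C)) (pu := [4, 34, 68, 88, 109, 114])
    (C.pT (f6816 C)
    (C.pH [12, 35, 50, 83] [39, 63, 70, 94, 115] (by decide +kernel) (C.pNil _ _)))
    (C.pH [12, 35, 50, 83] [18, 47, 53, 89, 98, 110, 123] (by decide +kernel)
    (C.pT (f6821 C)
    (C.pH [12, 35, 50, 83] [4, 34, 68, 88, 109, 114] (by decide +kernel) (C.pNil _ _))))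
    (C.loop_of_one (relLoop0 C) _ _)

theorem f6823 : C.T (v17 C) [18, 41, 65, 75, 103, 109, 117] (v3 C) [39, 63, 70, 94, 115] :=
  C.flip (f6822 C)

theorem f6824 : C.T (v15 C) [9, 45, 50, 86, 104, 114] (v3 C) [6, 31, 53, 74, 94, 110, 118] :=
  C.conv (f3167 C) (f2565 C) (f2565 C) _ [136, 159, 164, 171] _ (by decide +kernel) (by decide +kernel) (by decide +kernel)

theorem f6825 : C.S (v15 C) [25, 32, 63, 84, 105, 109, 124] :=
  C.stMul (f2581 C) (f5548 C) _ (by decide +kernel)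

theorem f6826 : C.T (v15 C) [25, 27, 56, 79, 101, 110, 117] (v17 C) [11, 47, 64, 80, 99, 110, 123] :=
  C.conv (f4488 C) (f5549 C) (f6825 C) _ [130, 161, 170, 175, 177] _ (by decide +kernel) (by decide +kernel) (by decide +kernel)

theorem f6827 : C.T (v17 C) [11, 47, 64, 80, 99, 110, 123] (v15 C) [25, 27, 56, 79, 101, 110, 117] :=
  C.flip (f6826 C)

theorem f6828 : C.T (v3 C) [19, 44, 69, 85, 107, 109, 123] (v17 C) [22, 45, 62, 85, 102, 110, 111] :=
  C.closeT (p := (v15 C)) (pu := [9, 45, 50, 86, 104, 114])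
    (C.pT (f6824 C)
    (C.pH [12, 35, 50, 83] [19, 44, 69, 85, 107, 109, 123] (by decide +kernel) (C.pNil _ _)))
    (C.pH [12, 35, 50, 83] [11, 47, 64, 80, 99, 110, 123] (by decide +kernel)
    (C.pT (f6827 C)
    (C.pH [12, 35, 50, 83] [9, 45, 50, 86, 104, 114] (by decide +kernel) (C.pNil _ _))))
    (C.loop_of_one (relLoop0 C) _ _)

theorem f6829 : C.T (v17 C) [22, 45, 62, 85, 102, 110, 111] (v3 C) [19, 44, 69, 85, 107, 109, 123] :=
  C.flip (f6828 C)

theorem f6830 : C.T (v2 C) [17] (v18 C) [] :=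
  C.defn _ _

theorem f6831 : C.S (v2 C) [20, 48, 49, 77, 103, 110, 112] :=
  C.stMul (f125 C) (f101 C) _ (by decide +kernel)

theorem f6832 : C.S (v2 C) [4, 46, 61, 78, 103, 115] :=
  C.stMul (f138 C) (f6831 C) _ (by decide +kernel)

theorem f6833 : C.S (v2 C) [5, 33, 82, 107, 111] :=
  C.stMul (f211 C) (f243 C) _ (by decide +kernel)

theorem f6834 : C.S (v2 C) [12, 31, 50, 71, 105, 120] :=
  C.stInv (f6833 C) _ (by decide +kernel)

theorem f6835 : C.S (v2 C) [7, 42, 53, 85, 90, 109, 117] :=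
  C.stMul (f6834 C) (f6832 C) _ (by decide +kernel)

theorem f6836 : C.S (v18 C) [25, 40, 51, 81, 96, 123] :=
  C.transfer (f6830 C) (f6835 C) [147, 152, 178] _ (by decide +kernel) (by decide +kernel) (by decide +kernel)

theorem f6837 : C.T (v18 C) [] (v2 C) [17] :=
  C.flip (f6830 C)

theorem f6838 : C.T (v1 C) [14, 33, 57, 87, 92, 109, 120] (v2 C) [19, 42, 61, 83, 97, 109, 117] :=
  C.conv (f96 C) (f152 C) (f152 C) _ [141, 153, 169, 173] _ (by decide +kernel) (by decide +kernel) (by decide +kernel)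

theorem f6839 : C.S (v1 C) [24, 44, 63, 85, 90, 109, 118] :=
  C.stMul (f12 C) (f314 C) _ (by decide +kernel)

theorem f6840 : C.S (v1 C) [9, 37, 59, 76, 111] :=
  C.stMul (f27 C) (f6839 C) _ (by decide +kernel)

theorem f6841 : C.S (v1 C) [13, 34, 59, 73, 105, 109, 115] :=
  C.stMul (f27 C) (f6840 C) _ (by decide +kernel)

theorem f6842 : C.S (v1 C) [11, 34, 59, 73, 105, 109, 115] :=
  C.stMul (f3 C) (f6841 C) _ (by decide +kernel)

theorem f6843 : C.S (v1 C) [8, 41, 58, 81, 105, 121] :=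
  C.stMul (f27 C) (f6842 C) _ (by decide +kernel)

theorem f6844 : C.S (v1 C) [15, 41, 58, 81, 105, 121] :=
  C.stMul (f3 C) (f6843 C) _ (by decide +kernel)

theorem f6845 : C.T (v1 C) [12, 35, 57, 89, 92, 122] (v2 C) [16, 33, 53, 75, 90, 110, 117] :=
  C.conv (f96 C) (f152 C) (f6844 C) _ [138, 154, 168, 171, 177] _ (by decide +kernel) (by decide +kernel) (by decide +kernel)

theorem f6846 : C.T (v2 C) [16, 33, 53, 75, 90, 110, 117] (v1 C) [12, 35, 57, 89, 92, 122] :=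
  C.flip (f6845 C)

theorem f6847 : C.S (v2 C) [20, 48, 66, 80, 98, 121] :=
  C.stMul (f149 C) (f101 C) _ (by decide +kernel)

theorem f6848 : C.T (v2 C) [24, 39, 68, 78, 95, 110] (v18 C) [35, 66, 70, 96, 118] :=
  C.conv (f6830 C) (f323 C) (f6847 C) _ [154, 167, 171, 178] _ (by decide +kernel) (by decide +kernel) (by decide +kernel)

theorem f6849 : C.T (v18 C) [35, 66, 70, 96, 118] (v2 C) [24, 39, 68, 78, 95, 110] :=
  C.flip (f6848 C)

theorem f6850 : C.T (v2 C) [26, 38, 49, 87, 110, 119] (v18 C) [7, 38, 58, 82, 99, 117] :=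
  C.closeT (p := (v1 C)) (pu := [14, 33, 57, 87, 92, 109, 120])
    (C.pT (f6838 C)
    (C.pH [8, 30, 65, 84, 94, 117] [26, 38, 49, 87, 110, 119] (by decide +kernel) (C.pNil _ _)))
    (C.pH [26, 38, 54, 89, 90, 113] [35, 66, 70, 96, 118] (by decide +kernel)
    (C.pT (f6849 C)
    (C.pH [8, 30, 65, 84, 94, 117] [16, 33, 53, 75, 90, 110, 117] (by decide +kernel)
    (C.pT (f6846 C)
    (C.pH [26, 38, 54, 89, 90, 113] [14, 33, 57, 87, 92, 109, 120] (by decide +kernel) (C.pNil _ _))))))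
    (C.loop_of_one (relLoop1 C) _ _)

theorem f6851 : C.T (v18 C) [7, 38, 58, 82, 99, 117] (v2 C) [26, 38, 49, 87, 110, 119] :=
  C.flip (f6850 C)

theorem f6852 : C.T (v1 C) [24, 40, 64, 72, 102, 110, 112] (v2 C) [10, 27, 59, 73, 93, 110, 124] :=
  C.conv (f96 C) (f152 C) (f152 C) _ [132, 149, 169, 171, 177] _ (by decide +kernel) (by decide +kernel) (by decide +kernel)

theorem f6853 : C.S (v2 C) [24, 37, 68, 82, 104, 109] :=
  C.stMul (f243 C) (f149 C) _ (by decide +kernel)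

theorem f6854 : C.S (v2 C) [20, 68, 85, 95, 120] :=
  C.stMul (f243 C) (f6853 C) _ (by decide +kernel)

theorem f6855 : C.T (v2 C) [15, 29, 50, 89, 91, 109, 120] (v18 C) [18, 45, 57, 80, 94, 112] :=
  C.conv (f6830 C) (f323 C) (f6854 C) _ [140, 162, 169, 176] _ (by decide +kernel) (by decide +kernel) (by decide +kernel)

theorem f6856 : C.S (v1 C) [13, 40, 64, 80, 96, 121] :=
  C.stMul (f27 C) (f643 C) _ (by decide +kernel)

theorem f6857 : C.S (v1 C) [25, 28, 64, 80, 96, 121] :=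
  C.stMul (f27 C) (f6856 C) _ (by decide +kernel)

theorem f6858 : C.S (v1 C) [24, 29, 65, 82, 98, 110, 124] :=
  C.stMul (f27 C) (f6857 C) _ (by decide +kernel)

theorem f6859 : C.S (v1 C) [7, 29, 65, 82, 98, 110, 124] :=
  C.stMul (f3 C) (f6858 C) _ (by decide +kernel)

theorem f6860 : C.T (v1 C) [11, 36, 54, 80, 103, 109, 114] (v4 C) [15, 30, 62, 70, 91, 110, 124] :=
  C.conv (f399 C) (f152 C) (f6859 C) _ [137, 149, 169, 176] _ (by decide +kernel) (by decide +kernel) (by decide +kernel)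

theorem f6861 : C.T (v4 C) [15, 30, 62, 70, 91, 110, 124] (v1 C) [11, 36, 54, 80, 103, 109, 114] :=
  C.flip (f6860 C)

theorem f6862 : C.T (v18 C) [10, 35, 61, 78, 103, 109, 122] (v4 C) [10, 42, 65, 80, 100, 123] :=
  C.closeT (p := (v1 C)) (pu := [24, 40, 64, 72, 102, 110, 112])
    (C.pT (f6852 C)
    (C.pH [8, 30, 65, 84, 94, 117] [15, 29, 50, 89, 91, 109, 120] (by decide +kernel)
    (C.pT (f6855 C)
    (C.pH [26, 38, 54, 89, 90, 113] [10, 35, 61, 78, 103, 109, 122] (by decide +kernel) (C.pNil _ _)))))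
    (C.pH [8, 30, 65, 84, 94, 117] [15, 30, 62, 70, 91, 110, 124] (by decide +kernel)
    (C.pT (f6861 C)
    (C.pH [26, 38, 54, 89, 90, 113] [24, 40, 64, 72, 102, 110, 112] (by decide +kernel) (C.pNil _ _))))
    (C.loop_of_one (relLoop1 C) _ _)

theorem f6863 : C.T (v4 C) [10, 42, 65, 80, 100, 123] (v18 C) [10, 35, 61, 78, 103, 109, 122] :=
  C.flip (f6862 C)

theorem f6864 : C.T (v1 C) [21, 39, 53, 96, 109, 122] (v2 C) [24, 32, 56, 72, 103, 110, 125] :=
  C.conv (f96 C) (f152 C) (f152 C) _ [146, 159, 174, 178] _ (by decide +kernel) (by decide +kernel) (by decide +kernel)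

theorem f6865 : C.S (v2 C) [20, 50, 86, 101, 109, 117] :=
  C.stMul (f115 C) (f211 C) _ (by decide +kernel)

theorem f6866 : C.S (v2 C) [10, 47, 56, 71, 92, 109, 123] :=
  C.stMul (f211 C) (f6865 C) _ (by decide +kernel)

theorem f6867 : C.S (v2 C) [6, 46, 64, 74, 104, 110, 118] :=
  C.stMul (f211 C) (f6866 C) _ (by decide +kernel)

theorem f6868 : C.S (v2 C) [18, 44, 61, 70, 105, 112] :=
  C.stMul (f211 C) (f109 C) _ (by decide +kernel)

theorem f6869 : C.S (v2 C) [62, 79, 107, 109, 125] :=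
  C.stMul (f211 C) (f6868 C) _ (by decide +kernel)

theorem f6870 : C.S (v2 C) [9, 44, 51, 110, 123] :=
  C.stMul (f211 C) (f6869 C) _ (by decide +kernel)

theorem f6871 : C.T (v2 C) [12, 47, 75, 95, 110, 113] (v18 C) [7, 31, 63, 92, 109, 124] :=
  C.conv (f6850 C) (f6867 C) (f6870 C) _ [140, 166, 177] _ (by decide +kernel) (by decide +kernel) (by decide +kernel)

theorem f6872 : C.S (v1 C) [6, 33, 54, 76, 92, 117] :=
  C.stMul (f27 C) (f644 C) _ (by decide +kernel)

theorem f6873 : C.S (v1 C) [12, 33, 54, 76, 92, 117] :=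
  C.stMul (f3 C) (f6872 C) _ (by decide +kernel)

theorem f6874 : C.S (v1 C) [22, 46, 61, 86, 108, 110, 114] :=
  C.stMul (f12 C) (f6873 C) _ (by decide +kernel)

theorem f6875 : C.S (v1 C) [5, 38, 68, 82, 97, 109, 119] :=
  C.stMul (f27 C) (f6874 C) _ (by decide +kernel)

theorem f6876 : C.S (v1 C) [20, 44, 61, 86, 98, 109, 119] :=
  C.stMul (f27 C) (f6875 C) _ (by decide +kernel)

theorem f6877 : C.S (v1 C) [14, 31, 57, 70, 101, 109, 124] :=
  C.stMul (f27 C) (f6876 C) _ (by decide +kernel)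

theorem f6878 : C.T (v1 C) [12, 30, 58, 88, 119] (v4 C) [12, 45, 57, 74, 97, 110, 116] :=
  C.conv (f399 C) (f152 C) (f6877 C) _ [134, 152, 174, 178] _ (by decide +kernel) (by decide +kernel) (by decide +kernel)

theorem f6879 : C.T (v4 C) [12, 45, 57, 74, 97, 110, 116] (v1 C) [12, 30, 58, 88, 119] :=
  C.flip (f6878 C)

theorem f6880 : C.T (v18 C) [17, 38, 63, 70, 107, 110, 114] (v4 C) [24, 42, 68, 79, 95, 110, 125] :=
  C.closeT (p := (v1 C)) (pu := [21, 39, 53, 96, 109, 122])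
    (C.pT (f6864 C)
    (C.pH [26, 38, 54, 89, 90, 113] [12, 47, 75, 95, 110, 113] (by decide +kernel)
    (C.pT (f6871 C)
    (C.pH [8, 30, 65, 84, 94, 117] [17, 38, 63, 70, 107, 110, 114] (by decide +kernel) (C.pNil _ _)))))
    (C.pH [26, 38, 54, 89, 90, 113] [12, 45, 57, 74, 97, 110, 116] (by decide +kernel)
    (C.pT (f6879 C)
    (C.pH [8, 30, 65, 84, 94, 117] [21, 39, 53, 96, 109, 122] (by decide +kernel) (C.pNil _ _))))
    (C.loop_of_one (relLoop2 C) _ _)

theorem f6881 : C.T (v4 C) [24, 42, 68, 79, 95, 110, 125] (v18 C) [17, 38, 63, 70, 107, 110, 114] :=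
  C.flip (f6880 C)

theorem f6882 : C.T (v2 C) [16, 43, 68, 89, 102, 110, 111] (v3 C) [21, 33, 58, 85, 95, 109, 118] :=
  C.conv (f347 C) (f356 C) (f356 C) _ [126, 151, 164, 174, 177] _ (by decide +kernel) (by decide +kernel) (by decide +kernel)

theorem f6883 : C.S (v2 C) [18, 44, 68, 81, 106, 109, 118] :=
  C.stMul (f138 C) (f115 C) _ (by decide +kernel)

theorem f6884 : C.S (v2 C) [25, 42, 51, 81, 102, 109, 116] :=
  C.stMul (f243 C) (f6883 C) _ (by decide +kernel)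

theorem f6885 : C.S (v2 C) [11, 46, 87, 92, 109, 122] :=
  C.stMul (f149 C) (f6884 C) _ (by decide +kernel)

theorem f6886 : C.T (v2 C) [16, 41, 64, 88, 104, 114] (v18 C) [11, 35, 62, 73, 90, 110, 125] :=
  C.conv (f6850 C) (f6867 C) (f6885 C) _ [140, 149, 165, 176] _ (by decide +kernel) (by decide +kernel) (by decide +kernel)

theorem f6887 : C.T (v18 C) [11, 35, 62, 73, 90, 110, 125] (v2 C) [16, 41, 64, 88, 104, 114] :=
  C.flip (f6886 C)

theorem f6888 : C.T (v3 C) [8, 33, 52, 72, 90, 115] (v18 C) [22, 29, 57, 70, 106, 122] :=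
  C.closeT (p := (v2 C)) (pu := [16, 43, 68, 89, 102, 110, 111])
    (C.pT (f6882 C)
    (C.pH [12, 35, 50, 83] [8, 33, 52, 72, 90, 115] (by decide +kernel) (C.pNil _ _)))
    (C.pH [12, 35, 50, 83] [11, 35, 62, 73, 90, 110, 125] (by decide +kernel)
    (C.pT (f6887 C)
    (C.pH [12, 35, 50, 83] [16, 43, 68, 89, 102, 110, 111] (by decide +kernel) (C.pNil _ _))))
    (C.loop_of_one (relLoop0 C) _ _)

theorem f6889 : C.T (v18 C) [22, 29, 57, 70, 106, 122] (v3 C) [8, 33, 52, 72, 90, 115] :=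
  C.flip (f6888 C)

theorem f6890 : C.T (v2 C) [14, 30, 49, 72, 99, 123] (v4 C) [9, 39, 67, 73, 105, 124] :=
  C.conv (f437 C) (f595 C) (f595 C) _ [136, 154, 165, 176, 177] _ (by decide +kernel) (by decide +kernel) (by decide +kernel)

theorem f6891 : C.S (v2 C) [6, 46, 50, 80, 103, 110, 116] :=
  C.stMul (f211 C) (f115 C) _ (by decide +kernel)

theorem f6892 : C.S (v2 C) [23, 47, 59, 85, 101, 109, 113] :=
  C.stMul (f211 C) (f6891 C) _ (by decide +kernel)

theorem f6893 : C.T (v2 C) [14, 69, 72, 115] (v18 C) [26, 42, 52, 74, 97, 119] :=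
  C.conv (f6850 C) (f6867 C) (f6892 C) _ [139, 151, 164, 174] _ (by decide +kernel) (by decide +kernel) (by decide +kernel)

theorem f6894 : C.T (v18 C) [26, 42, 52, 74, 97, 119] (v2 C) [14, 69, 72, 115] :=
  C.flip (f6893 C)

theorem f6895 : C.T (v4 C) [17, 41, 53, 79, 98, 112] (v18 C) [13, 36, 53, 87, 94, 110, 114] :=
  C.closeT (p := (v2 C)) (pu := [14, 30, 49, 72, 99, 123])
    (C.pT (f6890 C)
    (C.pH [12, 35, 50, 83] [17, 41, 53, 79, 98, 112] (by decide +kernel) (C.pNil _ _)))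
    (C.pH [12, 35, 50, 83] [26, 42, 52, 74, 97, 119] (by decide +kernel)
    (C.pT (f6894 C)
    (C.pH [12, 35, 50, 83] [14, 30, 49, 72, 99, 123] (by decide +kernel) (C.pNil _ _))))
    (C.loop_of_one (relLoop0 C) _ _)

theorem f6896 : C.T (v18 C) [13, 36, 53, 87, 94, 110, 114] (v4 C) [17, 41, 53, 79, 98, 112] :=
  C.flip (f6895 C)

theorem f6897 : C.T (v2 C) [7, 47, 62, 83, 106, 109, 112] (v3 C) [9, 31, 58, 72, 97, 120] :=
  C.conv (f817 C) (f837 C) (f837 C) _ [142, 156, 170, 173, 177] _ (by decide +kernel) (by decide +kernel) (by decide +kernel)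

theorem f6898 : C.S (v2 C) [24, 37, 50, 85, 99, 110, 113] :=
  C.stMul (f243 C) (f101 C) _ (by decide +kernel)

theorem f6899 : C.S (v2 C) [16, 36, 63, 73, 99, 123] :=
  C.stMul (f211 C) (f6898 C) _ (by decide +kernel)

theorem f6900 : C.T (v2 C) [7, 37, 65, 87, 98, 110, 125] (v18 C) [13, 31, 55, 86, 110, 124] :=
  C.conv (f6850 C) (f6867 C) (f6899 C) _ [131, 155, 167, 174] _ (by decide +kernel) (by decide +kernel) (by decide +kernel)

theorem f6901 : C.T (v18 C) [13, 31, 55, 86, 110, 124] (v2 C) [7, 37, 65, 87, 98, 110, 125] :=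
  C.flip (f6900 C)

theorem f6902 : C.T (v3 C) [17, 43, 57, 73, 105, 109, 119] (v18 C) [4, 42, 53, 71, 100, 109, 121] :=
  C.closeT (p := (v2 C)) (pu := [7, 47, 62, 83, 106, 109, 112])
    (C.pT (f6897 C)
    (C.pH [12, 35, 50, 83] [17, 43, 57, 73, 105, 109, 119] (by decide +kernel) (C.pNil _ _)))
    (C.pH [12, 35, 50, 83] [13, 31, 55, 86, 110, 124] (by decide +kernel)
    (C.pT (f6901 C)
    (C.pH [12, 35, 50, 83] [7, 47, 62, 83, 106, 109, 112] (by decide +kernel) (C.pNil _ _))))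
    (C.loop_of_one (relLoop0 C) _ _)

theorem f6903 : C.T (v18 C) [4, 42, 53, 71, 100, 109, 121] (v3 C) [17, 43, 57, 73, 105, 109, 119] :=
  C.flip (f6902 C)

theorem f6904 : C.T (v2 C) [23, 41, 49, 85, 98, 112] (v3 C) [19, 28, 55, 88, 95, 110, 119] :=
  C.conv (f817 C) (f837 C) (f837 C) _ [142, 153, 178] _ (by decide +kernel) (by decide +kernel) (by decide +kernel)

theorem f6905 : C.S (v2 C) [13, 27, 59, 85, 101, 109, 113] :=
  C.stMul (f243 C) (f115 C) _ (by decide +kernel)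

theorem f6906 : C.S (v2 C) [19, 34, 56, 74, 107, 109, 120] :=
  C.stMul (f211 C) (f6905 C) _ (by decide +kernel)

theorem f6907 : C.S (v2 C) [16, 36, 55, 83, 101, 120] :=
  C.stMul (f243 C) (f6906 C) _ (by decide +kernel)

theorem f6908 : C.S (v2 C) [14, 34, 52, 85, 103, 116] :=
  C.stMul (f138 C) (f6907 C) _ (by decide +kernel)

theorem f6909 : C.T (v2 C) [12, 42, 62, 86, 107, 117] (v18 C) [8, 54, 85, 91, 113] :=
  C.conv (f6850 C) (f6867 C) (f6908 C) _ [137, 160, 168, 172] _ (by decide +kernel) (by decide +kernel) (by decide +kernel)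

theorem f6910 : C.T (v18 C) [8, 54, 85, 91, 113] (v2 C) [12, 42, 62, 86, 107, 117] :=
  C.flip (f6909 C)

theorem f6911 : C.T (v3 C) [24, 38, 69, 87, 101, 112] (v18 C) [21, 47, 61, 80, 101, 118] :=
  C.closeT (p := (v2 C)) (pu := [23, 41, 49, 85, 98, 112])
    (C.pT (f6904 C)
    (C.pH [12, 35, 50, 83] [24, 38, 69, 87, 101, 112] (by decide +kernel) (C.pNil _ _)))
    (C.pH [12, 35, 50, 83] [8, 54, 85, 91, 113] (by decide +kernel)
    (C.pT (f6910 C)
    (C.pH [12, 35, 50, 83] [23, 41, 49, 85, 98, 112] (by decide +kernel) (C.pNil _ _))))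
    (C.loop_of_one (relLoop0 C) _ _)

theorem f6912 : C.T (v18 C) [21, 47, 61, 80, 101, 118] (v3 C) [24, 38, 69, 87, 101, 112] :=
  C.flip (f6911 C)

theorem f6913 : C.T (v2 C) [14, 36, 58, 75, 95, 120] (v3 C) [18, 32, 51, 80, 98, 110, 123] :=
  C.conv (f817 C) (f837 C) (f837 C) _ [148, 151, 178] _ (by decide +kernel) (by decide +kernel) (by decide +kernel)

theorem f6914 : C.T (v2 C) [14, 36, 67, 72, 99, 109, 115] (v18 C) [15, 40, 67, 76, 98, 112] :=
  C.conv (f6830 C) (f323 C) (f149 C) _ [137, 153, 166, 175, 178] _ (by decide +kernel) (by decide +kernel) (by decide +kernel)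

theorem f6915 : C.T (v18 C) [15, 40, 67, 76, 98, 112] (v2 C) [14, 36, 67, 72, 99, 109, 115] :=
  C.flip (f6914 C)

theorem f6916 : C.T (v3 C) [18, 36, 51, 83, 101, 109, 114] (v18 C) [15, 28, 62, 74, 95, 121] :=
  C.closeT (p := (v2 C)) (pu := [14, 36, 58, 75, 95, 120])
    (C.pT (f6913 C)
    (C.pH [12, 35, 50, 83] [18, 36, 51, 83, 101, 109, 114] (by decide +kernel) (C.pNil _ _)))
    (C.pH [12, 35, 50, 83] [15, 40, 67, 76, 98, 112] (by decide +kernel)
    (C.pT (f6915 C)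
    (C.pH [12, 35, 50, 83] [14, 36, 58, 75, 95, 120] (by decide +kernel) (C.pNil _ _))))
    (C.loop_of_one (relLoop0 C) _ _)

theorem f6917 : C.T (v18 C) [15, 28, 62, 74, 95, 121] (v3 C) [18, 36, 51, 83, 101, 109, 114] :=
  C.flip (f6916 C)

theorem f6918 : C.T (v2 C) [23, 37, 65, 78, 96, 110, 114] (v4 C) [7, 30, 50, 109, 112] :=
  C.conv (f857 C) (f864 C) (f864 C) _ [141, 153, 164, 176, 178] _ (by decide +kernel) (by decide +kernel) (by decide +kernel)

theorem f6919 : C.S (v2 C) [23, 47, 61, 79, 105, 120] :=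
  C.stMul (f149 C) (f109 C) _ (by decide +kernel)

theorem f6920 : C.S (v2 C) [21, 27, 52, 73, 95, 114] :=
  C.stMul (f243 C) (f6919 C) _ (by decide +kernel)

theorem f6921 : C.S (v2 C) [8, 42, 51, 73, 93, 110, 111] :=
  C.stMul (f211 C) (f6920 C) _ (by decide +kernel)

theorem f6922 : C.T (v2 C) [12, 29, 49, 84, 94, 110, 125] (v18 C) [12, 34, 87, 105, 109, 114] :=
  C.conv (f6850 C) (f6867 C) (f6921 C) _ [142, 158, 165, 172, 178] _ (by decide +kernel) (by decide +kernel) (by decide +kernel)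

theorem f6923 : C.T (v18 C) [12, 34, 87, 105, 109, 114] (v2 C) [12, 29, 49, 84, 94, 110, 125] :=
  C.flip (f6922 C)

theorem f6924 : C.T (v4 C) [7, 28, 68, 77, 97, 120] (v18 C) [35, 74, 91, 109, 112] :=
  C.closeT (p := (v2 C)) (pu := [23, 37, 65, 78, 96, 110, 114])
    (C.pT (f6918 C)
    (C.pH [12, 35, 50, 83] [7, 28, 68, 77, 97, 120] (by decide +kernel) (C.pNil _ _)))
    (C.pH [12, 35, 50, 83] [12, 34, 87, 105, 109, 114] (by decide +kernel)
    (C.pT (f6923 C)
    (C.pH [12, 35, 50, 83] [23, 37, 65, 78, 96, 110, 114] (by decide +kernel) (C.pNil _ _))))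
    (C.loop_of_one (relLoop0 C) _ _)

theorem f6925 : C.T (v18 C) [35, 74, 91, 109, 112] (v4 C) [7, 28, 68, 77, 97, 120] :=
  C.flip (f6924 C)

theorem f6926 : C.T (v2 C) [17, 27, 68, 70, 97, 110, 114] (v4 C) [5, 46, 51, 79, 96, 110, 119] :=
  C.conv (f857 C) (f864 C) (f864 C) _ [140, 149, 167, 174] _ (by decide +kernel) (by decide +kernel) (by decide +kernel)

theorem f6927 : C.S (v2 C) [26, 44, 49, 88, 105, 109, 112] :=
  C.stMul (f243 C) (f6921 C) _ (by decide +kernel)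

theorem f6928 : C.T (v2 C) [9, 47, 66, 72, 99, 109, 125] (v18 C) [12, 63, 88, 103] :=
  C.conv (f6850 C) (f6867 C) (f6927 C) _ [142, 152, 167, 173, 177] _ (by decide +kernel) (by decide +kernel) (by decide +kernel)

theorem f6929 : C.T (v18 C) [12, 63, 88, 103] (v2 C) [9, 47, 66, 72, 99, 109, 125] :=
  C.flip (f6928 C)

theorem f6930 : C.T (v4 C) [5, 30, 51, 79, 96, 110, 119] (v18 C) [47, 61, 72, 102, 109, 122] :=
  C.closeT (p := (v2 C)) (pu := [17, 27, 68, 70, 97, 110, 114])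
    (C.pT (f6926 C)
    (C.pH [12, 35, 50, 83] [5, 30, 51, 79, 96, 110, 119] (by decide +kernel) (C.pNil _ _)))
    (C.pH [12, 35, 50, 83] [12, 63, 88, 103] (by decide +kernel)
    (C.pT (f6929 C)
    (C.pH [12, 35, 50, 83] [17, 27, 68, 70, 97, 110, 114] (by decide +kernel) (C.pNil _ _))))
    (C.loop_of_one (relLoop0 C) _ _)

theorem f6931 : C.T (v18 C) [47, 61, 72, 102, 109, 122] (v4 C) [5, 30, 51, 79, 96, 110, 119] :=
  C.flip (f6930 C)

theorem f6932 : C.T (v2 C) [21, 47, 50, 76, 100, 110, 125] (v5 C) [6, 35, 54, 83, 102, 110, 114] :=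
  C.conv (f982 C) (f323 C) (f323 C) _ [128, 156, 168, 173, 177] _ (by decide +kernel) (by decide +kernel) (by decide +kernel)

theorem f6933 : C.S (v2 C) [12, 30, 55, 77, 93, 124] :=
  C.stMul (f243 C) (f138 C) _ (by decide +kernel)

theorem f6934 : C.S (v2 C) [24, 37, 54, 87, 108, 119] :=
  C.stMul (f149 C) (f6933 C) _ (by decide +kernel)

theorem f6935 : C.S (v2 C) [20, 56, 88, 98, 119] :=
  C.stMul (f243 C) (f6934 C) _ (by decide +kernel)

theorem f6936 : C.S (v2 C) [10, 47, 61, 79, 113] :=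
  C.stMul (f211 C) (f6935 C) _ (by decide +kernel)

theorem f6937 : C.T (v2 C) [10, 35, 62, 73, 92, 120] (v18 C) [6, 45, 53, 87, 93, 109, 122] :=
  C.conv (f6850 C) (f6867 C) (f6936 C) _ [146, 149, 164, 176, 177] _ (by decide +kernel) (by decide +kernel) (by decide +kernel)

theorem f6938 : C.T (v18 C) [6, 45, 53, 87, 93, 109, 122] (v2 C) [10, 35, 62, 73, 92, 120] :=
  C.flip (f6937 C)

theorem f6939 : C.T (v5 C) [19, 27, 60, 77, 107, 109, 114] (v18 C) [24, 29, 60, 73, 93, 110, 114] :=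
  C.closeT (p := (v2 C)) (pu := [21, 47, 50, 76, 100, 110, 125])
    (C.pT (f6932 C)
    (C.pH [12, 35, 50, 83] [19, 27, 60, 77, 107, 109, 114] (by decide +kernel) (C.pNil _ _)))
    (C.pH [12, 35, 50, 83] [6, 45, 53, 87, 93, 109, 122] (by decide +kernel)
    (C.pT (f6938 C)
    (C.pH [12, 35, 50, 83] [21, 47, 50, 76, 100, 110, 125] (by decide +kernel) (C.pNil _ _))))
    (C.loop_of_one (relLoop0 C) _ _)

theorem f6940 : C.T (v18 C) [24, 29, 60, 73, 93, 110, 114] (v5 C) [19, 27, 60, 77, 107, 109, 114] :=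
  C.flip (f6939 C)

theorem f6941 : C.T (v2 C) [6, 63, 82, 98, 110, 113] (v5 C) [24, 39, 67, 74, 99, 109, 122] :=
  C.conv (f982 C) (f323 C) (f323 C) _ [146, 154, 168, 176] _ (by decide +kernel) (by decide +kernel) (by decide +kernel)

theorem f6942 : C.S (v2 C) [18, 44, 61, 70, 105, 112] :=
  C.stMul (f211 C) (f109 C) _ (by decide +kernel)

theorem f6943 : C.S (v2 C) [4, 46, 64, 85, 105, 121] :=
  C.stMul (f125 C) (f6942 C) _ (by decide +kernel)

theorem f6944 : C.T (v2 C) [24, 45, 67, 99, 111] (v18 C) [10, 27, 69, 82, 91, 124] :=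
  C.conv (f6830 C) (f323 C) (f6943 C) _ [132, 149, 170, 174] _ (by decide +kernel) (by decide +kernel) (by decide +kernel)

theorem f6945 : C.T (v18 C) [10, 27, 69, 82, 91, 124] (v2 C) [24, 45, 67, 99, 111] :=
  C.flip (f6944 C)

theorem f6946 : C.T (v5 C) [6, 33, 57, 77, 98, 118] (v18 C) [8, 48, 51, 82, 97, 112] :=
  C.closeT (p := (v2 C)) (pu := [6, 63, 82, 98, 110, 113])
    (C.pT (f6941 C)
    (C.pH [12, 35, 50, 83] [6, 33, 57, 77, 98, 118] (by decide +kernel) (C.pNil _ _)))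
    (C.pH [12, 35, 50, 83] [10, 27, 69, 82, 91, 124] (by decide +kernel)
    (C.pT (f6945 C)
    (C.pH [12, 35, 50, 83] [6, 63, 82, 98, 110, 113] (by decide +kernel) (C.pNil _ _))))
    (C.loop_of_one (relLoop0 C) _ _)

theorem f6947 : C.T (v18 C) [8, 48, 51, 82, 97, 112] (v5 C) [6, 33, 57, 77, 98, 118] :=
  C.flip (f6946 C)

theorem f6948 : C.T (v2 C) [13, 34, 61, 76, 99, 109, 115] (v5 C) [24, 45, 76, 105, 109, 119] :=
  C.conv (f982 C) (f323 C) (f323 C) _ [146, 150, 165, 177] _ (by decide +kernel) (by decide +kernel) (by decide +kernel)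

theorem f6949 : C.S (v2 C) [23, 43, 52, 86, 92, 110, 114] :=
  C.stMul (f138 C) (f101 C) _ (by decide +kernel)

theorem f6950 : C.S (v2 C) [6, 46, 57, 81, 103, 114] :=
  C.stMul (f125 C) (f6949 C) _ (by decide +kernel)

theorem f6951 : C.T (v2 C) [4, 31, 63, 84] (v18 C) [15, 45, 63, 88, 91, 109, 119] :=
  C.conv (f6850 C) (f6867 C) (f6950 C) _ [130, 162, 169, 176, 177] _ (by decide +kernel) (by decide +kernel) (by decide +kernel)

theorem f6952 : C.T (v18 C) [15, 45, 63, 88, 91, 109, 119] (v2 C) [4, 31, 63, 84] :=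
  C.flip (f6951 C)

theorem f6953 : C.T (v5 C) [6, 52, 71, 107, 110, 113] (v18 C) [15, 61, 91, 110, 122] :=
  C.closeT (p := (v2 C)) (pu := [13, 34, 61, 76, 99, 109, 115])
    (C.pT (f6948 C)
    (C.pH [12, 35, 50, 83] [6, 52, 71, 107, 110, 113] (by decide +kernel) (C.pNil _ _)))
    (C.pH [12, 35, 50, 83] [15, 45, 63, 88, 91, 109, 119] (by decide +kernel)
    (C.pT (f6952 C)
    (C.pH [12, 35, 50, 83] [13, 34, 61, 76, 99, 109, 115] (by decide +kernel) (C.pNil _ _))))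
    (C.loop_of_one (relLoop0 C) _ _)

theorem f6954 : C.T (v18 C) [15, 61, 91, 110, 122] (v5 C) [6, 52, 71, 107, 110, 113] :=
  C.flip (f6953 C)

theorem f6955 : C.T (v2 C) [26, 41, 88, 105, 109, 124] (v15 C) [14, 33, 65, 77, 94, 110, 118] :=
  C.conv (f2638 C) (f3254 C) (f3254 C) _ [132, 154, 170, 171] _ (by decide +kernel) (by decide +kernel) (by decide +kernel)

theorem f6956 : C.S (v2 C) [21, 36, 52, 86, 99, 110, 120] :=
  C.stMul (f149 C) (f243 C) _ (by decide +kernel)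

theorem f6957 : C.T (v2 C) [13, 31, 65, 70, 109, 122] (v18 C) [5, 43, 55, 82, 104, 125] :=
  C.conv (f6850 C) (f6867 C) (f6956 C) _ [148, 170, 175] _ (by decide +kernel) (by decide +kernel) (by decide +kernel)

theorem f6958 : C.T (v18 C) [5, 43, 55, 82, 104, 125] (v2 C) [13, 31, 65, 70, 109, 122] :=
  C.flip (f6957 C)

theorem f6959 : C.T (v15 C) [14, 42, 59, 78, 96, 109, 119] (v18 C) [5, 43, 66, 71, 97, 109, 118] :=
  C.closeT (p := (v2 C)) (pu := [26, 41, 88, 105, 109, 124])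
    (C.pT (f6955 C)
    (C.pH [12, 35, 50, 83] [14, 42, 59, 78, 96, 109, 119] (by decide +kernel) (C.pNil _ _)))
    (C.pH [12, 35, 50, 83] [5, 43, 55, 82, 104, 125] (by decide +kernel)
    (C.pT (f6958 C)
    (C.pH [12, 35, 50, 83] [26, 41, 88, 105, 109, 124] (by decide +kernel) (C.pNil _ _))))
    (C.loop_of_one (relLoop0 C) _ _)

theorem f6960 : C.T (v18 C) [5, 43, 66, 71, 97, 109, 118] (v15 C) [14, 42, 59, 78, 96, 109, 119] :=
  C.flip (f6959 C)

theorem f6961 : C.T (v2 C) [8, 29, 50, 80, 108, 109, 119] (v15 C) [15, 28, 49, 72, 109] :=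
  C.conv (f2638 C) (f3254 C) (f3254 C) _ [129, 152, 169] _ (by decide +kernel) (by decide +kernel) (by decide +kernel)

theorem f6962 : C.S (v2 C) [24, 37, 50, 85, 99, 110, 113] :=
  C.stMul (f243 C) (f101 C) _ (by decide +kernel)

theorem f6963 : C.S (v2 C) [11, 46, 50, 94, 125] :=
  C.stMul (f115 C) (f6962 C) _ (by decide +kernel)

theorem f6964 : C.T (v2 C) [21, 44, 51, 87, 106, 110, 117] (v18 C) [14, 39, 53, 84, 110, 125] :=
  C.conv (f6830 C) (f323 C) (f6963 C) _ [136, 155, 171, 178] _ (by decide +kernel) (by decide +kernel) (by decide +kernel)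

theorem f6965 : C.T (v18 C) [14, 39, 53, 84, 110, 125] (v2 C) [21, 44, 51, 87, 106, 110, 117] :=
  C.flip (f6964 C)

theorem f6966 : C.T (v15 C) [15, 40, 60, 81, 94, 109, 112] (v18 C) [14, 34, 53, 86, 92, 110, 122] :=
  C.closeT (p := (v2 C)) (pu := [8, 29, 50, 80, 108, 109, 119])
    (C.pT (f6961 C)
    (C.pH [12, 35, 50, 83] [15, 40, 60, 81, 94, 109, 112] (by decide +kernel) (C.pNil _ _)))
    (C.pH [12, 35, 50, 83] [14, 39, 53, 84, 110, 125] (by decide +kernel)
    (C.pT (f6965 C)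
    (C.pH [12, 35, 50, 83] [8, 29, 50, 80, 108, 109, 119] (by decide +kernel) (C.pNil _ _))))
    (C.loop_of_one (relLoop0 C) _ _)

theorem f6967 : C.T (v18 C) [14, 34, 53, 86, 92, 110, 122] (v15 C) [15, 40, 60, 81, 94, 109, 112] :=
  C.flip (f6966 C)

theorem f6968 : C.S (v2 C) [4, 46, 68, 85, 99, 109, 124] :=
  C.stMul (f211 C) (f149 C) _ (by decide +kernel)

theorem f6969 : C.S (v2 C) [22, 36, 90, 110, 124] :=
  C.stMul (f243 C) (f6968 C) _ (by decide +kernel)

theorem f6970 : C.S (v2 C) [21, 36, 57, 71, 106, 118] :=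
  C.stMul (f115 C) (f6969 C) _ (by decide +kernel)

theorem f6971 : C.S (v2 C) [12, 30, 69, 71, 93, 109, 122] :=
  C.stMul (f138 C) (f6970 C) _ (by decide +kernel)

theorem f6972 : C.T (v2 C) [15, 40, 59, 82, 91, 112] (v17 C) [7, 47, 51, 75, 101, 125] :=
  C.conv (f6632 C) (f6971 C) (f6971 C) _ [147, 171, 177] _ (by decide +kernel) (by decide +kernel) (by decide +kernel)

theorem f6973 : C.S (v2 C) [24, 36, 66, 89, 90, 114] :=
  C.stMul (f243 C) (f211 C) _ (by decide +kernel)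

theorem f6974 : C.S (v2 C) [7, 42, 66, 74, 107, 109, 111] :=
  C.stMul (f138 C) (f6973 C) _ (by decide +kernel)

theorem f6975 : C.S (v2 C) [17, 45, 51, 73, 99, 110] :=
  C.stMul (f211 C) (f6974 C) _ (by decide +kernel)

theorem f6976 : C.S (v2 C) [14, 34, 58, 84, 106, 110, 117] :=
  C.stMul (f101 C) (f6975 C) _ (by decide +kernel)

theorem f6977 : C.T (v2 C) [15, 28, 56, 87, 99, 109, 120] (v18 C) [5, 27, 54, 85, 108, 110, 119] :=
  C.conv (f6850 C) (f6867 C) (f6976 C) _ [137, 151, 175] _ (by decide +kernel) (by decide +kernel) (by decide +kernel)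

theorem f6978 : C.T (v18 C) [5, 27, 54, 85, 108, 110, 119] (v2 C) [15, 28, 56, 87, 99, 109, 120] :=
  C.flip (f6977 C)

theorem f6979 : C.T (v17 C) [7, 34, 49, 78, 103, 113] (v18 C) [5, 42, 61, 77, 94, 116] :=
  C.closeT (p := (v2 C)) (pu := [15, 40, 59, 82, 91, 112])
    (C.pT (f6972 C)
    (C.pH [12, 35, 50, 83] [7, 34, 49, 78, 103, 113] (by decide +kernel) (C.pNil _ _)))
    (C.pH [12, 35, 50, 83] [5, 27, 54, 85, 108, 110, 119] (by decide +kernel)
    (C.pT (f6978 C)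
    (C.pH [12, 35, 50, 83] [15, 40, 59, 82, 91, 112] (by decide +kernel) (C.pNil _ _))))
    (C.loop_of_one (relLoop0 C) _ _)

theorem f6980 : C.T (v18 C) [5, 42, 61, 77, 94, 116] (v17 C) [7, 34, 49, 78, 103, 113] :=
  C.flip (f6979 C)

theorem f6981 : C.T (v2 C) [16, 27, 59, 79, 103, 110, 124] (v17 C) [12, 30, 68, 70, 104, 109, 118] :=
  C.conv (f6632 C) (f6971 C) (f6971 C) _ [143, 156, 174, 177] _ (by decide +kernel) (by decide +kernel) (by decide +kernel)

theorem f6982 : C.S (v2 C) [23, 43, 68, 74, 104, 110, 114] :=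
  C.stMul (f125 C) (f138 C) _ (by decide +kernel)

theorem f6983 : C.T (v2 C) [16, 35, 53, 84, 104, 111] (v18 C) [21, 30, 56, 84, 91, 109, 121] :=
  C.conv (f6830 C) (f323 C) (f6982 C) _ [143, 160, 167, 175] _ (by decide +kernel) (by decide +kernel) (by decide +kernel)

theorem f6984 : C.T (v18 C) [21, 30, 56, 84, 91, 109, 121] (v2 C) [16, 35, 53, 84, 104, 111] :=
  C.flip (f6983 C)

theorem f6985 : C.T (v17 C) [23, 44, 50, 76, 98, 125] (v18 C) [10, 28, 50, 74, 107, 113] :=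
  C.closeT (p := (v2 C)) (pu := [16, 27, 59, 79, 103, 110, 124])
    (C.pT (f6981 C)
    (C.pH [12, 35, 50, 83] [23, 44, 50, 76, 98, 125] (by decide +kernel) (C.pNil _ _)))
    (C.pH [12, 35, 50, 83] [21, 30, 56, 84, 91, 109, 121] (by decide +kernel)
    (C.pT (f6984 C)
    (C.pH [12, 35, 50, 83] [16, 27, 59, 79, 103, 110, 124] (by decide +kernel) (C.pNil _ _))))
    (C.loop_of_one (relLoop0 C) _ _)

theorem f6986 : C.T (v18 C) [10, 28, 50, 74, 107, 113] (v17 C) [23, 44, 50, 76, 98, 125] :=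
  C.flip (f6985 C)

theorem f6987 : C.T (v2 C) [15, 44, 65, 80, 105, 110, 119] (v17 C) [42, 69, 70, 91, 110, 122] :=
  C.conv (f6632 C) (f6971 C) (f6971 C) _ [126, 152, 169, 178] _ (by decide +kernel) (by decide +kernel) (by decide +kernel)

theorem f6988 : C.S (v2 C) [22, 45, 58, 92, 109] :=
  C.stMul (f243 C) (f109 C) _ (by decide +kernel)

theorem f6989 : C.S (v2 C) [25, 37, 49, 82, 108, 109, 121] :=
  C.stMul (f138 C) (f6988 C) _ (by decide +kernel)

theorem f6990 : C.S (v2 C) [26, 44, 79, 108, 121] :=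
  C.stMul (f211 C) (f6989 C) _ (by decide +kernel)

theorem f6991 : C.T (v2 C) [15, 31, 52, 73, 108, 109, 116] (v18 C) [4, 27, 58, 78, 97, 109, 124] :=
  C.conv (f6850 C) (f6867 C) (f6990 C) _ [132, 149, 175, 178] _ (by decide +kernel) (by decide +kernel) (by decide +kernel)

theorem f6992 : C.T (v18 C) [4, 27, 58, 78, 97, 109, 124] (v2 C) [15, 31, 52, 73, 108, 109, 116] :=
  C.flip (f6991 C)

theorem f6993 : C.T (v17 C) [12, 41, 51, 81, 106, 122] (v18 C) [26, 42, 50, 81, 98, 109, 119] :=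
  C.closeT (p := (v2 C)) (pu := [15, 44, 65, 80, 105, 110, 119])
    (C.pT (f6987 C)
    (C.pH [12, 35, 50, 83] [12, 41, 51, 81, 106, 122] (by decide +kernel) (C.pNil _ _)))
    (C.pH [12, 35, 50, 83] [4, 27, 58, 78, 97, 109, 124] (by decide +kernel)
    (C.pT (f6992 C)
    (C.pH [12, 35, 50, 83] [15, 44, 65, 80, 105, 110, 119] (by decide +kernel) (C.pNil _ _))))
    (C.loop_of_one (relLoop0 C) _ _)

theorem f6994 : C.T (v18 C) [26, 42, 50, 81, 98, 109, 119] (v17 C) [12, 41, 51, 81, 106, 122] :=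
  C.flip (f6993 C)

theorem f6995 : C.T (v2 C) [24, 43, 52, 87, 107, 110, 121] (v17 C) [23, 27, 56, 72, 103, 110, 111] :=
  C.conv (f6632 C) (f6971 C) (f6971 C) _ [139, 155, 164, 175, 178] _ (by decide +kernel) (by decide +kernel) (by decide +kernel)

theorem f6996 : C.S (v2 C) [21, 36, 69, 75, 91, 110, 111] :=
  C.stMul (f138 C) (f6933 C) _ (by decide +kernel)

theorem f6997 : C.S (v2 C) [8, 46, 49, 82, 93, 120] :=
  C.stMul (f211 C) (f6996 C) _ (by decide +kernel)

theorem f6998 : C.T (v2 C) [19, 29, 69, 73, 106, 110, 121] (v18 C) [9, 29, 63, 77, 108, 109, 113] :=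
  C.conv (f6850 C) (f6867 C) (f6997 C) _ [128, 150, 167, 174, 178] _ (by decide +kernel) (by decide +kernel) (by decide +kernel)

theorem f6999 : C.T (v18 C) [9, 29, 63, 77, 108, 109, 113] (v2 C) [19, 29, 69, 73, 106, 110, 121] :=
  C.flip (f6998 C)

theorem f7000 : C.T (v17 C) [29, 89, 96, 115] (v18 C) [25, 34, 71, 107, 121] :=
  C.closeT (p := (v2 C)) (pu := [24, 43, 52, 87, 107, 110, 121])
    (C.pT (f6995 C)
    (C.pH [12, 35, 50, 83] [29, 89, 96, 115] (by decide +kernel) (C.pNil _ _)))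
    (C.pH [12, 35, 50, 83] [9, 29, 63, 77, 108, 109, 113] (by decide +kernel)
    (C.pT (f6999 C)
    (C.pH [12, 35, 50, 83] [24, 43, 52, 87, 107, 110, 121] (by decide +kernel) (C.pNil _ _))))
    (C.loop_of_one (relLoop0 C) _ _)

theorem f7001 : C.T (v18 C) [25, 34, 71, 107, 121] (v17 C) [29, 89, 96, 115] :=
  C.flip (f7000 C)

theorem f7002 : C.T (v2 C) [16, 27, 59, 85, 92, 110, 111] (v17 C) [7, 37, 60, 83, 103, 115] :=
  C.conv (f6632 C) (f6971 C) (f6971 C) _ [126, 152, 170, 175] _ (by decide +kernel) (by decide +kernel) (by decide +kernel)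

theorem f7003 : C.S (v2 C) [20, 48, 51, 81, 90, 116] :=
  C.stMul (f115 C) (f101 C) _ (by decide +kernel)

theorem f7004 : C.S (v2 C) [7, 34, 64, 72, 94, 110, 113] :=
  C.stMul (f243 C) (f7003 C) _ (by decide +kernel)

theorem f7005 : C.S (v2 C) [17, 33, 69, 75, 91, 109] :=
  C.stMul (f211 C) (f7004 C) _ (by decide +kernel)

theorem f7006 : C.S (v2 C) [14, 41, 56, 81, 90, 123] :=
  C.stMul (f243 C) (f7005 C) _ (by decide +kernel)

theorem f7007 : C.T (v2 C) [16, 35, 53, 106, 109, 116] (v18 C) [6, 39, 55, 71, 103, 109, 121] :=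
  C.conv (f6850 C) (f6867 C) (f7006 C) _ [147, 158, 165, 172] _ (by decide +kernel) (by decide +kernel) (by decide +kernel)

theorem f7008 : C.T (v18 C) [6, 39, 55, 71, 103, 109, 121] (v2 C) [16, 35, 53, 106, 109, 116] :=
  C.flip (f7007 C)

theorem f7009 : C.T (v17 C) [7, 47, 50, 70, 96, 113] (v18 C) [24, 33, 77, 94, 109, 122] :=
  C.closeT (p := (v2 C)) (pu := [16, 27, 59, 85, 92, 110, 111])
    (C.pT (f7002 C)
    (C.pH [12, 35, 50, 83] [7, 47, 50, 70, 96, 113] (by decide +kernel) (C.pNil _ _)))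
    (C.pH [12, 35, 50, 83] [6, 39, 55, 71, 103, 109, 121] (by decide +kernel)
    (C.pT (f7008 C)
    (C.pH [12, 35, 50, 83] [16, 27, 59, 85, 92, 110, 111] (by decide +kernel) (C.pNil _ _))))
    (C.loop_of_one (relLoop0 C) _ _)

theorem f7010 : C.T (v18 C) [24, 33, 77, 94, 109, 122] (v17 C) [7, 47, 50, 70, 96, 113] :=
  C.flip (f7009 C)

theorem f7011 : C.T (v2 C) [4, 46, 55, 108, 109, 114] (v17 C) [15, 32, 68, 92, 109, 114] :=
  C.conv (f6632 C) (f6971 C) (f6971 C) _ [133, 162, 166, 172] _ (by decide +kernel) (by decide +kernel) (by decide +kernel)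

theorem f7012 : C.S (v2 C) [20, 48, 49, 77, 103, 110, 112] :=
  C.stMul (f125 C) (f101 C) _ (by decide +kernel)

theorem f7013 : C.S (v2 C) [10, 43, 65, 81, 98, 110, 117] :=
  C.stMul (f211 C) (f7012 C) _ (by decide +kernel)

theorem f7014 : C.S (v2 C) [6, 68, 84, 100, 124] :=
  C.stMul (f211 C) (f7013 C) _ (by decide +kernel)

theorem f7015 : C.S (v2 C) [23, 43, 57, 71, 92, 113] :=
  C.stMul (f211 C) (f7014 C) _ (by decide +kernel)

theorem f7016 : C.T (v2 C) [26, 43, 56, 73, 101, 109, 125] (v18 C) [12, 29, 68, 82, 94, 109, 113] :=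
  C.conv (f6850 C) (f6867 C) (f7015 C) _ [140, 153, 165, 175] _ (by decide +kernel) (by decide +kernel) (by decide +kernel)

theorem f7017 : C.T (v18 C) [12, 29, 68, 82, 94, 109, 113] (v2 C) [26, 43, 56, 73, 101, 109, 125] :=
  C.flip (f7016 C)

theorem f7018 : C.T (v17 C) [15, 34, 57, 71, 92, 110, 123] (v18 C) [48, 55, 70, 99, 120] :=
  C.closeT (p := (v2 C)) (pu := [4, 46, 55, 108, 109, 114])
    (C.pT (f7011 C)
    (C.pH [12, 35, 50, 83] [15, 34, 57, 71, 92, 110, 123] (by decide +kernel) (C.pNil _ _)))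
    (C.pH [12, 35, 50, 83] [12, 29, 68, 82, 94, 109, 113] (by decide +kernel)
    (C.pT (f7017 C)
    (C.pH [12, 35, 50, 83] [4, 46, 55, 108, 109, 114] (by decide +kernel) (C.pNil _ _))))
    (C.loop_of_one (relLoop0 C) _ _)

theorem f7019 : C.T (v18 C) [48, 55, 70, 99, 120] (v17 C) [15, 34, 57, 71, 92, 110, 123] :=
  C.flip (f7018 C)

theorem f7020 : C.T (v2 C) [15, 36, 55, 80, 105, 110, 124] (v18 C) [21, 31, 59, 75, 102, 109, 113] :=
  C.conv (f6830 C) (f323 C) (f323 C) _ [143, 152, 167, 171] _ (by decide +kernel) (by decide +kernel) (by decide +kernel)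

theorem f7021 : C.S (v2 C) [12, 30, 59, 76, 108, 125] :=
  C.stMul (f149 C) (f6905 C) _ (by decide +kernel)

theorem f7022 : C.S (v2 C) [15, 46, 57, 82, 100, 117] :=
  C.stMul (f211 C) (f7021 C) _ (by decide +kernel)

theorem f7023 : C.T (v2 C) [15, 39, 61, 70, 102, 110, 112] (v18 C) [15, 36, 54, 73, 99, 109, 125] :=
  C.conv (f6850 C) (f6867 C) (f7022 C) _ [148, 152, 166, 174, 177] _ (by decide +kernel) (by decide +kernel) (by decide +kernel)

theorem f7024 : C.T (v18 C) [15, 36, 54, 73, 99, 109, 125] (v2 C) [15, 39, 61, 70, 102, 110, 112] :=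
  C.flip (f7023 C)

theorem f7025 : C.T (v18 C) [8, 45, 62, 81, 103, 115] (v18 C) [15, 39, 51, 87, 91, 109, 111] :=
  C.closeT (p := (v2 C)) (pu := [15, 36, 55, 80, 105, 110, 124])
    (C.pT (f7020 C)
    (C.pH [12, 35, 50, 83] [8, 45, 62, 81, 103, 115] (by decide +kernel) (C.pNil _ _)))
    (C.pH [12, 35, 50, 83] [15, 36, 54, 73, 99, 109, 125] (by decide +kernel)
    (C.pT (f7024 C)
    (C.pH [12, 35, 50, 83] [15, 36, 55, 80, 105, 110, 124] (by decide +kernel) (C.pNil _ _))))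
    (C.loop_of_one (relLoop0 C) _ _)

theorem f7026 : C.T (v18 C) [15, 39, 51, 87, 91, 109, 111] (v18 C) [8, 45, 62, 81, 103, 115] :=
  C.flip (f7025 C)

theorem f7027 : C.T (v2 C) [21, 40, 59, 85, 93, 110, 112] (v18 C) [7, 27, 63, 89, 117] :=
  C.conv (f6830 C) (f323 C) (f323 C) _ [129, 158, 166, 172, 178] _ (by decide +kernel) (by decide +kernel) (by decide +kernel)

theorem f7028 : C.S (v2 C) [13, 27, 65, 84, 101, 109, 118] :=
  C.stMul (f243 C) (f125 C) _ (by decide +kernel)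

theorem f7029 : C.S (v2 C) [11, 46, 58, 90, 110] :=
  C.stMul (f138 C) (f7028 C) _ (by decide +kernel)

theorem f7030 : C.T (v2 C) [10, 36, 65, 101, 117] (v18 C) [10, 41, 68, 73, 104, 109, 117] :=
  C.conv (f6850 C) (f6867 C) (f7029 C) _ [128, 155, 165, 174, 177] _ (by decide +kernel) (by decide +kernel) (by decide +kernel)

theorem f7031 : C.T (v18 C) [10, 41, 68, 73, 104, 109, 117] (v2 C) [10, 36, 65, 101, 117] :=
  C.flip (f7030 C)

theorem f7032 : C.T (v18 C) [7, 44, 59, 85, 102, 109, 125] (v18 C) [8, 31, 69, 78, 98, 115] :=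
  C.closeT (p := (v2 C)) (pu := [21, 40, 59, 85, 93, 110, 112])
    (C.pT (f7027 C)
    (C.pH [12, 35, 50, 83] [7, 44, 59, 85, 102, 109, 125] (by decide +kernel) (C.pNil _ _)))
    (C.pH [12, 35, 50, 83] [10, 41, 68, 73, 104, 109, 117] (by decide +kernel)
    (C.pT (f7031 C)
    (C.pH [12, 35, 50, 83] [21, 40, 59, 85, 93, 110, 112] (by decide +kernel) (C.pNil _ _))))
    (C.loop_of_one (relLoop0 C) _ _)

theorem f7034 : C.S (v18 C) [26, 43, 49, 77, 91, 110, 115] :=
  C.stMul (f6836 C) (f6836 C) _ (by decide +kernel)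

theorem f7036 : C.T (v2 C) [15, 27, 63, 85, 102, 109, 119] (v18 C) [4, 46, 49, 78, 101, 122] :=
  C.conv (f6830 C) (f323 C) (f323 C) _ [126, 159, 164, 173, 177] _ (by decide +kernel) (by decide +kernel) (by decide +kernel)

theorem f7037 : C.S (v2 C) [6, 46, 61, 80, 99, 109, 116] :=
  C.stMul (f211 C) (f125 C) _ (by decide +kernel)

theorem f7038 : C.S (v2 C) [23, 47, 65, 84, 101, 109, 118] :=
  C.stMul (f211 C) (f7037 C) _ (by decide +kernel)

theorem f7039 : C.S (v2 C) [6, 87, 104, 110, 113] :=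
  C.stMul (f149 C) (f7038 C) _ (by decide +kernel)

theorem f7040 : C.T (v2 C) [15, 37, 83, 94, 109, 123] (v18 C) [8, 45, 51, 70, 101, 109] :=
  C.conv (f6830 C) (f323 C) (f7039 C) _ [130, 162, 170, 174] _ (by decide +kernel) (by decide +kernel) (by decide +kernel)

theorem f7041 : C.T (v18 C) [8, 45, 51, 70, 101, 109] (v2 C) [15, 37, 83, 94, 109, 123] :=
  C.flip (f7040 C)

theorem f7042 : C.T (v18 C) [13, 44, 68, 71, 100, 109, 116] (v18 C) [21, 31, 56, 71, 100, 109] :=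
  C.closeT (p := (v2 C)) (pu := [15, 27, 63, 85, 102, 109, 119])
    (C.pT (f7036 C)
    (C.pH [12, 35, 50, 83] [13, 44, 68, 71, 100, 109, 116] (by decide +kernel) (C.pNil _ _)))
    (C.pH [12, 35, 50, 83] [8, 45, 51, 70, 101, 109] (by decide +kernel)
    (C.pT (f7041 C)
    (C.pH [12, 35, 50, 83] [15, 27, 63, 85, 102, 109, 119] (by decide +kernel) (C.pNil _ _))))
    (C.loop_of_one (relLoop0 C) _ _)

theorem f7045 : C.T (v2 C) [11, 29, 57, 79, 96, 118] (v18 C) [24, 35, 69, 72, 97, 110, 113] :=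
  C.conv (f6830 C) (f323 C) (f323 C) _ [146, 158, 168, 173, 177] _ (by decide +kernel) (by decide +kernel) (by decide +kernel)

theorem f7046 : C.S (v2 C) [23, 47, 56, 71, 104, 109, 114] :=
  C.stMul (f211 C) (f138 C) _ (by decide +kernel)

theorem f7047 : C.S (v2 C) [6, 56, 87, 93, 125] :=
  C.stMul (f125 C) (f7046 C) _ (by decide +kernel)

theorem f7048 : C.S (v2 C) [23, 43, 65, 81, 92, 110, 116] :=
  C.stMul (f211 C) (f7047 C) _ (by decide +kernel)

theorem f7049 : C.S (v2 C) [20, 48, 54, 74, 107, 110, 111] :=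
  C.stMul (f211 C) (f7048 C) _ (by decide +kernel)

theorem f7050 : C.T (v2 C) [22, 46, 55, 74, 92, 110, 111] (v18 C) [10, 38, 54, 71, 95, 110, 125] :=
  C.conv (f6850 C) (f6867 C) (f7049 C) _ [135, 162, 170, 175, 177] _ (by decide +kernel) (by decide +kernel) (by decide +kernel)

theorem f7051 : C.T (v18 C) [10, 38, 54, 71, 95, 110, 125] (v2 C) [22, 46, 55, 74, 92, 110, 111] :=
  C.flip (f7050 C)

theorem f7052 : C.T (v18 C) [6, 48, 67, 76, 98, 109, 116] (v18 C) [8, 35, 57, 83, 95, 110, 122] :=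
  C.closeT (p := (v2 C)) (pu := [11, 29, 57, 79, 96, 118])
    (C.pT (f7045 C)
    (C.pH [12, 35, 50, 83] [6, 48, 67, 76, 98, 109, 116] (by decide +kernel) (C.pNil _ _)))
    (C.pH [12, 35, 50, 83] [10, 38, 54, 71, 95, 110, 125] (by decide +kernel)
    (C.pT (f7051 C)
    (C.pH [12, 35, 50, 83] [11, 29, 57, 79, 96, 118] (by decide +kernel) (C.pNil _ _))))
    (C.loop_of_one (relLoop0 C) _ _)

theorem f7053 : C.T (v18 C) [8, 35, 57, 83, 95, 110, 122] (v18 C) [6, 48, 67, 76, 98, 109, 116] :=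
  C.flip (f7052 C)

theorem f7054 : C.T (v2 C) [25, 38, 67, 75, 97, 122] (v18 C) [11, 37, 69, 78, 106, 109, 121] :=
  C.conv (f6830 C) (f323 C) (f323 C) _ [133, 163, 169] _ (by decide +kernel) (by decide +kernel) (by decide +kernel)

theorem f7055 : C.S (v2 C) [24, 37, 68, 82, 104, 109] :=
  C.stMul (f243 C) (f149 C) _ (by decide +kernel)

theorem f7056 : C.S (v2 C) [22, 36, 54, 85, 101, 121] :=
  C.stMul (f149 C) (f7055 C) _ (by decide +kernel)

theorem f7057 : C.T (v2 C) [17, 36, 53, 89, 94, 109, 122] (v15 C) [13, 44, 71, 94, 124] :=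
  C.conv (f2638 C) (f3254 C) (f7056 C) _ [127, 150, 174, 178] _ (by decide +kernel) (by decide +kernel) (by decide +kernel)

theorem f7058 : C.T (v15 C) [13, 44, 71, 94, 124] (v2 C) [17, 36, 53, 89, 94, 109, 122] :=
  C.flip (f7057 C)

theorem f7059 : C.T (v18 C) [20, 34, 58, 84, 95, 109, 112] (v15 C) [4, 46, 60, 80, 104, 110, 113] :=
  C.closeT (p := (v2 C)) (pu := [25, 38, 67, 75, 97, 122])
    (C.pT (f7054 C)
    (C.pH [12, 35, 50, 83] [20, 34, 58, 84, 95, 109, 112] (by decide +kernel) (C.pNil _ _)))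
    (C.pH [12, 35, 50, 83] [13, 44, 71, 94, 124] (by decide +kernel)
    (C.pT (f7058 C)
    (C.pH [12, 35, 50, 83] [25, 38, 67, 75, 97, 122] (by decide +kernel) (C.pNil _ _))))
    (C.loop_of_one (relLoop0 C) _ _)

theorem f7060 : C.T (v15 C) [4, 46, 60, 80, 104, 110, 113] (v18 C) [20, 34, 58, 84, 95, 109, 112] :=
  C.flip (f7059 C)

theorem f7061 : C.T (v2 C) [25, 30, 62, 73, 99, 118] (v18 C) [12, 27, 69, 81, 100, 110, 125] :=
  C.conv (f6830 C) (f323 C) (f323 C) _ [134, 163, 169, 171, 178] _ (by decide +kernel) (by decide +kernel) (by decide +kernel)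

theorem f7062 : C.S (v2 C) [20, 63, 89, 93, 110, 115] :=
  C.stMul (f109 C) (f138 C) _ (by decide +kernel)

theorem f7063 : C.S (v2 C) [10, 47, 59, 85, 94, 110, 125] :=
  C.stMul (f211 C) (f7062 C) _ (by decide +kernel)

theorem f7064 : C.S (v2 C) [6, 46, 68, 75, 101, 110, 125] :=
  C.stMul (f211 C) (f7063 C) _ (by decide +kernel)

theorem f7065 : C.T (v2 C) [17, 47, 85, 104, 112] (v17 C) [11, 42, 55, 84, 93, 110, 115] :=
  C.conv (f6632 C) (f6971 C) (f7064 C) _ [131, 154, 172, 178] _ (by decide +kernel) (by decide +kernel) (by decide +kernel)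

theorem f7066 : C.T (v17 C) [11, 42, 55, 84, 93, 110, 115] (v2 C) [17, 47, 85, 104, 112] :=
  C.flip (f7065 C)

theorem f7067 : C.T (v18 C) [23, 39, 69, 84, 106, 110, 112] (v17 C) [22, 39, 55, 83, 101, 109, 124] :=
  C.closeT (p := (v2 C)) (pu := [25, 30, 62, 73, 99, 118])
    (C.pT (f7061 C)
    (C.pH [12, 35, 50, 83] [23, 39, 69, 84, 106, 110, 112] (by decide +kernel) (C.pNil _ _)))
    (C.pH [12, 35, 50, 83] [11, 42, 55, 84, 93, 110, 115] (by decide +kernel)
    (C.pT (f7066 C)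
    (C.pH [12, 35, 50, 83] [25, 30, 62, 73, 99, 118] (by decide +kernel) (C.pNil _ _))))
    (C.loop_of_one (relLoop0 C) _ _)

theorem f7068 : C.T (v17 C) [22, 39, 55, 83, 101, 109, 124] (v18 C) [23, 39, 69, 84, 106, 110, 112] :=
  C.flip (f7067 C)

theorem f7069 : C.T (v2 C) [17, 30, 67, 79, 103, 110, 121] (v18 C) [25, 48, 54, 70, 95, 109, 111] :=
  C.conv (f6850 C) (f6867 C) (f6867 C) _ [131, 149, 165, 178] _ (by decide +kernel) (by decide +kernel) (by decide +kernel)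

theorem f7070 : C.S (v2 C) [4, 46, 89, 107, 116] :=
  C.stMul (f211 C) (f101 C) _ (by decide +kernel)

theorem f7071 : C.S (v2 C) [18, 29, 49, 88, 108, 113] :=
  C.stMul (f211 C) (f7070 C) _ (by decide +kernel)

theorem f7072 : C.S (v2 C) [28, 59, 73, 90, 111] :=
  C.stMul (f211 C) (f7071 C) _ (by decide +kernel)

theorem f7073 : C.S (v2 C) [6, 59, 73, 98, 110, 122] :=
  C.stMul (f138 C) (f7072 C) _ (by decide +kernel)

theorem f7074 : C.T (v2 C) [9, 48, 67, 76, 92, 124] (v15 C) [24, 38, 53, 72, 106, 110, 119] :=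
  C.conv (f2638 C) (f3254 C) (f7073 C) _ [134, 158, 169, 172, 178] _ (by decide +kernel) (by decide +kernel) (by decide +kernel)

theorem f7075 : C.T (v15 C) [24, 38, 53, 72, 106, 110, 119] (v2 C) [9, 48, 67, 76, 92, 124] :=
  C.flip (f7074 C)

theorem f7076 : C.T (v18 C) [9, 31, 61, 81, 97, 109, 112] (v15 C) [19, 28, 59, 86, 95, 110, 123] :=
  C.closeT (p := (v2 C)) (pu := [17, 30, 67, 79, 103, 110, 121])
    (C.pT (f7069 C)
    (C.pH [12, 35, 50, 83] [9, 31, 61, 81, 97, 109, 112] (by decide +kernel) (C.pNil _ _)))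
    (C.pH [12, 35, 50, 83] [24, 38, 53, 72, 106, 110, 119] (by decide +kernel)
    (C.pT (f7075 C)
    (C.pH [12, 35, 50, 83] [17, 30, 67, 79, 103, 110, 121] (by decide +kernel) (C.pNil _ _))))
    (C.loop_of_one (relLoop0 C) _ _)

theorem f7077 : C.T (v15 C) [19, 28, 59, 86, 95, 110, 123] (v18 C) [9, 31, 61, 81, 97, 109, 112] :=
  C.flip (f7076 C)

theorem f7078 : C.T (v2 C) [23, 43, 49, 83, 95, 110, 119] (v18 C) [26, 62, 88, 103, 124] :=
  C.conv (f6850 C) (f6867 C) (f6867 C) _ [127, 156, 164, 175, 178] _ (by decide +kernel) (by decide +kernel) (by decide +kernel)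

theorem f7079 : C.T (v2 C) [12, 43, 54, 81, 109, 115] (v15 C) [21, 57, 97, 114] :=
  C.conv (f2638 C) (f3254 C) (f115 C) _ [142, 160, 170, 174, 177] _ (by decide +kernel) (by decide +kernel) (by decide +kernel)

theorem f7080 : C.T (v15 C) [21, 57, 97, 114] (v2 C) [12, 43, 54, 81, 109, 115] :=
  C.flip (f7079 C)

theorem f7081 : C.T (v18 C) [4, 31, 54, 80, 106, 123] (v15 C) [10, 34, 52, 97, 114] :=
  C.closeT (p := (v2 C)) (pu := [23, 43, 49, 83, 95, 110, 119])
    (C.pT (f7078 C)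
    (C.pH [12, 35, 50, 83] [4, 31, 54, 80, 106, 123] (by decide +kernel) (C.pNil _ _)))
    (C.pH [12, 35, 50, 83] [21, 57, 97, 114] (by decide +kernel)
    (C.pT (f7080 C)
    (C.pH [12, 35, 50, 83] [23, 43, 49, 83, 95, 110, 119] (by decide +kernel) (C.pNil _ _))))
    (C.loop_of_one (relLoop0 C) _ _)

theorem f7082 : C.T (v15 C) [10, 34, 52, 97, 114] (v18 C) [4, 31, 54, 80, 106, 123] :=
  C.flip (f7081 C)

theorem f7083 : C.T (v2 C) [9, 43, 52, 81, 91, 115] (v18 C) [20, 49, 78, 102, 109, 111] :=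
  C.conv (f6850 C) (f6867 C) (f6867 C) _ [129, 155, 169, 172, 177] _ (by decide +kernel) (by decide +kernel) (by decide +kernel)

theorem f7084 : C.S (v2 C) [23, 47, 68, 89, 105, 121] :=
  C.stMul (f138 C) (f211 C) _ (by decide +kernel)

theorem f7085 : C.S (v2 C) [20, 53, 83, 105, 110] :=
  C.stMul (f211 C) (f7084 C) _ (by decide +kernel)

theorem f7086 : C.T (v2 C) [25, 40, 50, 87, 91, 109] (v18 C) [20, 42, 61, 79, 98, 110, 111] :=
  C.conv (f6850 C) (f6867 C) (f7085 C) _ [133, 153, 167, 176, 178] _ (by decide +kernel) (by decide +kernel) (by decide +kernel)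

theorem f7087 : C.T (v18 C) [20, 42, 61, 79, 98, 110, 111] (v2 C) [25, 40, 50, 87, 91, 109] :=
  C.flip (f7086 C)

theorem f7088 : C.T (v18 C) [22, 30, 64, 74, 96, 109, 124] (v18 C) [11, 67, 82, 91] :=
  C.closeT (p := (v2 C)) (pu := [9, 43, 52, 81, 91, 115])
    (C.pT (f7083 C)
    (C.pH [12, 35, 50, 83] [22, 30, 64, 74, 96, 109, 124] (by decide +kernel) (C.pNil _ _)))
    (C.pH [12, 35, 50, 83] [20, 42, 61, 79, 98, 110, 111] (by decide +kernel)
    (C.pT (f7087 C)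
    (C.pH [12, 35, 50, 83] [9, 43, 52, 81, 91, 115] (by decide +kernel) (C.pNil _ _))))
    (C.loop_of_one (relLoop0 C) _ _)

theorem f7089 : C.T (v18 C) [11, 67, 82, 91] (v18 C) [22, 30, 64, 74, 96, 109, 124] :=
  C.flip (f7088 C)

theorem f7090 : C.T (v2 C) [13, 30, 51, 89, 91, 110, 112] (v18 C) [18, 44, 57, 77, 104, 110] :=
  C.conv (f6850 C) (f6867 C) (f6867 C) _ [145, 163, 169, 172, 178] _ (by decide +kernel) (by decide +kernel) (by decide +kernel)

theorem f7091 : C.S (v2 C) [20, 61, 78, 104, 112] :=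
  C.stMul (f149 C) (f211 C) _ (by decide +kernel)

theorem f7092 : C.S (v2 C) [6, 46, 67, 83, 94, 120] :=
  C.stMul (f109 C) (f7091 C) _ (by decide +kernel)

theorem f7093 : C.T (v2 C) [4, 43, 53, 86, 93, 109, 125] (v18 C) [22, 31, 52, 77, 104, 110, 114] :=
  C.conv (f6850 C) (f6867 C) (f7092 C) _ [159, 173] _ (by decide +kernel) (by decide +kernel) (by decide +kernel)

theorem f7094 : C.T (v18 C) [22, 31, 52, 77, 104, 110, 114] (v2 C) [4, 43, 53, 86, 93, 109, 125] :=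
  C.flip (f7093 C)

theorem f7095 : C.T (v18 C) [18, 48, 81, 103, 116] (v18 C) [20, 27, 66, 88, 108, 109, 115] :=
  C.closeT (p := (v2 C)) (pu := [13, 30, 51, 89, 91, 110, 112])
    (C.pT (f7090 C)
    (C.pH [12, 35, 50, 83] [18, 48, 81, 103, 116] (by decide +kernel) (C.pNil _ _)))
    (C.pH [12, 35, 50, 83] [22, 31, 52, 77, 104, 110, 114] (by decide +kernel)
    (C.pT (f7094 C)
    (C.pH [12, 35, 50, 83] [13, 30, 51, 89, 91, 110, 112] (by decide +kernel) (C.pNil _ _))))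
    (C.loop_of_one (relLoop0 C) _ _)

theorem f7098 : C.T (v2 C) [7, 30, 49, 79, 91, 109, 117] (v18 C) [21, 37, 65, 80, 104, 109, 120] :=
  C.conv (f6850 C) (f6867 C) (f6867 C) _ [128, 150, 168, 173, 177] _ (by decide +kernel) (by decide +kernel) (by decide +kernel)

theorem f7099 : C.S (v2 C) [10, 43, 56, 85, 99, 109, 116] :=
  C.stMul (f138 C) (f6919 C) _ (by decide +kernel)

theorem f7100 : C.T (v2 C) [7, 40, 67, 86, 105, 109, 123] (v18 C) [13, 35, 61, 79, 97, 118] :=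
  C.conv (f6850 C) (f6867 C) (f7099 C) _ [128, 149, 167, 174, 177] _ (by decide +kernel) (by decide +kernel) (by decide +kernel)

theorem f7101 : C.T (v18 C) [13, 35, 61, 79, 97, 118] (v2 C) [7, 40, 67, 86, 105, 109, 123] :=
  C.flip (f7100 C)

theorem f7102 : C.T (v18 C) [8, 47, 60, 80, 104, 109, 120] (v18 C) [4, 29, 55, 78, 95, 122] :=
  C.closeT (p := (v2 C)) (pu := [7, 30, 49, 79, 91, 109, 117])
    (C.pT (f7098 C)
    (C.pH [12, 35, 50, 83] [8, 47, 60, 80, 104, 109, 120] (by decide +kernel) (C.pNil _ _)))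
    (C.pH [12, 35, 50, 83] [13, 35, 61, 79, 97, 118] (by decide +kernel)
    (C.pT (f7101 C)
    (C.pH [12, 35, 50, 83] [7, 30, 49, 79, 91, 109, 117] (by decide +kernel) (C.pNil _ _))))
    (C.loop_of_one (relLoop0 C) _ _)

theorem f7103 : C.T (v18 C) [4, 29, 55, 78, 95, 122] (v18 C) [8, 47, 60, 80, 104, 109, 120] :=
  C.flip (f7102 C)

theorem f7104 : C.T (v2 C) [14, 48, 54, 85, 93, 110, 116] (v18 C) [18, 48, 54, 78, 112] :=
  C.conv (f6850 C) (f6867 C) (f6867 C) _ [142, 163, 167, 172] _ (by decide +kernel) (by decide +kernel) (by decide +kernel)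

theorem f7105 : C.S (v2 C) [20, 65, 72, 104, 109, 120] :=
  C.stMul (f125 C) (f211 C) _ (by decide +kernel)

theorem f7106 : C.S (v2 C) [7, 42, 52, 70, 103, 110, 111] :=
  C.stMul (f243 C) (f7105 C) _ (by decide +kernel)

theorem f7107 : C.S (v2 C) [24, 36, 60, 85, 94, 109, 121] :=
  C.stMul (f138 C) (f7106 C) _ (by decide +kernel)

theorem f7108 : C.S (v2 C) [16, 34, 87, 90, 125] :=
  C.stMul (f211 C) (f7107 C) _ (by decide +kernel)

theorem f7109 : C.T (v2 C) [14, 45, 69, 82, 106, 110, 112] (v17 C) [14, 41, 59, 74, 108, 125] :=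
  C.conv (f6632 C) (f6971 C) (f7108 C) _ [145, 154, 165, 171, 178] _ (by decide +kernel) (by decide +kernel) (by decide +kernel)

theorem f7110 : C.T (v17 C) [14, 41, 59, 74, 108, 125] (v2 C) [14, 45, 69, 82, 106, 110, 112] :=
  C.flip (f7109 C)

theorem f7111 : C.T (v18 C) [18, 43, 88, 90, 109, 111] (v17 C) [14, 41, 59, 71, 91, 123] :=
  C.closeT (p := (v2 C)) (pu := [14, 48, 54, 85, 93, 110, 116])
    (C.pT (f7104 C)
    (C.pH [12, 35, 50, 83] [18, 43, 88, 90, 109, 111] (by decide +kernel) (C.pNil _ _)))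
    (C.pH [12, 35, 50, 83] [14, 41, 59, 74, 108, 125] (by decide +kernel)
    (C.pT (f7110 C)
    (C.pH [12, 35, 50, 83] [14, 48, 54, 85, 93, 110, 116] (by decide +kernel) (C.pNil _ _))))
    (C.loop_of_one (relLoop0 C) _ _)

theorem f7112 : C.T (v17 C) [14, 41, 59, 71, 91, 123] (v18 C) [18, 43, 88, 90, 109, 111] :=
  C.flip (f7111 C)

theorem f7113 : C.T (v2 C) [38, 63, 73, 124] (v18 C) [21, 38, 59, 86, 106, 117] :=
  C.conv (f6850 C) (f6867 C) (f6867 C) _ [132, 156, 164, 171] _ (by decide +kernel) (by decide +kernel) (by decide +kernel)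

theorem f7114 : C.S (v2 C) [64, 74, 94, 114] :=
  C.stMul (f211 C) (f6883 C) _ (by decide +kernel)

theorem f7115 : C.S (v2 C) [9, 44, 61, 70, 109, 121] :=
  C.stMul (f211 C) (f7114 C) _ (by decide +kernel)

theorem f7116 : C.S (v2 C) [4, 48, 61, 84, 107, 109, 120] :=
  C.stMul (f211 C) (f7115 C) _ (by decide +kernel)

theorem f7117 : C.T (v2 C) [23, 35, 55, 89, 101, 110, 117] (v18 C) [5, 43, 54, 80, 100, 109, 117] :=
  C.conv (f6850 C) (f6867 C) (f7116 C) _ [130, 163, 167, 174, 178] _ (by decide +kernel) (by decide +kernel) (by decide +kernel)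

theorem f7118 : C.T (v18 C) [5, 43, 54, 80, 100, 109, 117] (v2 C) [23, 35, 55, 89, 101, 110, 117] :=
  C.flip (f7117 C)

theorem f7119 : C.T (v18 C) [8, 34, 68, 101, 110] (v18 C) [5, 43, 63, 70, 108, 118] :=
  C.closeT (p := (v2 C)) (pu := [38, 63, 73, 124])
    (C.pT (f7113 C)
    (C.pH [12, 35, 50, 83] [8, 34, 68, 101, 110] (by decide +kernel) (C.pNil _ _)))
    (C.pH [12, 35, 50, 83] [5, 43, 54, 80, 100, 109, 117] (by decide +kernel)
    (C.pT (f7118 C)
    (C.pH [12, 35, 50, 83] [38, 63, 73, 124] (by decide +kernel) (C.pNil _ _))))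
    (C.loop_of_one (relLoop0 C) _ _)

theorem f7121 : C.S (v18 C) [] :=
  C.stOne _

theorem f7123 : C.T (v2 C) [5, 37, 65, 87, 120] (v18 C) [4, 57, 73, 99, 110, 111] :=
  C.conv (f6850 C) (f6867 C) (f6867 C) _ [146, 154, 166, 172, 178] _ (by decide +kernel) (by decide +kernel) (by decide +kernel)

theorem f7124 : C.S (v2 C) [20, 50, 86, 101, 109, 117] :=
  C.stMul (f115 C) (f211 C) _ (by decide +kernel)

theorem f7125 : C.S (v2 C) [10, 47, 56, 71, 92, 109, 123] :=
  C.stMul (f211 C) (f7124 C) _ (by decide +kernel)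

theorem f7126 : C.S (v2 C) [6, 46, 64, 74, 104, 110, 118] :=
  C.stMul (f211 C) (f7125 C) _ (by decide +kernel)

theorem f7127 : C.T (v2 C) [5, 35, 66, 70, 90, 110, 112] (v15 C) [10, 36, 65, 82, 108, 110, 115] :=
  C.conv (f2638 C) (f3254 C) (f7126 C) _ [145, 155, 168, 174, 178] _ (by decide +kernel) (by decide +kernel) (by decide +kernel)

theorem f7128 : C.T (v15 C) [10, 36, 65, 82, 108, 110, 115] (v2 C) [5, 35, 66, 70, 90, 110, 112] :=
  C.flip (f7127 C)

theorem f7129 : C.T (v18 C) [13, 41, 54, 87, 95, 109, 122] (v15 C) [8, 42, 51, 86, 100, 119] :=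
  C.closeT (p := (v2 C)) (pu := [5, 37, 65, 87, 120])
    (C.pT (f7123 C)
    (C.pH [12, 35, 50, 83] [13, 41, 54, 87, 95, 109, 122] (by decide +kernel) (C.pNil _ _)))
    (C.pH [12, 35, 50, 83] [10, 36, 65, 82, 108, 110, 115] (by decide +kernel)
    (C.pT (f7128 C)
    (C.pH [12, 35, 50, 83] [5, 37, 65, 87, 120] (by decide +kernel) (C.pNil _ _))))
    (C.loop_of_one (relLoop0 C) _ _)

theorem f7130 : C.T (v15 C) [8, 42, 51, 86, 100, 119] (v18 C) [13, 41, 54, 87, 95, 109, 122] :=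
  C.flip (f7129 C)

theorem f7131 : C.T (v2 C) [5, 42, 58, 86, 103, 110, 114] (v1 C) [26, 45, 62, 77, 94, 109, 114] :=
  C.conv (f231 C) (f243 C) (f243 C) _ [131, 156, 170, 171, 177] _ (by decide +kernel) (by decide +kernel) (by decide +kernel)

theorem f7132 : C.S (v1 C) [15, 47, 54, 80, 90, 116] :=
  C.stMul (f3 C) (f445 C) _ (by decide +kernel)

theorem f7133 : C.S (v1 C) [23, 37, 51, 88, 97, 112] :=
  C.stMul (f27 C) (f7132 C) _ (by decide +kernel)

theorem f7134 : C.S (v1 C) [15, 34, 67, 82, 105, 109, 114] :=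
  C.stMul (f27 C) (f7133 C) _ (by decide +kernel)

theorem f7135 : C.S (v1 C) [23, 39, 52, 85, 109, 123] :=
  C.stMul (f27 C) (f7134 C) _ (by decide +kernel)

theorem f7136 : C.S (v1 C) [21, 39, 52, 85, 109, 123] :=
  C.stMul (f3 C) (f7135 C) _ (by decide +kernel)

theorem f7137 : C.S (v1 C) [9, 40, 52, 79, 95, 110, 123] :=
  C.stMul (f12 C) (f7136 C) _ (by decide +kernel)

theorem f7138 : C.T (v1 C) [14, 27, 65, 85, 106, 109] (v4 C) [24, 39, 56, 93, 110, 125] :=
  C.conv (f399 C) (f152 C) (f7137 C) _ [146, 154, 167, 176, 178] _ (by decide +kernel) (by decide +kernel) (by decide +kernel)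

theorem f7139 : C.S (v2 C) [13, 27, 61, 79, 105, 120] :=
  C.stMul (f138 C) (f243 C) _ (by decide +kernel)

theorem f7140 : C.S (v2 C) [12, 31, 63, 83, 96, 109, 120] :=
  C.stMul (f109 C) (f7139 C) _ (by decide +kernel)

theorem f7141 : C.T (v2 C) [14, 47, 56, 73, 92, 122] (v18 C) [8, 39, 52, 80, 98, 122] :=
  C.conv (f6850 C) (f6867 C) (f7140 C) _ [137, 157, 170, 178] _ (by decide +kernel) (by decide +kernel) (by decide +kernel)

theorem f7142 : C.T (v18 C) [8, 39, 52, 80, 98, 122] (v2 C) [14, 47, 56, 73, 92, 122] :=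
  C.flip (f7141 C)

theorem f7143 : C.T (v4 C) [12, 36, 63, 89, 94, 109, 116] (v18 C) [40, 52, 75, 107, 110, 116] :=
  C.closeT (p := (v2 C)) (pu := [5, 42, 58, 86, 103, 110, 114])
    (C.pT (f7131 C)
    (C.pH [8, 30, 65, 84, 94, 117] [14, 27, 65, 85, 106, 109] (by decide +kernel)
    (C.pT (f7138 C)
    (C.pH [26, 38, 54, 89, 90, 113] [12, 36, 63, 89, 94, 109, 116] (by decide +kernel) (C.pNil _ _)))))
    (C.pH [8, 30, 65, 84, 94, 117] [8, 39, 52, 80, 98, 122] (by decide +kernel)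
    (C.pT (f7142 C)
    (C.pH [26, 38, 54, 89, 90, 113] [5, 42, 58, 86, 103, 110, 114] (by decide +kernel) (C.pNil _ _))))
    (C.loop_of_one (relLoop1 C) _ _)

theorem f7144 : C.T (v18 C) [40, 52, 75, 107, 110, 116] (v4 C) [12, 36, 63, 89, 94, 109, 116] :=
  C.flip (f7143 C)

theorem f7145 : C.T (v2 C) [21, 64, 83, 90, 109, 112] (v2 C) [21, 35, 67, 83, 102, 110, 114] :=
  C.conv (f256 C) (f258 C) (f258 C) _ [129, 173] _ (by decide +kernel) (by decide +kernel) (by decide +kernel)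

theorem f7146 : C.S (v2 C) [23, 43, 61, 89, 99] :=
  C.stMul (f109 C) (f211 C) _ (by decide +kernel)

theorem f7147 : C.S (v2 C) [21, 36, 53, 72, 94, 112] :=
  C.stMul (f243 C) (f7146 C) _ (by decide +kernel)

theorem f7148 : C.S (v2 C) [7, 34, 61, 83, 102, 109, 121] :=
  C.stMul (f149 C) (f7147 C) _ (by decide +kernel)

theorem f7149 : C.T (v2 C) [24, 27, 76, 96, 125] (v5 C) [7, 44, 63, 70, 90, 110] :=
  C.conv (f982 C) (f323 C) (f7148 C) _ [129, 161, 170, 178] _ (by decide +kernel) (by decide +kernel) (by decide +kernel)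

theorem f7150 : C.S (v2 C) [20, 48, 60, 70, 100, 110, 111] :=
  C.stMul (f125 C) (f149 C) _ (by decide +kernel)

theorem f7151 : C.S (v2 C) [7, 34, 63, 110, 121] :=
  C.stMul (f243 C) (f7150 C) _ (by decide +kernel)

theorem f7152 : C.S (v2 C) [25, 42, 73, 101, 114] :=
  C.stMul (f149 C) (f7151 C) _ (by decide +kernel)

theorem f7153 : C.T (v2 C) [10, 67, 85, 105, 110, 122] (v18 C) [14, 30, 56, 95, 109, 115] :=
  C.conv (f6850 C) (f6867 C) (f7152 C) _ [130, 150, 167, 174, 178] _ (by decide +kernel) (by decide +kernel) (by decide +kernel)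

theorem f7154 : C.T (v18 C) [14, 30, 56, 95, 109, 115] (v2 C) [10, 67, 85, 105, 110, 122] :=
  C.flip (f7153 C)

theorem f7155 : C.T (v5 C) [34, 76, 90, 109, 114] (v18 C) [26, 28, 59, 70, 108, 117] :=
  C.closeT (p := (v2 C)) (pu := [21, 64, 83, 90, 109, 112])
    (C.pT (f7145 C)
    (C.pH [8, 30, 65, 84, 94, 117] [24, 27, 76, 96, 125] (by decide +kernel)
    (C.pT (f7149 C)
    (C.pH [26, 38, 54, 89, 90, 113] [34, 76, 90, 109, 114] (by decide +kernel) (C.pNil _ _)))))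
    (C.pH [8, 30, 65, 84, 94, 117] [14, 30, 56, 95, 109, 115] (by decide +kernel)
    (C.pT (f7154 C)
    (C.pH [26, 38, 54, 89, 90, 113] [21, 64, 83, 90, 109, 112] (by decide +kernel) (C.pNil _ _))))
    (C.loop_of_one (relLoop1 C) _ _)

theorem f7156 : C.T (v18 C) [26, 28, 59, 70, 108, 117] (v5 C) [34, 76, 90, 109, 114] :=
  C.flip (f7155 C)

theorem f7157 : C.T (v2 C) [14, 39, 68, 78, 103, 117] (v2 C) [14, 44, 66, 82, 91, 109, 113] :=
  C.conv (f256 C) (f258 C) (f258 C) _ [144, 160, 166, 172] _ (by decide +kernel) (by decide +kernel) (by decide +kernel)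

theorem f7158 : C.S (v2 C) [23, 47, 56, 71, 104, 109, 114] :=
  C.stMul (f211 C) (f138 C) _ (by decide +kernel)

theorem f7159 : C.S (v2 C) [6, 56, 87, 93, 125] :=
  C.stMul (f125 C) (f7158 C) _ (by decide +kernel)

theorem f7160 : C.S (v2 C) [12, 31, 68, 72, 110, 124] :=
  C.stMul (f243 C) (f7159 C) _ (by decide +kernel)

theorem f7161 : C.S (v2 C) [15, 32, 59, 82, 102, 113] :=
  C.stMul (f211 C) (f7160 C) _ (by decide +kernel)

theorem f7162 : C.T (v2 C) [5, 43, 56, 81, 104, 117] (v17 C) [9, 31, 57, 87, 102, 110, 119] :=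
  C.conv (f6632 C) (f6971 C) (f7161 C) _ [148, 158, 164, 171, 178] _ (by decide +kernel) (by decide +kernel) (by decide +kernel)

theorem f7163 : C.S (v2 C) [21, 36, 52, 86, 99, 110, 120] :=
  C.stMul (f149 C) (f243 C) _ (by decide +kernel)

theorem f7164 : C.S (v2 C) [11, 28, 63, 80, 98, 110, 116] :=
  C.stMul (f109 C) (f7163 C) _ (by decide +kernel)

theorem f7165 : C.T (v2 C) [12, 29, 65, 79, 106, 109] (v18 C) [26, 51, 75, 92, 122] :=
  C.conv (f6830 C) (f323 C) (f7164 C) _ [148, 157, 169, 176] _ (by decide +kernel) (by decide +kernel) (by decide +kernel)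

theorem f7166 : C.T (v18 C) [26, 51, 75, 92, 122] (v2 C) [12, 29, 65, 79, 106, 109] :=
  C.flip (f7165 C)

theorem f7167 : C.T (v17 C) [22, 28, 50, 79, 98, 123] (v18 C) [19, 30, 58, 78, 95, 110, 116] :=
  C.closeT (p := (v2 C)) (pu := [14, 39, 68, 78, 103, 117])
    (C.pT (f7157 C)
    (C.pH [8, 30, 65, 84, 94, 117] [5, 43, 56, 81, 104, 117] (by decide +kernel)
    (C.pT (f7162 C)
    (C.pH [26, 38, 54, 89, 90, 113] [22, 28, 50, 79, 98, 123] (by decide +kernel) (C.pNil _ _)))))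
    (C.pH [8, 30, 65, 84, 94, 117] [26, 51, 75, 92, 122] (by decide +kernel)
    (C.pT (f7166 C)
    (C.pH [26, 38, 54, 89, 90, 113] [14, 39, 68, 78, 103, 117] (by decide +kernel) (C.pNil _ _))))
    (C.loop_of_one (relLoop1 C) _ _)

theorem f7168 : C.T (v18 C) [19, 30, 58, 78, 95, 110, 116] (v17 C) [22, 28, 50, 79, 98, 123] :=
  C.flip (f7167 C)

theorem f7169 : C.T (v2 C) [20, 47, 51, 89, 102, 109, 124] (v2 C) [20, 32, 51, 75, 94, 125] :=
  C.conv (f256 C) (f258 C) (f258 C) _ [132, 167, 175, 177] _ (by decide +kernel) (by decide +kernel) (by decide +kernel)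

theorem f7170 : C.S (v2 C) [28, 53, 81, 103, 109, 117] :=
  C.stMul (f138 C) (f109 C) _ (by decide +kernel)

theorem f7171 : C.S (v2 C) [11, 28, 66, 73, 95, 110, 113] :=
  C.stMul (f243 C) (f7170 C) _ (by decide +kernel)

theorem f7172 : C.S (v2 C) [5, 45, 62, 76, 104, 109, 119] :=
  C.stMul (f211 C) (f7171 C) _ (by decide +kernel)

theorem f7173 : C.T (v2 C) [23, 40, 61, 76, 105, 120] (v18 C) [10, 37, 63, 107, 110, 115] :=
  C.conv (f6850 C) (f6867 C) (f7172 C) _ [126, 157, 168, 175, 177] _ (by decide +kernel) (by decide +kernel) (by decide +kernel)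

theorem f7174 : C.S (v2 C) [14, 41, 55, 75, 91, 109] :=
  C.stMul (f211 C) (f6988 C) _ (by decide +kernel)

theorem f7175 : C.S (v2 C) [19, 40, 66, 83, 103, 122] :=
  C.stMul (f138 C) (f7174 C) _ (by decide +kernel)

theorem f7176 : C.S (v2 C) [16, 34, 53, 81, 91, 122] :=
  C.stMul (f243 C) (f7175 C) _ (by decide +kernel)

theorem f7177 : C.T (v2 C) [17, 41, 57, 80, 98, 110, 123] (v18 C) [25, 30, 50, 80, 99, 110, 114] :=
  C.conv (f6850 C) (f6867 C) (f7176 C) _ [135, 161, 167, 172] _ (by decide +kernel) (by decide +kernel) (by decide +kernel)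

theorem f7178 : C.T (v18 C) [25, 30, 50, 80, 99, 110, 114] (v2 C) [17, 41, 57, 80, 98, 110, 123] :=
  C.flip (f7177 C)

theorem f7179 : C.T (v18 C) [21, 37, 52, 87, 106, 114] (v18 C) [4, 48, 79, 96, 110, 116] :=
  C.closeT (p := (v2 C)) (pu := [20, 47, 51, 89, 102, 109, 124])
    (C.pT (f7169 C)
    (C.pH [8, 30, 65, 84, 94, 117] [23, 40, 61, 76, 105, 120] (by decide +kernel)
    (C.pT (f7173 C)
    (C.pH [26, 38, 54, 89, 90, 113] [21, 37, 52, 87, 106, 114] (by decide +kernel) (C.pNil _ _)))))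
    (C.pH [8, 30, 65, 84, 94, 117] [25, 30, 50, 80, 99, 110, 114] (by decide +kernel)
    (C.pT (f7178 C)
    (C.pH [26, 38, 54, 89, 90, 113] [20, 47, 51, 89, 102, 109, 124] (by decide +kernel) (C.pNil _ _))))
    (C.loop_of_one (relLoop1 C) _ _)

theorem f7182 : C.T (v2 C) [25, 38, 59, 84, 95, 125] (v2 C) [25, 67, 72, 103, 114] :=
  C.conv (f256 C) (f258 C) (f258 C) _ [153, 170, 176] _ (by decide +kernel) (by decide +kernel) (by decide +kernel)

theorem f7183 : C.S (v2 C) [20, 48, 66, 80, 98, 121] :=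
  C.stMul (f149 C) (f101 C) _ (by decide +kernel)

theorem f7184 : C.S (v2 C) [6, 65, 80, 103, 110, 122] :=
  C.stMul (f109 C) (f7183 C) _ (by decide +kernel)

theorem f7185 : C.S (v2 C) [12, 31, 55, 77, 108, 109, 116] :=
  C.stMul (f243 C) (f7184 C) _ (by decide +kernel)

theorem f7186 : C.T (v2 C) [9, 47, 52, 76, 90, 124] (v18 C) [26, 31, 57, 83, 97, 110, 112] :=
  C.conv (f6850 C) (f6867 C) (f7185 C) _ [130, 162, 165, 172, 178] _ (by decide +kernel) (by decide +kernel) (by decide +kernel)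

theorem f7187 : C.S (v2 C) [18, 44, 60, 72, 100, 117] :=
  C.stMul (f138 C) (f125 C) _ (by decide +kernel)

theorem f7188 : C.S (v2 C) [4, 46, 49, 89, 100, 110] :=
  C.stMul (f149 C) (f7187 C) _ (by decide +kernel)

theorem f7189 : C.S (v2 C) [22, 36, 56, 92, 114] :=
  C.stMul (f243 C) (f7188 C) _ (by decide +kernel)

theorem f7190 : C.T (v2 C) [4, 34, 67, 83, 101, 121] (v18 C) [12, 45, 53, 73, 100, 109, 122] :=
  C.conv (f6850 C) (f6867 C) (f7189 C) _ [129, 149, 168, 174, 177] _ (by decide +kernel) (by decide +kernel) (by decide +kernel)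

theorem f7191 : C.T (v18 C) [12, 45, 53, 73, 100, 109, 122] (v2 C) [4, 34, 67, 83, 101, 121] :=
  C.flip (f7190 C)

theorem f7192 : C.T (v18 C) [16, 35, 67, 88, 91, 110, 124] (v18 C) [5, 51, 75, 94, 117] :=
  C.closeT (p := (v2 C)) (pu := [25, 38, 59, 84, 95, 125])
    (C.pT (f7182 C)
    (C.pH [8, 30, 65, 84, 94, 117] [9, 47, 52, 76, 90, 124] (by decide +kernel)
    (C.pT (f7186 C)
    (C.pH [26, 38, 54, 89, 90, 113] [16, 35, 67, 88, 91, 110, 124] (by decide +kernel) (C.pNil _ _)))))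
    (C.pH [8, 30, 65, 84, 94, 117] [12, 45, 53, 73, 100, 109, 122] (by decide +kernel)
    (C.pT (f7191 C)
    (C.pH [26, 38, 54, 89, 90, 113] [25, 38, 59, 84, 95, 125] (by decide +kernel) (C.pNil _ _))))
    (C.loop_of_one (relLoop1 C) _ _)

theorem f7195 : C.T (v2 C) [15, 28, 79, 91, 117] (v2 C) [5, 41, 63, 74, 93, 119] :=
  C.conv (f285 C) (f211 C) (f211 C) _ [143, 156, 166, 176, 177] _ (by decide +kernel) (by decide +kernel) (by decide +kernel)

theorem f7196 : C.S (v2 C) [12, 30, 65, 71, 93, 111] :=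
  C.stMul (f243 C) (f6950 C) _ (by decide +kernel)

theorem f7197 : C.T (v2 C) [12, 32, 57, 83, 90, 115] (v18 C) [24, 28, 59, 82, 113] :=
  C.conv (f6850 C) (f6867 C) (f7196 C) _ [128, 160, 169, 173] _ (by decide +kernel) (by decide +kernel) (by decide +kernel)

theorem f7198 : C.S (v2 C) [4, 46, 64, 85, 105, 121] :=
  C.stMul (f125 C) (f6868 C) _ (by decide +kernel)

theorem f7199 : C.S (v2 C) [22, 36, 64, 74, 91, 110, 118] :=
  C.stMul (f243 C) (f7198 C) _ (by decide +kernel)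

theorem f7200 : C.S (v2 C) [13, 27, 49, 84, 108, 110, 119] :=
  C.stMul (f149 C) (f7199 C) _ (by decide +kernel)

theorem f7201 : C.T (v2 C) [20, 38, 61, 86, 95, 110, 120] (v18 C) [9, 27, 67, 78, 95, 120] :=
  C.conv (f6850 C) (f6867 C) (f7200 C) _ [132, 161, 166, 175, 177] _ (by decide +kernel) (by decide +kernel) (by decide +kernel)

theorem f7202 : C.T (v18 C) [9, 27, 67, 78, 95, 120] (v2 C) [20, 38, 61, 86, 95, 110, 120] :=
  C.flip (f7201 C)

theorem f7203 : C.T (v18 C) [12, 34, 50, 87, 91, 109, 116] (v18 C) [25, 40, 68, 83, 96, 110, 125] :=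
  C.closeT (p := (v2 C)) (pu := [15, 28, 79, 91, 117])
    (C.pT (f7195 C)
    (C.pH [8, 30, 65, 84, 94, 117] [12, 32, 57, 83, 90, 115] (by decide +kernel)
    (C.pT (f7197 C)
    (C.pH [26, 38, 54, 89, 90, 113] [12, 34, 50, 87, 91, 109, 116] (by decide +kernel) (C.pNil _ _)))))
    (C.pH [8, 30, 65, 84, 94, 117] [9, 27, 67, 78, 95, 120] (by decide +kernel)
    (C.pT (f7202 C)
    (C.pH [26, 38, 54, 89, 90, 113] [15, 28, 79, 91, 117] (by decide +kernel) (C.pNil _ _))))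
    (C.loop_of_one (relLoop1 C) _ _)

theorem f7207 : C.T (v2 C) [6, 36, 64, 72, 107, 109, 120] (v2 C) [21, 28, 63, 80, 101, 110, 125] :=
  C.conv (f285 C) (f211 C) (f211 C) _ [127, 158, 169, 174, 177] _ (by decide +kernel) (by decide +kernel) (by decide +kernel)

theorem f7208 : C.S (v2 C) [23, 43, 61, 89, 99] :=
  C.stMul (f109 C) (f211 C) _ (by decide +kernel)

theorem f7209 : C.S (v2 C) [10, 47, 60, 84, 108, 110, 118] :=
  C.stMul (f138 C) (f7208 C) _ (by decide +kernel)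

theorem f7210 : C.S (v2 C) [6, 46, 62, 79, 100, 109, 118] :=
  C.stMul (f211 C) (f7209 C) _ (by decide +kernel)

theorem f7211 : C.T (v2 C) [24, 38, 59, 75, 90, 109, 111] (v18 C) [23, 32, 60, 77, 101, 110, 113] :=
  C.conv (f6850 C) (f6867 C) (f7210 C) _ [129, 156, 169, 173] _ (by decide +kernel) (by decide +kernel) (by decide +kernel)

theorem f7212 : C.S (v2 C) [18, 44, 59, 82, 92, 122] :=
  C.stMul (f149 C) (f138 C) _ (by decide +kernel)

theorem f7213 : C.S (v2 C) [56, 99] :=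
  C.stMul (f211 C) (f7212 C) _ (by decide +kernel)

theorem f7214 : C.S (v2 C) [11, 46, 60, 83, 101, 110, 114] :=
  C.stMul (f243 C) (f7213 C) _ (by decide +kernel)

theorem f7215 : C.T (v2 C) [21, 28, 62, 79, 101, 110] (v17 C) [11, 28, 63, 89, 106, 109, 122] :=
  C.conv (f6632 C) (f6971 C) (f7214 C) _ [136, 151, 167, 176] _ (by decide +kernel) (by decide +kernel) (by decide +kernel)

theorem f7216 : C.T (v17 C) [11, 28, 63, 89, 106, 109, 122] (v2 C) [21, 28, 62, 79, 101, 110] :=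
  C.flip (f7215 C)

theorem f7217 : C.T (v18 C) [7, 41, 58, 83, 104, 121] (v17 C) [13, 31, 58, 78, 97, 109, 119] :=
  C.closeT (p := (v2 C)) (pu := [6, 36, 64, 72, 107, 109, 120])
    (C.pT (f7207 C)
    (C.pH [8, 30, 65, 84, 94, 117] [24, 38, 59, 75, 90, 109, 111] (by decide +kernel)
    (C.pT (f7211 C)
    (C.pH [26, 38, 54, 89, 90, 113] [7, 41, 58, 83, 104, 121] (by decide +kernel) (C.pNil _ _)))))
    (C.pH [8, 30, 65, 84, 94, 117] [11, 28, 63, 89, 106, 109, 122] (by decide +kernel)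
    (C.pT (f7216 C)
    (C.pH [26, 38, 54, 89, 90, 113] [6, 36, 64, 72, 107, 109, 120] (by decide +kernel) (C.pNil _ _))))
    (C.loop_of_one (relLoop1 C) _ _)

theorem f7218 : C.T (v17 C) [13, 31, 58, 78, 97, 109, 119] (v18 C) [7, 41, 58, 83, 104, 121] :=
  C.flip (f7217 C)

theorem f7219 : C.T (v2 C) [9, 41, 50, 80, 103, 109, 123] (v2 C) [24, 39, 67, 74, 93, 109, 122] :=
  C.conv (f285 C) (f211 C) (f211 C) _ [144, 149, 167, 174, 177] _ (by decide +kernel) (by decide +kernel) (by decide +kernel)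

theorem f7220 : C.S (v2 C) [57, 81, 107, 110, 123] :=
  C.stMul (f149 C) (f115 C) _ (by decide +kernel)

theorem f7221 : C.S (v2 C) [9, 44, 60, 72, 94, 124] :=
  C.stMul (f211 C) (f7220 C) _ (by decide +kernel)

theorem f7222 : C.T (v2 C) [16, 33, 50, 84, 90, 110, 118] (v18 C) [24, 28, 57, 73, 98, 115] :=
  C.conv (f6830 C) (f323 C) (f7221 C) _ [146, 161, 167, 173, 177] _ (by decide +kernel) (by decide +kernel) (by decide +kernel)

theorem f7223 : C.S (v2 C) [20, 65, 72, 104, 109, 120] :=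
  C.stMul (f125 C) (f211 C) _ (by decide +kernel)

theorem f7224 : C.S (v2 C) [4, 48, 58, 78, 95, 110, 122] :=
  C.stMul (f138 C) (f7223 C) _ (by decide +kernel)

theorem f7225 : C.T (v2 C) [15, 37, 56, 83, 109, 125] (v18 C) [6, 27, 60, 70, 96, 109, 120] :=
  C.conv (f6830 C) (f323 C) (f7224 C) _ [128, 152, 169, 176, 177] _ (by decide +kernel) (by decide +kernel) (by decide +kernel)

theorem f7226 : C.T (v18 C) [6, 27, 60, 70, 96, 109, 120] (v2 C) [15, 37, 56, 83, 109, 125] :=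
  C.flip (f7225 C)

theorem f7227 : C.T (v18 C) [12, 34, 56, 85, 100, 109, 113] (v18 C) [22, 29, 53, 76, 110, 111] :=
  C.closeT (p := (v2 C)) (pu := [9, 41, 50, 80, 103, 109, 123])
    (C.pT (f7219 C)
    (C.pH [8, 30, 65, 84, 94, 117] [16, 33, 50, 84, 90, 110, 118] (by decide +kernel)
    (C.pT (f7222 C)
    (C.pH [26, 38, 54, 89, 90, 113] [12, 34, 56, 85, 100, 109, 113] (by decide +kernel) (C.pNil _ _)))))
    (C.pH [8, 30, 65, 84, 94, 117] [6, 27, 60, 70, 96, 109, 120] (by decide +kernel)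
    (C.pT (f7226 C)
    (C.pH [26, 38, 54, 89, 90, 113] [9, 41, 50, 80, 103, 109, 123] (by decide +kernel) (C.pNil _ _))))
    (C.loop_of_one (relLoop1 C) _ _)

theorem f7230 : C.T (v2 C) [6, 29, 56, 74, 108, 110, 122] (v2 C) [8, 40, 59, 78, 104, 109, 125] :=
  C.conv (f307 C) (f311 C) (f311 C) _ [146, 151, 173, 177] _ (by decide +kernel) (by decide +kernel) (by decide +kernel)

theorem f7231 : C.S (v2 C) [4, 48, 69, 79, 94, 109, 124] :=
  C.stMul (f211 C) (f211 C) _ (by decide +kernel)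

theorem f7232 : C.S (v2 C) [28, 55, 71, 96, 114] :=
  C.stMul (f138 C) (f7231 C) _ (by decide +kernel)

theorem f7233 : C.T (v2 C) [32, 63, 76, 92, 109, 112] (v18 C) [25, 30, 54, 85, 96, 110, 115] :=
  C.conv (f6830 C) (f323 C) (f7232 C) _ [147, 150, 168, 173, 177] _ (by decide +kernel) (by decide +kernel) (by decide +kernel)

theorem f7234 : C.T (v2 C) [21, 44, 57, 87, 102, 110, 123] (v18 C) [17, 43, 57, 88, 104, 111] :=
  C.conv (f6850 C) (f6867 C) (f6905 C) _ [138, 159, 164, 174] _ (by decide +kernel) (by decide +kernel) (by decide +kernel)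

theorem f7235 : C.T (v18 C) [17, 43, 57, 88, 104, 111] (v2 C) [21, 44, 57, 87, 102, 110, 123] :=
  C.flip (f7234 C)

theorem f7236 : C.T (v18 C) [18, 37, 58, 71, 105, 110, 125] (v18 C) [7, 39, 59, 80, 97, 118] :=
  C.closeT (p := (v2 C)) (pu := [6, 29, 56, 74, 108, 110, 122])
    (C.pT (f7230 C)
    (C.pH [8, 30, 65, 84, 94, 117] [32, 63, 76, 92, 109, 112] (by decide +kernel)
    (C.pT (f7233 C)
    (C.pH [26, 38, 54, 89, 90, 113] [18, 37, 58, 71, 105, 110, 125] (by decide +kernel) (C.pNil _ _)))))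
    (C.pH [8, 30, 65, 84, 94, 117] [17, 43, 57, 88, 104, 111] (by decide +kernel)
    (C.pT (f7235 C)
    (C.pH [26, 38, 54, 89, 90, 113] [6, 29, 56, 74, 108, 110, 122] (by decide +kernel) (C.pNil _ _))))
    (C.loop_of_one (relLoop1 C) _ _)

theorem f7237 : C.T (v18 C) [7, 39, 59, 80, 97, 118] (v18 C) [18, 37, 58, 71, 105, 110, 125] :=
  C.flip (f7236 C)

theorem f7238 : C.T (v2 C) [23, 38, 64, 88, 92, 109, 124] (v2 C) [26, 40, 67, 84, 98, 109, 116] :=
  C.conv (f307 C) (f311 C) (f311 C) _ [133, 149, 165, 172, 177] _ (by decide +kernel) (by decide +kernel) (by decide +kernel)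

theorem f7239 : C.S (v2 C) [26, 44, 51, 76, 108, 121] :=
  C.stMul (f101 C) (f6899 C) _ (by decide +kernel)

theorem f7240 : C.S (v2 C) [8, 42, 52, 99, 110, 112] :=
  C.stMul (f243 C) (f7239 C) _ (by decide +kernel)

theorem f7241 : C.T (v2 C) [14, 36, 68, 80, 94, 109, 116] (v18 C) [20, 44, 59, 79, 103, 124] :=
  C.conv (f6850 C) (f6867 C) (f7240 C) _ [133, 149, 168, 172, 177] _ (by decide +kernel) (by decide +kernel) (by decide +kernel)

theorem f7242 : C.T (v2 C) [13, 46, 61, 73, 94, 125] (v18 C) [32, 52, 78, 98, 109, 121] :=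
  C.conv (f6850 C) (f6867 C) (f6908 C) _ [133, 149, 166] _ (by decide +kernel) (by decide +kernel) (by decide +kernel)

theorem f7243 : C.T (v18 C) [32, 52, 78, 98, 109, 121] (v2 C) [13, 46, 61, 73, 94, 125] :=
  C.flip (f7242 C)

theorem f7244 : C.T (v18 C) [15, 30, 59, 75, 98, 123] (v18 C) [8, 40, 65, 71, 94, 110, 121] :=
  C.closeT (p := (v2 C)) (pu := [23, 38, 64, 88, 92, 109, 124])
    (C.pT (f7238 C)
    (C.pH [8, 30, 65, 84, 94, 117] [14, 36, 68, 80, 94, 109, 116] (by decide +kernel)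
    (C.pT (f7241 C)
    (C.pH [26, 38, 54, 89, 90, 113] [15, 30, 59, 75, 98, 123] (by decide +kernel) (C.pNil _ _)))))
    (C.pH [8, 30, 65, 84, 94, 117] [32, 52, 78, 98, 109, 121] (by decide +kernel)
    (C.pT (f7243 C)
    (C.pH [26, 38, 54, 89, 90, 113] [23, 38, 64, 88, 92, 109, 124] (by decide +kernel) (C.pNil _ _))))
    (C.loop_of_one (relLoop1 C) _ _)

theorem f7247 : C.T (v2 C) [8, 68, 89, 96, 109, 117] (v2 C) [25, 44, 62, 81, 105, 109, 112] :=
  C.conv (f307 C) (f311 C) (f311 C) _ [148, 154, 166, 171, 178] _ (by decide +kernel) (by decide +kernel) (by decide +kernel)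

theorem f7248 : C.S (v2 C) [23, 43, 68, 74, 104, 110, 114] :=
  C.stMul (f125 C) (f138 C) _ (by decide +kernel)

theorem f7249 : C.S (v2 C) [21, 36, 66, 83, 107, 111] :=
  C.stMul (f243 C) (f7248 C) _ (by decide +kernel)

theorem f7250 : C.S (v2 C) [8, 46, 64, 84, 102, 109, 123] :=
  C.stMul (f211 C) (f7249 C) _ (by decide +kernel)

theorem f7251 : C.T (v2 C) [9, 29, 63, 88, 97, 110, 118] (v18 C) [9, 59, 70, 93, 109, 124] :=
  C.conv (f6850 C) (f6867 C) (f7250 C) _ [147, 164, 175, 178] _ (by decide +kernel) (by decide +kernel) (by decide +kernel)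

theorem f7252 : C.S (v2 C) [22, 45, 57, 85, 99, 109, 112] :=
  C.stMul (f149 C) (f865 C) _ (by decide +kernel)

theorem f7253 : C.T (v2 C) [5, 41, 53, 74, 95, 116] (v4 C) [9, 32, 54, 89, 104] :=
  C.conv (f857 C) (f864 C) (f7252 C) _ [138, 155, 168, 176, 177] _ (by decide +kernel) (by decide +kernel) (by decide +kernel)

theorem f7254 : C.T (v4 C) [9, 32, 54, 89, 104] (v2 C) [5, 41, 53, 74, 95, 116] :=
  C.flip (f7253 C)

theorem f7255 : C.T (v18 C) [22, 42, 53, 82, 90, 125] (v4 C) [25, 47, 53, 71, 92, 122] :=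
  C.closeT (p := (v2 C)) (pu := [8, 68, 89, 96, 109, 117])
    (C.pT (f7247 C)
    (C.pH [8, 30, 65, 84, 94, 117] [9, 29, 63, 88, 97, 110, 118] (by decide +kernel)
    (C.pT (f7251 C)
    (C.pH [26, 38, 54, 89, 90, 113] [22, 42, 53, 82, 90, 125] (by decide +kernel) (C.pNil _ _)))))
    (C.pH [8, 30, 65, 84, 94, 117] [9, 32, 54, 89, 104] (by decide +kernel)
    (C.pT (f7254 C)
    (C.pH [26, 38, 54, 89, 90, 113] [8, 68, 89, 96, 109, 117] (by decide +kernel) (C.pNil _ _))))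
    (C.loop_of_one (relLoop1 C) _ _)

theorem f7256 : C.T (v4 C) [25, 47, 53, 71, 92, 122] (v18 C) [22, 42, 53, 82, 90, 125] :=
  C.flip (f7255 C)

theorem f7257 : C.T (v2 C) [17, 46, 62, 89, 101, 110, 117] (v2 C) [22, 48, 56, 83, 91, 110, 123] :=
  C.conv (f307 C) (f311 C) (f311 C) _ [141, 156, 165, 173] _ (by decide +kernel) (by decide +kernel) (by decide +kernel)

theorem f7258 : C.S (v2 C) [19, 34, 67, 81, 96] :=
  C.stMul (f211 C) (f7028 C) _ (by decide +kernel)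

theorem f7259 : C.T (v2 C) [6, 43, 53, 80, 90, 109] (v18 C) [14, 47, 66, 79, 103, 124] :=
  C.conv (f6850 C) (f6867 C) (f7258 C) _ [130, 151, 169, 173] _ (by decide +kernel) (by decide +kernel) (by decide +kernel)

theorem f7260 : C.S (v2 C) [20, 48, 67, 87, 99, 110, 122] :=
  C.stMul (f211 C) (f6982 C) _ (by decide +kernel)

theorem f7261 : C.T (v2 C) [19, 42, 50, 80, 96, 110, 121] (v18 C) [6, 34, 60, 81, 96, 110] :=
  C.conv (f6830 C) (f323 C) (f7260 C) _ [128, 162, 169, 172, 178] _ (by decide +kernel) (by decide +kernel) (by decide +kernel)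

theorem f7262 : C.T (v18 C) [6, 34, 60, 81, 96, 110] (v2 C) [19, 42, 50, 80, 96, 110, 121] :=
  C.flip (f7261 C)

theorem f7263 : C.T (v18 C) [5, 42, 56, 78, 98, 123] (v18 C) [22, 36, 49, 81, 96, 110] :=
  C.closeT (p := (v2 C)) (pu := [17, 46, 62, 89, 101, 110, 117])
    (C.pT (f7257 C)
    (C.pH [8, 30, 65, 84, 94, 117] [6, 43, 53, 80, 90, 109] (by decide +kernel)
    (C.pT (f7259 C)
    (C.pH [26, 38, 54, 89, 90, 113] [5, 42, 56, 78, 98, 123] (by decide +kernel) (C.pNil _ _)))))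
    (C.pH [8, 30, 65, 84, 94, 117] [6, 34, 60, 81, 96, 110] (by decide +kernel)
    (C.pT (f7262 C)
    (C.pH [26, 38, 54, 89, 90, 113] [17, 46, 62, 89, 101, 110, 117] (by decide +kernel) (C.pNil _ _))))
    (C.loop_of_one (relLoop1 C) _ _)

theorem f7264 : C.T (v18 C) [22, 36, 49, 81, 96, 110] (v18 C) [5, 42, 56, 78, 98, 123] :=
  C.flip (f7263 C)

theorem f7265 : C.T (v2 C) [24, 45, 59, 74, 92, 123] (v2 C) [26, 48, 69, 71, 95, 109, 124] :=
  C.conv (f307 C) (f311 C) (f311 C) _ [147, 153, 164, 176, 177] _ (by decide +kernel) (by decide +kernel) (by decide +kernel)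

theorem f7266 : C.T (v2 C) [14, 38, 64, 85, 103, 119] (v18 C) [6, 43, 51, 83, 100, 109, 118] :=
  C.conv (f6850 C) (f6867 C) (f7208 C) _ [135, 164, 172, 178] _ (by decide +kernel) (by decide +kernel) (by decide +kernel)

theorem f7267 : C.S (v2 C) [58, 74, 103, 109, 116] :=
  C.stMul (f149 C) (f125 C) _ (by decide +kernel)

theorem f7268 : C.T (v2 C) [11, 37, 59, 79, 94, 119] (v17 C) [7, 42, 54, 80, 107, 109, 114] :=
  C.conv (f6632 C) (f6971 C) (f7267 C) _ [132, 158, 167, 176, 178] _ (by decide +kernel) (by decide +kernel) (by decide +kernel)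

theorem f7269 : C.T (v17 C) [7, 42, 54, 80, 107, 109, 114] (v2 C) [11, 37, 59, 79, 94, 119] :=
  C.flip (f7268 C)

theorem f7270 : C.T (v18 C) [4, 41, 66, 70, 101, 109, 124] (v17 C) [11, 29, 62, 86, 93, 125] :=
  C.closeT (p := (v2 C)) (pu := [24, 45, 59, 74, 92, 123])
    (C.pT (f7265 C)
    (C.pH [8, 30, 65, 84, 94, 117] [14, 38, 64, 85, 103, 119] (by decide +kernel)
    (C.pT (f7266 C)
    (C.pH [26, 38, 54, 89, 90, 113] [4, 41, 66, 70, 101, 109, 124] (by decide +kernel) (C.pNil _ _)))))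
    (C.pH [8, 30, 65, 84, 94, 117] [7, 42, 54, 80, 107, 109, 114] (by decide +kernel)
    (C.pT (f7269 C)
    (C.pH [26, 38, 54, 89, 90, 113] [24, 45, 59, 74, 92, 123] (by decide +kernel) (C.pNil _ _))))
    (C.loop_of_one (relLoop1 C) _ _)

theorem f7271 : C.T (v17 C) [11, 29, 62, 86, 93, 125] (v18 C) [4, 41, 66, 70, 101, 109, 124] :=
  C.flip (f7270 C)

theorem f7272 : C.T (v2 C) [6, 46, 56, 82, 108, 116] (v2 C) [17, 38, 49, 80, 107, 121] :=
  C.conv (f307 C) (f311 C) (f311 C) _ [126, 150, 165, 176] _ (by decide +kernel) (by decide +kernel) (by decide +kernel)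

theorem f7273 : C.S (v2 C) [9, 29, 62, 80, 92, 110, 122] :=
  C.stMul (f138 C) (f6942 C) _ (by decide +kernel)

theorem f7274 : C.S (v2 C) [4, 46, 52, 72, 108, 110, 116] :=
  C.stMul (f211 C) (f7273 C) _ (by decide +kernel)

theorem f7275 : C.T (v2 C) [22, 27, 61, 73, 95, 109, 113] (v18 C) [7, 30, 59, 81, 109, 125] :=
  C.conv (f6830 C) (f323 C) (f7274 C) _ [129, 163, 164, 173, 178] _ (by decide +kernel) (by decide +kernel) (by decide +kernel)

theorem f7276 : C.S (v2 C) [21, 36, 63, 77, 106, 116] :=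
  C.stMul (f243 C) (f6949 C) _ (by decide +kernel)

theorem f7277 : C.S (v2 C) [7, 34, 55, 87, 107, 114] :=
  C.stMul (f149 C) (f7276 C) _ (by decide +kernel)

theorem f7278 : C.S (v2 C) [17, 33, 67, 71, 100, 110, 111] :=
  C.stMul (f211 C) (f7277 C) _ (by decide +kernel)

theorem f7279 : C.T (v2 C) [21, 39, 60, 79, 95, 110, 113] (v18 C) [22, 29, 59, 76, 101, 120] :=
  C.conv (f6850 C) (f6867 C) (f7278 C) _ [152, 171, 178] _ (by decide +kernel) (by decide +kernel) (by decide +kernel)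

theorem f7280 : C.T (v18 C) [22, 29, 59, 76, 101, 120] (v2 C) [21, 39, 60, 79, 95, 110, 113] :=
  C.flip (f7279 C)

end CfsgLib.J4Index
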