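import Cfsg.Agent.Lib.J4Index.Facts6

/-!
# Derived equations (generated)
-/

set_option autoImplicit false
set_option maxRecDepth 100000
set_option linter.style.longLine false

namespace CfsgLib.J4Index

variable {G X : Type} [Group G] [MulAction G X] (C : Ctx G X)

theorem f7281 : C.T (v18 C) [33, 63, 74, 103, 109, 115] (v18 C) [17, 39, 86, 106, 109, 113] :=
  C.closeT (p := (v2 C)) (pu := [6, 46, 56, 82, 108, 116])
    (C.pT (f7272 C)
    (C.pH [8, 30, 65, 84, 94, 117] [22, 27, 61, 73, 95, 109, 113] (by decide +kernel)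
    (C.pT (f7275 C)
    (C.pH [26, 38, 54, 89, 90, 113] [33, 63, 74, 103, 109, 115] (by decide +kernel) (C.pNil _ _)))))
    (C.pH [8, 30, 65, 84, 94, 117] [22, 29, 59, 76, 101, 120] (by decide +kernel)
    (C.pT (f7280 C)
    (C.pH [26, 38, 54, 89, 90, 113] [6, 46, 56, 82, 108, 116] (by decide +kernel) (C.pNil _ _))))
    (C.loop_of_one (relLoop1 C) _ _)

theorem f7284 : C.T (v2 C) [15, 38, 60, 75, 93, 109, 120] (v3 C) [17, 40, 69, 72, 93, 109, 111] :=
  C.conv (f325 C) (f323 C) (f323 C) _ [139, 170, 173, 177] _ (by decide +kernel) (by decide +kernel) (by decide +kernel)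

theorem f7285 : C.S (v3 C) [15, 34, 56, 71, 106, 109, 117] :=
  C.stMul (f331 C) (f353 C) _ (by decide +kernel)

theorem f7286 : C.T (v3 C) [22, 35, 67, 79, 108, 111] (v18 C) [22, 57, 74, 108, 116] :=
  C.conv (f6902 C) (f7285 C) (f328 C) _ [128, 159, 167] _ (by decide +kernel) (by decide +kernel) (by decide +kernel)

theorem f7287 : C.S (v2 C) [21, 27, 69, 87, 95, 110, 116] :=
  C.stMul (f109 C) (f243 C) _ (by decide +kernel)

theorem f7288 : C.S (v2 C) [8, 42, 53, 73, 92, 117] :=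
  C.stMul (f211 C) (f7287 C) _ (by decide +kernel)

theorem f7289 : C.S (v2 C) [26, 44, 56, 72, 101, 110, 112] :=
  C.stMul (f243 C) (f7288 C) _ (by decide +kernel)

theorem f7290 : C.T (v2 C) [20, 30, 49, 71, 93, 109, 121] (v18 C) [21, 28, 60, 76, 98, 117] :=
  C.conv (f6850 C) (f6867 C) (f7289 C) _ [135, 161, 167, 175] _ (by decide +kernel) (by decide +kernel) (by decide +kernel)

theorem f7291 : C.T (v18 C) [21, 28, 60, 76, 98, 117] (v2 C) [20, 30, 49, 71, 93, 109, 121] :=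
  C.flip (f7290 C)

theorem f7292 : C.T (v18 C) [19, 40, 64, 70, 100, 117] (v18 C) [12, 27, 52, 85, 96, 110, 125] :=
  C.closeT (p := (v2 C)) (pu := [15, 38, 60, 75, 93, 109, 120])
    (C.pT (f7284 C)
    (C.pH [8, 30, 65, 84, 94, 117] [22, 35, 67, 79, 108, 111] (by decide +kernel)
    (C.pT (f7286 C)
    (C.pH [26, 38, 54, 89, 90, 113] [19, 40, 64, 70, 100, 117] (by decide +kernel) (C.pNil _ _)))))
    (C.pH [8, 30, 65, 84, 94, 117] [21, 28, 60, 76, 98, 117] (by decide +kernel)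
    (C.pT (f7291 C)
    (C.pH [26, 38, 54, 89, 90, 113] [15, 38, 60, 75, 93, 109, 120] (by decide +kernel) (C.pNil _ _))))
    (C.loop_of_one (relLoop1 C) _ _)

theorem f7293 : C.T (v18 C) [12, 27, 52, 85, 96, 110, 125] (v18 C) [19, 40, 64, 70, 100, 117] :=
  C.flip (f7292 C)

theorem f7294 : C.T (v2 C) [7, 40, 57, 86, 103, 109, 113] (v3 C) [13, 38, 60, 81, 103, 109, 116] :=
  C.conv (f347 C) (f356 C) (f356 C) _ [128, 150, 167, 178] _ (by decide +kernel) (by decide +kernel) (by decide +kernel)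

theorem f7295 : C.S (v3 C) [13, 29, 60, 92, 109, 121] :=
  C.stMul (f353 C) (f328 C) _ (by decide +kernel)

theorem f7296 : C.S (v3 C) [30, 69, 79, 91] :=
  C.stMul (f335 C) (f7295 C) _ (by decide +kernel)

theorem f7297 : C.S (v3 C) [11, 37, 67, 78, 101, 109, 120] :=
  C.stMul (f328 C) (f7296 C) _ (by decide +kernel)

theorem f7298 : C.T (v3 C) [11, 37, 83, 108, 110, 119] (v17 C) [23, 46, 53, 83, 98, 109, 119] :=
  C.conv (f6822 C) (f7297 C) (f7297 C) _ [133, 160, 167, 172] _ (by decide +kernel) (by decide +kernel) (by decide +kernel)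

theorem f7299 : C.S (v2 C) [4, 46, 89, 107, 116] :=
  C.stMul (f211 C) (f101 C) _ (by decide +kernel)

theorem f7300 : C.S (v2 C) [67, 83, 94, 110, 124] :=
  C.stMul (f138 C) (f7299 C) _ (by decide +kernel)

theorem f7301 : C.T (v2 C) [23, 43, 62, 73, 99, 110, 115] (v18 C) [16, 32, 67, 89, 101, 109] :=
  C.conv (f6830 C) (f323 C) (f7300 C) _ [138, 162, 167, 173, 178] _ (by decide +kernel) (by decide +kernel) (by decide +kernel)

theorem f7302 : C.T (v18 C) [16, 32, 67, 89, 101, 109] (v2 C) [23, 43, 62, 73, 99, 110, 115] :=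
  C.flip (f7301 C)

theorem f7303 : C.T (v17 C) [7, 32, 56, 72, 104, 109, 122] (v18 C) [24, 41, 50, 70, 104, 109, 117] :=
  C.closeT (p := (v2 C)) (pu := [7, 40, 57, 86, 103, 109, 113])
    (C.pT (f7294 C)
    (C.pH [8, 30, 65, 84, 94, 117] [11, 37, 83, 108, 110, 119] (by decide +kernel)
    (C.pT (f7298 C)
    (C.pH [26, 38, 54, 89, 90, 113] [7, 32, 56, 72, 104, 109, 122] (by decide +kernel) (C.pNil _ _)))))
    (C.pH [8, 30, 65, 84, 94, 117] [16, 32, 67, 89, 101, 109] (by decide +kernel)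
    (C.pT (f7302 C)
    (C.pH [26, 38, 54, 89, 90, 113] [7, 40, 57, 86, 103, 109, 113] (by decide +kernel) (C.pNil _ _))))
    (C.loop_of_one (relLoop1 C) _ _)

theorem f7304 : C.T (v18 C) [24, 41, 50, 70, 104, 109, 117] (v17 C) [7, 32, 56, 72, 104, 109, 122] :=
  C.flip (f7303 C)

theorem f7305 : C.T (v2 C) [12, 53, 87, 102, 109, 123] (v3 C) [21, 31, 67, 94, 109, 117] :=
  C.conv (f347 C) (f356 C) (f356 C) _ [132, 157, 167, 176] _ (by decide +kernel) (by decide +kernel) (by decide +kernel)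

theorem f7306 : C.S (v3 C) [20, 42, 68, 89, 99] :=
  C.stMul (f335 C) (f353 C) _ (by decide +kernel)

theorem f7307 : C.S (v3 C) [18, 33, 63, 86, 90, 124] :=
  C.stMul (f331 C) (f7306 C) _ (by decide +kernel)

theorem f7308 : C.S (v3 C) [22, 44, 63, 70, 99, 110, 123] :=
  C.stMul (f353 C) (f7307 C) _ (by decide +kernel)

theorem f7309 : C.S (v3 C) [4, 36, 66, 75, 93, 109, 117] :=
  C.stMul (f335 C) (f7308 C) _ (by decide +kernel)

theorem f7310 : C.S (v3 C) [9, 29, 68, 75, 108, 110, 124] :=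
  C.stMul (f335 C) (f328 C) _ (by decide +kernel)

theorem f7311 : C.S (v3 C) [11, 28, 50, 85, 94, 124] :=
  C.stMul (f353 C) (f7310 C) _ (by decide +kernel)

theorem f7312 : C.S (v3 C) [9, 38, 62, 72, 93, 110, 122] :=
  C.stMul (f335 C) (f7311 C) _ (by decide +kernel)

theorem f7313 : C.T (v3 C) [24, 34, 57, 88, 95, 109, 122] (v17 C) [19, 45, 65, 86, 104, 116] :=
  C.conv (f6269 C) (f7309 C) (f7312 C) _ [145, 163, 165, 177] _ (by decide +kernel) (by decide +kernel) (by decide +kernel)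

theorem f7314 : C.S (v2 C) [13, 42, 69, 70, 98, 109, 114] :=
  C.stMul (f109 C) (f6933 C) _ (by decide +kernel)

theorem f7315 : C.S (v2 C) [19, 40, 58, 75, 104, 109, 122] :=
  C.stMul (f211 C) (f7314 C) _ (by decide +kernel)

theorem f7316 : C.S (v2 C) [16, 34, 49, 81, 95, 109, 120] :=
  C.stMul (f243 C) (f7315 C) _ (by decide +kernel)

theorem f7317 : C.T (v2 C) [24, 30, 64, 74, 105, 110, 121] (v18 C) [21, 45, 55, 73, 108, 110, 117] :=
  C.conv (f6850 C) (f6867 C) (f7316 C) _ [146, 152, 172, 177] _ (by decide +kernel) (by decide +kernel) (by decide +kernel)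

theorem f7318 : C.T (v18 C) [21, 45, 55, 73, 108, 110, 117] (v2 C) [24, 30, 64, 74, 105, 110, 121] :=
  C.flip (f7317 C)

theorem f7319 : C.T (v17 C) [17, 32, 68, 73, 98, 122] (v18 C) [12, 48, 66, 72, 93, 110, 122] :=
  C.closeT (p := (v2 C)) (pu := [12, 53, 87, 102, 109, 123])
    (C.pT (f7305 C)
    (C.pH [8, 30, 65, 84, 94, 117] [24, 34, 57, 88, 95, 109, 122] (by decide +kernel)
    (C.pT (f7313 C)
    (C.pH [26, 38, 54, 89, 90, 113] [17, 32, 68, 73, 98, 122] (by decide +kernel) (C.pNil _ _)))))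
    (C.pH [8, 30, 65, 84, 94, 117] [21, 45, 55, 73, 108, 110, 117] (by decide +kernel)
    (C.pT (f7318 C)
    (C.pH [26, 38, 54, 89, 90, 113] [12, 53, 87, 102, 109, 123] (by decide +kernel) (C.pNil _ _))))
    (C.loop_of_one (relLoop1 C) _ _)

theorem f7320 : C.T (v18 C) [12, 48, 66, 72, 93, 110, 122] (v17 C) [17, 32, 68, 73, 98, 122] :=
  C.flip (f7319 C)

theorem f7321 : C.T (v2 C) [21, 39, 59, 77, 101, 125] (v3 C) [20, 48, 59, 78, 95, 125] :=
  C.conv (f347 C) (f356 C) (f356 C) _ [158, 170, 176, 177] _ (by decide +kernel) (by decide +kernel) (by decide +kernel)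

theorem f7322 : C.S (v2 C) [24, 37, 68, 82, 104, 109] :=
  C.stMul (f243 C) (f149 C) _ (by decide +kernel)

theorem f7323 : C.T (v2 C) [10, 43, 51, 73, 105, 110, 112] (v2 C) [16, 31, 69, 89, 95, 114] :=
  C.conv (f307 C) (f311 C) (f7322 C) _ [135, 151, 170, 173, 177] _ (by decide +kernel) (by decide +kernel) (by decide +kernel)

theorem f7324 : C.T (v2 C) [16, 31, 69, 89, 95, 114] (v2 C) [10, 43, 51, 73, 105, 110, 112] :=
  C.flip (f7323 C)

theorem f7325 : C.T (v2 C) [24, 45, 53, 87, 97, 117] (v18 C) [5, 37, 69, 83, 101, 110, 116] :=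
  C.conv (f6850 C) (f6867 C) (f6865 C) _ [137, 152, 164, 175, 177] _ (by decide +kernel) (by decide +kernel) (by decide +kernel)

theorem f7326 : C.T (v18 C) [5, 37, 69, 83, 101, 110, 116] (v2 C) [24, 45, 53, 87, 97, 117] :=
  C.flip (f7325 C)

theorem f7327 : C.T (v3 C) [23, 37, 51, 87, 108, 110, 121] (v18 C) [14, 43, 84, 99, 110, 115] :=
  C.closeT (p := (v2 C)) (pu := [21, 39, 59, 77, 101, 125])
    (C.pT (f7321 C)
    (C.pH [8, 30, 65, 84, 94, 117] [23, 37, 51, 87, 108, 110, 121] (by decide +kernel) (C.pNil _ _)))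
    (C.pH [26, 38, 54, 89, 90, 113] [5, 37, 69, 83, 101, 110, 116] (by decide +kernel)
    (C.pT (f7326 C)
    (C.pH [8, 30, 65, 84, 94, 117] [16, 31, 69, 89, 95, 114] (by decide +kernel)
    (C.pT (f7324 C)
    (C.pH [26, 38, 54, 89, 90, 113] [21, 39, 59, 77, 101, 125] (by decide +kernel) (C.pNil _ _))))))
    (C.loop_of_one (relLoop1 C) _ _)

theorem f7328 : C.T (v18 C) [14, 43, 84, 99, 110, 115] (v3 C) [23, 37, 51, 87, 108, 110, 121] :=
  C.flip (f7327 C)

theorem f7329 : C.T (v2 C) [26, 27, 57, 87, 90, 109, 116] (v3 C) [11, 29, 58, 77, 100, 110, 115] :=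
  C.conv (f347 C) (f356 C) (f356 C) _ [140, 156, 164, 174] _ (by decide +kernel) (by decide +kernel) (by decide +kernel)

theorem f7330 : C.S (v3 C) [22, 29, 89, 96, 109, 125] :=
  C.stMul (f328 C) (f331 C) _ (by decide +kernel)

theorem f7331 : C.S (v3 C) [18, 43, 59, 78, 90, 110, 111] :=
  C.stMul (f353 C) (f7330 C) _ (by decide +kernel)

theorem f7332 : C.S (v3 C) [6, 29, 67, 88, 100, 110] :=
  C.stMul (f335 C) (f7331 C) _ (by decide +kernel)

theorem f7333 : C.S (v3 C) [26, 42, 53, 74, 94, 109, 111] :=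
  C.stMul (f331 C) (f7332 C) _ (by decide +kernel)

theorem f7334 : C.S (v3 C) [4, 35, 66, 84, 105, 109, 115] :=
  C.stMul (f335 C) (f331 C) _ (by decide +kernel)

theorem f7335 : C.S (v3 C) [12, 47, 57, 74, 97, 110] :=
  C.stMul (f335 C) (f7334 C) _ (by decide +kernel)

theorem f7336 : C.S (v3 C) [25, 41, 58, 92, 119] :=
  C.stMul (f335 C) (f7335 C) _ (by decide +kernel)

theorem f7337 : C.T (v3 C) [7, 42, 80, 102, 110] (v18 C) [9, 27, 67, 79, 101, 110, 120] :=
  C.conv (f6888 C) (f7333 C) (f7336 C) _ [126, 157, 170, 173, 178] _ (by decide +kernel) (by decide +kernel) (by decide +kernel)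

theorem f7338 : C.S (v2 C) [20, 65, 72, 104, 109, 120] :=
  C.stMul (f125 C) (f211 C) _ (by decide +kernel)

theorem f7339 : C.S (v2 C) [7, 42, 52, 70, 103, 110, 111] :=
  C.stMul (f243 C) (f7338 C) _ (by decide +kernel)

theorem f7340 : C.S (v2 C) [25, 37, 64, 84, 91, 109, 124] :=
  C.stMul (f149 C) (f7339 C) _ (by decide +kernel)

theorem f7341 : C.T (v2 C) [31, 54, 73, 100, 114] (v18 C) [21, 32, 56, 70, 97, 110, 119] :=
  C.conv (f6850 C) (f6867 C) (f7340 C) _ [131, 152, 170, 173, 177] _ (by decide +kernel) (by decide +kernel) (by decide +kernel)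

theorem f7342 : C.T (v18 C) [21, 32, 56, 70, 97, 110, 119] (v2 C) [31, 54, 73, 100, 114] :=
  C.flip (f7341 C)

theorem f7343 : C.T (v18 C) [22, 35, 56, 82, 93, 109, 112] (v18 C) [12, 44, 59, 70, 90, 125] :=
  C.closeT (p := (v2 C)) (pu := [26, 27, 57, 87, 90, 109, 116])
    (C.pT (f7329 C)
    (C.pH [8, 30, 65, 84, 94, 117] [7, 42, 80, 102, 110] (by decide +kernel)
    (C.pT (f7337 C)
    (C.pH [26, 38, 54, 89, 90, 113] [22, 35, 56, 82, 93, 109, 112] (by decide +kernel) (C.pNil _ _)))))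
    (C.pH [8, 30, 65, 84, 94, 117] [21, 32, 56, 70, 97, 110, 119] (by decide +kernel)
    (C.pT (f7342 C)
    (C.pH [26, 38, 54, 89, 90, 113] [26, 27, 57, 87, 90, 109, 116] (by decide +kernel) (C.pNil _ _))))
    (C.loop_of_one (relLoop1 C) _ _)

theorem f7346 : C.T (v2 C) [20, 46, 67, 89, 91, 110, 122] (v3 C) [25, 46, 53, 89, 92, 118] :=
  C.conv (f347 C) (f356 C) (f356 C) _ [143, 149, 165, 176] _ (by decide +kernel) (by decide +kernel) (by decide +kernel)

theorem f7347 : C.S (v3 C) [4, 35, 66, 84, 105, 109, 115] :=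
  C.stMul (f335 C) (f331 C) _ (by decide +kernel)

theorem f7348 : C.S (v3 C) [12, 47, 57, 74, 97, 110] :=
  C.stMul (f335 C) (f7347 C) _ (by decide +kernel)

theorem f7349 : C.S (v3 C) [25, 41, 58, 92, 119] :=
  C.stMul (f335 C) (f7348 C) _ (by decide +kernel)

theorem f7350 : C.S (v3 C) [17, 41, 68, 88, 104, 109, 115] :=
  C.stMul (f353 C) (f7349 C) _ (by decide +kernel)

theorem f7351 : C.T (v3 C) [9, 39, 69, 70, 108, 124] (v15 C) [5, 40, 83, 108, 109, 114] :=
  C.conv (f3166 C) (f3236 C) (f7350 C) _ [129, 159, 170, 178] _ (by decide +kernel) (by decide +kernel) (by decide +kernel)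

theorem f7352 : C.S (v2 C) [23, 43, 52, 86, 92, 110, 114] :=
  C.stMul (f138 C) (f101 C) _ (by decide +kernel)

theorem f7353 : C.S (v2 C) [20, 48, 62, 86, 105, 114] :=
  C.stMul (f211 C) (f7352 C) _ (by decide +kernel)

theorem f7354 : C.S (v2 C) [9, 29, 60, 79, 105, 115] :=
  C.stMul (f125 C) (f7353 C) _ (by decide +kernel)

theorem f7355 : C.T (v2 C) [17, 33, 51, 83, 99, 109, 115] (v18 C) [17, 34, 57, 77, 93, 123] :=
  C.conv (f6830 C) (f323 C) (f7354 C) _ [139, 159, 169, 175, 177] _ (by decide +kernel) (by decide +kernel) (by decide +kernel)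

theorem f7356 : C.T (v18 C) [17, 34, 57, 77, 93, 123] (v2 C) [17, 33, 51, 83, 99, 109, 115] :=
  C.flip (f7355 C)

theorem f7357 : C.T (v15 C) [8, 45, 66, 89, 110, 116] (v18 C) [7, 37, 61, 84, 96, 109, 124] :=
  C.closeT (p := (v2 C)) (pu := [20, 46, 67, 89, 91, 110, 122])
    (C.pT (f7346 C)
    (C.pH [8, 30, 65, 84, 94, 117] [9, 39, 69, 70, 108, 124] (by decide +kernel)
    (C.pT (f7351 C)
    (C.pH [26, 38, 54, 89, 90, 113] [8, 45, 66, 89, 110, 116] (by decide +kernel) (C.pNil _ _)))))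
    (C.pH [8, 30, 65, 84, 94, 117] [17, 34, 57, 77, 93, 123] (by decide +kernel)
    (C.pT (f7356 C)
    (C.pH [26, 38, 54, 89, 90, 113] [20, 46, 67, 89, 91, 110, 122] (by decide +kernel) (C.pNil _ _))))
    (C.loop_of_one (relLoop1 C) _ _)

theorem f7358 : C.T (v18 C) [7, 37, 61, 84, 96, 109, 124] (v15 C) [8, 45, 66, 89, 110, 116] :=
  C.flip (f7357 C)

theorem f7359 : C.T (v2 C) [11, 45, 69, 84, 92, 114] (v3 C) [9, 34, 62, 81, 97, 125] :=
  C.conv (f347 C) (f356 C) (f356 C) _ [126, 167, 174, 178] _ (by decide +kernel) (by decide +kernel) (by decide +kernel)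

theorem f7360 : C.S (v3 C) [19, 30, 60, 72, 107, 110, 116] :=
  C.stMul (f331 C) (f335 C) _ (by decide +kernel)

theorem f7361 : C.S (v3 C) [5, 38, 50, 82, 105, 109, 122] :=
  C.stMul (f353 C) (f7360 C) _ (by decide +kernel)

theorem f7362 : C.S (v3 C) [23, 29, 57, 87, 91, 110, 120] :=
  C.stMul (f331 C) (f328 C) _ (by decide +kernel)

theorem f7363 : C.S (v3 C) [23, 35, 58, 78, 94, 110, 123] :=
  C.stMul (f328 C) (f7362 C) _ (by decide +kernel)

theorem f7364 : C.S (v3 C) [12, 28, 65, 85, 98, 110, 116] :=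
  C.stMul (f353 C) (f7363 C) _ (by decide +kernel)

theorem f7365 : C.S (v3 C) [25, 35, 69, 73, 94, 109, 118] :=
  C.stMul (f335 C) (f7364 C) _ (by decide +kernel)

theorem f7366 : C.S (v3 C) [16, 31, 72, 108, 112] :=
  C.stMul (f331 C) (f7365 C) _ (by decide +kernel)

theorem f7367 : C.T (v3 C) [18, 45, 66, 77, 101, 110, 125] (v17 C) [23, 40, 66, 83, 94, 120] :=
  C.conv (f6814 C) (f7361 C) (f7366 C) _ [134, 158, 172, 178] _ (by decide +kernel) (by decide +kernel) (by decide +kernel)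

theorem f7368 : C.S (v2 C) [22, 45, 58, 92, 109] :=
  C.stMul (f243 C) (f109 C) _ (by decide +kernel)

theorem f7369 : C.T (v2 C) [8, 27, 63, 85, 99, 110, 118] (v18 C) [18, 28, 68, 70, 100, 109, 114] :=
  C.conv (f6830 C) (f323 C) (f7368 C) _ [140, 165, 171, 178] _ (by decide +kernel) (by decide +kernel) (by decide +kernel)

theorem f7370 : C.T (v18 C) [18, 28, 68, 70, 100, 109, 114] (v2 C) [8, 27, 63, 85, 99, 110, 118] :=
  C.flip (f7369 C)

theorem f7371 : C.T (v17 C) [7, 58, 85, 95, 109, 117] (v18 C) [9, 42, 56, 82, 100, 113] :=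
  C.closeT (p := (v2 C)) (pu := [11, 45, 69, 84, 92, 114])
    (C.pT (f7359 C)
    (C.pH [8, 30, 65, 84, 94, 117] [18, 45, 66, 77, 101, 110, 125] (by decide +kernel)
    (C.pT (f7367 C)
    (C.pH [26, 38, 54, 89, 90, 113] [7, 58, 85, 95, 109, 117] (by decide +kernel) (C.pNil _ _)))))
    (C.pH [8, 30, 65, 84, 94, 117] [18, 28, 68, 70, 100, 109, 114] (by decide +kernel)
    (C.pT (f7370 C)
    (C.pH [26, 38, 54, 89, 90, 113] [11, 45, 69, 84, 92, 114] (by decide +kernel) (C.pNil _ _))))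
    (C.loop_of_one (relLoop1 C) _ _)

theorem f7372 : C.T (v18 C) [9, 42, 56, 82, 100, 113] (v17 C) [7, 58, 85, 95, 109, 117] :=
  C.flip (f7371 C)

theorem f7373 : C.T (v2 C) [6, 46, 64, 71, 97, 110, 118] (v3 C) [18, 47, 50, 87, 103, 109, 120] :=
  C.conv (f347 C) (f356 C) (f356 C) _ [144, 152, 168, 176, 177] _ (by decide +kernel) (by decide +kernel) (by decide +kernel)

theorem f7374 : C.S (v3 C) [23, 29, 57, 87, 91, 110, 120] :=
  C.stMul (f331 C) (f328 C) _ (by decide +kernel)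

theorem f7375 : C.S (v3 C) [23, 35, 58, 78, 94, 110, 123] :=
  C.stMul (f328 C) (f7374 C) _ (by decide +kernel)

theorem f7376 : C.S (v3 C) [12, 28, 65, 85, 98, 110, 116] :=
  C.stMul (f353 C) (f7375 C) _ (by decide +kernel)

theorem f7377 : C.S (v3 C) [25, 35, 69, 73, 94, 109, 118] :=
  C.stMul (f335 C) (f7376 C) _ (by decide +kernel)

theorem f7378 : C.S (v3 C) [16, 31, 72, 108, 112] :=
  C.stMul (f331 C) (f7377 C) _ (by decide +kernel)

theorem f7379 : C.T (v3 C) [4, 29, 63, 79, 92, 110, 120] (v18 C) [13, 48, 58, 78, 90, 110, 121] :=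
  C.conv (f6902 C) (f7285 C) (f7378 C) _ [148, 162, 170, 171, 177] _ (by decide +kernel) (by decide +kernel) (by decide +kernel)

theorem f7380 : C.S (v2 C) [23, 43, 61, 89, 99] :=
  C.stMul (f109 C) (f211 C) _ (by decide +kernel)

theorem f7381 : C.S (v2 C) [21, 36, 53, 72, 94, 112] :=
  C.stMul (f243 C) (f7380 C) _ (by decide +kernel)

theorem f7382 : C.S (v2 C) [12, 30, 66, 71, 97, 109, 116] :=
  C.stMul (f138 C) (f7381 C) _ (by decide +kernel)

theorem f7383 : C.T (v2 C) [21, 39, 66, 83, 94, 110, 118] (v17 C) [26, 44, 69, 84, 108, 109, 115] :=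
  C.conv (f6632 C) (f6971 C) (f7382 C) _ [126, 157, 164, 176, 178] _ (by decide +kernel) (by decide +kernel) (by decide +kernel)

theorem f7384 : C.T (v17 C) [26, 44, 69, 84, 108, 109, 115] (v2 C) [21, 39, 66, 83, 94, 110, 118] :=
  C.flip (f7383 C)

theorem f7385 : C.T (v18 C) [23, 40, 57, 85, 98, 117] (v17 C) [19, 38, 62, 73, 103, 109, 118] :=
  C.closeT (p := (v2 C)) (pu := [6, 46, 64, 71, 97, 110, 118])
    (C.pT (f7373 C)
    (C.pH [8, 30, 65, 84, 94, 117] [4, 29, 63, 79, 92, 110, 120] (by decide +kernel)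
    (C.pT (f7379 C)
    (C.pH [26, 38, 54, 89, 90, 113] [23, 40, 57, 85, 98, 117] (by decide +kernel) (C.pNil _ _)))))
    (C.pH [8, 30, 65, 84, 94, 117] [26, 44, 69, 84, 108, 109, 115] (by decide +kernel)
    (C.pT (f7384 C)
    (C.pH [26, 38, 54, 89, 90, 113] [6, 46, 64, 71, 97, 110, 118] (by decide +kernel) (C.pNil _ _))))
    (C.loop_of_one (relLoop1 C) _ _)

theorem f7386 : C.T (v17 C) [19, 38, 62, 73, 103, 109, 118] (v18 C) [23, 40, 57, 85, 98, 117] :=
  C.flip (f7385 C)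

theorem f7387 : C.T (v2 C) [8, 32, 56, 82, 93, 110, 112] (v3 C) [26, 43, 67, 72, 100, 111] :=
  C.conv (f369 C) (f138 C) (f138 C) _ [146, 158, 165, 171, 178] _ (by decide +kernel) (by decide +kernel) (by decide +kernel)

theorem f7388 : C.S (v3 C) [20, 56, 88, 105, 110, 120] :=
  C.stMul (f331 C) (f331 C) _ (by decide +kernel)

theorem f7389 : C.S (v3 C) [18, 48, 67, 88, 96, 109, 120] :=
  C.stMul (f331 C) (f7388 C) _ (by decide +kernel)

theorem f7390 : C.T (v3 C) [14, 43, 49, 85, 92, 110, 115] (v17 C) [13, 55, 71, 101, 123] :=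
  C.conv (f6814 C) (f7361 C) (f7389 C) _ [131, 152, 166, 172, 178] _ (by decide +kernel) (by decide +kernel) (by decide +kernel)

theorem f7391 : C.S (v2 C) [20, 48, 51, 81, 90, 116] :=
  C.stMul (f115 C) (f101 C) _ (by decide +kernel)

theorem f7392 : C.S (v2 C) [10, 43, 63, 77, 110, 116] :=
  C.stMul (f211 C) (f7391 C) _ (by decide +kernel)

theorem f7393 : C.S (v2 C) [28, 49, 81, 100, 109, 114] :=
  C.stMul (f149 C) (f7392 C) _ (by decide +kernel)

theorem f7394 : C.T (v2 C) [5, 37, 56, 81, 102, 118] (v18 C) [12, 28, 51, 82, 96, 109, 120] :=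
  C.conv (f6830 C) (f323 C) (f7393 C) _ [134, 164, 171] _ (by decide +kernel) (by decide +kernel) (by decide +kernel)

theorem f7395 : C.T (v18 C) [12, 28, 51, 82, 96, 109, 120] (v2 C) [5, 37, 56, 81, 102, 118] :=
  C.flip (f7394 C)

theorem f7396 : C.T (v17 C) [23, 28, 59, 79, 102, 109, 113] (v18 C) [5, 46, 58, 82, 103, 110] :=
  C.closeT (p := (v2 C)) (pu := [8, 32, 56, 82, 93, 110, 112])
    (C.pT (f7387 C)
    (C.pH [8, 30, 65, 84, 94, 117] [14, 43, 49, 85, 92, 110, 115] (by decide +kernel)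
    (C.pT (f7390 C)
    (C.pH [26, 38, 54, 89, 90, 113] [23, 28, 59, 79, 102, 109, 113] (by decide +kernel) (C.pNil _ _)))))
    (C.pH [8, 30, 65, 84, 94, 117] [12, 28, 51, 82, 96, 109, 120] (by decide +kernel)
    (C.pT (f7395 C)
    (C.pH [26, 38, 54, 89, 90, 113] [8, 32, 56, 82, 93, 110, 112] (by decide +kernel) (C.pNil _ _))))
    (C.loop_of_one (relLoop1 C) _ _)

theorem f7397 : C.T (v18 C) [5, 46, 58, 82, 103, 110] (v17 C) [23, 28, 59, 79, 102, 109, 113] :=
  C.flip (f7396 C)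

theorem f7398 : C.T (v2 C) [12, 30, 52, 85, 100, 114] (v3 C) [11, 33, 58, 74, 101, 114] :=
  C.conv (f369 C) (f138 C) (f138 C) _ [143, 153, 167, 171, 177] _ (by decide +kernel) (by decide +kernel) (by decide +kernel)

theorem f7399 : C.S (v3 C) [23, 29, 57, 87, 91, 110, 120] :=
  C.stMul (f331 C) (f328 C) _ (by decide +kernel)

theorem f7400 : C.S (v3 C) [23, 35, 58, 78, 94, 110, 123] :=
  C.stMul (f328 C) (f7399 C) _ (by decide +kernel)

theorem f7401 : C.S (v3 C) [12, 28, 65, 85, 98, 110, 116] :=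
  C.stMul (f353 C) (f7400 C) _ (by decide +kernel)

theorem f7402 : C.S (v3 C) [11, 43, 53, 80, 104, 110] :=
  C.stMul (f331 C) (f7401 C) _ (by decide +kernel)

theorem f7403 : C.S (v3 C) [22, 29, 89, 96, 109, 125] :=
  C.stMul (f328 C) (f331 C) _ (by decide +kernel)

theorem f7404 : C.S (v3 C) [4, 67, 86, 105, 116] :=
  C.stMul (f335 C) (f7403 C) _ (by decide +kernel)

theorem f7405 : C.S (v3 C) [6, 44, 60, 85, 94, 120] :=
  C.stMul (f328 C) (f7404 C) _ (by decide +kernel)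

theorem f7406 : C.S (v3 C) [26, 41, 49, 77, 105, 123] :=
  C.stMul (f353 C) (f7405 C) _ (by decide +kernel)

theorem f7407 : C.T (v3 C) [7, 27, 62, 80, 90, 124] (v18 C) [23, 28, 63, 72, 95, 115] :=
  C.conv (f6916 C) (f7402 C) (f7406 C) _ [143, 158, 170, 174, 177] _ (by decide +kernel) (by decide +kernel) (by decide +kernel)

theorem f7408 : C.S (v2 C) [4, 46, 89, 107, 116] :=
  C.stMul (f211 C) (f101 C) _ (by decide +kernel)

theorem f7409 : C.S (v2 C) [18, 44, 67, 80, 97, 121] :=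
  C.stMul (f125 C) (f7408 C) _ (by decide +kernel)

theorem f7410 : C.S (v2 C) [25, 42, 55, 84, 103, 109, 123] :=
  C.stMul (f243 C) (f7409 C) _ (by decide +kernel)

theorem f7411 : C.S (v2 C) [11, 46, 55, 71, 106, 124] :=
  C.stMul (f149 C) (f7410 C) _ (by decide +kernel)

theorem f7412 : C.T (v2 C) [24, 35, 53, 72, 97, 109, 112] (v18 C) [10, 27, 60, 83, 92] :=
  C.conv (f6850 C) (f6867 C) (f7411 C) _ [146, 152, 170, 174, 178] _ (by decide +kernel) (by decide +kernel) (by decide +kernel)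

theorem f7413 : C.T (v18 C) [10, 27, 60, 83, 92] (v2 C) [24, 35, 53, 72, 97, 109, 112] :=
  C.flip (f7412 C)

theorem f7414 : C.T (v18 C) [7, 46, 66, 78, 108, 120] (v18 C) [23, 45, 62, 80, 95, 109, 114] :=
  C.closeT (p := (v2 C)) (pu := [12, 30, 52, 85, 100, 114])
    (C.pT (f7398 C)
    (C.pH [8, 30, 65, 84, 94, 117] [7, 27, 62, 80, 90, 124] (by decide +kernel)
    (C.pT (f7407 C)
    (C.pH [26, 38, 54, 89, 90, 113] [7, 46, 66, 78, 108, 120] (by decide +kernel) (C.pNil _ _)))))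
    (C.pH [8, 30, 65, 84, 94, 117] [10, 27, 60, 83, 92] (by decide +kernel)
    (C.pT (f7413 C)
    (C.pH [26, 38, 54, 89, 90, 113] [12, 30, 52, 85, 100, 114] (by decide +kernel) (C.pNil _ _))))
    (C.loop_of_one (relLoop1 C) _ _)

theorem f7417 : C.T (v2 C) [22, 40, 68, 71, 98, 115] (v4 C) [5, 42, 64, 79, 95, 110, 113] :=
  C.conv (f437 C) (f595 C) (f595 C) _ [144, 163, 176] _ (by decide +kernel) (by decide +kernel) (by decide +kernel)

theorem f7418 : C.T (v4 C) [12, 34, 51, 71, 101, 110, 116] (v4 C) [8, 42, 62, 73, 100, 125] :=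
  C.conv (f606 C) (f421 C) (f693 C) _ [148, 150, 166, 177] _ (by decide +kernel) (by decide +kernel) (by decide +kernel)

theorem f7419 : C.S (v2 C) [7, 34, 57, 89, 104, 109, 120] :=
  C.stMul (f138 C) (f6898 C) _ (by decide +kernel)

theorem f7420 : C.S (v2 C) [25, 42, 56, 73, 101, 109, 112] :=
  C.stMul (f149 C) (f7419 C) _ (by decide +kernel)

theorem f7421 : C.T (v2 C) [9, 46, 63, 72, 95, 115] (v18 C) [12, 47, 53, 84, 118] :=
  C.conv (f6850 C) (f6867 C) (f7420 C) _ [140, 163, 168, 176, 178] _ (by decide +kernel) (by decide +kernel) (by decide +kernel)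

theorem f7422 : C.T (v18 C) [12, 47, 53, 84, 118] (v2 C) [9, 46, 63, 72, 95, 115] :=
  C.flip (f7421 C)

theorem f7423 : C.T (v4 C) [11, 36, 67, 76, 106, 109, 114] (v18 C) [5, 27, 63, 79, 90, 110, 124] :=
  C.closeT (p := (v2 C)) (pu := [22, 40, 68, 71, 98, 115])
    (C.pT (f7417 C)
    (C.pH [8, 30, 65, 84, 94, 117] [12, 34, 51, 71, 101, 110, 116] (by decide +kernel)
    (C.pT (f7418 C)
    (C.pH [26, 38, 54, 89, 90, 113] [11, 36, 67, 76, 106, 109, 114] (by decide +kernel) (C.pNil _ _)))))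
    (C.pH [8, 30, 65, 84, 94, 117] [12, 47, 53, 84, 118] (by decide +kernel)
    (C.pT (f7422 C)
    (C.pH [26, 38, 54, 89, 90, 113] [22, 40, 68, 71, 98, 115] (by decide +kernel) (C.pNil _ _))))
    (C.loop_of_one (relLoop1 C) _ _)

theorem f7424 : C.T (v18 C) [5, 27, 63, 79, 90, 110, 124] (v4 C) [11, 36, 67, 76, 106, 109, 114] :=
  C.flip (f7423 C)

theorem f7425 : C.T (v2 C) [19, 27, 57, 80, 92, 125] (v4 C) [18, 32, 57, 82, 100, 109, 113] :=
  C.conv (f437 C) (f595 C) (f595 C) _ [141, 161, 167, 173] _ (by decide +kernel) (by decide +kernel) (by decide +kernel)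

theorem f7426 : C.S (v4 C) [17, 35, 66, 70, 95] :=
  C.stMul (f421 C) (f407 C) _ (by decide +kernel)

theorem f7427 : C.S (v4 C) [26, 44, 64, 94, 121] :=
  C.stMul (f693 C) (f7426 C) _ (by decide +kernel)

theorem f7428 : C.S (v4 C) [18, 46, 49, 75, 97, 110, 118] :=
  C.stMul (f407 C) (f407 C) _ (by decide +kernel)

theorem f7429 : C.S (v4 C) [23, 45, 57, 77, 95, 110, 118] :=
  C.stMul (f407 C) (f7428 C) _ (by decide +kernel)

theorem f7430 : C.S (v4 C) [16, 46, 68, 72, 103, 110, 111] :=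
  C.stMul (f693 C) (f7429 C) _ (by decide +kernel)

theorem f7431 : C.T (v4 C) [4, 33, 60, 87, 96] (v18 C) [19, 47, 68, 89, 109, 119] :=
  C.conv (f6924 C) (f7427 C) (f7430 C) _ [141, 156, 167, 176, 178] _ (by decide +kernel) (by decide +kernel) (by decide +kernel)

theorem f7432 : C.S (v2 C) [6, 50, 93, 109, 116] :=
  C.stMul (f125 C) (f7084 C) _ (by decide +kernel)

theorem f7433 : C.S (v2 C) [23, 43, 54, 73, 99, 122] :=
  C.stMul (f211 C) (f7432 C) _ (by decide +kernel)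

theorem f7434 : C.T (v2 C) [22, 34, 54, 74, 96, 110, 114] (v18 C) [7, 29, 56, 75, 91, 110, 116] :=
  C.conv (f6850 C) (f6867 C) (f7433 C) _ [133, 151, 166, 177] _ (by decide +kernel) (by decide +kernel) (by decide +kernel)

theorem f7435 : C.T (v18 C) [7, 29, 56, 75, 91, 110, 116] (v2 C) [22, 34, 54, 74, 96, 110, 114] :=
  C.flip (f7434 C)

theorem f7436 : C.T (v18 C) [17, 45, 49, 107, 109, 118] (v18 C) [11, 44, 57, 89, 95, 123] :=
  C.closeT (p := (v2 C)) (pu := [19, 27, 57, 80, 92, 125])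
    (C.pT (f7425 C)
    (C.pH [8, 30, 65, 84, 94, 117] [4, 33, 60, 87, 96] (by decide +kernel)
    (C.pT (f7431 C)
    (C.pH [26, 38, 54, 89, 90, 113] [17, 45, 49, 107, 109, 118] (by decide +kernel) (C.pNil _ _)))))
    (C.pH [8, 30, 65, 84, 94, 117] [7, 29, 56, 75, 91, 110, 116] (by decide +kernel)
    (C.pT (f7435 C)
    (C.pH [26, 38, 54, 89, 90, 113] [19, 27, 57, 80, 92, 125] (by decide +kernel) (C.pNil _ _))))
    (C.loop_of_one (relLoop1 C) _ _)

theorem f7437 : C.T (v18 C) [11, 44, 57, 89, 95, 123] (v18 C) [17, 45, 49, 107, 109, 118] :=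
  C.flip (f7436 C)

theorem f7438 : C.T (v2 C) [10, 30, 61, 75, 90, 110, 118] (v4 C) [14, 45, 68, 89, 95, 116] :=
  C.conv (f437 C) (f595 C) (f595 C) _ [132, 161, 165, 174, 177] _ (by decide +kernel) (by decide +kernel) (by decide +kernel)

theorem f7439 : C.S (v4 C) [13, 44, 51, 82, 106, 110, 111] :=
  C.stMul (f407 C) (f2616 C) _ (by decide +kernel)

theorem f7440 : C.T (v4 C) [5, 37, 64, 88, 95, 109, 121] (v4 C) [7, 29, 60, 88, 114] :=
  C.conv (f971 C) (f974 C) (f7439 C) _ [129, 150, 167, 172, 178] _ (by decide +kernel) (by decide +kernel) (by decide +kernel)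

theorem f7441 : C.S (v2 C) [13, 27, 59, 85, 101, 109, 113] :=
  C.stMul (f243 C) (f115 C) _ (by decide +kernel)

theorem f7442 : C.S (v2 C) [11, 46, 65, 80, 104, 110, 124] :=
  C.stMul (f138 C) (f7441 C) _ (by decide +kernel)

theorem f7443 : C.S (v2 C) [21, 27, 60, 83, 92, 109, 125] :=
  C.stMul (f109 C) (f7442 C) _ (by decide +kernel)

theorem f7444 : C.T (v2 C) [18, 31, 60, 85, 98, 109, 112] (v18 C) [4, 32, 50, 78, 101, 110, 111] :=
  C.conv (f6830 C) (f323 C) (f7443 C) _ [126, 162, 167, 172] _ (by decide +kernel) (by decide +kernel) (by decide +kernel)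

theorem f7445 : C.T (v18 C) [4, 32, 50, 78, 101, 110, 111] (v2 C) [18, 31, 60, 85, 98, 109, 112] :=
  C.flip (f7444 C)

theorem f7446 : C.T (v4 C) [40, 49, 86, 90, 110, 113] (v18 C) [18, 42, 59, 72, 104, 115] :=
  C.closeT (p := (v2 C)) (pu := [10, 30, 61, 75, 90, 110, 118])
    (C.pT (f7438 C)
    (C.pH [8, 30, 65, 84, 94, 117] [5, 37, 64, 88, 95, 109, 121] (by decide +kernel)
    (C.pT (f7440 C)
    (C.pH [26, 38, 54, 89, 90, 113] [40, 49, 86, 90, 110, 113] (by decide +kernel) (C.pNil _ _)))))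
    (C.pH [8, 30, 65, 84, 94, 117] [4, 32, 50, 78, 101, 110, 111] (by decide +kernel)
    (C.pT (f7445 C)
    (C.pH [26, 38, 54, 89, 90, 113] [10, 30, 61, 75, 90, 110, 118] (by decide +kernel) (C.pNil _ _))))
    (C.loop_of_one (relLoop1 C) _ _)

theorem f7447 : C.T (v18 C) [18, 42, 59, 72, 104, 115] (v4 C) [40, 49, 86, 90, 110, 113] :=
  C.flip (f7446 C)

theorem f7448 : C.T (v2 C) [23, 30, 58, 75, 95, 119] (v4 C) [4, 36, 69, 81, 102, 110, 113] :=
  C.conv (f437 C) (f595 C) (f595 C) _ [145, 149, 165, 173] _ (by decide +kernel) (by decide +kernel) (by decide +kernel)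

theorem f7449 : C.S (v4 C) [26, 44, 64, 94, 121] :=
  C.stMul (f693 C) (f1901 C) _ (by decide +kernel)

theorem f7450 : C.T (v4 C) [25, 38, 68, 73, 93, 124] (v10 C) [18, 37, 80, 103, 123] :=
  C.conv (f1798 C) (f1856 C) (f7449 C) _ [147, 163, 170, 174, 178] _ (by decide +kernel) (by decide +kernel) (by decide +kernel)

theorem f7451 : C.S (v2 C) [4, 46, 68, 85, 99, 109, 124] :=
  C.stMul (f211 C) (f149 C) _ (by decide +kernel)

theorem f7452 : C.S (v2 C) [22, 36, 90, 110, 124] :=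
  C.stMul (f243 C) (f7451 C) _ (by decide +kernel)

theorem f7453 : C.S (v2 C) [14, 34, 85, 92, 109, 114] :=
  C.stMul (f211 C) (f7452 C) _ (by decide +kernel)

theorem f7454 : C.T (v2 C) [13, 32, 88, 100, 110, 123] (v18 C) [19, 45, 59, 107, 110, 118] :=
  C.conv (f6850 C) (f6867 C) (f7453 C) _ [139, 155, 164, 175] _ (by decide +kernel) (by decide +kernel) (by decide +kernel)

theorem f7455 : C.T (v18 C) [19, 45, 59, 107, 110, 118] (v2 C) [13, 32, 88, 100, 110, 123] :=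
  C.flip (f7454 C)

theorem f7456 : C.T (v10 C) [10, 29, 83, 101, 124] (v18 C) [15, 41, 66, 85, 97, 109, 111] :=
  C.closeT (p := (v2 C)) (pu := [23, 30, 58, 75, 95, 119])
    (C.pT (f7448 C)
    (C.pH [8, 30, 65, 84, 94, 117] [25, 38, 68, 73, 93, 124] (by decide +kernel)
    (C.pT (f7450 C)
    (C.pH [26, 38, 54, 89, 90, 113] [10, 29, 83, 101, 124] (by decide +kernel) (C.pNil _ _)))))
    (C.pH [8, 30, 65, 84, 94, 117] [19, 45, 59, 107, 110, 118] (by decide +kernel)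
    (C.pT (f7455 C)
    (C.pH [26, 38, 54, 89, 90, 113] [23, 30, 58, 75, 95, 119] (by decide +kernel) (C.pNil _ _))))
    (C.loop_of_one (relLoop1 C) _ _)

theorem f7457 : C.T (v18 C) [15, 41, 66, 85, 97, 109, 111] (v10 C) [10, 29, 83, 101, 124] :=
  C.flip (f7456 C)

theorem f7458 : C.T (v2 C) [4, 29, 67, 82, 99] (v4 C) [14, 36, 60, 81, 107, 109, 125] :=
  C.conv (f437 C) (f595 C) (f595 C) _ [126, 163, 170, 173, 177] _ (by decide +kernel) (by decide +kernel) (by decide +kernel)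

theorem f7459 : C.S (v4 C) [18, 46, 49, 75, 97, 110, 118] :=
  C.stMul (f407 C) (f407 C) _ (by decide +kernel)

theorem f7460 : C.T (v4 C) [5, 42, 49, 77, 104, 110, 121] (v16 C) [16, 29, 49, 89, 96, 110, 113] :=
  C.conv (f4054 C) (f7459 C) (f7459 C) _ [136, 158, 169, 174] _ (by decide +kernel) (by decide +kernel) (by decide +kernel)

theorem f7461 : C.S (v2 C) [6, 46, 61, 80, 99, 109, 116] :=
  C.stMul (f211 C) (f125 C) _ (by decide +kernel)

theorem f7462 : C.S (v2 C) [18, 44, 65, 85, 94, 109, 121] :=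
  C.stMul (f149 C) (f7461 C) _ (by decide +kernel)

theorem f7463 : C.T (v2 C) [6, 39, 53, 70, 100, 109, 117] (v18 C) [17, 46, 53, 83, 101, 109, 115] :=
  C.conv (f6850 C) (f6867 C) (f7462 C) _ [138, 159, 164, 176] _ (by decide +kernel) (by decide +kernel) (by decide +kernel)

theorem f7464 : C.T (v18 C) [17, 46, 53, 83, 101, 109, 115] (v2 C) [6, 39, 53, 70, 100, 109, 117] :=
  C.flip (f7463 C)

theorem f7465 : C.T (v16 C) [13, 30, 66, 70, 93, 112] (v18 C) [7, 41, 53, 83, 101, 109, 115] :=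
  C.closeT (p := (v2 C)) (pu := [4, 29, 67, 82, 99])
    (C.pT (f7458 C)
    (C.pH [8, 30, 65, 84, 94, 117] [5, 42, 49, 77, 104, 110, 121] (by decide +kernel)
    (C.pT (f7460 C)
    (C.pH [26, 38, 54, 89, 90, 113] [13, 30, 66, 70, 93, 112] (by decide +kernel) (C.pNil _ _)))))
    (C.pH [8, 30, 65, 84, 94, 117] [17, 46, 53, 83, 101, 109, 115] (by decide +kernel)
    (C.pT (f7464 C)
    (C.pH [26, 38, 54, 89, 90, 113] [4, 29, 67, 82, 99] (by decide +kernel) (C.pNil _ _))))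
    (C.loop_of_one (relLoop1 C) _ _)

theorem f7466 : C.T (v18 C) [7, 41, 53, 83, 101, 109, 115] (v16 C) [13, 30, 66, 70, 93, 112] :=
  C.flip (f7465 C)

theorem f7467 : C.T (v2 C) [7, 27, 69, 89, 101, 124] (v4 C) [14, 28, 54, 88, 93, 109, 125] :=
  C.conv (f437 C) (f595 C) (f595 C) _ [129, 160, 170, 176] _ (by decide +kernel) (by decide +kernel) (by decide +kernel)

theorem f7468 : C.S (v4 C) [18, 46, 49, 75, 97, 110, 118] :=
  C.stMul (f407 C) (f407 C) _ (by decide +kernel)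

theorem f7469 : C.S (v4 C) [16, 43, 64, 82, 90, 110, 123] :=
  C.stMul (f421 C) (f7468 C) _ (by decide +kernel)

theorem f7470 : C.S (v4 C) [23, 45, 57, 77, 95, 110, 118] :=
  C.stMul (f407 C) (f7468 C) _ (by decide +kernel)

theorem f7471 : C.T (v4 C) [5, 33, 54, 82, 102, 110] (v18 C) [17, 33, 57, 89, 92, 110] :=
  C.conv (f7446 C) (f7469 C) (f7470 C) _ [148, 159, 167, 175] _ (by decide +kernel) (by decide +kernel) (by decide +kernel)

theorem f7472 : C.T (v2 C) [23, 41, 49, 106, 110, 112] (v18 C) [17, 32, 64, 70, 101, 110, 118] :=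
  C.conv (f6830 C) (f323 C) (f7037 C) _ [139, 152, 167, 173, 177] _ (by decide +kernel) (by decide +kernel) (by decide +kernel)

theorem f7473 : C.T (v18 C) [17, 32, 64, 70, 101, 110, 118] (v2 C) [23, 41, 49, 106, 110, 112] :=
  C.flip (f7472 C)

theorem f7474 : C.T (v18 C) [20, 46, 51, 89, 93, 117] (v18 C) [7, 33, 60, 109, 125] :=
  C.closeT (p := (v2 C)) (pu := [7, 27, 69, 89, 101, 124])
    (C.pT (f7467 C)
    (C.pH [8, 30, 65, 84, 94, 117] [5, 33, 54, 82, 102, 110] (by decide +kernel)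
    (C.pT (f7471 C)
    (C.pH [26, 38, 54, 89, 90, 113] [20, 46, 51, 89, 93, 117] (by decide +kernel) (C.pNil _ _)))))
    (C.pH [8, 30, 65, 84, 94, 117] [17, 32, 64, 70, 101, 110, 118] (by decide +kernel)
    (C.pT (f7473 C)
    (C.pH [26, 38, 54, 89, 90, 113] [7, 27, 69, 89, 101, 124] (by decide +kernel) (C.pNil _ _))))
    (C.loop_of_one (relLoop1 C) _ _)

theorem f7475 : C.T (v18 C) [7, 33, 60, 109, 125] (v18 C) [20, 46, 51, 89, 93, 117] :=
  C.flip (f7474 C)

theorem f7476 : C.T (v2 C) [18, 45, 62, 87, 92, 117] (v4 C) [19, 68, 79, 97, 109, 123] :=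
  C.conv (f437 C) (f595 C) (f595 C) _ [140, 157, 165, 171, 177] _ (by decide +kernel) (by decide +kernel) (by decide +kernel)

theorem f7477 : C.S (v2 C) [12, 30, 55, 77, 93, 124] :=
  C.stMul (f243 C) (f138 C) _ (by decide +kernel)

theorem f7478 : C.T (v2 C) [25, 41, 53, 73, 101, 110, 117] (v4 C) [25, 39, 68, 84, 94, 110, 120] :=
  C.conv (f437 C) (f595 C) (f7477 C) _ [145, 156, 164, 173, 178] _ (by decide +kernel) (by decide +kernel) (by decide +kernel)

theorem f7479 : C.T (v4 C) [25, 39, 68, 84, 94, 110, 120] (v2 C) [25, 41, 53, 73, 101, 110, 117] :=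
  C.flip (f7478 C)

theorem f7480 : C.S (v4 C) [10, 27, 56, 84, 93, 109, 113] :=
  C.stMul (f407 C) (f421 C) _ (by decide +kernel)

theorem f7481 : C.S (v4 C) [25, 47, 59, 76, 103, 109, 113] :=
  C.stMul (f421 C) (f7480 C) _ (by decide +kernel)

theorem f7482 : C.S (v4 C) [13, 41, 65, 83, 103, 110, 118] :=
  C.stMul (f693 C) (f7481 C) _ (by decide +kernel)

theorem f7483 : C.S (v4 C) [21, 41, 64, 81, 97, 110, 115] :=
  C.stMul (f421 C) (f7482 C) _ (by decide +kernel)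

theorem f7484 : C.S (v4 C) [18, 46, 49, 75, 97, 110, 118] :=
  C.stMul (f407 C) (f407 C) _ (by decide +kernel)

theorem f7485 : C.T (v4 C) [4, 38, 52, 70, 92, 109, 114] (v18 C) [17, 28, 62, 84, 107, 110, 122] :=
  C.conv (f7423 C) (f7483 C) (f7484 C) _ [128, 156, 166, 177] _ (by decide +kernel) (by decide +kernel) (by decide +kernel)

theorem f7486 : C.T (v18 C) [17, 28, 62, 84, 107, 110, 122] (v4 C) [4, 38, 52, 70, 92, 109, 114] :=
  C.flip (f7485 C)

theorem f7487 : C.T (v4 C) [26, 48, 50, 76, 94, 124] (v18 C) [19, 46, 69, 84, 107, 110, 122] :=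
  C.closeT (p := (v2 C)) (pu := [18, 45, 62, 87, 92, 117])
    (C.pT (f7476 C)
    (C.pH [8, 30, 65, 84, 94, 117] [26, 48, 50, 76, 94, 124] (by decide +kernel) (C.pNil _ _)))
    (C.pH [26, 38, 54, 89, 90, 113] [17, 28, 62, 84, 107, 110, 122] (by decide +kernel)
    (C.pT (f7486 C)
    (C.pH [8, 30, 65, 84, 94, 117] [25, 39, 68, 84, 94, 110, 120] (by decide +kernel)
    (C.pT (f7479 C)
    (C.pH [26, 38, 54, 89, 90, 113] [18, 45, 62, 87, 92, 117] (by decide +kernel) (C.pNil _ _))))))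
    (C.loop_of_one (relLoop1 C) _ _)

theorem f7488 : C.T (v18 C) [19, 46, 69, 84, 107, 110, 122] (v4 C) [26, 48, 50, 76, 94, 124] :=
  C.flip (f7487 C)

theorem f7489 : C.T (v2 C) [22, 43, 63, 73, 90, 110, 113] (v4 C) [9, 32, 61, 77, 99, 109, 111] :=
  C.conv (f450 C) (f109 C) (f109 C) _ [133, 170, 175, 177] _ (by decide +kernel) (by decide +kernel) (by decide +kernel)

theorem f7490 : C.S (v4 C) [18, 46, 49, 75, 97, 110, 118] :=
  C.stMul (f407 C) (f407 C) _ (by decide +kernel)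

theorem f7491 : C.S (v4 C) [23, 45, 57, 77, 95, 110, 118] :=
  C.stMul (f407 C) (f7490 C) _ (by decide +kernel)

theorem f7492 : C.S (v4 C) [26, 43, 63, 73, 104, 112] :=
  C.stMul (f421 C) (f7491 C) _ (by decide +kernel)

theorem f7493 : C.S (v4 C) [25, 46, 61, 102, 110, 119] :=
  C.stMul (f407 C) (f7492 C) _ (by decide +kernel)

theorem f7494 : C.S (v4 C) [26, 42, 68, 71, 107, 109, 113] :=
  C.stMul (f407 C) (f7493 C) _ (by decide +kernel)

theorem f7495 : C.T (v4 C) [18, 27, 54, 79, 97, 109, 115] (v18 C) [10, 27, 60, 89, 105] :=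
  C.conv (f6930 C) (f7494 C) (f7491 C) _ [132, 151, 166, 174] _ (by decide +kernel) (by decide +kernel) (by decide +kernel)

theorem f7496 : C.S (v2 C) [9, 44, 65, 85, 106, 109, 120] :=
  C.stMul (f109 C) (f6949 C) _ (by decide +kernel)

theorem f7497 : C.T (v2 C) [9, 47, 67, 84, 97, 109, 117] (v18 C) [19, 47, 69, 78, 100, 110, 123] :=
  C.conv (f6850 C) (f6867 C) (f7496 C) _ [138, 152, 168, 171] _ (by decide +kernel) (by decide +kernel) (by decide +kernel)

theorem f7498 : C.T (v18 C) [19, 47, 69, 78, 100, 110, 123] (v2 C) [9, 47, 67, 84, 97, 109, 117] :=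
  C.flip (f7497 C)

theorem f7499 : C.T (v18 C) [21, 29, 68, 107, 110, 119] (v18 C) [15, 46, 51, 76, 90, 110, 125] :=
  C.closeT (p := (v2 C)) (pu := [22, 43, 63, 73, 90, 110, 113])
    (C.pT (f7489 C)
    (C.pH [8, 30, 65, 84, 94, 117] [18, 27, 54, 79, 97, 109, 115] (by decide +kernel)
    (C.pT (f7495 C)
    (C.pH [26, 38, 54, 89, 90, 113] [21, 29, 68, 107, 110, 119] (by decide +kernel) (C.pNil _ _)))))
    (C.pH [8, 30, 65, 84, 94, 117] [19, 47, 69, 78, 100, 110, 123] (by decide +kernel)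
    (C.pT (f7498 C)
    (C.pH [26, 38, 54, 89, 90, 113] [22, 43, 63, 73, 90, 110, 113] (by decide +kernel) (C.pNil _ _))))
    (C.loop_of_one (relLoop1 C) _ _)

theorem f7500 : C.T (v18 C) [15, 46, 51, 76, 90, 110, 125] (v18 C) [21, 29, 68, 107, 110, 119] :=
  C.flip (f7499 C)

theorem f7501 : C.T (v2 C) [5, 46, 59, 85, 96, 115] (v4 C) [21, 39, 54, 88, 95, 109, 125] :=
  C.conv (f450 C) (f109 C) (f109 C) _ [138, 161, 165, 175] _ (by decide +kernel) (by decide +kernel) (by decide +kernel)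

theorem f7502 : C.S (v4 C) [17, 35, 66, 70, 95] :=
  C.stMul (f421 C) (f407 C) _ (by decide +kernel)

theorem f7503 : C.S (v4 C) [13, 44, 51, 82, 106, 110, 111] :=
  C.stMul (f407 C) (f7502 C) _ (by decide +kernel)

theorem f7504 : C.T (v4 C) [24, 48, 58, 97, 110, 125] (v18 C) [8, 40, 68, 74, 103, 109, 113] :=
  C.conv (f7256 C) (f7503 C) (f421 C) _ [137, 161, 166, 173, 178] _ (by decide +kernel) (by decide +kernel) (by decide +kernel)

theorem f7505 : C.S (v2 C) [22, 45, 58, 92, 109] :=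
  C.stMul (f243 C) (f109 C) _ (by decide +kernel)

theorem f7506 : C.S (v2 C) [14, 41, 55, 75, 91, 109] :=
  C.stMul (f211 C) (f7505 C) _ (by decide +kernel)

theorem f7507 : C.S (v2 C) [14, 34, 56, 86, 108, 109, 113] :=
  C.stMul (f149 C) (f7506 C) _ (by decide +kernel)

theorem f7508 : C.T (v2 C) [14, 44, 57, 79, 95, 109, 115] (v17 C) [4, 33, 61, 71, 100, 110, 122] :=
  C.conv (f6632 C) (f6971 C) (f7507 C) _ [145, 163, 170, 172, 178] _ (by decide +kernel) (by decide +kernel) (by decide +kernel)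

theorem f7509 : C.T (v17 C) [4, 33, 61, 71, 100, 110, 122] (v2 C) [14, 44, 57, 79, 95, 109, 115] :=
  C.flip (f7508 C)

theorem f7510 : C.T (v18 C) [11, 41, 67, 82, 102, 109, 114] (v17 C) [18, 32, 56, 78, 105, 109, 117] :=
  C.closeT (p := (v2 C)) (pu := [5, 46, 59, 85, 96, 115])
    (C.pT (f7501 C)
    (C.pH [8, 30, 65, 84, 94, 117] [24, 48, 58, 97, 110, 125] (by decide +kernel)
    (C.pT (f7504 C)
    (C.pH [26, 38, 54, 89, 90, 113] [11, 41, 67, 82, 102, 109, 114] (by decide +kernel) (C.pNil _ _)))))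
    (C.pH [8, 30, 65, 84, 94, 117] [4, 33, 61, 71, 100, 110, 122] (by decide +kernel)
    (C.pT (f7509 C)
    (C.pH [26, 38, 54, 89, 90, 113] [5, 46, 59, 85, 96, 115] (by decide +kernel) (C.pNil _ _))))
    (C.loop_of_one (relLoop1 C) _ _)

theorem f7511 : C.T (v17 C) [18, 32, 56, 78, 105, 109, 117] (v18 C) [11, 41, 67, 82, 102, 109, 114] :=
  C.flip (f7510 C)

theorem f7512 : C.T (v2 C) [24, 38, 50, 75, 97, 117] (v4 C) [12, 43, 65, 87, 107, 109, 116] :=
  C.conv (f450 C) (f109 C) (f109 C) _ [128, 163, 169, 175, 177] _ (by decide +kernel) (by decide +kernel) (by decide +kernel)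

theorem f7513 : C.T (v4 C) [21, 43, 66, 87, 109, 125] (v18 C) [15, 44, 62, 71, 109, 120] :=
  C.conv (f6924 C) (f7427 C) (f421 C) _ [137, 154, 169, 173, 178] _ (by decide +kernel) (by decide +kernel) (by decide +kernel)

theorem f7514 : C.S (v2 C) [18, 44, 61, 70, 105, 112] :=
  C.stMul (f211 C) (f109 C) _ (by decide +kernel)

theorem f7515 : C.S (v2 C) [25, 42, 49, 77, 107, 109, 112] :=
  C.stMul (f243 C) (f7514 C) _ (by decide +kernel)

theorem f7516 : C.S (v2 C) [26, 45, 54, 75, 93, 117] :=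
  C.stMul (f211 C) (f7515 C) _ (by decide +kernel)

theorem f7517 : C.T (v2 C) [11, 28, 61, 80, 109, 115] (v4 C) [5, 44, 52, 71, 103, 110, 125] :=
  C.conv (f437 C) (f595 C) (f7516 C) _ [142, 158, 166, 175, 178] _ (by decide +kernel) (by decide +kernel) (by decide +kernel)

theorem f7518 : C.T (v4 C) [5, 44, 52, 71, 103, 110, 125] (v2 C) [11, 28, 61, 80, 109, 115] :=
  C.flip (f7517 C)

theorem f7519 : C.T (v18 C) [9, 48, 66, 70, 94] (v4 C) [14, 43, 59, 98, 110, 124] :=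
  C.closeT (p := (v2 C)) (pu := [24, 38, 50, 75, 97, 117])
    (C.pT (f7512 C)
    (C.pH [8, 30, 65, 84, 94, 117] [21, 43, 66, 87, 109, 125] (by decide +kernel)
    (C.pT (f7513 C)
    (C.pH [26, 38, 54, 89, 90, 113] [9, 48, 66, 70, 94] (by decide +kernel) (C.pNil _ _)))))
    (C.pH [8, 30, 65, 84, 94, 117] [5, 44, 52, 71, 103, 110, 125] (by decide +kernel)
    (C.pT (f7518 C)
    (C.pH [26, 38, 54, 89, 90, 113] [24, 38, 50, 75, 97, 117] (by decide +kernel) (C.pNil _ _))))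
    (C.loop_of_one (relLoop1 C) _ _)

theorem f7520 : C.T (v4 C) [14, 43, 59, 98, 110, 124] (v18 C) [9, 48, 66, 70, 94] :=
  C.flip (f7519 C)

theorem f7521 : C.T (v2 C) [22, 33, 64, 77, 101, 110, 116] (v3 C) [15, 29, 53, 108, 110, 122] :=
  C.conv (f817 C) (f837 C) (f837 C) _ [140, 160, 167, 171, 177] _ (by decide +kernel) (by decide +kernel) (by decide +kernel)

theorem f7522 : C.S (v3 C) [13, 29, 60, 92, 109, 121] :=
  C.stMul (f353 C) (f328 C) _ (by decide +kernel)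

theorem f7523 : C.S (v3 C) [30, 69, 79, 91] :=
  C.stMul (f335 C) (f7522 C) _ (by decide +kernel)

theorem f7524 : C.T (v3 C) [19, 28, 55, 86, 91, 121] (v15 C) [8, 44, 56, 70, 91, 110, 124] :=
  C.conv (f2902 C) (f2981 C) (f7523 C) _ [139, 162, 176] _ (by decide +kernel) (by decide +kernel) (by decide +kernel)

theorem f7525 : C.T (v2 C) [9, 45, 64, 72, 110, 122] (v18 C) [21, 29, 53, 70, 106, 110, 125] :=
  C.conv (f6850 C) (f6867 C) (f7198 C) _ [132, 153, 165, 171] _ (by decide +kernel) (by decide +kernel) (by decide +kernel)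

theorem f7526 : C.T (v18 C) [21, 29, 53, 70, 106, 110, 125] (v2 C) [9, 45, 64, 72, 110, 122] :=
  C.flip (f7525 C)

theorem f7527 : C.T (v15 C) [11, 32, 74, 121] (v18 C) [12, 31, 69, 82, 90, 112] :=
  C.closeT (p := (v2 C)) (pu := [22, 33, 64, 77, 101, 110, 116])
    (C.pT (f7521 C)
    (C.pH [8, 30, 65, 84, 94, 117] [19, 28, 55, 86, 91, 121] (by decide +kernel)
    (C.pT (f7524 C)
    (C.pH [26, 38, 54, 89, 90, 113] [11, 32, 74, 121] (by decide +kernel) (C.pNil _ _)))))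
    (C.pH [8, 30, 65, 84, 94, 117] [21, 29, 53, 70, 106, 110, 125] (by decide +kernel)
    (C.pT (f7526 C)
    (C.pH [26, 38, 54, 89, 90, 113] [22, 33, 64, 77, 101, 110, 116] (by decide +kernel) (C.pNil _ _))))
    (C.loop_of_one (relLoop1 C) _ _)

theorem f7528 : C.T (v18 C) [12, 31, 69, 82, 90, 112] (v15 C) [11, 32, 74, 121] :=
  C.flip (f7527 C)

theorem f7529 : C.T (v2 C) [29, 63, 76, 102, 121] (v3 C) [15, 32, 69, 89, 107, 109, 122] :=
  C.conv (f817 C) (f837 C) (f837 C) _ [133, 156, 166, 172] _ (by decide +kernel) (by decide +kernel) (by decide +kernel)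

theorem f7530 : C.T (v3 C) [19, 36, 64, 103, 125] (v5 C) [14, 44, 68, 81, 90, 110, 112] :=
  C.conv (f1048 C) (f1093 C) (f1091 C) _ [131, 169, 173] _ (by decide +kernel) (by decide +kernel) (by decide +kernel)

theorem f7531 : C.S (v2 C) [62, 79, 107, 109, 125] :=
  C.stMul (f211 C) (f6942 C) _ (by decide +kernel)

theorem f7532 : C.S (v2 C) [6, 46, 65, 87, 103, 109, 122] :=
  C.stMul (f138 C) (f7531 C) _ (by decide +kernel)

theorem f7533 : C.T (v2 C) [7, 37, 50, 84, 121] (v18 C) [9, 46, 54, 86, 92, 110, 111] :=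
  C.conv (f6830 C) (f323 C) (f7532 C) _ [131, 157, 168, 173, 178] _ (by decide +kernel) (by decide +kernel) (by decide +kernel)

theorem f7534 : C.T (v18 C) [9, 46, 54, 86, 92, 110, 111] (v2 C) [7, 37, 50, 84, 121] :=
  C.flip (f7533 C)

theorem f7535 : C.T (v5 C) [5, 46, 61, 80, 104, 109, 123] (v18 C) [25, 38, 50, 89, 90, 109, 121] :=
  C.closeT (p := (v2 C)) (pu := [29, 63, 76, 102, 121])
    (C.pT (f7529 C)
    (C.pH [8, 30, 65, 84, 94, 117] [19, 36, 64, 103, 125] (by decide +kernel)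
    (C.pT (f7530 C)
    (C.pH [26, 38, 54, 89, 90, 113] [5, 46, 61, 80, 104, 109, 123] (by decide +kernel) (C.pNil _ _)))))
    (C.pH [8, 30, 65, 84, 94, 117] [9, 46, 54, 86, 92, 110, 111] (by decide +kernel)
    (C.pT (f7534 C)
    (C.pH [26, 38, 54, 89, 90, 113] [29, 63, 76, 102, 121] (by decide +kernel) (C.pNil _ _))))
    (C.loop_of_one (relLoop1 C) _ _)

theorem f7536 : C.T (v18 C) [25, 38, 50, 89, 90, 109, 121] (v5 C) [5, 46, 61, 80, 104, 109, 123] :=
  C.flip (f7535 C)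

theorem f7537 : C.T (v2 C) [4, 39, 67, 73, 97, 110, 124] (v3 C) [23, 41, 54, 86, 96, 109, 115] :=
  C.conv (f817 C) (f837 C) (f837 C) _ [132, 161, 171] _ (by decide +kernel) (by decide +kernel) (by decide +kernel)

theorem f7538 : C.S (v3 C) [17, 52, 88, 94, 110, 125] :=
  C.stMul (f331 C) (f7334 C) _ (by decide +kernel)

theorem f7539 : C.T (v3 C) [10, 34, 59, 81, 90, 111] (v18 C) [5, 32, 52, 77, 106, 110, 112] :=
  C.conv (f6888 C) (f7333 C) (f7538 C) _ [137, 156, 165, 174, 178] _ (by decide +kernel) (by decide +kernel) (by decide +kernel)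

theorem f7540 : C.S (v2 C) [13, 42, 49, 76, 107, 110, 123] :=
  C.stMul (f149 C) (f6988 C) _ (by decide +kernel)

theorem f7541 : C.S (v2 C) [11, 28, 67, 83, 90, 109, 116] :=
  C.stMul (f138 C) (f7540 C) _ (by decide +kernel)

theorem f7542 : C.T (v2 C) [6, 38, 53, 70, 104, 110, 112] (v18 C) [22, 40, 61, 85, 96, 110, 113] :=
  C.conv (f6850 C) (f6867 C) (f7541 C) _ [134, 169, 174] _ (by decide +kernel) (by decide +kernel) (by decide +kernel)

theorem f7543 : C.T (v18 C) [22, 40, 61, 85, 96, 110, 113] (v2 C) [6, 38, 53, 70, 104, 110, 112] :=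
  C.flip (f7542 C)

theorem f7544 : C.T (v18 C) [8, 39, 62, 76, 90, 109, 114] (v18 C) [17, 34, 52, 71, 97, 110, 125] :=
  C.closeT (p := (v2 C)) (pu := [4, 39, 67, 73, 97, 110, 124])
    (C.pT (f7537 C)
    (C.pH [8, 30, 65, 84, 94, 117] [10, 34, 59, 81, 90, 111] (by decide +kernel)
    (C.pT (f7539 C)
    (C.pH [26, 38, 54, 89, 90, 113] [8, 39, 62, 76, 90, 109, 114] (by decide +kernel) (C.pNil _ _)))))
    (C.pH [8, 30, 65, 84, 94, 117] [22, 40, 61, 85, 96, 110, 113] (by decide +kernel)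
    (C.pT (f7543 C)
    (C.pH [26, 38, 54, 89, 90, 113] [4, 39, 67, 73, 97, 110, 124] (by decide +kernel) (C.pNil _ _))))
    (C.loop_of_one (relLoop1 C) _ _)

theorem f7548 : C.T (v2 C) [26, 41, 66, 88, 95, 122] (v3 C) [10, 40, 58, 86, 104, 110, 112] :=
  C.conv (f817 C) (f837 C) (f837 C) _ [137, 160, 170, 173, 178] _ (by decide +kernel) (by decide +kernel) (by decide +kernel)

theorem f7549 : C.S (v3 C) [18, 33, 63, 86, 90, 124] :=
  C.stMul (f331 C) (f3235 C) _ (by decide +kernel)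

theorem f7550 : C.S (v3 C) [22, 44, 63, 70, 99, 110, 123] :=
  C.stMul (f353 C) (f7549 C) _ (by decide +kernel)

theorem f7551 : C.S (v3 C) [4, 36, 66, 75, 93, 109, 117] :=
  C.stMul (f335 C) (f7550 C) _ (by decide +kernel)

theorem f7552 : C.T (v3 C) [15, 47, 59, 76, 91, 110, 125] (v15 C) [17, 39, 55, 85, 94, 110, 121] :=
  C.conv (f3166 C) (f3236 C) (f7551 C) _ [131, 173, 178] _ (by decide +kernel) (by decide +kernel) (by decide +kernel)

theorem f7553 : C.S (v2 C) [13, 27, 65, 84, 101, 109, 118] :=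
  C.stMul (f243 C) (f125 C) _ (by decide +kernel)

theorem f7554 : C.S (v2 C) [12, 31, 64, 71, 92, 109, 125] :=
  C.stMul (f109 C) (f7553 C) _ (by decide +kernel)

theorem f7555 : C.T (v2 C) [36, 63, 76, 103, 110, 120] (v18 C) [9, 29, 58, 79, 99, 118] :=
  C.conv (f6830 C) (f323 C) (f7554 C) _ [131, 155, 169, 171, 178] _ (by decide +kernel) (by decide +kernel) (by decide +kernel)

theorem f7556 : C.T (v18 C) [9, 29, 58, 79, 99, 118] (v2 C) [36, 63, 76, 103, 110, 120] :=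
  C.flip (f7555 C)

theorem f7557 : C.T (v15 C) [20, 43, 57, 81, 94, 114] (v18 C) [25, 44, 60, 76, 106, 125] :=
  C.closeT (p := (v2 C)) (pu := [26, 41, 66, 88, 95, 122])
    (C.pT (f7548 C)
    (C.pH [8, 30, 65, 84, 94, 117] [15, 47, 59, 76, 91, 110, 125] (by decide +kernel)
    (C.pT (f7552 C)
    (C.pH [26, 38, 54, 89, 90, 113] [20, 43, 57, 81, 94, 114] (by decide +kernel) (C.pNil _ _)))))
    (C.pH [8, 30, 65, 84, 94, 117] [9, 29, 58, 79, 99, 118] (by decide +kernel)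
    (C.pT (f7556 C)
    (C.pH [26, 38, 54, 89, 90, 113] [26, 41, 66, 88, 95, 122] (by decide +kernel) (C.pNil _ _))))
    (C.loop_of_one (relLoop1 C) _ _)

theorem f7558 : C.T (v18 C) [25, 44, 60, 76, 106, 125] (v15 C) [20, 43, 57, 81, 94, 114] :=
  C.flip (f7557 C)

theorem f7559 : C.T (v2 C) [11, 42, 56, 80, 102, 121] (v3 C) [26, 45, 54, 81, 90, 109, 117] :=
  C.conv (f817 C) (f837 C) (f837 C) _ [134, 149, 168, 176, 177] _ (by decide +kernel) (by decide +kernel) (by decide +kernel)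

theorem f7560 : C.S (v3 C) [23, 29, 57, 87, 91, 110, 120] :=
  C.stMul (f331 C) (f328 C) _ (by decide +kernel)

theorem f7561 : C.S (v3 C) [7, 39, 56, 89, 103, 119] :=
  C.stMul (f331 C) (f7560 C) _ (by decide +kernel)

theorem f7562 : C.T (v3 C) [14, 27, 61, 89, 90, 110, 118] (v18 C) [20, 48, 54, 80, 99, 109, 111] :=
  C.conv (f6888 C) (f7333 C) (f7561 C) _ [134, 149, 166, 172] _ (by decide +kernel) (by decide +kernel) (by decide +kernel)

theorem f7563 : C.S (v2 C) [20, 48, 60, 70, 100, 110, 111] :=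
  C.stMul (f125 C) (f149 C) _ (by decide +kernel)

theorem f7564 : C.S (v2 C) [7, 34, 63, 110, 121] :=
  C.stMul (f243 C) (f7563 C) _ (by decide +kernel)

theorem f7565 : C.S (v2 C) [25, 42, 73, 101, 114] :=
  C.stMul (f149 C) (f7564 C) _ (by decide +kernel)

theorem f7566 : C.T (v2 C) [8, 36, 58, 71, 91, 110, 125] (v17 C) [25, 31, 64, 82, 93, 118] :=
  C.conv (f6632 C) (f6971 C) (f7565 C) _ [133, 149, 175, 177] _ (by decide +kernel) (by decide +kernel) (by decide +kernel)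

theorem f7567 : C.T (v17 C) [25, 31, 64, 82, 93, 118] (v2 C) [8, 36, 58, 71, 91, 110, 125] :=
  C.flip (f7566 C)

theorem f7568 : C.T (v18 C) [15, 52, 86, 93, 110, 116] (v17 C) [4, 37, 49, 88, 97, 109, 112] :=
  C.closeT (p := (v2 C)) (pu := [11, 42, 56, 80, 102, 121])
    (C.pT (f7559 C)
    (C.pH [8, 30, 65, 84, 94, 117] [14, 27, 61, 89, 90, 110, 118] (by decide +kernel)
    (C.pT (f7562 C)
    (C.pH [26, 38, 54, 89, 90, 113] [15, 52, 86, 93, 110, 116] (by decide +kernel) (C.pNil _ _)))))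
    (C.pH [8, 30, 65, 84, 94, 117] [25, 31, 64, 82, 93, 118] (by decide +kernel)
    (C.pT (f7567 C)
    (C.pH [26, 38, 54, 89, 90, 113] [11, 42, 56, 80, 102, 121] (by decide +kernel) (C.pNil _ _))))
    (C.loop_of_one (relLoop1 C) _ _)

theorem f7569 : C.T (v17 C) [4, 37, 49, 88, 97, 109, 112] (v18 C) [15, 52, 86, 93, 110, 116] :=
  C.flip (f7568 C)

theorem f7570 : C.T (v2 C) [14, 45, 49, 73, 109, 118] (v3 C) [22, 44, 51, 77, 90, 110, 113] :=
  C.conv (f817 C) (f837 C) (f837 C) _ [127, 152, 169] _ (by decide +kernel) (by decide +kernel) (by decide +kernel)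

theorem f7571 : C.T (v3 C) [6, 37, 56, 72, 90, 110, 120] (v4 C) [33, 69, 73, 100, 110, 112] :=
  C.conv (f841 C) (f926 C) (f353 C) _ [141, 168, 175, 178] _ (by decide +kernel) (by decide +kernel) (by decide +kernel)

theorem f7572 : C.S (v2 C) [13, 27, 69, 72, 114] :=
  C.stMul (f138 C) (f6963 C) _ (by decide +kernel)

theorem f7573 : C.T (v2 C) [12, 44, 56, 78, 101, 109, 119] (v18 C) [14, 42, 56, 88, 100, 110, 121] :=
  C.conv (f6830 C) (f323 C) (f7572 C) _ [136, 170, 171, 177] _ (by decide +kernel) (by decide +kernel) (by decide +kernel)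

theorem f7574 : C.T (v18 C) [14, 42, 56, 88, 100, 110, 121] (v2 C) [12, 44, 56, 78, 101, 109, 119] :=
  C.flip (f7573 C)

theorem f7575 : C.T (v4 C) [26, 32, 53, 70, 90, 123] (v18 C) [26, 33, 61, 80, 103, 109, 112] :=
  C.closeT (p := (v2 C)) (pu := [14, 45, 49, 73, 109, 118])
    (C.pT (f7570 C)
    (C.pH [8, 30, 65, 84, 94, 117] [6, 37, 56, 72, 90, 110, 120] (by decide +kernel)
    (C.pT (f7571 C)
    (C.pH [26, 38, 54, 89, 90, 113] [26, 32, 53, 70, 90, 123] (by decide +kernel) (C.pNil _ _)))))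
    (C.pH [8, 30, 65, 84, 94, 117] [14, 42, 56, 88, 100, 110, 121] (by decide +kernel)
    (C.pT (f7574 C)
    (C.pH [26, 38, 54, 89, 90, 113] [14, 45, 49, 73, 109, 118] (by decide +kernel) (C.pNil _ _))))
    (C.loop_of_one (relLoop1 C) _ _)

theorem f7576 : C.T (v18 C) [26, 33, 61, 80, 103, 109, 112] (v4 C) [26, 32, 53, 70, 90, 123] :=
  C.flip (f7575 C)

theorem f7577 : C.T (v2 C) [40, 67, 73, 99, 110, 114] (v3 C) [15, 35, 50, 81, 107, 117] :=
  C.conv (f817 C) (f837 C) (f837 C) _ [129, 163, 166, 171, 177] _ (by decide +kernel) (by decide +kernel) (by decide +kernel)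

theorem f7578 : C.T (v3 C) [19, 27, 60, 73, 98, 118] (v18 C) [5, 46, 59, 81, 99, 119] :=
  C.conv (f6916 C) (f7402 C) (f353 C) _ [135, 150, 166, 173, 178] _ (by decide +kernel) (by decide +kernel) (by decide +kernel)

theorem f7579 : C.S (v2 C) [20, 48, 63, 82, 108, 109, 119] :=
  C.stMul (f138 C) (f7461 C) _ (by decide +kernel)

theorem f7580 : C.S (v2 C) [10, 43, 57, 71, 94, 123] :=
  C.stMul (f211 C) (f7579 C) _ (by decide +kernel)

theorem f7581 : C.S (v2 C) [6, 53, 81, 95, 109, 120] :=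
  C.stMul (f211 C) (f7580 C) _ (by decide +kernel)

theorem f7582 : C.T (v2 C) [7, 29, 49, 84, 93, 115] (v18 C) [20, 37, 67, 80, 100, 110, 121] :=
  C.conv (f6850 C) (f6867 C) (f7581 C) _ [145, 154, 164, 175, 177] _ (by decide +kernel) (by decide +kernel) (by decide +kernel)

theorem f7583 : C.T (v18 C) [20, 37, 67, 80, 100, 110, 121] (v2 C) [7, 29, 49, 84, 93, 115] :=
  C.flip (f7582 C)

theorem f7584 : C.T (v18 C) [8, 46, 49, 73, 99, 109, 121] (v18 C) [16, 34, 52, 83, 94, 115] :=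
  C.closeT (p := (v2 C)) (pu := [40, 67, 73, 99, 110, 114])
    (C.pT (f7577 C)
    (C.pH [8, 30, 65, 84, 94, 117] [19, 27, 60, 73, 98, 118] (by decide +kernel)
    (C.pT (f7578 C)
    (C.pH [26, 38, 54, 89, 90, 113] [8, 46, 49, 73, 99, 109, 121] (by decide +kernel) (C.pNil _ _)))))
    (C.pH [8, 30, 65, 84, 94, 117] [20, 37, 67, 80, 100, 110, 121] (by decide +kernel)
    (C.pT (f7583 C)
    (C.pH [26, 38, 54, 89, 90, 113] [40, 67, 73, 99, 110, 114] (by decide +kernel) (C.pNil _ _))))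
    (C.loop_of_one (relLoop1 C) _ _)

theorem f7587 : C.T (v2 C) [26, 30, 64, 89, 96, 109, 115] (v4 C) [5, 46, 62, 80, 98, 110, 114] :=
  C.conv (f857 C) (f864 C) (f864 C) _ [134, 150, 174, 178] _ (by decide +kernel) (by decide +kernel) (by decide +kernel)

theorem f7588 : C.T (v4 C) [12, 28, 60, 77, 91, 110] (v10 C) [16, 36, 49, 87, 95, 110, 115] :=
  C.conv (f1798 C) (f1856 C) (f1855 C) _ [156, 168, 176] _ (by decide +kernel) (by decide +kernel) (by decide +kernel)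

theorem f7589 : C.S (v2 C) [12, 30, 55, 77, 93, 124] :=
  C.stMul (f243 C) (f138 C) _ (by decide +kernel)

theorem f7590 : C.S (v2 C) [24, 37, 54, 87, 108, 119] :=
  C.stMul (f149 C) (f7589 C) _ (by decide +kernel)

theorem f7591 : C.T (v2 C) [32, 61, 80, 102, 110, 118] (v18 C) [20, 41, 60, 70, 107, 110, 111] :=
  C.conv (f6830 C) (f323 C) (f7590 C) _ [142, 158, 167, 174, 177] _ (by decide +kernel) (by decide +kernel) (by decide +kernel)

theorem f7592 : C.T (v18 C) [20, 41, 60, 70, 107, 110, 111] (v2 C) [32, 61, 80, 102, 110, 118] :=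
  C.flip (f7591 C)

theorem f7593 : C.T (v10 C) [13, 36, 53, 79, 97, 109, 121] (v18 C) [16, 33, 60, 79] :=
  C.closeT (p := (v2 C)) (pu := [26, 30, 64, 89, 96, 109, 115])
    (C.pT (f7587 C)
    (C.pH [8, 30, 65, 84, 94, 117] [12, 28, 60, 77, 91, 110] (by decide +kernel)
    (C.pT (f7588 C)
    (C.pH [26, 38, 54, 89, 90, 113] [13, 36, 53, 79, 97, 109, 121] (by decide +kernel) (C.pNil _ _)))))
    (C.pH [8, 30, 65, 84, 94, 117] [20, 41, 60, 70, 107, 110, 111] (by decide +kernel)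
    (C.pT (f7592 C)
    (C.pH [26, 38, 54, 89, 90, 113] [26, 30, 64, 89, 96, 109, 115] (by decide +kernel) (C.pNil _ _))))
    (C.loop_of_one (relLoop1 C) _ _)

theorem f7594 : C.T (v18 C) [16, 33, 60, 79] (v10 C) [13, 36, 53, 79, 97, 109, 121] :=
  C.flip (f7593 C)

theorem f7595 : C.T (v2 C) [15, 43, 52, 80, 108, 110, 111] (v4 C) [5, 37, 69, 77, 103, 119] :=
  C.conv (f857 C) (f864 C) (f864 C) _ [134, 154, 174] _ (by decide +kernel) (by decide +kernel) (by decide +kernel)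

theorem f7596 : C.S (v4 C) [23, 41, 49, 78, 91, 109] :=
  C.stMul (f693 C) (f421 C) _ (by decide +kernel)

theorem f7597 : C.S (v4 C) [26, 36, 62, 77, 94, 121] :=
  C.stMul (f421 C) (f7596 C) _ (by decide +kernel)

theorem f7598 : C.S (v4 C) [25, 42, 55, 82, 95, 109] :=
  C.stMul (f407 C) (f7597 C) _ (by decide +kernel)

theorem f7599 : C.T (v4 C) [12, 43, 105, 109, 117] (v4 C) [7, 48, 68, 73, 104, 119] :=
  C.conv (f517 C) (f723 C) (f7598 C) _ [135, 154, 166, 171, 178] _ (by decide +kernel) (by decide +kernel) (by decide +kernel)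

theorem f7600 : C.S (v2 C) [5, 33, 82, 107, 111] :=
  C.stMul (f211 C) (f243 C) _ (by decide +kernel)

theorem f7601 : C.S (v2 C) [8, 46, 55, 78, 93, 116] :=
  C.stMul (f138 C) (f7600 C) _ (by decide +kernel)

theorem f7602 : C.S (v2 C) [13, 42, 64, 89, 92, 111] :=
  C.stMul (f211 C) (f7601 C) _ (by decide +kernel)

theorem f7603 : C.T (v2 C) [20, 29, 68, 82, 95, 110, 119] (v18 C) [7, 58, 71, 95, 118] :=
  C.conv (f6850 C) (f6867 C) (f7602 C) _ [145, 153, 170, 175, 177] _ (by decide +kernel) (by decide +kernel) (by decide +kernel)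

theorem f7604 : C.T (v18 C) [7, 58, 71, 95, 118] (v2 C) [20, 29, 68, 82, 95, 110, 119] :=
  C.flip (f7603 C)

theorem f7605 : C.T (v4 C) [38, 53, 74, 104, 115] (v18 C) [11, 35, 58, 71, 95, 118] :=
  C.closeT (p := (v2 C)) (pu := [15, 43, 52, 80, 108, 110, 111])
    (C.pT (f7595 C)
    (C.pH [8, 30, 65, 84, 94, 117] [12, 43, 105, 109, 117] (by decide +kernel)
    (C.pT (f7599 C)
    (C.pH [26, 38, 54, 89, 90, 113] [38, 53, 74, 104, 115] (by decide +kernel) (C.pNil _ _)))))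
    (C.pH [8, 30, 65, 84, 94, 117] [7, 58, 71, 95, 118] (by decide +kernel)
    (C.pT (f7604 C)
    (C.pH [26, 38, 54, 89, 90, 113] [15, 43, 52, 80, 108, 110, 111] (by decide +kernel) (C.pNil _ _))))
    (C.loop_of_one (relLoop1 C) _ _)

theorem f7606 : C.T (v18 C) [11, 35, 58, 71, 95, 118] (v4 C) [38, 53, 74, 104, 115] :=
  C.flip (f7605 C)

theorem f7607 : C.T (v2 C) [4, 32, 54, 70, 90, 120] (v4 C) [10, 35, 50, 79, 92, 109, 124] :=
  C.conv (f857 C) (f864 C) (f864 C) _ [145, 163, 165, 171, 177] _ (by decide +kernel) (by decide +kernel) (by decide +kernel)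

theorem f7608 : C.S (v4 C) [13, 28, 60, 83, 108, 110, 119] :=
  C.stMul (f421 C) (f693 C) _ (by decide +kernel)

theorem f7609 : C.T (v4 C) [15, 38, 59, 106, 109, 123] (v18 C) [13, 34, 53, 85, 98, 109, 121] :=
  C.conv (f6930 C) (f7494 C) (f7608 C) _ [135, 165] _ (by decide +kernel) (by decide +kernel) (by decide +kernel)

theorem f7610 : C.S (v2 C) [15, 46, 51, 72, 98, 110, 118] :=
  C.stMul (f211 C) (f6933 C) _ (by decide +kernel)

theorem f7611 : C.S (v2 C) [16, 36, 60, 80, 94, 109, 115] :=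
  C.stMul (f138 C) (f7610 C) _ (by decide +kernel)

theorem f7612 : C.T (v2 C) [6, 44, 57, 76, 96, 109, 114] (v18 C) [4, 38, 62, 75, 107] :=
  C.conv (f6850 C) (f6867 C) (f7611 C) _ [132, 157, 170, 171, 178] _ (by decide +kernel) (by decide +kernel) (by decide +kernel)

theorem f7613 : C.T (v18 C) [4, 38, 62, 75, 107] (v2 C) [6, 44, 57, 76, 96, 109, 114] :=
  C.flip (f7612 C)

theorem f7614 : C.T (v18 C) [23, 34, 84, 95, 122] (v18 C) [18, 31, 63, 75, 95, 109, 121] :=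
  C.closeT (p := (v2 C)) (pu := [4, 32, 54, 70, 90, 120])
    (C.pT (f7607 C)
    (C.pH [8, 30, 65, 84, 94, 117] [15, 38, 59, 106, 109, 123] (by decide +kernel)
    (C.pT (f7609 C)
    (C.pH [26, 38, 54, 89, 90, 113] [23, 34, 84, 95, 122] (by decide +kernel) (C.pNil _ _)))))
    (C.pH [8, 30, 65, 84, 94, 117] [4, 38, 62, 75, 107] (by decide +kernel)
    (C.pT (f7613 C)
    (C.pH [26, 38, 54, 89, 90, 113] [4, 32, 54, 70, 90, 120] (by decide +kernel) (C.pNil _ _))))
    (C.loop_of_one (relLoop1 C) _ _)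

theorem f7617 : C.T (v2 C) [14, 32, 65, 72, 105, 113] (v4 C) [16, 27, 50, 70, 98, 109, 111] :=
  C.conv (f857 C) (f864 C) (f864 C) _ [143, 154, 175, 178] _ (by decide +kernel) (by decide +kernel) (by decide +kernel)

theorem f7618 : C.S (v4 C) [13, 44, 51, 82, 106, 110, 111] :=
  C.stMul (f407 C) (f6565 C) _ (by decide +kernel)

theorem f7619 : C.S (v4 C) [17, 29, 60, 75, 100, 110, 113] :=
  C.stMul (f407 C) (f7618 C) _ (by decide +kernel)

theorem f7620 : C.T (v4 C) [20, 38, 53, 88, 92, 110, 125] (v17 C) [25, 37, 62, 73, 98, 119] :=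
  C.conv (f6156 C) (f6564 C) (f7619 C) _ [129, 155, 168] _ (by decide +kernel) (by decide +kernel) (by decide +kernel)

theorem f7621 : C.S (v2 C) [22, 36, 69, 77, 94, 110, 124] :=
  C.stMul (f243 C) (f7408 C) _ (by decide +kernel)

theorem f7622 : C.T (v2 C) [12, 40, 65, 74, 109, 117] (v18 C) [22, 30, 61, 80, 100, 110, 114] :=
  C.conv (f6850 C) (f6867 C) (f7621 C) _ [134, 157, 170, 174, 177] _ (by decide +kernel) (by decide +kernel) (by decide +kernel)

theorem f7623 : C.T (v18 C) [22, 30, 61, 80, 100, 110, 114] (v2 C) [12, 40, 65, 74, 109, 117] :=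
  C.flip (f7622 C)

theorem f7624 : C.T (v17 C) [18, 36, 50, 89, 95, 117] (v18 C) [17, 48, 62, 74, 102, 110, 119] :=
  C.closeT (p := (v2 C)) (pu := [14, 32, 65, 72, 105, 113])
    (C.pT (f7617 C)
    (C.pH [8, 30, 65, 84, 94, 117] [20, 38, 53, 88, 92, 110, 125] (by decide +kernel)
    (C.pT (f7620 C)
    (C.pH [26, 38, 54, 89, 90, 113] [18, 36, 50, 89, 95, 117] (by decide +kernel) (C.pNil _ _)))))
    (C.pH [8, 30, 65, 84, 94, 117] [22, 30, 61, 80, 100, 110, 114] (by decide +kernel)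
    (C.pT (f7623 C)
    (C.pH [26, 38, 54, 89, 90, 113] [14, 32, 65, 72, 105, 113] (by decide +kernel) (C.pNil _ _))))
    (C.loop_of_one (relLoop1 C) _ _)

theorem f7625 : C.T (v18 C) [17, 48, 62, 74, 102, 110, 119] (v17 C) [18, 36, 50, 89, 95, 117] :=
  C.flip (f7624 C)

theorem f7626 : C.T (v2 C) [18, 30, 63, 70, 119] (v4 C) [23, 43, 53, 87, 103, 115] :=
  C.conv (f857 C) (f864 C) (f864 C) _ [135, 157, 167, 172, 178] _ (by decide +kernel) (by decide +kernel) (by decide +kernel)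

theorem f7627 : C.S (v4 C) [17, 35, 66, 70, 95] :=
  C.stMul (f421 C) (f407 C) _ (by decide +kernel)

theorem f7628 : C.S (v4 C) [13, 44, 51, 82, 106, 110, 111] :=
  C.stMul (f407 C) (f7627 C) _ (by decide +kernel)

theorem f7629 : C.S (v4 C) [21, 35, 69, 73, 94, 109, 122] :=
  C.stMul (f421 C) (f7628 C) _ (by decide +kernel)

theorem f7630 : C.S (v4 C) [18, 37, 59, 73, 102, 116] :=
  C.stMul (f693 C) (f7629 C) _ (by decide +kernel)

theorem f7631 : C.T (v4 C) [10, 30, 59, 92, 110, 123] (v18 C) [9, 30, 74, 104, 122] :=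
  C.conv (f7575 C) (f7630 C) (f697 C) _ [148, 155, 170, 171, 178] _ (by decide +kernel) (by decide +kernel) (by decide +kernel)

theorem f7632 : C.S (v2 C) [23, 43, 66, 83, 103, 109, 120] :=
  C.stMul (f149 C) (f7070 C) _ (by decide +kernel)

theorem f7633 : C.S (v2 C) [21, 36, 64, 82, 106, 114] :=
  C.stMul (f243 C) (f7632 C) _ (by decide +kernel)

theorem f7634 : C.T (v2 C) [25, 44, 49, 70, 94, 110, 119] (v15 C) [7, 32, 50, 72, 97, 112] :=
  C.conv (f2638 C) (f3254 C) (f7633 C) _ [131, 161, 171, 178] _ (by decide +kernel) (by decide +kernel) (by decide +kernel)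

theorem f7635 : C.T (v15 C) [7, 32, 50, 72, 97, 112] (v2 C) [25, 44, 49, 70, 94, 110, 119] :=
  C.flip (f7634 C)

theorem f7636 : C.T (v18 C) [22, 47, 51, 70, 105, 110, 117] (v15 C) [11, 41, 61, 104, 110, 113] :=
  C.closeT (p := (v2 C)) (pu := [18, 30, 63, 70, 119])
    (C.pT (f7626 C)
    (C.pH [8, 30, 65, 84, 94, 117] [10, 30, 59, 92, 110, 123] (by decide +kernel)
    (C.pT (f7631 C)
    (C.pH [26, 38, 54, 89, 90, 113] [22, 47, 51, 70, 105, 110, 117] (by decide +kernel) (C.pNil _ _)))))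
    (C.pH [8, 30, 65, 84, 94, 117] [7, 32, 50, 72, 97, 112] (by decide +kernel)
    (C.pT (f7635 C)
    (C.pH [26, 38, 54, 89, 90, 113] [18, 30, 63, 70, 119] (by decide +kernel) (C.pNil _ _))))
    (C.loop_of_one (relLoop1 C) _ _)

theorem f7637 : C.T (v15 C) [11, 41, 61, 104, 110, 113] (v18 C) [22, 47, 51, 70, 105, 110, 117] :=
  C.flip (f7636 C)

theorem f7638 : C.T (v2 C) [20, 32, 54, 84, 93, 122] (v4 C) [7, 45, 69, 78, 107, 109, 111] :=
  C.conv (f857 C) (f864 C) (f864 C) _ [131, 153, 165, 176] _ (by decide +kernel) (by decide +kernel) (by decide +kernel)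

theorem f7639 : C.S (v4 C) [10, 27, 56, 84, 93, 109, 113] :=
  C.stMul (f407 C) (f421 C) _ (by decide +kernel)

theorem f7640 : C.S (v4 C) [16, 32, 68, 79, 93, 110, 124] :=
  C.stMul (f407 C) (f7639 C) _ (by decide +kernel)

theorem f7641 : C.S (v4 C) [18, 44, 51, 79, 106, 114] :=
  C.stMul (f421 C) (f7640 C) _ (by decide +kernel)

theorem f7642 : C.S (v4 C) [8, 31, 60, 85, 98, 110, 125] :=
  C.stMul (f693 C) (f407 C) _ (by decide +kernel)

theorem f7643 : C.S (v4 C) [42, 63, 82, 91, 110, 125] :=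
  C.stMul (f421 C) (f7642 C) _ (by decide +kernel)

theorem f7644 : C.S (v4 C) [12, 31, 56, 72, 107, 109, 112] :=
  C.stMul (f407 C) (f7643 C) _ (by decide +kernel)

theorem f7645 : C.T (v4 C) [17, 35, 67, 80, 94, 110, 112] (v17 C) [24, 48, 62, 78, 91, 115] :=
  C.conv (f5743 C) (f7641 C) (f7644 C) _ [134, 163, 167, 171] _ (by decide +kernel) (by decide +kernel) (by decide +kernel)

theorem f7646 : C.S (v2 C) [20, 63, 89, 93, 110, 115] :=
  C.stMul (f109 C) (f138 C) _ (by decide +kernel)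

theorem f7647 : C.S (v2 C) [10, 47, 59, 85, 94, 110, 125] :=
  C.stMul (f211 C) (f7646 C) _ (by decide +kernel)

theorem f7648 : C.T (v2 C) [17, 40, 66, 86, 107, 112] (v18 C) [8, 47, 60, 80, 100, 109, 113] :=
  C.conv (f6850 C) (f6867 C) (f7647 C) _ [141, 152, 175] _ (by decide +kernel) (by decide +kernel) (by decide +kernel)

theorem f7649 : C.T (v18 C) [8, 47, 60, 80, 100, 109, 113] (v2 C) [17, 40, 66, 86, 107, 112] :=
  C.flip (f7648 C)

theorem f7650 : C.T (v17 C) [12, 42, 67, 80, 99, 109, 111] (v18 C) [38, 56, 87, 95, 110, 118] :=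
  C.closeT (p := (v2 C)) (pu := [20, 32, 54, 84, 93, 122])
    (C.pT (f7638 C)
    (C.pH [8, 30, 65, 84, 94, 117] [17, 35, 67, 80, 94, 110, 112] (by decide +kernel)
    (C.pT (f7645 C)
    (C.pH [26, 38, 54, 89, 90, 113] [12, 42, 67, 80, 99, 109, 111] (by decide +kernel) (C.pNil _ _)))))
    (C.pH [8, 30, 65, 84, 94, 117] [8, 47, 60, 80, 100, 109, 113] (by decide +kernel)
    (C.pT (f7649 C)
    (C.pH [26, 38, 54, 89, 90, 113] [20, 32, 54, 84, 93, 122] (by decide +kernel) (C.pNil _ _))))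
    (C.loop_of_one (relLoop1 C) _ _)

theorem f7651 : C.T (v18 C) [38, 56, 87, 95, 110, 118] (v17 C) [12, 42, 67, 80, 99, 109, 111] :=
  C.flip (f7650 C)

theorem f7652 : C.T (v2 C) [17, 38, 56, 79, 105, 110, 120] (v4 C) [26, 35, 57, 81, 110, 114] :=
  C.conv (f857 C) (f864 C) (f864 C) _ [128, 151, 168, 177] _ (by decide +kernel) (by decide +kernel) (by decide +kernel)

theorem f7653 : C.T (v4 C) [14, 37, 58, 71, 96, 110, 116] (v18 C) [10, 37, 52, 87, 97, 109, 119] :=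
  C.conv (f7256 C) (f7503 C) (f697 C) _ [143, 154, 166, 175, 177] _ (by decide +kernel) (by decide +kernel) (by decide +kernel)

theorem f7654 : C.S (v2 C) [67, 83, 94, 110, 124] :=
  C.stMul (f138 C) (f7408 C) _ (by decide +kernel)

theorem f7655 : C.S (v2 C) [11, 46, 68, 84, 105] :=
  C.stMul (f243 C) (f7654 C) _ (by decide +kernel)

theorem f7656 : C.T (v2 C) [19, 48, 53, 89, 105, 109, 114] (v18 C) [6, 44, 49, 73, 107, 109, 114] :=
  C.conv (f6850 C) (f6867 C) (f7655 C) _ [131, 156, 171, 177] _ (by decide +kernel) (by decide +kernel) (by decide +kernel)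

theorem f7657 : C.T (v18 C) [6, 44, 49, 73, 107, 109, 114] (v2 C) [19, 48, 53, 89, 105, 109, 114] :=
  C.flip (f7656 C)

theorem f7658 : C.T (v18 C) [21, 37, 66, 89, 106, 109] (v18 C) [22, 40, 53, 76, 109, 119] :=
  C.closeT (p := (v2 C)) (pu := [17, 38, 56, 79, 105, 110, 120])
    (C.pT (f7652 C)
    (C.pH [8, 30, 65, 84, 94, 117] [14, 37, 58, 71, 96, 110, 116] (by decide +kernel)
    (C.pT (f7653 C)
    (C.pH [26, 38, 54, 89, 90, 113] [21, 37, 66, 89, 106, 109] (by decide +kernel) (C.pNil _ _)))))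
    (C.pH [8, 30, 65, 84, 94, 117] [6, 44, 49, 73, 107, 109, 114] (by decide +kernel)
    (C.pT (f7657 C)
    (C.pH [26, 38, 54, 89, 90, 113] [17, 38, 56, 79, 105, 110, 120] (by decide +kernel) (C.pNil _ _))))
    (C.loop_of_one (relLoop1 C) _ _)

theorem f7659 : C.T (v18 C) [22, 40, 53, 76, 109, 119] (v18 C) [21, 37, 66, 89, 106, 109] :=
  C.flip (f7658 C)

theorem f7660 : C.T (v2 C) [10, 30, 55, 88, 109, 119] (v4 C) [25, 29, 63, 71, 93, 110, 113] :=
  C.conv (f857 C) (f864 C) (f864 C) _ [140, 161, 169, 172, 177] _ (by decide +kernel) (by decide +kernel) (by decide +kernel)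

theorem f7661 : C.S (v4 C) [17, 35, 66, 70, 95] :=
  C.stMul (f421 C) (f407 C) _ (by decide +kernel)

theorem f7662 : C.S (v4 C) [13, 44, 51, 82, 106, 110, 111] :=
  C.stMul (f407 C) (f7661 C) _ (by decide +kernel)

theorem f7663 : C.S (v4 C) [21, 35, 69, 73, 94, 109, 122] :=
  C.stMul (f421 C) (f7662 C) _ (by decide +kernel)

theorem f7664 : C.T (v4 C) [9, 33, 69, 76, 104, 118] (v17 C) [4, 28, 56, 79, 105, 110, 116] :=
  C.conv (f5743 C) (f7641 C) (f7663 C) _ [136, 153, 168, 171, 178] _ (by decide +kernel) (by decide +kernel) (by decide +kernel)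

theorem f7665 : C.S (v2 C) [20, 48, 62, 86, 105, 114] :=
  C.stMul (f211 C) (f6949 C) _ (by decide +kernel)

theorem f7666 : C.S (v2 C) [4, 46, 63, 89, 98, 109, 113] :=
  C.stMul (f138 C) (f7665 C) _ (by decide +kernel)

theorem f7667 : C.T (v2 C) [18, 31, 66, 84, 101, 120] (v18 C) [11, 53, 84, 98, 109, 117] :=
  C.conv (f6850 C) (f6867 C) (f7666 C) _ [161, 169, 174, 177] _ (by decide +kernel) (by decide +kernel) (by decide +kernel)

theorem f7668 : C.T (v18 C) [11, 53, 84, 98, 109, 117] (v2 C) [18, 31, 66, 84, 101, 120] :=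
  C.flip (f7667 C)

theorem f7669 : C.T (v17 C) [25, 39, 83, 100, 119] (v18 C) [13, 30, 54, 73, 107, 109, 123] :=
  C.closeT (p := (v2 C)) (pu := [10, 30, 55, 88, 109, 119])
    (C.pT (f7660 C)
    (C.pH [8, 30, 65, 84, 94, 117] [9, 33, 69, 76, 104, 118] (by decide +kernel)
    (C.pT (f7664 C)
    (C.pH [26, 38, 54, 89, 90, 113] [25, 39, 83, 100, 119] (by decide +kernel) (C.pNil _ _)))))
    (C.pH [8, 30, 65, 84, 94, 117] [11, 53, 84, 98, 109, 117] (by decide +kernel)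
    (C.pT (f7668 C)
    (C.pH [26, 38, 54, 89, 90, 113] [10, 30, 55, 88, 109, 119] (by decide +kernel) (C.pNil _ _))))
    (C.loop_of_one (relLoop1 C) _ _)

theorem f7670 : C.T (v18 C) [13, 30, 54, 73, 107, 109, 123] (v17 C) [25, 39, 83, 100, 119] :=
  C.flip (f7669 C)

theorem f7671 : C.T (v2 C) [6, 43, 67, 87, 98, 109, 125] (v5 C) [10, 39, 55, 71, 92] :=
  C.conv (f982 C) (f323 C) (f323 C) _ [132, 158, 168, 172] _ (by decide +kernel) (by decide +kernel) (by decide +kernel)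

theorem f7672 : C.S (v5 C) [13, 35, 69, 89, 94, 109, 112] :=
  C.stMul (f1023 C) (f986 C) _ (by decide +kernel)

theorem f7673 : C.S (v5 C) [24, 42, 52, 76, 99, 109, 120] :=
  C.stMul (f1141 C) (f7672 C) _ (by decide +kernel)

theorem f7674 : C.T (v5 C) [15, 42, 50, 80, 109, 112] (v18 C) [21, 28, 49, 82, 93, 109, 117] :=
  C.conv (f6953 C) (f7672 C) (f7673 C) _ [144, 162, 166, 176, 178] _ (by decide +kernel) (by decide +kernel) (by decide +kernel)

theorem f7675 : C.S (v2 C) [4, 48, 58, 78, 95, 110, 122] :=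
  C.stMul (f138 C) (f7338 C) _ (by decide +kernel)

theorem f7676 : C.S (v2 C) [22, 45, 63, 84, 107, 110, 125] :=
  C.stMul (f243 C) (f7675 C) _ (by decide +kernel)

theorem f7677 : C.S (v2 C) [14, 41, 57, 75, 92, 109, 116] :=
  C.stMul (f211 C) (f7676 C) _ (by decide +kernel)

theorem f7678 : C.T (v2 C) [21, 47, 81, 101, 109, 122] (v18 C) [19, 43, 65, 80, 109, 119] :=
  C.conv (f6850 C) (f6867 C) (f7677 C) _ [127, 154, 167, 172] _ (by decide +kernel) (by decide +kernel) (by decide +kernel)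

theorem f7679 : C.T (v18 C) [19, 43, 65, 80, 109, 119] (v2 C) [21, 47, 81, 101, 109, 122] :=
  C.flip (f7678 C)

theorem f7680 : C.T (v18 C) [6, 36, 70, 96, 109, 121] (v18 C) [15, 48, 49, 87, 100, 115] :=
  C.closeT (p := (v2 C)) (pu := [6, 43, 67, 87, 98, 109, 125])
    (C.pT (f7671 C)
    (C.pH [8, 30, 65, 84, 94, 117] [15, 42, 50, 80, 109, 112] (by decide +kernel)
    (C.pT (f7674 C)
    (C.pH [26, 38, 54, 89, 90, 113] [6, 36, 70, 96, 109, 121] (by decide +kernel) (C.pNil _ _)))))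
    (C.pH [8, 30, 65, 84, 94, 117] [19, 43, 65, 80, 109, 119] (by decide +kernel)
    (C.pT (f7679 C)
    (C.pH [26, 38, 54, 89, 90, 113] [6, 43, 67, 87, 98, 109, 125] (by decide +kernel) (C.pNil _ _))))
    (C.loop_of_one (relLoop1 C) _ _)

theorem f7681 : C.T (v18 C) [15, 48, 49, 87, 100, 115] (v18 C) [6, 36, 70, 96, 109, 121] :=
  C.flip (f7680 C)

theorem f7682 : C.T (v2 C) [11, 43, 67, 83, 92, 124] (v5 C) [20, 47, 60, 71, 124] :=
  C.conv (f982 C) (f323 C) (f323 C) _ [142, 154, 166] _ (by decide +kernel) (by decide +kernel) (by decide +kernel)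

theorem f7683 : C.S (v5 C) [41, 51, 86, 105, 123] :=
  C.stMul (f1141 C) (f1008 C) _ (by decide +kernel)

theorem f7684 : C.T (v5 C) [23, 41, 69, 72, 97, 110, 111] (v10 C) [23, 29, 65, 86, 99, 110, 118] :=
  C.conv (f1958 C) (f1962 C) (f7683 C) _ [136, 161, 170, 171, 177] _ (by decide +kernel) (by decide +kernel) (by decide +kernel)

theorem f7685 : C.T (v2 C) [8, 28, 61, 79, 97, 109, 115] (v18 C) [18, 30, 51, 78, 102, 109, 123] :=
  C.conv (f6850 C) (f6867 C) (f7462 C) _ [142, 156, 170, 175, 177] _ (by decide +kernel) (by decide +kernel) (by decide +kernel)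

theorem f7686 : C.T (v18 C) [18, 30, 51, 78, 102, 109, 123] (v2 C) [8, 28, 61, 79, 97, 109, 115] :=
  C.flip (f7685 C)

theorem f7687 : C.T (v10 C) [7, 38, 51, 73, 96, 124] (v18 C) [9, 36, 85, 90, 109, 117] :=
  C.closeT (p := (v2 C)) (pu := [11, 43, 67, 83, 92, 124])
    (C.pT (f7682 C)
    (C.pH [8, 30, 65, 84, 94, 117] [23, 41, 69, 72, 97, 110, 111] (by decide +kernel)
    (C.pT (f7684 C)
    (C.pH [26, 38, 54, 89, 90, 113] [7, 38, 51, 73, 96, 124] (by decide +kernel) (C.pNil _ _)))))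
    (C.pH [8, 30, 65, 84, 94, 117] [18, 30, 51, 78, 102, 109, 123] (by decide +kernel)
    (C.pT (f7686 C)
    (C.pH [26, 38, 54, 89, 90, 113] [11, 43, 67, 83, 92, 124] (by decide +kernel) (C.pNil _ _))))
    (C.loop_of_one (relLoop1 C) _ _)

theorem f7688 : C.T (v18 C) [9, 36, 85, 90, 109, 117] (v10 C) [7, 38, 51, 73, 96, 124] :=
  C.flip (f7687 C)

theorem f7689 : C.T (v2 C) [11, 30, 58, 73, 105, 109, 111] (v5 C) [23, 33, 54, 73, 92, 110, 119] :=
  C.conv (f982 C) (f323 C) (f323 C) _ [145, 151, 166, 174, 177] _ (by decide +kernel) (by decide +kernel) (by decide +kernel)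

theorem f7690 : C.T (v5 C) [10, 32, 55, 74, 99, 109, 122] (v18 C) [14, 27, 65, 74, 103, 112] :=
  C.conv (f6946 C) (f986 C) (f1008 C) _ [128, 158, 169] _ (by decide +kernel) (by decide +kernel) (by decide +kernel)

theorem f7691 : C.S (v2 C) [24, 36, 64, 72, 98, 109, 116] :=
  C.stMul (f243 C) (f7496 C) _ (by decide +kernel)

theorem f7692 : C.T (v2 C) [8, 32, 51, 77, 92, 110, 116] (v18 C) [7, 32, 55, 74, 105, 109, 113] :=
  C.conv (f6850 C) (f6867 C) (f7691 C) _ [140, 151, 165, 173, 178] _ (by decide +kernel) (by decide +kernel) (by decide +kernel)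

theorem f7693 : C.T (v18 C) [7, 32, 55, 74, 105, 109, 113] (v2 C) [8, 32, 51, 77, 92, 110, 116] :=
  C.flip (f7692 C)

theorem f7694 : C.T (v18 C) [5, 45, 57, 85, 103, 109, 114] (v18 C) [11, 41, 65, 93, 109, 119] :=
  C.closeT (p := (v2 C)) (pu := [11, 30, 58, 73, 105, 109, 111])
    (C.pT (f7689 C)
    (C.pH [8, 30, 65, 84, 94, 117] [10, 32, 55, 74, 99, 109, 122] (by decide +kernel)
    (C.pT (f7690 C)
    (C.pH [26, 38, 54, 89, 90, 113] [5, 45, 57, 85, 103, 109, 114] (by decide +kernel) (C.pNil _ _)))))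
    (C.pH [8, 30, 65, 84, 94, 117] [7, 32, 55, 74, 105, 109, 113] (by decide +kernel)
    (C.pT (f7693 C)
    (C.pH [26, 38, 54, 89, 90, 113] [11, 30, 58, 73, 105, 109, 111] (by decide +kernel) (C.pNil _ _))))
    (C.loop_of_one (relLoop1 C) _ _)

theorem f7695 : C.T (v18 C) [11, 41, 65, 93, 109, 119] (v18 C) [5, 45, 57, 85, 103, 109, 114] :=
  C.flip (f7694 C)

theorem f7696 : C.T (v2 C) [13, 43, 63, 77, 101, 109, 123] (v5 C) [21, 60, 71, 98, 120] :=
  C.conv (f982 C) (f323 C) (f323 C) _ [143, 158, 173] _ (by decide +kernel) (by decide +kernel) (by decide +kernel)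

theorem f7697 : C.T (v5 C) [24, 32, 64, 80, 103, 110, 114] (v15 C) [13, 35, 59, 81, 99, 109, 121] :=
  C.conv (f3125 C) (f3223 C) (f1153 C) _ [133, 164, 173] _ (by decide +kernel) (by decide +kernel) (by decide +kernel)

theorem f7698 : C.S (v2 C) [24, 36, 66, 89, 90, 114] :=
  C.stMul (f243 C) (f211 C) _ (by decide +kernel)

theorem f7699 : C.S (v2 C) [16, 34, 52, 73, 96, 114] :=
  C.stMul (f211 C) (f7698 C) _ (by decide +kernel)

theorem f7700 : C.T (v2 C) [16, 41, 60, 72, 100, 115] (v18 C) [21, 38, 60, 71, 102, 117] :=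
  C.conv (f6830 C) (f323 C) (f7699 C) _ [143, 162, 166, 175] _ (by decide +kernel) (by decide +kernel) (by decide +kernel)

theorem f7701 : C.T (v18 C) [21, 38, 60, 71, 102, 117] (v2 C) [16, 41, 60, 72, 100, 115] :=
  C.flip (f7700 C)

theorem f7702 : C.T (v15 C) [23, 37, 59, 85, 99, 117] (v18 C) [12, 71, 102, 117] :=
  C.closeT (p := (v2 C)) (pu := [13, 43, 63, 77, 101, 109, 123])
    (C.pT (f7696 C)
    (C.pH [8, 30, 65, 84, 94, 117] [24, 32, 64, 80, 103, 110, 114] (by decide +kernel)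
    (C.pT (f7697 C)
    (C.pH [26, 38, 54, 89, 90, 113] [23, 37, 59, 85, 99, 117] (by decide +kernel) (C.pNil _ _)))))
    (C.pH [8, 30, 65, 84, 94, 117] [21, 38, 60, 71, 102, 117] (by decide +kernel)
    (C.pT (f7701 C)
    (C.pH [26, 38, 54, 89, 90, 113] [13, 43, 63, 77, 101, 109, 123] (by decide +kernel) (C.pNil _ _))))
    (C.loop_of_one (relLoop1 C) _ _)

theorem f7703 : C.T (v18 C) [12, 71, 102, 117] (v15 C) [23, 37, 59, 85, 99, 117] :=
  C.flip (f7702 C)

theorem f7704 : C.T (v2 C) [16, 39, 51, 85, 102, 117] (v5 C) [8, 44, 52, 89, 95, 124] :=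
  C.conv (f982 C) (f323 C) (f323 C) _ [130, 170, 171] _ (by decide +kernel) (by decide +kernel) (by decide +kernel)

theorem f7705 : C.S (v5 C) [10, 27, 54, 88, 92, 110, 113] :=
  C.stMul (f1023 C) (f1023 C) _ (by decide +kernel)

theorem f7706 : C.S (v5 C) [7, 48, 49, 78, 90, 109, 120] :=
  C.stMul (f986 C) (f7705 C) _ (by decide +kernel)

theorem f7707 : C.S (v5 C) [24, 59, 70, 101, 109, 114] :=
  C.stMul (f1023 C) (f7706 C) _ (by decide +kernel)

theorem f7708 : C.T (v5 C) [39, 54, 78, 98, 109, 125] (v18 C) [15, 28, 59, 83, 91, 111] :=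
  C.conv (f6953 C) (f7672 C) (f7707 C) _ [145, 150, 170, 173, 178] _ (by decide +kernel) (by decide +kernel) (by decide +kernel)

theorem f7709 : C.T (v2 C) [26, 38, 53, 72, 109, 111] (v18 C) [24, 35, 54, 77, 108, 109, 112] :=
  C.conv (f6850 C) (f6867 C) (f7676 C) _ [147, 159, 168, 175] _ (by decide +kernel) (by decide +kernel) (by decide +kernel)

theorem f7710 : C.T (v18 C) [24, 35, 54, 77, 108, 109, 112] (v2 C) [26, 38, 53, 72, 109, 111] :=
  C.flip (f7709 C)

theorem f7711 : C.T (v18 C) [9, 30, 59, 82, 91, 114] (v18 C) [21, 43, 67, 74, 109, 121] :=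
  C.closeT (p := (v2 C)) (pu := [16, 39, 51, 85, 102, 117])
    (C.pT (f7704 C)
    (C.pH [8, 30, 65, 84, 94, 117] [39, 54, 78, 98, 109, 125] (by decide +kernel)
    (C.pT (f7708 C)
    (C.pH [26, 38, 54, 89, 90, 113] [9, 30, 59, 82, 91, 114] (by decide +kernel) (C.pNil _ _)))))
    (C.pH [8, 30, 65, 84, 94, 117] [24, 35, 54, 77, 108, 109, 112] (by decide +kernel)
    (C.pT (f7710 C)
    (C.pH [26, 38, 54, 89, 90, 113] [16, 39, 51, 85, 102, 117] (by decide +kernel) (C.pNil _ _))))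
    (C.loop_of_one (relLoop1 C) _ _)

theorem f7712 : C.T (v18 C) [21, 43, 67, 74, 109, 121] (v18 C) [9, 30, 59, 82, 91, 114] :=
  C.flip (f7711 C)

theorem f7713 : C.T (v2 C) [11, 40, 52, 70, 94, 109, 112] (v5 C) [23, 47, 59, 73, 91, 110, 120] :=
  C.conv (f982 C) (f323 C) (f323 C) _ [145, 168, 171] _ (by decide +kernel) (by decide +kernel) (by decide +kernel)

theorem f7714 : C.S (v5 C) [9, 47, 59, 85, 92, 123] :=
  C.stMul (f1008 C) (f986 C) _ (by decide +kernel)

theorem f7715 : C.S (v5 C) [13, 51, 87, 106, 110, 118] :=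
  C.stMul (f1023 C) (f7714 C) _ (by decide +kernel)

theorem f7716 : C.S (v5 C) [7, 30, 66, 82, 99, 119] :=
  C.stMul (f1023 C) (f7715 C) _ (by decide +kernel)

theorem f7717 : C.S (v5 C) [24, 42, 52, 87, 105, 125] :=
  C.stMul (f1023 C) (f7716 C) _ (by decide +kernel)

theorem f7718 : C.T (v5 C) [10, 47, 65, 73, 91, 109, 118] (v17 C) [10, 32, 49, 75, 102, 109, 117] :=
  C.conv (f5175 C) (f5256 C) (f7717 C) _ [139, 155, 168, 172, 177] _ (by decide +kernel) (by decide +kernel) (by decide +kernel)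

theorem f7719 : C.S (v2 C) [18, 29, 52, 78, 97, 114] :=
  C.stMul (f125 C) (f109 C) _ (by decide +kernel)

theorem f7720 : C.S (v2 C) [25, 37, 68, 87, 103, 110, 112] :=
  C.stMul (f243 C) (f7719 C) _ (by decide +kernel)

theorem f7721 : C.S (v2 C) [22, 45, 54, 82, 91, 109, 111] :=
  C.stMul (f138 C) (f7720 C) _ (by decide +kernel)

theorem f7722 : C.T (v2 C) [8, 39, 59, 75, 108, 109, 118] (v18 C) [17, 51, 79, 100, 110, 115] :=
  C.conv (f6830 C) (f323 C) (f7721 C) _ [139, 157, 169, 177] _ (by decide +kernel) (by decide +kernel) (by decide +kernel)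

theorem f7723 : C.T (v18 C) [17, 51, 79, 100, 110, 115] (v2 C) [8, 39, 59, 75, 108, 109, 118] :=
  C.flip (f7722 C)

theorem f7724 : C.T (v17 C) [21, 28, 52, 84, 98, 121] (v18 C) [7, 40, 60, 89, 93, 115] :=
  C.closeT (p := (v2 C)) (pu := [11, 40, 52, 70, 94, 109, 112])
    (C.pT (f7713 C)
    (C.pH [8, 30, 65, 84, 94, 117] [10, 47, 65, 73, 91, 109, 118] (by decide +kernel)
    (C.pT (f7718 C)
    (C.pH [26, 38, 54, 89, 90, 113] [21, 28, 52, 84, 98, 121] (by decide +kernel) (C.pNil _ _)))))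
    (C.pH [8, 30, 65, 84, 94, 117] [17, 51, 79, 100, 110, 115] (by decide +kernel)
    (C.pT (f7723 C)
    (C.pH [26, 38, 54, 89, 90, 113] [11, 40, 52, 70, 94, 109, 112] (by decide +kernel) (C.pNil _ _))))
    (C.loop_of_one (relLoop1 C) _ _)

theorem f7725 : C.T (v18 C) [7, 40, 60, 89, 93, 115] (v17 C) [21, 28, 52, 84, 98, 121] :=
  C.flip (f7724 C)

theorem f7726 : C.T (v2 C) [25, 39, 63, 72, 101, 110, 121] (v15 C) [21, 33, 74, 99, 117] :=
  C.conv (f2638 C) (f3254 C) (f3254 C) _ [140, 152, 170, 173, 177] _ (by decide +kernel) (by decide +kernel) (by decide +kernel)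

theorem f7727 : C.S (v2 C) [4, 48, 69, 79, 94, 109, 124] :=
  C.stMul (f211 C) (f211 C) _ (by decide +kernel)

theorem f7728 : C.S (v2 C) [59, 87, 103, 111] :=
  C.stMul (f109 C) (f7727 C) _ (by decide +kernel)

theorem f7729 : C.T (v2 C) [4, 28, 55, 73, 107, 113] (v17 C) [24, 33, 69, 80, 106, 109, 113] :=
  C.conv (f6632 C) (f6971 C) (f7728 C) _ [139, 152, 170, 171, 177] _ (by decide +kernel) (by decide +kernel) (by decide +kernel)

theorem f7730 : C.T (v17 C) [24, 33, 69, 80, 106, 109, 113] (v2 C) [4, 28, 55, 73, 107, 113] :=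
  C.flip (f7729 C)

theorem f7731 : C.S (v17 C) [51, 81, 96, 109, 125] :=
  C.stMul (f4132 C) (f4137 C) _ (by decide +kernel)

theorem f7732 : C.T (v17 C) [21, 48, 69, 79, 93, 110, 121] (v18 C) [7, 29, 81, 107, 112] :=
  C.conv (f7000 C) (f7731 C) (f4132 C) _ [146, 175, 178] _ (by decide +kernel) (by decide +kernel) (by decide +kernel)

theorem f7733 : C.T (v18 C) [7, 29, 81, 107, 112] (v17 C) [21, 48, 69, 79, 93, 110, 121] :=
  C.flip (f7732 C)

theorem f7734 : C.T (v15 C) [24, 54, 86, 97, 115] (v18 C) [23, 31, 49, 73, 92, 120] :=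
  C.closeT (p := (v2 C)) (pu := [25, 39, 63, 72, 101, 110, 121])
    (C.pT (f7726 C)
    (C.pH [8, 30, 65, 84, 94, 117] [24, 54, 86, 97, 115] (by decide +kernel) (C.pNil _ _)))
    (C.pH [26, 38, 54, 89, 90, 113] [7, 29, 81, 107, 112] (by decide +kernel)
    (C.pT (f7733 C)
    (C.pH [8, 30, 65, 84, 94, 117] [24, 33, 69, 80, 106, 109, 113] (by decide +kernel)
    (C.pT (f7730 C)
    (C.pH [26, 38, 54, 89, 90, 113] [25, 39, 63, 72, 101, 110, 121] (by decide +kernel) (C.pNil _ _))))))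
    (C.loop_of_one (relLoop1 C) _ _)

theorem f7735 : C.T (v18 C) [23, 31, 49, 73, 92, 120] (v15 C) [24, 54, 86, 97, 115] :=
  C.flip (f7734 C)

theorem f7736 : C.T (v2 C) [6, 31, 68, 80, 101, 109, 113] (v15 C) [21, 28, 60, 75, 91, 114] :=
  C.conv (f2638 C) (f3254 C) (f3254 C) _ [145, 158, 165, 171, 178] _ (by decide +kernel) (by decide +kernel) (by decide +kernel)

theorem f7737 : C.S (v15 C) [20, 39, 55, 88, 95, 110, 125] :=
  C.stMul (f2581 C) (f2565 C) _ (by decide +kernel)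

theorem f7738 : C.S (v15 C) [34, 69, 79, 92, 114] :=
  C.stMul (f2565 C) (f7737 C) _ (by decide +kernel)

theorem f7739 : C.T (v15 C) [24, 38, 66, 73, 97, 110, 114] (v18 C) [17, 48, 61, 74, 92, 121] :=
  C.conv (f7637 C) (f7737 C) (f7738 C) _ [136, 149, 169, 176, 178] _ (by decide +kernel) (by decide +kernel) (by decide +kernel)

theorem f7740 : C.S (v2 C) [6, 46, 61, 80, 99, 109, 116] :=
  C.stMul (f211 C) (f125 C) _ (by decide +kernel)

theorem f7741 : C.S (v2 C) [23, 47, 65, 84, 101, 109, 118] :=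
  C.stMul (f211 C) (f7740 C) _ (by decide +kernel)

theorem f7742 : C.S (v2 C) [20, 60, 82, 109, 115] :=
  C.stMul (f211 C) (f7741 C) _ (by decide +kernel)

theorem f7743 : C.T (v2 C) [21, 37, 60, 87, 105, 110, 118] (v17 C) [26, 45, 58, 74, 95, 124] :=
  C.conv (f6632 C) (f6971 C) (f7742 C) _ [128, 159, 166] _ (by decide +kernel) (by decide +kernel) (by decide +kernel)

theorem f7744 : C.T (v17 C) [26, 45, 58, 74, 95, 124] (v2 C) [21, 37, 60, 87, 105, 110, 118] :=
  C.flip (f7743 C)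

theorem f7745 : C.T (v18 C) [20, 63, 78, 94, 119] (v17 C) [19, 46, 65, 89, 103, 125] :=
  C.closeT (p := (v2 C)) (pu := [6, 31, 68, 80, 101, 109, 113])
    (C.pT (f7736 C)
    (C.pH [8, 30, 65, 84, 94, 117] [24, 38, 66, 73, 97, 110, 114] (by decide +kernel)
    (C.pT (f7739 C)
    (C.pH [26, 38, 54, 89, 90, 113] [20, 63, 78, 94, 119] (by decide +kernel) (C.pNil _ _)))))
    (C.pH [8, 30, 65, 84, 94, 117] [26, 45, 58, 74, 95, 124] (by decide +kernel)
    (C.pT (f7744 C)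
    (C.pH [26, 38, 54, 89, 90, 113] [6, 31, 68, 80, 101, 109, 113] (by decide +kernel) (C.pNil _ _))))
    (C.loop_of_one (relLoop1 C) _ _)

theorem f7746 : C.T (v17 C) [19, 46, 65, 89, 103, 125] (v18 C) [20, 63, 78, 94, 119] :=
  C.flip (f7745 C)

theorem f7747 : C.T (v2 C) [16, 34, 69, 81, 102, 112] (v15 C) [17, 46, 54, 76, 98, 110, 117] :=
  C.conv (f2638 C) (f3254 C) (f3254 C) _ [144, 149, 165, 176] _ (by decide +kernel) (by decide +kernel) (by decide +kernel)

theorem f7748 : C.S (v15 C) [31, 53, 71, 96, 116] :=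
  C.stMul (f2569 C) (f2569 C) _ (by decide +kernel)

theorem f7749 : C.T (v15 C) [22, 46, 52, 108, 109, 118] (v18 C) [20, 41, 58, 91, 119] :=
  C.conv (f6959 C) (f7748 C) (f2652 C) _ [147, 152, 170, 173, 178] _ (by decide +kernel) (by decide +kernel) (by decide +kernel)

theorem f7750 : C.S (v2 C) [25, 42, 69, 102, 110, 111] :=
  C.stMul (f109 C) (f6974 C) _ (by decide +kernel)

theorem f7751 : C.T (v2 C) [26, 34, 59, 72, 97, 109, 113] (v18 C) [7, 68, 89, 104, 109, 112] :=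
  C.conv (f6850 C) (f6867 C) (f7750 C) _ [167, 176] _ (by decide +kernel) (by decide +kernel) (by decide +kernel)

theorem f7752 : C.T (v18 C) [7, 68, 89, 104, 109, 112] (v2 C) [26, 34, 59, 72, 97, 109, 113] :=
  C.flip (f7751 C)

theorem f7753 : C.T (v18 C) [15, 48, 63, 79, 93, 109, 113] (v18 C) [11, 35, 68, 89, 104, 109, 112] :=
  C.closeT (p := (v2 C)) (pu := [16, 34, 69, 81, 102, 112])
    (C.pT (f7747 C)
    (C.pH [8, 30, 65, 84, 94, 117] [22, 46, 52, 108, 109, 118] (by decide +kernel)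
    (C.pT (f7749 C)
    (C.pH [26, 38, 54, 89, 90, 113] [15, 48, 63, 79, 93, 109, 113] (by decide +kernel) (C.pNil _ _)))))
    (C.pH [8, 30, 65, 84, 94, 117] [7, 68, 89, 104, 109, 112] (by decide +kernel)
    (C.pT (f7752 C)
    (C.pH [26, 38, 54, 89, 90, 113] [16, 34, 69, 81, 102, 112] (by decide +kernel) (C.pNil _ _))))
    (C.loop_of_one (relLoop1 C) _ _)

theorem f7754 : C.T (v18 C) [11, 35, 68, 89, 104, 109, 112] (v18 C) [15, 48, 63, 79, 93, 109, 113] :=
  C.flip (f7753 C)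

theorem f7755 : C.T (v2 C) [9, 45, 52, 84, 107, 109, 115] (v15 C) [24, 41, 69, 76, 106, 114] :=
  C.conv (f2638 C) (f3254 C) (f3254 C) _ [137, 149, 173] _ (by decide +kernel) (by decide +kernel) (by decide +kernel)

theorem f7756 : C.S (v15 C) [25, 46, 61, 102, 110, 119] :=
  C.stMul (f2565 C) (f2569 C) _ (by decide +kernel)

theorem f7757 : C.S (v15 C) [25, 39, 65, 80, 99, 110, 113] :=
  C.stMul (f2581 C) (f7756 C) _ (by decide +kernel)

theorem f7758 : C.T (v15 C) [16, 32, 49, 84, 98, 110, 119] (v15 C) [6, 47, 65, 76, 107] :=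
  C.conv (f2677 C) (f2680 C) (f7757 C) _ [138, 153, 170, 177] _ (by decide +kernel) (by decide +kernel) (by decide +kernel)

theorem f7759 : C.S (v2 C) [18, 29, 62, 80, 99, 125] :=
  C.stMul (f115 C) (f109 C) _ (by decide +kernel)

theorem f7760 : C.S (v2 C) [25, 37, 55, 78, 104, 116] :=
  C.stMul (f243 C) (f7759 C) _ (by decide +kernel)

theorem f7761 : C.T (v2 C) [15, 35, 63, 88, 99, 110, 120] (v18 C) [20, 27, 51, 83, 99, 109, 121] :=
  C.conv (f6830 C) (f323 C) (f7760 C) _ [142, 150, 169, 176, 178] _ (by decide +kernel) (by decide +kernel) (by decide +kernel)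

theorem f7762 : C.T (v18 C) [20, 27, 51, 83, 99, 109, 121] (v2 C) [15, 35, 63, 88, 99, 110, 120] :=
  C.flip (f7761 C)

theorem f7763 : C.T (v15 C) [4, 42, 69, 72, 104, 122] (v18 C) [16, 45, 80, 108] :=
  C.closeT (p := (v2 C)) (pu := [9, 45, 52, 84, 107, 109, 115])
    (C.pT (f7755 C)
    (C.pH [8, 30, 65, 84, 94, 117] [16, 32, 49, 84, 98, 110, 119] (by decide +kernel)
    (C.pT (f7758 C)
    (C.pH [26, 38, 54, 89, 90, 113] [4, 42, 69, 72, 104, 122] (by decide +kernel) (C.pNil _ _)))))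
    (C.pH [8, 30, 65, 84, 94, 117] [20, 27, 51, 83, 99, 109, 121] (by decide +kernel)
    (C.pT (f7762 C)
    (C.pH [26, 38, 54, 89, 90, 113] [9, 45, 52, 84, 107, 109, 115] (by decide +kernel) (C.pNil _ _))))
    (C.loop_of_one (relLoop1 C) _ _)

theorem f7764 : C.T (v18 C) [16, 45, 80, 108] (v15 C) [4, 42, 69, 72, 104, 122] :=
  C.flip (f7763 C)

theorem f7765 : C.T (v2 C) [20, 69, 89, 91, 110, 119] (v17 C) [17, 44, 65, 78, 100, 109, 124] :=
  C.conv (f6632 C) (f6971 C) (f6971 C) _ [132, 154, 164, 171] _ (by decide +kernel) (by decide +kernel) (by decide +kernel)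

theorem f7766 : C.S (v2 C) [4, 48, 69, 79, 94, 109, 124] :=
  C.stMul (f211 C) (f211 C) _ (by decide +kernel)

theorem f7767 : C.T (v2 C) [17, 48, 51, 77, 94, 109, 123] (v4 C) [47, 56, 83, 95, 110, 114] :=
  C.conv (f450 C) (f109 C) (f7766 C) _ [127, 153, 164, 176, 178] _ (by decide +kernel) (by decide +kernel) (by decide +kernel)

theorem f7768 : C.T (v4 C) [47, 56, 83, 95, 110, 114] (v2 C) [17, 48, 51, 77, 94, 109, 123] :=
  C.flip (f7767 C)

theorem f7769 : C.T (v4 C) [8, 39, 67, 83, 100, 110, 113] (v18 C) [48, 62, 78, 98, 112] :=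
  C.conv (f6924 C) (f7427 C) (f421 C) _ [159, 166, 176, 178] _ (by decide +kernel) (by decide +kernel) (by decide +kernel)

theorem f7770 : C.T (v18 C) [48, 62, 78, 98, 112] (v4 C) [8, 39, 67, 83, 100, 110, 113] :=
  C.flip (f7769 C)

theorem f7771 : C.T (v17 C) [22, 39, 51, 81, 105, 110, 114] (v18 C) [7, 47, 67, 71, 98, 116] :=
  C.closeT (p := (v2 C)) (pu := [20, 69, 89, 91, 110, 119])
    (C.pT (f7765 C)
    (C.pH [8, 30, 65, 84, 94, 117] [22, 39, 51, 81, 105, 110, 114] (by decide +kernel) (C.pNil _ _)))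
    (C.pH [26, 38, 54, 89, 90, 113] [48, 62, 78, 98, 112] (by decide +kernel)
    (C.pT (f7770 C)
    (C.pH [8, 30, 65, 84, 94, 117] [47, 56, 83, 95, 110, 114] (by decide +kernel)
    (C.pT (f7768 C)
    (C.pH [26, 38, 54, 89, 90, 113] [20, 69, 89, 91, 110, 119] (by decide +kernel) (C.pNil _ _))))))
    (C.loop_of_one (relLoop1 C) _ _)

theorem f7772 : C.T (v18 C) [7, 47, 67, 71, 98, 116] (v17 C) [22, 39, 51, 81, 105, 110, 114] :=
  C.flip (f7771 C)

theorem f7773 : C.T (v2 C) [18, 30, 89, 104, 110, 112] (v17 C) [9, 31, 57, 70, 91, 110, 113] :=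
  C.conv (f6632 C) (f6971 C) (f6971 C) _ [138, 156, 169, 171, 177] _ (by decide +kernel) (by decide +kernel) (by decide +kernel)

theorem f7774 : C.T (v2 C) [25, 44, 62, 87, 94, 110, 123] (v4 C) [23, 32, 60, 81, 108, 111] :=
  C.conv (f857 C) (f864 C) (f138 C) _ [131, 154, 177] _ (by decide +kernel) (by decide +kernel) (by decide +kernel)

theorem f7775 : C.T (v4 C) [23, 32, 60, 81, 108, 111] (v2 C) [25, 44, 62, 87, 94, 110, 123] :=
  C.flip (f7774 C)

theorem f7776 : C.S (v4 C) [8, 31, 60, 85, 98, 110, 125] :=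
  C.stMul (f693 C) (f407 C) _ (by decide +kernel)

theorem f7777 : C.T (v4 C) [20, 31, 73, 90, 109, 114] (v18 C) [15, 28, 54, 70, 103, 109, 117] :=
  C.conv (f7256 C) (f7503 C) (f7776 C) _ [141, 151, 164, 174, 178] _ (by decide +kernel) (by decide +kernel) (by decide +kernel)

theorem f7778 : C.T (v18 C) [15, 28, 54, 70, 103, 109, 117] (v4 C) [20, 31, 73, 90, 109, 114] :=
  C.flip (f7777 C)

theorem f7779 : C.T (v17 C) [18, 43, 61, 86, 100, 109, 112] (v18 C) [20, 38, 53, 84, 101, 118] :=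
  C.closeT (p := (v2 C)) (pu := [18, 30, 89, 104, 110, 112])
    (C.pT (f7773 C)
    (C.pH [8, 30, 65, 84, 94, 117] [18, 43, 61, 86, 100, 109, 112] (by decide +kernel) (C.pNil _ _)))
    (C.pH [26, 38, 54, 89, 90, 113] [15, 28, 54, 70, 103, 109, 117] (by decide +kernel)
    (C.pT (f7778 C)
    (C.pH [8, 30, 65, 84, 94, 117] [23, 32, 60, 81, 108, 111] (by decide +kernel)
    (C.pT (f7775 C)
    (C.pH [26, 38, 54, 89, 90, 113] [18, 30, 89, 104, 110, 112] (by decide +kernel) (C.pNil _ _))))))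
    (C.loop_of_one (relLoop1 C) _ _)

theorem f7780 : C.T (v18 C) [20, 38, 53, 84, 101, 118] (v17 C) [18, 43, 61, 86, 100, 109, 112] :=
  C.flip (f7779 C)

theorem f7781 : C.T (v2 C) [15, 48, 60, 88, 99, 109, 112] (v17 C) [24, 34, 50, 76, 97] :=
  C.conv (f6632 C) (f6971 C) (f6971 C) _ [133, 155, 168, 176, 177] _ (by decide +kernel) (by decide +kernel) (by decide +kernel)

theorem f7782 : C.S (v17 C) [23, 31, 49, 84, 96, 117] :=
  C.stMul (f4137 C) (f4137 C) _ (by decide +kernel)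

theorem f7783 : C.T (v17 C) [16, 37, 58, 84, 100, 110, 115] (v17 C) [9, 27, 65, 74, 116] :=
  C.conv (f6260 C) (f7782 C) (f4132 C) _ [150, 169, 177] _ (by decide +kernel) (by decide +kernel) (by decide +kernel)

theorem f7784 : C.S (v2 C) [22, 45, 65, 80, 91, 109, 111] :=
  C.stMul (f109 C) (f6898 C) _ (by decide +kernel)

theorem f7785 : C.S (v2 C) [13, 42, 50, 76, 101, 124] :=
  C.stMul (f149 C) (f7784 C) _ (by decide +kernel)

theorem f7786 : C.T (v2 C) [20, 41, 49, 70, 100, 109, 118] (v18 C) [4, 34, 66, 72, 90, 113] :=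
  C.conv (f6850 C) (f6867 C) (f7785 C) _ [135, 160, 167, 174, 177] _ (by decide +kernel) (by decide +kernel) (by decide +kernel)

theorem f7787 : C.T (v18 C) [4, 34, 66, 72, 90, 113] (v2 C) [20, 41, 49, 70, 100, 109, 118] :=
  C.flip (f7786 C)

theorem f7788 : C.T (v17 C) [22, 35, 61, 76, 95, 110] (v18 C) [18, 41, 68, 70, 92, 111] :=
  C.closeT (p := (v2 C)) (pu := [15, 48, 60, 88, 99, 109, 112])
    (C.pT (f7781 C)
    (C.pH [8, 30, 65, 84, 94, 117] [16, 37, 58, 84, 100, 110, 115] (by decide +kernel)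
    (C.pT (f7783 C)
    (C.pH [26, 38, 54, 89, 90, 113] [22, 35, 61, 76, 95, 110] (by decide +kernel) (C.pNil _ _)))))
    (C.pH [8, 30, 65, 84, 94, 117] [4, 34, 66, 72, 90, 113] (by decide +kernel)
    (C.pT (f7787 C)
    (C.pH [26, 38, 54, 89, 90, 113] [15, 48, 60, 88, 99, 109, 112] (by decide +kernel) (C.pNil _ _))))
    (C.loop_of_one (relLoop1 C) _ _)

theorem f7789 : C.T (v18 C) [18, 41, 68, 70, 92, 111] (v17 C) [22, 35, 61, 76, 95, 110] :=
  C.flip (f7788 C)

theorem f7790 : C.T (v2 C) [9, 35, 62, 79, 103, 121] (v17 C) [12, 30, 64, 73, 106, 117] :=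
  C.conv (f6632 C) (f6971 C) (f6971 C) _ [139, 159, 170, 174, 177] _ (by decide +kernel) (by decide +kernel) (by decide +kernel)

theorem f7791 : C.S (v17 C) [51, 81, 96, 109, 125] :=
  C.stMul (f4132 C) (f4137 C) _ (by decide +kernel)

theorem f7792 : C.T (v17 C) [21, 39, 63, 84, 105, 110, 118] (v17 C) [21, 32, 56, 79, 109, 116] :=
  C.conv (f6077 C) (f7791 C) (f4132 C) _ [148, 167, 173, 177] _ (by decide +kernel) (by decide +kernel) (by decide +kernel)

theorem f7793 : C.S (v2 C) [24, 37, 65, 70, 95, 110, 119] :=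
  C.stMul (f115 C) (f243 C) _ (by decide +kernel)

theorem f7794 : C.S (v2 C) [16, 36, 54, 89, 102, 109, 120] :=
  C.stMul (f211 C) (f7793 C) _ (by decide +kernel)

theorem f7795 : C.S (v2 C) [19, 34, 54, 81, 108, 109, 122] :=
  C.stMul (f243 C) (f7794 C) _ (by decide +kernel)

theorem f7796 : C.T (v2 C) [15, 41, 69, 84, 103, 109, 112] (v18 C) [8, 28, 54, 72, 104, 110, 116] :=
  C.conv (f6850 C) (f6867 C) (f7795 C) _ [137, 161, 171, 177] _ (by decide +kernel) (by decide +kernel) (by decide +kernel)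

theorem f7797 : C.T (v18 C) [8, 28, 54, 72, 104, 110, 116] (v2 C) [15, 41, 69, 84, 103, 109, 112] :=
  C.flip (f7796 C)

theorem f7798 : C.T (v17 C) [6, 47, 69, 83, 90, 109, 120] (v18 C) [30, 63, 71, 100, 109, 113] :=
  C.closeT (p := (v2 C)) (pu := [9, 35, 62, 79, 103, 121])
    (C.pT (f7790 C)
    (C.pH [8, 30, 65, 84, 94, 117] [21, 39, 63, 84, 105, 110, 118] (by decide +kernel)
    (C.pT (f7792 C)
    (C.pH [26, 38, 54, 89, 90, 113] [6, 47, 69, 83, 90, 109, 120] (by decide +kernel) (C.pNil _ _)))))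
    (C.pH [8, 30, 65, 84, 94, 117] [8, 28, 54, 72, 104, 110, 116] (by decide +kernel)
    (C.pT (f7797 C)
    (C.pH [26, 38, 54, 89, 90, 113] [9, 35, 62, 79, 103, 121] (by decide +kernel) (C.pNil _ _))))
    (C.loop_of_one (relLoop1 C) _ _)

theorem f7799 : C.T (v18 C) [30, 63, 71, 100, 109, 113] (v17 C) [6, 47, 69, 83, 90, 109, 120] :=
  C.flip (f7798 C)

theorem f7800 : C.T (v2 C) [19, 44, 68, 77, 102, 125] (v17 C) [12, 30, 56, 71, 104, 110, 119] :=
  C.conv (f6632 C) (f6971 C) (f6971 C) _ [126, 150, 169, 173, 178] _ (by decide +kernel) (by decide +kernel) (by decide +kernel)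

theorem f7801 : C.S (v2 C) [4, 46, 68, 85, 99, 109, 124] :=
  C.stMul (f211 C) (f149 C) _ (by decide +kernel)

theorem f7802 : C.T (v2 C) [22, 38, 49, 89, 94, 109, 123] (v3 C) [12, 34, 62, 79, 108, 110, 122] :=
  C.conv (f347 C) (f356 C) (f7801 C) _ [129, 152, 170, 174] _ (by decide +kernel) (by decide +kernel) (by decide +kernel)

theorem f7803 : C.T (v3 C) [12, 34, 62, 79, 108, 110, 122] (v2 C) [22, 38, 49, 89, 94, 109, 123] :=
  C.flip (f7802 C)

theorem f7804 : C.S (v3 C) [13, 29, 60, 92, 109, 121] :=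
  C.stMul (f353 C) (f328 C) _ (by decide +kernel)

theorem f7805 : C.S (v3 C) [30, 69, 79, 91] :=
  C.stMul (f335 C) (f7804 C) _ (by decide +kernel)

theorem f7806 : C.S (v3 C) [11, 37, 67, 78, 101, 109, 120] :=
  C.stMul (f328 C) (f7805 C) _ (by decide +kernel)

theorem f7807 : C.S (v3 C) [23, 29, 57, 87, 91, 110, 120] :=
  C.stMul (f331 C) (f328 C) _ (by decide +kernel)

theorem f7808 : C.S (v3 C) [23, 35, 58, 78, 94, 110, 123] :=
  C.stMul (f328 C) (f7807 C) _ (by decide +kernel)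

theorem f7809 : C.S (v3 C) [12, 28, 65, 85, 98, 110, 116] :=
  C.stMul (f353 C) (f7808 C) _ (by decide +kernel)

theorem f7810 : C.S (v3 C) [11, 43, 53, 80, 104, 110] :=
  C.stMul (f331 C) (f7809 C) _ (by decide +kernel)

theorem f7811 : C.T (v3 C) [5, 42, 56, 87, 106, 110, 125] (v18 C) [14, 48, 54, 75] :=
  C.conv (f7327 C) (f7806 C) (f7810 C) _ [128, 155, 164, 172, 177] _ (by decide +kernel) (by decide +kernel) (by decide +kernel)

theorem f7812 : C.T (v18 C) [14, 48, 54, 75] (v3 C) [5, 42, 56, 87, 106, 110, 125] :=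
  C.flip (f7811 C)

theorem f7813 : C.T (v17 C) [21, 39, 59, 84, 96, 116] (v18 C) [12, 32, 68, 73, 100, 109, 120] :=
  C.closeT (p := (v2 C)) (pu := [19, 44, 68, 77, 102, 125])
    (C.pT (f7800 C)
    (C.pH [8, 30, 65, 84, 94, 117] [21, 39, 59, 84, 96, 116] (by decide +kernel) (C.pNil _ _)))
    (C.pH [26, 38, 54, 89, 90, 113] [14, 48, 54, 75] (by decide +kernel)
    (C.pT (f7812 C)
    (C.pH [8, 30, 65, 84, 94, 117] [12, 34, 62, 79, 108, 110, 122] (by decide +kernel)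
    (C.pT (f7803 C)
    (C.pH [26, 38, 54, 89, 90, 113] [19, 44, 68, 77, 102, 125] (by decide +kernel) (C.pNil _ _))))))
    (C.loop_of_one (relLoop1 C) _ _)

theorem f7814 : C.T (v18 C) [12, 32, 68, 73, 100, 109, 120] (v17 C) [21, 39, 59, 84, 96, 116] :=
  C.flip (f7813 C)

theorem f7815 : C.T (v2 C) [24, 31, 60, 70, 98, 121] (v17 C) [8, 46, 51, 84, 100, 109, 118] :=
  C.conv (f6632 C) (f6971 C) (f6971 C) _ [145, 154, 166, 174, 177] _ (by decide +kernel) (by decide +kernel) (by decide +kernel)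

theorem f7816 : C.S (v17 C) [23, 31, 49, 84, 96, 117] :=
  C.stMul (f4137 C) (f4137 C) _ (by decide +kernel)

theorem f7817 : C.T (v17 C) [48, 74, 107, 109, 113] (v18 C) [10, 45, 78, 103, 125] :=
  C.conv (f7779 C) (f4137 C) (f7816 C) _ [135, 157, 164, 177] _ (by decide +kernel) (by decide +kernel) (by decide +kernel)

theorem f7818 : C.S (v2 C) [4, 48, 50, 89, 93, 110] :=
  C.stMul (f138 C) (f7091 C) _ (by decide +kernel)

theorem f7819 : C.T (v2 C) [11, 29, 53, 73, 101, 109, 116] (v18 C) [15, 30, 66, 89, 101, 109, 118] :=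
  C.conv (f6850 C) (f6867 C) (f7818 C) _ [148, 160, 167, 171, 178] _ (by decide +kernel) (by decide +kernel) (by decide +kernel)

theorem f7820 : C.T (v18 C) [15, 30, 66, 89, 101, 109, 118] (v2 C) [11, 29, 53, 73, 101, 109, 116] :=
  C.flip (f7819 C)

theorem f7821 : C.T (v18 C) [21, 48, 53, 79, 97, 109, 124] (v18 C) [10, 42, 58, 75, 94, 124] :=
  C.closeT (p := (v2 C)) (pu := [24, 31, 60, 70, 98, 121])
    (C.pT (f7815 C)
    (C.pH [8, 30, 65, 84, 94, 117] [48, 74, 107, 109, 113] (by decide +kernel)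
    (C.pT (f7817 C)
    (C.pH [26, 38, 54, 89, 90, 113] [21, 48, 53, 79, 97, 109, 124] (by decide +kernel) (C.pNil _ _)))))
    (C.pH [8, 30, 65, 84, 94, 117] [15, 30, 66, 89, 101, 109, 118] (by decide +kernel)
    (C.pT (f7820 C)
    (C.pH [26, 38, 54, 89, 90, 113] [24, 31, 60, 70, 98, 121] (by decide +kernel) (C.pNil _ _))))
    (C.loop_of_one (relLoop1 C) _ _)

theorem f7823 : C.S (v18 C) [26, 43, 49, 77, 91, 110, 115] :=
  C.stMul (f6836 C) (f6836 C) _ (by decide +kernel)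

theorem f7825 : C.T (v2 C) [17, 46, 52, 98, 117] (v17 C) [7, 46, 67, 78, 106, 116] :=
  C.conv (f6632 C) (f6971 C) (f6971 C) _ [146, 156, 169, 171, 178] _ (by decide +kernel) (by decide +kernel) (by decide +kernel)

theorem f7826 : C.S (v17 C) [23, 31, 75, 92, 109, 116] :=
  C.stMul (f4137 C) (f4132 C) _ (by decide +kernel)

theorem f7827 : C.T (v17 C) [17, 30, 54, 77, 92, 110, 118] (v18 C) [4, 65, 84, 91, 109, 122] :=
  C.conv (f7018 C) (f4137 C) (f7826 C) _ [126, 163, 164, 176, 178] _ (by decide +kernel) (by decide +kernel) (by decide +kernel)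

theorem f7828 : C.S (v2 C) [24, 36, 66, 89, 90, 114] :=
  C.stMul (f243 C) (f211 C) _ (by decide +kernel)

theorem f7829 : C.S (v2 C) [11, 28, 69, 77, 99, 110, 118] :=
  C.stMul (f115 C) (f7828 C) _ (by decide +kernel)

theorem f7830 : C.S (v2 C) [13, 42, 52, 75, 105, 110, 114] :=
  C.stMul (f138 C) (f7829 C) _ (by decide +kernel)

theorem f7831 : C.T (v2 C) [19, 42, 51, 79, 98, 119] (v17 C) [23, 41, 51, 76, 100, 110, 114] :=
  C.conv (f6632 C) (f6971 C) (f7830 C) _ [131, 153, 174] _ (by decide +kernel) (by decide +kernel) (by decide +kernel)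

theorem f7832 : C.T (v17 C) [23, 41, 51, 76, 100, 110, 114] (v2 C) [19, 42, 51, 79, 98, 119] :=
  C.flip (f7831 C)

theorem f7833 : C.T (v18 C) [25, 28, 60, 78, 96, 120] (v17 C) [20, 47, 49, 74, 107, 110, 125] :=
  C.closeT (p := (v2 C)) (pu := [17, 46, 52, 98, 117])
    (C.pT (f7825 C)
    (C.pH [8, 30, 65, 84, 94, 117] [17, 30, 54, 77, 92, 110, 118] (by decide +kernel)
    (C.pT (f7827 C)
    (C.pH [26, 38, 54, 89, 90, 113] [25, 28, 60, 78, 96, 120] (by decide +kernel) (C.pNil _ _)))))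
    (C.pH [8, 30, 65, 84, 94, 117] [23, 41, 51, 76, 100, 110, 114] (by decide +kernel)
    (C.pT (f7832 C)
    (C.pH [26, 38, 54, 89, 90, 113] [17, 46, 52, 98, 117] (by decide +kernel) (C.pNil _ _))))
    (C.loop_of_one (relLoop1 C) _ _)

theorem f7834 : C.T (v17 C) [20, 47, 49, 74, 107, 110, 125] (v18 C) [25, 28, 60, 78, 96, 120] :=
  C.flip (f7833 C)

theorem f7835 : C.T (v2 C) [7, 48, 68, 71, 103, 110, 113] (v17 C) [13, 46, 50, 77, 103, 114] :=
  C.conv (f6632 C) (f6971 C) (f6971 C) _ [137, 163, 170] _ (by decide +kernel) (by decide +kernel) (by decide +kernel)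

theorem f7836 : C.S (v2 C) [10, 43, 63, 77, 110, 116] :=
  C.stMul (f211 C) (f1051 C) _ (by decide +kernel)

theorem f7837 : C.S (v2 C) [6, 64, 80, 93] :=
  C.stMul (f211 C) (f7836 C) _ (by decide +kernel)

theorem f7838 : C.T (v2 C) [23, 34, 51, 86, 105, 109, 123] (v5 C) [12, 35, 59, 71, 106, 114] :=
  C.conv (f982 C) (f323 C) (f7837 C) _ [134, 161, 167, 171, 178] _ (by decide +kernel) (by decide +kernel) (by decide +kernel)

theorem f7839 : C.T (v5 C) [12, 35, 59, 71, 106, 114] (v2 C) [23, 34, 51, 86, 105, 109, 123] :=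
  C.flip (f7838 C)

theorem f7840 : C.S (v5 C) [7, 29, 66, 74, 106, 124] :=
  C.stMul (f1141 C) (f986 C) _ (by decide +kernel)

theorem f7841 : C.S (v5 C) [7, 35, 57, 86, 101, 110, 119] :=
  C.stMul (f1008 C) (f7840 C) _ (by decide +kernel)

theorem f7842 : C.S (v5 C) [9, 39, 54, 78, 101, 110, 118] :=
  C.stMul (f1141 C) (f7841 C) _ (by decide +kernel)

theorem f7843 : C.T (v5 C) [5, 32, 62, 84, 90, 109, 114] (v18 C) [4, 38, 53, 74, 103, 117] :=
  C.conv (f6939 C) (f7842 C) (f7841 C) _ [144, 149, 164, 173, 177] _ (by decide +kernel) (by decide +kernel) (by decide +kernel)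

theorem f7844 : C.T (v18 C) [4, 38, 53, 74, 103, 117] (v5 C) [5, 32, 62, 84, 90, 109, 114] :=
  C.flip (f7843 C)

theorem f7845 : C.T (v17 C) [11, 40, 58, 83] (v18 C) [6, 30, 58, 88, 97] :=
  C.closeT (p := (v2 C)) (pu := [7, 48, 68, 71, 103, 110, 113])
    (C.pT (f7835 C)
    (C.pH [8, 30, 65, 84, 94, 117] [11, 40, 58, 83] (by decide +kernel) (C.pNil _ _)))
    (C.pH [26, 38, 54, 89, 90, 113] [4, 38, 53, 74, 103, 117] (by decide +kernel)
    (C.pT (f7844 C)
    (C.pH [8, 30, 65, 84, 94, 117] [12, 35, 59, 71, 106, 114] (by decide +kernel)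
    (C.pT (f7839 C)
    (C.pH [26, 38, 54, 89, 90, 113] [7, 48, 68, 71, 103, 110, 113] (by decide +kernel) (C.pNil _ _))))))
    (C.loop_of_one (relLoop1 C) _ _)

theorem f7846 : C.T (v18 C) [6, 30, 58, 88, 97] (v17 C) [11, 40, 58, 83] :=
  C.flip (f7845 C)

theorem f7847 : C.T (v2 C) [25, 34, 52, 75, 97, 117] (v17 C) [8, 29, 53, 87, 104, 110] :=
  C.conv (f6632 C) (f6971 C) (f6971 C) _ [144, 156, 164, 172, 177] _ (by decide +kernel) (by decide +kernel) (by decide +kernel)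

theorem f7848 : C.T (v17 C) [44, 64, 89, 90, 121] (v16 C) [15, 45, 64, 79, 95, 110, 124] :=
  C.conv (f5201 C) (f5935 C) (f4137 C) _ [139, 149, 168, 175] _ (by decide +kernel) (by decide +kernel) (by decide +kernel)

theorem f7849 : C.S (v2 C) [22, 36, 69, 77, 94, 110, 124] :=
  C.stMul (f243 C) (f7299 C) _ (by decide +kernel)

theorem f7850 : C.S (v2 C) [13, 27, 68, 89, 105, 121] :=
  C.stMul (f149 C) (f7849 C) _ (by decide +kernel)

theorem f7851 : C.T (v2 C) [4, 36, 58, 74, 107] (v18 C) [18, 40, 62, 80, 108, 110, 117] :=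
  C.conv (f6830 C) (f323 C) (f7850 C) _ [140, 152, 169, 173] _ (by decide +kernel) (by decide +kernel) (by decide +kernel)

theorem f7852 : C.T (v18 C) [18, 40, 62, 80, 108, 110, 117] (v2 C) [4, 36, 58, 74, 107] :=
  C.flip (f7851 C)

theorem f7853 : C.T (v16 C) [9, 29, 59, 84, 94, 110, 114] (v18 C) [9, 28, 67, 109, 111] :=
  C.closeT (p := (v2 C)) (pu := [25, 34, 52, 75, 97, 117])
    (C.pT (f7847 C)
    (C.pH [8, 30, 65, 84, 94, 117] [44, 64, 89, 90, 121] (by decide +kernel)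
    (C.pT (f7848 C)
    (C.pH [26, 38, 54, 89, 90, 113] [9, 29, 59, 84, 94, 110, 114] (by decide +kernel) (C.pNil _ _)))))
    (C.pH [8, 30, 65, 84, 94, 117] [18, 40, 62, 80, 108, 110, 117] (by decide +kernel)
    (C.pT (f7852 C)
    (C.pH [26, 38, 54, 89, 90, 113] [25, 34, 52, 75, 97, 117] (by decide +kernel) (C.pNil _ _))))
    (C.loop_of_one (relLoop1 C) _ _)

theorem f7854 : C.T (v18 C) [9, 28, 67, 109, 111] (v16 C) [9, 29, 59, 84, 94, 110, 114] :=
  C.flip (f7853 C)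

theorem f7855 : C.T (v2 C) [17, 35, 61, 81, 102, 110, 122] (v17 C) [4, 33, 57, 87, 106, 109, 121] :=
  C.conv (f6632 C) (f6971 C) (f6971 C) _ [140, 150, 166, 174, 177] _ (by decide +kernel) (by decide +kernel) (by decide +kernel)

theorem f7856 : C.T (v17 C) [25, 42, 68, 80, 94, 110, 117] (v4 C) [12, 28, 55, 83, 93, 110, 114] :=
  C.conv (f6737 C) (f4300 C) (f4132 C) _ [141, 156, 169, 175, 177] _ (by decide +kernel) (by decide +kernel) (by decide +kernel)

theorem f7857 : C.S (v2 C) [23, 47, 61, 79, 105, 120] :=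
  C.stMul (f149 C) (f109 C) _ (by decide +kernel)

theorem f7858 : C.T (v2 C) [19, 40, 60, 71, 97, 110, 119] (v18 C) [19, 35, 65, 105, 123] :=
  C.conv (f6830 C) (f323 C) (f7857 C) _ [141, 152, 168, 173] _ (by decide +kernel) (by decide +kernel) (by decide +kernel)

theorem f7859 : C.T (v18 C) [19, 35, 65, 105, 123] (v2 C) [19, 40, 60, 71, 97, 110, 119] :=
  C.flip (f7858 C)

theorem f7860 : C.T (v4 C) [14, 67, 89, 100, 109] (v18 C) [15, 43, 67, 77, 97, 120] :=
  C.closeT (p := (v2 C)) (pu := [17, 35, 61, 81, 102, 110, 122])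
    (C.pT (f7855 C)
    (C.pH [8, 30, 65, 84, 94, 117] [25, 42, 68, 80, 94, 110, 117] (by decide +kernel)
    (C.pT (f7856 C)
    (C.pH [26, 38, 54, 89, 90, 113] [14, 67, 89, 100, 109] (by decide +kernel) (C.pNil _ _)))))
    (C.pH [8, 30, 65, 84, 94, 117] [19, 35, 65, 105, 123] (by decide +kernel)
    (C.pT (f7859 C)
    (C.pH [26, 38, 54, 89, 90, 113] [17, 35, 61, 81, 102, 110, 122] (by decide +kernel) (C.pNil _ _))))
    (C.loop_of_one (relLoop1 C) _ _)

theorem f7861 : C.T (v18 C) [15, 43, 67, 77, 97, 120] (v4 C) [14, 67, 89, 100, 109] :=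
  C.flip (f7860 C)

theorem f7862 : C.T (v2 C) [18, 47, 61, 72, 99, 109] (v18 C) [19, 35, 58, 76, 92, 123] :=
  C.conv (f6830 C) (f323 C) (f323 C) _ [141, 152, 169, 173, 177] _ (by decide +kernel) (by decide +kernel) (by decide +kernel)

theorem f7863 : C.S (v2 C) [7, 34, 58, 72, 100, 119] :=
  C.stMul (f243 C) (f878 C) _ (by decide +kernel)

theorem f7864 : C.S (v2 C) [17, 33, 64, 82, 105, 110, 112] :=
  C.stMul (f211 C) (f7863 C) _ (by decide +kernel)

theorem f7865 : C.T (v2 C) [25, 33, 66, 76, 123] (v4 C) [17, 46, 59, 78, 98, 109, 120] :=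
  C.conv (f857 C) (f864 C) (f7864 C) _ [132, 153, 172, 178] _ (by decide +kernel) (by decide +kernel) (by decide +kernel)

theorem f7866 : C.T (v4 C) [17, 46, 59, 78, 98, 109, 120] (v2 C) [25, 33, 66, 76, 123] :=
  C.flip (f7865 C)

theorem f7867 : C.S (v4 C) [23, 41, 49, 78, 91, 109] :=
  C.stMul (f693 C) (f421 C) _ (by decide +kernel)

theorem f7868 : C.S (v4 C) [26, 36, 62, 77, 94, 121] :=
  C.stMul (f421 C) (f7867 C) _ (by decide +kernel)

theorem f7869 : C.T (v4 C) [7, 41, 59, 78, 98, 109, 120] (v18 C) [21, 33, 58, 95, 110, 113] :=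
  C.conv (f6930 C) (f7494 C) (f7868 C) _ [143, 157, 169, 175] _ (by decide +kernel) (by decide +kernel) (by decide +kernel)

theorem f7870 : C.T (v18 C) [21, 33, 58, 95, 110, 113] (v4 C) [7, 41, 59, 78, 98, 109, 120] :=
  C.flip (f7869 C)

theorem f7871 : C.T (v18 C) [26, 43, 51, 99, 110, 123] (v18 C) [10, 31, 67, 73, 90, 109, 114] :=
  C.closeT (p := (v2 C)) (pu := [18, 47, 61, 72, 99, 109])
    (C.pT (f7862 C)
    (C.pH [8, 30, 65, 84, 94, 117] [26, 43, 51, 99, 110, 123] (by decide +kernel) (C.pNil _ _)))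
    (C.pH [26, 38, 54, 89, 90, 113] [21, 33, 58, 95, 110, 113] (by decide +kernel)
    (C.pT (f7870 C)
    (C.pH [8, 30, 65, 84, 94, 117] [17, 46, 59, 78, 98, 109, 120] (by decide +kernel)
    (C.pT (f7866 C)
    (C.pH [26, 38, 54, 89, 90, 113] [18, 47, 61, 72, 99, 109] (by decide +kernel) (C.pNil _ _))))))
    (C.loop_of_one (relLoop1 C) _ _)

theorem f7872 : C.T (v18 C) [10, 31, 67, 73, 90, 109, 114] (v18 C) [26, 43, 51, 99, 110, 123] :=
  C.flip (f7871 C)

theorem f7873 : C.T (v2 C) [7, 38, 63, 80, 91, 113] (v18 C) [24, 60, 70, 98, 110, 119] :=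
  C.conv (f6830 C) (f323 C) (f323 C) _ [146, 149, 167, 171, 177] _ (by decide +kernel) (by decide +kernel) (by decide +kernel)

theorem f7874 : C.S (v2 C) [23, 43, 68, 74, 104, 110, 114] :=
  C.stMul (f125 C) (f138 C) _ (by decide +kernel)

theorem f7875 : C.S (v2 C) [20, 48, 67, 87, 99, 110, 122] :=
  C.stMul (f211 C) (f7874 C) _ (by decide +kernel)

theorem f7876 : C.T (v2 C) [23, 29, 52, 72, 96, 124] (v15 C) [15, 34, 87, 106, 111] :=
  C.conv (f2638 C) (f3254 C) (f7875 C) _ [145, 154, 167, 173, 178] _ (by decide +kernel) (by decide +kernel) (by decide +kernel)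

theorem f7877 : C.T (v15 C) [15, 34, 87, 106, 111] (v2 C) [23, 29, 52, 72, 96, 124] :=
  C.flip (f7876 C)

theorem f7878 : C.S (v15 C) [25, 46, 61, 102, 110, 119] :=
  C.stMul (f2565 C) (f2569 C) _ (by decide +kernel)

theorem f7879 : C.S (v15 C) [25, 39, 65, 80, 99, 110, 113] :=
  C.stMul (f2581 C) (f7878 C) _ (by decide +kernel)

theorem f7880 : C.S (v15 C) [31, 53, 71, 96, 116] :=
  C.stMul (f2569 C) (f2569 C) _ (by decide +kernel)

theorem f7881 : C.T (v15 C) [10, 44, 54, 72, 95, 119] (v17 C) [18, 30, 61, 73, 103, 110, 123] :=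
  C.conv (f6802 C) (f7879 C) (f7880 C) _ [127, 155, 167, 171] _ (by decide +kernel) (by decide +kernel) (by decide +kernel)

theorem f7882 : C.T (v17 C) [18, 30, 61, 73, 103, 110, 123] (v15 C) [10, 44, 54, 72, 95, 119] :=
  C.flip (f7881 C)

theorem f7883 : C.T (v18 C) [16, 34, 54, 81, 91] (v17 C) [25, 44, 67, 86, 98, 110, 114] :=
  C.closeT (p := (v2 C)) (pu := [7, 38, 63, 80, 91, 113])
    (C.pT (f7873 C)
    (C.pH [8, 30, 65, 84, 94, 117] [16, 34, 54, 81, 91] (by decide +kernel) (C.pNil _ _)))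
    (C.pH [26, 38, 54, 89, 90, 113] [18, 30, 61, 73, 103, 110, 123] (by decide +kernel)
    (C.pT (f7882 C)
    (C.pH [8, 30, 65, 84, 94, 117] [15, 34, 87, 106, 111] (by decide +kernel)
    (C.pT (f7877 C)
    (C.pH [26, 38, 54, 89, 90, 113] [7, 38, 63, 80, 91, 113] (by decide +kernel) (C.pNil _ _))))))
    (C.loop_of_one (relLoop1 C) _ _)

theorem f7884 : C.T (v17 C) [25, 44, 67, 86, 98, 110, 114] (v18 C) [16, 34, 54, 81, 91] :=
  C.flip (f7883 C)

theorem f7885 : C.T (v2 C) [22, 56, 83, 90, 109, 117] (v18 C) [10, 37, 54, 82, 97, 113] :=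
  C.conv (f6830 C) (f323 C) (f323 C) _ [132, 156, 169, 174, 178] _ (by decide +kernel) (by decide +kernel) (by decide +kernel)

theorem f7886 : C.S (v18 C) [26, 43, 49, 77, 91, 110, 115] :=
  C.stMul (f6836 C) (f6836 C) _ (by decide +kernel)

theorem f7887 : C.T (v18 C) [15, 27, 55, 83, 94, 109, 115] (v4 C) [6, 46, 56, 79, 92, 110, 125] :=
  C.conv (f7519 C) (f7886 C) (f7121 C) _ [142, 160, 169, 176, 177] _ (by decide +kernel) (by decide +kernel) (by decide +kernel)

theorem f7888 : C.S (v2 C) [16, 34, 50, 99, 110, 118] :=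
  C.stMul (f211 C) (f7691 C) _ (by decide +kernel)

theorem f7889 : C.T (v2 C) [9, 43, 79, 107, 109, 115] (v18 C) [21, 39, 64, 76, 96, 109, 125] :=
  C.conv (f6850 C) (f6867 C) (f7888 C) _ [128, 153, 165, 177] _ (by decide +kernel) (by decide +kernel) (by decide +kernel)

theorem f7890 : C.T (v18 C) [21, 39, 64, 76, 96, 109, 125] (v2 C) [9, 43, 79, 107, 109, 115] :=
  C.flip (f7889 C)

theorem f7891 : C.T (v4 C) [4, 34, 52, 71, 101, 110, 119] (v18 C) [12, 30, 80, 103, 109, 121] :=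
  C.closeT (p := (v2 C)) (pu := [22, 56, 83, 90, 109, 117])
    (C.pT (f7885 C)
    (C.pH [8, 30, 65, 84, 94, 117] [15, 27, 55, 83, 94, 109, 115] (by decide +kernel)
    (C.pT (f7887 C)
    (C.pH [26, 38, 54, 89, 90, 113] [4, 34, 52, 71, 101, 110, 119] (by decide +kernel) (C.pNil _ _)))))
    (C.pH [8, 30, 65, 84, 94, 117] [21, 39, 64, 76, 96, 109, 125] (by decide +kernel)
    (C.pT (f7890 C)
    (C.pH [26, 38, 54, 89, 90, 113] [22, 56, 83, 90, 109, 117] (by decide +kernel) (C.pNil _ _))))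
    (C.loop_of_one (relLoop1 C) _ _)

theorem f7892 : C.T (v18 C) [12, 30, 80, 103, 109, 121] (v4 C) [4, 34, 52, 71, 101, 110, 119] :=
  C.flip (f7891 C)

theorem f7893 : C.T (v2 C) [12, 33, 69, 80, 97, 125] (v18 C) [19, 35, 86, 97, 109, 123] :=
  C.conv (f6830 C) (f323 C) (f323 C) _ [141, 152, 166, 172, 178] _ (by decide +kernel) (by decide +kernel) (by decide +kernel)

theorem f7894 : C.S (v18 C) [26, 43, 49, 77, 91, 110, 115] :=
  C.stMul (f6836 C) (f6836 C) _ (by decide +kernel)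

theorem f7895 : C.T (v18 C) [26, 43, 69, 89, 90, 109, 122] (v16 C) [18, 49, 77, 103, 109, 116] :=
  C.conv (f7854 C) (f6836 C) (f7894 C) _ [130, 154, 164] _ (by decide +kernel) (by decide +kernel) (by decide +kernel)

theorem f7896 : C.S (v2 C) [23, 47, 68, 89, 105, 121] :=
  C.stMul (f138 C) (f211 C) _ (by decide +kernel)

theorem f7897 : C.S (v2 C) [20, 53, 83, 105, 110] :=
  C.stMul (f211 C) (f7896 C) _ (by decide +kernel)

theorem f7898 : C.T (v2 C) [24, 47, 64, 86, 98, 109, 119] (v18 C) [17, 27, 61, 72, 94, 115] :=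
  C.conv (f6830 C) (f323 C) (f7897 C) _ [139, 149, 164, 175, 177] _ (by decide +kernel) (by decide +kernel) (by decide +kernel)

theorem f7899 : C.T (v18 C) [17, 27, 61, 72, 94, 115] (v2 C) [24, 47, 64, 86, 98, 109, 119] :=
  C.flip (f7898 C)

theorem f7900 : C.T (v16 C) [10, 37, 88, 107, 110, 124] (v18 C) [7, 36, 49, 78, 101, 109, 113] :=
  C.closeT (p := (v2 C)) (pu := [12, 33, 69, 80, 97, 125])
    (C.pT (f7893 C)
    (C.pH [8, 30, 65, 84, 94, 117] [26, 43, 69, 89, 90, 109, 122] (by decide +kernel)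
    (C.pT (f7895 C)
    (C.pH [26, 38, 54, 89, 90, 113] [10, 37, 88, 107, 110, 124] (by decide +kernel) (C.pNil _ _)))))
    (C.pH [8, 30, 65, 84, 94, 117] [17, 27, 61, 72, 94, 115] (by decide +kernel)
    (C.pT (f7899 C)
    (C.pH [26, 38, 54, 89, 90, 113] [12, 33, 69, 80, 97, 125] (by decide +kernel) (C.pNil _ _))))
    (C.loop_of_one (relLoop1 C) _ _)

theorem f7901 : C.T (v18 C) [7, 36, 49, 78, 101, 109, 113] (v16 C) [10, 37, 88, 107, 110, 124] :=
  C.flip (f7900 C)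

theorem f7902 : C.T (v2 C) [9, 33, 60, 80, 101, 124] (v18 C) [20, 27, 58, 72, 108, 110, 116] :=
  C.conv (f6830 C) (f323 C) (f323 C) _ [142, 150, 164, 175] _ (by decide +kernel) (by decide +kernel) (by decide +kernel)

theorem f7903 : C.S (v2 C) [19, 34, 66, 74, 97, 110, 123] :=
  C.stMul (f243 C) (f6899 C) _ (by decide +kernel)

theorem f7904 : C.T (v2 C) [15, 46, 57, 74, 97, 109, 116] (v18 C) [39, 57, 70, 108] :=
  C.conv (f6850 C) (f6867 C) (f7903 C) _ [134, 150, 169, 171, 178] _ (by decide +kernel) (by decide +kernel) (by decide +kernel)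

theorem f7905 : C.T (v18 C) [39, 57, 70, 108] (v2 C) [15, 46, 57, 74, 97, 109, 116] :=
  C.flip (f7904 C)

theorem f7906 : C.T (v18 C) [8, 44, 56, 78, 109, 120] (v16 C) [10, 46, 68, 74, 99, 115] :=
  C.conv (f7854 C) (f6836 C) (f7121 C) _ [144, 155, 173, 178] _ (by decide +kernel) (by decide +kernel) (by decide +kernel)

theorem f7907 : C.T (v16 C) [10, 46, 68, 74, 99, 115] (v18 C) [8, 44, 56, 78, 109, 120] :=
  C.flip (f7906 C)

theorem f7908 : C.T (v18 C) [23, 29, 64, 84, 95, 109, 125] (v16 C) [18, 36, 56, 83, 90, 109] :=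
  C.closeT (p := (v2 C)) (pu := [9, 33, 60, 80, 101, 124])
    (C.pT (f7902 C)
    (C.pH [8, 30, 65, 84, 94, 117] [23, 29, 64, 84, 95, 109, 125] (by decide +kernel) (C.pNil _ _)))
    (C.pH [26, 38, 54, 89, 90, 113] [10, 46, 68, 74, 99, 115] (by decide +kernel)
    (C.pT (f7907 C)
    (C.pH [8, 30, 65, 84, 94, 117] [39, 57, 70, 108] (by decide +kernel)
    (C.pT (f7905 C)
    (C.pH [26, 38, 54, 89, 90, 113] [9, 33, 60, 80, 101, 124] (by decide +kernel) (C.pNil _ _))))))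
    (C.loop_of_one (relLoop1 C) _ _)

theorem f7909 : C.T (v16 C) [18, 36, 56, 83, 90, 109] (v18 C) [23, 29, 64, 84, 95, 109, 125] :=
  C.flip (f7908 C)

theorem f7910 : C.T (v2 C) [10, 53, 78, 98, 110, 118] (v18 C) [19, 31, 66, 86, 106, 111] :=
  C.conv (f6830 C) (f323 C) (f323 C) _ [141, 163, 167] _ (by decide +kernel) (by decide +kernel) (by decide +kernel)

theorem f7911 : C.S (v2 C) [18, 44, 61, 70, 105, 112] :=
  C.stMul (f211 C) (f109 C) _ (by decide +kernel)

theorem f7912 : C.S (v2 C) [62, 79, 107, 109, 125] :=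
  C.stMul (f211 C) (f7911 C) _ (by decide +kernel)

theorem f7913 : C.T (v2 C) [18, 44, 49, 71, 90, 124] (v15 C) [22, 31, 53, 71, 90, 109, 117] :=
  C.conv (f2638 C) (f3254 C) (f7912 C) _ [130, 151, 169, 176, 178] _ (by decide +kernel) (by decide +kernel) (by decide +kernel)

theorem f7914 : C.T (v15 C) [22, 31, 53, 71, 90, 109, 117] (v2 C) [18, 44, 49, 71, 90, 124] :=
  C.flip (f7913 C)

theorem f7915 : C.S (v15 C) [25, 47, 66, 86, 107, 124] :=
  C.stMul (f2569 C) (f2565 C) _ (by decide +kernel)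

theorem f7916 : C.S (v15 C) [25, 32, 63, 84, 105, 109, 124] :=
  C.stMul (f2581 C) (f7915 C) _ (by decide +kernel)

theorem f7917 : C.T (v15 C) [17, 47, 54, 73, 101, 110, 113] (v10 C) [24, 42, 57, 78, 106, 110, 122] :=
  C.conv (f3077 C) (f2569 C) (f7916 C) _ [144, 151, 164, 171] _ (by decide +kernel) (by decide +kernel) (by decide +kernel)

theorem f7918 : C.T (v10 C) [24, 42, 57, 78, 106, 110, 122] (v15 C) [17, 47, 54, 73, 101, 110, 113] :=
  C.flip (f7917 C)

theorem f7919 : C.T (v18 C) [26, 33, 49, 70, 97, 116] (v10 C) [11, 48, 52, 85, 102, 118] :=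
  C.closeT (p := (v2 C)) (pu := [10, 53, 78, 98, 110, 118])
    (C.pT (f7910 C)
    (C.pH [8, 30, 65, 84, 94, 117] [26, 33, 49, 70, 97, 116] (by decide +kernel) (C.pNil _ _)))
    (C.pH [26, 38, 54, 89, 90, 113] [24, 42, 57, 78, 106, 110, 122] (by decide +kernel)
    (C.pT (f7918 C)
    (C.pH [8, 30, 65, 84, 94, 117] [22, 31, 53, 71, 90, 109, 117] (by decide +kernel)
    (C.pT (f7914 C)
    (C.pH [26, 38, 54, 89, 90, 113] [10, 53, 78, 98, 110, 118] (by decide +kernel) (C.pNil _ _))))))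
    (C.loop_of_one (relLoop1 C) _ _)

theorem f7920 : C.T (v10 C) [11, 48, 52, 85, 102, 118] (v18 C) [26, 33, 49, 70, 97, 116] :=
  C.flip (f7919 C)

theorem f7921 : C.T (v2 C) [4, 46, 69, 77, 100, 109, 121] (v18 C) [5, 37, 49, 76, 115] :=
  C.conv (f6830 C) (f323 C) (f323 C) _ [127, 150, 165, 174] _ (by decide +kernel) (by decide +kernel) (by decide +kernel)

theorem f7922 : C.S (v2 C) [20, 61, 78, 104, 112] :=
  C.stMul (f149 C) (f211 C) _ (by decide +kernel)

theorem f7923 : C.T (v2 C) [6, 34, 60, 72, 101, 109, 114] (v3 C) [8, 42, 56, 71, 108, 116] :=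
  C.conv (f817 C) (f837 C) (f7922 C) _ [133, 158, 171, 178] _ (by decide +kernel) (by decide +kernel) (by decide +kernel)

theorem f7924 : C.T (v3 C) [8, 42, 56, 71, 108, 116] (v2 C) [6, 34, 60, 72, 101, 109, 114] :=
  C.flip (f7923 C)

theorem f7925 : C.S (v3 C) [9, 29, 68, 75, 108, 110, 124] :=
  C.stMul (f335 C) (f328 C) _ (by decide +kernel)

theorem f7926 : C.S (v3 C) [13, 45, 62, 78, 97, 110, 120] :=
  C.stMul (f328 C) (f7925 C) _ (by decide +kernel)

theorem f7927 : C.S (v3 C) [43, 67, 71, 98, 119] :=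
  C.stMul (f335 C) (f7926 C) _ (by decide +kernel)

theorem f7928 : C.S (v3 C) [9, 43, 96, 123] :=
  C.stMul (f353 C) (f7927 C) _ (by decide +kernel)

theorem f7929 : C.S (v3 C) [20, 27, 75, 91, 110, 123] :=
  C.stMul (f335 C) (f7928 C) _ (by decide +kernel)

theorem f7930 : C.T (v3 C) [46, 49, 89, 101, 125] (v18 C) [15, 34, 58, 84, 106, 123] :=
  C.conv (f6888 C) (f7333 C) (f7929 C) _ [136, 162, 170, 173, 177] _ (by decide +kernel) (by decide +kernel) (by decide +kernel)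

theorem f7931 : C.T (v18 C) [15, 34, 58, 84, 106, 123] (v3 C) [46, 49, 89, 101, 125] :=
  C.flip (f7930 C)

theorem f7932 : C.T (v18 C) [12, 43, 49, 83, 93, 123] (v18 C) [20, 53, 75, 103, 118] :=
  C.closeT (p := (v2 C)) (pu := [4, 46, 69, 77, 100, 109, 121])
    (C.pT (f7921 C)
    (C.pH [8, 30, 65, 84, 94, 117] [12, 43, 49, 83, 93, 123] (by decide +kernel) (C.pNil _ _)))
    (C.pH [26, 38, 54, 89, 90, 113] [15, 34, 58, 84, 106, 123] (by decide +kernel)
    (C.pT (f7931 C)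
    (C.pH [8, 30, 65, 84, 94, 117] [8, 42, 56, 71, 108, 116] (by decide +kernel)
    (C.pT (f7924 C)
    (C.pH [26, 38, 54, 89, 90, 113] [4, 46, 69, 77, 100, 109, 121] (by decide +kernel) (C.pNil _ _))))))
    (C.loop_of_one (relLoop1 C) _ _)

theorem f7933 : C.T (v18 C) [20, 53, 75, 103, 118] (v18 C) [12, 43, 49, 83, 93, 123] :=
  C.flip (f7932 C)

theorem f7934 : C.T (v2 C) [22, 48, 50, 77, 92, 112] (v18 C) [8, 36, 50, 78, 107, 109, 112] :=
  C.conv (f6830 C) (f323 C) (f323 C) _ [130, 151, 170, 171, 177] _ (by decide +kernel) (by decide +kernel) (by decide +kernel)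

theorem f7935 : C.S (v2 C) [4, 46, 89, 107, 116] :=
  C.stMul (f211 C) (f101 C) _ (by decide +kernel)

theorem f7936 : C.S (v2 C) [18, 29, 49, 88, 108, 113] :=
  C.stMul (f211 C) (f7935 C) _ (by decide +kernel)

theorem f7937 : C.S (v2 C) [28, 59, 73, 90, 111] :=
  C.stMul (f211 C) (f7936 C) _ (by decide +kernel)

theorem f7938 : C.S (v2 C) [6, 59, 73, 98, 110, 122] :=
  C.stMul (f138 C) (f7937 C) _ (by decide +kernel)

theorem f7939 : C.T (v2 C) [9, 44, 66, 76, 100, 112] (v17 C) [17, 37, 62, 99, 123] :=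
  C.conv (f6632 C) (f6971 C) (f7938 C) _ [129, 153, 174] _ (by decide +kernel) (by decide +kernel) (by decide +kernel)

theorem f7940 : C.T (v17 C) [17, 37, 62, 99, 123] (v2 C) [9, 44, 66, 76, 100, 112] :=
  C.flip (f7939 C)

theorem f7941 : C.T (v17 C) [7, 47, 68, 78, 106, 125] (v15 C) [13, 60, 74, 106, 109, 115] :=
  C.conv (f6164 C) (f4132 C) (f4137 C) _ [144, 157, 164, 171, 178] _ (by decide +kernel) (by decide +kernel) (by decide +kernel)

theorem f7942 : C.T (v15 C) [13, 60, 74, 106, 109, 115] (v17 C) [7, 47, 68, 78, 106, 125] :=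
  C.flip (f7941 C)

theorem f7943 : C.T (v18 C) [33, 51, 78, 98, 109, 116] (v15 C) [16, 49, 71, 97, 110] :=
  C.closeT (p := (v2 C)) (pu := [22, 48, 50, 77, 92, 112])
    (C.pT (f7934 C)
    (C.pH [8, 30, 65, 84, 94, 117] [33, 51, 78, 98, 109, 116] (by decide +kernel) (C.pNil _ _)))
    (C.pH [26, 38, 54, 89, 90, 113] [13, 60, 74, 106, 109, 115] (by decide +kernel)
    (C.pT (f7942 C)
    (C.pH [8, 30, 65, 84, 94, 117] [17, 37, 62, 99, 123] (by decide +kernel)
    (C.pT (f7940 C)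
    (C.pH [26, 38, 54, 89, 90, 113] [22, 48, 50, 77, 92, 112] (by decide +kernel) (C.pNil _ _))))))
    (C.loop_of_one (relLoop1 C) _ _)

theorem f7944 : C.T (v15 C) [16, 49, 71, 97, 110] (v18 C) [33, 51, 78, 98, 109, 116] :=
  C.flip (f7943 C)

theorem f7945 : C.T (v2 C) [4, 32, 61, 87, 106, 119] (v18 C) [48, 69, 89, 90, 110, 114] :=
  C.conv (f6830 C) (f323 C) (f323 C) _ [163, 170, 174, 177] _ (by decide +kernel) (by decide +kernel) (by decide +kernel)

theorem f7946 : C.S (v18 C) [26, 43, 49, 77, 91, 110, 115] :=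
  C.stMul (f6836 C) (f6836 C) _ (by decide +kernel)

theorem f7947 : C.T (v18 C) [8, 35, 56, 89, 94, 110, 116] (v18 C) [7, 32, 60, 84, 101, 109, 114] :=
  C.conv (f7475 C) (f7946 C) (f6836 C) _ [133, 157, 167, 173, 178] _ (by decide +kernel) (by decide +kernel) (by decide +kernel)

theorem f7948 : C.T (v2 C) [6, 44, 62, 70, 98, 110, 111] (v18 C) [20, 46, 60, 81, 101, 110, 125] :=
  C.conv (f6830 C) (f323 C) (f7554 C) _ [142, 157, 171] _ (by decide +kernel) (by decide +kernel) (by decide +kernel)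

theorem f7949 : C.T (v18 C) [20, 46, 60, 81, 101, 110, 125] (v2 C) [6, 44, 62, 70, 98, 110, 111] :=
  C.flip (f7948 C)

theorem f7950 : C.T (v18 C) [42, 52, 82, 93, 111] (v18 C) [16, 35, 53, 74, 97, 109] :=
  C.closeT (p := (v2 C)) (pu := [4, 32, 61, 87, 106, 119])
    (C.pT (f7945 C)
    (C.pH [8, 30, 65, 84, 94, 117] [8, 35, 56, 89, 94, 110, 116] (by decide +kernel)
    (C.pT (f7947 C)
    (C.pH [26, 38, 54, 89, 90, 113] [42, 52, 82, 93, 111] (by decide +kernel) (C.pNil _ _)))))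
    (C.pH [8, 30, 65, 84, 94, 117] [20, 46, 60, 81, 101, 110, 125] (by decide +kernel)
    (C.pT (f7949 C)
    (C.pH [26, 38, 54, 89, 90, 113] [4, 32, 61, 87, 106, 119] (by decide +kernel) (C.pNil _ _))))
    (C.loop_of_one (relLoop1 C) _ _)

theorem f7952 : C.S (v18 C) [26, 43, 49, 77, 91, 110, 115] :=
  C.stMul (f6836 C) (f6836 C) _ (by decide +kernel)

theorem f7954 : C.T (v2 C) [13, 37, 67, 73, 110, 124] (v18 C) [36, 69, 75, 94, 110, 124] :=
  C.conv (f6830 C) (f323 C) (f323 C) _ [155, 168, 173, 177] _ (by decide +kernel) (by decide +kernel) (by decide +kernel)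

theorem f7955 : C.S (v18 C) [26, 43, 49, 77, 91, 110, 115] :=
  C.stMul (f6836 C) (f6836 C) _ (by decide +kernel)

theorem f7956 : C.T (v18 C) [8, 31, 54, 84, 125] (v18 C) [18, 33, 64, 73, 94, 109, 121] :=
  C.conv (f7179 C) (f6836 C) (f7955 C) _ [135, 169, 173, 177] _ (by decide +kernel) (by decide +kernel) (by decide +kernel)

theorem f7957 : C.S (v2 C) [13, 42, 49, 76, 107, 110, 123] :=
  C.stMul (f149 C) (f7505 C) _ (by decide +kernel)

theorem f7958 : C.S (v2 C) [11, 28, 67, 83, 90, 109, 116] :=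
  C.stMul (f138 C) (f7957 C) _ (by decide +kernel)

theorem f7959 : C.T (v2 C) [16, 44, 50, 72, 103, 112] (v17 C) [17, 44, 62, 78, 91, 109, 116] :=
  C.conv (f6632 C) (f6971 C) (f7958 C) _ [131, 151, 169, 172] _ (by decide +kernel) (by decide +kernel) (by decide +kernel)

theorem f7960 : C.T (v17 C) [17, 44, 62, 78, 91, 109, 116] (v2 C) [16, 44, 50, 72, 103, 112] :=
  C.flip (f7959 C)

theorem f7961 : C.T (v18 C) [10, 43, 66, 88, 93, 109, 119] (v17 C) [7, 43, 67, 75, 107, 110, 114] :=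
  C.closeT (p := (v2 C)) (pu := [13, 37, 67, 73, 110, 124])
    (C.pT (f7954 C)
    (C.pH [8, 30, 65, 84, 94, 117] [8, 31, 54, 84, 125] (by decide +kernel)
    (C.pT (f7956 C)
    (C.pH [26, 38, 54, 89, 90, 113] [10, 43, 66, 88, 93, 109, 119] (by decide +kernel) (C.pNil _ _)))))
    (C.pH [8, 30, 65, 84, 94, 117] [17, 44, 62, 78, 91, 109, 116] (by decide +kernel)
    (C.pT (f7960 C)
    (C.pH [26, 38, 54, 89, 90, 113] [13, 37, 67, 73, 110, 124] (by decide +kernel) (C.pNil _ _))))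
    (C.loop_of_one (relLoop1 C) _ _)

theorem f7962 : C.T (v17 C) [7, 43, 67, 75, 107, 110, 114] (v18 C) [10, 43, 66, 88, 93, 109, 119] :=
  C.flip (f7961 C)

theorem f7963 : C.T (v2 C) [8, 40, 55, 71, 98, 110] (v18 C) [4, 31, 66, 78, 95, 110, 112] :=
  C.conv (f6830 C) (f323 C) (f323 C) _ [126, 155, 167, 175] _ (by decide +kernel) (by decide +kernel) (by decide +kernel)

theorem f7964 : C.S (v18 C) [26, 43, 49, 77, 91, 110, 115] :=
  C.stMul (f6836 C) (f6836 C) _ (by decide +kernel)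

theorem f7965 : C.T (v18 C) [25, 28, 67, 85, 102, 110, 114] (v17 C) [32, 57, 73, 103, 109, 120] :=
  C.conv (f7961 C) (f7964 C) (f6836 C) _ [144, 152, 168, 172, 177] _ (by decide +kernel) (by decide +kernel) (by decide +kernel)

theorem f7966 : C.T (v2 C) [5, 38, 68, 84, 104, 110, 115] (v18 C) [17, 32, 65, 87, 90, 109, 119] :=
  C.conv (f6850 C) (f6867 C) (f6919 C) _ [141, 161, 170, 172, 177] _ (by decide +kernel) (by decide +kernel) (by decide +kernel)

theorem f7967 : C.T (v18 C) [17, 32, 65, 87, 90, 109, 119] (v2 C) [5, 38, 68, 84, 104, 110, 115] :=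
  C.flip (f7966 C)

theorem f7968 : C.T (v17 C) [26, 30, 68, 89, 99, 110] (v18 C) [7, 33, 69, 75, 107, 120] :=
  C.closeT (p := (v2 C)) (pu := [8, 40, 55, 71, 98, 110])
    (C.pT (f7963 C)
    (C.pH [8, 30, 65, 84, 94, 117] [25, 28, 67, 85, 102, 110, 114] (by decide +kernel)
    (C.pT (f7965 C)
    (C.pH [26, 38, 54, 89, 90, 113] [26, 30, 68, 89, 99, 110] (by decide +kernel) (C.pNil _ _)))))
    (C.pH [8, 30, 65, 84, 94, 117] [17, 32, 65, 87, 90, 109, 119] (by decide +kernel)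
    (C.pT (f7967 C)
    (C.pH [26, 38, 54, 89, 90, 113] [8, 40, 55, 71, 98, 110] (by decide +kernel) (C.pNil _ _))))
    (C.loop_of_one (relLoop1 C) _ _)

theorem f7969 : C.T (v18 C) [7, 33, 69, 75, 107, 120] (v17 C) [26, 30, 68, 89, 99, 110] :=
  C.flip (f7968 C)

theorem f7970 : C.T (v2 C) [12, 40, 60, 85, 107, 115] (v18 C) [8, 27, 54, 82, 90, 113] :=
  C.conv (f6830 C) (f323 C) (f323 C) _ [130, 157, 167, 176, 178] _ (by decide +kernel) (by decide +kernel) (by decide +kernel)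

theorem f7971 : C.S (v2 C) [23, 47, 56, 71, 104, 109, 114] :=
  C.stMul (f211 C) (f138 C) _ (by decide +kernel)

theorem f7972 : C.T (v2 C) [24, 45, 54, 81, 99, 110, 117] (v2 C) [9, 40, 63, 85, 103, 109, 120] :=
  C.conv (f307 C) (f311 C) (f7971 C) _ [148, 160, 164, 171, 178] _ (by decide +kernel) (by decide +kernel) (by decide +kernel)

theorem f7973 : C.T (v2 C) [9, 40, 63, 85, 103, 109, 120] (v2 C) [24, 45, 54, 81, 99, 110, 117] :=
  C.flip (f7972 C)

theorem f7974 : C.S (v2 C) [12, 30, 62, 78, 93, 109, 111] :=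
  C.stMul (f243 C) (f7037 C) _ (by decide +kernel)

theorem f7975 : C.S (v2 C) [21, 36, 59, 79, 96, 110, 112] :=
  C.stMul (f138 C) (f7974 C) _ (by decide +kernel)

theorem f7976 : C.T (v2 C) [25, 37, 51, 77, 92, 120] (v18 C) [6, 46, 63, 88, 100, 110] :=
  C.conv (f6830 C) (f323 C) (f7975 C) _ [128, 149, 174] _ (by decide +kernel) (by decide +kernel) (by decide +kernel)

theorem f7977 : C.T (v18 C) [6, 46, 63, 88, 100, 110] (v2 C) [25, 37, 51, 77, 92, 120] :=
  C.flip (f7976 C)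

theorem f7978 : C.T (v18 C) [37, 62, 78, 98] (v18 C) [21, 39, 54, 81, 103, 110, 116] :=
  C.closeT (p := (v2 C)) (pu := [12, 40, 60, 85, 107, 115])
    (C.pT (f7970 C)
    (C.pH [8, 30, 65, 84, 94, 117] [37, 62, 78, 98] (by decide +kernel) (C.pNil _ _)))
    (C.pH [26, 38, 54, 89, 90, 113] [6, 46, 63, 88, 100, 110] (by decide +kernel)
    (C.pT (f7977 C)
    (C.pH [8, 30, 65, 84, 94, 117] [9, 40, 63, 85, 103, 109, 120] (by decide +kernel)
    (C.pT (f7973 C)
    (C.pH [26, 38, 54, 89, 90, 113] [12, 40, 60, 85, 107, 115] (by decide +kernel) (C.pNil _ _))))))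
    (C.loop_of_one (relLoop1 C) _ _)

theorem f7980 : C.S (v18 C) [26, 43, 49, 77, 91, 110, 115] :=
  C.stMul (f6836 C) (f6836 C) _ (by decide +kernel)

theorem f7982 : C.T (v2 C) [12, 37, 64, 71, 95, 110, 115] (v18 C) [25, 30, 68, 84, 106, 116] :=
  C.conv (f6830 C) (f323 C) (f323 C) _ [147, 150, 166, 176, 178] _ (by decide +kernel) (by decide +kernel) (by decide +kernel)

theorem f7983 : C.S (v2 C) [23, 47, 56, 71, 104, 109, 114] :=
  C.stMul (f211 C) (f138 C) _ (by decide +kernel)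

theorem f7984 : C.S (v2 C) [21, 27, 59, 73, 103, 109, 112] :=
  C.stMul (f243 C) (f7983 C) _ (by decide +kernel)

theorem f7985 : C.S (v2 C) [8, 42, 83, 96, 110, 122] :=
  C.stMul (f211 C) (f7984 C) _ (by decide +kernel)

theorem f7986 : C.T (v2 C) [24, 31, 56, 79, 94, 109, 118] (v4 C) [18, 35, 54, 74, 101, 120] :=
  C.conv (f857 C) (f864 C) (f7985 C) _ [132, 156, 166, 172, 177] _ (by decide +kernel) (by decide +kernel) (by decide +kernel)

theorem f7987 : C.T (v4 C) [18, 35, 54, 74, 101, 120] (v2 C) [24, 31, 56, 79, 94, 109, 118] :=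
  C.flip (f7986 C)

theorem f7988 : C.S (v4 C) [10, 27, 56, 84, 93, 109, 113] :=
  C.stMul (f407 C) (f421 C) _ (by decide +kernel)

theorem f7989 : C.S (v4 C) [25, 47, 59, 76, 103, 109, 113] :=
  C.stMul (f421 C) (f7988 C) _ (by decide +kernel)

theorem f7990 : C.T (v4 C) [9, 48, 52, 85, 91, 109, 115] (v17 C) [23, 50, 78, 103, 118] :=
  C.conv (f6475 C) (f697 C) (f7989 C) _ [126, 152, 165, 173, 177] _ (by decide +kernel) (by decide +kernel) (by decide +kernel)

theorem f7991 : C.T (v17 C) [23, 50, 78, 103, 118] (v4 C) [9, 48, 52, 85, 91, 109, 115] :=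
  C.flip (f7990 C)

theorem f7992 : C.T (v18 C) [9, 34, 67, 87, 108, 109, 111] (v17 C) [13, 30, 49, 77, 107, 110, 112] :=
  C.closeT (p := (v2 C)) (pu := [12, 37, 64, 71, 95, 110, 115])
    (C.pT (f7982 C)
    (C.pH [8, 30, 65, 84, 94, 117] [9, 34, 67, 87, 108, 109, 111] (by decide +kernel) (C.pNil _ _)))
    (C.pH [26, 38, 54, 89, 90, 113] [23, 50, 78, 103, 118] (by decide +kernel)
    (C.pT (f7991 C)
    (C.pH [8, 30, 65, 84, 94, 117] [18, 35, 54, 74, 101, 120] (by decide +kernel)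
    (C.pT (f7987 C)
    (C.pH [26, 38, 54, 89, 90, 113] [12, 37, 64, 71, 95, 110, 115] (by decide +kernel) (C.pNil _ _))))))
    (C.loop_of_one (relLoop1 C) _ _)

theorem f7993 : C.T (v17 C) [13, 30, 49, 77, 107, 110, 112] (v18 C) [9, 34, 67, 87, 108, 109, 111] :=
  C.flip (f7992 C)

theorem f7994 : C.T (v2 C) [13, 40, 55, 89, 102, 116] (v18 C) [8, 30, 51, 74, 99, 109, 119] :=
  C.conv (f6850 C) (f6867 C) (f6867 C) _ [127, 160, 167, 171, 178] _ (by decide +kernel) (by decide +kernel) (by decide +kernel)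

theorem f7995 : C.S (v2 C) [20, 50, 86, 101, 109, 117] :=
  C.stMul (f115 C) (f211 C) _ (by decide +kernel)

theorem f7996 : C.T (v2 C) [16, 35, 62, 83, 94, 110, 119] (v4 C) [19, 41, 49, 86, 99, 110, 116] :=
  C.conv (f857 C) (f864 C) (f7995 C) _ [143, 160, 166, 178] _ (by decide +kernel) (by decide +kernel) (by decide +kernel)

theorem f7997 : C.T (v4 C) [19, 41, 49, 86, 99, 110, 116] (v2 C) [16, 35, 62, 83, 94, 110, 119] :=
  C.flip (f7996 C)

theorem f7998 : C.S (v4 C) [10, 42, 56, 80, 93, 109, 122] :=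
  C.stMul (f693 C) (f7428 C) _ (by decide +kernel)

theorem f7999 : C.S (v4 C) [25, 32, 52, 83, 96, 110, 121] :=
  C.stMul (f421 C) (f7998 C) _ (by decide +kernel)

theorem f8000 : C.T (v4 C) [15, 34, 53, 86, 92, 110, 120] (v18 C) [21, 40, 69, 78, 103, 122] :=
  C.conv (f6924 C) (f7427 C) (f7999 C) _ [143, 151, 165, 175] _ (by decide +kernel) (by decide +kernel) (by decide +kernel)

theorem f8001 : C.T (v18 C) [21, 40, 69, 78, 103, 122] (v4 C) [15, 34, 53, 86, 92, 110, 120] :=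
  C.flip (f8000 C)

theorem f8002 : C.T (v18 C) [31, 67, 78, 103, 118] (v18 C) [10, 39, 51, 87, 92, 109, 111] :=
  C.closeT (p := (v2 C)) (pu := [13, 40, 55, 89, 102, 116])
    (C.pT (f7994 C)
    (C.pH [8, 30, 65, 84, 94, 117] [31, 67, 78, 103, 118] (by decide +kernel) (C.pNil _ _)))
    (C.pH [26, 38, 54, 89, 90, 113] [21, 40, 69, 78, 103, 122] (by decide +kernel)
    (C.pT (f8001 C)
    (C.pH [8, 30, 65, 84, 94, 117] [19, 41, 49, 86, 99, 110, 116] (by decide +kernel)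
    (C.pT (f7997 C)
    (C.pH [26, 38, 54, 89, 90, 113] [13, 40, 55, 89, 102, 116] (by decide +kernel) (C.pNil _ _))))))
    (C.loop_of_one (relLoop1 C) _ _)

theorem f8003 : C.T (v18 C) [10, 39, 51, 87, 92, 109, 111] (v18 C) [31, 67, 78, 103, 118] :=
  C.flip (f8002 C)

theorem f8004 : C.T (v2 C) [13, 39, 66, 84, 102, 110, 120] (v18 C) [14, 29, 79, 91, 121] :=
  C.conv (f6850 C) (f6867 C) (f6867 C) _ [141, 159, 168, 172, 178] _ (by decide +kernel) (by decide +kernel) (by decide +kernel)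

theorem f8005 : C.S (v2 C) [24, 37, 68, 82, 104, 109] :=
  C.stMul (f243 C) (f149 C) _ (by decide +kernel)

theorem f8006 : C.T (v2 C) [16, 28, 66, 73, 94, 118] (v2 C) [13, 36, 63, 84, 108, 123] :=
  C.conv (f256 C) (f258 C) (f8005 C) _ [137, 161, 173, 178] _ (by decide +kernel) (by decide +kernel) (by decide +kernel)

theorem f8007 : C.T (v2 C) [13, 36, 63, 84, 108, 123] (v2 C) [16, 28, 66, 73, 94, 118] :=
  C.flip (f8006 C)

theorem f8008 : C.S (v2 C) [5, 45, 69, 82, 99, 109, 125] :=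
  C.stMul (f109 C) (f7601 C) _ (by decide +kernel)

theorem f8009 : C.T (v2 C) [6, 30, 65, 73, 95, 122] (v18 C) [17, 27, 58, 85, 91, 109, 118] :=
  C.conv (f6850 C) (f6867 C) (f8008 C) _ [127, 154, 168, 172, 178] _ (by decide +kernel) (by decide +kernel) (by decide +kernel)

theorem f8010 : C.T (v18 C) [17, 27, 58, 85, 91, 109, 118] (v2 C) [6, 30, 65, 73, 95, 122] :=
  C.flip (f8009 C)

theorem f8011 : C.T (v18 C) [5, 38, 59, 85, 94, 124] (v18 C) [19, 44, 53, 80, 100, 109, 112] :=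
  C.closeT (p := (v2 C)) (pu := [13, 39, 66, 84, 102, 110, 120])
    (C.pT (f8004 C)
    (C.pH [8, 30, 65, 84, 94, 117] [5, 38, 59, 85, 94, 124] (by decide +kernel) (C.pNil _ _)))
    (C.pH [26, 38, 54, 89, 90, 113] [17, 27, 58, 85, 91, 109, 118] (by decide +kernel)
    (C.pT (f8010 C)
    (C.pH [8, 30, 65, 84, 94, 117] [13, 36, 63, 84, 108, 123] (by decide +kernel)
    (C.pT (f8007 C)
    (C.pH [26, 38, 54, 89, 90, 113] [13, 39, 66, 84, 102, 110, 120] (by decide +kernel) (C.pNil _ _))))))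
    (C.loop_of_one (relLoop1 C) _ _)

theorem f8014 : C.T (v2 C) [23, 30, 51, 70, 119] (v18 C) [8, 47, 60, 95, 125] :=
  C.conv (f6850 C) (f6867 C) (f6867 C) _ [141, 160, 171, 178] _ (by decide +kernel) (by decide +kernel) (by decide +kernel)

theorem f8015 : C.S (v2 C) [6, 46, 50, 80, 103, 110, 116] :=
  C.stMul (f211 C) (f115 C) _ (by decide +kernel)

theorem f8016 : C.S (v2 C) [12, 30, 53, 80, 108, 110, 120] :=
  C.stMul (f243 C) (f8015 C) _ (by decide +kernel)

theorem f8017 : C.S (v2 C) [21, 36, 61, 89, 100, 109, 114] :=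
  C.stMul (f138 C) (f8016 C) _ (by decide +kernel)

theorem f8018 : C.T (v2 C) [13, 32, 63, 79, 106, 113] (v5 C) [5, 39, 56, 85, 93, 122] :=
  C.conv (f982 C) (f323 C) (f8017 C) _ [127, 163, 167, 173, 178] _ (by decide +kernel) (by decide +kernel) (by decide +kernel)

theorem f8019 : C.T (v5 C) [5, 39, 56, 85, 93, 122] (v2 C) [13, 32, 63, 79, 106, 113] :=
  C.flip (f8018 C)

theorem f8020 : C.S (v5 C) [9, 47, 59, 85, 92, 123] :=
  C.stMul (f1008 C) (f986 C) _ (by decide +kernel)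

theorem f8021 : C.S (v5 C) [7, 42, 67, 73, 102, 109, 111] :=
  C.stMul (f1141 C) (f8020 C) _ (by decide +kernel)

theorem f8022 : C.S (v5 C) [24, 38, 55, 77, 94, 109, 124] :=
  C.stMul (f1023 C) (f8021 C) _ (by decide +kernel)

theorem f8023 : C.T (v5 C) [14, 33, 51, 79, 95, 124] (v18 C) [9, 41, 58, 70, 91, 120] :=
  C.conv (f6939 C) (f7842 C) (f8022 C) _ [140, 156, 169, 176, 177] _ (by decide +kernel) (by decide +kernel) (by decide +kernel)

theorem f8024 : C.T (v18 C) [9, 41, 58, 70, 91, 120] (v5 C) [14, 33, 51, 79, 95, 124] :=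
  C.flip (f8023 C)

theorem f8025 : C.T (v18 C) [45, 51, 76, 90, 110, 121] (v18 C) [15, 37, 50, 81, 92, 109, 125] :=
  C.closeT (p := (v2 C)) (pu := [23, 30, 51, 70, 119])
    (C.pT (f8014 C)
    (C.pH [8, 30, 65, 84, 94, 117] [45, 51, 76, 90, 110, 121] (by decide +kernel) (C.pNil _ _)))
    (C.pH [26, 38, 54, 89, 90, 113] [9, 41, 58, 70, 91, 120] (by decide +kernel)
    (C.pT (f8024 C)
    (C.pH [8, 30, 65, 84, 94, 117] [5, 39, 56, 85, 93, 122] (by decide +kernel)
    (C.pT (f8019 C)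
    (C.pH [26, 38, 54, 89, 90, 113] [23, 30, 51, 70, 119] (by decide +kernel) (C.pNil _ _))))))
    (C.loop_of_one (relLoop1 C) _ _)

theorem f8026 : C.T (v18 C) [15, 37, 50, 81, 92, 109, 125] (v18 C) [45, 51, 76, 90, 110, 121] :=
  C.flip (f8025 C)

theorem f8027 : C.T (v2 C) [23, 40, 53, 80, 97, 109, 122] (v18 C) [6, 28, 70, 92, 122] :=
  C.conv (f6850 C) (f6867 C) (f6867 C) _ [131, 152, 172, 178] _ (by decide +kernel) (by decide +kernel) (by decide +kernel)

theorem f8028 : C.S (v2 C) [24, 37, 50, 85, 99, 110, 113] :=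
  C.stMul (f243 C) (f101 C) _ (by decide +kernel)

theorem f8029 : C.S (v2 C) [20, 54, 86, 100, 115] :=
  C.stMul (f243 C) (f8028 C) _ (by decide +kernel)

theorem f8030 : C.T (v2 C) [13, 48, 53, 76, 93, 109, 121] (v3 C) [22, 42, 55, 75, 103, 110, 116] :=
  C.conv (f347 C) (f356 C) (f8029 C) _ [161, 166, 173] _ (by decide +kernel) (by decide +kernel) (by decide +kernel)

theorem f8031 : C.T (v3 C) [22, 42, 55, 75, 103, 110, 116] (v2 C) [13, 48, 53, 76, 93, 109, 121] :=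
  C.flip (f8030 C)

theorem f8032 : C.S (v3 C) [16, 46, 65, 76, 99, 109, 118] :=
  C.stMul (f353 C) (f7404 C) _ (by decide +kernel)

theorem f8033 : C.T (v3 C) [17, 33, 68, 71, 90, 110, 125] (v18 C) [22, 35, 61, 70, 91, 110] :=
  C.conv (f6916 C) (f7402 C) (f8032 C) _ [143, 158, 168, 173, 178] _ (by decide +kernel) (by decide +kernel) (by decide +kernel)

theorem f8034 : C.T (v18 C) [22, 35, 61, 70, 91, 110] (v3 C) [17, 33, 68, 71, 90, 110, 125] :=
  C.flip (f8033 C)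

theorem f8035 : C.T (v18 C) [13, 42, 59, 84, 96, 110, 111] (v18 C) [9, 27, 65, 82, 96, 114] :=
  C.closeT (p := (v2 C)) (pu := [23, 40, 53, 80, 97, 109, 122])
    (C.pT (f8027 C)
    (C.pH [8, 30, 65, 84, 94, 117] [13, 42, 59, 84, 96, 110, 111] (by decide +kernel) (C.pNil _ _)))
    (C.pH [26, 38, 54, 89, 90, 113] [22, 35, 61, 70, 91, 110] (by decide +kernel)
    (C.pT (f8034 C)
    (C.pH [8, 30, 65, 84, 94, 117] [22, 42, 55, 75, 103, 110, 116] (by decide +kernel)
    (C.pT (f8031 C)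
    (C.pH [26, 38, 54, 89, 90, 113] [23, 40, 53, 80, 97, 109, 122] (by decide +kernel) (C.pNil _ _))))))
    (C.loop_of_one (relLoop1 C) _ _)

theorem f8036 : C.T (v18 C) [9, 27, 65, 82, 96, 114] (v18 C) [13, 42, 59, 84, 96, 110, 111] :=
  C.flip (f8035 C)

theorem f8037 : C.T (v2 C) [15, 33, 57, 87, 105, 110, 120] (v1 C) [14, 41, 62, 84, 90, 109, 117] :=
  C.conv (f231 C) (f243 C) (f243 C) _ [134, 170, 176, 177] _ (by decide +kernel) (by decide +kernel) (by decide +kernel)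

theorem f8038 : C.S (v1 C) [5, 35, 53, 75, 92, 121] :=
  C.stMul (f3 C) (f27 C) _ (by decide +kernel)

theorem f8039 : C.S (v1 C) [26, 46, 64, 84, 103, 110, 124] :=
  C.stMul (f12 C) (f8038 C) _ (by decide +kernel)

theorem f8040 : C.S (v1 C) [39, 69, 70, 99, 117] :=
  C.stMul (f27 C) (f8039 C) _ (by decide +kernel)

theorem f8041 : C.S (v1 C) [10, 39, 69, 70, 99, 117] :=
  C.stMul (f3 C) (f8040 C) _ (by decide +kernel)

theorem f8042 : C.S (v1 C) [4, 48, 57, 74, 97, 110, 112] :=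
  C.stMul (f27 C) (f8041 C) _ (by decide +kernel)

theorem f8043 : C.S (v1 C) [22, 48, 57, 74, 97, 110, 112] :=
  C.stMul (f3 C) (f8042 C) _ (by decide +kernel)

theorem f8044 : C.S (v1 C) [12, 45, 52, 81, 102, 109, 111] :=
  C.stMul (f12 C) (f8043 C) _ (by decide +kernel)

theorem f8045 : C.S (v1 C) [26, 32, 53, 75, 100, 109, 120] :=
  C.stMul (f27 C) (f8044 C) _ (by decide +kernel)

theorem f8046 : C.S (v1 C) [17, 32, 53, 75, 100, 109, 120] :=
  C.stMul (f3 C) (f8045 C) _ (by decide +kernel)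

theorem f8047 : C.S (v1 C) [15, 36, 53, 78, 91, 123] :=
  C.stMul (f12 C) (f8046 C) _ (by decide +kernel)

theorem f8048 : C.T (v1 C) [5, 40, 82, 94, 110, 118] (v4 C) [26, 29, 60, 90, 109, 112] :=
  C.conv (f399 C) (f152 C) (f8047 C) _ [148, 154, 166, 176, 178] _ (by decide +kernel) (by decide +kernel) (by decide +kernel)

theorem f8049 : C.S (v2 C) [24, 37, 68, 82, 104, 109] :=
  C.stMul (f243 C) (f149 C) _ (by decide +kernel)

theorem f8050 : C.S (v2 C) [7, 34, 53, 70, 90, 122] :=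
  C.stMul (f138 C) (f8049 C) _ (by decide +kernel)

theorem f8051 : C.T (v2 C) [10, 32, 80, 98, 109, 119] (v18 C) [27, 55, 71, 109, 120] :=
  C.conv (f6850 C) (f6867 C) (f8050 C) _ [133, 161, 175, 177] _ (by decide +kernel) (by decide +kernel) (by decide +kernel)

theorem f8052 : C.T (v18 C) [27, 55, 71, 109, 120] (v2 C) [10, 32, 80, 98, 109, 119] :=
  C.flip (f8051 C)

theorem f8053 : C.T (v4 C) [14, 35, 59, 88, 106, 110, 124] (v18 C) [7, 43, 51, 79, 108, 110, 119] :=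
  C.closeT (p := (v2 C)) (pu := [15, 33, 57, 87, 105, 110, 120])
    (C.pT (f8037 C)
    (C.pH [26, 38, 54, 89, 90, 113] [5, 40, 82, 94, 110, 118] (by decide +kernel)
    (C.pT (f8048 C)
    (C.pH [8, 30, 65, 84, 94, 117] [14, 35, 59, 88, 106, 110, 124] (by decide +kernel) (C.pNil _ _)))))
    (C.pH [26, 38, 54, 89, 90, 113] [27, 55, 71, 109, 120] (by decide +kernel)
    (C.pT (f8052 C)
    (C.pH [8, 30, 65, 84, 94, 117] [15, 33, 57, 87, 105, 110, 120] (by decide +kernel) (C.pNil _ _))))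
    (C.loop_of_one (relLoop2 C) _ _)

theorem f8054 : C.T (v18 C) [7, 43, 51, 79, 108, 110, 119] (v4 C) [14, 35, 59, 88, 106, 110, 124] :=
  C.flip (f8053 C)

theorem f8055 : C.T (v2 C) [6, 47, 59, 79, 93, 119] (v2 C) [6, 34, 61, 71, 105, 110, 120] :=
  C.conv (f256 C) (f258 C) (f258 C) _ [145, 150, 169] _ (by decide +kernel) (by decide +kernel) (by decide +kernel)

theorem f8056 : C.S (v2 C) [23, 47, 60, 84, 98, 111] :=
  C.stMul (f109 C) (f101 C) _ (by decide +kernel)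

theorem f8057 : C.S (v2 C) [21, 27, 50, 99, 109, 115] :=
  C.stMul (f243 C) (f8056 C) _ (by decide +kernel)

theorem f8058 : C.T (v2 C) [4, 46, 65, 79, 97, 110, 124] (v18 C) [18, 41, 69, 85, 102, 110, 111] :=
  C.conv (f6850 C) (f6867 C) (f8057 C) _ [129, 152, 164, 172] _ (by decide +kernel) (by decide +kernel) (by decide +kernel)

theorem f8059 : C.S (v2 C) [24, 37, 68, 82, 104, 109] :=
  C.stMul (f243 C) (f149 C) _ (by decide +kernel)

theorem f8060 : C.S (v2 C) [16, 36, 59, 71, 108, 120] :=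
  C.stMul (f211 C) (f8059 C) _ (by decide +kernel)

theorem f8061 : C.S (v2 C) [19, 34, 63, 71, 93, 109, 122] :=
  C.stMul (f243 C) (f8060 C) _ (by decide +kernel)

theorem f8062 : C.T (v2 C) [22, 32, 59, 89, 107, 109] (v17 C) [19, 29, 58, 79, 107, 109, 111] :=
  C.conv (f6632 C) (f6971 C) (f8061 C) _ [140, 155, 164, 178] _ (by decide +kernel) (by decide +kernel) (by decide +kernel)

theorem f8063 : C.T (v17 C) [19, 29, 58, 79, 107, 109, 111] (v2 C) [22, 32, 59, 89, 107, 109] :=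
  C.flip (f8062 C)

theorem f8064 : C.T (v18 C) [4, 34, 63, 82, 96, 117] (v17 C) [22, 32, 61, 77, 92, 110, 123] :=
  C.closeT (p := (v2 C)) (pu := [6, 47, 59, 79, 93, 119])
    (C.pT (f8055 C)
    (C.pH [26, 38, 54, 89, 90, 113] [4, 46, 65, 79, 97, 110, 124] (by decide +kernel)
    (C.pT (f8058 C)
    (C.pH [8, 30, 65, 84, 94, 117] [4, 34, 63, 82, 96, 117] (by decide +kernel) (C.pNil _ _)))))
    (C.pH [26, 38, 54, 89, 90, 113] [19, 29, 58, 79, 107, 109, 111] (by decide +kernel)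
    (C.pT (f8063 C)
    (C.pH [8, 30, 65, 84, 94, 117] [6, 47, 59, 79, 93, 119] (by decide +kernel) (C.pNil _ _))))
    (C.loop_of_one (relLoop2 C) _ _)

theorem f8065 : C.T (v17 C) [22, 32, 61, 77, 92, 110, 123] (v18 C) [4, 34, 63, 82, 96, 117] :=
  C.flip (f8064 C)

theorem f8066 : C.T (v2 C) [31, 69, 75, 104, 125] (v2 C) [35, 62, 71, 105, 109, 124] :=
  C.conv (f256 C) (f258 C) (f258 C) _ [148, 151, 169, 173] _ (by decide +kernel) (by decide +kernel) (by decide +kernel)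

theorem f8067 : C.S (v2 C) [23, 43, 52, 86, 92, 110, 114] :=
  C.stMul (f138 C) (f101 C) _ (by decide +kernel)

theorem f8068 : C.S (v2 C) [21, 36, 63, 77, 106, 116] :=
  C.stMul (f243 C) (f8067 C) _ (by decide +kernel)

theorem f8069 : C.S (v2 C) [8, 46, 58, 78, 103, 115] :=
  C.stMul (f211 C) (f8068 C) _ (by decide +kernel)

theorem f8070 : C.S (v2 C) [8, 42, 55, 93, 109, 122] :=
  C.stMul (f149 C) (f8069 C) _ (by decide +kernel)

theorem f8071 : C.T (v2 C) [26, 47, 61, 77, 97, 110, 121] (v17 C) [14, 34, 57, 88, 90, 110, 122] :=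
  C.conv (f6632 C) (f6971 C) (f8070 C) _ [128, 158, 169, 175, 178] _ (by decide +kernel) (by decide +kernel) (by decide +kernel)

theorem f8072 : C.S (v2 C) [23, 43, 51, 83, 107, 109] :=
  C.stMul (f211 C) (f7184 C) _ (by decide +kernel)

theorem f8073 : C.T (v2 C) [8, 30, 49, 80, 97, 109, 115] (v18 C) [10, 54, 75, 104, 116] :=
  C.conv (f6850 C) (f6867 C) (f8072 C) _ [135, 156, 168, 175] _ (by decide +kernel) (by decide +kernel) (by decide +kernel)

theorem f8074 : C.T (v18 C) [10, 54, 75, 104, 116] (v2 C) [8, 30, 49, 80, 97, 109, 115] :=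
  C.flip (f8073 C)

theorem f8075 : C.T (v17 C) [5, 46, 64, 77, 96, 109, 122] (v18 C) [18, 44, 60, 80, 91, 110, 122] :=
  C.closeT (p := (v2 C)) (pu := [31, 69, 75, 104, 125])
    (C.pT (f8066 C)
    (C.pH [26, 38, 54, 89, 90, 113] [26, 47, 61, 77, 97, 110, 121] (by decide +kernel)
    (C.pT (f8071 C)
    (C.pH [8, 30, 65, 84, 94, 117] [5, 46, 64, 77, 96, 109, 122] (by decide +kernel) (C.pNil _ _)))))
    (C.pH [26, 38, 54, 89, 90, 113] [10, 54, 75, 104, 116] (by decide +kernel)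
    (C.pT (f8074 C)
    (C.pH [8, 30, 65, 84, 94, 117] [31, 69, 75, 104, 125] (by decide +kernel) (C.pNil _ _))))
    (C.loop_of_one (relLoop2 C) _ _)

theorem f8076 : C.T (v18 C) [18, 44, 60, 80, 91, 110, 122] (v17 C) [5, 46, 64, 77, 96, 109, 122] :=
  C.flip (f8075 C)

theorem f8077 : C.T (v2 C) [14, 64, 86, 107, 124] (v2 C) [26, 30, 55, 77, 92, 110] :=
  C.conv (f269 C) (f271 C) (f271 C) _ [140, 163, 169, 176] _ (by decide +kernel) (by decide +kernel) (by decide +kernel)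

theorem f8078 : C.T (v2 C) [16, 32, 61, 80, 97, 110, 122] (v18 C) [17, 27, 67, 73, 90, 110, 125] :=
  C.conv (f6850 C) (f6867 C) (f6907 C) _ [138, 163, 170, 172, 178] _ (by decide +kernel) (by decide +kernel) (by decide +kernel)

theorem f8079 : C.S (v2 C) [21, 27, 51, 80, 107, 124] :=
  C.stMul (f243 C) (f7084 C) _ (by decide +kernel)

theorem f8080 : C.S (v2 C) [8, 42, 59, 84, 99, 109, 119] :=
  C.stMul (f211 C) (f8079 C) _ (by decide +kernel)

theorem f8081 : C.T (v2 C) [26, 46, 65, 72, 102, 110, 122] (v18 C) [14, 47, 65, 78, 93, 125] :=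
  C.conv (f6850 C) (f6867 C) (f8080 C) _ [148, 167, 173, 177] _ (by decide +kernel) (by decide +kernel) (by decide +kernel)

theorem f8082 : C.T (v18 C) [14, 47, 65, 78, 93, 125] (v2 C) [26, 46, 65, 72, 102, 110, 122] :=
  C.flip (f8081 C)

theorem f8083 : C.T (v18 C) [22, 28, 55, 77, 103, 124] (v18 C) [12, 69, 72, 103, 109, 111] :=
  C.closeT (p := (v2 C)) (pu := [14, 64, 86, 107, 124])
    (C.pT (f8077 C)
    (C.pH [26, 38, 54, 89, 90, 113] [16, 32, 61, 80, 97, 110, 122] (by decide +kernel)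
    (C.pT (f8078 C)
    (C.pH [8, 30, 65, 84, 94, 117] [22, 28, 55, 77, 103, 124] (by decide +kernel) (C.pNil _ _)))))
    (C.pH [26, 38, 54, 89, 90, 113] [14, 47, 65, 78, 93, 125] (by decide +kernel)
    (C.pT (f8082 C)
    (C.pH [8, 30, 65, 84, 94, 117] [14, 64, 86, 107, 124] (by decide +kernel) (C.pNil _ _))))
    (C.loop_of_one (relLoop2 C) _ _)

theorem f8086 : C.T (v2 C) [4, 32, 58, 81, 93, 110, 125] (v2 C) [21, 46, 60, 87, 106, 110, 112] :=
  C.conv (f285 C) (f211 C) (f211 C) _ [137, 154, 165, 174, 177] _ (by decide +kernel) (by decide +kernel) (by decide +kernel)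

theorem f8087 : C.T (v2 C) [6, 37, 58, 78, 104, 125] (v18 C) [16, 61, 78, 109, 119] :=
  C.conv (f6850 C) (f6867 C) (f7785 C) _ [136, 156, 167, 174] _ (by decide +kernel) (by decide +kernel) (by decide +kernel)

theorem f8088 : C.S (v2 C) [18, 44, 59, 82, 92, 122] :=
  C.stMul (f149 C) (f138 C) _ (by decide +kernel)

theorem f8089 : C.S (v2 C) [56, 99] :=
  C.stMul (f211 C) (f8088 C) _ (by decide +kernel)

theorem f8090 : C.S (v2 C) [11, 46, 60, 83, 101, 110, 114] :=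
  C.stMul (f243 C) (f8089 C) _ (by decide +kernel)

theorem f8091 : C.T (v2 C) [18, 42, 58, 72, 98, 109, 115] (v18 C) [16, 35, 52, 84, 93, 110, 119] :=
  C.conv (f6850 C) (f6867 C) (f8090 C) _ [136, 161, 169, 175, 178] _ (by decide +kernel) (by decide +kernel) (by decide +kernel)

theorem f8092 : C.T (v18 C) [16, 35, 52, 84, 93, 110, 119] (v2 C) [18, 42, 58, 72, 98, 109, 115] :=
  C.flip (f8091 C)

theorem f8093 : C.T (v18 C) [20, 48, 49, 72, 106, 110, 117] (v18 C) [26, 31, 50, 84, 91, 109, 112] :=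
  C.closeT (p := (v2 C)) (pu := [4, 32, 58, 81, 93, 110, 125])
    (C.pT (f8086 C)
    (C.pH [26, 38, 54, 89, 90, 113] [6, 37, 58, 78, 104, 125] (by decide +kernel)
    (C.pT (f8087 C)
    (C.pH [8, 30, 65, 84, 94, 117] [20, 48, 49, 72, 106, 110, 117] (by decide +kernel) (C.pNil _ _)))))
    (C.pH [26, 38, 54, 89, 90, 113] [16, 35, 52, 84, 93, 110, 119] (by decide +kernel)
    (C.pT (f8092 C)
    (C.pH [8, 30, 65, 84, 94, 117] [4, 32, 58, 81, 93, 110, 125] (by decide +kernel) (C.pNil _ _))))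
    (C.loop_of_one (relLoop2 C) _ _)

theorem f8096 : C.T (v2 C) [14, 48, 59, 82, 97, 110, 114] (v2 C) [19, 46, 79, 97, 109, 116] :=
  C.conv (f285 C) (f211 C) (f211 C) _ [131, 161, 170, 174] _ (by decide +kernel) (by decide +kernel) (by decide +kernel)

theorem f8097 : C.S (v2 C) [9, 44, 68, 81, 119] :=
  C.stMul (f211 C) (f7267 C) _ (by decide +kernel)

theorem f8098 : C.S (v2 C) [24, 36, 69, 86, 97, 111] :=
  C.stMul (f243 C) (f8097 C) _ (by decide +kernel)

theorem f8099 : C.S (v2 C) [22, 45, 60, 83, 92, 109, 121] :=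
  C.stMul (f149 C) (f8098 C) _ (by decide +kernel)

theorem f8100 : C.T (v2 C) [17, 28, 53, 73, 95, 109, 119] (v17 C) [9, 31, 52, 88, 109, 125] :=
  C.conv (f6632 C) (f6971 C) (f8099 C) _ [145, 149, 172, 178] _ (by decide +kernel) (by decide +kernel) (by decide +kernel)

theorem f8101 : C.S (v2 C) [6, 46, 65, 87, 103, 109, 122] :=
  C.stMul (f138 C) (f6869 C) _ (by decide +kernel)

theorem f8102 : C.T (v2 C) [26, 47, 57, 70, 107, 122] (v18 C) [9, 37, 69, 79, 104, 110, 112] :=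
  C.conv (f6850 C) (f6867 C) (f8101 C) _ [135, 161, 168, 177] _ (by decide +kernel) (by decide +kernel) (by decide +kernel)

theorem f8103 : C.T (v18 C) [9, 37, 69, 79, 104, 110, 112] (v2 C) [26, 47, 57, 70, 107, 122] :=
  C.flip (f8102 C)

theorem f8104 : C.T (v17 C) [18, 43, 68, 73, 102, 110, 116] (v18 C) [15, 29, 51, 73, 96, 114] :=
  C.closeT (p := (v2 C)) (pu := [14, 48, 59, 82, 97, 110, 114])
    (C.pT (f8096 C)
    (C.pH [26, 38, 54, 89, 90, 113] [17, 28, 53, 73, 95, 109, 119] (by decide +kernel)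
    (C.pT (f8100 C)
    (C.pH [8, 30, 65, 84, 94, 117] [18, 43, 68, 73, 102, 110, 116] (by decide +kernel) (C.pNil _ _)))))
    (C.pH [26, 38, 54, 89, 90, 113] [9, 37, 69, 79, 104, 110, 112] (by decide +kernel)
    (C.pT (f8103 C)
    (C.pH [8, 30, 65, 84, 94, 117] [14, 48, 59, 82, 97, 110, 114] (by decide +kernel) (C.pNil _ _))))
    (C.loop_of_one (relLoop2 C) _ _)

theorem f8105 : C.T (v18 C) [15, 29, 51, 73, 96, 114] (v17 C) [18, 43, 68, 73, 102, 110, 116] :=
  C.flip (f8104 C)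

theorem f8106 : C.T (v2 C) [18, 41, 49, 73, 93, 109, 112] (v2 C) [13, 35, 55, 87, 90, 110, 118] :=
  C.conv (f307 C) (f311 C) (f311 C) _ [142, 157, 168, 174, 177] _ (by decide +kernel) (by decide +kernel) (by decide +kernel)

theorem f8107 : C.S (v2 C) [24, 37, 55, 87, 90, 110, 116] :=
  C.stMul (f138 C) (f7004 C) _ (by decide +kernel)

theorem f8108 : C.T (v2 C) [23, 37, 57, 89, 99, 110, 122] (v18 C) [9, 33, 61, 74, 101, 122] :=
  C.conv (f6850 C) (f6867 C) (f8107 C) _ [146, 150, 166, 171, 178] _ (by decide +kernel) (by decide +kernel) (by decide +kernel)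

theorem f8109 : C.S (v2 C) [6, 61, 87, 109, 116] :=
  C.stMul (f115 C) (f7046 C) _ (by decide +kernel)

theorem f8110 : C.S (v2 C) [12, 31, 65, 71, 98, 109, 123] :=
  C.stMul (f243 C) (f8109 C) _ (by decide +kernel)

theorem f8111 : C.T (v2 C) [9, 35, 61, 82, 92, 113] (v18 C) [10, 38, 53, 80, 96, 109, 115] :=
  C.conv (f6850 C) (f6867 C) (f8110 C) _ [131, 159, 172] _ (by decide +kernel) (by decide +kernel) (by decide +kernel)

theorem f8112 : C.T (v18 C) [10, 38, 53, 80, 96, 109, 115] (v2 C) [9, 35, 61, 82, 92, 113] :=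
  C.flip (f8111 C)

theorem f8113 : C.T (v18 C) [18, 39, 66, 70, 107, 116] (v18 C) [18, 32, 68, 86, 99, 110, 115] :=
  C.closeT (p := (v2 C)) (pu := [18, 41, 49, 73, 93, 109, 112])
    (C.pT (f8106 C)
    (C.pH [26, 38, 54, 89, 90, 113] [23, 37, 57, 89, 99, 110, 122] (by decide +kernel)
    (C.pT (f8108 C)
    (C.pH [8, 30, 65, 84, 94, 117] [18, 39, 66, 70, 107, 116] (by decide +kernel) (C.pNil _ _)))))
    (C.pH [26, 38, 54, 89, 90, 113] [10, 38, 53, 80, 96, 109, 115] (by decide +kernel)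
    (C.pT (f8112 C)
    (C.pH [8, 30, 65, 84, 94, 117] [18, 41, 49, 73, 93, 109, 112] (by decide +kernel) (C.pNil _ _))))
    (C.loop_of_one (relLoop2 C) _ _)

theorem f8115 : C.S (v18 C) [26, 43, 49, 77, 91, 110, 115] :=
  C.stMul (f6836 C) (f6836 C) _ (by decide +kernel)

theorem f8117 : C.T (v2 C) [25, 28, 67, 71, 117] (v2 C) [22, 42, 60, 77, 97, 110, 120] :=
  C.conv (f307 C) (f311 C) (f311 C) _ [131, 158, 167, 178] _ (by decide +kernel) (by decide +kernel) (by decide +kernel)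

theorem f8118 : C.S (v2 C) [6, 46, 50, 80, 103, 110, 116] :=
  C.stMul (f211 C) (f115 C) _ (by decide +kernel)

theorem f8119 : C.S (v2 C) [18, 44, 69, 89, 103, 117] :=
  C.stMul (f149 C) (f8118 C) _ (by decide +kernel)

theorem f8120 : C.T (v2 C) [19, 39, 67, 82, 105, 119] (v3 C) [23, 42, 54, 81, 94, 110, 122] :=
  C.conv (f817 C) (f837 C) (f8119 C) _ [136, 152, 164, 175, 177] _ (by decide +kernel) (by decide +kernel) (by decide +kernel)

theorem f8121 : C.S (v3 C) [15, 34, 56, 71, 106, 109, 117] :=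
  C.stMul (f331 C) (f353 C) _ (by decide +kernel)

theorem f8122 : C.T (v3 C) [10, 44, 60, 89, 96, 110, 111] (v18 C) [8, 28, 57, 86, 95, 110, 125] :=
  C.conv (f6888 C) (f7333 C) (f8121 C) _ [136, 155, 178] _ (by decide +kernel) (by decide +kernel) (by decide +kernel)

theorem f8123 : C.T (v18 C) [11, 43, 51, 88, 107, 110, 121] (v2 C) [4, 31, 66, 81, 95, 110, 115] :=
  C.closeT (p := (v2 C)) (pu := [25, 28, 67, 71, 117])
    (C.pT (f8117 C)
    (C.pH [26, 38, 54, 89, 90, 113] [19, 39, 67, 82, 105, 119] (by decide +kernel)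
    (C.pT (f8120 C)
    (C.pH [8, 30, 65, 84, 94, 117] [10, 44, 60, 89, 96, 110, 111] (by decide +kernel)
    (C.pT (f8122 C)
    (C.pH [26, 38, 54, 89, 90, 113] [11, 43, 51, 88, 107, 110, 121] (by decide +kernel) (C.pNil _ _)))))))
    (C.pH [8, 30, 65, 84, 94, 117] [25, 28, 67, 71, 117] (by decide +kernel) (C.pNil _ _))
    (C.loop_of_one (relLoop2 C) _ _)

theorem f8124 : C.T (v2 C) [4, 31, 66, 81, 95, 110, 115] (v18 C) [11, 43, 51, 88, 107, 110, 121] :=
  C.flip (f8123 C)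

theorem f8125 : C.T (v2 C) [13, 34, 64, 76, 97, 123] (v3 C) [21, 37, 61, 88, 107, 117] :=
  C.conv (f325 C) (f323 C) (f323 C) _ [143, 154, 166, 174, 177] _ (by decide +kernel) (by decide +kernel) (by decide +kernel)

theorem f8126 : C.S (v3 C) [21, 45, 66, 81, 102, 110] :=
  C.stMul (f335 C) (f7807 C) _ (by decide +kernel)

theorem f8127 : C.T (v3 C) [6, 31, 58, 78, 95, 110, 124] (v18 C) [13, 33, 56, 85, 96, 109, 113] :=
  C.conv (f7327 C) (f7806 C) (f8126 C) _ [139, 153, 164, 174] _ (by decide +kernel) (by decide +kernel) (by decide +kernel)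

theorem f8128 : C.S (v2 C) [16, 36, 56, 86, 107, 116] :=
  C.stMul (f211 C) (f6934 C) _ (by decide +kernel)

theorem f8129 : C.T (v2 C) [6, 35, 52, 82, 106, 110, 121] (v18 C) [5, 27, 55, 101, 112] :=
  C.conv (f6850 C) (f6867 C) (f8128 C) _ [136, 162, 166, 175, 177] _ (by decide +kernel) (by decide +kernel) (by decide +kernel)

theorem f8130 : C.T (v18 C) [5, 27, 55, 101, 112] (v2 C) [6, 35, 52, 82, 106, 110, 121] :=
  C.flip (f8129 C)

theorem f8131 : C.T (v18 C) [11, 32, 63, 79, 95, 109, 121] (v18 C) [14, 37, 54, 87, 90, 110, 113] :=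
  C.closeT (p := (v2 C)) (pu := [13, 34, 64, 76, 97, 123])
    (C.pT (f8125 C)
    (C.pH [26, 38, 54, 89, 90, 113] [6, 31, 58, 78, 95, 110, 124] (by decide +kernel)
    (C.pT (f8127 C)
    (C.pH [8, 30, 65, 84, 94, 117] [11, 32, 63, 79, 95, 109, 121] (by decide +kernel) (C.pNil _ _)))))
    (C.pH [26, 38, 54, 89, 90, 113] [5, 27, 55, 101, 112] (by decide +kernel)
    (C.pT (f8130 C)
    (C.pH [8, 30, 65, 84, 94, 117] [13, 34, 64, 76, 97, 123] (by decide +kernel) (C.pNil _ _))))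
    (C.loop_of_one (relLoop2 C) _ _)

theorem f8132 : C.T (v18 C) [14, 37, 54, 87, 90, 110, 113] (v18 C) [11, 32, 63, 79, 95, 109, 121] :=
  C.flip (f8131 C)

theorem f8133 : C.T (v2 C) [12, 44, 60, 76, 100, 112] (v3 C) [41, 54, 78, 108, 109, 115] :=
  C.conv (f325 C) (f323 C) (f323 C) _ [159, 169, 175, 178] _ (by decide +kernel) (by decide +kernel) (by decide +kernel)

theorem f8134 : C.S (v3 C) [4, 35, 66, 84, 105, 109, 115] :=
  C.stMul (f335 C) (f331 C) _ (by decide +kernel)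

theorem f8135 : C.S (v3 C) [6, 43, 52, 78, 106, 118] :=
  C.stMul (f328 C) (f8134 C) _ (by decide +kernel)

theorem f8136 : C.S (v3 C) [26, 32, 53, 86, 108, 110, 118] :=
  C.stMul (f331 C) (f8135 C) _ (by decide +kernel)

theorem f8137 : C.S (v3 C) [4, 31, 55, 75, 100, 109, 112] :=
  C.stMul (f353 C) (f8136 C) _ (by decide +kernel)

theorem f8138 : C.T (v3 C) [26, 39, 62, 78, 104, 109, 112] (v18 C) [26, 34, 59, 84, 109, 124] :=
  C.conv (f7327 C) (f7806 C) (f8137 C) _ [134, 161, 169, 173, 178] _ (by decide +kernel) (by decide +kernel) (by decide +kernel)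

theorem f8139 : C.S (v2 C) [23, 47, 69, 72, 114] :=
  C.stMul (f109 C) (f149 C) _ (by decide +kernel)

theorem f8140 : C.S (v2 C) [20, 62, 84, 93, 110, 116] :=
  C.stMul (f211 C) (f8139 C) _ (by decide +kernel)

theorem f8141 : C.S (v2 C) [7, 42, 63, 71, 105, 110, 125] :=
  C.stMul (f243 C) (f8140 C) _ (by decide +kernel)

theorem f8142 : C.S (v2 C) [17, 45, 64, 83, 95, 120] :=
  C.stMul (f211 C) (f8141 C) _ (by decide +kernel)

theorem f8143 : C.T (v2 C) [5, 33, 61, 76, 90, 113] (v18 C) [22, 35, 65, 86, 107, 109, 121] :=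
  C.conv (f6850 C) (f6867 C) (f8142 C) _ [133, 150, 172, 177] _ (by decide +kernel) (by decide +kernel) (by decide +kernel)

theorem f8144 : C.T (v18 C) [22, 35, 65, 86, 107, 109, 121] (v2 C) [5, 33, 61, 76, 90, 113] :=
  C.flip (f8143 C)

theorem f8145 : C.T (v18 C) [14, 45, 64, 79, 94, 109, 123] (v18 C) [9, 27, 55, 89, 91, 110, 119] :=
  C.closeT (p := (v2 C)) (pu := [12, 44, 60, 76, 100, 112])
    (C.pT (f8133 C)
    (C.pH [26, 38, 54, 89, 90, 113] [26, 39, 62, 78, 104, 109, 112] (by decide +kernel)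
    (C.pT (f8138 C)
    (C.pH [8, 30, 65, 84, 94, 117] [14, 45, 64, 79, 94, 109, 123] (by decide +kernel) (C.pNil _ _)))))
    (C.pH [26, 38, 54, 89, 90, 113] [22, 35, 65, 86, 107, 109, 121] (by decide +kernel)
    (C.pT (f8144 C)
    (C.pH [8, 30, 65, 84, 94, 117] [12, 44, 60, 76, 100, 112] (by decide +kernel) (C.pNil _ _))))
    (C.loop_of_one (relLoop2 C) _ _)

theorem f8146 : C.T (v18 C) [9, 27, 55, 89, 91, 110, 119] (v18 C) [14, 45, 64, 79, 94, 109, 123] :=
  C.flip (f8145 C)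

theorem f8147 : C.T (v2 C) [5, 36, 66, 108, 109, 113] (v3 C) [12, 36, 57, 76, 104, 109, 122] :=
  C.conv (f347 C) (f356 C) (f356 C) _ [144, 163, 170, 175, 177] _ (by decide +kernel) (by decide +kernel) (by decide +kernel)

theorem f8148 : C.S (v3 C) [9, 29, 68, 75, 108, 110, 124] :=
  C.stMul (f335 C) (f328 C) _ (by decide +kernel)

theorem f8149 : C.T (v3 C) [14, 41, 64, 87, 107, 124] (v18 C) [24, 40, 55, 75, 101, 123] :=
  C.conv (f7327 C) (f7806 C) (f8148 C) _ [144, 162, 164, 173, 178] _ (by decide +kernel) (by decide +kernel) (by decide +kernel)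

theorem f8150 : C.S (v2 C) [24, 37, 50, 85, 99, 110, 113] :=
  C.stMul (f243 C) (f101 C) _ (by decide +kernel)

theorem f8151 : C.S (v2 C) [16, 36, 63, 73, 99, 123] :=
  C.stMul (f211 C) (f8150 C) _ (by decide +kernel)

theorem f8152 : C.T (v2 C) [14, 40, 57, 73, 92, 110, 123] (v15 C) [11, 44, 49, 72, 106, 110, 116] :=
  C.conv (f2638 C) (f3254 C) (f8151 C) _ [141, 150, 174] _ (by decide +kernel) (by decide +kernel) (by decide +kernel)

theorem f8153 : C.T (v15 C) [11, 44, 49, 72, 106, 110, 116] (v2 C) [14, 40, 57, 73, 92, 110, 123] :=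
  C.flip (f8152 C)

theorem f8154 : C.T (v18 C) [16, 42, 66, 87, 100, 110, 113] (v15 C) [8, 48, 59, 83, 98, 109, 124] :=
  C.closeT (p := (v2 C)) (pu := [5, 36, 66, 108, 109, 113])
    (C.pT (f8147 C)
    (C.pH [26, 38, 54, 89, 90, 113] [14, 41, 64, 87, 107, 124] (by decide +kernel)
    (C.pT (f8149 C)
    (C.pH [8, 30, 65, 84, 94, 117] [16, 42, 66, 87, 100, 110, 113] (by decide +kernel) (C.pNil _ _)))))
    (C.pH [26, 38, 54, 89, 90, 113] [11, 44, 49, 72, 106, 110, 116] (by decide +kernel)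
    (C.pT (f8153 C)
    (C.pH [8, 30, 65, 84, 94, 117] [5, 36, 66, 108, 109, 113] (by decide +kernel) (C.pNil _ _))))
    (C.loop_of_one (relLoop2 C) _ _)

theorem f8155 : C.T (v15 C) [8, 48, 59, 83, 98, 109, 124] (v18 C) [16, 42, 66, 87, 100, 110, 113] :=
  C.flip (f8154 C)

theorem f8156 : C.T (v2 C) [20, 48, 56, 81, 103, 109, 117] (v3 C) [4, 27, 54, 85, 99, 109, 114] :=
  C.conv (f347 C) (f356 C) (f356 C) _ [135, 156, 170, 174, 177] _ (by decide +kernel) (by decide +kernel) (by decide +kernel)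

theorem f8157 : C.S (v2 C) [23, 43, 52, 86, 92, 110, 114] :=
  C.stMul (f138 C) (f101 C) _ (by decide +kernel)

theorem f8158 : C.S (v2 C) [21, 36, 63, 77, 106, 116] :=
  C.stMul (f243 C) (f8157 C) _ (by decide +kernel)

theorem f8159 : C.S (v2 C) [8, 46, 58, 78, 103, 115] :=
  C.stMul (f211 C) (f8158 C) _ (by decide +kernel)

theorem f8160 : C.T (v2 C) [16, 51, 83, 106] (v5 C) [22, 40, 49, 88, 107, 125] :=
  C.conv (f982 C) (f323 C) (f8159 C) _ [144, 154, 168] _ (by decide +kernel) (by decide +kernel) (by decide +kernel)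

theorem f8161 : C.T (v5 C) [22, 40, 49, 88, 107, 125] (v2 C) [16, 51, 83, 106] :=
  C.flip (f8160 C)

theorem f8162 : C.S (v5 C) [13, 31, 66, 73, 100, 119] :=
  C.stMul (f986 C) (f1023 C) _ (by decide +kernel)

theorem f8163 : C.T (v5 C) [9, 46, 58, 84, 96, 110, 121] (v18 C) [18, 64, 82, 107, 110, 114] :=
  C.conv (f6939 C) (f7842 C) (f8162 C) _ [139, 162, 166, 176] _ (by decide +kernel) (by decide +kernel) (by decide +kernel)

theorem f8164 : C.T (v18 C) [18, 64, 82, 107, 110, 114] (v5 C) [9, 46, 58, 84, 96, 110, 121] :=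
  C.flip (f8163 C)

theorem f8165 : C.T (v3 C) [25, 56, 81, 99, 109, 119] (v18 C) [9, 43, 69, 79, 94, 119] :=
  C.closeT (p := (v2 C)) (pu := [20, 48, 56, 81, 103, 109, 117])
    (C.pT (f8156 C)
    (C.pH [26, 38, 54, 89, 90, 113] [25, 56, 81, 99, 109, 119] (by decide +kernel) (C.pNil _ _)))
    (C.pH [8, 30, 65, 84, 94, 117] [18, 64, 82, 107, 110, 114] (by decide +kernel)
    (C.pT (f8164 C)
    (C.pH [26, 38, 54, 89, 90, 113] [22, 40, 49, 88, 107, 125] (by decide +kernel)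
    (C.pT (f8161 C)
    (C.pH [8, 30, 65, 84, 94, 117] [20, 48, 56, 81, 103, 109, 117] (by decide +kernel) (C.pNil _ _))))))
    (C.loop_of_one (relLoop2 C) _ _)

theorem f8166 : C.T (v18 C) [9, 43, 69, 79, 94, 119] (v3 C) [25, 56, 81, 99, 109, 119] :=
  C.flip (f8165 C)

theorem f8167 : C.T (v2 C) [26, 32, 54, 73, 102, 122] (v3 C) [6, 47, 49, 76, 107, 118] :=
  C.conv (f347 C) (f356 C) (f356 C) _ [135, 161, 170, 173] _ (by decide +kernel) (by decide +kernel) (by decide +kernel)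

theorem f8168 : C.S (v3 C) [7, 29, 51, 83, 103, 109, 117] :=
  C.stMul (f335 C) (f335 C) _ (by decide +kernel)

theorem f8169 : C.T (v3 C) [4, 42, 51, 73, 104, 109, 123] (v17 C) [15, 40, 65, 78, 93, 109, 111] :=
  C.conv (f6814 C) (f7361 C) (f8168 C) _ [130, 158, 169, 177] _ (by decide +kernel) (by decide +kernel) (by decide +kernel)

theorem f8170 : C.S (v2 C) [16, 36, 61, 71, 106, 109, 116] :=
  C.stMul (f243 C) (f7258 C) _ (by decide +kernel)

theorem f8171 : C.S (v2 C) [14, 34, 69, 84, 100, 112] :=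
  C.stMul (f138 C) (f8170 C) _ (by decide +kernel)

theorem f8172 : C.T (v2 C) [19, 43, 68, 81, 108, 110, 125] (v18 C) [6, 27, 49, 80, 100, 117] :=
  C.conv (f6850 C) (f6867 C) (f8171 C) _ [143, 165, 176, 178] _ (by decide +kernel) (by decide +kernel) (by decide +kernel)

theorem f8173 : C.T (v18 C) [6, 27, 49, 80, 100, 117] (v2 C) [19, 43, 68, 81, 108, 110, 125] :=
  C.flip (f8172 C)

theorem f8174 : C.T (v17 C) [19, 46, 58, 105, 109, 122] (v18 C) [21, 35, 59, 76, 91, 120] :=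
  C.closeT (p := (v2 C)) (pu := [26, 32, 54, 73, 102, 122])
    (C.pT (f8167 C)
    (C.pH [26, 38, 54, 89, 90, 113] [4, 42, 51, 73, 104, 109, 123] (by decide +kernel)
    (C.pT (f8169 C)
    (C.pH [8, 30, 65, 84, 94, 117] [19, 46, 58, 105, 109, 122] (by decide +kernel) (C.pNil _ _)))))
    (C.pH [26, 38, 54, 89, 90, 113] [6, 27, 49, 80, 100, 117] (by decide +kernel)
    (C.pT (f8173 C)
    (C.pH [8, 30, 65, 84, 94, 117] [26, 32, 54, 73, 102, 122] (by decide +kernel) (C.pNil _ _))))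
    (C.loop_of_one (relLoop2 C) _ _)

theorem f8175 : C.T (v18 C) [21, 35, 59, 76, 91, 120] (v17 C) [19, 46, 58, 105, 109, 122] :=
  C.flip (f8174 C)

theorem f8176 : C.T (v2 C) [26, 39, 63, 70, 104, 110, 125] (v3 C) [17, 30, 54, 91, 122] :=
  C.conv (f369 C) (f138 C) (f138 C) _ [132, 158, 164, 174] _ (by decide +kernel) (by decide +kernel) (by decide +kernel)

theorem f8177 : C.S (v3 C) [22, 29, 89, 96, 109, 125] :=
  C.stMul (f328 C) (f331 C) _ (by decide +kernel)

theorem f8178 : C.S (v3 C) [18, 43, 59, 78, 90, 110, 111] :=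
  C.stMul (f353 C) (f8177 C) _ (by decide +kernel)

theorem f8179 : C.S (v3 C) [38, 66, 70, 98, 110, 116] :=
  C.stMul (f331 C) (f8178 C) _ (by decide +kernel)

theorem f8180 : C.S (v3 C) [24, 27, 57, 73, 105, 109] :=
  C.stMul (f335 C) (f8179 C) _ (by decide +kernel)

theorem f8181 : C.T (v3 C) [20, 28, 49, 76, 105, 110, 113] (v17 C) [14, 29, 55, 88, 102, 116] :=
  C.conv (f6822 C) (f7297 C) (f8180 C) _ [137, 157, 167, 172, 178] _ (by decide +kernel) (by decide +kernel) (by decide +kernel)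

theorem f8182 : C.S (v2 C) [10, 43, 67, 71, 98, 119] :=
  C.stMul (f243 C) (f243 C) _ (by decide +kernel)

theorem f8183 : C.S (v2 C) [12, 30, 55, 77, 93, 124] :=
  C.stMul (f243 C) (f138 C) _ (by decide +kernel)

theorem f8184 : C.S (v2 C) [21, 36, 69, 75, 91, 110, 111] :=
  C.stMul (f138 C) (f8183 C) _ (by decide +kernel)

theorem f8185 : C.T (v2 C) [19, 37, 49, 79, 105, 110, 119] (v18 C) [16, 42, 65, 71, 90, 110, 123] :=
  C.conv (f8124 C) (f8182 C) (f8184 C) _ [127, 150, 164] _ (by decide +kernel) (by decide +kernel) (by decide +kernel)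

theorem f8186 : C.T (v18 C) [16, 42, 65, 71, 90, 110, 123] (v2 C) [19, 37, 49, 79, 105, 110, 119] :=
  C.flip (f8185 C)

theorem f8187 : C.T (v17 C) [5, 38, 53, 80, 97, 109, 123] (v18 C) [26, 46, 67, 80, 104, 110, 116] :=
  C.closeT (p := (v2 C)) (pu := [26, 39, 63, 70, 104, 110, 125])
    (C.pT (f8176 C)
    (C.pH [26, 38, 54, 89, 90, 113] [20, 28, 49, 76, 105, 110, 113] (by decide +kernel)
    (C.pT (f8181 C)
    (C.pH [8, 30, 65, 84, 94, 117] [5, 38, 53, 80, 97, 109, 123] (by decide +kernel) (C.pNil _ _)))))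
    (C.pH [26, 38, 54, 89, 90, 113] [16, 42, 65, 71, 90, 110, 123] (by decide +kernel)
    (C.pT (f8186 C)
    (C.pH [8, 30, 65, 84, 94, 117] [26, 39, 63, 70, 104, 110, 125] (by decide +kernel) (C.pNil _ _))))
    (C.loop_of_one (relLoop2 C) _ _)

theorem f8188 : C.T (v18 C) [26, 46, 67, 80, 104, 110, 116] (v17 C) [5, 38, 53, 80, 97, 109, 123] :=
  C.flip (f8187 C)

theorem f8189 : C.T (v2 C) [33, 66, 71, 93, 114] (v3 C) [11, 29, 58, 71, 107, 110] :=
  C.conv (f369 C) (f138 C) (f138 C) _ [146, 161, 169, 173, 178] _ (by decide +kernel) (by decide +kernel) (by decide +kernel)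

theorem f8190 : C.T (v3 C) [24, 31, 55, 89, 106, 120] (v17 C) [19, 36, 57, 72, 100, 111] :=
  C.conv (f6814 C) (f7361 C) (f7360 C) _ [148, 157, 165, 177] _ (by decide +kernel) (by decide +kernel) (by decide +kernel)

theorem f8191 : C.S (v2 C) [22, 45, 57, 85, 99, 109, 112] :=
  C.stMul (f149 C) (f6973 C) _ (by decide +kernel)

theorem f8192 : C.S (v2 C) [25, 37, 63, 75, 101, 110, 125] :=
  C.stMul (f138 C) (f8191 C) _ (by decide +kernel)

theorem f8193 : C.T (v2 C) [8, 36, 61, 70, 102, 113] (v18 C) [23, 33, 52, 80, 94, 121] :=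
  C.conv (f6850 C) (f6867 C) (f8192 C) _ [133, 168, 172, 177] _ (by decide +kernel) (by decide +kernel) (by decide +kernel)

theorem f8194 : C.T (v18 C) [23, 33, 52, 80, 94, 121] (v2 C) [8, 36, 61, 70, 102, 113] :=
  C.flip (f8193 C)

theorem f8195 : C.T (v17 C) [26, 28, 49, 89, 101, 110, 115] (v18 C) [13, 31, 57, 70, 98] :=
  C.closeT (p := (v2 C)) (pu := [33, 66, 71, 93, 114])
    (C.pT (f8189 C)
    (C.pH [26, 38, 54, 89, 90, 113] [24, 31, 55, 89, 106, 120] (by decide +kernel)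
    (C.pT (f8190 C)
    (C.pH [8, 30, 65, 84, 94, 117] [26, 28, 49, 89, 101, 110, 115] (by decide +kernel) (C.pNil _ _)))))
    (C.pH [26, 38, 54, 89, 90, 113] [23, 33, 52, 80, 94, 121] (by decide +kernel)
    (C.pT (f8194 C)
    (C.pH [8, 30, 65, 84, 94, 117] [33, 66, 71, 93, 114] (by decide +kernel) (C.pNil _ _))))
    (C.loop_of_one (relLoop2 C) _ _)

theorem f8196 : C.T (v18 C) [13, 31, 57, 70, 98] (v17 C) [26, 28, 49, 89, 101, 110, 115] :=
  C.flip (f8195 C)

theorem f8197 : C.T (v2 C) [20, 31, 62, 72, 94, 110] (v3 C) [22, 46, 57, 76, 108, 110, 121] :=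
  C.conv (f369 C) (f138 C) (f138 C) _ [139, 154, 177] _ (by decide +kernel) (by decide +kernel) (by decide +kernel)

theorem f8198 : C.S (v3 C) [20, 42, 68, 89, 99] :=
  C.stMul (f335 C) (f353 C) _ (by decide +kernel)

theorem f8199 : C.S (v3 C) [18, 33, 63, 86, 90, 124] :=
  C.stMul (f331 C) (f8198 C) _ (by decide +kernel)

theorem f8200 : C.S (v3 C) [6, 46, 54, 70, 103, 125] :=
  C.stMul (f335 C) (f8199 C) _ (by decide +kernel)

theorem f8201 : C.S (v3 C) [10, 28, 62, 78, 98, 110, 120] :=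
  C.stMul (f328 C) (f335 C) _ (by decide +kernel)

theorem f8202 : C.T (v3 C) [19, 36, 50, 88, 105, 110, 112] (v18 C) [17, 58, 88, 97, 109, 123] :=
  C.conv (f8165 C) (f8200 C) (f8201 C) _ [134, 151, 166, 175, 177] _ (by decide +kernel) (by decide +kernel) (by decide +kernel)

theorem f8203 : C.S (v2 C) [20, 48, 51, 81, 90, 116] :=
  C.stMul (f115 C) (f101 C) _ (by decide +kernel)

theorem f8204 : C.S (v2 C) [10, 43, 63, 77, 110, 116] :=
  C.stMul (f211 C) (f8203 C) _ (by decide +kernel)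

theorem f8205 : C.S (v2 C) [28, 49, 81, 100, 109, 114] :=
  C.stMul (f149 C) (f8204 C) _ (by decide +kernel)

theorem f8206 : C.T (v2 C) [16, 28, 57, 71, 91, 109, 124] (v18 C) [7, 38, 82, 96, 119] :=
  C.conv (f8124 C) (f8182 C) (f8205 C) _ [133, 150, 164, 172, 177] _ (by decide +kernel) (by decide +kernel) (by decide +kernel)

theorem f8207 : C.T (v18 C) [7, 38, 82, 96, 119] (v2 C) [16, 28, 57, 71, 91, 109, 124] :=
  C.flip (f8206 C)

end CfsgLib.J4Index
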