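import Cfsg.Agent.Lib.J4Index.Facts7

/-!
# Derived equations (generated)
-/

set_option autoImplicit false
set_option maxRecDepth 100000
set_option linter.style.longLine false

namespace CfsgLib.J4Index

variable {G X : Type} [Group G] [MulAction G X] (C : Ctx G X)

theorem f8208 : C.T (v18 C) [22, 43, 64, 73, 93, 109, 111] (v18 C) [23, 29, 75, 108, 123] :=
  C.closeT (p := (v2 C)) (pu := [20, 31, 62, 72, 94, 110])
    (C.pT (f8197 C)
    (C.pH [26, 38, 54, 89, 90, 113] [19, 36, 50, 88, 105, 110, 112] (by decide +kernel)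
    (C.pT (f8202 C)
    (C.pH [8, 30, 65, 84, 94, 117] [22, 43, 64, 73, 93, 109, 111] (by decide +kernel) (C.pNil _ _)))))
    (C.pH [26, 38, 54, 89, 90, 113] [7, 38, 82, 96, 119] (by decide +kernel)
    (C.pT (f8207 C)
    (C.pH [8, 30, 65, 84, 94, 117] [20, 31, 62, 72, 94, 110] (by decide +kernel) (C.pNil _ _))))
    (C.loop_of_one (relLoop2 C) _ _)

theorem f8209 : C.T (v18 C) [23, 29, 75, 108, 123] (v18 C) [22, 43, 64, 73, 93, 109, 111] :=
  C.flip (f8208 C)

theorem f8210 : C.T (v2 C) [23, 41, 64, 84, 92, 112] (v3 C) [22, 65, 78, 91, 117] :=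
  C.conv (f369 C) (f138 C) (f138 C) _ [132, 160, 164, 176, 177] _ (by decide +kernel) (by decide +kernel) (by decide +kernel)

theorem f8211 : C.T (v2 C) [20, 47, 61, 70, 100, 109, 124] (v5 C) [16, 48, 60, 70, 104, 110, 113] :=
  C.conv (f982 C) (f323 C) (f1096 C) _ [138, 157, 174] _ (by decide +kernel) (by decide +kernel) (by decide +kernel)

theorem f8212 : C.T (v5 C) [16, 48, 60, 70, 104, 110, 113] (v2 C) [20, 47, 61, 70, 100, 109, 124] :=
  C.flip (f8211 C)

theorem f8213 : C.S (v5 C) [40, 65, 79, 103, 110, 124] :=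
  C.stMul (f1008 C) (f1141 C) _ (by decide +kernel)

theorem f8214 : C.T (v5 C) [26, 66, 78, 109, 124] (v18 C) [4, 43, 56, 79, 109, 124] :=
  C.conv (f6939 C) (f7842 C) (f8213 C) _ [127, 149, 164, 175] _ (by decide +kernel) (by decide +kernel) (by decide +kernel)

theorem f8215 : C.T (v18 C) [4, 43, 56, 79, 109, 124] (v5 C) [26, 66, 78, 109, 124] :=
  C.flip (f8214 C)

theorem f8216 : C.T (v3 C) [19, 40, 62, 79, 100, 113] (v18 C) [18, 28, 50, 75, 104, 110, 124] :=
  C.closeT (p := (v2 C)) (pu := [23, 41, 64, 84, 92, 112])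
    (C.pT (f8210 C)
    (C.pH [26, 38, 54, 89, 90, 113] [19, 40, 62, 79, 100, 113] (by decide +kernel) (C.pNil _ _)))
    (C.pH [8, 30, 65, 84, 94, 117] [4, 43, 56, 79, 109, 124] (by decide +kernel)
    (C.pT (f8215 C)
    (C.pH [26, 38, 54, 89, 90, 113] [16, 48, 60, 70, 104, 110, 113] (by decide +kernel)
    (C.pT (f8212 C)
    (C.pH [8, 30, 65, 84, 94, 117] [23, 41, 64, 84, 92, 112] (by decide +kernel) (C.pNil _ _))))))
    (C.loop_of_one (relLoop2 C) _ _)

theorem f8217 : C.T (v18 C) [18, 28, 50, 75, 104, 110, 124] (v3 C) [19, 40, 62, 79, 100, 113] :=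
  C.flip (f8216 C)

theorem f8218 : C.T (v2 C) [20, 31, 54, 84, 106, 109, 125] (v3 C) [22, 34, 49, 76, 104, 110, 123] :=
  C.conv (f369 C) (f138 C) (f138 C) _ [143, 170, 173, 177] _ (by decide +kernel) (by decide +kernel) (by decide +kernel)

theorem f8219 : C.T (v2 C) [16, 28, 61, 76, 94, 110, 119] (v18 C) [9, 47, 57, 84, 124] :=
  C.conv (f6830 C) (f323 C) (f7760 C) _ [131, 154, 170, 172, 177] _ (by decide +kernel) (by decide +kernel) (by decide +kernel)

theorem f8220 : C.T (v18 C) [9, 47, 57, 84, 124] (v2 C) [16, 28, 61, 76, 94, 110, 119] :=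
  C.flip (f8219 C)

theorem f8221 : C.T (v18 C) [15, 27, 55, 77, 97, 110, 114] (v18 C) [14, 33, 49, 86, 99, 110, 115] :=
  C.conv (f8208 C) (f7121 C) (f7121 C) _ [130, 149, 165, 172] _ (by decide +kernel) (by decide +kernel) (by decide +kernel)

theorem f8222 : C.T (v18 C) [14, 33, 49, 86, 99, 110, 115] (v18 C) [15, 27, 55, 77, 97, 110, 114] :=
  C.flip (f8221 C)

theorem f8223 : C.T (v3 C) [19, 27, 52, 83, 100, 110, 120] (v18 C) [26, 42, 69, 88, 102, 125] :=
  C.closeT (p := (v2 C)) (pu := [20, 31, 54, 84, 106, 109, 125])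
    (C.pT (f8218 C)
    (C.pH [26, 38, 54, 89, 90, 113] [19, 27, 52, 83, 100, 110, 120] (by decide +kernel) (C.pNil _ _)))
    (C.pH [8, 30, 65, 84, 94, 117] [14, 33, 49, 86, 99, 110, 115] (by decide +kernel)
    (C.pT (f8222 C)
    (C.pH [26, 38, 54, 89, 90, 113] [9, 47, 57, 84, 124] (by decide +kernel)
    (C.pT (f8220 C)
    (C.pH [8, 30, 65, 84, 94, 117] [20, 31, 54, 84, 106, 109, 125] (by decide +kernel) (C.pNil _ _))))))
    (C.loop_of_one (relLoop2 C) _ _)

theorem f8224 : C.T (v18 C) [26, 42, 69, 88, 102, 125] (v3 C) [19, 27, 52, 83, 100, 110, 120] :=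
  C.flip (f8223 C)

theorem f8225 : C.T (v2 C) [41, 63, 74, 98, 109, 118] (v4 C) [16, 36, 60, 81, 95, 119] :=
  C.conv (f437 C) (f595 C) (f595 C) _ [160, 169, 173, 177] _ (by decide +kernel) (by decide +kernel) (by decide +kernel)

theorem f8226 : C.S (v2 C) [18, 44, 61, 70, 105, 112] :=
  C.stMul (f211 C) (f109 C) _ (by decide +kernel)

theorem f8227 : C.S (v2 C) [9, 29, 62, 80, 92, 110, 122] :=
  C.stMul (f138 C) (f8226 C) _ (by decide +kernel)

theorem f8228 : C.T (v2 C) [8, 33, 64, 81, 110, 111] (v3 C) [40, 59, 78, 105, 109, 118] :=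
  C.conv (f817 C) (f837 C) (f8227 C) _ [141, 159, 169, 175] _ (by decide +kernel) (by decide +kernel) (by decide +kernel)

theorem f8229 : C.T (v3 C) [40, 59, 78, 105, 109, 118] (v2 C) [8, 33, 64, 81, 110, 111] :=
  C.flip (f8228 C)

theorem f8230 : C.S (v3 C) [13, 29, 60, 92, 109, 121] :=
  C.stMul (f353 C) (f328 C) _ (by decide +kernel)

theorem f8231 : C.S (v3 C) [8, 48, 63, 86, 90, 110, 123] :=
  C.stMul (f331 C) (f8230 C) _ (by decide +kernel)

theorem f8232 : C.S (v3 C) [8, 39, 58, 72, 107, 109, 119] :=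
  C.stMul (f328 C) (f8231 C) _ (by decide +kernel)

theorem f8233 : C.T (v3 C) [7, 29, 63, 74, 108, 110, 123] (v18 C) [7, 48, 67, 73, 102, 110, 113] :=
  C.conv (f6911 C) (f8231 C) (f8232 C) _ [141, 159, 164, 171, 177] _ (by decide +kernel) (by decide +kernel) (by decide +kernel)

theorem f8234 : C.T (v18 C) [7, 48, 67, 73, 102, 110, 113] (v3 C) [7, 29, 63, 74, 108, 110, 123] :=
  C.flip (f8233 C)

theorem f8235 : C.T (v4 C) [13, 36, 61, 73, 95, 116] (v18 C) [11, 31, 52, 84, 90, 110, 114] :=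
  C.closeT (p := (v2 C)) (pu := [41, 63, 74, 98, 109, 118])
    (C.pT (f8225 C)
    (C.pH [26, 38, 54, 89, 90, 113] [13, 36, 61, 73, 95, 116] (by decide +kernel) (C.pNil _ _)))
    (C.pH [8, 30, 65, 84, 94, 117] [7, 48, 67, 73, 102, 110, 113] (by decide +kernel)
    (C.pT (f8234 C)
    (C.pH [26, 38, 54, 89, 90, 113] [40, 59, 78, 105, 109, 118] (by decide +kernel)
    (C.pT (f8229 C)
    (C.pH [8, 30, 65, 84, 94, 117] [41, 63, 74, 98, 109, 118] (by decide +kernel) (C.pNil _ _))))))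
    (C.loop_of_one (relLoop2 C) _ _)

theorem f8236 : C.T (v18 C) [11, 31, 52, 84, 90, 110, 114] (v4 C) [13, 36, 61, 73, 95, 116] :=
  C.flip (f8235 C)

theorem f8237 : C.T (v2 C) [20, 47, 61, 72, 92, 112] (v4 C) [26, 41, 58, 83, 105, 109, 117] :=
  C.conv (f437 C) (f595 C) (f595 C) _ [142, 157, 164, 172] _ (by decide +kernel) (by decide +kernel) (by decide +kernel)

theorem f8238 : C.S (v4 C) [16, 43, 64, 82, 90, 110, 123] :=
  C.stMul (f421 C) (f7490 C) _ (by decide +kernel)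

theorem f8239 : C.T (v4 C) [16, 36, 60, 82, 96, 125] (v18 C) [20, 37, 66, 77, 97, 120] :=
  C.conv (f6930 C) (f7494 C) (f8238 C) _ [142, 160, 175] _ (by decide +kernel) (by decide +kernel) (by decide +kernel)

theorem f8240 : C.S (v2 C) [18, 44, 61, 70, 105, 112] :=
  C.stMul (f211 C) (f109 C) _ (by decide +kernel)

theorem f8241 : C.S (v2 C) [25, 42, 49, 77, 107, 109, 112] :=
  C.stMul (f243 C) (f8240 C) _ (by decide +kernel)

theorem f8242 : C.S (v2 C) [22, 36, 53, 82, 96, 109, 122] :=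
  C.stMul (f138 C) (f8241 C) _ (by decide +kernel)

theorem f8243 : C.T (v2 C) [16, 31, 54, 81, 101, 110, 124] (v4 C) [7, 27, 64, 89, 105, 124] :=
  C.conv (f857 C) (f864 C) (f8242 C) _ [130, 149, 170, 173, 178] _ (by decide +kernel) (by decide +kernel) (by decide +kernel)

theorem f8244 : C.T (v4 C) [7, 27, 64, 89, 105, 124] (v2 C) [16, 31, 54, 81, 101, 110, 124] :=
  C.flip (f8243 C)

theorem f8245 : C.T (v18 C) [23, 53, 71, 94, 109] (v4 C) [23, 41, 58, 83, 91, 120] :=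
  C.closeT (p := (v2 C)) (pu := [20, 47, 61, 72, 92, 112])
    (C.pT (f8237 C)
    (C.pH [26, 38, 54, 89, 90, 113] [16, 36, 60, 82, 96, 125] (by decide +kernel)
    (C.pT (f8239 C)
    (C.pH [8, 30, 65, 84, 94, 117] [23, 53, 71, 94, 109] (by decide +kernel) (C.pNil _ _)))))
    (C.pH [26, 38, 54, 89, 90, 113] [7, 27, 64, 89, 105, 124] (by decide +kernel)
    (C.pT (f8244 C)
    (C.pH [8, 30, 65, 84, 94, 117] [20, 47, 61, 72, 92, 112] (by decide +kernel) (C.pNil _ _))))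
    (C.loop_of_one (relLoop2 C) _ _)

theorem f8246 : C.T (v4 C) [23, 41, 58, 83, 91, 120] (v18 C) [23, 53, 71, 94, 109] :=
  C.flip (f8245 C)

theorem f8247 : C.T (v2 C) [11, 36, 64, 76, 112] (v4 C) [4, 36, 60, 77, 99, 109, 123] :=
  C.conv (f437 C) (f595 C) (f595 C) _ [133, 155, 167, 174, 178] _ (by decide +kernel) (by decide +kernel) (by decide +kernel)

theorem f8248 : C.S (v4 C) [25, 47, 59, 76, 103, 109, 113] :=
  C.stMul (f421 C) (f2886 C) _ (by decide +kernel)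

theorem f8249 : C.S (v4 C) [13, 41, 65, 83, 103, 110, 118] :=
  C.stMul (f693 C) (f8248 C) _ (by decide +kernel)

theorem f8250 : C.T (v4 C) [25, 34, 50, 71, 97, 110, 118] (v15 C) [14, 32, 60, 92, 109, 123] :=
  C.conv (f2736 C) (f2885 C) (f8249 C) _ [137, 159, 170] _ (by decide +kernel) (by decide +kernel) (by decide +kernel)

theorem f8251 : C.S (v2 C) [28, 53, 81, 103, 109, 117] :=
  C.stMul (f138 C) (f109 C) _ (by decide +kernel)

theorem f8252 : C.S (v2 C) [9, 44, 70, 110, 118] :=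
  C.stMul (f149 C) (f8251 C) _ (by decide +kernel)

theorem f8253 : C.T (v2 C) [13, 28, 64, 80, 99, 109, 113] (v18 C) [8, 44, 59, 89, 97] :=
  C.conv (f8124 C) (f8182 C) (f8252 C) _ [137, 154, 168, 175] _ (by decide +kernel) (by decide +kernel) (by decide +kernel)

theorem f8254 : C.T (v18 C) [8, 44, 59, 89, 97] (v2 C) [13, 28, 64, 80, 99, 109, 113] :=
  C.flip (f8253 C)

theorem f8255 : C.T (v15 C) [5, 28, 66, 83, 93, 110, 124] (v18 C) [5, 35, 52, 84, 125] :=
  C.closeT (p := (v2 C)) (pu := [11, 36, 64, 76, 112])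
    (C.pT (f8247 C)
    (C.pH [26, 38, 54, 89, 90, 113] [25, 34, 50, 71, 97, 110, 118] (by decide +kernel)
    (C.pT (f8250 C)
    (C.pH [8, 30, 65, 84, 94, 117] [5, 28, 66, 83, 93, 110, 124] (by decide +kernel) (C.pNil _ _)))))
    (C.pH [26, 38, 54, 89, 90, 113] [8, 44, 59, 89, 97] (by decide +kernel)
    (C.pT (f8254 C)
    (C.pH [8, 30, 65, 84, 94, 117] [11, 36, 64, 76, 112] (by decide +kernel) (C.pNil _ _))))
    (C.loop_of_one (relLoop2 C) _ _)

theorem f8256 : C.T (v18 C) [5, 35, 52, 84, 125] (v15 C) [5, 28, 66, 83, 93, 110, 124] :=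
  C.flip (f8255 C)

theorem f8257 : C.T (v2 C) [7, 28, 53, 74, 108, 109, 118] (v4 C) [9, 31, 50, 86, 90, 119] :=
  C.conv (f437 C) (f595 C) (f595 C) _ [129, 158, 166, 176, 177] _ (by decide +kernel) (by decide +kernel) (by decide +kernel)

theorem f8258 : C.S (v4 C) [8, 31, 60, 85, 98, 110, 125] :=
  C.stMul (f693 C) (f407 C) _ (by decide +kernel)

theorem f8259 : C.T (v4 C) [22, 28, 56, 78, 106, 110, 115] (v15 C) [10, 32, 64, 82, 104, 109, 124] :=
  C.conv (f2628 C) (f2666 C) (f8258 C) _ [136, 149, 165, 175, 178] _ (by decide +kernel) (by decide +kernel) (by decide +kernel)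

theorem f8260 : C.S (v2 C) [10, 47, 55, 81, 97, 109, 117] :=
  C.stMul (f149 C) (f7665 C) _ (by decide +kernel)

theorem f8261 : C.S (v2 C) [13, 27, 62, 87, 103, 109, 122] :=
  C.stMul (f243 C) (f8260 C) _ (by decide +kernel)

theorem f8262 : C.T (v2 C) [11, 42, 63, 101, 110, 123] (v18 C) [26, 34, 49, 80, 96, 115] :=
  C.conv (f6850 C) (f6867 C) (f8261 C) _ [139, 163, 169, 176, 177] _ (by decide +kernel) (by decide +kernel) (by decide +kernel)

theorem f8263 : C.T (v18 C) [26, 34, 49, 80, 96, 115] (v2 C) [11, 42, 63, 101, 110, 123] :=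
  C.flip (f8262 C)

theorem f8264 : C.T (v15 C) [15, 33, 54, 80, 97, 110, 112] (v18 C) [29, 52, 95, 110, 111] :=
  C.closeT (p := (v2 C)) (pu := [7, 28, 53, 74, 108, 109, 118])
    (C.pT (f8257 C)
    (C.pH [26, 38, 54, 89, 90, 113] [22, 28, 56, 78, 106, 110, 115] (by decide +kernel)
    (C.pT (f8259 C)
    (C.pH [8, 30, 65, 84, 94, 117] [15, 33, 54, 80, 97, 110, 112] (by decide +kernel) (C.pNil _ _)))))
    (C.pH [26, 38, 54, 89, 90, 113] [26, 34, 49, 80, 96, 115] (by decide +kernel)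
    (C.pT (f8263 C)
    (C.pH [8, 30, 65, 84, 94, 117] [7, 28, 53, 74, 108, 109, 118] (by decide +kernel) (C.pNil _ _))))
    (C.loop_of_one (relLoop2 C) _ _)

theorem f8265 : C.T (v18 C) [29, 52, 95, 110, 111] (v15 C) [15, 33, 54, 80, 97, 110, 112] :=
  C.flip (f8264 C)

theorem f8266 : C.T (v2 C) [23, 33, 69, 72, 94, 110, 118] (v4 C) [17, 33, 66, 83, 91, 110] :=
  C.conv (f437 C) (f595 C) (f595 C) _ [145, 152, 168] _ (by decide +kernel) (by decide +kernel) (by decide +kernel)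

theorem f8267 : C.T (v4 C) [20, 46, 62, 71, 97, 119] (v15 C) [4, 31, 57, 79, 97, 125] :=
  C.conv (f2613 C) (f2621 C) (f2957 C) _ [146, 160, 178] _ (by decide +kernel) (by decide +kernel) (by decide +kernel)

theorem f8268 : C.S (v2 C) [20, 48, 66, 80, 98, 121] :=
  C.stMul (f149 C) (f101 C) _ (by decide +kernel)

theorem f8269 : C.S (v2 C) [10, 43, 68, 74, 94, 110, 111] :=
  C.stMul (f211 C) (f8268 C) _ (by decide +kernel)

theorem f8270 : C.T (v2 C) [20, 36, 57, 82, 91, 109, 125] (v18 C) [4, 34, 63, 87, 99, 109, 114] :=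
  C.conv (f8124 C) (f8182 C) (f8269 C) _ [147, 156, 167, 174, 177] _ (by decide +kernel) (by decide +kernel) (by decide +kernel)

theorem f8271 : C.T (v18 C) [4, 34, 63, 87, 99, 109, 114] (v2 C) [20, 36, 57, 82, 91, 109, 125] :=
  C.flip (f8270 C)

theorem f8272 : C.T (v15 C) [25, 28, 84, 96, 124] (v18 C) [6, 46, 51, 72, 102, 109, 111] :=
  C.closeT (p := (v2 C)) (pu := [23, 33, 69, 72, 94, 110, 118])
    (C.pT (f8266 C)
    (C.pH [26, 38, 54, 89, 90, 113] [20, 46, 62, 71, 97, 119] (by decide +kernel)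
    (C.pT (f8267 C)
    (C.pH [8, 30, 65, 84, 94, 117] [25, 28, 84, 96, 124] (by decide +kernel) (C.pNil _ _)))))
    (C.pH [26, 38, 54, 89, 90, 113] [4, 34, 63, 87, 99, 109, 114] (by decide +kernel)
    (C.pT (f8271 C)
    (C.pH [8, 30, 65, 84, 94, 117] [23, 33, 69, 72, 94, 110, 118] (by decide +kernel) (C.pNil _ _))))
    (C.loop_of_one (relLoop2 C) _ _)

theorem f8273 : C.T (v18 C) [6, 46, 51, 72, 102, 109, 111] (v15 C) [25, 28, 84, 96, 124] :=
  C.flip (f8272 C)

theorem f8274 : C.T (v2 C) [24, 30, 65, 70, 120] (v4 C) [26, 44, 50, 82, 106, 121] :=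
  C.conv (f437 C) (f595 C) (f595 C) _ [146, 162, 166, 172, 177] _ (by decide +kernel) (by decide +kernel) (by decide +kernel)

theorem f8275 : C.S (v4 C) [23, 41, 49, 78, 91, 109] :=
  C.stMul (f693 C) (f421 C) _ (by decide +kernel)

theorem f8276 : C.S (v4 C) [18, 46, 49, 75, 97, 110, 118] :=
  C.stMul (f407 C) (f407 C) _ (by decide +kernel)

theorem f8277 : C.S (v4 C) [16, 43, 64, 82, 90, 110, 123] :=
  C.stMul (f421 C) (f8276 C) _ (by decide +kernel)

theorem f8278 : C.S (v4 C) [12, 41, 63, 84, 102, 110, 115] :=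
  C.stMul (f693 C) (f8277 C) _ (by decide +kernel)

theorem f8279 : C.T (v4 C) [16, 28, 67, 85, 93, 109, 113] (v18 C) [16, 35, 50, 80, 97, 110, 112] :=
  C.conv (f8246 C) (f8275 C) (f8278 C) _ [127, 168, 178] _ (by decide +kernel) (by decide +kernel) (by decide +kernel)

theorem f8280 : C.S (v2 C) [4, 46, 62, 84, 108, 110] :=
  C.stMul (f138 C) (f7003 C) _ (by decide +kernel)

theorem f8281 : C.S (v2 C) [18, 29, 64, 86, 93, 111] :=
  C.stMul (f211 C) (f8280 C) _ (by decide +kernel)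

theorem f8282 : C.S (v2 C) [28, 62, 72, 97, 110, 125] :=
  C.stMul (f211 C) (f8281 C) _ (by decide +kernel)

theorem f8283 : C.T (v2 C) [21, 34, 53, 89, 97, 109, 121] (v18 C) [9, 37, 57, 87, 94, 110, 124] :=
  C.conv (f6850 C) (f6867 C) (f8282 C) _ [146, 154, 165, 172] _ (by decide +kernel) (by decide +kernel) (by decide +kernel)

theorem f8284 : C.T (v18 C) [9, 37, 57, 87, 94, 110, 124] (v2 C) [21, 34, 53, 89, 97, 109, 121] :=
  C.flip (f8283 C)

theorem f8285 : C.T (v18 C) [20, 46, 64, 73, 90, 109, 123] (v18 C) [15, 29, 55, 71, 90, 124] :=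
  C.closeT (p := (v2 C)) (pu := [24, 30, 65, 70, 120])
    (C.pT (f8274 C)
    (C.pH [26, 38, 54, 89, 90, 113] [16, 28, 67, 85, 93, 109, 113] (by decide +kernel)
    (C.pT (f8279 C)
    (C.pH [8, 30, 65, 84, 94, 117] [20, 46, 64, 73, 90, 109, 123] (by decide +kernel) (C.pNil _ _)))))
    (C.pH [26, 38, 54, 89, 90, 113] [9, 37, 57, 87, 94, 110, 124] (by decide +kernel)
    (C.pT (f8284 C)
    (C.pH [8, 30, 65, 84, 94, 117] [24, 30, 65, 70, 120] (by decide +kernel) (C.pNil _ _))))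
    (C.loop_of_one (relLoop2 C) _ _)

theorem f8286 : C.T (v18 C) [15, 29, 55, 71, 90, 124] (v18 C) [20, 46, 64, 73, 90, 109, 123] :=
  C.flip (f8285 C)

theorem f8287 : C.T (v2 C) [13, 43, 59, 72, 104, 109, 114] (v4 C) [16, 36, 58, 73, 99, 119] :=
  C.conv (f437 C) (f595 C) (f595 C) _ [135, 161, 168, 176, 178] _ (by decide +kernel) (by decide +kernel) (by decide +kernel)

theorem f8288 : C.S (v2 C) [9, 44, 67, 80, 98, 110, 118] :=
  C.stMul (f138 C) (f7071 C) _ (by decide +kernel)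

theorem f8289 : C.S (v2 C) [4, 48, 59, 81, 102, 110, 111] :=
  C.stMul (f211 C) (f8288 C) _ (by decide +kernel)

theorem f8290 : C.T (v2 C) [6, 40, 69, 78, 101, 116] (v15 C) [22, 31, 82, 96, 117] :=
  C.conv (f2638 C) (f3254 C) (f8289 C) _ [130, 157, 166, 174, 177] _ (by decide +kernel) (by decide +kernel) (by decide +kernel)

theorem f8291 : C.T (v15 C) [22, 31, 82, 96, 117] (v2 C) [6, 40, 69, 78, 101, 116] :=
  C.flip (f8290 C)

theorem f8292 : C.S (v15 C) [25, 47, 66, 86, 107, 124] :=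
  C.stMul (f2569 C) (f2565 C) _ (by decide +kernel)

theorem f8293 : C.S (v15 C) [24, 44, 51, 82, 106, 110, 112] :=
  C.stMul (f2565 C) (f8292 C) _ (by decide +kernel)

theorem f8294 : C.S (v15 C) [24, 34, 69, 71, 96, 109] :=
  C.stMul (f2581 C) (f8293 C) _ (by decide +kernel)

theorem f8295 : C.T (v15 C) [9, 40, 54, 81, 93, 120] (v18 C) [16, 30, 55, 82, 95, 109, 125] :=
  C.conv (f7637 C) (f7737 C) (f8294 C) _ [148, 149, 164, 175, 177] _ (by decide +kernel) (by decide +kernel) (by decide +kernel)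

theorem f8296 : C.T (v18 C) [16, 30, 55, 82, 95, 109, 125] (v15 C) [9, 40, 54, 81, 93, 120] :=
  C.flip (f8295 C)

theorem f8297 : C.T (v4 C) [13, 36, 69, 85, 96, 109, 118] (v18 C) [24, 33, 55, 84, 99, 117] :=
  C.closeT (p := (v2 C)) (pu := [13, 43, 59, 72, 104, 109, 114])
    (C.pT (f8287 C)
    (C.pH [26, 38, 54, 89, 90, 113] [13, 36, 69, 85, 96, 109, 118] (by decide +kernel) (C.pNil _ _)))
    (C.pH [8, 30, 65, 84, 94, 117] [16, 30, 55, 82, 95, 109, 125] (by decide +kernel)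
    (C.pT (f8296 C)
    (C.pH [26, 38, 54, 89, 90, 113] [22, 31, 82, 96, 117] (by decide +kernel)
    (C.pT (f8291 C)
    (C.pH [8, 30, 65, 84, 94, 117] [13, 43, 59, 72, 104, 109, 114] (by decide +kernel) (C.pNil _ _))))))
    (C.loop_of_one (relLoop2 C) _ _)

theorem f8298 : C.T (v18 C) [24, 33, 55, 84, 99, 117] (v4 C) [13, 36, 69, 85, 96, 109, 118] :=
  C.flip (f8297 C)

theorem f8299 : C.T (v2 C) [47, 64, 84, 101, 110, 112] (v4 C) [9, 36, 64, 74, 109, 123] :=
  C.conv (f437 C) (f595 C) (f595 C) _ [151, 168, 176, 177] _ (by decide +kernel) (by decide +kernel) (by decide +kernel)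

theorem f8300 : C.S (v4 C) [10, 27, 56, 84, 93, 109, 113] :=
  C.stMul (f407 C) (f421 C) _ (by decide +kernel)

theorem f8301 : C.S (v4 C) [25, 47, 59, 76, 103, 109, 113] :=
  C.stMul (f421 C) (f8300 C) _ (by decide +kernel)

theorem f8302 : C.T (v4 C) [22, 38, 50, 73, 94, 110, 123] (v16 C) [17, 43, 57, 78, 95, 110, 125] :=
  C.conv (f3706 C) (f8301 C) (f421 C) _ [126, 159, 164, 172, 177] _ (by decide +kernel) (by decide +kernel) (by decide +kernel)

theorem f8303 : C.S (v2 C) [58, 74, 103, 109, 116] :=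
  C.stMul (f149 C) (f125 C) _ (by decide +kernel)

theorem f8304 : C.S (v2 C) [9, 44, 68, 81, 119] :=
  C.stMul (f211 C) (f8303 C) _ (by decide +kernel)

theorem f8305 : C.T (v2 C) [8, 39, 68, 90, 109, 114] (v18 C) [15, 41, 52, 83, 106, 115] :=
  C.conv (f6850 C) (f6867 C) (f8304 C) _ [148, 178] _ (by decide +kernel) (by decide +kernel) (by decide +kernel)

theorem f8306 : C.T (v18 C) [15, 41, 52, 83, 106, 115] (v2 C) [8, 39, 68, 90, 109, 114] :=
  C.flip (f8305 C)

theorem f8307 : C.T (v16 C) [22, 45, 60, 85, 102, 110, 123] (v18 C) [20, 47, 54, 85, 91] :=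
  C.closeT (p := (v2 C)) (pu := [47, 64, 84, 101, 110, 112])
    (C.pT (f8299 C)
    (C.pH [26, 38, 54, 89, 90, 113] [22, 38, 50, 73, 94, 110, 123] (by decide +kernel)
    (C.pT (f8302 C)
    (C.pH [8, 30, 65, 84, 94, 117] [22, 45, 60, 85, 102, 110, 123] (by decide +kernel) (C.pNil _ _)))))
    (C.pH [26, 38, 54, 89, 90, 113] [15, 41, 52, 83, 106, 115] (by decide +kernel)
    (C.pT (f8306 C)
    (C.pH [8, 30, 65, 84, 94, 117] [47, 64, 84, 101, 110, 112] (by decide +kernel) (C.pNil _ _))))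
    (C.loop_of_one (relLoop2 C) _ _)

theorem f8308 : C.T (v18 C) [20, 47, 54, 85, 91] (v16 C) [22, 45, 60, 85, 102, 110, 123] :=
  C.flip (f8307 C)

theorem f8309 : C.T (v2 C) [17, 46, 85, 107, 118] (v4 C) [23, 39, 66, 88, 94, 110, 124] :=
  C.conv (f450 C) (f109 C) (f109 C) _ [127, 153, 166, 176, 178] _ (by decide +kernel) (by decide +kernel) (by decide +kernel)

theorem f8310 : C.S (v2 C) [15, 46, 62, 75, 90, 124] :=
  C.stMul (f138 C) (f7258 C) _ (by decide +kernel)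

theorem f8311 : C.T (v2 C) [7, 41, 85, 107, 118] (v18 C) [20, 35, 54, 85, 96, 112] :=
  C.conv (f6850 C) (f6867 C) (f8310 C) _ [161, 167, 176, 178] _ (by decide +kernel) (by decide +kernel) (by decide +kernel)

theorem f8312 : C.T (v18 C) [20, 35, 54, 85, 96, 112] (v2 C) [7, 41, 85, 107, 118] :=
  C.flip (f8311 C)

theorem f8313 : C.T (v18 C) [17, 44, 63, 85, 95, 109, 113] (v18 C) [5, 42, 58, 87, 106, 112] :=
  C.conv (f7437 C) (f6836 C) (f7121 C) _ [134, 160, 167, 176, 177] _ (by decide +kernel) (by decide +kernel) (by decide +kernel)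

theorem f8314 : C.T (v18 C) [5, 42, 58, 87, 106, 112] (v18 C) [17, 44, 63, 85, 95, 109, 113] :=
  C.flip (f8313 C)

theorem f8315 : C.T (v4 C) [7, 34, 59, 74, 108, 110] (v18 C) [14, 36, 61, 81, 90, 109, 116] :=
  C.closeT (p := (v2 C)) (pu := [17, 46, 85, 107, 118])
    (C.pT (f8309 C)
    (C.pH [26, 38, 54, 89, 90, 113] [7, 34, 59, 74, 108, 110] (by decide +kernel) (C.pNil _ _)))
    (C.pH [8, 30, 65, 84, 94, 117] [5, 42, 58, 87, 106, 112] (by decide +kernel)
    (C.pT (f8314 C)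
    (C.pH [26, 38, 54, 89, 90, 113] [20, 35, 54, 85, 96, 112] (by decide +kernel)
    (C.pT (f8312 C)
    (C.pH [8, 30, 65, 84, 94, 117] [17, 46, 85, 107, 118] (by decide +kernel) (C.pNil _ _))))))
    (C.loop_of_one (relLoop2 C) _ _)

theorem f8316 : C.T (v18 C) [14, 36, 61, 81, 90, 109, 116] (v4 C) [7, 34, 59, 74, 108, 110] :=
  C.flip (f8315 C)

theorem f8317 : C.T (v2 C) [5, 31, 50, 82, 94, 109] (v4 C) [18, 46, 67, 89, 98] :=
  C.conv (f450 C) (f109 C) (f109 C) _ [130, 165, 176, 178] _ (by decide +kernel) (by decide +kernel) (by decide +kernel)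

theorem f8318 : C.S (v4 C) [8, 31, 60, 85, 98, 110, 125] :=
  C.stMul (f693 C) (f407 C) _ (by decide +kernel)

theorem f8319 : C.S (v4 C) [42, 63, 82, 91, 110, 125] :=
  C.stMul (f421 C) (f8318 C) _ (by decide +kernel)

theorem f8320 : C.S (v4 C) [12, 31, 56, 72, 107, 109, 112] :=
  C.stMul (f407 C) (f8319 C) _ (by decide +kernel)

theorem f8321 : C.T (v4 C) [10, 40, 65, 86, 98, 121] (v16 C) [7, 28, 60, 81, 106, 110, 115] :=
  C.conv (f3706 C) (f8301 C) (f8320 C) _ [147, 150, 169, 172, 177] _ (by decide +kernel) (by decide +kernel) (by decide +kernel)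

theorem f8322 : C.T (v2 C) [14, 58, 82, 94, 109] (v18 C) [8, 28, 56, 87, 108, 110] :=
  C.conv (f6850 C) (f6867 C) (f7013 C) _ [139, 156, 171, 178] _ (by decide +kernel) (by decide +kernel) (by decide +kernel)

theorem f8323 : C.T (v18 C) [8, 28, 56, 87, 108, 110] (v2 C) [14, 58, 82, 94, 109] :=
  C.flip (f8322 C)

theorem f8324 : C.T (v16 C) [17, 33, 57, 80, 93, 109, 123] (v18 C) [5, 48, 49, 71, 94, 110, 124] :=
  C.closeT (p := (v2 C)) (pu := [5, 31, 50, 82, 94, 109])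
    (C.pT (f8317 C)
    (C.pH [26, 38, 54, 89, 90, 113] [10, 40, 65, 86, 98, 121] (by decide +kernel)
    (C.pT (f8321 C)
    (C.pH [8, 30, 65, 84, 94, 117] [17, 33, 57, 80, 93, 109, 123] (by decide +kernel) (C.pNil _ _)))))
    (C.pH [26, 38, 54, 89, 90, 113] [8, 28, 56, 87, 108, 110] (by decide +kernel)
    (C.pT (f8323 C)
    (C.pH [8, 30, 65, 84, 94, 117] [5, 31, 50, 82, 94, 109] (by decide +kernel) (C.pNil _ _))))
    (C.loop_of_one (relLoop2 C) _ _)

theorem f8325 : C.T (v18 C) [5, 48, 49, 71, 94, 110, 124] (v16 C) [17, 33, 57, 80, 93, 109, 123] :=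
  C.flip (f8324 C)

theorem f8326 : C.T (v2 C) [8, 44, 58, 89, 96, 110, 119] (v4 C) [13, 45, 52, 70, 91, 110, 117] :=
  C.conv (f450 C) (f109 C) (f109 C) _ [136, 159, 171, 178] _ (by decide +kernel) (by decide +kernel) (by decide +kernel)

theorem f8327 : C.S (v4 C) [17, 35, 66, 70, 95] :=
  C.stMul (f421 C) (f407 C) _ (by decide +kernel)

theorem f8328 : C.S (v4 C) [13, 44, 51, 82, 106, 110, 111] :=
  C.stMul (f407 C) (f8327 C) _ (by decide +kernel)

theorem f8329 : C.S (v4 C) [21, 35, 69, 73, 94, 109, 122] :=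
  C.stMul (f421 C) (f8328 C) _ (by decide +kernel)

theorem f8330 : C.S (v4 C) [18, 37, 59, 73, 102, 116] :=
  C.stMul (f693 C) (f8329 C) _ (by decide +kernel)

theorem f8331 : C.S (v4 C) [17, 29, 60, 75, 100, 110, 113] :=
  C.stMul (f407 C) (f8328 C) _ (by decide +kernel)

theorem f8332 : C.T (v4 C) [23, 27, 71, 94, 109, 121] (v18 C) [8, 29, 66, 84, 107, 123] :=
  C.conv (f7143 C) (f8330 C) (f8331 C) _ [130, 159, 164, 174, 178] _ (by decide +kernel) (by decide +kernel) (by decide +kernel)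

theorem f8333 : C.S (v2 C) [6, 46, 50, 80, 103, 110, 116] :=
  C.stMul (f211 C) (f115 C) _ (by decide +kernel)

theorem f8334 : C.S (v2 C) [12, 30, 53, 80, 108, 110, 120] :=
  C.stMul (f243 C) (f8333 C) _ (by decide +kernel)

theorem f8335 : C.S (v2 C) [15, 46, 65, 100, 110, 119] :=
  C.stMul (f211 C) (f8334 C) _ (by decide +kernel)

theorem f8336 : C.T (v2 C) [33, 49, 70, 103, 110, 118] (v4 C) [22, 45, 69, 76, 99, 115] :=
  C.conv (f437 C) (f595 C) (f8335 C) _ [143, 163, 168, 175, 178] _ (by decide +kernel) (by decide +kernel) (by decide +kernel)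

theorem f8337 : C.T (v4 C) [22, 45, 69, 76, 99, 115] (v2 C) [33, 49, 70, 103, 110, 118] :=
  C.flip (f8336 C)

theorem f8338 : C.T (v18 C) [44, 56, 74, 90, 119] (v4 C) [9, 33, 69, 83, 109, 112] :=
  C.closeT (p := (v2 C)) (pu := [8, 44, 58, 89, 96, 110, 119])
    (C.pT (f8326 C)
    (C.pH [26, 38, 54, 89, 90, 113] [23, 27, 71, 94, 109, 121] (by decide +kernel)
    (C.pT (f8332 C)
    (C.pH [8, 30, 65, 84, 94, 117] [44, 56, 74, 90, 119] (by decide +kernel) (C.pNil _ _)))))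
    (C.pH [26, 38, 54, 89, 90, 113] [22, 45, 69, 76, 99, 115] (by decide +kernel)
    (C.pT (f8337 C)
    (C.pH [8, 30, 65, 84, 94, 117] [8, 44, 58, 89, 96, 110, 119] (by decide +kernel) (C.pNil _ _))))
    (C.loop_of_one (relLoop2 C) _ _)

theorem f8339 : C.T (v4 C) [9, 33, 69, 83, 109, 112] (v18 C) [44, 56, 74, 90, 119] :=
  C.flip (f8338 C)

theorem f8340 : C.T (v2 C) [19, 37, 54, 87, 97, 110, 119] (v4 C) [25, 29, 49, 71, 102, 110, 113] :=
  C.conv (f450 C) (f109 C) (f109 C) _ [138, 172] _ (by decide +kernel) (by decide +kernel) (by decide +kernel)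

theorem f8341 : C.S (v4 C) [23, 45, 57, 77, 95, 110, 118] :=
  C.stMul (f407 C) (f7484 C) _ (by decide +kernel)

theorem f8342 : C.S (v4 C) [26, 43, 63, 73, 104, 112] :=
  C.stMul (f421 C) (f8341 C) _ (by decide +kernel)

theorem f8343 : C.S (v4 C) [25, 46, 61, 102, 110, 119] :=
  C.stMul (f407 C) (f8342 C) _ (by decide +kernel)

theorem f8344 : C.S (v4 C) [10, 38, 55, 71, 94, 110, 113] :=
  C.stMul (f421 C) (f8343 C) _ (by decide +kernel)

theorem f8345 : C.T (v4 C) [18, 28, 61, 88, 92, 109] (v18 C) [23, 46, 50, 85, 99, 110, 125] :=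
  C.conv (f7423 C) (f7483 C) (f8344 C) _ [126, 160, 169, 172, 177] _ (by decide +kernel) (by decide +kernel) (by decide +kernel)

theorem f8346 : C.S (v2 C) [13, 27, 65, 84, 101, 109, 118] :=
  C.stMul (f243 C) (f125 C) _ (by decide +kernel)

theorem f8347 : C.S (v2 C) [12, 30, 61, 76, 103, 119] :=
  C.stMul (f149 C) (f8346 C) _ (by decide +kernel)

theorem f8348 : C.S (v2 C) [18, 29, 65, 76, 106, 109, 114] :=
  C.stMul (f243 C) (f8347 C) _ (by decide +kernel)

theorem f8349 : C.T (v2 C) [15, 36, 78, 108, 112] (v17 C) [16, 34, 57, 94, 110, 112] :=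
  C.conv (f6632 C) (f6971 C) (f8348 C) _ [134, 161, 167, 174, 178] _ (by decide +kernel) (by decide +kernel) (by decide +kernel)

theorem f8350 : C.T (v17 C) [16, 34, 57, 94, 110, 112] (v2 C) [15, 36, 78, 108, 112] :=
  C.flip (f8349 C)

theorem f8351 : C.T (v18 C) [10, 39, 62, 83, 102, 113] (v17 C) [26, 34, 54, 75, 105, 109, 121] :=
  C.closeT (p := (v2 C)) (pu := [19, 37, 54, 87, 97, 110, 119])
    (C.pT (f8340 C)
    (C.pH [26, 38, 54, 89, 90, 113] [18, 28, 61, 88, 92, 109] (by decide +kernel)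
    (C.pT (f8345 C)
    (C.pH [8, 30, 65, 84, 94, 117] [10, 39, 62, 83, 102, 113] (by decide +kernel) (C.pNil _ _)))))
    (C.pH [26, 38, 54, 89, 90, 113] [16, 34, 57, 94, 110, 112] (by decide +kernel)
    (C.pT (f8350 C)
    (C.pH [8, 30, 65, 84, 94, 117] [19, 37, 54, 87, 97, 110, 119] (by decide +kernel) (C.pNil _ _))))
    (C.loop_of_one (relLoop2 C) _ _)

theorem f8352 : C.T (v17 C) [26, 34, 54, 75, 105, 109, 121] (v18 C) [10, 39, 62, 83, 102, 113] :=
  C.flip (f8351 C)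

theorem f8353 : C.T (v2 C) [22, 35, 67, 83, 105, 118] (v4 C) [24, 38, 61, 91, 119] :=
  C.conv (f450 C) (f109 C) (f109 C) _ [140, 158, 165, 171] _ (by decide +kernel) (by decide +kernel) (by decide +kernel)

theorem f8354 : C.T (v4 C) [12, 44, 57, 78, 92, 110, 123] (v17 C) [4, 47, 58, 71, 107, 110, 123] :=
  C.conv (f5743 C) (f7641 C) (f7644 C) _ [137, 151, 178] _ (by decide +kernel) (by decide +kernel) (by decide +kernel)

theorem f8355 : C.T (v2 C) [17, 40, 69, 80, 95, 109, 111] (v18 C) [18, 60, 81, 98, 109, 118] :=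
  C.conv (f6850 C) (f6867 C) (f7676 C) _ [166, 176] _ (by decide +kernel) (by decide +kernel) (by decide +kernel)

theorem f8356 : C.T (v18 C) [18, 60, 81, 98, 109, 118] (v2 C) [17, 40, 69, 80, 95, 109, 111] :=
  C.flip (f8355 C)

theorem f8357 : C.T (v17 C) [25, 36, 66, 73, 102, 116] (v18 C) [25, 40, 58, 70, 102, 109] :=
  C.closeT (p := (v2 C)) (pu := [22, 35, 67, 83, 105, 118])
    (C.pT (f8353 C)
    (C.pH [26, 38, 54, 89, 90, 113] [12, 44, 57, 78, 92, 110, 123] (by decide +kernel)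
    (C.pT (f8354 C)
    (C.pH [8, 30, 65, 84, 94, 117] [25, 36, 66, 73, 102, 116] (by decide +kernel) (C.pNil _ _)))))
    (C.pH [26, 38, 54, 89, 90, 113] [18, 60, 81, 98, 109, 118] (by decide +kernel)
    (C.pT (f8356 C)
    (C.pH [8, 30, 65, 84, 94, 117] [22, 35, 67, 83, 105, 118] (by decide +kernel) (C.pNil _ _))))
    (C.loop_of_one (relLoop2 C) _ _)

theorem f8358 : C.T (v18 C) [25, 40, 58, 70, 102, 109] (v17 C) [25, 36, 66, 73, 102, 116] :=
  C.flip (f8357 C)

theorem f8359 : C.T (v2 C) [5, 29, 54, 89, 90, 122] (v3 C) [21, 42, 53, 72, 102, 109, 117] :=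
  C.conv (f817 C) (f837 C) (f837 C) _ [148, 153, 169, 171] _ (by decide +kernel) (by decide +kernel) (by decide +kernel)

theorem f8360 : C.S (v3 C) [20, 42, 68, 89, 99] :=
  C.stMul (f335 C) (f353 C) _ (by decide +kernel)

theorem f8361 : C.S (v3 C) [18, 33, 63, 86, 90, 124] :=
  C.stMul (f331 C) (f8360 C) _ (by decide +kernel)

theorem f8362 : C.S (v3 C) [23, 29, 57, 87, 91, 110, 120] :=
  C.stMul (f331 C) (f328 C) _ (by decide +kernel)

theorem f8363 : C.S (v3 C) [21, 45, 66, 81, 102, 110] :=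
  C.stMul (f335 C) (f8362 C) _ (by decide +kernel)

theorem f8364 : C.S (v3 C) [25, 30, 54, 78, 106, 110, 122] :=
  C.stMul (f328 C) (f8363 C) _ (by decide +kernel)

theorem f8365 : C.T (v3 C) [6, 45, 53, 73, 96, 114] (v18 C) [13, 30, 50, 76, 95, 110, 122] :=
  C.conv (f8223 C) (f8361 C) (f8364 C) _ [130, 161, 168, 176, 178] _ (by decide +kernel) (by decide +kernel) (by decide +kernel)

theorem f8366 : C.S (v2 C) [23, 47, 68, 89, 105, 121] :=
  C.stMul (f138 C) (f211 C) _ (by decide +kernel)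

theorem f8367 : C.S (v2 C) [6, 50, 93, 109, 116] :=
  C.stMul (f125 C) (f8366 C) _ (by decide +kernel)

theorem f8368 : C.S (v2 C) [23, 43, 54, 73, 99, 122] :=
  C.stMul (f211 C) (f8367 C) _ (by decide +kernel)

theorem f8369 : C.T (v2 C) [14, 31, 65, 76, 100, 109, 117] (v18 C) [19, 27, 55, 77, 99, 110, 119] :=
  C.conv (f8124 C) (f8182 C) (f8368 C) _ [139, 157, 169, 174] _ (by decide +kernel) (by decide +kernel) (by decide +kernel)

theorem f8370 : C.T (v18 C) [19, 27, 55, 77, 99, 110, 119] (v2 C) [14, 31, 65, 76, 100, 109, 117] :=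
  C.flip (f8369 C)

theorem f8371 : C.T (v18 C) [11, 52, 87, 103, 109, 119] (v18 C) [22, 34, 61, 73, 95, 109, 120] :=
  C.closeT (p := (v2 C)) (pu := [5, 29, 54, 89, 90, 122])
    (C.pT (f8359 C)
    (C.pH [26, 38, 54, 89, 90, 113] [6, 45, 53, 73, 96, 114] (by decide +kernel)
    (C.pT (f8365 C)
    (C.pH [8, 30, 65, 84, 94, 117] [11, 52, 87, 103, 109, 119] (by decide +kernel) (C.pNil _ _)))))
    (C.pH [26, 38, 54, 89, 90, 113] [19, 27, 55, 77, 99, 110, 119] (by decide +kernel)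
    (C.pT (f8370 C)
    (C.pH [8, 30, 65, 84, 94, 117] [5, 29, 54, 89, 90, 122] (by decide +kernel) (C.pNil _ _))))
    (C.loop_of_one (relLoop2 C) _ _)

theorem f8372 : C.T (v18 C) [22, 34, 61, 73, 95, 109, 120] (v18 C) [11, 52, 87, 103, 109, 119] :=
  C.flip (f8371 C)

theorem f8373 : C.T (v2 C) [7, 42, 61, 72, 105, 109, 121] (v3 C) [24, 33, 69, 81, 99, 109, 117] :=
  C.conv (f817 C) (f837 C) (f837 C) _ [140, 151, 170] _ (by decide +kernel) (by decide +kernel) (by decide +kernel)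

theorem f8374 : C.S (v3 C) [7, 29, 51, 83, 103, 109, 117] :=
  C.stMul (f335 C) (f335 C) _ (by decide +kernel)

theorem f8375 : C.S (v3 C) [10, 48, 60, 84, 100, 110, 123] :=
  C.stMul (f353 C) (f8374 C) _ (by decide +kernel)

theorem f8376 : C.T (v3 C) [12, 38, 67, 81, 108, 110, 112] (v18 C) [21, 28, 67, 71, 97, 114] :=
  C.conv (f7327 C) (f7806 C) (f8375 C) _ [130, 153, 164, 173, 178] _ (by decide +kernel) (by decide +kernel) (by decide +kernel)

theorem f8377 : C.S (v2 C) [7, 42, 80, 92, 109, 114] :=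
  C.stMul (f243 C) (f989 C) _ (by decide +kernel)

theorem f8378 : C.T (v2 C) [11, 29, 49, 85, 96, 121] (v5 C) [8, 38, 58, 101, 109, 120] :=
  C.conv (f982 C) (f323 C) (f8377 C) _ [130, 159, 168, 173, 177] _ (by decide +kernel) (by decide +kernel) (by decide +kernel)

theorem f8379 : C.T (v5 C) [8, 38, 58, 101, 109, 120] (v2 C) [11, 29, 49, 85, 96, 121] :=
  C.flip (f8378 C)

theorem f8380 : C.T (v18 C) [24, 38, 73, 97, 109, 117] (v5 C) [5, 30, 59, 79, 98, 109, 123] :=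
  C.closeT (p := (v2 C)) (pu := [7, 42, 61, 72, 105, 109, 121])
    (C.pT (f8373 C)
    (C.pH [26, 38, 54, 89, 90, 113] [12, 38, 67, 81, 108, 110, 112] (by decide +kernel)
    (C.pT (f8376 C)
    (C.pH [8, 30, 65, 84, 94, 117] [24, 38, 73, 97, 109, 117] (by decide +kernel) (C.pNil _ _)))))
    (C.pH [26, 38, 54, 89, 90, 113] [8, 38, 58, 101, 109, 120] (by decide +kernel)
    (C.pT (f8379 C)
    (C.pH [8, 30, 65, 84, 94, 117] [7, 42, 61, 72, 105, 109, 121] (by decide +kernel) (C.pNil _ _))))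
    (C.loop_of_one (relLoop2 C) _ _)

theorem f8381 : C.T (v5 C) [5, 30, 59, 79, 98, 109, 123] (v18 C) [24, 38, 73, 97, 109, 117] :=
  C.flip (f8380 C)

theorem f8382 : C.T (v2 C) [20, 38, 73, 100, 121] (v3 C) [16, 34, 63, 83, 105, 110, 118] :=
  C.conv (f817 C) (f837 C) (f837 C) _ [145, 155, 169, 175, 177] _ (by decide +kernel) (by decide +kernel) (by decide +kernel)

theorem f8383 : C.S (v3 C) [7, 37, 53, 78, 98, 118] :=
  C.stMul (f353 C) (f335 C) _ (by decide +kernel)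

theorem f8384 : C.T (v3 C) [13, 35, 60, 85, 100, 110, 117] (v18 C) [15, 37, 57, 86, 91, 113] :=
  C.conv (f6916 C) (f7402 C) (f8383 C) _ [131, 158, 167, 173, 178] _ (by decide +kernel) (by decide +kernel) (by decide +kernel)

theorem f8385 : C.S (v2 C) [28, 51, 80, 104, 110, 117] :=
  C.stMul (f101 C) (f211 C) _ (by decide +kernel)

theorem f8386 : C.S (v2 C) [11, 28, 64, 74, 109, 112] :=
  C.stMul (f243 C) (f8385 C) _ (by decide +kernel)

theorem f8387 : C.T (v2 C) [16, 27, 63, 86, 91, 110, 120] (v4 C) [19, 28, 63, 77, 104, 113] :=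
  C.conv (f437 C) (f595 C) (f8386 C) _ [134, 162, 166, 171] _ (by decide +kernel) (by decide +kernel) (by decide +kernel)

theorem f8388 : C.T (v4 C) [19, 28, 63, 77, 104, 113] (v2 C) [16, 27, 63, 86, 91, 110, 120] :=
  C.flip (f8387 C)

theorem f8389 : C.T (v18 C) [19, 32, 57, 77, 98, 122] (v4 C) [22, 39, 58, 81, 100, 110, 111] :=
  C.closeT (p := (v2 C)) (pu := [20, 38, 73, 100, 121])
    (C.pT (f8382 C)
    (C.pH [26, 38, 54, 89, 90, 113] [13, 35, 60, 85, 100, 110, 117] (by decide +kernel)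
    (C.pT (f8384 C)
    (C.pH [8, 30, 65, 84, 94, 117] [19, 32, 57, 77, 98, 122] (by decide +kernel) (C.pNil _ _)))))
    (C.pH [26, 38, 54, 89, 90, 113] [19, 28, 63, 77, 104, 113] (by decide +kernel)
    (C.pT (f8388 C)
    (C.pH [8, 30, 65, 84, 94, 117] [20, 38, 73, 100, 121] (by decide +kernel) (C.pNil _ _))))
    (C.loop_of_one (relLoop2 C) _ _)

theorem f8390 : C.T (v4 C) [22, 39, 58, 81, 100, 110, 111] (v18 C) [19, 32, 57, 77, 98, 122] :=
  C.flip (f8389 C)

theorem f8391 : C.T (v2 C) [16, 41, 58, 77, 98, 110, 116] (v3 C) [24, 42, 49, 77, 98, 110, 116] :=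
  C.conv (f817 C) (f837 C) (f837 C) _ [127, 159, 166, 174, 178] _ (by decide +kernel) (by decide +kernel) (by decide +kernel)

theorem f8392 : C.S (v3 C) [6, 43, 52, 78, 106, 118] :=
  C.stMul (f328 C) (f7347 C) _ (by decide +kernel)

theorem f8393 : C.S (v3 C) [26, 32, 53, 86, 108, 110, 118] :=
  C.stMul (f331 C) (f8392 C) _ (by decide +kernel)

theorem f8394 : C.T (v3 C) [12, 45, 69, 85, 101, 110, 112] (v15 C) [26, 39, 55, 85, 124] :=
  C.conv (f3166 C) (f3236 C) (f8393 C) _ [142, 150, 169, 173, 177] _ (by decide +kernel) (by decide +kernel) (by decide +kernel)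

theorem f8395 : C.S (v2 C) [4, 46, 68, 85, 99, 109, 124] :=
  C.stMul (f211 C) (f149 C) _ (by decide +kernel)

theorem f8396 : C.T (v2 C) [24, 30, 66, 88, 101, 109, 116] (v18 C) [9, 40, 58, 77, 102, 110, 119] :=
  C.conv (f6830 C) (f323 C) (f8395 C) _ [131, 149, 167, 172] _ (by decide +kernel) (by decide +kernel) (by decide +kernel)

theorem f8397 : C.T (v18 C) [9, 40, 58, 77, 102, 110, 119] (v2 C) [24, 30, 66, 88, 101, 109, 116] :=
  C.flip (f8396 C)

theorem f8398 : C.T (v15 C) [14, 47, 57, 74, 113] (v18 C) [15, 33, 57, 84, 106, 110, 122] :=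
  C.closeT (p := (v2 C)) (pu := [16, 41, 58, 77, 98, 110, 116])
    (C.pT (f8391 C)
    (C.pH [26, 38, 54, 89, 90, 113] [12, 45, 69, 85, 101, 110, 112] (by decide +kernel)
    (C.pT (f8394 C)
    (C.pH [8, 30, 65, 84, 94, 117] [14, 47, 57, 74, 113] (by decide +kernel) (C.pNil _ _)))))
    (C.pH [26, 38, 54, 89, 90, 113] [9, 40, 58, 77, 102, 110, 119] (by decide +kernel)
    (C.pT (f8397 C)
    (C.pH [8, 30, 65, 84, 94, 117] [16, 41, 58, 77, 98, 110, 116] (by decide +kernel) (C.pNil _ _))))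
    (C.loop_of_one (relLoop2 C) _ _)

theorem f8399 : C.T (v18 C) [15, 33, 57, 84, 106, 110, 122] (v15 C) [14, 47, 57, 74, 113] :=
  C.flip (f8398 C)

theorem f8400 : C.T (v2 C) [6, 32, 50, 86, 124] (v3 C) [7, 47, 50, 87, 95, 109, 122] :=
  C.conv (f817 C) (f837 C) (f837 C) _ [146, 162, 175, 178] _ (by decide +kernel) (by decide +kernel) (by decide +kernel)

theorem f8401 : C.S (v3 C) [9, 29, 68, 75, 108, 110, 124] :=
  C.stMul (f335 C) (f328 C) _ (by decide +kernel)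

theorem f8402 : C.S (v3 C) [11, 28, 50, 85, 94, 124] :=
  C.stMul (f353 C) (f8401 C) _ (by decide +kernel)

theorem f8403 : C.T (v3 C) [48, 80, 101, 110, 113] (v18 C) [19, 42, 58, 89, 100, 113] :=
  C.conv (f6911 C) (f8231 C) (f8402 C) _ [147, 166, 172] _ (by decide +kernel) (by decide +kernel) (by decide +kernel)

theorem f8404 : C.S (v2 C) [8, 46, 58, 78, 103, 115] :=
  C.stMul (f211 C) (f7276 C) _ (by decide +kernel)

theorem f8405 : C.S (v2 C) [26, 45, 53, 75, 108, 109, 117] :=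
  C.stMul (f243 C) (f8404 C) _ (by decide +kernel)

theorem f8406 : C.T (v2 C) [22, 27, 61, 72, 99, 109, 124] (v18 C) [18, 40, 52, 77, 107, 110, 112] :=
  C.conv (f6850 C) (f6867 C) (f8405 C) _ [134, 161, 170, 172, 177] _ (by decide +kernel) (by decide +kernel) (by decide +kernel)

theorem f8407 : C.T (v18 C) [18, 40, 52, 77, 107, 110, 112] (v2 C) [22, 27, 61, 72, 99, 109, 124] :=
  C.flip (f8406 C)

theorem f8408 : C.T (v18 C) [26, 38, 58, 89, 92, 122] (v18 C) [25, 48, 49, 71, 105, 109, 117] :=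
  C.closeT (p := (v2 C)) (pu := [6, 32, 50, 86, 124])
    (C.pT (f8400 C)
    (C.pH [26, 38, 54, 89, 90, 113] [48, 80, 101, 110, 113] (by decide +kernel)
    (C.pT (f8403 C)
    (C.pH [8, 30, 65, 84, 94, 117] [26, 38, 58, 89, 92, 122] (by decide +kernel) (C.pNil _ _)))))
    (C.pH [26, 38, 54, 89, 90, 113] [18, 40, 52, 77, 107, 110, 112] (by decide +kernel)
    (C.pT (f8407 C)
    (C.pH [8, 30, 65, 84, 94, 117] [6, 32, 50, 86, 124] (by decide +kernel) (C.pNil _ _))))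
    (C.loop_of_one (relLoop2 C) _ _)

theorem f8410 : C.S (v18 C) [26, 43, 49, 77, 91, 110, 115] :=
  C.stMul (f6836 C) (f6836 C) _ (by decide +kernel)

theorem f8412 : C.T (v2 C) [17, 35, 57, 83, 97, 118] (v4 C) [15, 34, 63, 89, 91, 125] :=
  C.conv (f857 C) (f864 C) (f864 C) _ [126, 158, 164, 175, 178] _ (by decide +kernel) (by decide +kernel) (by decide +kernel)

theorem f8413 : C.S (v4 C) [10, 27, 56, 84, 93, 109, 113] :=
  C.stMul (f407 C) (f421 C) _ (by decide +kernel)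

theorem f8414 : C.S (v4 C) [25, 47, 59, 76, 103, 109, 113] :=
  C.stMul (f421 C) (f8413 C) _ (by decide +kernel)

theorem f8415 : C.S (v4 C) [18, 46, 49, 75, 97, 110, 118] :=
  C.stMul (f407 C) (f407 C) _ (by decide +kernel)

theorem f8416 : C.S (v4 C) [16, 43, 64, 82, 90, 110, 123] :=
  C.stMul (f421 C) (f8415 C) _ (by decide +kernel)

theorem f8417 : C.S (v4 C) [21, 60, 87, 91, 109, 120] :=
  C.stMul (f407 C) (f8416 C) _ (by decide +kernel)

theorem f8418 : C.S (v4 C) [8, 48, 61, 83, 103, 117] :=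
  C.stMul (f407 C) (f8417 C) _ (by decide +kernel)

theorem f8419 : C.T (v4 C) [9, 44, 62, 89, 102, 109, 124] (v17 C) [22, 42, 66, 78, 101, 109, 125] :=
  C.conv (f5838 C) (f8414 C) (f8418 C) _ [160, 164, 175] _ (by decide +kernel) (by decide +kernel) (by decide +kernel)

theorem f8420 : C.S (v2 C) [20, 48, 55, 84, 98, 123] :=
  C.stMul (f138 C) (f6891 C) _ (by decide +kernel)

theorem f8421 : C.S (v2 C) [7, 34, 56, 70, 108, 109] :=
  C.stMul (f243 C) (f8420 C) _ (by decide +kernel)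

theorem f8422 : C.S (v2 C) [17, 33, 60, 86, 108, 110, 113] :=
  C.stMul (f211 C) (f8421 C) _ (by decide +kernel)

theorem f8423 : C.T (v2 C) [7, 45, 55, 80, 102, 109, 114] (v18 C) [9, 46, 56, 83, 107, 110, 112] :=
  C.conv (f6850 C) (f6867 C) (f8422 C) _ [135, 158, 168, 177] _ (by decide +kernel) (by decide +kernel) (by decide +kernel)

theorem f8424 : C.T (v18 C) [9, 46, 56, 83, 107, 110, 112] (v2 C) [7, 45, 55, 80, 102, 109, 114] :=
  C.flip (f8423 C)

theorem f8425 : C.T (v17 C) [6, 39, 60, 84, 102, 124] (v18 C) [15, 32, 49, 86, 108, 110, 120] :=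
  C.closeT (p := (v2 C)) (pu := [17, 35, 57, 83, 97, 118])
    (C.pT (f8412 C)
    (C.pH [26, 38, 54, 89, 90, 113] [9, 44, 62, 89, 102, 109, 124] (by decide +kernel)
    (C.pT (f8419 C)
    (C.pH [8, 30, 65, 84, 94, 117] [6, 39, 60, 84, 102, 124] (by decide +kernel) (C.pNil _ _)))))
    (C.pH [26, 38, 54, 89, 90, 113] [9, 46, 56, 83, 107, 110, 112] (by decide +kernel)
    (C.pT (f8424 C)
    (C.pH [8, 30, 65, 84, 94, 117] [17, 35, 57, 83, 97, 118] (by decide +kernel) (C.pNil _ _))))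
    (C.loop_of_one (relLoop2 C) _ _)

theorem f8426 : C.T (v18 C) [15, 32, 49, 86, 108, 110, 120] (v17 C) [6, 39, 60, 84, 102, 124] :=
  C.flip (f8425 C)

theorem f8427 : C.T (v2 C) [9, 46, 64, 77, 103, 110, 112] (v4 C) [10, 27, 64, 84, 102, 109] :=
  C.conv (f857 C) (f864 C) (f864 C) _ [148, 158, 167, 177] _ (by decide +kernel) (by decide +kernel) (by decide +kernel)

theorem f8428 : C.S (v2 C) [28, 51, 80, 104, 110, 117] :=
  C.stMul (f101 C) (f211 C) _ (by decide +kernel)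

theorem f8429 : C.S (v2 C) [9, 29, 56, 72, 95, 110, 115] :=
  C.stMul (f211 C) (f8428 C) _ (by decide +kernel)

theorem f8430 : C.S (v2 C) [20, 48, 65, 74, 91, 110] :=
  C.stMul (f149 C) (f8429 C) _ (by decide +kernel)

theorem f8431 : C.T (v2 C) [25, 38, 59, 86, 100, 109, 116] (v3 C) [12, 48, 65, 82, 91, 109, 116] :=
  C.conv (f817 C) (f837 C) (f8430 C) _ [148, 156, 168, 176, 178] _ (by decide +kernel) (by decide +kernel) (by decide +kernel)

theorem f8432 : C.T (v3 C) [12, 48, 65, 82, 91, 109, 116] (v2 C) [25, 38, 59, 86, 100, 109, 116] :=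
  C.flip (f8431 C)

theorem f8433 : C.S (v3 C) [9, 29, 68, 75, 108, 110, 124] :=
  C.stMul (f335 C) (f328 C) _ (by decide +kernel)

theorem f8434 : C.S (v3 C) [13, 45, 62, 78, 97, 110, 120] :=
  C.stMul (f328 C) (f8433 C) _ (by decide +kernel)

theorem f8435 : C.S (v3 C) [34, 56, 82, 103, 109, 119] :=
  C.stMul (f353 C) (f8434 C) _ (by decide +kernel)

theorem f8436 : C.S (v3 C) [4, 35, 66, 84, 105, 109, 115] :=
  C.stMul (f335 C) (f331 C) _ (by decide +kernel)

theorem f8437 : C.S (v3 C) [6, 43, 52, 78, 106, 118] :=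
  C.stMul (f328 C) (f8436 C) _ (by decide +kernel)

theorem f8438 : C.S (v3 C) [26, 33, 69, 81, 108, 110, 118] :=
  C.stMul (f353 C) (f8437 C) _ (by decide +kernel)

theorem f8439 : C.T (v3 C) [24, 44, 65, 81, 91, 109, 124] (v18 C) [4, 28, 69, 81, 103, 109, 118] :=
  C.conv (f8216 C) (f8435 C) (f8438 C) _ [132, 163, 175] _ (by decide +kernel) (by decide +kernel) (by decide +kernel)

theorem f8440 : C.T (v18 C) [4, 28, 69, 81, 103, 109, 118] (v3 C) [24, 44, 65, 81, 91, 109, 124] :=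
  C.flip (f8439 C)

theorem f8441 : C.T (v4 C) [21, 29, 54, 80, 106, 109, 123] (v18 C) [18, 44, 59, 85, 98, 109, 123] :=
  C.closeT (p := (v2 C)) (pu := [9, 46, 64, 77, 103, 110, 112])
    (C.pT (f8427 C)
    (C.pH [26, 38, 54, 89, 90, 113] [21, 29, 54, 80, 106, 109, 123] (by decide +kernel) (C.pNil _ _)))
    (C.pH [8, 30, 65, 84, 94, 117] [4, 28, 69, 81, 103, 109, 118] (by decide +kernel)
    (C.pT (f8440 C)
    (C.pH [26, 38, 54, 89, 90, 113] [12, 48, 65, 82, 91, 109, 116] (by decide +kernel)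
    (C.pT (f8432 C)
    (C.pH [8, 30, 65, 84, 94, 117] [9, 46, 64, 77, 103, 110, 112] (by decide +kernel) (C.pNil _ _))))))
    (C.loop_of_one (relLoop2 C) _ _)

theorem f8442 : C.T (v18 C) [18, 44, 59, 85, 98, 109, 123] (v4 C) [21, 29, 54, 80, 106, 109, 123] :=
  C.flip (f8441 C)

theorem f8443 : C.T (v2 C) [7, 44, 62, 76, 92, 110, 114] (v4 C) [22, 32, 55, 74, 105, 112] :=
  C.conv (f857 C) (f864 C) (f864 C) _ [138, 164, 176, 178] _ (by decide +kernel) (by decide +kernel) (by decide +kernel)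

theorem f8444 : C.S (v4 C) [18, 46, 49, 75, 97, 110, 118] :=
  C.stMul (f407 C) (f407 C) _ (by decide +kernel)

theorem f8445 : C.S (v4 C) [16, 43, 64, 82, 90, 110, 123] :=
  C.stMul (f421 C) (f8444 C) _ (by decide +kernel)

theorem f8446 : C.T (v4 C) [19, 29, 54, 85, 90, 119] (v18 C) [9, 28, 87, 106, 109, 123] :=
  C.conv (f7575 C) (f7630 C) (f8445 C) _ [129, 151, 167, 173, 177] _ (by decide +kernel) (by decide +kernel) (by decide +kernel)

theorem f8447 : C.S (v2 C) [18, 44, 68, 81, 106, 109, 118] :=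
  C.stMul (f138 C) (f115 C) _ (by decide +kernel)

theorem f8448 : C.S (v2 C) [64, 74, 94, 114] :=
  C.stMul (f211 C) (f8447 C) _ (by decide +kernel)

theorem f8449 : C.S (v2 C) [11, 46, 51, 80, 107, 109, 123] :=
  C.stMul (f243 C) (f8448 C) _ (by decide +kernel)

theorem f8450 : C.T (v2 C) [11, 45, 62, 75, 107, 113] (v15 C) [23, 29, 58, 84, 94, 119] :=
  C.conv (f2638 C) (f3254 C) (f8449 C) _ [126, 161, 169, 172, 177] _ (by decide +kernel) (by decide +kernel) (by decide +kernel)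

theorem f8451 : C.T (v15 C) [23, 29, 58, 84, 94, 119] (v2 C) [11, 45, 62, 75, 107, 113] :=
  C.flip (f8450 C)

theorem f8452 : C.T (v18 C) [18, 40, 53, 72, 103, 109, 115] (v15 C) [13, 38, 66, 98, 122] :=
  C.closeT (p := (v2 C)) (pu := [7, 44, 62, 76, 92, 110, 114])
    (C.pT (f8443 C)
    (C.pH [26, 38, 54, 89, 90, 113] [19, 29, 54, 85, 90, 119] (by decide +kernel)
    (C.pT (f8446 C)
    (C.pH [8, 30, 65, 84, 94, 117] [18, 40, 53, 72, 103, 109, 115] (by decide +kernel) (C.pNil _ _)))))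
    (C.pH [26, 38, 54, 89, 90, 113] [23, 29, 58, 84, 94, 119] (by decide +kernel)
    (C.pT (f8451 C)
    (C.pH [8, 30, 65, 84, 94, 117] [7, 44, 62, 76, 92, 110, 114] (by decide +kernel) (C.pNil _ _))))
    (C.loop_of_one (relLoop2 C) _ _)

theorem f8453 : C.T (v15 C) [13, 38, 66, 98, 122] (v18 C) [18, 40, 53, 72, 103, 109, 115] :=
  C.flip (f8452 C)

theorem f8454 : C.T (v2 C) [9, 37, 68, 75, 100, 125] (v4 C) [13, 48, 51, 81, 108, 113] :=
  C.conv (f857 C) (f864 C) (f864 C) _ [142, 153, 170, 174, 177] _ (by decide +kernel) (by decide +kernel) (by decide +kernel)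

theorem f8455 : C.T (v4 C) [23, 40, 63, 82, 106, 109, 123] (v17 C) [14, 46, 68, 85, 92, 109, 124] :=
  C.conv (f6156 C) (f6564 C) (f6564 C) _ [142, 149, 170, 172, 178] _ (by decide +kernel) (by decide +kernel) (by decide +kernel)

theorem f8456 : C.T (v2 C) [25, 42, 58, 86, 103, 110, 113] (v18 C) [11, 45, 57, 85, 99, 121] :=
  C.conv (f6850 C) (f6867 C) (f7277 C) _ [142, 160, 170, 175] _ (by decide +kernel) (by decide +kernel) (by decide +kernel)

theorem f8457 : C.T (v18 C) [11, 45, 57, 85, 99, 121] (v2 C) [25, 42, 58, 86, 103, 110, 113] :=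
  C.flip (f8456 C)

theorem f8458 : C.T (v17 C) [5, 34, 63, 78, 97, 109, 118] (v18 C) [8, 27, 60, 84, 95, 109, 114] :=
  C.closeT (p := (v2 C)) (pu := [9, 37, 68, 75, 100, 125])
    (C.pT (f8454 C)
    (C.pH [26, 38, 54, 89, 90, 113] [23, 40, 63, 82, 106, 109, 123] (by decide +kernel)
    (C.pT (f8455 C)
    (C.pH [8, 30, 65, 84, 94, 117] [5, 34, 63, 78, 97, 109, 118] (by decide +kernel) (C.pNil _ _)))))
    (C.pH [26, 38, 54, 89, 90, 113] [11, 45, 57, 85, 99, 121] (by decide +kernel)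
    (C.pT (f8457 C)
    (C.pH [8, 30, 65, 84, 94, 117] [9, 37, 68, 75, 100, 125] (by decide +kernel) (C.pNil _ _))))
    (C.loop_of_one (relLoop2 C) _ _)

theorem f8459 : C.T (v18 C) [8, 27, 60, 84, 95, 109, 114] (v17 C) [5, 34, 63, 78, 97, 109, 118] :=
  C.flip (f8458 C)

theorem f8460 : C.T (v2 C) [8, 39, 55, 85, 93, 119] (v4 C) [5, 47, 57, 75, 98, 109, 123] :=
  C.conv (f857 C) (f864 C) (f864 C) _ [129, 152, 168, 177] _ (by decide +kernel) (by decide +kernel) (by decide +kernel)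

theorem f8461 : C.S (v4 C) [17, 35, 66, 70, 95] :=
  C.stMul (f421 C) (f407 C) _ (by decide +kernel)

theorem f8462 : C.S (v4 C) [13, 44, 51, 82, 106, 110, 111] :=
  C.stMul (f407 C) (f8461 C) _ (by decide +kernel)

theorem f8463 : C.S (v4 C) [21, 35, 69, 73, 94, 109, 122] :=
  C.stMul (f421 C) (f8462 C) _ (by decide +kernel)

theorem f8464 : C.S (v4 C) [18, 37, 59, 73, 102, 116] :=
  C.stMul (f693 C) (f8463 C) _ (by decide +kernel)

theorem f8465 : C.S (v4 C) [16, 45, 55, 88, 103, 109, 115] :=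
  C.stMul (f421 C) (f8464 C) _ (by decide +kernel)

theorem f8466 : C.T (v4 C) [8, 35, 65, 86, 104, 120] (v17 C) [6, 40, 55, 86, 102, 124] :=
  C.conv (f5526 C) (f407 C) (f8465 C) _ [139, 153, 165, 176, 177] _ (by decide +kernel) (by decide +kernel) (by decide +kernel)

theorem f8467 : C.S (v2 C) [25, 42, 57, 93, 113] :=
  C.stMul (f243 C) (f7187 C) _ (by decide +kernel)

theorem f8468 : C.T (v2 C) [40, 63, 79, 99, 109, 125] (v18 C) [6, 34, 93, 116] :=
  C.conv (f6850 C) (f6867 C) (f8467 C) _ [131, 159, 165, 172] _ (by decide +kernel) (by decide +kernel) (by decide +kernel)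

theorem f8469 : C.T (v18 C) [6, 34, 93, 116] (v2 C) [40, 63, 79, 99, 109, 125] :=
  C.flip (f8468 C)

theorem f8470 : C.T (v17 C) [13, 43, 50, 76, 110, 122] (v18 C) [21, 54, 84, 90, 110, 122] :=
  C.closeT (p := (v2 C)) (pu := [8, 39, 55, 85, 93, 119])
    (C.pT (f8460 C)
    (C.pH [26, 38, 54, 89, 90, 113] [8, 35, 65, 86, 104, 120] (by decide +kernel)
    (C.pT (f8466 C)
    (C.pH [8, 30, 65, 84, 94, 117] [13, 43, 50, 76, 110, 122] (by decide +kernel) (C.pNil _ _)))))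
    (C.pH [26, 38, 54, 89, 90, 113] [6, 34, 93, 116] (by decide +kernel)
    (C.pT (f8469 C)
    (C.pH [8, 30, 65, 84, 94, 117] [8, 39, 55, 85, 93, 119] (by decide +kernel) (C.pNil _ _))))
    (C.loop_of_one (relLoop2 C) _ _)

theorem f8471 : C.T (v18 C) [21, 54, 84, 90, 110, 122] (v17 C) [13, 43, 50, 76, 110, 122] :=
  C.flip (f8470 C)

theorem f8472 : C.T (v2 C) [9, 47, 65, 72, 91, 109, 113] (v4 C) [21, 43, 64, 77, 94, 117] :=
  C.conv (f857 C) (f864 C) (f864 C) _ [133, 163, 169, 176, 178] _ (by decide +kernel) (by decide +kernel) (by decide +kernel)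

theorem f8473 : C.S (v4 C) [17, 35, 66, 70, 95] :=
  C.stMul (f421 C) (f407 C) _ (by decide +kernel)

theorem f8474 : C.S (v4 C) [26, 44, 64, 94, 121] :=
  C.stMul (f693 C) (f8473 C) _ (by decide +kernel)

theorem f8475 : C.S (v4 C) [23, 27, 56, 70, 98, 125] :=
  C.stMul (f421 C) (f8474 C) _ (by decide +kernel)

theorem f8476 : C.S (v4 C) [33, 61, 77, 108, 110, 112] :=
  C.stMul (f407 C) (f8475 C) _ (by decide +kernel)

theorem f8477 : C.T (v4 C) [6, 39, 49, 83, 97, 110, 125] (v18 C) [13, 30, 51, 83, 108, 110] :=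
  C.conv (f7487 C) (f8474 C) (f8476 C) _ [133, 163, 170, 172, 178] _ (by decide +kernel) (by decide +kernel) (by decide +kernel)

theorem f8478 : C.S (v2 C) [28, 53, 81, 103, 109, 117] :=
  C.stMul (f138 C) (f109 C) _ (by decide +kernel)

theorem f8479 : C.S (v2 C) [11, 28, 66, 73, 95, 110, 113] :=
  C.stMul (f243 C) (f8478 C) _ (by decide +kernel)

theorem f8480 : C.S (v2 C) [5, 45, 62, 76, 104, 109, 119] :=
  C.stMul (f211 C) (f8479 C) _ (by decide +kernel)

theorem f8481 : C.T (v2 C) [25, 57, 70, 104, 110, 115] (v17 C) [9, 39, 66, 75, 108, 124] :=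
  C.conv (f6632 C) (f6971 C) (f8480 C) _ [140, 169, 171] _ (by decide +kernel) (by decide +kernel) (by decide +kernel)

theorem f8482 : C.T (v17 C) [9, 39, 66, 75, 108, 124] (v2 C) [25, 57, 70, 104, 110, 115] :=
  C.flip (f8481 C)

theorem f8483 : C.T (v18 C) [11, 49, 84, 108, 110, 112] (v17 C) [15, 40, 54, 86, 106, 110, 122] :=
  C.closeT (p := (v2 C)) (pu := [9, 47, 65, 72, 91, 109, 113])
    (C.pT (f8472 C)
    (C.pH [26, 38, 54, 89, 90, 113] [6, 39, 49, 83, 97, 110, 125] (by decide +kernel)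
    (C.pT (f8477 C)
    (C.pH [8, 30, 65, 84, 94, 117] [11, 49, 84, 108, 110, 112] (by decide +kernel) (C.pNil _ _)))))
    (C.pH [26, 38, 54, 89, 90, 113] [9, 39, 66, 75, 108, 124] (by decide +kernel)
    (C.pT (f8482 C)
    (C.pH [8, 30, 65, 84, 94, 117] [9, 47, 65, 72, 91, 109, 113] (by decide +kernel) (C.pNil _ _))))
    (C.loop_of_one (relLoop2 C) _ _)

theorem f8484 : C.T (v17 C) [15, 40, 54, 86, 106, 110, 122] (v18 C) [11, 49, 84, 108, 110, 112] :=
  C.flip (f8483 C)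

theorem f8485 : C.T (v2 C) [36, 67, 86, 97, 112] (v4 C) [7, 45, 57, 78, 101, 110, 123] :=
  C.conv (f857 C) (f864 C) (f864 C) _ [146, 149, 169, 173, 178] _ (by decide +kernel) (by decide +kernel) (by decide +kernel)

theorem f8486 : C.S (v4 C) [10, 27, 56, 84, 93, 109, 113] :=
  C.stMul (f407 C) (f421 C) _ (by decide +kernel)

theorem f8487 : C.S (v4 C) [25, 47, 59, 76, 103, 109, 113] :=
  C.stMul (f421 C) (f8486 C) _ (by decide +kernel)

theorem f8488 : C.S (v4 C) [17, 35, 66, 70, 95] :=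
  C.stMul (f421 C) (f407 C) _ (by decide +kernel)

theorem f8489 : C.S (v4 C) [13, 44, 51, 82, 106, 110, 111] :=
  C.stMul (f407 C) (f8488 C) _ (by decide +kernel)

theorem f8490 : C.S (v4 C) [21, 35, 69, 73, 94, 109, 122] :=
  C.stMul (f421 C) (f8489 C) _ (by decide +kernel)

theorem f8491 : C.S (v4 C) [18, 37, 59, 73, 102, 116] :=
  C.stMul (f693 C) (f8490 C) _ (by decide +kernel)

theorem f8492 : C.S (v4 C) [16, 45, 55, 88, 103, 109, 115] :=
  C.stMul (f421 C) (f8491 C) _ (by decide +kernel)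

theorem f8493 : C.T (v4 C) [45, 51, 89, 98, 109, 121] (v18 C) [16, 27, 61, 73, 105, 110, 114] :=
  C.conv (f8053 C) (f8487 C) (f8492 C) _ [139, 164, 173, 177] _ (by decide +kernel) (by decide +kernel) (by decide +kernel)

theorem f8494 : C.T (v2 C) [8, 32, 62, 70, 91, 109, 114] (v18 C) [12, 44, 60, 83, 108, 110] :=
  C.conv (f6830 C) (f323 C) (f7760 C) _ [134, 155, 165, 171] _ (by decide +kernel) (by decide +kernel) (by decide +kernel)

theorem f8495 : C.T (v18 C) [12, 44, 60, 83, 108, 110] (v2 C) [8, 32, 62, 70, 91, 109, 114] :=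
  C.flip (f8494 C)

theorem f8496 : C.T (v18 C) [20, 38, 57, 88, 99, 109] (v18 C) [24, 38, 66, 89, 99, 109, 115] :=
  C.closeT (p := (v2 C)) (pu := [36, 67, 86, 97, 112])
    (C.pT (f8485 C)
    (C.pH [26, 38, 54, 89, 90, 113] [45, 51, 89, 98, 109, 121] (by decide +kernel)
    (C.pT (f8493 C)
    (C.pH [8, 30, 65, 84, 94, 117] [20, 38, 57, 88, 99, 109] (by decide +kernel) (C.pNil _ _)))))
    (C.pH [26, 38, 54, 89, 90, 113] [12, 44, 60, 83, 108, 110] (by decide +kernel)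
    (C.pT (f8495 C)
    (C.pH [8, 30, 65, 84, 94, 117] [36, 67, 86, 97, 112] (by decide +kernel) (C.pNil _ _))))
    (C.loop_of_one (relLoop2 C) _ _)

theorem f8499 : C.T (v2 C) [8, 34, 58, 85, 92, 110, 117] (v4 C) [17, 47, 56, 86, 107, 110] :=
  C.conv (f857 C) (f864 C) (f864 C) _ [146, 152] _ (by decide +kernel) (by decide +kernel) (by decide +kernel)

theorem f8500 : C.S (v4 C) [10, 42, 56, 80, 93, 109, 122] :=
  C.stMul (f693 C) (f1319 C) _ (by decide +kernel)

theorem f8501 : C.S (v4 C) [25, 32, 52, 83, 96, 110, 121] :=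
  C.stMul (f421 C) (f8500 C) _ (by decide +kernel)

theorem f8502 : C.T (v4 C) [20, 48, 61, 74, 92, 110] (v6 C) [20, 27, 50, 74, 103, 109, 117] :=
  C.conv (f1276 C) (f407 C) (f8501 C) _ [131, 154, 166, 176, 177] _ (by decide +kernel) (by decide +kernel) (by decide +kernel)

theorem f8503 : C.S (v2 C) [20, 50, 86, 101, 109, 117] :=
  C.stMul (f115 C) (f211 C) _ (by decide +kernel)

theorem f8504 : C.S (v2 C) [10, 47, 56, 71, 92, 109, 123] :=
  C.stMul (f211 C) (f8503 C) _ (by decide +kernel)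

theorem f8505 : C.T (v2 C) [31, 50, 89, 103, 109, 121] (v18 C) [22, 42, 67, 75, 91, 110, 123] :=
  C.conv (f6830 C) (f323 C) (f8504 C) _ [144, 168, 176, 177] _ (by decide +kernel) (by decide +kernel) (by decide +kernel)

theorem f8506 : C.T (v18 C) [22, 42, 67, 75, 91, 110, 123] (v2 C) [31, 50, 89, 103, 109, 121] :=
  C.flip (f8505 C)

theorem f8507 : C.T (v6 C) [23, 29, 55, 74, 91, 110, 121] (v18 C) [9, 65, 75, 105, 110] :=
  C.closeT (p := (v2 C)) (pu := [8, 34, 58, 85, 92, 110, 117])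
    (C.pT (f8499 C)
    (C.pH [26, 38, 54, 89, 90, 113] [20, 48, 61, 74, 92, 110] (by decide +kernel)
    (C.pT (f8502 C)
    (C.pH [8, 30, 65, 84, 94, 117] [23, 29, 55, 74, 91, 110, 121] (by decide +kernel) (C.pNil _ _)))))
    (C.pH [26, 38, 54, 89, 90, 113] [22, 42, 67, 75, 91, 110, 123] (by decide +kernel)
    (C.pT (f8506 C)
    (C.pH [8, 30, 65, 84, 94, 117] [8, 34, 58, 85, 92, 110, 117] (by decide +kernel) (C.pNil _ _))))
    (C.loop_of_one (relLoop2 C) _ _)

theorem f8508 : C.T (v18 C) [9, 65, 75, 105, 110] (v6 C) [23, 29, 55, 74, 91, 110, 121] :=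
  C.flip (f8507 C)

theorem f8509 : C.T (v2 C) [7, 44, 62, 71, 107, 123] (v4 C) [23, 28, 52, 85, 96, 109, 113] :=
  C.conv (f857 C) (f864 C) (f864 C) _ [136, 157, 165, 175] _ (by decide +kernel) (by decide +kernel) (by decide +kernel)

theorem f8510 : C.S (v2 C) [6, 65, 80, 103, 110, 122] :=
  C.stMul (f109 C) (f6847 C) _ (by decide +kernel)

theorem f8511 : C.T (v2 C) [11, 45, 62, 86, 103, 110, 119] (v18 C) [18, 33, 79, 103, 120] :=
  C.conv (f6830 C) (f323 C) (f8510 C) _ [140, 158, 173] _ (by decide +kernel) (by decide +kernel) (by decide +kernel)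

theorem f8512 : C.T (v18 C) [18, 33, 79, 103, 120] (v2 C) [11, 45, 62, 86, 103, 110, 119] :=
  C.flip (f8511 C)

theorem f8513 : C.S (v18 C) [26, 43, 49, 77, 91, 110, 115] :=
  C.stMul (f6836 C) (f6836 C) _ (by decide +kernel)

theorem f8514 : C.T (v18 C) [25, 38, 55, 79, 103, 118] (v18 C) [11, 35, 58, 82, 100, 109, 124] :=
  C.conv (f8209 C) (f8513 C) (f7121 C) _ [142, 157, 168, 172] _ (by decide +kernel) (by decide +kernel) (by decide +kernel)

theorem f8515 : C.T (v18 C) [11, 35, 58, 82, 100, 109, 124] (v18 C) [25, 38, 55, 79, 103, 118] :=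
  C.flip (f8514 C)

theorem f8516 : C.T (v4 C) [7, 46, 68, 78, 106, 118] (v18 C) [13, 29, 51, 86, 93, 109, 125] :=
  C.closeT (p := (v2 C)) (pu := [7, 44, 62, 71, 107, 123])
    (C.pT (f8509 C)
    (C.pH [26, 38, 54, 89, 90, 113] [7, 46, 68, 78, 106, 118] (by decide +kernel) (C.pNil _ _)))
    (C.pH [8, 30, 65, 84, 94, 117] [11, 35, 58, 82, 100, 109, 124] (by decide +kernel)
    (C.pT (f8515 C)
    (C.pH [26, 38, 54, 89, 90, 113] [18, 33, 79, 103, 120] (by decide +kernel)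
    (C.pT (f8512 C)
    (C.pH [8, 30, 65, 84, 94, 117] [7, 44, 62, 71, 107, 123] (by decide +kernel) (C.pNil _ _))))))
    (C.loop_of_one (relLoop2 C) _ _)

theorem f8517 : C.T (v18 C) [13, 29, 51, 86, 93, 109, 125] (v4 C) [7, 46, 68, 78, 106, 118] :=
  C.flip (f8516 C)

theorem f8518 : C.T (v2 C) [24, 29, 64, 78, 105, 110, 120] (v4 C) [4, 32, 55, 70, 104, 112] :=
  C.conv (f857 C) (f864 C) (f864 C) _ [148, 163, 170, 172, 178] _ (by decide +kernel) (by decide +kernel) (by decide +kernel)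

theorem f8519 : C.S (v4 C) [17, 35, 66, 70, 95] :=
  C.stMul (f421 C) (f407 C) _ (by decide +kernel)

theorem f8520 : C.S (v4 C) [13, 44, 51, 82, 106, 110, 111] :=
  C.stMul (f407 C) (f8519 C) _ (by decide +kernel)

theorem f8521 : C.S (v4 C) [21, 35, 69, 73, 94, 109, 122] :=
  C.stMul (f421 C) (f8520 C) _ (by decide +kernel)

theorem f8522 : C.S (v4 C) [18, 46, 49, 75, 97, 110, 118] :=
  C.stMul (f407 C) (f407 C) _ (by decide +kernel)

theorem f8523 : C.S (v4 C) [23, 45, 57, 77, 95, 110, 118] :=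
  C.stMul (f407 C) (f8522 C) _ (by decide +kernel)

theorem f8524 : C.S (v4 C) [26, 43, 63, 73, 104, 112] :=
  C.stMul (f421 C) (f8523 C) _ (by decide +kernel)

theorem f8525 : C.S (v4 C) [25, 46, 61, 102, 110, 119] :=
  C.stMul (f407 C) (f8524 C) _ (by decide +kernel)

theorem f8526 : C.S (v4 C) [26, 42, 68, 71, 107, 109, 113] :=
  C.stMul (f407 C) (f8525 C) _ (by decide +kernel)

theorem f8527 : C.T (v4 C) [25, 44, 55, 86, 94, 116] (v18 C) [13, 32, 53, 72, 92, 109, 114] :=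
  C.conv (f7891 C) (f8521 C) (f8526 C) _ [128, 163, 167, 176, 177] _ (by decide +kernel) (by decide +kernel) (by decide +kernel)

theorem f8528 : C.S (v2 C) [4, 48, 69, 79, 94, 109, 124] :=
  C.stMul (f211 C) (f211 C) _ (by decide +kernel)

theorem f8529 : C.S (v2 C) [18, 29, 60, 79, 92, 109, 112] :=
  C.stMul (f115 C) (f8528 C) _ (by decide +kernel)

theorem f8530 : C.S (v2 C) [28, 64, 80, 95, 114] :=
  C.stMul (f211 C) (f8529 C) _ (by decide +kernel)

theorem f8531 : C.T (v2 C) [21, 44, 51, 81, 95, 117] (v18 C) [6, 37, 49, 80, 94, 110, 120] :=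
  C.conv (f6850 C) (f6867 C) (f8530 C) _ [126, 158, 169, 174] _ (by decide +kernel) (by decide +kernel) (by decide +kernel)

theorem f8532 : C.T (v18 C) [6, 37, 49, 80, 94, 110, 120] (v2 C) [21, 44, 51, 81, 95, 117] :=
  C.flip (f8531 C)

theorem f8533 : C.T (v18 C) [11, 33, 57, 72, 98, 110, 113] (v18 C) [21, 46, 69, 87, 95, 110, 118] :=
  C.closeT (p := (v2 C)) (pu := [24, 29, 64, 78, 105, 110, 120])
    (C.pT (f8518 C)
    (C.pH [26, 38, 54, 89, 90, 113] [25, 44, 55, 86, 94, 116] (by decide +kernel)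
    (C.pT (f8527 C)
    (C.pH [8, 30, 65, 84, 94, 117] [11, 33, 57, 72, 98, 110, 113] (by decide +kernel) (C.pNil _ _)))))
    (C.pH [26, 38, 54, 89, 90, 113] [6, 37, 49, 80, 94, 110, 120] (by decide +kernel)
    (C.pT (f8532 C)
    (C.pH [8, 30, 65, 84, 94, 117] [24, 29, 64, 78, 105, 110, 120] (by decide +kernel) (C.pNil _ _))))
    (C.loop_of_one (relLoop2 C) _ _)

theorem f8534 : C.T (v18 C) [21, 46, 69, 87, 95, 110, 118] (v18 C) [11, 33, 57, 72, 98, 110, 113] :=
  C.flip (f8533 C)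

theorem f8535 : C.T (v2 C) [5, 43, 50, 70, 95, 120] (v4 C) [26, 38, 52, 72, 101, 110, 120] :=
  C.conv (f857 C) (f864 C) (f864 C) _ [146, 152, 169, 171, 177] _ (by decide +kernel) (by decide +kernel) (by decide +kernel)

theorem f8536 : C.S (v4 C) [18, 46, 49, 75, 97, 110, 118] :=
  C.stMul (f407 C) (f407 C) _ (by decide +kernel)

theorem f8537 : C.S (v4 C) [16, 43, 64, 82, 90, 110, 123] :=
  C.stMul (f421 C) (f8536 C) _ (by decide +kernel)

theorem f8538 : C.S (v4 C) [10, 27, 56, 84, 93, 109, 113] :=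
  C.stMul (f407 C) (f421 C) _ (by decide +kernel)

theorem f8539 : C.S (v4 C) [25, 47, 59, 76, 103, 109, 113] :=
  C.stMul (f421 C) (f8538 C) _ (by decide +kernel)

theorem f8540 : C.S (v4 C) [13, 41, 65, 83, 103, 110, 118] :=
  C.stMul (f693 C) (f8539 C) _ (by decide +kernel)

theorem f8541 : C.T (v4 C) [16, 39, 58, 76, 106, 109, 111] (v18 C) [17, 41, 67, 88, 110, 122] :=
  C.conv (f8315 C) (f8537 C) (f8540 C) _ [133, 161, 167, 176, 177] _ (by decide +kernel) (by decide +kernel) (by decide +kernel)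

theorem f8542 : C.S (v2 C) [57, 81, 107, 110, 123] :=
  C.stMul (f149 C) (f115 C) _ (by decide +kernel)

theorem f8543 : C.S (v2 C) [9, 44, 60, 72, 94, 124] :=
  C.stMul (f211 C) (f8542 C) _ (by decide +kernel)

theorem f8544 : C.T (v2 C) [14, 44, 56, 88, 103, 125] (v4 C) [20, 27, 52, 99, 110] :=
  C.conv (f857 C) (f864 C) (f8543 C) _ [139, 151, 175, 177] _ (by decide +kernel) (by decide +kernel) (by decide +kernel)

theorem f8545 : C.T (v4 C) [20, 27, 52, 99, 110] (v2 C) [14, 44, 56, 88, 103, 125] :=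
  C.flip (f8544 C)

theorem f8546 : C.T (v18 C) [22, 32, 59, 88, 103, 110, 113] (v4 C) [17, 31, 51, 70, 107, 123] :=
  C.closeT (p := (v2 C)) (pu := [5, 43, 50, 70, 95, 120])
    (C.pT (f8535 C)
    (C.pH [26, 38, 54, 89, 90, 113] [16, 39, 58, 76, 106, 109, 111] (by decide +kernel)
    (C.pT (f8541 C)
    (C.pH [8, 30, 65, 84, 94, 117] [22, 32, 59, 88, 103, 110, 113] (by decide +kernel) (C.pNil _ _)))))
    (C.pH [26, 38, 54, 89, 90, 113] [20, 27, 52, 99, 110] (by decide +kernel)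
    (C.pT (f8545 C)
    (C.pH [8, 30, 65, 84, 94, 117] [5, 43, 50, 70, 95, 120] (by decide +kernel) (C.pNil _ _))))
    (C.loop_of_one (relLoop2 C) _ _)

theorem f8547 : C.T (v4 C) [17, 31, 51, 70, 107, 123] (v18 C) [22, 32, 59, 88, 103, 110, 113] :=
  C.flip (f8546 C)

theorem f8548 : C.T (v2 C) [21, 63, 85, 107, 119] (v4 C) [13, 34, 78, 105, 109, 124] :=
  C.conv (f857 C) (f864 C) (f864 C) _ [133, 155, 169, 171, 178] _ (by decide +kernel) (by decide +kernel) (by decide +kernel)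

theorem f8549 : C.S (v4 C) [13, 28, 60, 83, 108, 110, 119] :=
  C.stMul (f421 C) (f693 C) _ (by decide +kernel)

theorem f8550 : C.S (v4 C) [17, 45, 53, 80, 99, 109, 123] :=
  C.stMul (f407 C) (f8549 C) _ (by decide +kernel)

theorem f8551 : C.S (v4 C) [18, 46, 49, 75, 97, 110, 118] :=
  C.stMul (f407 C) (f407 C) _ (by decide +kernel)

theorem f8552 : C.S (v4 C) [16, 43, 64, 82, 90, 110, 123] :=
  C.stMul (f421 C) (f8551 C) _ (by decide +kernel)

theorem f8553 : C.T (v4 C) [23, 34, 63, 70, 97, 110, 124] (v18 C) [7, 27, 59, 86, 106, 109, 119] :=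
  C.conv (f8547 C) (f8550 C) (f8552 C) _ [144, 151, 170, 176, 177] _ (by decide +kernel) (by decide +kernel) (by decide +kernel)

theorem f8554 : C.S (v2 C) [13, 42, 61, 82, 90, 110, 116] :=
  C.stMul (f243 C) (f7013 C) _ (by decide +kernel)

theorem f8555 : C.S (v2 C) [19, 40, 82, 99, 110, 114] :=
  C.stMul (f211 C) (f8554 C) _ (by decide +kernel)

theorem f8556 : C.T (v2 C) [12, 37, 62, 108, 111] (v18 C) [10, 28, 56, 84, 91, 109, 113] :=
  C.conv (f6850 C) (f6867 C) (f8555 C) _ [146, 151, 169, 176, 177] _ (by decide +kernel) (by decide +kernel) (by decide +kernel)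

theorem f8557 : C.T (v18 C) [10, 28, 56, 84, 91, 109, 113] (v2 C) [12, 37, 62, 108, 111] :=
  C.flip (f8556 C)

theorem f8558 : C.T (v18 C) [17, 39, 59, 86, 106, 109, 119] (v18 C) [18, 47, 56, 70, 102, 109, 116] :=
  C.closeT (p := (v2 C)) (pu := [21, 63, 85, 107, 119])
    (C.pT (f8548 C)
    (C.pH [26, 38, 54, 89, 90, 113] [23, 34, 63, 70, 97, 110, 124] (by decide +kernel)
    (C.pT (f8553 C)
    (C.pH [8, 30, 65, 84, 94, 117] [17, 39, 59, 86, 106, 109, 119] (by decide +kernel) (C.pNil _ _)))))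
    (C.pH [26, 38, 54, 89, 90, 113] [10, 28, 56, 84, 91, 109, 113] (by decide +kernel)
    (C.pT (f8557 C)
    (C.pH [8, 30, 65, 84, 94, 117] [21, 63, 85, 107, 119] (by decide +kernel) (C.pNil _ _))))
    (C.loop_of_one (relLoop2 C) _ _)

theorem f8559 : C.T (v18 C) [18, 47, 56, 70, 102, 109, 116] (v18 C) [17, 39, 59, 86, 106, 109, 119] :=
  C.flip (f8558 C)

theorem f8560 : C.T (v2 C) [28, 59, 78, 90, 110, 114] (v4 C) [20, 35, 54, 74, 91, 110] :=
  C.conv (f857 C) (f864 C) (f864 C) _ [139, 156, 176, 177] _ (by decide +kernel) (by decide +kernel) (by decide +kernel)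

theorem f8561 : C.S (v4 C) [16, 46, 68, 72, 103, 110, 111] :=
  C.stMul (f693 C) (f2623 C) _ (by decide +kernel)

theorem f8562 : C.T (v4 C) [15, 36, 54, 84, 104, 118] (v15 C) [11, 40, 88, 99, 110, 112] :=
  C.conv (f2613 C) (f2621 C) (f8561 C) _ [144, 163, 168, 176, 178] _ (by decide +kernel) (by decide +kernel) (by decide +kernel)

theorem f8563 : C.S (v2 C) [23, 43, 66, 83, 103, 109, 120] :=
  C.stMul (f149 C) (f7408 C) _ (by decide +kernel)

theorem f8564 : C.S (v2 C) [21, 36, 64, 82, 106, 114] :=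
  C.stMul (f243 C) (f8563 C) _ (by decide +kernel)

theorem f8565 : C.T (v2 C) [8, 52, 81, 98, 109, 112] (v18 C) [13, 44, 49, 88, 90, 116] :=
  C.conv (f6850 C) (f6867 C) (f8564 C) _ [143, 158, 165, 174] _ (by decide +kernel) (by decide +kernel) (by decide +kernel)

theorem f8566 : C.T (v18 C) [13, 44, 49, 88, 90, 116] (v2 C) [8, 52, 81, 98, 109, 112] :=
  C.flip (f8565 C)

theorem f8567 : C.T (v15 C) [7, 31, 53, 87, 95, 109, 113] (v18 C) [16, 27, 64, 87, 103, 117] :=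
  C.closeT (p := (v2 C)) (pu := [28, 59, 78, 90, 110, 114])
    (C.pT (f8560 C)
    (C.pH [26, 38, 54, 89, 90, 113] [15, 36, 54, 84, 104, 118] (by decide +kernel)
    (C.pT (f8562 C)
    (C.pH [8, 30, 65, 84, 94, 117] [7, 31, 53, 87, 95, 109, 113] (by decide +kernel) (C.pNil _ _)))))
    (C.pH [26, 38, 54, 89, 90, 113] [13, 44, 49, 88, 90, 116] (by decide +kernel)
    (C.pT (f8566 C)
    (C.pH [8, 30, 65, 84, 94, 117] [28, 59, 78, 90, 110, 114] (by decide +kernel) (C.pNil _ _))))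
    (C.loop_of_one (relLoop2 C) _ _)

theorem f8568 : C.T (v18 C) [16, 27, 64, 87, 103, 117] (v15 C) [7, 31, 53, 87, 95, 109, 113] :=
  C.flip (f8567 C)

theorem f8569 : C.T (v2 C) [7, 41, 63, 93, 116] (v4 C) [23, 73, 108, 109, 125] :=
  C.conv (f857 C) (f864 C) (f864 C) _ [148, 154, 168, 171, 178] _ (by decide +kernel) (by decide +kernel) (by decide +kernel)

theorem f8570 : C.S (v4 C) [18, 46, 49, 75, 97, 110, 118] :=
  C.stMul (f407 C) (f407 C) _ (by decide +kernel)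

theorem f8571 : C.S (v4 C) [17, 35, 66, 70, 95] :=
  C.stMul (f421 C) (f407 C) _ (by decide +kernel)

theorem f8572 : C.S (v4 C) [26, 44, 64, 94, 121] :=
  C.stMul (f693 C) (f8571 C) _ (by decide +kernel)

theorem f8573 : C.S (v4 C) [23, 27, 56, 70, 98, 125] :=
  C.stMul (f421 C) (f8572 C) _ (by decide +kernel)

theorem f8574 : C.T (v4 C) [7, 30, 58, 72, 101, 109, 119] (v18 C) [26, 42, 55, 74, 94, 109, 116] :=
  C.conv (f6895 C) (f8570 C) (f8573 C) _ [134, 156, 170, 171, 178] _ (by decide +kernel) (by decide +kernel) (by decide +kernel)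

theorem f8575 : C.S (v2 C) [22, 45, 58, 92, 109] :=
  C.stMul (f243 C) (f109 C) _ (by decide +kernel)

theorem f8576 : C.S (v2 C) [23, 43, 60, 86, 108, 125] :=
  C.stMul (f243 C) (f8575 C) _ (by decide +kernel)

theorem f8577 : C.T (v2 C) [11, 27, 68, 86, 99, 111] (v18 C) [13, 30, 65, 83, 108, 111] :=
  C.conv (f8124 C) (f8182 C) (f8576 C) _ [132, 161, 167, 173, 178] _ (by decide +kernel) (by decide +kernel) (by decide +kernel)

theorem f8578 : C.T (v18 C) [13, 30, 65, 83, 108, 111] (v2 C) [11, 27, 68, 86, 99, 111] :=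
  C.flip (f8577 C)

theorem f8579 : C.T (v18 C) [14, 33, 61, 89, 95, 115] (v18 C) [16, 29, 52, 77, 108, 109, 124] :=
  C.closeT (p := (v2 C)) (pu := [7, 41, 63, 93, 116])
    (C.pT (f8569 C)
    (C.pH [26, 38, 54, 89, 90, 113] [7, 30, 58, 72, 101, 109, 119] (by decide +kernel)
    (C.pT (f8574 C)
    (C.pH [8, 30, 65, 84, 94, 117] [14, 33, 61, 89, 95, 115] (by decide +kernel) (C.pNil _ _)))))
    (C.pH [26, 38, 54, 89, 90, 113] [13, 30, 65, 83, 108, 111] (by decide +kernel)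
    (C.pT (f8578 C)
    (C.pH [8, 30, 65, 84, 94, 117] [7, 41, 63, 93, 116] (by decide +kernel) (C.pNil _ _))))
    (C.loop_of_one (relLoop2 C) _ _)

theorem f8582 : C.T (v2 C) [23, 39, 58, 77, 108, 110, 120] (v5 C) [7, 41, 67, 78, 105, 125] :=
  C.conv (f982 C) (f323 C) (f323 C) _ [129, 154, 168, 171, 178] _ (by decide +kernel) (by decide +kernel) (by decide +kernel)

theorem f8583 : C.S (v5 C) [7, 29, 66, 74, 106, 124] :=
  C.stMul (f1141 C) (f986 C) _ (by decide +kernel)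

theorem f8584 : C.S (v5 C) [7, 35, 57, 86, 101, 110, 119] :=
  C.stMul (f1008 C) (f8583 C) _ (by decide +kernel)

theorem f8585 : C.S (v5 C) [24, 37, 62, 89, 125] :=
  C.stMul (f1023 C) (f8584 C) _ (by decide +kernel)

theorem f8586 : C.T (v5 C) [47, 49, 96, 110, 112] (v18 C) [8, 40, 59, 81, 94, 109, 121] :=
  C.conv (f6953 C) (f7672 C) (f8585 C) _ [143, 160, 168, 176, 177] _ (by decide +kernel) (by decide +kernel) (by decide +kernel)

theorem f8587 : C.T (v2 C) [20, 29, 62, 88, 96, 109, 114] (v17 C) [17, 33, 56, 80, 101, 109, 122] :=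
  C.conv (f6632 C) (f6971 C) (f7742 C) _ [129, 177] _ (by decide +kernel) (by decide +kernel) (by decide +kernel)

theorem f8588 : C.T (v17 C) [17, 33, 56, 80, 101, 109, 122] (v2 C) [20, 29, 62, 88, 96, 109, 114] :=
  C.flip (f8587 C)

theorem f8589 : C.T (v18 C) [32, 63, 81, 93, 121] (v17 C) [19, 27, 63, 76, 90, 112] :=
  C.closeT (p := (v2 C)) (pu := [23, 39, 58, 77, 108, 110, 120])
    (C.pT (f8582 C)
    (C.pH [26, 38, 54, 89, 90, 113] [47, 49, 96, 110, 112] (by decide +kernel)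
    (C.pT (f8586 C)
    (C.pH [8, 30, 65, 84, 94, 117] [32, 63, 81, 93, 121] (by decide +kernel) (C.pNil _ _)))))
    (C.pH [26, 38, 54, 89, 90, 113] [17, 33, 56, 80, 101, 109, 122] (by decide +kernel)
    (C.pT (f8588 C)
    (C.pH [8, 30, 65, 84, 94, 117] [23, 39, 58, 77, 108, 110, 120] (by decide +kernel) (C.pNil _ _))))
    (C.loop_of_one (relLoop2 C) _ _)

theorem f8590 : C.T (v17 C) [19, 27, 63, 76, 90, 112] (v18 C) [32, 63, 81, 93, 121] :=
  C.flip (f8589 C)

theorem f8591 : C.T (v2 C) [13, 35, 51, 72, 104, 110, 115] (v5 C) [21, 46, 86, 105, 110, 119] :=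
  C.conv (f982 C) (f323 C) (f323 C) _ [143, 157, 170, 171, 177] _ (by decide +kernel) (by decide +kernel) (by decide +kernel)

theorem f8592 : C.S (v2 C) [24, 37, 65, 70, 95, 110, 119] :=
  C.stMul (f115 C) (f243 C) _ (by decide +kernel)

theorem f8593 : C.T (v2 C) [6, 31, 57, 89, 116] (v3 C) [14, 28, 69, 73, 110, 122] :=
  C.conv (f817 C) (f837 C) (f8592 C) _ [140, 152, 167, 172] _ (by decide +kernel) (by decide +kernel) (by decide +kernel)

theorem f8594 : C.T (v3 C) [14, 28, 69, 73, 110, 122] (v2 C) [6, 31, 57, 89, 116] :=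
  C.flip (f8593 C)

theorem f8595 : C.S (v3 C) [12, 29, 49, 79, 92, 110, 117] :=
  C.stMul (f353 C) (f7399 C) _ (by decide +kernel)

theorem f8596 : C.S (v3 C) [25, 34, 84, 93, 109, 116] :=
  C.stMul (f335 C) (f8595 C) _ (by decide +kernel)

theorem f8597 : C.S (v3 C) [21, 32, 61, 77, 107, 110, 118] :=
  C.stMul (f328 C) (f8596 C) _ (by decide +kernel)

theorem f8598 : C.T (v3 C) [12, 48, 68, 75, 107, 109, 125] (v18 C) [4, 29, 66, 82, 100, 110, 117] :=
  C.conv (f6916 C) (f7402 C) (f8597 C) _ [134, 158, 169, 173, 178] _ (by decide +kernel) (by decide +kernel) (by decide +kernel)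

theorem f8599 : C.T (v18 C) [4, 29, 66, 82, 100, 110, 117] (v3 C) [12, 48, 68, 75, 107, 109, 125] :=
  C.flip (f8598 C)

theorem f8600 : C.T (v5 C) [6, 37, 63, 81, 104, 109, 111] (v18 C) [18, 47, 61, 86, 111] :=
  C.closeT (p := (v2 C)) (pu := [13, 35, 51, 72, 104, 110, 115])
    (C.pT (f8591 C)
    (C.pH [26, 38, 54, 89, 90, 113] [6, 37, 63, 81, 104, 109, 111] (by decide +kernel) (C.pNil _ _)))
    (C.pH [8, 30, 65, 84, 94, 117] [4, 29, 66, 82, 100, 110, 117] (by decide +kernel)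
    (C.pT (f8599 C)
    (C.pH [26, 38, 54, 89, 90, 113] [14, 28, 69, 73, 110, 122] (by decide +kernel)
    (C.pT (f8594 C)
    (C.pH [8, 30, 65, 84, 94, 117] [13, 35, 51, 72, 104, 110, 115] (by decide +kernel) (C.pNil _ _))))))
    (C.loop_of_one (relLoop2 C) _ _)

theorem f8601 : C.T (v18 C) [18, 47, 61, 86, 111] (v5 C) [6, 37, 63, 81, 104, 109, 111] :=
  C.flip (f8600 C)

theorem f8602 : C.T (v2 C) [10, 39, 51, 76, 106, 122] (v5 C) [13, 35, 54, 76, 92, 110, 123] :=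
  C.conv (f982 C) (f323 C) (f323 C) _ [135, 155, 169, 175, 177] _ (by decide +kernel) (by decide +kernel) (by decide +kernel)

theorem f8603 : C.S (v5 C) [85, 93, 110, 124] :=
  C.stMul (f1008 C) (f3296 C) _ (by decide +kernel)

theorem f8604 : C.S (v5 C) [20, 32, 52, 87, 103, 121] :=
  C.stMul (f1023 C) (f8603 C) _ (by decide +kernel)

theorem f8605 : C.S (v5 C) [13, 31, 66, 86, 92, 111] :=
  C.stMul (f986 C) (f8604 C) _ (by decide +kernel)

theorem f8606 : C.T (v5 C) [23, 37, 60, 77, 95, 121] (v15 C) [17, 46, 67, 78, 109] :=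
  C.conv (f3125 C) (f3223 C) (f8605 C) _ [157, 172, 178] _ (by decide +kernel) (by decide +kernel) (by decide +kernel)

theorem f8607 : C.S (v2 C) [13, 27, 52, 84, 106, 121] :=
  C.stMul (f138 C) (f8090 C) _ (by decide +kernel)

theorem f8608 : C.T (v2 C) [23, 46, 69, 79, 103, 109, 124] (v18 C) [24, 57, 80, 101, 109, 121] :=
  C.conv (f6850 C) (f6867 C) (f8607 C) _ [147, 159, 167, 172] _ (by decide +kernel) (by decide +kernel) (by decide +kernel)

theorem f8609 : C.T (v18 C) [24, 57, 80, 101, 109, 121] (v2 C) [23, 46, 69, 79, 103, 109, 124] :=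
  C.flip (f8608 C)

theorem f8610 : C.T (v15 C) [22, 46, 55, 98, 110, 124] (v18 C) [11, 46, 51, 75, 97, 110, 116] :=
  C.closeT (p := (v2 C)) (pu := [10, 39, 51, 76, 106, 122])
    (C.pT (f8602 C)
    (C.pH [26, 38, 54, 89, 90, 113] [23, 37, 60, 77, 95, 121] (by decide +kernel)
    (C.pT (f8606 C)
    (C.pH [8, 30, 65, 84, 94, 117] [22, 46, 55, 98, 110, 124] (by decide +kernel) (C.pNil _ _)))))
    (C.pH [26, 38, 54, 89, 90, 113] [24, 57, 80, 101, 109, 121] (by decide +kernel)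
    (C.pT (f8609 C)
    (C.pH [8, 30, 65, 84, 94, 117] [10, 39, 51, 76, 106, 122] (by decide +kernel) (C.pNil _ _))))
    (C.loop_of_one (relLoop2 C) _ _)

theorem f8611 : C.T (v18 C) [11, 46, 51, 75, 97, 110, 116] (v15 C) [22, 46, 55, 98, 110, 124] :=
  C.flip (f8610 C)

theorem f8612 : C.T (v2 C) [22, 29, 55, 72, 97, 113] (v5 C) [12, 34, 61, 80, 92, 120] :=
  C.conv (f982 C) (f323 C) (f323 C) _ [134, 159, 165, 171, 178] _ (by decide +kernel) (by decide +kernel) (by decide +kernel)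

theorem f8613 : C.S (v5 C) [20, 35, 58, 88, 120] :=
  C.stMul (f1023 C) (f1008 C) _ (by decide +kernel)

theorem f8614 : C.S (v5 C) [10, 44, 68, 76, 97, 110, 125] :=
  C.stMul (f1023 C) (f8613 C) _ (by decide +kernel)

theorem f8615 : C.S (v5 C) [9, 33, 66, 75, 101, 109, 123] :=
  C.stMul (f986 C) (f1141 C) _ (by decide +kernel)

theorem f8616 : C.S (v5 C) [36, 66, 72, 105, 113] :=
  C.stMul (f986 C) (f8615 C) _ (by decide +kernel)

theorem f8617 : C.T (v5 C) [14, 40, 59, 89, 105, 110, 118] (v17 C) [17, 31, 49, 70, 93, 123] :=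
  C.conv (f6148 C) (f8614 C) (f8616 C) _ [132, 149, 170, 173, 178] _ (by decide +kernel) (by decide +kernel) (by decide +kernel)

theorem f8618 : C.S (v2 C) [18, 29, 51, 76, 105, 109, 120] :=
  C.stMul (f138 C) (f8204 C) _ (by decide +kernel)

theorem f8619 : C.T (v2 C) [17, 39, 54, 75, 92, 110, 113] (v18 C) [6, 46, 56, 84, 102, 125] :=
  C.conv (f8124 C) (f8182 C) (f8618 C) _ [132, 163, 170, 177] _ (by decide +kernel) (by decide +kernel) (by decide +kernel)

theorem f8620 : C.T (v18 C) [6, 46, 56, 84, 102, 125] (v2 C) [17, 39, 54, 75, 92, 110, 113] :=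
  C.flip (f8619 C)

theorem f8621 : C.T (v17 C) [22, 47, 68, 83, 92, 124] (v18 C) [21, 39, 60, 87, 103, 125] :=
  C.closeT (p := (v2 C)) (pu := [22, 29, 55, 72, 97, 113])
    (C.pT (f8612 C)
    (C.pH [26, 38, 54, 89, 90, 113] [14, 40, 59, 89, 105, 110, 118] (by decide +kernel)
    (C.pT (f8617 C)
    (C.pH [8, 30, 65, 84, 94, 117] [22, 47, 68, 83, 92, 124] (by decide +kernel) (C.pNil _ _)))))
    (C.pH [26, 38, 54, 89, 90, 113] [6, 46, 56, 84, 102, 125] (by decide +kernel)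
    (C.pT (f8620 C)
    (C.pH [8, 30, 65, 84, 94, 117] [22, 29, 55, 72, 97, 113] (by decide +kernel) (C.pNil _ _))))
    (C.loop_of_one (relLoop2 C) _ _)

theorem f8622 : C.T (v18 C) [21, 39, 60, 87, 103, 125] (v17 C) [22, 47, 68, 83, 92, 124] :=
  C.flip (f8621 C)

theorem f8623 : C.T (v2 C) [11, 82, 108, 109, 115] (v5 C) [23, 29, 65, 78, 101] :=
  C.conv (f982 C) (f323 C) (f323 C) _ [145, 163, 169] _ (by decide +kernel) (by decide +kernel) (by decide +kernel)

theorem f8624 : C.S (v5 C) [20, 35, 58, 88, 120] :=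
  C.stMul (f1023 C) (f1008 C) _ (by decide +kernel)

theorem f8625 : C.S (v5 C) [13, 30, 62, 74, 92, 120] :=
  C.stMul (f986 C) (f8624 C) _ (by decide +kernel)

theorem f8626 : C.S (v5 C) [7, 29, 66, 76, 90, 117] :=
  C.stMul (f1023 C) (f8625 C) _ (by decide +kernel)

theorem f8627 : C.S (v5 C) [24, 39, 60, 77, 103, 109, 120] :=
  C.stMul (f1023 C) (f8626 C) _ (by decide +kernel)

theorem f8628 : C.S (v5 C) [20, 48, 54, 82, 103, 116] :=
  C.stMul (f1023 C) (f1141 C) _ (by decide +kernel)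

theorem f8629 : C.S (v5 C) [13, 48, 52, 86, 106, 109, 113] :=
  C.stMul (f986 C) (f8628 C) _ (by decide +kernel)

theorem f8630 : C.T (v5 C) [7, 38, 51, 82, 97, 109, 118] (v18 C) [4, 47, 50, 71, 108, 110, 111] :=
  C.conv (f8381 C) (f8627 C) (f8629 C) _ [148, 167, 178] _ (by decide +kernel) (by decide +kernel) (by decide +kernel)

theorem f8631 : C.T (v2 C) [13, 30, 58, 89, 106, 112] (v18 C) [15, 39, 62, 87, 95, 111] :=
  C.conv (f6850 C) (f6867 C) (f7012 C) _ [141, 150, 168, 176, 177] _ (by decide +kernel) (by decide +kernel) (by decide +kernel)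

theorem f8632 : C.T (v18 C) [15, 39, 62, 87, 95, 111] (v2 C) [13, 30, 58, 89, 106, 112] :=
  C.flip (f8631 C)

theorem f8633 : C.T (v18 C) [25, 36, 58, 74, 90, 114] (v18 C) [20, 46, 79, 90, 109, 122] :=
  C.closeT (p := (v2 C)) (pu := [11, 82, 108, 109, 115])
    (C.pT (f8623 C)
    (C.pH [26, 38, 54, 89, 90, 113] [7, 38, 51, 82, 97, 109, 118] (by decide +kernel)
    (C.pT (f8630 C)
    (C.pH [8, 30, 65, 84, 94, 117] [25, 36, 58, 74, 90, 114] (by decide +kernel) (C.pNil _ _)))))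
    (C.pH [26, 38, 54, 89, 90, 113] [15, 39, 62, 87, 95, 111] (by decide +kernel)
    (C.pT (f8632 C)
    (C.pH [8, 30, 65, 84, 94, 117] [11, 82, 108, 109, 115] (by decide +kernel) (C.pNil _ _))))
    (C.loop_of_one (relLoop2 C) _ _)

theorem f8637 : C.T (v2 C) [22, 28, 55, 74, 100, 116] (v5 C) [23, 32, 66, 80, 93, 109] :=
  C.conv (f982 C) (f323 C) (f323 C) _ [145, 153, 168, 174, 178] _ (by decide +kernel) (by decide +kernel) (by decide +kernel)

theorem f8638 : C.T (v5 C) [7, 41, 67, 73, 91, 109, 121] (v15 C) [10, 30, 62, 86, 96, 109, 125] :=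
  C.conv (f2774 C) (f3179 C) (f3181 C) _ [143, 161, 169, 175, 177] _ (by decide +kernel) (by decide +kernel) (by decide +kernel)

theorem f8639 : C.S (v2 C) [20, 65, 72, 104, 109, 120] :=
  C.stMul (f125 C) (f211 C) _ (by decide +kernel)

theorem f8640 : C.S (v2 C) [4, 48, 58, 78, 95, 110, 122] :=
  C.stMul (f138 C) (f8639 C) _ (by decide +kernel)

theorem f8641 : C.T (v2 C) [17, 27, 67, 74, 94, 110, 125] (v18 C) [15, 68, 72, 98, 110, 119] :=
  C.conv (f8124 C) (f8182 C) (f8640 C) _ [148, 159, 167, 171] _ (by decide +kernel) (by decide +kernel) (by decide +kernel)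

theorem f8642 : C.T (v18 C) [15, 68, 72, 98, 110, 119] (v2 C) [17, 27, 67, 74, 94, 110, 125] :=
  C.flip (f8641 C)

theorem f8643 : C.T (v15 C) [15, 31, 64, 88, 103, 112] (v18 C) [20, 48, 66, 83, 93, 110, 118] :=
  C.closeT (p := (v2 C)) (pu := [22, 28, 55, 74, 100, 116])
    (C.pT (f8637 C)
    (C.pH [26, 38, 54, 89, 90, 113] [7, 41, 67, 73, 91, 109, 121] (by decide +kernel)
    (C.pT (f8638 C)
    (C.pH [8, 30, 65, 84, 94, 117] [15, 31, 64, 88, 103, 112] (by decide +kernel) (C.pNil _ _)))))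
    (C.pH [26, 38, 54, 89, 90, 113] [15, 68, 72, 98, 110, 119] (by decide +kernel)
    (C.pT (f8642 C)
    (C.pH [8, 30, 65, 84, 94, 117] [22, 28, 55, 74, 100, 116] (by decide +kernel) (C.pNil _ _))))
    (C.loop_of_one (relLoop2 C) _ _)

theorem f8644 : C.T (v18 C) [20, 48, 66, 83, 93, 110, 118] (v15 C) [15, 31, 64, 88, 103, 112] :=
  C.flip (f8643 C)

theorem f8645 : C.T (v2 C) [19, 31, 60, 83, 104, 109, 111] (v5 C) [8, 44, 52, 73, 106, 109] :=
  C.conv (f982 C) (f323 C) (f323 C) _ [130, 170, 175] _ (by decide +kernel) (by decide +kernel) (by decide +kernel)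

theorem f8646 : C.S (v2 C) [11, 46, 57, 85, 107, 109, 122] :=
  C.stMul (f149 C) (f7515 C) _ (by decide +kernel)

theorem f8647 : C.T (v2 C) [15, 33, 66, 79, 100, 124] (v4 C) [9, 39, 68, 74, 107, 109, 123] :=
  C.conv (f437 C) (f595 C) (f8646 C) _ [127, 160, 164, 176, 178] _ (by decide +kernel) (by decide +kernel) (by decide +kernel)

theorem f8648 : C.T (v4 C) [9, 39, 68, 74, 107, 109, 123] (v2 C) [15, 33, 66, 79, 100, 124] :=
  C.flip (f8647 C)

theorem f8649 : C.S (v4 C) [10, 27, 56, 84, 93, 109, 113] :=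
  C.stMul (f407 C) (f421 C) _ (by decide +kernel)

theorem f8650 : C.T (v4 C) [15, 40, 69, 71, 104, 121] (v18 C) [22, 27, 59, 82, 103, 109, 111] :=
  C.conv (f8441 C) (f421 C) (f8649 C) _ [145, 160, 167, 175, 177] _ (by decide +kernel) (by decide +kernel) (by decide +kernel)

theorem f8651 : C.T (v18 C) [22, 27, 59, 82, 103, 109, 111] (v4 C) [15, 40, 69, 71, 104, 121] :=
  C.flip (f8650 C)

theorem f8652 : C.T (v5 C) [11, 32, 56, 75, 101, 118] (v18 C) [17, 38, 55, 86, 104, 110, 113] :=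
  C.closeT (p := (v2 C)) (pu := [19, 31, 60, 83, 104, 109, 111])
    (C.pT (f8645 C)
    (C.pH [26, 38, 54, 89, 90, 113] [11, 32, 56, 75, 101, 118] (by decide +kernel) (C.pNil _ _)))
    (C.pH [8, 30, 65, 84, 94, 117] [22, 27, 59, 82, 103, 109, 111] (by decide +kernel)
    (C.pT (f8651 C)
    (C.pH [26, 38, 54, 89, 90, 113] [9, 39, 68, 74, 107, 109, 123] (by decide +kernel)
    (C.pT (f8648 C)
    (C.pH [8, 30, 65, 84, 94, 117] [19, 31, 60, 83, 104, 109, 111] (by decide +kernel) (C.pNil _ _))))))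
    (C.loop_of_one (relLoop2 C) _ _)

theorem f8653 : C.T (v18 C) [17, 38, 55, 86, 104, 110, 113] (v5 C) [11, 32, 56, 75, 101, 118] :=
  C.flip (f8652 C)

theorem f8654 : C.T (v2 C) [14, 29, 50, 89, 104, 109, 118] (v5 C) [19, 46, 56, 72, 108, 110, 115] :=
  C.conv (f982 C) (f323 C) (f323 C) _ [141, 162, 165, 174] _ (by decide +kernel) (by decide +kernel) (by decide +kernel)

theorem f8655 : C.S (v5 C) [43, 67, 71, 98, 119] :=
  C.stMul (f986 C) (f986 C) _ (by decide +kernel)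

theorem f8656 : C.S (v5 C) [9, 68, 77, 104, 110, 122] :=
  C.stMul (f986 C) (f8655 C) _ (by decide +kernel)

theorem f8657 : C.S (v5 C) [7, 48, 49, 88, 106, 110, 120] :=
  C.stMul (f1141 C) (f8656 C) _ (by decide +kernel)

theorem f8658 : C.S (v5 C) [7, 37, 54, 75, 103, 117] :=
  C.stMul (f1008 C) (f8657 C) _ (by decide +kernel)

theorem f8659 : C.T (v5 C) [17, 28, 57, 72, 93, 118] (v17 C) [9, 48, 55, 85, 95, 119] :=
  C.conv (f5175 C) (f5256 C) (f8658 C) _ [139, 163, 168, 175] _ (by decide +kernel) (by decide +kernel) (by decide +kernel)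

theorem f8660 : C.S (v2 C) [7, 34, 64, 72, 94, 110, 113] :=
  C.stMul (f243 C) (f7391 C) _ (by decide +kernel)

theorem f8661 : C.S (v2 C) [25, 42, 59, 74, 106, 110, 121] :=
  C.stMul (f149 C) (f8660 C) _ (by decide +kernel)

theorem f8662 : C.T (v2 C) [26, 27, 58, 103, 110, 116] (v18 C) [4, 31, 64, 85, 92, 110, 121] :=
  C.conv (f6830 C) (f323 C) (f8661 C) _ [126, 155, 164, 173] _ (by decide +kernel) (by decide +kernel) (by decide +kernel)

theorem f8663 : C.T (v18 C) [4, 31, 64, 85, 92, 110, 121] (v2 C) [26, 27, 58, 103, 110, 116] :=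
  C.flip (f8662 C)

theorem f8664 : C.T (v17 C) [18, 35, 49, 87, 90, 116] (v18 C) [6, 33, 61, 76, 107, 110, 116] :=
  C.closeT (p := (v2 C)) (pu := [14, 29, 50, 89, 104, 109, 118])
    (C.pT (f8654 C)
    (C.pH [26, 38, 54, 89, 90, 113] [17, 28, 57, 72, 93, 118] (by decide +kernel)
    (C.pT (f8659 C)
    (C.pH [8, 30, 65, 84, 94, 117] [18, 35, 49, 87, 90, 116] (by decide +kernel) (C.pNil _ _)))))
    (C.pH [26, 38, 54, 89, 90, 113] [4, 31, 64, 85, 92, 110, 121] (by decide +kernel)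
    (C.pT (f8663 C)
    (C.pH [8, 30, 65, 84, 94, 117] [14, 29, 50, 89, 104, 109, 118] (by decide +kernel) (C.pNil _ _))))
    (C.loop_of_one (relLoop2 C) _ _)

theorem f8665 : C.T (v18 C) [6, 33, 61, 76, 107, 110, 116] (v17 C) [18, 35, 49, 87, 90, 116] :=
  C.flip (f8664 C)

theorem f8666 : C.T (v2 C) [24, 27, 64, 72, 95, 116] (v5 C) [25, 38, 50, 87, 110, 117] :=
  C.conv (f982 C) (f323 C) (f323 C) _ [147, 160, 165, 174] _ (by decide +kernel) (by decide +kernel) (by decide +kernel)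

theorem f8667 : C.S (v5 C) [43, 67, 71, 98, 119] :=
  C.stMul (f986 C) (f986 C) _ (by decide +kernel)

theorem f8668 : C.S (v5 C) [20, 47, 55, 78, 98, 110] :=
  C.stMul (f1023 C) (f8667 C) _ (by decide +kernel)

theorem f8669 : C.S (v5 C) [10, 41, 53, 81, 92, 125] :=
  C.stMul (f1023 C) (f8668 C) _ (by decide +kernel)

theorem f8670 : C.S (v5 C) [11, 33, 49, 89, 102, 124] :=
  C.stMul (f1023 C) (f8669 C) _ (by decide +kernel)

theorem f8671 : C.S (v5 C) [41, 51, 86, 105, 123] :=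
  C.stMul (f1141 C) (f1008 C) _ (by decide +kernel)

theorem f8672 : C.S (v5 C) [85, 93, 110, 124] :=
  C.stMul (f1008 C) (f8671 C) _ (by decide +kernel)

theorem f8673 : C.S (v5 C) [38, 59, 70, 97, 110, 119] :=
  C.stMul (f1141 C) (f8672 C) _ (by decide +kernel)

theorem f8674 : C.T (v5 C) [18, 33, 61, 85, 107, 110, 122] (v18 C) [14, 39, 53, 81, 94, 110, 122] :=
  C.conv (f8652 C) (f8670 C) (f8673 C) _ [131, 155, 176, 177] _ (by decide +kernel) (by decide +kernel) (by decide +kernel)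

theorem f8675 : C.S (v2 C) [23, 47, 57, 84, 108, 110, 124] :=
  C.stMul (f149 C) (f8528 C) _ (by decide +kernel)

theorem f8676 : C.S (v2 C) [20, 66, 70, 94, 109, 114] :=
  C.stMul (f211 C) (f8675 C) _ (by decide +kernel)

theorem f8677 : C.T (v2 C) [21, 35, 56, 87, 98, 109, 121] (v18 C) [37, 59, 71, 99, 110, 117] :=
  C.conv (f6850 C) (f6867 C) (f8676 C) _ [134, 162, 170, 175, 177] _ (by decide +kernel) (by decide +kernel) (by decide +kernel)

theorem f8678 : C.T (v18 C) [37, 59, 71, 99, 110, 117] (v2 C) [21, 35, 56, 87, 98, 109, 121] :=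
  C.flip (f8677 C)

theorem f8679 : C.T (v18 C) [5, 41, 79, 104, 110, 117] (v18 C) [7, 46, 51, 75, 108, 110, 124] :=
  C.closeT (p := (v2 C)) (pu := [24, 27, 64, 72, 95, 116])
    (C.pT (f8666 C)
    (C.pH [26, 38, 54, 89, 90, 113] [18, 33, 61, 85, 107, 110, 122] (by decide +kernel)
    (C.pT (f8674 C)
    (C.pH [8, 30, 65, 84, 94, 117] [5, 41, 79, 104, 110, 117] (by decide +kernel) (C.pNil _ _)))))
    (C.pH [26, 38, 54, 89, 90, 113] [37, 59, 71, 99, 110, 117] (by decide +kernel)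
    (C.pT (f8678 C)
    (C.pH [8, 30, 65, 84, 94, 117] [24, 27, 64, 72, 95, 116] (by decide +kernel) (C.pNil _ _))))
    (C.loop_of_one (relLoop2 C) _ _)

theorem f8680 : C.T (v18 C) [7, 46, 51, 75, 108, 110, 124] (v18 C) [5, 41, 79, 104, 110, 117] :=
  C.flip (f8679 C)

theorem f8681 : C.T (v2 C) [16, 39, 63, 79, 93, 120] (v5 C) [8, 44, 52, 78, 90, 109, 116] :=
  C.conv (f982 C) (f323 C) (f323 C) _ [130, 170, 174, 178] _ (by decide +kernel) (by decide +kernel) (by decide +kernel)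

theorem f8682 : C.T (v2 C) [24, 46, 55, 80, 96, 109, 114] (v3 C) [5, 47, 66, 73, 104, 109, 117] :=
  C.conv (f347 C) (f356 C) (f149 C) _ [137, 162, 167, 175] _ (by decide +kernel) (by decide +kernel) (by decide +kernel)

theorem f8683 : C.T (v3 C) [5, 47, 66, 73, 104, 109, 117] (v2 C) [24, 46, 55, 80, 96, 109, 114] :=
  C.flip (f8682 C)

theorem f8684 : C.S (v3 C) [26, 32, 53, 86, 108, 110, 118] :=
  C.stMul (f331 C) (f8437 C) _ (by decide +kernel)

theorem f8685 : C.S (v3 C) [4, 31, 55, 75, 100, 109, 112] :=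
  C.stMul (f353 C) (f8684 C) _ (by decide +kernel)

theorem f8686 : C.T (v3 C) [14, 31, 56, 70, 97, 110, 114] (v18 C) [18, 35, 63, 76, 90, 116] :=
  C.conv (f8216 C) (f8435 C) (f8685 C) _ [134, 157, 170, 172] _ (by decide +kernel) (by decide +kernel) (by decide +kernel)

theorem f8687 : C.T (v18 C) [18, 35, 63, 76, 90, 116] (v3 C) [14, 31, 56, 70, 97, 110, 114] :=
  C.flip (f8686 C)

theorem f8688 : C.T (v5 C) [11, 32, 56, 89, 104, 109, 122] (v18 C) [9, 48, 67, 80, 96, 110, 124] :=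
  C.closeT (p := (v2 C)) (pu := [16, 39, 63, 79, 93, 120])
    (C.pT (f8681 C)
    (C.pH [26, 38, 54, 89, 90, 113] [11, 32, 56, 89, 104, 109, 122] (by decide +kernel) (C.pNil _ _)))
    (C.pH [8, 30, 65, 84, 94, 117] [18, 35, 63, 76, 90, 116] (by decide +kernel)
    (C.pT (f8687 C)
    (C.pH [26, 38, 54, 89, 90, 113] [5, 47, 66, 73, 104, 109, 117] (by decide +kernel)
    (C.pT (f8683 C)
    (C.pH [8, 30, 65, 84, 94, 117] [16, 39, 63, 79, 93, 120] (by decide +kernel) (C.pNil _ _))))))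
    (C.loop_of_one (relLoop2 C) _ _)

theorem f8689 : C.T (v18 C) [9, 48, 67, 80, 96, 110, 124] (v5 C) [11, 32, 56, 89, 104, 109, 122] :=
  C.flip (f8688 C)

theorem f8690 : C.T (v2 C) [5, 35, 65, 76, 100] (v5 C) [17, 29, 53, 72, 97, 125] :=
  C.conv (f982 C) (f323 C) (f323 C) _ [139, 154, 164, 172, 178] _ (by decide +kernel) (by decide +kernel) (by decide +kernel)

theorem f8691 : C.S (v2 C) [20, 48, 51, 81, 90, 116] :=
  C.stMul (f115 C) (f101 C) _ (by decide +kernel)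

theorem f8692 : C.S (v2 C) [10, 43, 63, 77, 110, 116] :=
  C.stMul (f211 C) (f8691 C) _ (by decide +kernel)

theorem f8693 : C.S (v2 C) [13, 42, 59, 86, 96, 120] :=
  C.stMul (f243 C) (f8692 C) _ (by decide +kernel)

theorem f8694 : C.T (v2 C) [14, 27, 51, 78, 98, 113] (v4 C) [26, 46, 56, 89, 109, 123] :=
  C.conv (f857 C) (f864 C) (f8693 C) _ [142, 157, 178] _ (by decide +kernel) (by decide +kernel) (by decide +kernel)

theorem f8695 : C.T (v4 C) [26, 46, 56, 89, 109, 123] (v2 C) [14, 27, 51, 78, 98, 113] :=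
  C.flip (f8694 C)

theorem f8696 : C.S (v4 C) [18, 46, 49, 75, 97, 110, 118] :=
  C.stMul (f407 C) (f407 C) _ (by decide +kernel)

theorem f8697 : C.S (v4 C) [16, 43, 64, 82, 90, 110, 123] :=
  C.stMul (f421 C) (f8696 C) _ (by decide +kernel)

theorem f8698 : C.S (v4 C) [21, 60, 87, 91, 109, 120] :=
  C.stMul (f407 C) (f8697 C) _ (by decide +kernel)

theorem f8699 : C.S (v4 C) [17, 35, 66, 70, 95] :=
  C.stMul (f421 C) (f407 C) _ (by decide +kernel)

theorem f8700 : C.S (v4 C) [13, 44, 51, 82, 106, 110, 111] :=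
  C.stMul (f407 C) (f8699 C) _ (by decide +kernel)

theorem f8701 : C.T (v4 C) [47, 77, 99, 115] (v18 C) [22, 48, 50, 79, 97, 125] :=
  C.conv (f6863 C) (f8698 C) (f8700 C) _ [126, 149, 170, 176, 177] _ (by decide +kernel) (by decide +kernel) (by decide +kernel)

theorem f8702 : C.T (v18 C) [22, 48, 50, 79, 97, 125] (v4 C) [47, 77, 99, 115] :=
  C.flip (f8701 C)

theorem f8703 : C.T (v5 C) [20, 33, 50, 84, 104, 111] (v18 C) [17, 30, 69, 79, 98, 110, 115] :=
  C.closeT (p := (v2 C)) (pu := [5, 35, 65, 76, 100])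
    (C.pT (f8690 C)
    (C.pH [26, 38, 54, 89, 90, 113] [20, 33, 50, 84, 104, 111] (by decide +kernel) (C.pNil _ _)))
    (C.pH [8, 30, 65, 84, 94, 117] [22, 48, 50, 79, 97, 125] (by decide +kernel)
    (C.pT (f8702 C)
    (C.pH [26, 38, 54, 89, 90, 113] [26, 46, 56, 89, 109, 123] (by decide +kernel)
    (C.pT (f8695 C)
    (C.pH [8, 30, 65, 84, 94, 117] [5, 35, 65, 76, 100] (by decide +kernel) (C.pNil _ _))))))
    (C.loop_of_one (relLoop2 C) _ _)

theorem f8704 : C.T (v18 C) [17, 30, 69, 79, 98, 110, 115] (v5 C) [20, 33, 50, 84, 104, 111] :=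
  C.flip (f8703 C)

theorem f8705 : C.T (v2 C) [4, 32, 52, 87, 100, 121] (v5 C) [6, 36, 50, 85, 97, 110, 117] :=
  C.conv (f982 C) (f323 C) (f323 C) _ [128, 161, 168, 174, 177] _ (by decide +kernel) (by decide +kernel) (by decide +kernel)

theorem f8706 : C.T (v5 C) [4, 45, 66, 83, 94, 110, 118] (v9 C) [24, 32, 63, 84, 108, 109, 118] :=
  C.conv (f2017 C) (f2030 C) (f1141 C) _ [130, 162, 166, 175] _ (by decide +kernel) (by decide +kernel) (by decide +kernel)

theorem f8707 : C.T (v2 C) [18, 42, 68, 86, 90, 109, 125] (v18 C) [25, 57, 80, 93, 110, 116] :=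
  C.conv (f6850 C) (f6867 C) (f6906 C) _ [143, 161, 166, 171, 178] _ (by decide +kernel) (by decide +kernel) (by decide +kernel)

theorem f8708 : C.T (v18 C) [25, 57, 80, 93, 110, 116] (v2 C) [18, 42, 68, 86, 90, 109, 125] :=
  C.flip (f8707 C)

theorem f8709 : C.T (v9 C) [16, 40, 65, 80, 105, 119] (v18 C) [4, 27, 58, 89, 101, 110, 115] :=
  C.closeT (p := (v2 C)) (pu := [4, 32, 52, 87, 100, 121])
    (C.pT (f8705 C)
    (C.pH [26, 38, 54, 89, 90, 113] [4, 45, 66, 83, 94, 110, 118] (by decide +kernel)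
    (C.pT (f8706 C)
    (C.pH [8, 30, 65, 84, 94, 117] [16, 40, 65, 80, 105, 119] (by decide +kernel) (C.pNil _ _)))))
    (C.pH [26, 38, 54, 89, 90, 113] [25, 57, 80, 93, 110, 116] (by decide +kernel)
    (C.pT (f8708 C)
    (C.pH [8, 30, 65, 84, 94, 117] [4, 32, 52, 87, 100, 121] (by decide +kernel) (C.pNil _ _))))
    (C.loop_of_one (relLoop2 C) _ _)

theorem f8710 : C.T (v18 C) [4, 27, 58, 89, 101, 110, 115] (v9 C) [16, 40, 65, 80, 105, 119] :=
  C.flip (f8709 C)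

theorem f8711 : C.T (v2 C) [20, 41, 63, 87, 98, 118] (v5 C) [18, 43, 58, 82, 90, 110, 119] :=
  C.conv (f982 C) (f323 C) (f323 C) _ [140, 157, 167, 178] _ (by decide +kernel) (by decide +kernel) (by decide +kernel)

theorem f8712 : C.T (v5 C) [10, 47, 55, 82, 93, 118] (v10 C) [19, 37, 61, 73, 91, 120] :=
  C.conv (f1958 C) (f1962 C) (f1962 C) _ [144, 154, 173, 177] _ (by decide +kernel) (by decide +kernel) (by decide +kernel)

theorem f8713 : C.S (v2 C) [19, 34, 69, 73, 106, 120] :=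
  C.stMul (f211 C) (f7139 C) _ (by decide +kernel)

theorem f8714 : C.T (v2 C) [16, 33, 52, 89, 96, 123] (v18 C) [21, 43, 64, 88, 92, 109, 117] :=
  C.conv (f6850 C) (f6867 C) (f8713 C) _ [131, 150, 174] _ (by decide +kernel) (by decide +kernel) (by decide +kernel)

theorem f8715 : C.T (v18 C) [21, 43, 64, 88, 92, 109, 117] (v2 C) [16, 33, 52, 89, 96, 123] :=
  C.flip (f8714 C)

theorem f8716 : C.T (v10 C) [26, 39, 51, 77, 107, 110, 114] (v18 C) [10, 46, 64, 78, 95, 125] :=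
  C.closeT (p := (v2 C)) (pu := [20, 41, 63, 87, 98, 118])
    (C.pT (f8711 C)
    (C.pH [26, 38, 54, 89, 90, 113] [10, 47, 55, 82, 93, 118] (by decide +kernel)
    (C.pT (f8712 C)
    (C.pH [8, 30, 65, 84, 94, 117] [26, 39, 51, 77, 107, 110, 114] (by decide +kernel) (C.pNil _ _)))))
    (C.pH [26, 38, 54, 89, 90, 113] [21, 43, 64, 88, 92, 109, 117] (by decide +kernel)
    (C.pT (f8715 C)
    (C.pH [8, 30, 65, 84, 94, 117] [20, 41, 63, 87, 98, 118] (by decide +kernel) (C.pNil _ _))))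
    (C.loop_of_one (relLoop2 C) _ _)

theorem f8717 : C.T (v18 C) [10, 46, 64, 78, 95, 125] (v10 C) [26, 39, 51, 77, 107, 110, 114] :=
  C.flip (f8716 C)

theorem f8718 : C.T (v2 C) [5, 29, 54, 91, 110, 123] (v15 C) [8, 47, 69, 85, 90, 110, 123] :=
  C.conv (f2638 C) (f3254 C) (f3254 C) _ [132, 162, 164, 176, 178] _ (by decide +kernel) (by decide +kernel) (by decide +kernel)

theorem f8719 : C.S (v15 C) [25, 47, 66, 86, 107, 124] :=
  C.stMul (f2569 C) (f2565 C) _ (by decide +kernel)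

theorem f8720 : C.T (v15 C) [11, 33, 59, 89, 93] (v18 C) [12, 45, 68, 74, 98, 117] :=
  C.conv (f8272 C) (f8719 C) (f8719 C) _ [147, 157, 169, 177] _ (by decide +kernel) (by decide +kernel) (by decide +kernel)

theorem f8721 : C.S (v2 C) [6, 49, 81, 99, 109, 116] :=
  C.stMul (f149 C) (f7158 C) _ (by decide +kernel)

theorem f8722 : C.S (v2 C) [23, 43, 58, 75, 97, 110] :=
  C.stMul (f211 C) (f8721 C) _ (by decide +kernel)

theorem f8723 : C.T (v2 C) [14, 31, 65, 70, 94, 114] (v17 C) [16, 40, 51, 78, 107, 110, 115] :=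
  C.conv (f6632 C) (f6971 C) (f8722 C) _ [131, 149, 164, 173, 178] _ (by decide +kernel) (by decide +kernel) (by decide +kernel)

theorem f8724 : C.T (v17 C) [16, 40, 51, 78, 107, 110, 115] (v2 C) [14, 31, 65, 70, 94, 114] :=
  C.flip (f8723 C)

theorem f8725 : C.T (v18 C) [21, 44, 63, 74, 98, 110, 111] (v17 C) [26, 48, 69, 81, 90, 113] :=
  C.closeT (p := (v2 C)) (pu := [5, 29, 54, 91, 110, 123])
    (C.pT (f8718 C)
    (C.pH [26, 38, 54, 89, 90, 113] [11, 33, 59, 89, 93] (by decide +kernel)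
    (C.pT (f8720 C)
    (C.pH [8, 30, 65, 84, 94, 117] [21, 44, 63, 74, 98, 110, 111] (by decide +kernel) (C.pNil _ _)))))
    (C.pH [26, 38, 54, 89, 90, 113] [16, 40, 51, 78, 107, 110, 115] (by decide +kernel)
    (C.pT (f8724 C)
    (C.pH [8, 30, 65, 84, 94, 117] [5, 29, 54, 91, 110, 123] (by decide +kernel) (C.pNil _ _))))
    (C.loop_of_one (relLoop2 C) _ _)

theorem f8726 : C.T (v17 C) [26, 48, 69, 81, 90, 113] (v18 C) [21, 44, 63, 74, 98, 110, 111] :=
  C.flip (f8725 C)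

theorem f8727 : C.T (v2 C) [7, 42, 49, 76, 90, 114] (v15 C) [37, 69, 74, 93, 119] :=
  C.conv (f2638 C) (f3254 C) (f3254 C) _ [146, 159, 165, 177] _ (by decide +kernel) (by decide +kernel) (by decide +kernel)

theorem f8728 : C.S (v2 C) [18, 44, 60, 72, 100, 117] :=
  C.stMul (f138 C) (f125 C) _ (by decide +kernel)

theorem f8729 : C.S (v2 C) [25, 42, 57, 93, 113] :=
  C.stMul (f243 C) (f8728 C) _ (by decide +kernel)

theorem f8730 : C.S (v2 C) [26, 45, 62, 73, 108, 110, 116] :=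
  C.stMul (f211 C) (f8729 C) _ (by decide +kernel)

theorem f8731 : C.T (v2 C) [11, 29, 59, 83, 95, 109, 120] (v4 C) [15, 35, 64, 74, 104, 110, 115] :=
  C.conv (f437 C) (f595 C) (f8730 C) _ [132, 165, 171, 178] _ (by decide +kernel) (by decide +kernel) (by decide +kernel)

theorem f8732 : C.T (v4 C) [15, 35, 64, 74, 104, 110, 115] (v2 C) [11, 29, 59, 83, 95, 109, 120] :=
  C.flip (f8731 C)

theorem f8733 : C.S (v4 C) [17, 35, 66, 70, 95] :=
  C.stMul (f421 C) (f407 C) _ (by decide +kernel)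

theorem f8734 : C.S (v4 C) [13, 44, 51, 82, 106, 110, 111] :=
  C.stMul (f407 C) (f8733 C) _ (by decide +kernel)

theorem f8735 : C.S (v4 C) [21, 35, 69, 73, 94, 109, 122] :=
  C.stMul (f421 C) (f8734 C) _ (by decide +kernel)

theorem f8736 : C.T (v4 C) [20, 32, 51, 88, 97, 109, 120] (v18 C) [23, 29, 54, 81, 96, 114] :=
  C.conv (f8235 C) (f8735 C) (f697 C) _ [134, 150, 170, 173] _ (by decide +kernel) (by decide +kernel) (by decide +kernel)

theorem f8737 : C.T (v18 C) [23, 29, 54, 81, 96, 114] (v4 C) [20, 32, 51, 88, 97, 109, 120] :=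
  C.flip (f8736 C)

theorem f8738 : C.T (v15 C) [26, 29, 60, 87, 90, 110, 113] (v18 C) [20, 27, 49, 87, 96, 110, 122] :=
  C.closeT (p := (v2 C)) (pu := [7, 42, 49, 76, 90, 114])
    (C.pT (f8727 C)
    (C.pH [26, 38, 54, 89, 90, 113] [26, 29, 60, 87, 90, 110, 113] (by decide +kernel) (C.pNil _ _)))
    (C.pH [8, 30, 65, 84, 94, 117] [23, 29, 54, 81, 96, 114] (by decide +kernel)
    (C.pT (f8737 C)
    (C.pH [26, 38, 54, 89, 90, 113] [15, 35, 64, 74, 104, 110, 115] (by decide +kernel)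
    (C.pT (f8732 C)
    (C.pH [8, 30, 65, 84, 94, 117] [7, 42, 49, 76, 90, 114] (by decide +kernel) (C.pNil _ _))))))
    (C.loop_of_one (relLoop2 C) _ _)

theorem f8739 : C.T (v18 C) [20, 27, 49, 87, 96, 110, 122] (v15 C) [26, 29, 60, 87, 90, 110, 113] :=
  C.flip (f8738 C)

theorem f8740 : C.T (v2 C) [21, 27, 65, 85, 99, 120] (v15 C) [25, 45, 55, 75, 102, 119] :=
  C.conv (f2638 C) (f3254 C) (f3254 C) _ [140, 168, 175] _ (by decide +kernel) (by decide +kernel) (by decide +kernel)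

theorem f8741 : C.S (v2 C) [18, 44, 61, 70, 105, 112] :=
  C.stMul (f211 C) (f109 C) _ (by decide +kernel)

theorem f8742 : C.S (v2 C) [62, 79, 107, 109, 125] :=
  C.stMul (f211 C) (f8741 C) _ (by decide +kernel)

theorem f8743 : C.T (v2 C) [12, 33, 54, 89, 95, 123] (v17 C) [42, 56, 80, 90, 109, 124] :=
  C.conv (f6632 C) (f6971 C) (f8742 C) _ [139, 159, 168, 174, 178] _ (by decide +kernel) (by decide +kernel) (by decide +kernel)

theorem f8744 : C.T (v17 C) [42, 56, 80, 90, 109, 124] (v2 C) [12, 33, 54, 89, 95, 123] :=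
  C.flip (f8743 C)

theorem f8745 : C.S (v17 C) [51, 81, 96, 109, 125] :=
  C.stMul (f4132 C) (f4137 C) _ (by decide +kernel)

theorem f8746 : C.T (v17 C) [7, 32, 69, 70, 92, 110, 111] (v18 C) [15, 39, 65, 78, 102, 110, 124] :=
  C.conv (f7650 C) (f8745 C) (f4137 C) _ [137, 162, 175] _ (by decide +kernel) (by decide +kernel) (by decide +kernel)

theorem f8747 : C.T (v18 C) [15, 39, 65, 78, 102, 110, 124] (v17 C) [7, 32, 69, 70, 92, 110, 111] :=
  C.flip (f8746 C)

theorem f8748 : C.T (v15 C) [18, 44, 65, 71, 96, 109, 116] (v18 C) [10, 48, 65, 87, 103, 109, 117] :=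
  C.closeT (p := (v2 C)) (pu := [21, 27, 65, 85, 99, 120])
    (C.pT (f8740 C)
    (C.pH [26, 38, 54, 89, 90, 113] [18, 44, 65, 71, 96, 109, 116] (by decide +kernel) (C.pNil _ _)))
    (C.pH [8, 30, 65, 84, 94, 117] [15, 39, 65, 78, 102, 110, 124] (by decide +kernel)
    (C.pT (f8747 C)
    (C.pH [26, 38, 54, 89, 90, 113] [42, 56, 80, 90, 109, 124] (by decide +kernel)
    (C.pT (f8744 C)
    (C.pH [8, 30, 65, 84, 94, 117] [21, 27, 65, 85, 99, 120] (by decide +kernel) (C.pNil _ _))))))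
    (C.loop_of_one (relLoop2 C) _ _)

theorem f8749 : C.T (v18 C) [10, 48, 65, 87, 103, 109, 117] (v15 C) [18, 44, 65, 71, 96, 109, 116] :=
  C.flip (f8748 C)

theorem f8750 : C.T (v2 C) [22, 37, 58, 75, 91, 116] (v15 C) [23, 33, 63, 80, 105, 110, 112] :=
  C.conv (f2638 C) (f3254 C) (f3254 C) _ [131, 153, 169, 175, 178] _ (by decide +kernel) (by decide +kernel) (by decide +kernel)

theorem f8751 : C.S (v2 C) [15, 46, 51, 72, 98, 110, 118] :=
  C.stMul (f211 C) (f7477 C) _ (by decide +kernel)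

theorem f8752 : C.S (v2 C) [15, 32, 58, 86, 100, 110, 121] :=
  C.stMul (f149 C) (f8751 C) _ (by decide +kernel)

theorem f8753 : C.T (v2 C) [17, 42, 54, 83, 96, 110] (v4 C) [19, 52, 78, 100] :=
  C.conv (f437 C) (f595 C) (f8752 C) _ [134, 154, 172, 178] _ (by decide +kernel) (by decide +kernel) (by decide +kernel)

theorem f8754 : C.T (v4 C) [19, 52, 78, 100] (v2 C) [17, 42, 54, 83, 96, 110] :=
  C.flip (f8753 C)

theorem f8755 : C.S (v4 C) [18, 46, 49, 75, 97, 110, 118] :=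
  C.stMul (f407 C) (f407 C) _ (by decide +kernel)

theorem f8756 : C.S (v4 C) [10, 42, 56, 80, 93, 109, 122] :=
  C.stMul (f693 C) (f8755 C) _ (by decide +kernel)

theorem f8757 : C.S (v4 C) [25, 32, 52, 83, 96, 110, 121] :=
  C.stMul (f421 C) (f8756 C) _ (by decide +kernel)

theorem f8758 : C.T (v4 C) [22, 29, 55, 78, 102, 116] (v18 C) [10, 43, 55, 74, 97, 122] :=
  C.conv (f7605 C) (f8757 C) (f693 C) _ [135, 156, 165, 171, 178] _ (by decide +kernel) (by decide +kernel) (by decide +kernel)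

theorem f8759 : C.T (v18 C) [10, 43, 55, 74, 97, 122] (v4 C) [22, 29, 55, 78, 102, 116] :=
  C.flip (f8758 C)

theorem f8760 : C.T (v15 C) [7, 33, 85, 99, 120] (v18 C) [23, 44, 68, 86, 105, 110, 125] :=
  C.closeT (p := (v2 C)) (pu := [22, 37, 58, 75, 91, 116])
    (C.pT (f8750 C)
    (C.pH [26, 38, 54, 89, 90, 113] [7, 33, 85, 99, 120] (by decide +kernel) (C.pNil _ _)))
    (C.pH [8, 30, 65, 84, 94, 117] [10, 43, 55, 74, 97, 122] (by decide +kernel)
    (C.pT (f8759 C)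
    (C.pH [26, 38, 54, 89, 90, 113] [19, 52, 78, 100] (by decide +kernel)
    (C.pT (f8754 C)
    (C.pH [8, 30, 65, 84, 94, 117] [22, 37, 58, 75, 91, 116] (by decide +kernel) (C.pNil _ _))))))
    (C.loop_of_one (relLoop2 C) _ _)

theorem f8761 : C.T (v18 C) [23, 44, 68, 86, 105, 110, 125] (v15 C) [7, 33, 85, 99, 120] :=
  C.flip (f8760 C)

theorem f8762 : C.T (v2 C) [14, 28, 51, 81, 107, 109, 111] (v15 C) [8, 27, 56, 76, 102, 109, 114] :=
  C.conv (f2638 C) (f3254 C) (f3254 C) _ [152, 168, 176, 177] _ (by decide +kernel) (by decide +kernel) (by decide +kernel)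

theorem f8763 : C.S (v2 C) [28, 51, 80, 104, 110, 117] :=
  C.stMul (f101 C) (f211 C) _ (by decide +kernel)

theorem f8764 : C.S (v2 C) [11, 28, 64, 74, 109, 112] :=
  C.stMul (f243 C) (f8763 C) _ (by decide +kernel)

theorem f8765 : C.S (v2 C) [5, 45, 66, 81, 93, 125] :=
  C.stMul (f211 C) (f8764 C) _ (by decide +kernel)

theorem f8766 : C.T (v2 C) [26, 44, 65, 78, 96, 112] (v4 C) [24, 35, 59, 82, 90, 117] :=
  C.conv (f857 C) (f864 C) (f8765 C) _ [148, 156, 167, 178] _ (by decide +kernel) (by decide +kernel) (by decide +kernel)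

theorem f8767 : C.T (v4 C) [24, 35, 59, 82, 90, 117] (v2 C) [26, 44, 65, 78, 96, 112] :=
  C.flip (f8766 C)

theorem f8768 : C.S (v4 C) [13, 28, 60, 83, 108, 110, 119] :=
  C.stMul (f421 C) (f693 C) _ (by decide +kernel)

theorem f8769 : C.S (v4 C) [17, 45, 53, 80, 99, 109, 123] :=
  C.stMul (f407 C) (f8768 C) _ (by decide +kernel)

theorem f8770 : C.T (v4 C) [11, 66, 81, 91, 110, 112] (v18 C) [10, 42, 51, 76, 95, 109] :=
  C.conv (f8339 C) (f8769 C) (f8768 C) _ [132, 159, 167, 175] _ (by decide +kernel) (by decide +kernel) (by decide +kernel)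

theorem f8771 : C.T (v18 C) [10, 42, 51, 76, 95, 109] (v4 C) [11, 66, 81, 91, 110, 112] :=
  C.flip (f8770 C)

theorem f8772 : C.T (v15 C) [11, 45, 54, 81, 103, 110, 115] (v18 C) [23, 38, 50, 70, 103, 110, 121] :=
  C.closeT (p := (v2 C)) (pu := [14, 28, 51, 81, 107, 109, 111])
    (C.pT (f8762 C)
    (C.pH [26, 38, 54, 89, 90, 113] [11, 45, 54, 81, 103, 110, 115] (by decide +kernel) (C.pNil _ _)))
    (C.pH [8, 30, 65, 84, 94, 117] [10, 42, 51, 76, 95, 109] (by decide +kernel)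
    (C.pT (f8771 C)
    (C.pH [26, 38, 54, 89, 90, 113] [24, 35, 59, 82, 90, 117] (by decide +kernel)
    (C.pT (f8767 C)
    (C.pH [8, 30, 65, 84, 94, 117] [14, 28, 51, 81, 107, 109, 111] (by decide +kernel) (C.pNil _ _))))))
    (C.loop_of_one (relLoop2 C) _ _)

theorem f8773 : C.T (v18 C) [23, 38, 50, 70, 103, 110, 121] (v15 C) [11, 45, 54, 81, 103, 110, 115] :=
  C.flip (f8772 C)

theorem f8774 : C.T (v2 C) [26, 33, 56, 72, 93, 109, 113] (v15 C) [19, 33, 66, 80, 95, 113] :=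
  C.conv (f2638 C) (f3254 C) (f3254 C) _ [143, 170, 174] _ (by decide +kernel) (by decide +kernel) (by decide +kernel)

theorem f8775 : C.S (v2 C) [28, 53, 81, 103, 109, 117] :=
  C.stMul (f138 C) (f109 C) _ (by decide +kernel)

theorem f8776 : C.S (v2 C) [11, 28, 66, 73, 95, 110, 113] :=
  C.stMul (f243 C) (f8775 C) _ (by decide +kernel)

theorem f8777 : C.S (v2 C) [5, 45, 62, 76, 104, 109, 119] :=
  C.stMul (f211 C) (f8776 C) _ (by decide +kernel)

theorem f8778 : C.T (v2 C) [19, 31, 57, 88, 95, 110, 121] (v4 C) [16, 48, 58, 81, 90, 109, 112] :=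
  C.conv (f450 C) (f109 C) (f8777 C) _ [147, 162, 164, 173] _ (by decide +kernel) (by decide +kernel) (by decide +kernel)

theorem f8779 : C.T (v4 C) [16, 48, 58, 81, 90, 109, 112] (v2 C) [19, 31, 57, 88, 95, 110, 121] :=
  C.flip (f8778 C)

theorem f8780 : C.S (v4 C) [13, 28, 60, 83, 108, 110, 119] :=
  C.stMul (f421 C) (f693 C) _ (by decide +kernel)

theorem f8781 : C.S (v4 C) [17, 45, 53, 80, 99, 109, 123] :=
  C.stMul (f407 C) (f8780 C) _ (by decide +kernel)

theorem f8782 : C.S (v4 C) [18, 46, 49, 75, 97, 110, 118] :=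
  C.stMul (f407 C) (f407 C) _ (by decide +kernel)

theorem f8783 : C.S (v4 C) [23, 45, 57, 77, 95, 110, 118] :=
  C.stMul (f407 C) (f8782 C) _ (by decide +kernel)

theorem f8784 : C.S (v4 C) [16, 46, 68, 72, 103, 110, 111] :=
  C.stMul (f693 C) (f8783 C) _ (by decide +kernel)

theorem f8785 : C.T (v4 C) [26, 58, 83, 96, 112] (v18 C) [18, 28, 56, 77, 106, 110, 124] :=
  C.conv (f7520 C) (f8781 C) (f8784 C) _ [127, 160, 168, 173, 178] _ (by decide +kernel) (by decide +kernel) (by decide +kernel)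

theorem f8786 : C.T (v18 C) [18, 28, 56, 77, 106, 110, 124] (v4 C) [26, 58, 83, 96, 112] :=
  C.flip (f8785 C)

theorem f8787 : C.T (v15 C) [17, 34, 73, 105] (v18 C) [9, 42, 49, 82, 101, 113] :=
  C.closeT (p := (v2 C)) (pu := [26, 33, 56, 72, 93, 109, 113])
    (C.pT (f8774 C)
    (C.pH [26, 38, 54, 89, 90, 113] [17, 34, 73, 105] (by decide +kernel) (C.pNil _ _)))
    (C.pH [8, 30, 65, 84, 94, 117] [18, 28, 56, 77, 106, 110, 124] (by decide +kernel)
    (C.pT (f8786 C)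
    (C.pH [26, 38, 54, 89, 90, 113] [16, 48, 58, 81, 90, 109, 112] (by decide +kernel)
    (C.pT (f8779 C)
    (C.pH [8, 30, 65, 84, 94, 117] [26, 33, 56, 72, 93, 109, 113] (by decide +kernel) (C.pNil _ _))))))
    (C.loop_of_one (relLoop2 C) _ _)

theorem f8788 : C.T (v18 C) [9, 42, 49, 82, 101, 113] (v15 C) [17, 34, 73, 105] :=
  C.flip (f8787 C)

theorem f8789 : C.T (v2 C) [19, 38, 54, 73, 103, 120] (v15 C) [14, 38, 52, 75, 90, 109, 117] :=
  C.conv (f2638 C) (f3254 C) (f3254 C) _ [133, 153, 170, 174, 178] _ (by decide +kernel) (by decide +kernel) (by decide +kernel)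

theorem f8790 : C.S (v15 C) [25, 46, 61, 102, 110, 119] :=
  C.stMul (f2565 C) (f2569 C) _ (by decide +kernel)

theorem f8791 : C.T (v15 C) [5, 32, 66, 83, 103, 112] (v17 C) [17, 44, 65, 80, 96, 109, 119] :=
  C.conv (f5222 C) (f2652 C) (f8790 C) _ [126, 156, 164, 178] _ (by decide +kernel) (by decide +kernel) (by decide +kernel)

theorem f8792 : C.S (v2 C) [16, 34, 64, 80, 102, 110, 111] :=
  C.stMul (f149 C) (f6906 C) _ (by decide +kernel)

theorem f8793 : C.T (v2 C) [15, 28, 68, 88, 98, 109, 113] (v18 C) [22, 38, 51, 77, 100, 120] :=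
  C.conv (f6850 C) (f6867 C) (f8792 C) _ [129, 158, 166, 173, 178] _ (by decide +kernel) (by decide +kernel) (by decide +kernel)

theorem f8794 : C.T (v18 C) [22, 38, 51, 77, 100, 120] (v2 C) [15, 28, 68, 88, 98, 109, 113] :=
  C.flip (f8793 C)

theorem f8795 : C.T (v17 C) [22, 39, 51, 83, 90, 109, 118] (v18 C) [9, 36, 54, 80, 93, 118] :=
  C.closeT (p := (v2 C)) (pu := [19, 38, 54, 73, 103, 120])
    (C.pT (f8789 C)
    (C.pH [26, 38, 54, 89, 90, 113] [5, 32, 66, 83, 103, 112] (by decide +kernel)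
    (C.pT (f8791 C)
    (C.pH [8, 30, 65, 84, 94, 117] [22, 39, 51, 83, 90, 109, 118] (by decide +kernel) (C.pNil _ _)))))
    (C.pH [26, 38, 54, 89, 90, 113] [22, 38, 51, 77, 100, 120] (by decide +kernel)
    (C.pT (f8794 C)
    (C.pH [8, 30, 65, 84, 94, 117] [19, 38, 54, 73, 103, 120] (by decide +kernel) (C.pNil _ _))))
    (C.loop_of_one (relLoop2 C) _ _)

theorem f8796 : C.T (v18 C) [9, 36, 54, 80, 93, 118] (v17 C) [22, 39, 51, 83, 90, 109, 118] :=
  C.flip (f8795 C)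

theorem f8797 : C.T (v2 C) [11, 42, 62, 87, 106, 110, 118] (v15 C) [22, 43, 61, 75, 96, 117] :=
  C.conv (f2638 C) (f3254 C) (f3254 C) _ [146, 158, 173, 177] _ (by decide +kernel) (by decide +kernel) (by decide +kernel)

theorem f8798 : C.S (v2 C) [13, 27, 65, 84, 101, 109, 118] :=
  C.stMul (f243 C) (f125 C) _ (by decide +kernel)

theorem f8799 : C.S (v2 C) [12, 30, 61, 76, 103, 119] :=
  C.stMul (f149 C) (f8798 C) _ (by decide +kernel)

theorem f8800 : C.S (v2 C) [15, 46, 69, 73, 104, 110, 112] :=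
  C.stMul (f211 C) (f8799 C) _ (by decide +kernel)

theorem f8801 : C.T (v2 C) [13, 39, 69, 77, 92, 123] (v4 C) [15, 45, 69, 83, 101, 109, 123] :=
  C.conv (f857 C) (f864 C) (f8800 C) _ [132, 160, 169, 171] _ (by decide +kernel) (by decide +kernel) (by decide +kernel)

theorem f8802 : C.T (v4 C) [15, 45, 69, 83, 101, 109, 123] (v2 C) [13, 39, 69, 77, 92, 123] :=
  C.flip (f8801 C)

theorem f8803 : C.T (v4 C) [20, 43, 59, 76, 106, 109, 121] (v18 C) [6, 38, 49, 85, 90, 109, 117] :=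
  C.conv (f7446 C) (f7469 C) (f421 C) _ [126, 162, 170, 172, 177] _ (by decide +kernel) (by decide +kernel) (by decide +kernel)

theorem f8804 : C.T (v18 C) [6, 38, 49, 85, 90, 109, 117] (v4 C) [20, 43, 59, 76, 106, 109, 121] :=
  C.flip (f8803 C)

theorem f8805 : C.T (v15 C) [19, 35, 61, 107, 110, 122] (v18 C) [22, 39, 51, 77, 102, 109, 113] :=
  C.closeT (p := (v2 C)) (pu := [11, 42, 62, 87, 106, 110, 118])
    (C.pT (f8797 C)
    (C.pH [26, 38, 54, 89, 90, 113] [19, 35, 61, 107, 110, 122] (by decide +kernel) (C.pNil _ _)))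
    (C.pH [8, 30, 65, 84, 94, 117] [6, 38, 49, 85, 90, 109, 117] (by decide +kernel)
    (C.pT (f8804 C)
    (C.pH [26, 38, 54, 89, 90, 113] [15, 45, 69, 83, 101, 109, 123] (by decide +kernel)
    (C.pT (f8802 C)
    (C.pH [8, 30, 65, 84, 94, 117] [11, 42, 62, 87, 106, 110, 118] (by decide +kernel) (C.pNil _ _))))))
    (C.loop_of_one (relLoop2 C) _ _)

theorem f8806 : C.T (v18 C) [22, 39, 51, 77, 102, 109, 113] (v15 C) [19, 35, 61, 107, 110, 122] :=
  C.flip (f8805 C)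

theorem f8807 : C.T (v2 C) [14, 45, 58, 72, 99, 111] (v15 C) [19, 44, 58, 73, 90, 122] :=
  C.conv (f2638 C) (f3254 C) (f3254 C) _ [140, 149, 176, 178] _ (by decide +kernel) (by decide +kernel) (by decide +kernel)

theorem f8808 : C.S (v2 C) [58, 74, 103, 109, 116] :=
  C.stMul (f149 C) (f125 C) _ (by decide +kernel)

theorem f8809 : C.T (v2 C) [26, 34, 65, 71, 98, 110, 112] (v4 C) [24, 37, 69, 70, 95, 118] :=
  C.conv (f437 C) (f595 C) (f8808 C) _ [157, 176] _ (by decide +kernel) (by decide +kernel) (by decide +kernel)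

theorem f8810 : C.T (v4 C) [24, 37, 69, 70, 95, 118] (v2 C) [26, 34, 65, 71, 98, 110, 112] :=
  C.flip (f8809 C)

theorem f8811 : C.S (v4 C) [13, 28, 60, 83, 108, 110, 119] :=
  C.stMul (f421 C) (f693 C) _ (by decide +kernel)

theorem f8812 : C.S (v4 C) [17, 45, 53, 80, 99, 109, 123] :=
  C.stMul (f407 C) (f8811 C) _ (by decide +kernel)

theorem f8813 : C.T (v4 C) [11, 38, 56, 84, 100, 109, 123] (v18 C) [4, 48, 52, 84, 93, 110, 115] :=
  C.conv (f6863 C) (f8698 C) (f8812 C) _ [144, 163, 168, 171] _ (by decide +kernel) (by decide +kernel) (by decide +kernel)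

theorem f8814 : C.T (v18 C) [4, 48, 52, 84, 93, 110, 115] (v4 C) [11, 38, 56, 84, 100, 109, 123] :=
  C.flip (f8813 C)

theorem f8815 : C.T (v15 C) [17, 27, 64, 83, 92, 118] (v18 C) [18, 45, 50, 77, 93, 109, 112] :=
  C.closeT (p := (v2 C)) (pu := [14, 45, 58, 72, 99, 111])
    (C.pT (f8807 C)
    (C.pH [26, 38, 54, 89, 90, 113] [17, 27, 64, 83, 92, 118] (by decide +kernel) (C.pNil _ _)))
    (C.pH [8, 30, 65, 84, 94, 117] [4, 48, 52, 84, 93, 110, 115] (by decide +kernel)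
    (C.pT (f8814 C)
    (C.pH [26, 38, 54, 89, 90, 113] [24, 37, 69, 70, 95, 118] (by decide +kernel)
    (C.pT (f8810 C)
    (C.pH [8, 30, 65, 84, 94, 117] [14, 45, 58, 72, 99, 111] (by decide +kernel) (C.pNil _ _))))))
    (C.loop_of_one (relLoop2 C) _ _)

theorem f8816 : C.T (v18 C) [18, 45, 50, 77, 93, 109, 112] (v15 C) [17, 27, 64, 83, 92, 118] :=
  C.flip (f8815 C)

theorem f8817 : C.T (v2 C) [23, 44, 62, 74, 93, 109, 124] (v15 C) [7, 39, 53, 89, 98, 121] :=
  C.conv (f2638 C) (f3254 C) (f3254 C) _ [130, 157, 171, 177] _ (by decide +kernel) (by decide +kernel) (by decide +kernel)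

theorem f8818 : C.S (v15 C) [25, 46, 61, 102, 110, 119] :=
  C.stMul (f2565 C) (f2569 C) _ (by decide +kernel)

theorem f8819 : C.S (v15 C) [25, 39, 65, 80, 99, 110, 113] :=
  C.stMul (f2581 C) (f8818 C) _ (by decide +kernel)

theorem f8820 : C.T (v15 C) [69, 71, 99, 110, 125] (v18 C) [4, 45, 53, 85, 94, 110, 114] :=
  C.conv (f8398 C) (f8819 C) (f2565 C) _ [129, 163, 174] _ (by decide +kernel) (by decide +kernel) (by decide +kernel)

theorem f8821 : C.S (v2 C) [22, 45, 65, 80, 91, 109, 111] :=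
  C.stMul (f109 C) (f8150 C) _ (by decide +kernel)

theorem f8822 : C.S (v2 C) [13, 42, 50, 76, 101, 124] :=
  C.stMul (f149 C) (f8821 C) _ (by decide +kernel)

theorem f8823 : C.T (v2 C) [20, 43, 60, 89, 98, 110, 122] (v15 C) [25, 41, 57, 86, 90, 115] :=
  C.conv (f2638 C) (f3254 C) (f8822 C) _ [133, 157, 170, 174] _ (by decide +kernel) (by decide +kernel) (by decide +kernel)

theorem f8824 : C.T (v15 C) [25, 41, 57, 86, 90, 115] (v2 C) [20, 43, 60, 89, 98, 110, 122] :=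
  C.flip (f8823 C)

theorem f8825 : C.T (v18 C) [25, 33, 61, 80, 96, 113] (v15 C) [4, 43, 61, 78, 91, 110, 125] :=
  C.closeT (p := (v2 C)) (pu := [23, 44, 62, 74, 93, 109, 124])
    (C.pT (f8817 C)
    (C.pH [26, 38, 54, 89, 90, 113] [69, 71, 99, 110, 125] (by decide +kernel)
    (C.pT (f8820 C)
    (C.pH [8, 30, 65, 84, 94, 117] [25, 33, 61, 80, 96, 113] (by decide +kernel) (C.pNil _ _)))))
    (C.pH [26, 38, 54, 89, 90, 113] [25, 41, 57, 86, 90, 115] (by decide +kernel)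
    (C.pT (f8824 C)
    (C.pH [8, 30, 65, 84, 94, 117] [23, 44, 62, 74, 93, 109, 124] (by decide +kernel) (C.pNil _ _))))
    (C.loop_of_one (relLoop2 C) _ _)

theorem f8826 : C.T (v15 C) [4, 43, 61, 78, 91, 110, 125] (v18 C) [25, 33, 61, 80, 96, 113] :=
  C.flip (f8825 C)

theorem f8827 : C.T (v2 C) [15, 27, 68, 75, 93, 109, 122] (v17 C) [25, 42, 55, 77, 105, 110, 123] :=
  C.conv (f6632 C) (f6971 C) (f6971 C) _ [133, 157, 176] _ (by decide +kernel) (by decide +kernel) (by decide +kernel)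

theorem f8828 : C.T (v17 C) [18, 32, 68, 87, 96, 119] (v15 C) [19, 33, 69, 87, 93, 109, 114] :=
  C.conv (f4638 C) (f4137 C) (f4300 C) _ [141, 160, 166, 171] _ (by decide +kernel) (by decide +kernel) (by decide +kernel)

theorem f8829 : C.S (v2 C) [4, 46, 61, 78, 103, 115] :=
  C.stMul (f138 C) (f7012 C) _ (by decide +kernel)

theorem f8830 : C.S (v2 C) [22, 36, 58, 74, 104, 109, 115] :=
  C.stMul (f243 C) (f8829 C) _ (by decide +kernel)

theorem f8831 : C.S (v2 C) [14, 34, 62, 89, 91, 113] :=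
  C.stMul (f211 C) (f8830 C) _ (by decide +kernel)

theorem f8832 : C.S (v2 C) [17, 45, 54, 71, 110, 111] :=
  C.stMul (f243 C) (f8831 C) _ (by decide +kernel)

theorem f8833 : C.T (v2 C) [10, 37, 65, 78, 90, 123] (v18 C) [23, 43, 64, 82, 106, 119] :=
  C.conv (f6850 C) (f6867 C) (f8832 C) _ [142, 153, 173] _ (by decide +kernel) (by decide +kernel) (by decide +kernel)

theorem f8834 : C.T (v18 C) [23, 43, 64, 82, 106, 119] (v2 C) [10, 37, 65, 78, 90, 123] :=
  C.flip (f8833 C)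

theorem f8835 : C.T (v15 C) [26, 31, 64, 72, 100, 117] (v18 C) [13, 40, 51, 70, 103, 109, 115] :=
  C.closeT (p := (v2 C)) (pu := [15, 27, 68, 75, 93, 109, 122])
    (C.pT (f8827 C)
    (C.pH [26, 38, 54, 89, 90, 113] [18, 32, 68, 87, 96, 119] (by decide +kernel)
    (C.pT (f8828 C)
    (C.pH [8, 30, 65, 84, 94, 117] [26, 31, 64, 72, 100, 117] (by decide +kernel) (C.pNil _ _)))))
    (C.pH [26, 38, 54, 89, 90, 113] [23, 43, 64, 82, 106, 119] (by decide +kernel)
    (C.pT (f8834 C)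
    (C.pH [8, 30, 65, 84, 94, 117] [15, 27, 68, 75, 93, 109, 122] (by decide +kernel) (C.pNil _ _))))
    (C.loop_of_one (relLoop2 C) _ _)

theorem f8836 : C.T (v18 C) [13, 40, 51, 70, 103, 109, 115] (v15 C) [26, 31, 64, 72, 100, 117] :=
  C.flip (f8835 C)

theorem f8837 : C.T (v2 C) [32, 69, 89, 108, 110, 117] (v17 C) [5, 40, 52, 85, 98, 109] :=
  C.conv (f6632 C) (f6971 C) (f6971 C) _ [143, 153, 169, 173, 177] _ (by decide +kernel) (by decide +kernel) (by decide +kernel)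

theorem f8838 : C.T (v17 C) [8, 45, 59, 84, 103, 109, 125] (v17 C) [34, 75, 93, 110, 121] :=
  C.conv (f5915 C) (f4137 C) (f4300 C) _ [147, 151, 174] _ (by decide +kernel) (by decide +kernel) (by decide +kernel)

theorem f8839 : C.S (v2 C) [20, 52, 72, 104, 110, 115] :=
  C.stMul (f211 C) (f6892 C) _ (by decide +kernel)

theorem f8840 : C.S (v2 C) [10, 43, 60, 86, 105, 109, 119] :=
  C.stMul (f149 C) (f8839 C) _ (by decide +kernel)

theorem f8841 : C.T (v2 C) [8, 40, 62, 83, 101, 110, 120] (v18 C) [19, 46, 57, 70, 91, 110, 121] :=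
  C.conv (f6850 C) (f6867 C) (f8840 C) _ [139, 152, 170, 176, 178] _ (by decide +kernel) (by decide +kernel) (by decide +kernel)

theorem f8842 : C.T (v18 C) [19, 46, 57, 70, 91, 110, 121] (v2 C) [8, 40, 62, 83, 101, 110, 120] :=
  C.flip (f8841 C)

theorem f8843 : C.T (v17 C) [8, 37, 53, 88, 106, 109, 117] (v18 C) [22, 45, 49, 96, 109, 125] :=
  C.closeT (p := (v2 C)) (pu := [32, 69, 89, 108, 110, 117])
    (C.pT (f8837 C)
    (C.pH [26, 38, 54, 89, 90, 113] [8, 45, 59, 84, 103, 109, 125] (by decide +kernel)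
    (C.pT (f8838 C)
    (C.pH [8, 30, 65, 84, 94, 117] [8, 37, 53, 88, 106, 109, 117] (by decide +kernel) (C.pNil _ _)))))
    (C.pH [26, 38, 54, 89, 90, 113] [19, 46, 57, 70, 91, 110, 121] (by decide +kernel)
    (C.pT (f8842 C)
    (C.pH [8, 30, 65, 84, 94, 117] [32, 69, 89, 108, 110, 117] (by decide +kernel) (C.pNil _ _))))
    (C.loop_of_one (relLoop2 C) _ _)

theorem f8844 : C.T (v18 C) [22, 45, 49, 96, 109, 125] (v17 C) [8, 37, 53, 88, 106, 109, 117] :=
  C.flip (f8843 C)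

theorem f8845 : C.T (v2 C) [22, 38, 60, 74, 100, 109, 122] (v17 C) [5, 44, 54, 108, 109, 115] :=
  C.conv (f6632 C) (f6971 C) (f6971 C) _ [135, 167, 171] _ (by decide +kernel) (by decide +kernel) (by decide +kernel)

theorem f8846 : C.T (v2 C) [17, 28, 52, 86, 96, 119] (v5 C) [4, 34, 53, 78, 90, 109, 121] :=
  C.conv (f982 C) (f323 C) (f211 C) _ [126, 150, 170, 173, 177] _ (by decide +kernel) (by decide +kernel) (by decide +kernel)

theorem f8847 : C.T (v5 C) [4, 34, 53, 78, 90, 109, 121] (v2 C) [17, 28, 52, 86, 96, 119] :=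
  C.flip (f8846 C)

theorem f8848 : C.S (v5 C) [7, 29, 66, 74, 106, 124] :=
  C.stMul (f1141 C) (f986 C) _ (by decide +kernel)

theorem f8849 : C.S (v5 C) [24, 39, 60, 76, 105, 109, 124] :=
  C.stMul (f1023 C) (f8848 C) _ (by decide +kernel)

theorem f8850 : C.S (v5 C) [11, 40, 57, 81, 102, 125] :=
  C.stMul (f986 C) (f8849 C) _ (by decide +kernel)

theorem f8851 : C.T (v5 C) [6, 46, 52, 83, 105, 110, 111] (v18 C) [23, 38, 67, 86, 95, 120] :=
  C.conv (f8381 C) (f8627 C) (f8850 C) _ [127, 162, 170, 171, 178] _ (by decide +kernel) (by decide +kernel) (by decide +kernel)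

theorem f8852 : C.T (v18 C) [23, 38, 67, 86, 95, 120] (v5 C) [6, 46, 52, 83, 105, 110, 111] :=
  C.flip (f8851 C)

theorem f8853 : C.T (v17 C) [8, 47, 56, 89, 100, 110, 124] (v18 C) [20, 60, 89, 105, 110, 114] :=
  C.closeT (p := (v2 C)) (pu := [22, 38, 60, 74, 100, 109, 122])
    (C.pT (f8845 C)
    (C.pH [26, 38, 54, 89, 90, 113] [8, 47, 56, 89, 100, 110, 124] (by decide +kernel) (C.pNil _ _)))
    (C.pH [8, 30, 65, 84, 94, 117] [23, 38, 67, 86, 95, 120] (by decide +kernel)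
    (C.pT (f8852 C)
    (C.pH [26, 38, 54, 89, 90, 113] [4, 34, 53, 78, 90, 109, 121] (by decide +kernel)
    (C.pT (f8847 C)
    (C.pH [8, 30, 65, 84, 94, 117] [22, 38, 60, 74, 100, 109, 122] (by decide +kernel) (C.pNil _ _))))))
    (C.loop_of_one (relLoop2 C) _ _)

theorem f8854 : C.T (v18 C) [20, 60, 89, 105, 110, 114] (v17 C) [8, 47, 56, 89, 100, 110, 124] :=
  C.flip (f8853 C)

theorem f8855 : C.T (v2 C) [20, 41, 53, 75, 90, 110, 121] (v17 C) [17, 33, 49, 98, 110, 112] :=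
  C.conv (f6632 C) (f6971 C) (f6971 C) _ [131, 163, 167, 172] _ (by decide +kernel) (by decide +kernel) (by decide +kernel)

theorem f8856 : C.T (v2 C) [16, 33, 59, 72, 97, 109, 111] (v5 C) [20, 48, 68, 87, 99, 109, 124] :=
  C.conv (f982 C) (f323 C) (f1097 C) _ [142, 156, 170, 173] _ (by decide +kernel) (by decide +kernel) (by decide +kernel)

theorem f8857 : C.T (v5 C) [20, 48, 68, 87, 99, 109, 124] (v2 C) [16, 33, 59, 72, 97, 109, 111] :=
  C.flip (f8856 C)

theorem f8858 : C.S (v5 C) [13, 48, 52, 73, 98, 113] :=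
  C.stMul (f1008 C) (f8625 C) _ (by decide +kernel)

theorem f8859 : C.T (v5 C) [17, 47, 57, 73, 106, 112] (v18 C) [14, 33, 57, 85, 102, 109, 119] :=
  C.conv (f8381 C) (f8627 C) (f8858 C) _ [135, 159, 169, 172, 177] _ (by decide +kernel) (by decide +kernel) (by decide +kernel)

theorem f8860 : C.T (v18 C) [14, 33, 57, 85, 102, 109, 119] (v5 C) [17, 47, 57, 73, 106, 112] :=
  C.flip (f8859 C)

theorem f8861 : C.T (v17 C) [20, 46, 64, 80, 105] (v18 C) [26, 42, 61, 73, 105, 121] :=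
  C.closeT (p := (v2 C)) (pu := [20, 41, 53, 75, 90, 110, 121])
    (C.pT (f8855 C)
    (C.pH [26, 38, 54, 89, 90, 113] [20, 46, 64, 80, 105] (by decide +kernel) (C.pNil _ _)))
    (C.pH [8, 30, 65, 84, 94, 117] [14, 33, 57, 85, 102, 109, 119] (by decide +kernel)
    (C.pT (f8860 C)
    (C.pH [26, 38, 54, 89, 90, 113] [20, 48, 68, 87, 99, 109, 124] (by decide +kernel)
    (C.pT (f8857 C)
    (C.pH [8, 30, 65, 84, 94, 117] [20, 41, 53, 75, 90, 110, 121] (by decide +kernel) (C.pNil _ _))))))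
    (C.loop_of_one (relLoop2 C) _ _)

theorem f8862 : C.T (v18 C) [26, 42, 61, 73, 105, 121] (v17 C) [20, 46, 64, 80, 105] :=
  C.flip (f8861 C)

theorem f8863 : C.T (v2 C) [16, 35, 71, 92, 109, 113] (v17 C) [20, 39, 66, 74, 98, 110] :=
  C.conv (f6632 C) (f6971 C) (f6971 C) _ [132, 157, 169, 175, 177] _ (by decide +kernel) (by decide +kernel) (by decide +kernel)

theorem f8864 : C.S (v2 C) [4, 46, 68, 85, 99, 109, 124] :=
  C.stMul (f211 C) (f149 C) _ (by decide +kernel)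

theorem f8865 : C.T (v2 C) [24, 42, 52, 87, 103, 109, 122] (v15 C) [25, 57, 88, 99, 109, 111] :=
  C.conv (f2638 C) (f3254 C) (f8864 C) _ [144, 150, 176, 177] _ (by decide +kernel) (by decide +kernel) (by decide +kernel)

theorem f8866 : C.T (v15 C) [25, 57, 88, 99, 109, 111] (v2 C) [24, 42, 52, 87, 103, 109, 122] :=
  C.flip (f8865 C)

theorem f8867 : C.S (v15 C) [20, 39, 55, 88, 95, 110, 125] :=
  C.stMul (f2581 C) (f2565 C) _ (by decide +kernel)

theorem f8868 : C.S (v15 C) [34, 69, 79, 92, 114] :=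
  C.stMul (f2565 C) (f8867 C) _ (by decide +kernel)

theorem f8869 : C.S (v15 C) [25, 46, 61, 102, 110, 119] :=
  C.stMul (f2565 C) (f2569 C) _ (by decide +kernel)

theorem f8870 : C.T (v15 C) [4, 27, 58, 87, 93, 109, 119] (v18 C) [9, 32, 69, 78, 100, 109, 125] :=
  C.conv (f7734 C) (f8868 C) (f8869 C) _ [147, 170, 175] _ (by decide +kernel) (by decide +kernel) (by decide +kernel)

theorem f8871 : C.T (v18 C) [9, 32, 69, 78, 100, 109, 125] (v15 C) [4, 27, 58, 87, 93, 109, 119] :=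
  C.flip (f8870 C)

theorem f8872 : C.T (v17 C) [15, 42, 53, 89, 103, 110, 125] (v18 C) [25, 47, 65, 78, 104, 124] :=
  C.closeT (p := (v2 C)) (pu := [16, 35, 71, 92, 109, 113])
    (C.pT (f8863 C)
    (C.pH [26, 38, 54, 89, 90, 113] [15, 42, 53, 89, 103, 110, 125] (by decide +kernel) (C.pNil _ _)))
    (C.pH [8, 30, 65, 84, 94, 117] [9, 32, 69, 78, 100, 109, 125] (by decide +kernel)
    (C.pT (f8871 C)
    (C.pH [26, 38, 54, 89, 90, 113] [25, 57, 88, 99, 109, 111] (by decide +kernel)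
    (C.pT (f8866 C)
    (C.pH [8, 30, 65, 84, 94, 117] [16, 35, 71, 92, 109, 113] (by decide +kernel) (C.pNil _ _))))))
    (C.loop_of_one (relLoop2 C) _ _)

theorem f8873 : C.T (v18 C) [25, 47, 65, 78, 104, 124] (v17 C) [15, 42, 53, 89, 103, 110, 125] :=
  C.flip (f8872 C)

theorem f8874 : C.T (v2 C) [22, 46, 68, 85, 97] (v17 C) [19, 38, 64, 73, 105, 110, 111] :=
  C.conv (f6632 C) (f6971 C) (f6971 C) _ [147, 155, 170, 178] _ (by decide +kernel) (by decide +kernel) (by decide +kernel)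

theorem f8875 : C.T (v17 C) [17, 42, 67, 81, 107, 109] (v17 C) [13, 38, 84, 92, 109, 119] :=
  C.conv (f6173 C) (f4300 C) (f4132 C) _ [129, 152, 168, 173, 177] _ (by decide +kernel) (by decide +kernel) (by decide +kernel)

theorem f8876 : C.S (v2 C) [18, 44, 61, 70, 105, 112] :=
  C.stMul (f211 C) (f109 C) _ (by decide +kernel)

theorem f8877 : C.S (v2 C) [62, 79, 107, 109, 125] :=
  C.stMul (f211 C) (f8876 C) _ (by decide +kernel)

theorem f8878 : C.S (v2 C) [11, 46, 64, 80, 91, 110, 112] :=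
  C.stMul (f243 C) (f8877 C) _ (by decide +kernel)

theorem f8879 : C.T (v2 C) [17, 46, 84, 108, 110, 125] (v18 C) [4, 40, 51, 87, 103, 109, 115] :=
  C.conv (f8124 C) (f8182 C) (f8878 C) _ [131, 158, 164, 175] _ (by decide +kernel) (by decide +kernel) (by decide +kernel)

theorem f8880 : C.T (v18 C) [4, 40, 51, 87, 103, 109, 115] (v2 C) [17, 46, 84, 108, 110, 125] :=
  C.flip (f8879 C)

theorem f8881 : C.T (v17 C) [11, 37, 51, 74, 91, 109] (v18 C) [6, 27, 52, 84, 99, 109, 120] :=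
  C.closeT (p := (v2 C)) (pu := [22, 46, 68, 85, 97])
    (C.pT (f8874 C)
    (C.pH [26, 38, 54, 89, 90, 113] [17, 42, 67, 81, 107, 109] (by decide +kernel)
    (C.pT (f8875 C)
    (C.pH [8, 30, 65, 84, 94, 117] [11, 37, 51, 74, 91, 109] (by decide +kernel) (C.pNil _ _)))))
    (C.pH [26, 38, 54, 89, 90, 113] [4, 40, 51, 87, 103, 109, 115] (by decide +kernel)
    (C.pT (f8880 C)
    (C.pH [8, 30, 65, 84, 94, 117] [22, 46, 68, 85, 97] (by decide +kernel) (C.pNil _ _))))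
    (C.loop_of_one (relLoop2 C) _ _)

theorem f8882 : C.T (v18 C) [6, 27, 52, 84, 99, 109, 120] (v17 C) [11, 37, 51, 74, 91, 109] :=
  C.flip (f8881 C)

theorem f8883 : C.T (v2 C) [23, 67, 80, 94, 117] (v17 C) [13, 42, 53, 76, 90] :=
  C.conv (f6632 C) (f6971 C) (f6971 C) _ [139, 152, 168, 173, 178] _ (by decide +kernel) (by decide +kernel) (by decide +kernel)

theorem f8884 : C.S (v2 C) [4, 48, 69, 79, 94, 109, 124] :=
  C.stMul (f211 C) (f211 C) _ (by decide +kernel)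

theorem f8885 : C.T (v2 C) [20, 37, 51, 97, 109, 112] (v2 C) [13, 34, 55, 78, 92, 112] :=
  C.conv (f307 C) (f311 C) (f8884 C) _ [139, 149, 164, 171, 177] _ (by decide +kernel) (by decide +kernel) (by decide +kernel)

theorem f8886 : C.T (v2 C) [13, 34, 55, 78, 92, 112] (v2 C) [20, 37, 51, 97, 109, 112] :=
  C.flip (f8885 C)

theorem f8887 : C.S (v2 C) [24, 37, 65, 70, 95, 110, 119] :=
  C.stMul (f115 C) (f243 C) _ (by decide +kernel)

theorem f8888 : C.S (v2 C) [7, 34, 69, 86, 103, 118] :=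
  C.stMul (f138 C) (f8887 C) _ (by decide +kernel)

theorem f8889 : C.T (v2 C) [16, 38, 65, 82, 93, 110, 121] (v18 C) [22, 40, 58, 73, 108, 110, 124] :=
  C.conv (f6830 C) (f323 C) (f8888 C) _ [144, 154, 170, 173, 177] _ (by decide +kernel) (by decide +kernel) (by decide +kernel)

theorem f8890 : C.T (v18 C) [22, 40, 58, 73, 108, 110, 124] (v2 C) [16, 38, 65, 82, 93, 110, 121] :=
  C.flip (f8889 C)

theorem f8891 : C.T (v17 C) [23, 32, 53, 89, 91, 110, 115] (v18 C) [17, 34, 62, 82, 96, 110, 118] :=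
  C.closeT (p := (v2 C)) (pu := [23, 67, 80, 94, 117])
    (C.pT (f8883 C)
    (C.pH [26, 38, 54, 89, 90, 113] [23, 32, 53, 89, 91, 110, 115] (by decide +kernel) (C.pNil _ _)))
    (C.pH [8, 30, 65, 84, 94, 117] [22, 40, 58, 73, 108, 110, 124] (by decide +kernel)
    (C.pT (f8890 C)
    (C.pH [26, 38, 54, 89, 90, 113] [13, 34, 55, 78, 92, 112] (by decide +kernel)
    (C.pT (f8886 C)
    (C.pH [8, 30, 65, 84, 94, 117] [23, 67, 80, 94, 117] (by decide +kernel) (C.pNil _ _))))))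
    (C.loop_of_one (relLoop2 C) _ _)

theorem f8892 : C.T (v18 C) [17, 34, 62, 82, 96, 110, 118] (v17 C) [23, 32, 53, 89, 91, 110, 115] :=
  C.flip (f8891 C)

theorem f8893 : C.T (v2 C) [11, 43, 50, 87, 91, 109, 125] (v17 C) [21, 44, 69, 84, 103, 110, 116] :=
  C.conv (f6632 C) (f6971 C) (f6971 C) _ [130, 153, 168, 175, 178] _ (by decide +kernel) (by decide +kernel) (by decide +kernel)

theorem f8894 : C.T (v17 C) [6, 29, 58, 83, 107, 109, 119] (v15 C) [26, 31, 69, 82, 94, 109, 125] :=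
  C.conv (f5517 C) (f6003 C) (f4137 C) _ [131, 158, 166, 177] _ (by decide +kernel) (by decide +kernel) (by decide +kernel)

theorem f8895 : C.S (v2 C) [17, 33, 49, 74, 100, 110, 119] :=
  C.stMul (f211 C) (f7419 C) _ (by decide +kernel)

theorem f8896 : C.S (v2 C) [14, 41, 69, 81, 90, 110, 121] :=
  C.stMul (f243 C) (f8895 C) _ (by decide +kernel)

theorem f8897 : C.T (v2 C) [13, 55, 84, 105, 110] (v18 C) [26, 42, 53, 83, 104, 109, 113] :=
  C.conv (f6850 C) (f6867 C) (f8896 C) _ [137, 154, 167, 175] _ (by decide +kernel) (by decide +kernel) (by decide +kernel)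

theorem f8898 : C.T (v18 C) [26, 42, 53, 83, 104, 109, 113] (v2 C) [13, 55, 84, 105, 110] :=
  C.flip (f8897 C)

theorem f8899 : C.T (v15 C) [14, 39, 59, 75, 93, 110, 124] (v18 C) [39, 60, 76, 101, 119] :=
  C.closeT (p := (v2 C)) (pu := [11, 43, 50, 87, 91, 109, 125])
    (C.pT (f8893 C)
    (C.pH [26, 38, 54, 89, 90, 113] [6, 29, 58, 83, 107, 109, 119] (by decide +kernel)
    (C.pT (f8894 C)
    (C.pH [8, 30, 65, 84, 94, 117] [14, 39, 59, 75, 93, 110, 124] (by decide +kernel) (C.pNil _ _)))))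
    (C.pH [26, 38, 54, 89, 90, 113] [26, 42, 53, 83, 104, 109, 113] (by decide +kernel)
    (C.pT (f8898 C)
    (C.pH [8, 30, 65, 84, 94, 117] [11, 43, 50, 87, 91, 109, 125] (by decide +kernel) (C.pNil _ _))))
    (C.loop_of_one (relLoop2 C) _ _)

theorem f8900 : C.T (v18 C) [39, 60, 76, 101, 119] (v15 C) [14, 39, 59, 75, 93, 110, 124] :=
  C.flip (f8899 C)

theorem f8901 : C.T (v2 C) [56, 72, 98, 109, 121] (v18 C) [8, 36, 66, 72, 99, 110, 120] :=
  C.conv (f6830 C) (f323 C) (f323 C) _ [130, 151, 168, 171] _ (by decide +kernel) (by decide +kernel) (by decide +kernel)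

theorem f8902 : C.S (v2 C) [18, 29, 62, 80, 99, 125] :=
  C.stMul (f115 C) (f109 C) _ (by decide +kernel)

theorem f8903 : C.S (v2 C) [4, 48, 57, 86, 96, 110, 119] :=
  C.stMul (f125 C) (f8902 C) _ (by decide +kernel)

theorem f8904 : C.T (v2 C) [8, 34, 69, 88, 105] (v4 C) [10, 38, 66, 82, 108, 124] :=
  C.conv (f857 C) (f864 C) (f8903 C) _ [139, 152, 169, 176, 177] _ (by decide +kernel) (by decide +kernel) (by decide +kernel)

theorem f8905 : C.T (v4 C) [10, 38, 66, 82, 108, 124] (v2 C) [8, 34, 69, 88, 105] :=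
  C.flip (f8904 C)

theorem f8906 : C.S (v4 C) [17, 35, 66, 70, 95] :=
  C.stMul (f421 C) (f407 C) _ (by decide +kernel)

theorem f8907 : C.S (v4 C) [26, 44, 64, 94, 121] :=
  C.stMul (f693 C) (f8906 C) _ (by decide +kernel)

theorem f8908 : C.S (v4 C) [23, 27, 56, 70, 98, 125] :=
  C.stMul (f421 C) (f8907 C) _ (by decide +kernel)

theorem f8909 : C.S (v4 C) [10, 27, 56, 84, 93, 109, 113] :=
  C.stMul (f407 C) (f421 C) _ (by decide +kernel)

theorem f8910 : C.S (v4 C) [25, 47, 59, 76, 103, 109, 113] :=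
  C.stMul (f421 C) (f8909 C) _ (by decide +kernel)

theorem f8911 : C.S (v4 C) [13, 41, 65, 83, 103, 110, 118] :=
  C.stMul (f693 C) (f8910 C) _ (by decide +kernel)

theorem f8912 : C.T (v4 C) [18, 32, 51, 78, 99, 114] (v16 C) [26, 32, 49, 89, 102, 110, 115] :=
  C.conv (f4074 C) (f8908 C) (f8911 C) _ [135, 154, 166, 173, 178] _ (by decide +kernel) (by decide +kernel) (by decide +kernel)

theorem f8913 : C.T (v16 C) [26, 32, 49, 89, 102, 110, 115] (v4 C) [18, 32, 51, 78, 99, 114] :=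
  C.flip (f8912 C)

theorem f8914 : C.T (v18 C) [11, 42, 78, 103, 115] (v16 C) [19, 43, 64, 71, 99, 109, 116] :=
  C.closeT (p := (v2 C)) (pu := [56, 72, 98, 109, 121])
    (C.pT (f8901 C)
    (C.pH [26, 38, 54, 89, 90, 113] [11, 42, 78, 103, 115] (by decide +kernel) (C.pNil _ _)))
    (C.pH [8, 30, 65, 84, 94, 117] [26, 32, 49, 89, 102, 110, 115] (by decide +kernel)
    (C.pT (f8913 C)
    (C.pH [26, 38, 54, 89, 90, 113] [10, 38, 66, 82, 108, 124] (by decide +kernel)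
    (C.pT (f8905 C)
    (C.pH [8, 30, 65, 84, 94, 117] [56, 72, 98, 109, 121] (by decide +kernel) (C.pNil _ _))))))
    (C.loop_of_one (relLoop2 C) _ _)

theorem f8915 : C.T (v16 C) [19, 43, 64, 71, 99, 109, 116] (v18 C) [11, 42, 78, 103, 115] :=
  C.flip (f8914 C)

theorem f8916 : C.T (v2 C) [5, 31, 53, 88, 110, 120] (v18 C) [22, 46, 62, 73, 93, 110, 124] :=
  C.conv (f6830 C) (f323 C) (f323 C) _ [144, 159, 169, 176] _ (by decide +kernel) (by decide +kernel) (by decide +kernel)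

theorem f8917 : C.S (v2 C) [59, 87, 103, 111] :=
  C.stMul (f109 C) (f3255 C) _ (by decide +kernel)

theorem f8918 : C.T (v2 C) [14, 60, 89, 107, 121] (v15 C) [17, 42, 50, 80, 110, 111] :=
  C.conv (f2638 C) (f3254 C) (f8917 C) _ [140, 163, 169, 178] _ (by decide +kernel) (by decide +kernel) (by decide +kernel)

theorem f8919 : C.T (v15 C) [17, 42, 50, 80, 110, 111] (v2 C) [14, 60, 89, 107, 121] :=
  C.flip (f8918 C)

theorem f8920 : C.S (v15 C) [25, 47, 66, 86, 107, 124] :=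
  C.stMul (f2569 C) (f2565 C) _ (by decide +kernel)

theorem f8921 : C.S (v15 C) [24, 44, 51, 82, 106, 110, 112] :=
  C.stMul (f2565 C) (f8920 C) _ (by decide +kernel)

theorem f8922 : C.T (v15 C) [19, 38, 63, 87, 98] (v18 C) [22, 39, 52, 87, 108, 113] :=
  C.conv (f7357 C) (f2565 C) (f8921 C) _ [142, 163, 169, 176] _ (by decide +kernel) (by decide +kernel) (by decide +kernel)

theorem f8923 : C.T (v18 C) [22, 39, 52, 87, 108, 113] (v15 C) [19, 38, 63, 87, 98] :=
  C.flip (f8922 C)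

theorem f8924 : C.T (v18 C) [19, 36, 62, 72, 103, 115] (v18 C) [17, 44, 50, 80, 98, 122] :=
  C.closeT (p := (v2 C)) (pu := [5, 31, 53, 88, 110, 120])
    (C.pT (f8916 C)
    (C.pH [26, 38, 54, 89, 90, 113] [19, 36, 62, 72, 103, 115] (by decide +kernel) (C.pNil _ _)))
    (C.pH [8, 30, 65, 84, 94, 117] [22, 39, 52, 87, 108, 113] (by decide +kernel)
    (C.pT (f8923 C)
    (C.pH [26, 38, 54, 89, 90, 113] [17, 42, 50, 80, 110, 111] (by decide +kernel)
    (C.pT (f8919 C)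
    (C.pH [8, 30, 65, 84, 94, 117] [5, 31, 53, 88, 110, 120] (by decide +kernel) (C.pNil _ _))))))
    (C.loop_of_one (relLoop2 C) _ _)

theorem f8925 : C.T (v18 C) [17, 44, 50, 80, 98, 122] (v18 C) [19, 36, 62, 72, 103, 115] :=
  C.flip (f8924 C)

theorem f8926 : C.T (v2 C) [17, 73, 106, 110, 119] (v18 C) [23, 31, 66, 70, 96] :=
  C.conv (f6830 C) (f323 C) (f323 C) _ [145, 152, 169, 176] _ (by decide +kernel) (by decide +kernel) (by decide +kernel)

theorem f8927 : C.S (v2 C) [20, 48, 49, 77, 103, 110, 112] :=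
  C.stMul (f125 C) (f101 C) _ (by decide +kernel)

theorem f8928 : C.S (v2 C) [10, 43, 65, 81, 98, 110, 117] :=
  C.stMul (f211 C) (f8927 C) _ (by decide +kernel)

theorem f8929 : C.T (v2 C) [7, 40, 65, 77, 91, 113] (v3 C) [13, 28, 66, 89, 100, 109, 122] :=
  C.conv (f817 C) (f837 C) (f8928 C) _ [162, 177] _ (by decide +kernel) (by decide +kernel) (by decide +kernel)

theorem f8930 : C.T (v3 C) [13, 28, 66, 89, 100, 109, 122] (v2 C) [7, 40, 65, 77, 91, 113] :=
  C.flip (f8929 C)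

theorem f8931 : C.S (v3 C) [13, 45, 62, 78, 97, 110, 120] :=
  C.stMul (f328 C) (f7310 C) _ (by decide +kernel)

theorem f8932 : C.S (v3 C) [34, 56, 82, 103, 109, 119] :=
  C.stMul (f353 C) (f8931 C) _ (by decide +kernel)

theorem f8933 : C.S (v3 C) [24, 36, 57, 89, 101, 117] :=
  C.stMul (f335 C) (f8932 C) _ (by decide +kernel)

theorem f8934 : C.T (v3 C) [16, 33, 63, 71, 94, 109, 119] (v17 C) [19, 30, 74, 98, 109, 119] :=
  C.conv (f6269 C) (f7309 C) (f8933 C) _ [133, 157, 165, 175, 177] _ (by decide +kernel) (by decide +kernel) (by decide +kernel)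

theorem f8935 : C.T (v17 C) [19, 30, 74, 98, 109, 119] (v3 C) [16, 33, 63, 71, 94, 109, 119] :=
  C.flip (f8934 C)

theorem f8936 : C.T (v18 C) [7, 29, 61, 86, 108, 118] (v17 C) [15, 45, 64, 87, 94, 116] :=
  C.closeT (p := (v2 C)) (pu := [17, 73, 106, 110, 119])
    (C.pT (f8926 C)
    (C.pH [26, 38, 54, 89, 90, 113] [7, 29, 61, 86, 108, 118] (by decide +kernel) (C.pNil _ _)))
    (C.pH [8, 30, 65, 84, 94, 117] [19, 30, 74, 98, 109, 119] (by decide +kernel)
    (C.pT (f8935 C)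
    (C.pH [26, 38, 54, 89, 90, 113] [13, 28, 66, 89, 100, 109, 122] (by decide +kernel)
    (C.pT (f8930 C)
    (C.pH [8, 30, 65, 84, 94, 117] [17, 73, 106, 110, 119] (by decide +kernel) (C.pNil _ _))))))
    (C.loop_of_one (relLoop2 C) _ _)

theorem f8937 : C.T (v17 C) [15, 45, 64, 87, 94, 116] (v18 C) [7, 29, 61, 86, 108, 118] :=
  C.flip (f8936 C)

theorem f8938 : C.T (v2 C) [6, 28, 66, 86, 92, 110, 120] (v18 C) [14, 37, 63, 86, 94, 110, 117] :=
  C.conv (f6830 C) (f323 C) (f323 C) _ [136, 160, 167, 174, 177] _ (by decide +kernel) (by decide +kernel) (by decide +kernel)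

theorem f8939 : C.S (v2 C) [21, 27, 59, 73, 103, 109, 112] :=
  C.stMul (f243 C) (f688 C) _ (by decide +kernel)

theorem f8940 : C.S (v2 C) [8, 42, 83, 96, 110, 122] :=
  C.stMul (f211 C) (f8939 C) _ (by decide +kernel)

theorem f8941 : C.T (v2 C) [22, 51, 86, 104, 114] (v4 C) [23, 46, 58, 79, 94, 110, 124] :=
  C.conv (f450 C) (f109 C) (f8940 C) _ [146, 152, 174, 177] _ (by decide +kernel) (by decide +kernel) (by decide +kernel)

theorem f8942 : C.T (v4 C) [23, 46, 58, 79, 94, 110, 124] (v2 C) [22, 51, 86, 104, 114] :=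
  C.flip (f8941 C)

theorem f8943 : C.S (v4 C) [18, 46, 49, 75, 97, 110, 118] :=
  C.stMul (f407 C) (f407 C) _ (by decide +kernel)

theorem f8944 : C.S (v4 C) [23, 45, 57, 77, 95, 110, 118] :=
  C.stMul (f407 C) (f8943 C) _ (by decide +kernel)

theorem f8945 : C.S (v4 C) [10, 27, 56, 84, 93, 109, 113] :=
  C.stMul (f407 C) (f421 C) _ (by decide +kernel)

theorem f8946 : C.S (v4 C) [16, 32, 68, 79, 93, 110, 124] :=
  C.stMul (f407 C) (f8945 C) _ (by decide +kernel)

theorem f8947 : C.S (v4 C) [18, 44, 51, 79, 106, 114] :=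
  C.stMul (f421 C) (f8946 C) _ (by decide +kernel)

theorem f8948 : C.S (v4 C) [23, 52, 80, 95, 123] :=
  C.stMul (f407 C) (f8947 C) _ (by decide +kernel)

theorem f8949 : C.T (v4 C) [13, 44, 69, 87, 90, 113] (v17 C) [15, 31, 58, 72, 95, 109, 116] :=
  C.conv (f6736 C) (f8944 C) (f8948 C) _ [129, 153, 164, 173] _ (by decide +kernel) (by decide +kernel) (by decide +kernel)

theorem f8950 : C.T (v17 C) [15, 31, 58, 72, 95, 109, 116] (v4 C) [13, 44, 69, 87, 90, 113] :=
  C.flip (f8949 C)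

theorem f8951 : C.T (v18 C) [5, 27, 56, 77, 99, 109, 118] (v17 C) [10, 30, 51, 79, 104, 109, 118] :=
  C.closeT (p := (v2 C)) (pu := [6, 28, 66, 86, 92, 110, 120])
    (C.pT (f8938 C)
    (C.pH [26, 38, 54, 89, 90, 113] [5, 27, 56, 77, 99, 109, 118] (by decide +kernel) (C.pNil _ _)))
    (C.pH [8, 30, 65, 84, 94, 117] [15, 31, 58, 72, 95, 109, 116] (by decide +kernel)
    (C.pT (f8950 C)
    (C.pH [26, 38, 54, 89, 90, 113] [23, 46, 58, 79, 94, 110, 124] (by decide +kernel)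
    (C.pT (f8942 C)
    (C.pH [8, 30, 65, 84, 94, 117] [6, 28, 66, 86, 92, 110, 120] (by decide +kernel) (C.pNil _ _))))))
    (C.loop_of_one (relLoop2 C) _ _)

theorem f8952 : C.T (v17 C) [10, 30, 51, 79, 104, 109, 118] (v18 C) [5, 27, 56, 77, 99, 109, 118] :=
  C.flip (f8951 C)

theorem f8953 : C.T (v2 C) [17, 38, 67, 86, 106, 110, 120] (v18 C) [6, 33, 59, 73, 105, 109, 117] :=
  C.conv (f6830 C) (f323 C) (f323 C) _ [128, 151, 164, 176] _ (by decide +kernel) (by decide +kernel) (by decide +kernel)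

theorem f8954 : C.S (v2 C) [6, 46, 57, 81, 103, 114] :=
  C.stMul (f125 C) (f8067 C) _ (by decide +kernel)

theorem f8955 : C.S (v2 C) [12, 30, 65, 71, 93, 111] :=
  C.stMul (f243 C) (f8954 C) _ (by decide +kernel)

theorem f8956 : C.S (v2 C) [15, 46, 56, 74, 101, 109, 116] :=
  C.stMul (f211 C) (f8955 C) _ (by decide +kernel)

theorem f8957 : C.T (v2 C) [7, 31, 68, 86, 98, 109, 120] (v17 C) [25, 39, 56, 77, 95, 110] :=
  C.conv (f6632 C) (f6971 C) (f8956 C) _ [148, 151, 164, 172, 178] _ (by decide +kernel) (by decide +kernel) (by decide +kernel)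

theorem f8958 : C.T (v17 C) [25, 39, 56, 77, 95, 110] (v2 C) [7, 31, 68, 86, 98, 109, 120] :=
  C.flip (f8957 C)

theorem f8959 : C.S (v17 C) [23, 31, 49, 84, 96, 117] :=
  C.stMul (f4137 C) (f4137 C) _ (by decide +kernel)

theorem f8960 : C.T (v17 C) [4, 28, 70, 101, 109, 116] (v18 C) [18, 41, 82, 94, 110, 115] :=
  C.conv (f8853 C) (f8959 C) (f8959 C) _ [129, 158, 167, 174] _ (by decide +kernel) (by decide +kernel) (by decide +kernel)

theorem f8961 : C.T (v18 C) [18, 41, 82, 94, 110, 115] (v17 C) [4, 28, 70, 101, 109, 116] :=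
  C.flip (f8960 C)

theorem f8962 : C.T (v18 C) [4, 31, 54, 82, 99, 115] (v18 C) [9, 35, 62, 89, 106, 115] :=
  C.closeT (p := (v2 C)) (pu := [17, 38, 67, 86, 106, 110, 120])
    (C.pT (f8953 C)
    (C.pH [26, 38, 54, 89, 90, 113] [4, 31, 54, 82, 99, 115] (by decide +kernel) (C.pNil _ _)))
    (C.pH [8, 30, 65, 84, 94, 117] [18, 41, 82, 94, 110, 115] (by decide +kernel)
    (C.pT (f8961 C)
    (C.pH [26, 38, 54, 89, 90, 113] [25, 39, 56, 77, 95, 110] (by decide +kernel)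
    (C.pT (f8958 C)
    (C.pH [8, 30, 65, 84, 94, 117] [17, 38, 67, 86, 106, 110, 120] (by decide +kernel) (C.pNil _ _))))))
    (C.loop_of_one (relLoop2 C) _ _)

theorem f8963 : C.T (v18 C) [9, 35, 62, 89, 106, 115] (v18 C) [4, 31, 54, 82, 99, 115] :=
  C.flip (f8962 C)

theorem f8964 : C.T (v2 C) [19, 27, 66, 86, 94, 110, 120] (v18 C) [21, 37, 53, 84, 106, 115] :=
  C.conv (f6830 C) (f323 C) (f323 C) _ [143, 154, 173, 178] _ (by decide +kernel) (by decide +kernel) (by decide +kernel)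

theorem f8965 : C.S (v2 C) [20, 48, 66, 80, 98, 121] :=
  C.stMul (f149 C) (f101 C) _ (by decide +kernel)

theorem f8966 : C.S (v2 C) [7, 34, 59, 89, 103, 109, 117] :=
  C.stMul (f243 C) (f8965 C) _ (by decide +kernel)

theorem f8967 : C.S (v2 C) [25, 42, 66, 80, 100, 120] :=
  C.stMul (f149 C) (f8966 C) _ (by decide +kernel)

theorem f8968 : C.T (v2 C) [15, 35, 65, 73, 93, 110, 119] (v5 C) [22, 35, 62, 71, 97, 109, 124] :=
  C.conv (f982 C) (f323 C) (f8967 C) _ [144, 160, 170, 172] _ (by decide +kernel) (by decide +kernel) (by decide +kernel)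

theorem f8969 : C.T (v5 C) [22, 35, 62, 71, 97, 109, 124] (v2 C) [15, 35, 65, 73, 93, 110, 119] :=
  C.flip (f8968 C)

theorem f8970 : C.S (v5 C) [41, 51, 86, 105, 123] :=
  C.stMul (f1141 C) (f1008 C) _ (by decide +kernel)

theorem f8971 : C.S (v5 C) [85, 93, 110, 124] :=
  C.stMul (f1008 C) (f8970 C) _ (by decide +kernel)

theorem f8972 : C.S (v5 C) [38, 59, 70, 97, 110, 119] :=
  C.stMul (f1141 C) (f8971 C) _ (by decide +kernel)

theorem f8973 : C.T (v5 C) [9, 27, 68, 83, 98, 122] (v18 C) [41, 67, 73, 123] :=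
  C.conv (f6946 C) (f986 C) (f8972 C) _ [147, 150, 164, 175] _ (by decide +kernel) (by decide +kernel) (by decide +kernel)

theorem f8974 : C.T (v18 C) [41, 67, 73, 123] (v5 C) [9, 27, 68, 83, 98, 122] :=
  C.flip (f8973 C)

theorem f8975 : C.T (v18 C) [6, 31, 51, 72, 99, 119] (v18 C) [8, 33, 63, 71, 107, 109, 114] :=
  C.closeT (p := (v2 C)) (pu := [19, 27, 66, 86, 94, 110, 120])
    (C.pT (f8964 C)
    (C.pH [26, 38, 54, 89, 90, 113] [6, 31, 51, 72, 99, 119] (by decide +kernel) (C.pNil _ _)))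
    (C.pH [8, 30, 65, 84, 94, 117] [41, 67, 73, 123] (by decide +kernel)
    (C.pT (f8974 C)
    (C.pH [26, 38, 54, 89, 90, 113] [22, 35, 62, 71, 97, 109, 124] (by decide +kernel)
    (C.pT (f8969 C)
    (C.pH [8, 30, 65, 84, 94, 117] [19, 27, 66, 86, 94, 110, 120] (by decide +kernel) (C.pNil _ _))))))
    (C.loop_of_one (relLoop2 C) _ _)

theorem f8979 : C.T (v2 C) [26, 31, 66, 77, 94, 109] (v18 C) [12, 35, 58, 84, 104, 115] :=
  C.conv (f6830 C) (f323 C) (f323 C) _ [134, 161, 169, 177] _ (by decide +kernel) (by decide +kernel) (by decide +kernel)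

theorem f8980 : C.S (v2 C) [20, 48, 60, 70, 100, 110, 111] :=
  C.stMul (f125 C) (f149 C) _ (by decide +kernel)

theorem f8981 : C.T (v2 C) [19, 33, 53, 89, 96, 119] (v3 C) [20, 33, 65, 84, 108, 110, 119] :=
  C.conv (f325 C) (f323 C) (f8980 C) _ [142, 174] _ (by decide +kernel) (by decide +kernel) (by decide +kernel)

theorem f8982 : C.T (v3 C) [20, 33, 65, 84, 108, 110, 119] (v2 C) [19, 33, 53, 89, 96, 119] :=
  C.flip (f8981 C)

theorem f8983 : C.S (v3 C) [22, 29, 89, 96, 109, 125] :=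
  C.stMul (f328 C) (f331 C) _ (by decide +kernel)

theorem f8984 : C.S (v3 C) [18, 43, 59, 78, 90, 110, 111] :=
  C.stMul (f353 C) (f8983 C) _ (by decide +kernel)

theorem f8985 : C.T (v3 C) [17, 29, 55, 88, 99, 110, 121] (v18 C) [5, 28, 62, 71, 95, 110, 111] :=
  C.conv (f8216 C) (f8435 C) (f8984 C) _ [137, 157, 171] _ (by decide +kernel) (by decide +kernel) (by decide +kernel)

theorem f8986 : C.T (v18 C) [5, 28, 62, 71, 95, 110, 111] (v3 C) [17, 29, 55, 88, 99, 110, 121] :=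
  C.flip (f8985 C)

theorem f8987 : C.T (v18 C) [14, 33, 51, 85, 109, 116] (v18 C) [14, 32, 51, 77, 94, 109, 116] :=
  C.closeT (p := (v2 C)) (pu := [26, 31, 66, 77, 94, 109])
    (C.pT (f8979 C)
    (C.pH [26, 38, 54, 89, 90, 113] [14, 33, 51, 85, 109, 116] (by decide +kernel) (C.pNil _ _)))
    (C.pH [8, 30, 65, 84, 94, 117] [5, 28, 62, 71, 95, 110, 111] (by decide +kernel)
    (C.pT (f8986 C)
    (C.pH [26, 38, 54, 89, 90, 113] [20, 33, 65, 84, 108, 110, 119] (by decide +kernel)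
    (C.pT (f8982 C)
    (C.pH [8, 30, 65, 84, 94, 117] [26, 31, 66, 77, 94, 109] (by decide +kernel) (C.pNil _ _))))))
    (C.loop_of_one (relLoop2 C) _ _)

theorem f8991 : C.T (v2 C) [7, 41, 55, 71, 107, 109, 113] (v18 C) [17, 42, 56, 87, 104, 109, 125] :=
  C.conv (f6830 C) (f323 C) (f323 C) _ [139, 155, 169, 172, 178] _ (by decide +kernel) (by decide +kernel) (by decide +kernel)

theorem f8992 : C.S (v2 C) [18, 29, 60, 79, 92, 109, 112] :=
  C.stMul (f115 C) (f7727 C) _ (by decide +kernel)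

theorem f8993 : C.T (v2 C) [11, 27, 50, 82, 107] (v17 C) [22, 45, 54, 72, 106, 109, 120] :=
  C.conv (f6632 C) (f6971 C) (f8992 C) _ [130, 155, 170, 172, 178] _ (by decide +kernel) (by decide +kernel) (by decide +kernel)

theorem f8994 : C.T (v17 C) [22, 45, 54, 72, 106, 109, 120] (v2 C) [11, 27, 50, 82, 107] :=
  C.flip (f8993 C)

theorem f8995 : C.T (v17 C) [9, 33, 72, 110, 122] (v16 C) [22, 32, 63, 78, 95, 109] :=
  C.conv (f5023 C) (f4132 C) (f4300 C) _ [147, 150, 170, 174, 177] _ (by decide +kernel) (by decide +kernel) (by decide +kernel)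

theorem f8996 : C.T (v16 C) [22, 32, 63, 78, 95, 109] (v17 C) [9, 33, 72, 110, 122] :=
  C.flip (f8995 C)

theorem f8997 : C.T (v18 C) [20, 31, 49, 72, 102, 110, 112] (v16 C) [17, 41, 57, 75, 101] :=
  C.closeT (p := (v2 C)) (pu := [7, 41, 55, 71, 107, 109, 113])
    (C.pT (f8991 C)
    (C.pH [26, 38, 54, 89, 90, 113] [20, 31, 49, 72, 102, 110, 112] (by decide +kernel) (C.pNil _ _)))
    (C.pH [8, 30, 65, 84, 94, 117] [22, 32, 63, 78, 95, 109] (by decide +kernel)
    (C.pT (f8996 C)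
    (C.pH [26, 38, 54, 89, 90, 113] [22, 45, 54, 72, 106, 109, 120] (by decide +kernel)
    (C.pT (f8994 C)
    (C.pH [8, 30, 65, 84, 94, 117] [7, 41, 55, 71, 107, 109, 113] (by decide +kernel) (C.pNil _ _))))))
    (C.loop_of_one (relLoop2 C) _ _)

theorem f8998 : C.T (v16 C) [17, 41, 57, 75, 101] (v18 C) [20, 31, 49, 72, 102, 110, 112] :=
  C.flip (f8997 C)

theorem f8999 : C.T (v2 C) [9, 43, 52, 76, 90, 125] (v18 C) [18, 30, 65, 81, 103, 109, 113] :=
  C.conv (f6830 C) (f323 C) (f323 C) _ [140, 150, 170, 176] _ (by decide +kernel) (by decide +kernel) (by decide +kernel)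

theorem f9000 : C.S (v2 C) [51, 89, 93, 110, 125] :=
  C.stMul (f243 C) (f7957 C) _ (by decide +kernel)

theorem f9001 : C.T (v2 C) [25, 48, 84, 95, 110, 121] (v17 C) [10, 45, 53, 72, 101, 124] :=
  C.conv (f6632 C) (f6971 C) (f9000 C) _ [144, 161, 166, 177] _ (by decide +kernel) (by decide +kernel) (by decide +kernel)

theorem f9002 : C.T (v17 C) [10, 45, 53, 72, 101, 124] (v2 C) [25, 48, 84, 95, 110, 121] :=
  C.flip (f9001 C)

theorem f9003 : C.S (v17 C) [23, 31, 75, 92, 109, 116] :=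
  C.stMul (f4137 C) (f4132 C) _ (by decide +kernel)

theorem f9004 : C.T (v17 C) [18, 29, 49, 70, 91, 110, 118] (v17 C) [29, 64, 71, 97, 110, 114] :=
  C.conv (f5996 C) (f9003 C) (f4137 C) _ [136, 162, 165, 173] _ (by decide +kernel) (by decide +kernel) (by decide +kernel)

theorem f9005 : C.T (v17 C) [29, 64, 71, 97, 110, 114] (v17 C) [18, 29, 49, 70, 91, 110, 118] :=
  C.flip (f9004 C)

theorem f9006 : C.T (v18 C) [10, 42, 65, 74, 104, 109, 124] (v17 C) [8, 45, 59, 76, 105, 109, 122] :=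
  C.closeT (p := (v2 C)) (pu := [9, 43, 52, 76, 90, 125])
    (C.pT (f8999 C)
    (C.pH [26, 38, 54, 89, 90, 113] [10, 42, 65, 74, 104, 109, 124] (by decide +kernel) (C.pNil _ _)))
    (C.pH [8, 30, 65, 84, 94, 117] [29, 64, 71, 97, 110, 114] (by decide +kernel)
    (C.pT (f9005 C)
    (C.pH [26, 38, 54, 89, 90, 113] [10, 45, 53, 72, 101, 124] (by decide +kernel)
    (C.pT (f9002 C)
    (C.pH [8, 30, 65, 84, 94, 117] [9, 43, 52, 76, 90, 125] (by decide +kernel) (C.pNil _ _))))))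
    (C.loop_of_one (relLoop2 C) _ _)

theorem f9007 : C.T (v17 C) [8, 45, 59, 76, 105, 109, 122] (v18 C) [10, 42, 65, 74, 104, 109, 124] :=
  C.flip (f9006 C)

theorem f9008 : C.T (v2 C) [26, 31, 51, 103, 110, 112] (v18 C) [18, 35, 65, 85, 92, 110, 118] :=
  C.conv (f6830 C) (f323 C) (f323 C) _ [140, 163, 169] _ (by decide +kernel) (by decide +kernel) (by decide +kernel)

theorem f9009 : C.S (v2 C) [60, 81, 97, 110, 112] :=
  C.stMul (f125 C) (f115 C) _ (by decide +kernel)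

theorem f9010 : C.S (v2 C) [9, 44, 52, 77, 99, 109] :=
  C.stMul (f211 C) (f9009 C) _ (by decide +kernel)

theorem f9011 : C.T (v2 C) [19, 33, 59, 78, 108, 110, 112] (v4 C) [46, 66, 86, 107, 119] :=
  C.conv (f857 C) (f864 C) (f9010 C) _ [143, 158, 165, 171, 178] _ (by decide +kernel) (by decide +kernel) (by decide +kernel)

theorem f9012 : C.T (v4 C) [46, 66, 86, 107, 119] (v2 C) [19, 33, 59, 78, 108, 110, 112] :=
  C.flip (f9011 C)

theorem f9013 : C.S (v4 C) [16, 43, 64, 82, 90, 110, 123] :=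
  C.stMul (f421 C) (f8570 C) _ (by decide +kernel)

theorem f9014 : C.S (v4 C) [21, 60, 87, 91, 109, 120] :=
  C.stMul (f407 C) (f9013 C) _ (by decide +kernel)

theorem f9015 : C.S (v4 C) [8, 48, 61, 83, 103, 117] :=
  C.stMul (f407 C) (f9014 C) _ (by decide +kernel)

theorem f9016 : C.S (v4 C) [31, 58, 82, 95, 109, 115] :=
  C.stMul (f421 C) (f9015 C) _ (by decide +kernel)

theorem f9017 : C.T (v4 C) [7, 33, 68, 84, 93, 109, 125] (v18 C) [11, 31, 61, 79, 105, 120] :=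
  C.conv (f6895 C) (f8570 C) (f9016 C) _ [138, 151, 170, 174] _ (by decide +kernel) (by decide +kernel) (by decide +kernel)

theorem f9018 : C.T (v18 C) [11, 31, 61, 79, 105, 120] (v4 C) [7, 33, 68, 84, 93, 109, 125] :=
  C.flip (f9017 C)

theorem f9019 : C.T (v18 C) [10, 34, 58, 79, 94, 110, 119] (v18 C) [13, 37, 51, 79, 107, 109, 119] :=
  C.closeT (p := (v2 C)) (pu := [26, 31, 51, 103, 110, 112])
    (C.pT (f9008 C)
    (C.pH [26, 38, 54, 89, 90, 113] [10, 34, 58, 79, 94, 110, 119] (by decide +kernel) (C.pNil _ _)))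
    (C.pH [8, 30, 65, 84, 94, 117] [11, 31, 61, 79, 105, 120] (by decide +kernel)
    (C.pT (f9018 C)
    (C.pH [26, 38, 54, 89, 90, 113] [46, 66, 86, 107, 119] (by decide +kernel)
    (C.pT (f9012 C)
    (C.pH [8, 30, 65, 84, 94, 117] [26, 31, 51, 103, 110, 112] (by decide +kernel) (C.pNil _ _))))))
    (C.loop_of_one (relLoop2 C) _ _)

theorem f9021 : C.S (v18 C) [26, 43, 49, 77, 91, 110, 115] :=
  C.stMul (f6836 C) (f6836 C) _ (by decide +kernel)

theorem f9023 : C.T (v2 C) [20, 34, 60, 74, 114] (v18 C) [16, 37, 60, 84, 97, 110, 113] :=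
  C.conv (f6830 C) (f323 C) (f323 C) _ [138, 160, 168, 172, 177] _ (by decide +kernel) (by decide +kernel) (by decide +kernel)

theorem f9024 : C.T (v18 C) [13, 45, 58, 71, 91, 109, 118] (v18 C) [6, 40, 60, 73, 91, 109, 112] :=
  C.conv (f8208 C) (f7121 C) (f7121 C) _ [132, 158, 170, 174, 178] _ (by decide +kernel) (by decide +kernel) (by decide +kernel)

theorem f9025 : C.S (v2 C) [24, 36, 66, 89, 90, 114] :=
  C.stMul (f243 C) (f211 C) _ (by decide +kernel)

theorem f9026 : C.S (v2 C) [16, 34, 52, 73, 96, 114] :=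
  C.stMul (f211 C) (f9025 C) _ (by decide +kernel)

theorem f9027 : C.T (v2 C) [16, 38, 72, 95, 110, 121] (v15 C) [17, 43, 57, 86, 100, 110, 124] :=
  C.conv (f2638 C) (f3254 C) (f9026 C) _ [142, 163, 171, 178] _ (by decide +kernel) (by decide +kernel) (by decide +kernel)

theorem f9028 : C.T (v15 C) [17, 43, 57, 86, 100, 110, 124] (v2 C) [16, 38, 72, 95, 110, 121] :=
  C.flip (f9027 C)

theorem f9029 : C.T (v18 C) [13, 43, 60, 86, 91, 110, 112] (v15 C) [19, 29, 53, 72, 99, 109, 120] :=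
  C.closeT (p := (v2 C)) (pu := [20, 34, 60, 74, 114])
    (C.pT (f9023 C)
    (C.pH [26, 38, 54, 89, 90, 113] [13, 45, 58, 71, 91, 109, 118] (by decide +kernel)
    (C.pT (f9024 C)
    (C.pH [8, 30, 65, 84, 94, 117] [13, 43, 60, 86, 91, 110, 112] (by decide +kernel) (C.pNil _ _)))))
    (C.pH [26, 38, 54, 89, 90, 113] [17, 43, 57, 86, 100, 110, 124] (by decide +kernel)
    (C.pT (f9028 C)
    (C.pH [8, 30, 65, 84, 94, 117] [20, 34, 60, 74, 114] (by decide +kernel) (C.pNil _ _))))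
    (C.loop_of_one (relLoop2 C) _ _)

theorem f9030 : C.T (v15 C) [19, 29, 53, 72, 99, 109, 120] (v18 C) [13, 43, 60, 86, 91, 110, 112] :=
  C.flip (f9029 C)

theorem f9031 : C.T (v2 C) [56, 74, 96, 109, 113] (v18 C) [15, 45, 67, 70, 94, 110, 116] :=
  C.conv (f6830 C) (f323 C) (f323 C) _ [137, 162] _ (by decide +kernel) (by decide +kernel) (by decide +kernel)

theorem f9032 : C.S (v18 C) [26, 43, 49, 77, 91, 110, 115] :=
  C.stMul (f6836 C) (f6836 C) _ (by decide +kernel)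

theorem f9033 : C.T (v18 C) [9, 29, 50, 87, 116] (v18 C) [16, 67, 77, 93, 109, 124] :=
  C.conv (f7871 C) (f9032 C) (f7121 C) _ [145, 151, 168, 175, 178] _ (by decide +kernel) (by decide +kernel) (by decide +kernel)

theorem f9034 : C.T (v2 C) [8, 34, 69, 79, 110, 121] (v18 C) [19, 42, 66, 87, 108, 110, 112] :=
  C.conv (f6850 C) (f6867 C) (f8310 C) _ [136, 154, 168, 176] _ (by decide +kernel) (by decide +kernel) (by decide +kernel)

theorem f9035 : C.T (v18 C) [19, 42, 66, 87, 108, 110, 112] (v2 C) [8, 34, 69, 79, 110, 121] :=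
  C.flip (f9034 C)

theorem f9036 : C.T (v18 C) [20, 48, 83, 104, 109, 122] (v18 C) [22, 47, 52, 77, 117] :=
  C.closeT (p := (v2 C)) (pu := [56, 74, 96, 109, 113])
    (C.pT (f9031 C)
    (C.pH [26, 38, 54, 89, 90, 113] [9, 29, 50, 87, 116] (by decide +kernel)
    (C.pT (f9033 C)
    (C.pH [8, 30, 65, 84, 94, 117] [20, 48, 83, 104, 109, 122] (by decide +kernel) (C.pNil _ _)))))
    (C.pH [26, 38, 54, 89, 90, 113] [19, 42, 66, 87, 108, 110, 112] (by decide +kernel)
    (C.pT (f9035 C)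
    (C.pH [8, 30, 65, 84, 94, 117] [56, 74, 96, 109, 113] (by decide +kernel) (C.pNil _ _))))
    (C.loop_of_one (relLoop2 C) _ _)

theorem f9038 : C.S (v18 C) [26, 43, 49, 77, 91, 110, 115] :=
  C.stMul (f6836 C) (f6836 C) _ (by decide +kernel)

theorem f9040 : C.T (v2 C) [6, 37, 60, 82, 102, 109, 111] (v18 C) [20, 32, 61, 89, 98, 110] :=
  C.conv (f6830 C) (f323 C) (f323 C) _ [142, 160, 164, 175, 178] _ (by decide +kernel) (by decide +kernel) (by decide +kernel)

theorem f9041 : C.S (v2 C) [28, 53, 81, 103, 109, 117] :=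
  C.stMul (f138 C) (f109 C) _ (by decide +kernel)

theorem f9042 : C.S (v2 C) [9, 29, 49, 88, 98, 110, 121] :=
  C.stMul (f211 C) (f9041 C) _ (by decide +kernel)

theorem f9043 : C.S (v2 C) [24, 37, 62, 88, 98, 118] :=
  C.stMul (f243 C) (f9042 C) _ (by decide +kernel)

theorem f9044 : C.T (v2 C) [22, 44, 49, 74, 103, 109, 122] (v5 C) [19, 41, 57, 88, 99, 115] :=
  C.conv (f982 C) (f323 C) (f9043 C) _ [141, 161, 172, 178] _ (by decide +kernel) (by decide +kernel) (by decide +kernel)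

theorem f9045 : C.T (v5 C) [19, 41, 57, 88, 99, 115] (v2 C) [22, 44, 49, 74, 103, 109, 122] :=
  C.flip (f9044 C)

theorem f9046 : C.S (v5 C) [13, 42, 59, 86, 102, 109, 125] :=
  C.stMul (f986 C) (f2080 C) _ (by decide +kernel)

theorem f9047 : C.T (v5 C) [22, 40, 62, 88, 108, 110, 119] (v5 C) [23, 27, 62, 81, 108, 109, 122] :=
  C.conv (f1079 C) (f1158 C) (f9046 C) _ [136, 159, 173, 178] _ (by decide +kernel) (by decide +kernel) (by decide +kernel)

theorem f9048 : C.T (v5 C) [23, 27, 62, 81, 108, 109, 122] (v5 C) [22, 40, 62, 88, 108, 110, 119] :=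
  C.flip (f9047 C)

theorem f9049 : C.T (v18 C) [15, 35, 52, 87, 94, 109, 112] (v5 C) [20, 45, 53, 88, 103, 110, 114] :=
  C.closeT (p := (v2 C)) (pu := [6, 37, 60, 82, 102, 109, 111])
    (C.pT (f9040 C)
    (C.pH [26, 38, 54, 89, 90, 113] [15, 35, 52, 87, 94, 109, 112] (by decide +kernel) (C.pNil _ _)))
    (C.pH [8, 30, 65, 84, 94, 117] [23, 27, 62, 81, 108, 109, 122] (by decide +kernel)
    (C.pT (f9048 C)
    (C.pH [26, 38, 54, 89, 90, 113] [19, 41, 57, 88, 99, 115] (by decide +kernel)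
    (C.pT (f9045 C)
    (C.pH [8, 30, 65, 84, 94, 117] [6, 37, 60, 82, 102, 109, 111] (by decide +kernel) (C.pNil _ _))))))
    (C.loop_of_one (relLoop2 C) _ _)

theorem f9050 : C.T (v5 C) [20, 45, 53, 88, 103, 110, 114] (v18 C) [15, 35, 52, 87, 94, 109, 112] :=
  C.flip (f9049 C)

theorem f9051 : C.T (v2 C) [26, 38, 50, 86, 102, 110] (v18 C) [20, 46, 50, 72, 91, 109, 113] :=
  C.conv (f6830 C) (f323 C) (f323 C) _ [142, 157, 170, 172, 177] _ (by decide +kernel) (by decide +kernel) (by decide +kernel)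

theorem f9052 : C.S (v2 C) [18, 29, 62, 80, 99, 125] :=
  C.stMul (f115 C) (f109 C) _ (by decide +kernel)

theorem f9053 : C.S (v2 C) [25, 37, 55, 78, 104, 116] :=
  C.stMul (f243 C) (f9052 C) _ (by decide +kernel)

theorem f9054 : C.S (v2 C) [22, 45, 50, 105, 110, 122] :=
  C.stMul (f138 C) (f9053 C) _ (by decide +kernel)

theorem f9055 : C.T (v2 C) [19, 42, 67, 70, 95, 120] (v17 C) [12, 32, 52, 78, 92, 111] :=
  C.conv (f6632 C) (f6971 C) (f9054 C) _ [131, 152, 170, 173] _ (by decide +kernel) (by decide +kernel) (by decide +kernel)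

theorem f9056 : C.T (v17 C) [12, 32, 52, 78, 92, 111] (v2 C) [19, 42, 67, 70, 95, 120] :=
  C.flip (f9055 C)

theorem f9057 : C.S (v17 C) [23, 31, 49, 84, 96, 117] :=
  C.stMul (f4137 C) (f4137 C) _ (by decide +kernel)

theorem f9058 : C.T (v17 C) [24, 36, 53, 72, 95, 122] (v17 C) [19, 48, 61, 70, 99, 109, 114] :=
  C.conv (f4937 C) (f4137 C) (f9057 C) _ [138, 160, 170, 174, 177] _ (by decide +kernel) (by decide +kernel) (by decide +kernel)

theorem f9059 : C.T (v17 C) [19, 48, 61, 70, 99, 109, 114] (v17 C) [24, 36, 53, 72, 95, 122] :=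
  C.flip (f9058 C)

theorem f9060 : C.T (v18 C) [15, 39, 58, 82, 98, 109] (v17 C) [15, 62, 83, 92, 110, 111] :=
  C.closeT (p := (v2 C)) (pu := [26, 38, 50, 86, 102, 110])
    (C.pT (f9051 C)
    (C.pH [26, 38, 54, 89, 90, 113] [15, 39, 58, 82, 98, 109] (by decide +kernel) (C.pNil _ _)))
    (C.pH [8, 30, 65, 84, 94, 117] [19, 48, 61, 70, 99, 109, 114] (by decide +kernel)
    (C.pT (f9059 C)
    (C.pH [26, 38, 54, 89, 90, 113] [12, 32, 52, 78, 92, 111] (by decide +kernel)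
    (C.pT (f9056 C)
    (C.pH [8, 30, 65, 84, 94, 117] [26, 38, 50, 86, 102, 110] (by decide +kernel) (C.pNil _ _))))))
    (C.loop_of_one (relLoop2 C) _ _)

theorem f9061 : C.T (v17 C) [15, 62, 83, 92, 110, 111] (v18 C) [15, 39, 58, 82, 98, 109] :=
  C.flip (f9060 C)

theorem f9062 : C.T (v2 C) [23, 46, 49, 78, 95, 109, 120] (v18 C) [21, 46, 58, 70, 93, 118] :=
  C.conv (f6830 C) (f323 C) (f323 C) _ [143, 157, 165, 174] _ (by decide +kernel) (by decide +kernel) (by decide +kernel)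

theorem f9063 : C.S (v18 C) [26, 43, 49, 77, 91, 110, 115] :=
  C.stMul (f6836 C) (f6836 C) _ (by decide +kernel)

theorem f9064 : C.T (v18 C) [6, 37, 66, 79, 105, 116] (v15 C) [12, 29, 66, 87, 93, 113] :=
  C.conv (f8399 C) (f9063 C) (f7121 C) _ [143, 155, 167, 176, 177] _ (by decide +kernel) (by decide +kernel) (by decide +kernel)

theorem f9065 : C.S (v2 C) [23, 47, 52, 84, 106, 121] :=
  C.stMul (f211 C) (f6950 C) _ (by decide +kernel)

theorem f9066 : C.S (v2 C) [21, 27, 87, 98, 122] :=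
  C.stMul (f243 C) (f9065 C) _ (by decide +kernel)

theorem f9067 : C.T (v2 C) [20, 33, 68, 80, 99, 110] (v18 C) [6, 59, 72, 98, 110, 122] :=
  C.conv (f6850 C) (f6867 C) (f9066 C) _ [143, 163, 167, 175] _ (by decide +kernel) (by decide +kernel) (by decide +kernel)

theorem f9068 : C.T (v18 C) [6, 59, 72, 98, 110, 122] (v2 C) [20, 33, 68, 80, 99, 110] :=
  C.flip (f9067 C)

theorem f9069 : C.T (v15 C) [21, 42, 52, 79, 92, 110, 125] (v18 C) [21, 29, 53, 81, 92, 110, 111] :=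
  C.closeT (p := (v2 C)) (pu := [23, 46, 49, 78, 95, 109, 120])
    (C.pT (f9062 C)
    (C.pH [26, 38, 54, 89, 90, 113] [6, 37, 66, 79, 105, 116] (by decide +kernel)
    (C.pT (f9064 C)
    (C.pH [8, 30, 65, 84, 94, 117] [21, 42, 52, 79, 92, 110, 125] (by decide +kernel) (C.pNil _ _)))))
    (C.pH [26, 38, 54, 89, 90, 113] [6, 59, 72, 98, 110, 122] (by decide +kernel)
    (C.pT (f9068 C)
    (C.pH [8, 30, 65, 84, 94, 117] [23, 46, 49, 78, 95, 109, 120] (by decide +kernel) (C.pNil _ _))))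
    (C.loop_of_one (relLoop2 C) _ _)

theorem f9070 : C.T (v18 C) [21, 29, 53, 81, 92, 110, 111] (v15 C) [21, 42, 52, 79, 92, 110, 125] :=
  C.flip (f9069 C)

theorem f9071 : C.T (v2 C) [8, 48, 50, 74, 95, 112] (v18 C) [20, 47, 54, 78, 92, 110, 117] :=
  C.conv (f6850 C) (f6867 C) (f6867 C) _ [170, 175] _ (by decide +kernel) (by decide +kernel) (by decide +kernel)

theorem f9072 : C.S (v2 C) [18, 44, 68, 81, 106, 109, 118] :=
  C.stMul (f138 C) (f115 C) _ (by decide +kernel)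

theorem f9073 : C.S (v2 C) [25, 42, 51, 81, 102, 109, 116] :=
  C.stMul (f243 C) (f9072 C) _ (by decide +kernel)

theorem f9074 : C.T (v2 C) [44, 64, 76, 97, 110, 120] (v17 C) [15, 31, 52, 75, 103, 109, 116] :=
  C.conv (f6632 C) (f6971 C) (f9073 C) _ [132, 154, 170, 173, 178] _ (by decide +kernel) (by decide +kernel) (by decide +kernel)

theorem f9075 : C.T (v17 C) [15, 31, 52, 75, 103, 109, 116] (v2 C) [44, 64, 76, 97, 110, 120] :=
  C.flip (f9074 C)

theorem f9076 : C.S (v17 C) [23, 31, 49, 84, 96, 117] :=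
  C.stMul (f4137 C) (f4137 C) _ (by decide +kernel)

theorem f9077 : C.T (v17 C) [20, 31, 82, 99, 116] (v18 C) [9, 46, 55, 76, 97, 110, 124] :=
  C.conv (f7569 C) (f9076 C) (f9076 C) _ [139, 154, 168, 172, 177] _ (by decide +kernel) (by decide +kernel) (by decide +kernel)

theorem f9078 : C.T (v18 C) [9, 46, 55, 76, 97, 110, 124] (v17 C) [20, 31, 82, 99, 116] :=
  C.flip (f9077 C)

theorem f9079 : C.T (v18 C) [15, 41, 52, 84, 93, 109, 123] (v18 C) [25, 38, 63, 82, 100, 122] :=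
  C.closeT (p := (v2 C)) (pu := [8, 48, 50, 74, 95, 112])
    (C.pT (f9071 C)
    (C.pH [26, 38, 54, 89, 90, 113] [15, 41, 52, 84, 93, 109, 123] (by decide +kernel) (C.pNil _ _)))
    (C.pH [8, 30, 65, 84, 94, 117] [9, 46, 55, 76, 97, 110, 124] (by decide +kernel)
    (C.pT (f9078 C)
    (C.pH [26, 38, 54, 89, 90, 113] [15, 31, 52, 75, 103, 109, 116] (by decide +kernel)
    (C.pT (f9075 C)
    (C.pH [8, 30, 65, 84, 94, 117] [8, 48, 50, 74, 95, 112] (by decide +kernel) (C.pNil _ _))))))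
    (C.loop_of_one (relLoop2 C) _ _)

theorem f9080 : C.T (v18 C) [25, 38, 63, 82, 100, 122] (v18 C) [15, 41, 52, 84, 93, 109, 123] :=
  C.flip (f9079 C)

theorem f9081 : C.T (v2 C) [14, 39, 50, 73, 105, 109, 118] (v18 C) [20, 47, 49, 77, 92, 111] :=
  C.conv (f6850 C) (f6867 C) (f6867 C) _ [145, 154, 168, 177] _ (by decide +kernel) (by decide +kernel) (by decide +kernel)

theorem f9082 : C.S (v2 C) [28, 55, 71, 96, 114] :=
  C.stMul (f138 C) (f7727 C) _ (by decide +kernel)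

theorem f9083 : C.T (v2 C) [26, 31, 68, 93, 109] (v17 C) [16, 36, 54, 83, 94, 111] :=
  C.conv (f6632 C) (f6971 C) (f9082 C) _ [140, 159, 170, 175, 177] _ (by decide +kernel) (by decide +kernel) (by decide +kernel)

theorem f9084 : C.T (v17 C) [16, 36, 54, 83, 94, 111] (v2 C) [26, 31, 68, 93, 109] :=
  C.flip (f9083 C)

theorem f9085 : C.T (v17 C) [26, 41, 100, 109, 123] (v15 C) [5, 39, 63, 82, 99, 112] :=
  C.conv (f5617 C) (f4132 C) (f4132 C) _ [127, 158, 164, 176] _ (by decide +kernel) (by decide +kernel) (by decide +kernel)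

theorem f9086 : C.T (v15 C) [5, 39, 63, 82, 99, 112] (v17 C) [26, 41, 100, 109, 123] :=
  C.flip (f9085 C)

theorem f9087 : C.T (v18 C) [15, 41, 66, 72, 90, 110] (v15 C) [14, 33, 63, 76, 110, 117] :=
  C.closeT (p := (v2 C)) (pu := [14, 39, 50, 73, 105, 109, 118])
    (C.pT (f9081 C)
    (C.pH [26, 38, 54, 89, 90, 113] [15, 41, 66, 72, 90, 110] (by decide +kernel) (C.pNil _ _)))
    (C.pH [8, 30, 65, 84, 94, 117] [5, 39, 63, 82, 99, 112] (by decide +kernel)
    (C.pT (f9086 C)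
    (C.pH [26, 38, 54, 89, 90, 113] [16, 36, 54, 83, 94, 111] (by decide +kernel)
    (C.pT (f9084 C)
    (C.pH [8, 30, 65, 84, 94, 117] [14, 39, 50, 73, 105, 109, 118] (by decide +kernel) (C.pNil _ _))))))
    (C.loop_of_one (relLoop2 C) _ _)

theorem f9088 : C.T (v15 C) [14, 33, 63, 76, 110, 117] (v18 C) [15, 41, 66, 72, 90, 110] :=
  C.flip (f9087 C)

theorem f9089 : C.T (v2 C) [14, 48, 67, 79, 98, 110, 116] (v18 C) [22, 43, 61, 73, 125] :=
  C.conv (f6850 C) (f6867 C) (f6867 C) _ [134, 162, 169, 171, 178] _ (by decide +kernel) (by decide +kernel) (by decide +kernel)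

theorem f9090 : C.S (v2 C) [12, 30, 55, 77, 93, 124] :=
  C.stMul (f243 C) (f138 C) _ (by decide +kernel)

theorem f9091 : C.S (v2 C) [15, 46, 51, 72, 98, 110, 118] :=
  C.stMul (f211 C) (f9090 C) _ (by decide +kernel)

theorem f9092 : C.S (v2 C) [17, 45, 65, 82, 101, 109, 118] :=
  C.stMul (f115 C) (f9091 C) _ (by decide +kernel)

theorem f9093 : C.T (v2 C) [26, 47, 50, 72, 97, 110, 123] (v17 C) [24, 37, 69, 80, 90, 109, 111] :=
  C.conv (f6632 C) (f6971 C) (f9092 C) _ [142, 161, 170, 175, 178] _ (by decide +kernel) (by decide +kernel) (by decide +kernel)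

theorem f9094 : C.T (v17 C) [24, 37, 69, 80, 90, 109, 111] (v2 C) [26, 47, 50, 72, 97, 110, 123] :=
  C.flip (f9093 C)

theorem f9095 : C.S (v17 C) [23, 31, 75, 92, 109, 116] :=
  C.stMul (f4137 C) (f4132 C) _ (by decide +kernel)

theorem f9096 : C.T (v17 C) [11, 38, 56, 70, 99, 110, 115] (v9 C) [21, 43, 61, 78, 105, 116] :=
  C.conv (f4224 C) (f9095 C) (f4300 C) _ [143, 156, 167, 174] _ (by decide +kernel) (by decide +kernel) (by decide +kernel)

theorem f9097 : C.T (v9 C) [21, 43, 61, 78, 105, 116] (v17 C) [11, 38, 56, 70, 99, 110, 115] :=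
  C.flip (f9096 C)

theorem f9098 : C.T (v18 C) [19, 35, 61, 77, 107, 109, 117] (v9 C) [12, 43, 51, 74, 96, 109, 117] :=
  C.closeT (p := (v2 C)) (pu := [14, 48, 67, 79, 98, 110, 116])
    (C.pT (f9089 C)
    (C.pH [26, 38, 54, 89, 90, 113] [19, 35, 61, 77, 107, 109, 117] (by decide +kernel) (C.pNil _ _)))
    (C.pH [8, 30, 65, 84, 94, 117] [21, 43, 61, 78, 105, 116] (by decide +kernel)
    (C.pT (f9097 C)
    (C.pH [26, 38, 54, 89, 90, 113] [24, 37, 69, 80, 90, 109, 111] (by decide +kernel)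
    (C.pT (f9094 C)
    (C.pH [8, 30, 65, 84, 94, 117] [14, 48, 67, 79, 98, 110, 116] (by decide +kernel) (C.pNil _ _))))))
    (C.loop_of_one (relLoop2 C) _ _)

theorem f9099 : C.T (v9 C) [12, 43, 51, 74, 96, 109, 117] (v18 C) [19, 35, 61, 77, 107, 109, 117] :=
  C.flip (f9098 C)

theorem f9100 : C.T (v2 C) [9, 34, 52, 93, 110, 117] (v18 C) [8, 30, 63, 72, 104, 110, 120] :=
  C.conv (f6850 C) (f6867 C) (f6867 C) _ [148, 156, 164, 171, 178] _ (by decide +kernel) (by decide +kernel) (by decide +kernel)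

theorem f9101 : C.T (v2 C) [25, 30, 51, 88, 106, 121] (v18 C) [21, 47, 51, 71, 92, 110, 122] :=
  C.conv (f6850 C) (f6867 C) (f7248 C) _ [131, 161, 170, 173] _ (by decide +kernel) (by decide +kernel) (by decide +kernel)

theorem f9102 : C.T (v18 C) [21, 47, 51, 71, 92, 110, 122] (v2 C) [25, 30, 51, 88, 106, 121] :=
  C.flip (f9101 C)

theorem f9103 : C.S (v18 C) [26, 43, 49, 77, 91, 110, 115] :=
  C.stMul (f6836 C) (f6836 C) _ (by decide +kernel)

theorem f9104 : C.T (v18 C) [10, 48, 50, 86, 101, 109, 117] (v18 C) [25, 27, 50, 81, 91, 109] :=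
  C.conv (f8026 C) (f9103 C) (f7121 C) _ [147, 156, 176] _ (by decide +kernel) (by decide +kernel) (by decide +kernel)

theorem f9105 : C.T (v18 C) [25, 27, 50, 81, 91, 109] (v18 C) [10, 48, 50, 86, 101, 109, 117] :=
  C.flip (f9104 C)

theorem f9106 : C.T (v18 C) [11, 27, 66, 85, 93, 109, 114] (v18 C) [4, 28, 59, 76, 101, 110, 115] :=
  C.closeT (p := (v2 C)) (pu := [9, 34, 52, 93, 110, 117])
    (C.pT (f9100 C)
    (C.pH [26, 38, 54, 89, 90, 113] [11, 27, 66, 85, 93, 109, 114] (by decide +kernel) (C.pNil _ _)))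
    (C.pH [8, 30, 65, 84, 94, 117] [25, 27, 50, 81, 91, 109] (by decide +kernel)
    (C.pT (f9105 C)
    (C.pH [26, 38, 54, 89, 90, 113] [21, 47, 51, 71, 92, 110, 122] (by decide +kernel)
    (C.pT (f9102 C)
    (C.pH [8, 30, 65, 84, 94, 117] [9, 34, 52, 93, 110, 117] (by decide +kernel) (C.pNil _ _))))))
    (C.loop_of_one (relLoop2 C) _ _)

theorem f9107 : C.T (v18 C) [4, 28, 59, 76, 101, 110, 115] (v18 C) [11, 27, 66, 85, 93, 109, 114] :=
  C.flip (f9106 C)

theorem f9108 : C.T (v2 C) [14, 33, 64, 71, 107, 109, 119] (v18 C) [25, 48, 76, 90, 110, 116] :=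
  C.conv (f6850 C) (f6867 C) (f6867 C) _ [132, 161, 165, 172, 177] _ (by decide +kernel) (by decide +kernel) (by decide +kernel)

theorem f9109 : C.S (v2 C) [23, 47, 60, 84, 98, 111] :=
  C.stMul (f109 C) (f101 C) _ (by decide +kernel)

theorem f9110 : C.S (v2 C) [6, 57, 85, 91, 113] :=
  C.stMul (f149 C) (f9109 C) _ (by decide +kernel)

theorem f9111 : C.S (v2 C) [12, 31, 56, 83, 102, 109, 123] :=
  C.stMul (f243 C) (f9110 C) _ (by decide +kernel)

theorem f9112 : C.T (v2 C) [26, 42, 86, 95, 110, 117] (v17 C) [5, 42, 54, 89, 92, 110, 125] :=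
  C.conv (f6632 C) (f6971 C) (f9111 C) _ [126, 156, 169, 172] _ (by decide +kernel) (by decide +kernel) (by decide +kernel)

theorem f9113 : C.T (v17 C) [5, 42, 54, 89, 92, 110, 125] (v2 C) [26, 42, 86, 95, 110, 117] :=
  C.flip (f9112 C)

theorem f9114 : C.T (v17 C) [14, 47, 59, 73, 97, 109, 118] (v17 C) [17, 28, 68, 70, 108, 110, 113] :=
  C.conv (f6427 C) (f6429 C) (f4137 C) _ [147, 161, 170] _ (by decide +kernel) (by decide +kernel) (by decide +kernel)

theorem f9115 : C.T (v17 C) [17, 28, 68, 70, 108, 110, 113] (v17 C) [14, 47, 59, 73, 97, 109, 118] :=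
  C.flip (f9114 C)

theorem f9116 : C.T (v18 C) [18, 40, 68, 89, 92, 111] (v17 C) [7, 55, 77, 93, 113] :=
  C.closeT (p := (v2 C)) (pu := [14, 33, 64, 71, 107, 109, 119])
    (C.pT (f9108 C)
    (C.pH [26, 38, 54, 89, 90, 113] [18, 40, 68, 89, 92, 111] (by decide +kernel) (C.pNil _ _)))
    (C.pH [8, 30, 65, 84, 94, 117] [17, 28, 68, 70, 108, 110, 113] (by decide +kernel)
    (C.pT (f9115 C)
    (C.pH [26, 38, 54, 89, 90, 113] [5, 42, 54, 89, 92, 110, 125] (by decide +kernel)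
    (C.pT (f9113 C)
    (C.pH [8, 30, 65, 84, 94, 117] [14, 33, 64, 71, 107, 109, 119] (by decide +kernel) (C.pNil _ _))))))
    (C.loop_of_one (relLoop2 C) _ _)

theorem f9117 : C.T (v17 C) [7, 55, 77, 93, 113] (v18 C) [18, 40, 68, 89, 92, 111] :=
  C.flip (f9116 C)

theorem f9118 : C.T (v2 C) [23, 38, 65, 88, 95, 117] (v18 C) [19, 36, 55, 78, 104, 109, 119] :=
  C.conv (f6850 C) (f6867 C) (f6867 C) _ [139, 157, 165, 171] _ (by decide +kernel) (by decide +kernel) (by decide +kernel)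

theorem f9119 : C.S (v2 C) [18, 29, 52, 78, 97, 114] :=
  C.stMul (f125 C) (f109 C) _ (by decide +kernel)

theorem f9120 : C.S (v2 C) [9, 44, 69, 89, 99, 110, 121] :=
  C.stMul (f138 C) (f9119 C) _ (by decide +kernel)

theorem f9121 : C.T (v2 C) [20, 59, 79, 90, 109, 123] (v17 C) [21, 41, 58, 87, 102, 110, 125] :=
  C.conv (f6632 C) (f6971 C) (f9120 C) _ [144, 160, 170, 173, 178] _ (by decide +kernel) (by decide +kernel) (by decide +kernel)

theorem f9122 : C.T (v17 C) [21, 41, 58, 87, 102, 110, 125] (v2 C) [20, 59, 79, 90, 109, 123] :=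
  C.flip (f9121 C)

theorem f9123 : C.S (v17 C) [23, 31, 49, 84, 96, 117] :=
  C.stMul (f4137 C) (f4137 C) _ (by decide +kernel)

theorem f9124 : C.T (v17 C) [10, 34, 69, 82, 98, 111] (v17 C) [13, 32, 63, 87, 103, 110, 122] :=
  C.conv (f6491 C) (f9123 C) (f9123 C) _ [145, 150, 166, 178] _ (by decide +kernel) (by decide +kernel) (by decide +kernel)

theorem f9125 : C.T (v17 C) [13, 32, 63, 87, 103, 110, 122] (v17 C) [10, 34, 69, 82, 98, 111] :=
  C.flip (f9124 C)

theorem f9126 : C.T (v18 C) [17, 41, 52, 76, 93, 120] (v17 C) [6, 33, 50, 86, 100, 109] :=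
  C.closeT (p := (v2 C)) (pu := [23, 38, 65, 88, 95, 117])
    (C.pT (f9118 C)
    (C.pH [26, 38, 54, 89, 90, 113] [17, 41, 52, 76, 93, 120] (by decide +kernel) (C.pNil _ _)))
    (C.pH [8, 30, 65, 84, 94, 117] [13, 32, 63, 87, 103, 110, 122] (by decide +kernel)
    (C.pT (f9125 C)
    (C.pH [26, 38, 54, 89, 90, 113] [21, 41, 58, 87, 102, 110, 125] (by decide +kernel)
    (C.pT (f9122 C)
    (C.pH [8, 30, 65, 84, 94, 117] [23, 38, 65, 88, 95, 117] (by decide +kernel) (C.pNil _ _))))))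
    (C.loop_of_one (relLoop2 C) _ _)

end CfsgLib.J4Index
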