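import Cfsg.Agent.Lib.J4Index.Facts8

/-!
# Derived equations (generated)
-/

set_option autoImplicit false
set_option maxRecDepth 100000
set_option linter.style.longLine false

namespace CfsgLib.J4Index

variable {G X : Type} [Group G] [MulAction G X] (C : Ctx G X)

theorem f9127 : C.T (v17 C) [6, 33, 50, 86, 100, 109] (v18 C) [17, 41, 52, 76, 93, 120] :=
  C.flip (f9126 C)

theorem f9128 : C.T (v2 C) [7, 32, 68, 77, 93, 110, 118] (v18 C) [9, 44, 54, 81, 102, 122] :=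
  C.conv (f6850 C) (f6867 C) (f6867 C) _ [128, 150, 167, 178] _ (by decide +kernel) (by decide +kernel) (by decide +kernel)

theorem f9129 : C.S (v2 C) [5, 33, 82, 107, 111] :=
  C.stMul (f211 C) (f243 C) _ (by decide +kernel)

theorem f9130 : C.S (v2 C) [8, 46, 55, 78, 93, 116] :=
  C.stMul (f138 C) (f9129 C) _ (by decide +kernel)

theorem f9131 : C.T (v2 C) [11, 41, 77, 97, 109, 125] (v15 C) [8, 45, 69, 75, 90, 110, 114] :=
  C.conv (f2638 C) (f3254 C) (f9130 C) _ [132, 161, 166, 173, 178] _ (by decide +kernel) (by decide +kernel) (by decide +kernel)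

theorem f9132 : C.T (v15 C) [8, 45, 69, 75, 90, 110, 114] (v2 C) [11, 41, 77, 97, 109, 125] :=
  C.flip (f9131 C)

theorem f9133 : C.S (v15 C) [25, 47, 66, 86, 107, 124] :=
  C.stMul (f2569 C) (f2565 C) _ (by decide +kernel)

theorem f9134 : C.S (v15 C) [24, 44, 51, 82, 106, 110, 112] :=
  C.stMul (f2565 C) (f9133 C) _ (by decide +kernel)

theorem f9135 : C.S (v15 C) [24, 34, 69, 71, 96, 109] :=
  C.stMul (f2581 C) (f9134 C) _ (by decide +kernel)

theorem f9136 : C.S (v15 C) [20, 39, 55, 88, 95, 110, 125] :=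
  C.stMul (f2581 C) (f2565 C) _ (by decide +kernel)

theorem f9137 : C.S (v15 C) [34, 69, 79, 92, 114] :=
  C.stMul (f2565 C) (f9136 C) _ (by decide +kernel)

theorem f9138 : C.T (v15 C) [5, 40, 60, 79, 99, 110, 116] (v18 C) [6, 29, 67, 80, 100, 118] :=
  C.conv (f8899 C) (f9135 C) (f9137 C) _ [128, 154, 167, 175, 178] _ (by decide +kernel) (by decide +kernel) (by decide +kernel)

theorem f9139 : C.T (v18 C) [6, 29, 67, 80, 100, 118] (v15 C) [5, 40, 60, 79, 99, 110, 116] :=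
  C.flip (f9138 C)

theorem f9140 : C.T (v18 C) [22, 48, 58, 87, 103, 110, 114] (v18 C) [22, 34, 61, 72, 107, 110, 121] :=
  C.closeT (p := (v2 C)) (pu := [7, 32, 68, 77, 93, 110, 118])
    (C.pT (f9128 C)
    (C.pH [26, 38, 54, 89, 90, 113] [22, 48, 58, 87, 103, 110, 114] (by decide +kernel) (C.pNil _ _)))
    (C.pH [8, 30, 65, 84, 94, 117] [6, 29, 67, 80, 100, 118] (by decide +kernel)
    (C.pT (f9139 C)
    (C.pH [26, 38, 54, 89, 90, 113] [8, 45, 69, 75, 90, 110, 114] (by decide +kernel)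
    (C.pT (f9132 C)
    (C.pH [8, 30, 65, 84, 94, 117] [7, 32, 68, 77, 93, 110, 118] (by decide +kernel) (C.pNil _ _))))))
    (C.loop_of_one (relLoop2 C) _ _)

theorem f9141 : C.T (v18 C) [22, 34, 61, 72, 107, 110, 121] (v18 C) [22, 48, 58, 87, 103, 110, 114] :=
  C.flip (f9140 C)

theorem f9142 : C.T (v2 C) [9, 32, 52, 85, 98, 118] (v18 C) [12, 46, 60, 76, 102, 121] :=
  C.conv (f6850 C) (f6867 C) (f6867 C) _ [140, 160, 164, 172, 177] _ (by decide +kernel) (by decide +kernel) (by decide +kernel)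

theorem f9143 : C.S (v2 C) [20, 48, 51, 81, 90, 116] :=
  C.stMul (f115 C) (f101 C) _ (by decide +kernel)

theorem f9144 : C.S (v2 C) [10, 43, 63, 77, 110, 116] :=
  C.stMul (f211 C) (f9143 C) _ (by decide +kernel)

theorem f9145 : C.S (v2 C) [6, 64, 80, 93] :=
  C.stMul (f211 C) (f9144 C) _ (by decide +kernel)

theorem f9146 : C.T (v2 C) [25, 47, 69, 83, 96, 109, 122] (v3 C) [26, 44, 65, 76, 95, 109, 125] :=
  C.conv (f817 C) (f837 C) (f9145 C) _ [131, 168, 173, 177] _ (by decide +kernel) (by decide +kernel) (by decide +kernel)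

theorem f9147 : C.T (v3 C) [26, 44, 65, 76, 95, 109, 125] (v2 C) [25, 47, 69, 83, 96, 109, 122] :=
  C.flip (f9146 C)

theorem f9148 : C.S (v3 C) [15, 34, 56, 71, 106, 109, 117] :=
  C.stMul (f331 C) (f353 C) _ (by decide +kernel)

theorem f9149 : C.S (v3 C) [15, 40, 50, 78, 92, 118] :=
  C.stMul (f328 C) (f9148 C) _ (by decide +kernel)

theorem f9150 : C.S (v3 C) [16, 39, 64, 74, 93, 112] :=
  C.stMul (f335 C) (f9149 C) _ (by decide +kernel)

theorem f9151 : C.S (v3 C) [25, 29, 76, 106, 113] :=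
  C.stMul (f331 C) (f9150 C) _ (by decide +kernel)

theorem f9152 : C.T (v3 C) [44, 51, 71, 106, 109, 111] (v17 C) [10, 43, 51, 79, 93, 112] :=
  C.conv (f6814 C) (f7361 C) (f9151 C) _ [131, 163, 167, 172] _ (by decide +kernel) (by decide +kernel) (by decide +kernel)

theorem f9153 : C.T (v17 C) [10, 43, 51, 79, 93, 112] (v3 C) [44, 51, 71, 106, 109, 111] :=
  C.flip (f9152 C)

theorem f9154 : C.T (v18 C) [14, 38, 69, 81, 100, 122] (v17 C) [23, 44, 65, 88, 92, 123] :=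
  C.closeT (p := (v2 C)) (pu := [9, 32, 52, 85, 98, 118])
    (C.pT (f9142 C)
    (C.pH [26, 38, 54, 89, 90, 113] [14, 38, 69, 81, 100, 122] (by decide +kernel) (C.pNil _ _)))
    (C.pH [8, 30, 65, 84, 94, 117] [10, 43, 51, 79, 93, 112] (by decide +kernel)
    (C.pT (f9153 C)
    (C.pH [26, 38, 54, 89, 90, 113] [26, 44, 65, 76, 95, 109, 125] (by decide +kernel)
    (C.pT (f9147 C)
    (C.pH [8, 30, 65, 84, 94, 117] [9, 32, 52, 85, 98, 118] (by decide +kernel) (C.pNil _ _))))))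
    (C.loop_of_one (relLoop2 C) _ _)

theorem f9155 : C.T (v17 C) [23, 44, 65, 88, 92, 123] (v18 C) [14, 38, 69, 81, 100, 122] :=
  C.flip (f9154 C)

theorem f9156 : C.T (v2 C) [20, 46, 49, 75, 101, 125] (v18 C) [14, 42, 63, 72, 100, 109, 120] :=
  C.conv (f6850 C) (f6867 C) (f6867 C) _ [141, 154, 166, 175, 177] _ (by decide +kernel) (by decide +kernel) (by decide +kernel)

theorem f9157 : C.S (v2 C) [4, 46, 61, 78, 103, 115] :=
  C.stMul (f138 C) (f1121 C) _ (by decide +kernel)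

theorem f9158 : C.S (v2 C) [18, 29, 56, 72, 102, 109, 121] :=
  C.stMul (f211 C) (f9157 C) _ (by decide +kernel)

theorem f9159 : C.T (v2 C) [16, 35, 57, 77, 94, 110, 114] (v5 C) [4, 30, 60, 81, 101, 110, 111] :=
  C.conv (f982 C) (f323 C) (f9158 C) _ [126, 156, 165, 171] _ (by decide +kernel) (by decide +kernel) (by decide +kernel)

theorem f9160 : C.T (v5 C) [4, 30, 60, 81, 101, 110, 111] (v2 C) [16, 35, 57, 77, 94, 110, 114] :=
  C.flip (f9159 C)

theorem f9161 : C.S (v5 C) [20, 48, 54, 82, 103, 116] :=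
  C.stMul (f1023 C) (f1141 C) _ (by decide +kernel)

theorem f9162 : C.S (v5 C) [20, 33, 64, 79, 95, 109, 116] :=
  C.stMul (f1141 C) (f9161 C) _ (by decide +kernel)

theorem f9163 : C.S (v5 C) [40, 65, 79, 103, 110, 124] :=
  C.stMul (f1008 C) (f1141 C) _ (by decide +kernel)

theorem f9164 : C.S (v5 C) [40, 65, 85, 107, 118] :=
  C.stMul (f1141 C) (f9163 C) _ (by decide +kernel)

theorem f9165 : C.T (v5 C) [6, 37, 58, 108, 109, 121] (v18 C) [22, 35, 62, 74, 100, 110, 111] :=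
  C.conv (f7155 C) (f9162 C) (f9164 C) _ [126, 161, 165, 178] _ (by decide +kernel) (by decide +kernel) (by decide +kernel)

theorem f9166 : C.T (v18 C) [22, 35, 62, 74, 100, 110, 111] (v5 C) [6, 37, 58, 108, 109, 121] :=
  C.flip (f9165 C)

theorem f9167 : C.T (v18 C) [5, 34, 52, 71, 107] (v18 C) [17, 40, 67, 87, 92, 110, 125] :=
  C.closeT (p := (v2 C)) (pu := [20, 46, 49, 75, 101, 125])
    (C.pT (f9156 C)
    (C.pH [26, 38, 54, 89, 90, 113] [5, 34, 52, 71, 107] (by decide +kernel) (C.pNil _ _)))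
    (C.pH [8, 30, 65, 84, 94, 117] [22, 35, 62, 74, 100, 110, 111] (by decide +kernel)
    (C.pT (f9166 C)
    (C.pH [26, 38, 54, 89, 90, 113] [4, 30, 60, 81, 101, 110, 111] (by decide +kernel)
    (C.pT (f9160 C)
    (C.pH [8, 30, 65, 84, 94, 117] [20, 46, 49, 75, 101, 125] (by decide +kernel) (C.pNil _ _))))))
    (C.loop_of_one (relLoop2 C) _ _)

theorem f9168 : C.T (v18 C) [17, 40, 67, 87, 92, 110, 125] (v18 C) [5, 34, 52, 71, 107] :=
  C.flip (f9167 C)

theorem f9169 : C.T (v2 C) [18, 30, 67, 85, 103, 125] (v18 C) [21, 32, 55, 86, 107, 113] :=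
  C.conv (f6850 C) (f6867 C) (f6867 C) _ [135, 156, 166, 176, 178] _ (by decide +kernel) (by decide +kernel) (by decide +kernel)

theorem f9170 : C.S (v2 C) [20, 48, 51, 81, 90, 116] :=
  C.stMul (f115 C) (f101 C) _ (by decide +kernel)

theorem f9171 : C.S (v2 C) [4, 46, 62, 84, 108, 110] :=
  C.stMul (f138 C) (f9170 C) _ (by decide +kernel)

theorem f9172 : C.S (v2 C) [18, 29, 64, 86, 93, 111] :=
  C.stMul (f211 C) (f9171 C) _ (by decide +kernel)

theorem f9173 : C.T (v2 C) [9, 36, 50, 87, 102, 109, 118] (v17 C) [13, 32, 66, 71, 108] :=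
  C.conv (f6632 C) (f6971 C) (f9172 C) _ [142, 161, 167, 173] _ (by decide +kernel) (by decide +kernel) (by decide +kernel)

theorem f9174 : C.T (v17 C) [13, 32, 66, 71, 108] (v2 C) [9, 36, 50, 87, 102, 109, 118] :=
  C.flip (f9173 C)

theorem f9175 : C.T (v17 C) [16, 39, 54, 84, 98, 124] (v17 C) [12, 32, 59, 85, 102, 110, 124] :=
  C.conv (f4522 C) (f4300 C) (f4132 C) _ [158, 168, 172] _ (by decide +kernel) (by decide +kernel) (by decide +kernel)

theorem f9176 : C.T (v17 C) [12, 32, 59, 85, 102, 110, 124] (v17 C) [16, 39, 54, 84, 98, 124] :=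
  C.flip (f9175 C)

theorem f9177 : C.T (v18 C) [6, 47, 61, 84, 100, 109] (v17 C) [5, 41, 62, 79, 99, 114] :=
  C.closeT (p := (v2 C)) (pu := [18, 30, 67, 85, 103, 125])
    (C.pT (f9169 C)
    (C.pH [26, 38, 54, 89, 90, 113] [6, 47, 61, 84, 100, 109] (by decide +kernel) (C.pNil _ _)))
    (C.pH [8, 30, 65, 84, 94, 117] [12, 32, 59, 85, 102, 110, 124] (by decide +kernel)
    (C.pT (f9176 C)
    (C.pH [26, 38, 54, 89, 90, 113] [13, 32, 66, 71, 108] (by decide +kernel)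
    (C.pT (f9174 C)
    (C.pH [8, 30, 65, 84, 94, 117] [18, 30, 67, 85, 103, 125] (by decide +kernel) (C.pNil _ _))))))
    (C.loop_of_one (relLoop2 C) _ _)

theorem f9178 : C.T (v17 C) [5, 41, 62, 79, 99, 114] (v18 C) [6, 47, 61, 84, 100, 109] :=
  C.flip (f9177 C)

theorem f9179 : C.T (v3 C) [9, 36, 56, 71, 118] (v4 C) [12, 40, 65, 89, 107, 124] :=
  C.conv (f808 C) (f938 C) (f938 C) _ [140, 162, 164] _ (by decide +kernel) (by decide +kernel) (by decide +kernel)

theorem f9180 : C.S (v4 C) [18, 46, 49, 75, 97, 110, 118] :=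
  C.stMul (f407 C) (f407 C) _ (by decide +kernel)

theorem f9181 : C.S (v4 C) [10, 42, 56, 80, 93, 109, 122] :=
  C.stMul (f693 C) (f9180 C) _ (by decide +kernel)

theorem f9182 : C.T (v4 C) [23, 32, 66, 77, 95, 110, 118] (v18 C) [38, 77, 102, 109, 116] :=
  C.conv (f8441 C) (f421 C) (f9181 C) _ [140, 153, 168, 175] _ (by decide +kernel) (by decide +kernel) (by decide +kernel)

theorem f9183 : C.T (v18 C) [12, 47, 61, 71, 97, 119] (v3 C) [25, 30, 67, 82, 99, 110, 115] :=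
  C.closeT (p := (v3 C)) (pu := [9, 36, 56, 71, 118])
    (C.pT (f9179 C)
    (C.pH [12, 35, 50, 83] [23, 32, 66, 77, 95, 110, 118] (by decide +kernel)
    (C.pT (f9182 C)
    (C.pH [12, 35, 50, 83] [12, 47, 61, 71, 97, 119] (by decide +kernel) (C.pNil _ _)))))
    (C.pH [12, 35, 50, 83] [9, 36, 56, 71, 118] (by decide +kernel) (C.pNil _ _))
    (C.loop_of_one (relLoop0 C) _ _)

theorem f9184 : C.T (v3 C) [25, 30, 67, 82, 99, 110, 115] (v18 C) [12, 47, 61, 71, 97, 119] :=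
  C.flip (f9183 C)

theorem f9185 : C.T (v3 C) [23, 30, 54, 70, 100, 110] (v15 C) [4, 62, 79, 108, 109, 111] :=
  C.conv (f2902 C) (f2981 C) (f2981 C) _ [132, 157, 164, 176, 177] _ (by decide +kernel) (by decide +kernel) (by decide +kernel)

theorem f9186 : C.T (v3 C) [12, 46, 54, 77, 90, 109, 122] (v18 C) [24, 28, 55, 70, 108, 109, 115] :=
  C.conv (f8216 C) (f8435 C) (f8433 C) _ [143, 156, 165, 173, 177] _ (by decide +kernel) (by decide +kernel) (by decide +kernel)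

theorem f9187 : C.T (v18 C) [24, 28, 55, 70, 108, 109, 115] (v3 C) [12, 46, 54, 77, 90, 109, 122] :=
  C.flip (f9186 C)

theorem f9188 : C.T (v15 C) [13, 41, 51, 89, 99, 117] (v18 C) [19, 45, 55, 71, 107, 109, 111] :=
  C.closeT (p := (v3 C)) (pu := [23, 30, 54, 70, 100, 110])
    (C.pT (f9185 C)
    (C.pH [12, 35, 50, 83] [13, 41, 51, 89, 99, 117] (by decide +kernel) (C.pNil _ _)))
    (C.pH [12, 35, 50, 83] [24, 28, 55, 70, 108, 109, 115] (by decide +kernel)
    (C.pT (f9187 C)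
    (C.pH [12, 35, 50, 83] [23, 30, 54, 70, 100, 110] (by decide +kernel) (C.pNil _ _))))
    (C.loop_of_one (relLoop0 C) _ _)

theorem f9189 : C.T (v18 C) [19, 45, 55, 71, 107, 109, 111] (v15 C) [13, 41, 51, 89, 99, 117] :=
  C.flip (f9188 C)

theorem f9190 : C.T (v3 C) [42, 61, 73, 92, 110, 120] (v15 C) [11, 27, 57, 82, 106, 109, 113] :=
  C.conv (f3166 C) (f3236 C) (f3236 C) _ [128, 157, 170, 171] _ (by decide +kernel) (by decide +kernel) (by decide +kernel)

theorem f9191 : C.S (v3 C) [13, 29, 60, 92, 109, 121] :=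
  C.stMul (f353 C) (f328 C) _ (by decide +kernel)

theorem f9192 : C.S (v3 C) [30, 69, 79, 91] :=
  C.stMul (f335 C) (f9191 C) _ (by decide +kernel)

theorem f9193 : C.S (v3 C) [11, 37, 67, 78, 101, 109, 120] :=
  C.stMul (f328 C) (f9192 C) _ (by decide +kernel)

theorem f9194 : C.S (v3 C) [13, 37, 57, 76, 92, 109, 116] :=
  C.stMul (f353 C) (f9193 C) _ (by decide +kernel)

theorem f9195 : C.T (v3 C) [23, 36, 64, 74, 94, 110, 113] (v18 C) [21, 29, 60, 95, 122] :=
  C.conv (f8216 C) (f8435 C) (f9194 C) _ [128, 157, 170, 174, 177] _ (by decide +kernel) (by decide +kernel) (by decide +kernel)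

theorem f9196 : C.T (v18 C) [21, 29, 60, 95, 122] (v3 C) [23, 36, 64, 74, 94, 110, 113] :=
  C.flip (f9195 C)

theorem f9197 : C.T (v15 C) [20, 38, 59, 79, 90, 110, 124] (v18 C) [10, 42, 60, 95, 122] :=
  C.closeT (p := (v3 C)) (pu := [42, 61, 73, 92, 110, 120])
    (C.pT (f9190 C)
    (C.pH [12, 35, 50, 83] [20, 38, 59, 79, 90, 110, 124] (by decide +kernel) (C.pNil _ _)))
    (C.pH [12, 35, 50, 83] [21, 29, 60, 95, 122] (by decide +kernel)
    (C.pT (f9196 C)
    (C.pH [12, 35, 50, 83] [42, 61, 73, 92, 110, 120] (by decide +kernel) (C.pNil _ _))))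
    (C.loop_of_one (relLoop0 C) _ _)

theorem f9198 : C.T (v18 C) [10, 42, 60, 95, 122] (v15 C) [20, 38, 59, 79, 90, 110, 124] :=
  C.flip (f9197 C)

theorem f9199 : C.T (v3 C) [12, 32, 68, 79, 109, 122] (v15 C) [22, 44, 60, 78, 100, 109] :=
  C.conv (f3166 C) (f3236 C) (f3236 C) _ [126, 163, 168, 175] _ (by decide +kernel) (by decide +kernel) (by decide +kernel)

theorem f9200 : C.S (v3 C) [9, 29, 68, 75, 108, 110, 124] :=
  C.stMul (f335 C) (f328 C) _ (by decide +kernel)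

theorem f9201 : C.S (v3 C) [20, 29, 56, 72, 109, 121] :=
  C.stMul (f335 C) (f9200 C) _ (by decide +kernel)

theorem f9202 : C.T (v3 C) [40, 55, 84, 105, 124] (v18 C) [18, 45, 54, 82, 93, 113] :=
  C.conv (f6916 C) (f7402 C) (f9201 C) _ [146, 159, 167, 174] _ (by decide +kernel) (by decide +kernel) (by decide +kernel)

theorem f9203 : C.T (v18 C) [18, 45, 54, 82, 93, 113] (v3 C) [40, 55, 84, 105, 124] :=
  C.flip (f9202 C)

theorem f9204 : C.T (v15 C) [11, 28, 54, 72, 99, 109, 124] (v18 C) [18, 35, 65, 71, 97, 109] :=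
  C.closeT (p := (v3 C)) (pu := [12, 32, 68, 79, 109, 122])
    (C.pT (f9199 C)
    (C.pH [12, 35, 50, 83] [11, 28, 54, 72, 99, 109, 124] (by decide +kernel) (C.pNil _ _)))
    (C.pH [12, 35, 50, 83] [18, 45, 54, 82, 93, 113] (by decide +kernel)
    (C.pT (f9203 C)
    (C.pH [12, 35, 50, 83] [12, 32, 68, 79, 109, 122] (by decide +kernel) (C.pNil _ _))))
    (C.loop_of_one (relLoop0 C) _ _)

theorem f9205 : C.T (v18 C) [18, 35, 65, 71, 97, 109] (v15 C) [11, 28, 54, 72, 99, 109, 124] :=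
  C.flip (f9204 C)

theorem f9206 : C.T (v3 C) [4, 37, 49, 76, 95] (v15 C) [24, 33, 65, 85, 95, 115] :=
  C.conv (f3166 C) (f3236 C) (f3236 C) _ [148, 161, 169, 171, 178] _ (by decide +kernel) (by decide +kernel) (by decide +kernel)

theorem f9207 : C.S (v3 C) [13, 29, 60, 92, 109, 121] :=
  C.stMul (f353 C) (f328 C) _ (by decide +kernel)

theorem f9208 : C.S (v3 C) [30, 69, 79, 91] :=
  C.stMul (f335 C) (f9207 C) _ (by decide +kernel)

theorem f9209 : C.S (v3 C) [11, 37, 67, 78, 101, 109, 120] :=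
  C.stMul (f328 C) (f9208 C) _ (by decide +kernel)

theorem f9210 : C.S (v3 C) [13, 37, 57, 76, 92, 109, 116] :=
  C.stMul (f353 C) (f9209 C) _ (by decide +kernel)

theorem f9211 : C.T (v3 C) [26, 39, 65, 73, 101, 110, 119] (v18 C) [19, 47, 64, 89, 92, 109, 121] :=
  C.conv (f6916 C) (f7402 C) (f9210 C) _ [146, 153, 168] _ (by decide +kernel) (by decide +kernel) (by decide +kernel)

theorem f9212 : C.T (v18 C) [19, 47, 64, 89, 92, 109, 121] (v3 C) [26, 39, 65, 73, 101, 110, 119] :=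
  C.flip (f9211 C)

theorem f9213 : C.T (v15 C) [6, 39, 63, 83, 91, 109, 112] (v18 C) [6, 46, 69, 72, 100, 110] :=
  C.closeT (p := (v3 C)) (pu := [4, 37, 49, 76, 95])
    (C.pT (f9206 C)
    (C.pH [12, 35, 50, 83] [6, 39, 63, 83, 91, 109, 112] (by decide +kernel) (C.pNil _ _)))
    (C.pH [12, 35, 50, 83] [19, 47, 64, 89, 92, 109, 121] (by decide +kernel)
    (C.pT (f9212 C)
    (C.pH [12, 35, 50, 83] [4, 37, 49, 76, 95] (by decide +kernel) (C.pNil _ _))))
    (C.loop_of_one (relLoop0 C) _ _)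

theorem f9214 : C.T (v18 C) [6, 46, 69, 72, 100, 110] (v15 C) [6, 39, 63, 83, 91, 109, 112] :=
  C.flip (f9213 C)

theorem f9215 : C.T (v3 C) [11, 27, 63, 76, 100, 110, 114] (v15 C) [12, 38, 49, 87, 96, 109, 119] :=
  C.conv (f3166 C) (f3236 C) (f3236 C) _ [130, 161, 165, 173, 177] _ (by decide +kernel) (by decide +kernel) (by decide +kernel)

theorem f9216 : C.S (v15 C) [20, 39, 55, 88, 95, 110, 125] :=
  C.stMul (f2581 C) (f2565 C) _ (by decide +kernel)

theorem f9217 : C.S (v15 C) [34, 69, 79, 92, 114] :=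
  C.stMul (f2565 C) (f9216 C) _ (by decide +kernel)

theorem f9218 : C.S (v15 C) [25, 46, 61, 102, 110, 119] :=
  C.stMul (f2565 C) (f2569 C) _ (by decide +kernel)

theorem f9219 : C.T (v15 C) [23, 34, 63, 79, 97, 111] (v18 C) [26, 43, 50, 84, 101, 119] :=
  C.conv (f7702 C) (f9217 C) (f9218 C) _ [130, 161, 167, 176, 177] _ (by decide +kernel) (by decide +kernel) (by decide +kernel)

theorem f9220 : C.T (v18 C) [4, 46, 60, 70, 93, 109, 125] (v3 C) [22, 37, 74, 96, 110, 119] :=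
  C.closeT (p := (v3 C)) (pu := [11, 27, 63, 76, 100, 110, 114])
    (C.pT (f9215 C)
    (C.pH [12, 35, 50, 83] [23, 34, 63, 79, 97, 111] (by decide +kernel)
    (C.pT (f9219 C)
    (C.pH [12, 35, 50, 83] [4, 46, 60, 70, 93, 109, 125] (by decide +kernel) (C.pNil _ _)))))
    (C.pH [12, 35, 50, 83] [11, 27, 63, 76, 100, 110, 114] (by decide +kernel) (C.pNil _ _))
    (C.loop_of_one (relLoop0 C) _ _)

theorem f9221 : C.T (v3 C) [22, 37, 74, 96, 110, 119] (v18 C) [4, 46, 60, 70, 93, 109, 125] :=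
  C.flip (f9220 C)

theorem f9222 : C.T (v3 C) [19, 37, 52, 82, 107, 123] (v17 C) [4, 47, 55, 80, 107, 109, 114] :=
  C.conv (f6269 C) (f7309 C) (f7309 C) _ [134, 162, 166, 172] _ (by decide +kernel) (by decide +kernel) (by decide +kernel)

theorem f9223 : C.S (v3 C) [14, 36, 68, 75, 101, 109, 114] :=
  C.stMul (f353 C) (f8126 C) _ (by decide +kernel)

theorem f9224 : C.T (v3 C) [6, 40, 61, 70, 99, 109, 122] (v18 C) [26, 43, 53, 89, 100, 115] :=
  C.conv (f7327 C) (f7806 C) (f9223 C) _ [129, 154, 168, 175] _ (by decide +kernel) (by decide +kernel) (by decide +kernel)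

theorem f9225 : C.T (v18 C) [26, 43, 53, 89, 100, 115] (v3 C) [6, 40, 61, 70, 99, 109, 122] :=
  C.flip (f9224 C)

theorem f9226 : C.T (v17 C) [13, 45, 52, 78, 97, 119] (v18 C) [13, 44, 57, 89, 108, 111] :=
  C.closeT (p := (v3 C)) (pu := [19, 37, 52, 82, 107, 123])
    (C.pT (f9222 C)
    (C.pH [12, 35, 50, 83] [13, 45, 52, 78, 97, 119] (by decide +kernel) (C.pNil _ _)))
    (C.pH [12, 35, 50, 83] [26, 43, 53, 89, 100, 115] (by decide +kernel)
    (C.pT (f9225 C)
    (C.pH [12, 35, 50, 83] [19, 37, 52, 82, 107, 123] (by decide +kernel) (C.pNil _ _))))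
    (C.loop_of_one (relLoop0 C) _ _)

theorem f9227 : C.T (v18 C) [13, 44, 57, 89, 108, 111] (v17 C) [13, 45, 52, 78, 97, 119] :=
  C.flip (f9226 C)

theorem f9228 : C.T (v3 C) [24, 38, 66, 75, 102, 109, 117] (v17 C) [11, 31, 69, 76, 101, 122] :=
  C.conv (f6269 C) (f7309 C) (f7309 C) _ [141, 155, 166, 174, 178] _ (by decide +kernel) (by decide +kernel) (by decide +kernel)

theorem f9229 : C.S (v3 C) [9, 29, 68, 75, 108, 110, 124] :=
  C.stMul (f335 C) (f328 C) _ (by decide +kernel)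

theorem f9230 : C.S (v3 C) [13, 45, 62, 78, 97, 110, 120] :=
  C.stMul (f328 C) (f9229 C) _ (by decide +kernel)

theorem f9231 : C.S (v3 C) [8, 44, 66, 72, 107, 109, 116] :=
  C.stMul (f331 C) (f9230 C) _ (by decide +kernel)

theorem f9232 : C.S (v3 C) [15, 28, 70, 106, 118] :=
  C.stMul (f353 C) (f9231 C) _ (by decide +kernel)

theorem f9233 : C.S (v3 C) [20, 42, 68, 89, 99] :=
  C.stMul (f335 C) (f353 C) _ (by decide +kernel)

theorem f9234 : C.S (v3 C) [24, 63, 83, 91, 110, 113] :=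
  C.stMul (f353 C) (f9233 C) _ (by decide +kernel)

theorem f9235 : C.T (v3 C) [19, 28, 60, 103, 109, 125] (v18 C) [6, 34, 58, 79, 94, 123] :=
  C.conv (f9184 C) (f9232 C) (f9234 C) _ [135, 160, 164, 172, 178] _ (by decide +kernel) (by decide +kernel) (by decide +kernel)

theorem f9236 : C.T (v18 C) [6, 34, 58, 79, 94, 123] (v3 C) [19, 28, 60, 103, 109, 125] :=
  C.flip (f9235 C)

theorem f9237 : C.T (v17 C) [20, 41, 52, 89, 98, 109, 112] (v18 C) [24, 46, 59, 83, 107, 110, 112] :=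
  C.closeT (p := (v3 C)) (pu := [24, 38, 66, 75, 102, 109, 117])
    (C.pT (f9228 C)
    (C.pH [12, 35, 50, 83] [20, 41, 52, 89, 98, 109, 112] (by decide +kernel) (C.pNil _ _)))
    (C.pH [12, 35, 50, 83] [6, 34, 58, 79, 94, 123] (by decide +kernel)
    (C.pT (f9236 C)
    (C.pH [12, 35, 50, 83] [24, 38, 66, 75, 102, 109, 117] (by decide +kernel) (C.pNil _ _))))
    (C.loop_of_one (relLoop0 C) _ _)

theorem f9238 : C.T (v18 C) [24, 46, 59, 83, 107, 110, 112] (v17 C) [20, 41, 52, 89, 98, 109, 112] :=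
  C.flip (f9237 C)

theorem f9239 : C.T (v3 C) [19, 33, 77, 120] (v17 C) [25, 47, 66, 70, 95, 120] :=
  C.conv (f6269 C) (f7309 C) (f7309 C) _ [129, 154, 171] _ (by decide +kernel) (by decide +kernel) (by decide +kernel)

theorem f9240 : C.S (v3 C) [21, 46, 68, 75, 95] :=
  C.stMul (f335 C) (f7808 C) _ (by decide +kernel)

theorem f9241 : C.S (v3 C) [14, 46, 79, 106, 123] :=
  C.stMul (f353 C) (f9240 C) _ (by decide +kernel)

theorem f9242 : C.T (v3 C) [6, 45, 64, 78, 101, 124] (v18 C) [15, 41, 57, 78, 93, 109, 119] :=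
  C.conv (f7327 C) (f7806 C) (f9241 C) _ [140, 157, 170, 178] _ (by decide +kernel) (by decide +kernel) (by decide +kernel)

theorem f9243 : C.T (v18 C) [15, 41, 57, 78, 93, 109, 119] (v3 C) [6, 45, 64, 78, 101, 124] :=
  C.flip (f9242 C)

theorem f9244 : C.T (v17 C) [9, 41, 59, 83, 95, 123] (v18 C) [15, 36, 85, 103, 110, 121] :=
  C.closeT (p := (v3 C)) (pu := [19, 33, 77, 120])
    (C.pT (f9239 C)
    (C.pH [12, 35, 50, 83] [9, 41, 59, 83, 95, 123] (by decide +kernel) (C.pNil _ _)))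
    (C.pH [12, 35, 50, 83] [15, 41, 57, 78, 93, 109, 119] (by decide +kernel)
    (C.pT (f9243 C)
    (C.pH [12, 35, 50, 83] [19, 33, 77, 120] (by decide +kernel) (C.pNil _ _))))
    (C.loop_of_one (relLoop0 C) _ _)

theorem f9245 : C.T (v18 C) [15, 36, 85, 103, 110, 121] (v17 C) [9, 41, 59, 83, 95, 123] :=
  C.flip (f9244 C)

theorem f9246 : C.T (v3 C) [19, 41, 57, 89, 108, 117] (v17 C) [20, 40, 54, 88, 101, 110, 117] :=
  C.conv (f6269 C) (f7309 C) (f7309 C) _ [135, 161, 166, 177] _ (by decide +kernel) (by decide +kernel) (by decide +kernel)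

theorem f9247 : C.S (v3 C) [18, 35, 57, 82, 93, 110, 115] :=
  C.stMul (f353 C) (f331 C) _ (by decide +kernel)

theorem f9248 : C.S (v3 C) [6, 45, 53, 79, 94, 110, 115] :=
  C.stMul (f335 C) (f9247 C) _ (by decide +kernel)

theorem f9249 : C.S (v3 C) [4, 28, 64, 75, 93, 109, 113] :=
  C.stMul (f328 C) (f9248 C) _ (by decide +kernel)

theorem f9250 : C.T (v3 C) [6, 32, 49, 80, 104, 109, 124] (v18 C) [24, 45, 66, 89, 96, 110, 119] :=
  C.conv (f9184 C) (f9232 C) (f9249 C) _ [128, 153, 164, 173, 177] _ (by decide +kernel) (by decide +kernel) (by decide +kernel)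

theorem f9251 : C.T (v18 C) [24, 45, 66, 89, 96, 110, 119] (v3 C) [6, 32, 49, 80, 104, 109, 124] :=
  C.flip (f9250 C)

theorem f9252 : C.T (v17 C) [22, 32, 66, 75, 91, 109] (v18 C) [19, 36, 54, 75, 106, 110, 116] :=
  C.closeT (p := (v3 C)) (pu := [19, 41, 57, 89, 108, 117])
    (C.pT (f9246 C)
    (C.pH [12, 35, 50, 83] [22, 32, 66, 75, 91, 109] (by decide +kernel) (C.pNil _ _)))
    (C.pH [12, 35, 50, 83] [24, 45, 66, 89, 96, 110, 119] (by decide +kernel)
    (C.pT (f9251 C)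
    (C.pH [12, 35, 50, 83] [19, 41, 57, 89, 108, 117] (by decide +kernel) (C.pNil _ _))))
    (C.loop_of_one (relLoop0 C) _ _)

theorem f9253 : C.T (v18 C) [19, 36, 54, 75, 106, 110, 116] (v17 C) [22, 32, 66, 75, 91, 109] :=
  C.flip (f9252 C)

theorem f9254 : C.T (v3 C) [26, 28, 85, 92, 117] (v17 C) [20, 41, 60, 70, 104, 114] :=
  C.conv (f6269 C) (f7309 C) (f7309 C) _ [146, 167, 177] _ (by decide +kernel) (by decide +kernel) (by decide +kernel)

theorem f9255 : C.S (v3 C) [10, 28, 62, 78, 98, 110, 120] :=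
  C.stMul (f328 C) (f335 C) _ (by decide +kernel)

theorem f9256 : C.S (v3 C) [11, 40, 64, 79, 95, 109, 116] :=
  C.stMul (f335 C) (f9255 C) _ (by decide +kernel)

theorem f9257 : C.T (v3 C) [13, 41, 63, 103, 120] (v18 C) [7, 38, 68, 82, 98, 109, 117] :=
  C.conv (f8216 C) (f8435 C) (f9256 C) _ [142, 156, 169, 171, 178] _ (by decide +kernel) (by decide +kernel) (by decide +kernel)

theorem f9258 : C.T (v18 C) [7, 38, 68, 82, 98, 109, 117] (v3 C) [13, 41, 63, 103, 120] :=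
  C.flip (f9257 C)

theorem f9259 : C.T (v17 C) [22, 47, 57, 82, 101, 123] (v18 C) [7, 38, 68, 77, 95, 110, 121] :=
  C.closeT (p := (v3 C)) (pu := [26, 28, 85, 92, 117])
    (C.pT (f9254 C)
    (C.pH [12, 35, 50, 83] [22, 47, 57, 82, 101, 123] (by decide +kernel) (C.pNil _ _)))
    (C.pH [12, 35, 50, 83] [7, 38, 68, 82, 98, 109, 117] (by decide +kernel)
    (C.pT (f9258 C)
    (C.pH [12, 35, 50, 83] [26, 28, 85, 92, 117] (by decide +kernel) (C.pNil _ _))))
    (C.loop_of_one (relLoop0 C) _ _)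

theorem f9260 : C.T (v18 C) [7, 38, 68, 77, 95, 110, 121] (v17 C) [22, 47, 57, 82, 101, 123] :=
  C.flip (f9259 C)

theorem f9261 : C.T (v3 C) [12, 44, 50, 73, 103, 110, 117] (v17 C) [4, 40, 69, 75, 104, 110, 121] :=
  C.conv (f6269 C) (f7309 C) (f7309 C) _ [130, 157, 167, 177] _ (by decide +kernel) (by decide +kernel) (by decide +kernel)

theorem f9262 : C.S (v3 C) [22, 29, 89, 96, 109, 125] :=
  C.stMul (f328 C) (f331 C) _ (by decide +kernel)

theorem f9263 : C.S (v3 C) [18, 43, 59, 78, 90, 110, 111] :=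
  C.stMul (f353 C) (f9262 C) _ (by decide +kernel)

theorem f9264 : C.S (v3 C) [38, 66, 70, 98, 110, 116] :=
  C.stMul (f331 C) (f9263 C) _ (by decide +kernel)

theorem f9265 : C.S (v3 C) [9, 39, 64, 82, 92, 109, 114] :=
  C.stMul (f353 C) (f9264 C) _ (by decide +kernel)

theorem f9266 : C.T (v3 C) [27, 51, 86, 108, 110, 120] (v18 C) [12, 34, 69, 86, 108, 122] :=
  C.conv (f6902 C) (f7285 C) (f9265 C) _ [131, 156, 171] _ (by decide +kernel) (by decide +kernel) (by decide +kernel)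

theorem f9267 : C.T (v18 C) [12, 34, 69, 86, 108, 122] (v3 C) [27, 51, 86, 108, 110, 120] :=
  C.flip (f9266 C)

theorem f9268 : C.T (v17 C) [13, 32, 64, 79, 96, 109, 113] (v18 C) [35, 65, 70, 112] :=
  C.closeT (p := (v3 C)) (pu := [12, 44, 50, 73, 103, 110, 117])
    (C.pT (f9261 C)
    (C.pH [12, 35, 50, 83] [13, 32, 64, 79, 96, 109, 113] (by decide +kernel) (C.pNil _ _)))
    (C.pH [12, 35, 50, 83] [12, 34, 69, 86, 108, 122] (by decide +kernel)
    (C.pT (f9267 C)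
    (C.pH [12, 35, 50, 83] [12, 44, 50, 73, 103, 110, 117] (by decide +kernel) (C.pNil _ _))))
    (C.loop_of_one (relLoop0 C) _ _)

theorem f9269 : C.T (v18 C) [35, 65, 70, 112] (v17 C) [13, 32, 64, 79, 96, 109, 113] :=
  C.flip (f9268 C)

theorem f9270 : C.T (v3 C) [18, 45, 69, 75, 93, 125] (v17 C) [4, 29, 66, 80, 100, 110, 125] :=
  C.conv (f6269 C) (f7309 C) (f7309 C) _ [138, 154, 170, 171] _ (by decide +kernel) (by decide +kernel) (by decide +kernel)

theorem f9271 : C.S (v3 C) [16, 36, 62, 79, 96, 109, 125] :=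
  C.stMul (f353 C) (f8436 C) _ (by decide +kernel)

theorem f9272 : C.S (v3 C) [25, 39, 51, 72, 98, 110, 117] :=
  C.stMul (f331 C) (f9271 C) _ (by decide +kernel)

theorem f9273 : C.T (v3 C) [18, 35, 61, 87, 90, 109, 115] (v18 C) [25, 38, 69, 87, 108, 109] :=
  C.conv (f8216 C) (f8435 C) (f9272 C) _ [135, 160, 170, 171] _ (by decide +kernel) (by decide +kernel) (by decide +kernel)

theorem f9274 : C.T (v18 C) [25, 38, 69, 87, 108, 109] (v3 C) [18, 35, 61, 87, 90, 109, 115] :=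
  C.flip (f9273 C)

theorem f9275 : C.T (v17 C) [13, 35, 57, 82, 93, 109, 115] (v18 C) [17, 36, 56, 73, 100, 112] :=
  C.closeT (p := (v3 C)) (pu := [18, 45, 69, 75, 93, 125])
    (C.pT (f9270 C)
    (C.pH [12, 35, 50, 83] [13, 35, 57, 82, 93, 109, 115] (by decide +kernel) (C.pNil _ _)))
    (C.pH [12, 35, 50, 83] [25, 38, 69, 87, 108, 109] (by decide +kernel)
    (C.pT (f9274 C)
    (C.pH [12, 35, 50, 83] [18, 45, 69, 75, 93, 125] (by decide +kernel) (C.pNil _ _))))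
    (C.loop_of_one (relLoop0 C) _ _)

theorem f9276 : C.T (v18 C) [17, 36, 56, 73, 100, 112] (v17 C) [13, 35, 57, 82, 93, 109, 115] :=
  C.flip (f9275 C)

theorem f9277 : C.T (v3 C) [22, 42, 54, 75, 104, 110, 124] (v17 C) [24, 43, 54, 87, 98, 109, 116] :=
  C.conv (f6269 C) (f7309 C) (f7309 C) _ [138, 150, 169, 173] _ (by decide +kernel) (by decide +kernel) (by decide +kernel)

theorem f9278 : C.S (v3 C) [7, 37, 53, 78, 98, 118] :=
  C.stMul (f353 C) (f335 C) _ (by decide +kernel)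

theorem f9279 : C.S (v3 C) [12, 31, 63, 83, 106, 121] :=
  C.stMul (f331 C) (f9278 C) _ (by decide +kernel)

theorem f9280 : C.S (v3 C) [22, 29, 89, 96, 109, 125] :=
  C.stMul (f328 C) (f331 C) _ (by decide +kernel)

theorem f9281 : C.S (v3 C) [4, 67, 86, 105, 116] :=
  C.stMul (f335 C) (f9280 C) _ (by decide +kernel)

theorem f9282 : C.S (v3 C) [6, 44, 60, 85, 94, 120] :=
  C.stMul (f328 C) (f9281 C) _ (by decide +kernel)

theorem f9283 : C.S (v3 C) [26, 41, 49, 77, 105, 123] :=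
  C.stMul (f353 C) (f9282 C) _ (by decide +kernel)

theorem f9284 : C.T (v3 C) [20, 48, 58, 88, 100, 109, 121] (v18 C) [19, 44, 67, 77, 101, 109, 112] :=
  C.conv (f9221 C) (f9279 C) (f9283 C) _ [126, 153, 167, 174, 178] _ (by decide +kernel) (by decide +kernel) (by decide +kernel)

theorem f9285 : C.T (v18 C) [19, 44, 67, 77, 101, 109, 112] (v3 C) [20, 48, 58, 88, 100, 109, 121] :=
  C.flip (f9284 C)

theorem f9286 : C.T (v17 C) [6, 36, 69, 75, 105, 110] (v18 C) [6, 31, 68, 76, 100, 110, 116] :=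
  C.closeT (p := (v3 C)) (pu := [22, 42, 54, 75, 104, 110, 124])
    (C.pT (f9277 C)
    (C.pH [12, 35, 50, 83] [6, 36, 69, 75, 105, 110] (by decide +kernel) (C.pNil _ _)))
    (C.pH [12, 35, 50, 83] [19, 44, 67, 77, 101, 109, 112] (by decide +kernel)
    (C.pT (f9285 C)
    (C.pH [12, 35, 50, 83] [22, 42, 54, 75, 104, 110, 124] (by decide +kernel) (C.pNil _ _))))
    (C.loop_of_one (relLoop0 C) _ _)

theorem f9287 : C.T (v18 C) [6, 31, 68, 76, 100, 110, 116] (v17 C) [6, 36, 69, 75, 105, 110] :=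
  C.flip (f9286 C)

theorem f9288 : C.S (v3 C) [13, 29, 60, 92, 109, 121] :=
  C.stMul (f353 C) (f328 C) _ (by decide +kernel)

theorem f9289 : C.S (v3 C) [30, 69, 79, 91] :=
  C.stMul (f335 C) (f9288 C) _ (by decide +kernel)

theorem f9290 : C.S (v3 C) [9, 35, 69, 77, 96, 110, 118] :=
  C.stMul (f353 C) (f9289 C) _ (by decide +kernel)

theorem f9291 : C.T (v3 C) [22, 41, 56, 83, 96, 109, 121] (v17 C) [20, 46, 50, 79, 108, 121] :=
  C.conv (f6808 C) (f9290 C) (f9290 C) _ [146, 154, 164] _ (by decide +kernel) (by decide +kernel) (by decide +kernel)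

theorem f9292 : C.S (v3 C) [22, 29, 89, 96, 109, 125] :=
  C.stMul (f328 C) (f331 C) _ (by decide +kernel)

theorem f9293 : C.T (v3 C) [20, 45, 65, 89, 104, 110] (v18 C) [14, 32, 53, 86, 105, 109, 124] :=
  C.conv (f8223 C) (f8361 C) (f9292 C) _ [133, 162, 175] _ (by decide +kernel) (by decide +kernel) (by decide +kernel)

theorem f9294 : C.T (v18 C) [14, 32, 53, 86, 105, 109, 124] (v3 C) [20, 45, 65, 89, 104, 110] :=
  C.flip (f9293 C)

theorem f9295 : C.T (v17 C) [22, 34, 69, 84, 91, 124] (v18 C) [14, 42, 58, 79, 91, 125] :=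
  C.closeT (p := (v3 C)) (pu := [22, 41, 56, 83, 96, 109, 121])
    (C.pT (f9291 C)
    (C.pH [12, 35, 50, 83] [22, 34, 69, 84, 91, 124] (by decide +kernel) (C.pNil _ _)))
    (C.pH [12, 35, 50, 83] [14, 32, 53, 86, 105, 109, 124] (by decide +kernel)
    (C.pT (f9294 C)
    (C.pH [12, 35, 50, 83] [22, 41, 56, 83, 96, 109, 121] (by decide +kernel) (C.pNil _ _))))
    (C.loop_of_one (relLoop0 C) _ _)

theorem f9296 : C.T (v18 C) [14, 42, 58, 79, 91, 125] (v17 C) [22, 34, 69, 84, 91, 124] :=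
  C.flip (f9295 C)

theorem f9297 : C.T (v3 C) [25, 27, 60, 72, 98, 110, 117] (v17 C) [4, 28, 67, 81, 102, 119] :=
  C.conv (f6808 C) (f9290 C) (f9290 C) _ [134, 161, 168, 174, 177] _ (by decide +kernel) (by decide +kernel) (by decide +kernel)

theorem f9298 : C.S (v3 C) [23, 29, 57, 87, 91, 110, 120] :=
  C.stMul (f331 C) (f328 C) _ (by decide +kernel)

theorem f9299 : C.S (v3 C) [21, 45, 66, 81, 102, 110] :=
  C.stMul (f335 C) (f9298 C) _ (by decide +kernel)

theorem f9300 : C.S (v3 C) [14, 48, 51, 82, 94, 110, 111] :=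
  C.stMul (f331 C) (f9299 C) _ (by decide +kernel)

theorem f9301 : C.T (v3 C) [17, 39, 56, 83, 103, 109, 112] (v18 C) [37, 61, 76, 98, 110, 125] :=
  C.conv (f9221 C) (f9279 C) (f9300 C) _ [136, 164, 177] _ (by decide +kernel) (by decide +kernel) (by decide +kernel)

theorem f9302 : C.T (v18 C) [37, 61, 76, 98, 110, 125] (v3 C) [17, 39, 56, 83, 103, 109, 112] :=
  C.flip (f9301 C)

theorem f9303 : C.T (v17 C) [13, 40, 63, 82, 98, 123] (v18 C) [23, 45, 69, 73, 108, 109, 114] :=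
  C.closeT (p := (v3 C)) (pu := [25, 27, 60, 72, 98, 110, 117])
    (C.pT (f9297 C)
    (C.pH [12, 35, 50, 83] [13, 40, 63, 82, 98, 123] (by decide +kernel) (C.pNil _ _)))
    (C.pH [12, 35, 50, 83] [37, 61, 76, 98, 110, 125] (by decide +kernel)
    (C.pT (f9302 C)
    (C.pH [12, 35, 50, 83] [25, 27, 60, 72, 98, 110, 117] (by decide +kernel) (C.pNil _ _))))
    (C.loop_of_one (relLoop0 C) _ _)

theorem f9304 : C.T (v18 C) [23, 45, 69, 73, 108, 109, 114] (v17 C) [13, 40, 63, 82, 98, 123] :=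
  C.flip (f9303 C)

theorem f9305 : C.T (v3 C) [23, 27, 66, 74, 92, 109, 120] (v17 C) [7, 29, 60, 85, 95, 110, 122] :=
  C.conv (f6808 C) (f9290 C) (f9290 C) _ [126, 163, 169, 172, 177] _ (by decide +kernel) (by decide +kernel) (by decide +kernel)

theorem f9306 : C.S (v3 C) [9, 35, 69, 77, 96, 110, 118] :=
  C.stMul (f353 C) (f9192 C) _ (by decide +kernel)

theorem f9307 : C.T (v3 C) [12, 31, 68, 73, 101, 109, 120] (v18 C) [16, 39, 65, 78, 104, 109, 114] :=
  C.conv (f8216 C) (f8435 C) (f9306 C) _ [127, 156, 170, 173] _ (by decide +kernel) (by decide +kernel) (by decide +kernel)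

theorem f9308 : C.T (v18 C) [16, 39, 65, 78, 104, 109, 114] (v3 C) [12, 31, 68, 73, 101, 109, 120] :=
  C.flip (f9307 C)

theorem f9309 : C.T (v17 C) [7, 31, 65, 77, 92, 109, 115] (v18 C) [16, 39, 49, 85, 99, 118] :=
  C.closeT (p := (v3 C)) (pu := [23, 27, 66, 74, 92, 109, 120])
    (C.pT (f9305 C)
    (C.pH [12, 35, 50, 83] [7, 31, 65, 77, 92, 109, 115] (by decide +kernel) (C.pNil _ _)))
    (C.pH [12, 35, 50, 83] [16, 39, 65, 78, 104, 109, 114] (by decide +kernel)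
    (C.pT (f9308 C)
    (C.pH [12, 35, 50, 83] [23, 27, 66, 74, 92, 109, 120] (by decide +kernel) (C.pNil _ _))))
    (C.loop_of_one (relLoop0 C) _ _)

theorem f9310 : C.T (v18 C) [16, 39, 49, 85, 99, 118] (v17 C) [7, 31, 65, 77, 92, 109, 115] :=
  C.flip (f9309 C)

theorem f9311 : C.T (v3 C) [25, 36, 52, 74, 95, 114] (v17 C) [21, 30, 68, 85, 92, 109, 125] :=
  C.conv (f6808 C) (f9290 C) (f9290 C) _ [142, 157, 165, 174, 177] _ (by decide +kernel) (by decide +kernel) (by decide +kernel)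

theorem f9312 : C.S (v3 C) [7, 37, 53, 78, 98, 118] :=
  C.stMul (f353 C) (f335 C) _ (by decide +kernel)

theorem f9313 : C.S (v3 C) [12, 31, 63, 83, 106, 121] :=
  C.stMul (f331 C) (f9312 C) _ (by decide +kernel)

theorem f9314 : C.S (v3 C) [25, 37, 55, 85, 105, 109] :=
  C.stMul (f335 C) (f9313 C) _ (by decide +kernel)

theorem f9315 : C.T (v3 C) [17, 34, 62, 71, 91, 119] (v18 C) [23, 45, 65, 88, 96, 109, 118] :=
  C.conv (f8223 C) (f8361 C) (f9314 C) _ [130, 157, 170, 172] _ (by decide +kernel) (by decide +kernel) (by decide +kernel)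

theorem f9316 : C.T (v18 C) [23, 45, 65, 88, 96, 109, 118] (v3 C) [17, 34, 62, 71, 91, 119] :=
  C.flip (f9315 C)

theorem f9317 : C.T (v17 C) [8, 28, 66, 73, 90, 109, 116] (v18 C) [12, 37, 58, 105, 110, 125] :=
  C.closeT (p := (v3 C)) (pu := [25, 36, 52, 74, 95, 114])
    (C.pT (f9311 C)
    (C.pH [12, 35, 50, 83] [8, 28, 66, 73, 90, 109, 116] (by decide +kernel) (C.pNil _ _)))
    (C.pH [12, 35, 50, 83] [23, 45, 65, 88, 96, 109, 118] (by decide +kernel)
    (C.pT (f9316 C)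
    (C.pH [12, 35, 50, 83] [25, 36, 52, 74, 95, 114] (by decide +kernel) (C.pNil _ _))))
    (C.loop_of_one (relLoop0 C) _ _)

theorem f9318 : C.T (v18 C) [12, 37, 58, 105, 110, 125] (v17 C) [8, 28, 66, 73, 90, 109, 116] :=
  C.flip (f9317 C)

theorem f9319 : C.T (v3 C) [22, 36, 63, 77, 108, 110, 115] (v17 C) [7, 35, 65, 103, 110, 120] :=
  C.conv (f6808 C) (f9290 C) (f9290 C) _ [130, 161, 164, 171, 178] _ (by decide +kernel) (by decide +kernel) (by decide +kernel)

theorem f9320 : C.S (v3 C) [22, 48, 51, 106, 122] :=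
  C.stMul (f331 C) (f7805 C) _ (by decide +kernel)

theorem f9321 : C.S (v3 C) [22, 31, 56, 81, 104, 113] :=
  C.stMul (f328 C) (f9320 C) _ (by decide +kernel)

theorem f9322 : C.T (v3 C) [20, 28, 77, 94, 110, 117] (v18 C) [43, 69, 85, 95, 109, 122] :=
  C.conv (f7327 C) (f7806 C) (f9321 C) _ [128, 161, 164, 174, 177] _ (by decide +kernel) (by decide +kernel) (by decide +kernel)

theorem f9323 : C.T (v18 C) [43, 69, 85, 95, 109, 122] (v3 C) [20, 28, 77, 94, 110, 117] :=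
  C.flip (f9322 C)

theorem f9324 : C.T (v17 C) [7, 35, 66, 73, 110, 118] (v18 C) [23, 43, 66, 72, 103, 111] :=
  C.closeT (p := (v3 C)) (pu := [22, 36, 63, 77, 108, 110, 115])
    (C.pT (f9319 C)
    (C.pH [12, 35, 50, 83] [7, 35, 66, 73, 110, 118] (by decide +kernel) (C.pNil _ _)))
    (C.pH [12, 35, 50, 83] [43, 69, 85, 95, 109, 122] (by decide +kernel)
    (C.pT (f9323 C)
    (C.pH [12, 35, 50, 83] [22, 36, 63, 77, 108, 110, 115] (by decide +kernel) (C.pNil _ _))))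
    (C.loop_of_one (relLoop0 C) _ _)

theorem f9325 : C.T (v18 C) [23, 43, 66, 72, 103, 111] (v17 C) [7, 35, 66, 73, 110, 118] :=
  C.flip (f9324 C)

theorem f9326 : C.T (v3 C) [13, 41, 62, 81, 103, 110, 120] (v17 C) [24, 32, 63, 77, 97, 119] :=
  C.conv (f6808 C) (f9290 C) (f9290 C) _ [138, 150, 164, 172, 177] _ (by decide +kernel) (by decide +kernel) (by decide +kernel)

theorem f9327 : C.T (v3 C) [4, 56, 81, 96, 117] (v18 C) [20, 42, 80, 92, 109, 125] :=
  C.conv (f9184 C) (f9232 C) (f9232 C) _ [134, 152, 166, 171] _ (by decide +kernel) (by decide +kernel) (by decide +kernel)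

theorem f9328 : C.T (v18 C) [20, 42, 80, 92, 109, 125] (v3 C) [4, 56, 81, 96, 117] :=
  C.flip (f9327 C)

theorem f9329 : C.T (v17 C) [6, 41, 54, 72, 92, 110, 119] (v18 C) [11, 52, 75, 109, 120] :=
  C.closeT (p := (v3 C)) (pu := [13, 41, 62, 81, 103, 110, 120])
    (C.pT (f9326 C)
    (C.pH [12, 35, 50, 83] [6, 41, 54, 72, 92, 110, 119] (by decide +kernel) (C.pNil _ _)))
    (C.pH [12, 35, 50, 83] [20, 42, 80, 92, 109, 125] (by decide +kernel)
    (C.pT (f9328 C)
    (C.pH [12, 35, 50, 83] [13, 41, 62, 81, 103, 110, 120] (by decide +kernel) (C.pNil _ _))))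
    (C.loop_of_one (relLoop0 C) _ _)

theorem f9330 : C.T (v18 C) [11, 52, 75, 109, 120] (v17 C) [6, 41, 54, 72, 92, 110, 119] :=
  C.flip (f9329 C)

theorem f9331 : C.T (v3 C) [26, 45, 61, 79, 103, 112] (v17 C) [16, 42, 52, 86, 97, 110, 116] :=
  C.conv (f6808 C) (f9290 C) (f9290 C) _ [131, 153, 164, 171] _ (by decide +kernel) (by decide +kernel) (by decide +kernel)

theorem f9332 : C.S (v3 C) [34, 56, 82, 103, 109, 119] :=
  C.stMul (f353 C) (f7926 C) _ (by decide +kernel)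

theorem f9333 : C.T (v3 C) [13, 35, 64, 78, 97, 109, 121] (v18 C) [11, 34, 65, 81, 97, 112] :=
  C.conv (f6888 C) (f7333 C) (f9332 C) _ [140, 150, 170, 176] _ (by decide +kernel) (by decide +kernel) (by decide +kernel)

theorem f9334 : C.T (v18 C) [11, 34, 65, 81, 97, 112] (v3 C) [13, 35, 64, 78, 97, 109, 121] :=
  C.flip (f9333 C)

theorem f9335 : C.T (v17 C) [16, 33, 54, 81, 103, 109, 116] (v18 C) [22, 42, 62, 89, 96, 118] :=
  C.closeT (p := (v3 C)) (pu := [26, 45, 61, 79, 103, 112])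
    (C.pT (f9331 C)
    (C.pH [12, 35, 50, 83] [16, 33, 54, 81, 103, 109, 116] (by decide +kernel) (C.pNil _ _)))
    (C.pH [12, 35, 50, 83] [11, 34, 65, 81, 97, 112] (by decide +kernel)
    (C.pT (f9334 C)
    (C.pH [12, 35, 50, 83] [26, 45, 61, 79, 103, 112] (by decide +kernel) (C.pNil _ _))))
    (C.loop_of_one (relLoop0 C) _ _)

theorem f9336 : C.T (v18 C) [22, 42, 62, 89, 96, 118] (v17 C) [16, 33, 54, 81, 103, 109, 116] :=
  C.flip (f9335 C)

theorem f9337 : C.T (v3 C) [24, 34, 62, 104, 115] (v17 C) [20, 48, 66, 88, 110, 116] :=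
  C.conv (f6814 C) (f7361 C) (f7361 C) _ [140, 149, 168, 171, 178] _ (by decide +kernel) (by decide +kernel) (by decide +kernel)

theorem f9338 : C.T (v3 C) [19, 46, 64, 80, 90, 110] (v18 C) [22, 35, 55, 70, 95, 109, 122] :=
  C.conv (f8223 C) (f8361 C) (f9314 C) _ [137, 165, 175, 178] _ (by decide +kernel) (by decide +kernel) (by decide +kernel)

theorem f9339 : C.T (v18 C) [22, 35, 55, 70, 95, 109, 122] (v3 C) [19, 46, 64, 80, 90, 110] :=
  C.flip (f9338 C)

theorem f9340 : C.T (v17 C) [22, 42, 59, 89, 96, 123] (v18 C) [20, 29, 67, 82, 96] :=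
  C.closeT (p := (v3 C)) (pu := [24, 34, 62, 104, 115])
    (C.pT (f9337 C)
    (C.pH [12, 35, 50, 83] [22, 42, 59, 89, 96, 123] (by decide +kernel) (C.pNil _ _)))
    (C.pH [12, 35, 50, 83] [22, 35, 55, 70, 95, 109, 122] (by decide +kernel)
    (C.pT (f9339 C)
    (C.pH [12, 35, 50, 83] [24, 34, 62, 104, 115] (by decide +kernel) (C.pNil _ _))))
    (C.loop_of_one (relLoop0 C) _ _)

theorem f9341 : C.T (v18 C) [20, 29, 67, 82, 96] (v17 C) [22, 42, 59, 89, 96, 123] :=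
  C.flip (f9340 C)

theorem f9342 : C.T (v3 C) [24, 34, 69, 77, 107, 119] (v17 C) [17, 48, 68, 91, 120] :=
  C.conv (f6814 C) (f7361 C) (f7361 C) _ [141, 152, 175, 178] _ (by decide +kernel) (by decide +kernel) (by decide +kernel)

theorem f9343 : C.S (v3 C) [23, 29, 57, 87, 91, 110, 120] :=
  C.stMul (f331 C) (f328 C) _ (by decide +kernel)

theorem f9344 : C.S (v3 C) [23, 35, 58, 78, 94, 110, 123] :=
  C.stMul (f328 C) (f9343 C) _ (by decide +kernel)

theorem f9345 : C.S (v3 C) [12, 28, 65, 85, 98, 110, 116] :=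
  C.stMul (f353 C) (f9344 C) _ (by decide +kernel)

theorem f9346 : C.S (v3 C) [25, 35, 69, 73, 94, 109, 118] :=
  C.stMul (f335 C) (f9345 C) _ (by decide +kernel)

theorem f9347 : C.S (v3 C) [16, 31, 72, 108, 112] :=
  C.stMul (f331 C) (f9346 C) _ (by decide +kernel)

theorem f9348 : C.T (v3 C) [19, 46, 59, 89, 101, 110, 125] (v18 C) [7, 45, 53, 104] :=
  C.conv (f8216 C) (f8435 C) (f9347 C) _ [145, 155, 168, 176] _ (by decide +kernel) (by decide +kernel) (by decide +kernel)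

theorem f9349 : C.T (v18 C) [7, 45, 53, 104] (v3 C) [19, 46, 59, 89, 101, 110, 125] :=
  C.flip (f9348 C)

theorem f9350 : C.T (v17 C) [25, 68, 91, 120] (v18 C) [7, 41, 52, 87, 108, 109, 121] :=
  C.closeT (p := (v3 C)) (pu := [24, 34, 69, 77, 107, 119])
    (C.pT (f9342 C)
    (C.pH [12, 35, 50, 83] [25, 68, 91, 120] (by decide +kernel) (C.pNil _ _)))
    (C.pH [12, 35, 50, 83] [7, 45, 53, 104] (by decide +kernel)
    (C.pT (f9349 C)
    (C.pH [12, 35, 50, 83] [24, 34, 69, 77, 107, 119] (by decide +kernel) (C.pNil _ _))))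
    (C.loop_of_one (relLoop0 C) _ _)

theorem f9351 : C.T (v18 C) [7, 41, 52, 87, 108, 109, 121] (v17 C) [25, 68, 91, 120] :=
  C.flip (f9350 C)

theorem f9352 : C.T (v3 C) [7, 37, 50, 77, 96, 114] (v17 C) [19, 45, 49, 85, 99, 109, 115] :=
  C.conv (f6814 C) (f7361 C) (f7361 C) _ [137, 157, 177] _ (by decide +kernel) (by decide +kernel) (by decide +kernel)

theorem f9353 : C.S (v3 C) [7, 29, 51, 83, 103, 109, 117] :=
  C.stMul (f335 C) (f335 C) _ (by decide +kernel)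

theorem f9354 : C.T (v3 C) [7, 34, 49, 86, 99, 120] (v18 C) [14, 27, 69, 77, 108, 115] :=
  C.conv (f9184 C) (f9232 C) (f9353 C) _ [141, 162, 164, 171] _ (by decide +kernel) (by decide +kernel) (by decide +kernel)

theorem f9355 : C.T (v18 C) [14, 27, 69, 77, 108, 115] (v3 C) [7, 34, 49, 86, 99, 120] :=
  C.flip (f9354 C)

theorem f9356 : C.T (v17 C) [24, 28, 54, 75, 97, 110, 125] (v18 C) [14, 37, 57, 70, 97, 109, 118] :=
  C.closeT (p := (v3 C)) (pu := [7, 37, 50, 77, 96, 114])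
    (C.pT (f9352 C)
    (C.pH [12, 35, 50, 83] [24, 28, 54, 75, 97, 110, 125] (by decide +kernel) (C.pNil _ _)))
    (C.pH [12, 35, 50, 83] [14, 27, 69, 77, 108, 115] (by decide +kernel)
    (C.pT (f9355 C)
    (C.pH [12, 35, 50, 83] [7, 37, 50, 77, 96, 114] (by decide +kernel) (C.pNil _ _))))
    (C.loop_of_one (relLoop0 C) _ _)

theorem f9357 : C.T (v18 C) [14, 37, 57, 70, 97, 109, 118] (v17 C) [24, 28, 54, 75, 97, 110, 125] :=
  C.flip (f9356 C)

theorem f9358 : C.T (v3 C) [8, 33, 53, 86, 91, 110, 117] (v17 C) [7, 35, 69, 80, 94, 109, 112] :=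
  C.conv (f6814 C) (f7361 C) (f7361 C) _ [142, 162, 168, 172, 178] _ (by decide +kernel) (by decide +kernel) (by decide +kernel)

theorem f9359 : C.S (v3 C) [19, 30, 60, 72, 107, 110, 116] :=
  C.stMul (f331 C) (f335 C) _ (by decide +kernel)

theorem f9360 : C.S (v3 C) [19, 31, 52, 79, 98, 122] :=
  C.stMul (f328 C) (f9359 C) _ (by decide +kernel)

theorem f9361 : C.S (v3 C) [5, 41, 68, 78, 104, 110, 120] :=
  C.stMul (f353 C) (f9360 C) _ (by decide +kernel)

theorem f9362 : C.T (v3 C) [21, 33, 54, 76, 92, 110, 114] (v18 C) [11, 35, 64, 70, 94, 110, 121] :=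
  C.conv (f7327 C) (f7806 C) (f9361 C) _ [127, 156, 164, 174] _ (by decide +kernel) (by decide +kernel) (by decide +kernel)

theorem f9363 : C.T (v18 C) [11, 35, 64, 70, 94, 110, 121] (v3 C) [21, 33, 54, 76, 92, 110, 114] :=
  C.flip (f9362 C)

theorem f9364 : C.T (v17 C) [7, 35, 51, 82, 100, 109, 124] (v18 C) [22, 29, 66, 77, 94, 110, 117] :=
  C.closeT (p := (v3 C)) (pu := [8, 33, 53, 86, 91, 110, 117])
    (C.pT (f9358 C)
    (C.pH [12, 35, 50, 83] [7, 35, 51, 82, 100, 109, 124] (by decide +kernel) (C.pNil _ _)))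
    (C.pH [12, 35, 50, 83] [11, 35, 64, 70, 94, 110, 121] (by decide +kernel)
    (C.pT (f9363 C)
    (C.pH [12, 35, 50, 83] [8, 33, 53, 86, 91, 110, 117] (by decide +kernel) (C.pNil _ _))))
    (C.loop_of_one (relLoop0 C) _ _)

theorem f9365 : C.T (v18 C) [22, 29, 66, 77, 94, 110, 117] (v17 C) [7, 35, 51, 82, 100, 109, 124] :=
  C.flip (f9364 C)

theorem f9366 : C.T (v3 C) [21, 36, 60, 87, 99, 111] (v17 C) [22, 30, 66, 78, 90, 121] :=
  C.conv (f6814 C) (f7361 C) (f7361 C) _ [145, 153, 168, 171] _ (by decide +kernel) (by decide +kernel) (by decide +kernel)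

theorem f9367 : C.T (v3 C) [10, 44, 56, 97, 111] (v18 C) [12, 45, 55, 74, 96, 109, 112] :=
  C.conv (f9221 C) (f9279 C) (f9300 C) _ [131, 156, 167, 176, 178] _ (by decide +kernel) (by decide +kernel) (by decide +kernel)

theorem f9368 : C.T (v18 C) [12, 45, 55, 74, 96, 109, 112] (v3 C) [10, 44, 56, 97, 111] :=
  C.flip (f9367 C)

theorem f9369 : C.T (v17 C) [11, 43, 52, 87, 92, 109, 120] (v18 C) [39, 69, 73, 107, 110, 117] :=
  C.closeT (p := (v3 C)) (pu := [21, 36, 60, 87, 99, 111])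
    (C.pT (f9366 C)
    (C.pH [12, 35, 50, 83] [11, 43, 52, 87, 92, 109, 120] (by decide +kernel) (C.pNil _ _)))
    (C.pH [12, 35, 50, 83] [12, 45, 55, 74, 96, 109, 112] (by decide +kernel)
    (C.pT (f9368 C)
    (C.pH [12, 35, 50, 83] [21, 36, 60, 87, 99, 111] (by decide +kernel) (C.pNil _ _))))
    (C.loop_of_one (relLoop0 C) _ _)

theorem f9370 : C.T (v18 C) [39, 69, 73, 107, 110, 117] (v17 C) [11, 43, 52, 87, 92, 109, 120] :=
  C.flip (f9369 C)

theorem f9371 : C.T (v3 C) [7, 36, 58, 87, 102, 110, 125] (v17 C) [17, 38, 59, 79, 92, 109, 120] :=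
  C.conv (f6814 C) (f7361 C) (f7361 C) _ [130, 160, 170, 176, 178] _ (by decide +kernel) (by decide +kernel) (by decide +kernel)

theorem f9372 : C.S (v3 C) [9, 29, 68, 75, 108, 110, 124] :=
  C.stMul (f335 C) (f328 C) _ (by decide +kernel)

theorem f9373 : C.S (v3 C) [20, 29, 56, 72, 109, 121] :=
  C.stMul (f335 C) (f9372 C) _ (by decide +kernel)

theorem f9374 : C.S (v3 C) [24, 38, 68, 85, 97, 110, 111] :=
  C.stMul (f353 C) (f9373 C) _ (by decide +kernel)

theorem f9375 : C.S (v3 C) [7, 27, 59, 75, 93, 110, 124] :=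
  C.stMul (f335 C) (f9374 C) _ (by decide +kernel)

theorem f9376 : C.T (v3 C) [7, 36, 60, 88, 106, 109, 125] (v18 C) [15, 30, 66, 74, 94, 120] :=
  C.conv (f6902 C) (f7285 C) (f9375 C) _ [146, 163, 175, 178] _ (by decide +kernel) (by decide +kernel) (by decide +kernel)

theorem f9377 : C.T (v18 C) [15, 30, 66, 74, 94, 120] (v3 C) [7, 36, 60, 88, 106, 109, 125] :=
  C.flip (f9376 C)

theorem f9378 : C.T (v17 C) [25, 43, 57, 85, 98, 109] (v18 C) [15, 30, 56, 74, 90, 109, 119] :=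
  C.closeT (p := (v3 C)) (pu := [7, 36, 58, 87, 102, 110, 125])
    (C.pT (f9371 C)
    (C.pH [12, 35, 50, 83] [25, 43, 57, 85, 98, 109] (by decide +kernel) (C.pNil _ _)))
    (C.pH [12, 35, 50, 83] [15, 30, 66, 74, 94, 120] (by decide +kernel)
    (C.pT (f9377 C)
    (C.pH [12, 35, 50, 83] [7, 36, 58, 87, 102, 110, 125] (by decide +kernel) (C.pNil _ _))))
    (C.loop_of_one (relLoop0 C) _ _)

theorem f9379 : C.T (v18 C) [15, 30, 56, 74, 90, 109, 119] (v17 C) [25, 43, 57, 85, 98, 109] :=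
  C.flip (f9378 C)

theorem f9380 : C.T (v3 C) [26, 44, 60, 83, 108, 109, 113] (v17 C) [10, 27, 65, 84, 93, 109, 111] :=
  C.conv (f6814 C) (f7361 C) (f7361 C) _ [128, 167, 176] _ (by decide +kernel) (by decide +kernel) (by decide +kernel)

theorem f9381 : C.S (v3 C) [13, 44, 69, 73, 100, 119] :=
  C.stMul (f335 C) (f9353 C) _ (by decide +kernel)

theorem f9382 : C.S (v3 C) [40, 53, 76, 108, 110, 116] :=
  C.stMul (f353 C) (f9381 C) _ (by decide +kernel)

theorem f9383 : C.T (v3 C) [13, 28, 54, 86, 102, 110, 111] (v18 C) [24, 40, 59, 73, 101, 110, 117] :=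
  C.conv (f9184 C) (f9232 C) (f9382 C) _ [147, 160, 167, 176] _ (by decide +kernel) (by decide +kernel) (by decide +kernel)

theorem f9384 : C.T (v18 C) [24, 40, 59, 73, 101, 110, 117] (v3 C) [13, 28, 54, 86, 102, 110, 111] :=
  C.flip (f9383 C)

theorem f9385 : C.T (v17 C) [21, 27, 65, 93, 109, 111] (v18 C) [19, 47, 51, 86, 103, 124] :=
  C.closeT (p := (v3 C)) (pu := [26, 44, 60, 83, 108, 109, 113])
    (C.pT (f9380 C)
    (C.pH [12, 35, 50, 83] [21, 27, 65, 93, 109, 111] (by decide +kernel) (C.pNil _ _)))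
    (C.pH [12, 35, 50, 83] [24, 40, 59, 73, 101, 110, 117] (by decide +kernel)
    (C.pT (f9384 C)
    (C.pH [12, 35, 50, 83] [26, 44, 60, 83, 108, 109, 113] (by decide +kernel) (C.pNil _ _))))
    (C.loop_of_one (relLoop0 C) _ _)

theorem f9386 : C.T (v18 C) [19, 47, 51, 86, 103, 124] (v17 C) [21, 27, 65, 93, 109, 111] :=
  C.flip (f9385 C)

theorem f9387 : C.T (v3 C) [11, 27, 67, 78, 94, 110, 113] (v17 C) [13, 40, 49, 80, 93, 112] :=
  C.conv (f6814 C) (f7361 C) (f7361 C) _ [143, 153, 166, 171, 177] _ (by decide +kernel) (by decide +kernel) (by decide +kernel)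

theorem f9388 : C.S (v3 C) [23, 29, 57, 87, 91, 110, 120] :=
  C.stMul (f331 C) (f328 C) _ (by decide +kernel)

theorem f9389 : C.S (v3 C) [23, 35, 58, 78, 94, 110, 123] :=
  C.stMul (f328 C) (f9388 C) _ (by decide +kernel)

theorem f9390 : C.S (v3 C) [21, 46, 68, 75, 95] :=
  C.stMul (f335 C) (f9389 C) _ (by decide +kernel)

theorem f9391 : C.S (v3 C) [14, 46, 79, 106, 123] :=
  C.stMul (f353 C) (f9390 C) _ (by decide +kernel)

theorem f9392 : C.S (v3 C) [19, 34, 68, 75, 94, 111] :=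
  C.stMul (f335 C) (f9391 C) _ (by decide +kernel)

theorem f9393 : C.T (v3 C) [22, 37, 50, 77, 90, 109, 112] (v18 C) [9, 35, 60, 70, 108, 109, 124] :=
  C.conv (f9184 C) (f9232 C) (f9392 C) _ [132, 150, 167, 174, 178] _ (by decide +kernel) (by decide +kernel) (by decide +kernel)

theorem f9394 : C.T (v18 C) [9, 35, 60, 70, 108, 109, 124] (v3 C) [22, 37, 50, 77, 90, 109, 112] :=
  C.flip (f9393 C)

theorem f9395 : C.T (v17 C) [26, 46, 53, 86, 93, 110, 117] (v18 C) [25, 45, 63, 79, 91, 110, 116] :=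
  C.closeT (p := (v3 C)) (pu := [11, 27, 67, 78, 94, 110, 113])
    (C.pT (f9387 C)
    (C.pH [12, 35, 50, 83] [26, 46, 53, 86, 93, 110, 117] (by decide +kernel) (C.pNil _ _)))
    (C.pH [12, 35, 50, 83] [9, 35, 60, 70, 108, 109, 124] (by decide +kernel)
    (C.pT (f9394 C)
    (C.pH [12, 35, 50, 83] [11, 27, 67, 78, 94, 110, 113] (by decide +kernel) (C.pNil _ _))))
    (C.loop_of_one (relLoop0 C) _ _)

theorem f9396 : C.T (v18 C) [25, 45, 63, 79, 91, 110, 116] (v17 C) [26, 46, 53, 86, 93, 110, 117] :=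
  C.flip (f9395 C)

theorem f9397 : C.T (v3 C) [19, 28, 55, 83, 95, 109, 115] (v17 C) [9, 43, 68, 72, 102, 109] :=
  C.conv (f6814 C) (f7361 C) (f7361 C) _ [135, 149, 173] _ (by decide +kernel) (by decide +kernel) (by decide +kernel)

theorem f9398 : C.S (v3 C) [4, 35, 66, 84, 105, 109, 115] :=
  C.stMul (f335 C) (f331 C) _ (by decide +kernel)

theorem f9399 : C.T (v3 C) [6, 47, 53, 83, 98, 109, 114] (v18 C) [8, 37, 64, 87, 99, 109, 111] :=
  C.conv (f9184 C) (f9232 C) (f9398 C) _ [137, 159, 167, 171, 177] _ (by decide +kernel) (by decide +kernel) (by decide +kernel)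

theorem f9400 : C.T (v18 C) [8, 37, 64, 87, 99, 109, 111] (v3 C) [6, 47, 53, 83, 98, 109, 114] :=
  C.flip (f9399 C)

theorem f9401 : C.T (v17 C) [17, 45, 53, 77, 90, 110] (v18 C) [21, 34, 64, 87, 103, 121] :=
  C.closeT (p := (v3 C)) (pu := [19, 28, 55, 83, 95, 109, 115])
    (C.pT (f9397 C)
    (C.pH [12, 35, 50, 83] [17, 45, 53, 77, 90, 110] (by decide +kernel) (C.pNil _ _)))
    (C.pH [12, 35, 50, 83] [8, 37, 64, 87, 99, 109, 111] (by decide +kernel)
    (C.pT (f9400 C)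
    (C.pH [12, 35, 50, 83] [19, 28, 55, 83, 95, 109, 115] (by decide +kernel) (C.pNil _ _))))
    (C.loop_of_one (relLoop0 C) _ _)

theorem f9402 : C.T (v18 C) [21, 34, 64, 87, 103, 121] (v17 C) [17, 45, 53, 77, 90, 110] :=
  C.flip (f9401 C)

theorem f9403 : C.T (v3 C) [12, 28, 53, 75, 96, 109, 118] (v17 C) [22, 38, 61, 85, 105, 109, 111] :=
  C.conv (f6822 C) (f7297 C) (f7297 C) _ [134, 155, 169, 171, 177] _ (by decide +kernel) (by decide +kernel) (by decide +kernel)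

theorem f9404 : C.S (v3 C) [9, 29, 68, 75, 108, 110, 124] :=
  C.stMul (f335 C) (f328 C) _ (by decide +kernel)

theorem f9405 : C.S (v3 C) [15, 38, 55, 77, 98, 114] :=
  C.stMul (f331 C) (f9404 C) _ (by decide +kernel)

theorem f9406 : C.S (v3 C) [16, 37, 62, 81, 101, 109, 123] :=
  C.stMul (f335 C) (f9405 C) _ (by decide +kernel)

theorem f9407 : C.T (v3 C) [46, 75, 100, 123] (v18 C) [18, 47, 65, 77, 105, 109, 123] :=
  C.conv (f9221 C) (f9279 C) (f9406 C) _ [128, 163, 168, 178] _ (by decide +kernel) (by decide +kernel) (by decide +kernel)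

theorem f9408 : C.T (v18 C) [18, 47, 65, 77, 105, 109, 123] (v3 C) [46, 75, 100, 123] :=
  C.flip (f9407 C)

theorem f9409 : C.T (v17 C) [11, 37, 52, 77, 107, 110, 113] (v18 C) [18, 41, 60, 85, 102, 109, 114] :=
  C.closeT (p := (v3 C)) (pu := [12, 28, 53, 75, 96, 109, 118])
    (C.pT (f9403 C)
    (C.pH [12, 35, 50, 83] [11, 37, 52, 77, 107, 110, 113] (by decide +kernel) (C.pNil _ _)))
    (C.pH [12, 35, 50, 83] [18, 47, 65, 77, 105, 109, 123] (by decide +kernel)
    (C.pT (f9408 C)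
    (C.pH [12, 35, 50, 83] [12, 28, 53, 75, 96, 109, 118] (by decide +kernel) (C.pNil _ _))))
    (C.loop_of_one (relLoop0 C) _ _)

theorem f9410 : C.T (v18 C) [18, 41, 60, 85, 102, 109, 114] (v17 C) [11, 37, 52, 77, 107, 110, 113] :=
  C.flip (f9409 C)

theorem f9411 : C.T (v3 C) [13, 39, 88, 95, 109, 116] (v17 C) [4, 38, 66, 84, 104, 109, 115] :=
  C.conv (f6822 C) (f7297 C) (f7297 C) _ [135, 159, 166, 171, 177] _ (by decide +kernel) (by decide +kernel) (by decide +kernel)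

theorem f9412 : C.S (v3 C) [7, 29, 51, 83, 103, 109, 117] :=
  C.stMul (f335 C) (f335 C) _ (by decide +kernel)

theorem f9413 : C.S (v3 C) [13, 44, 69, 73, 100, 119] :=
  C.stMul (f335 C) (f9412 C) _ (by decide +kernel)

theorem f9414 : C.S (v3 C) [40, 53, 76, 108, 110, 116] :=
  C.stMul (f353 C) (f9413 C) _ (by decide +kernel)

theorem f9415 : C.T (v3 C) [4, 30, 68, 82, 93] (v18 C) [5, 27, 52, 72, 108, 109, 112] :=
  C.conv (f8216 C) (f8435 C) (f9414 C) _ [137, 155, 170, 173, 177] _ (by decide +kernel) (by decide +kernel) (by decide +kernel)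

theorem f9416 : C.T (v18 C) [5, 27, 52, 72, 108, 109, 112] (v3 C) [4, 30, 68, 82, 93] :=
  C.flip (f9415 C)

theorem f9417 : C.T (v17 C) [13, 38, 50, 84, 106, 113] (v18 C) [5, 42, 52, 70, 101, 115] :=
  C.closeT (p := (v3 C)) (pu := [13, 39, 88, 95, 109, 116])
    (C.pT (f9411 C)
    (C.pH [12, 35, 50, 83] [13, 38, 50, 84, 106, 113] (by decide +kernel) (C.pNil _ _)))
    (C.pH [12, 35, 50, 83] [5, 27, 52, 72, 108, 109, 112] (by decide +kernel)
    (C.pT (f9416 C)
    (C.pH [12, 35, 50, 83] [13, 39, 88, 95, 109, 116] (by decide +kernel) (C.pNil _ _))))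
    (C.loop_of_one (relLoop0 C) _ _)

theorem f9418 : C.T (v18 C) [5, 42, 52, 70, 101, 115] (v17 C) [13, 38, 50, 84, 106, 113] :=
  C.flip (f9417 C)

theorem f9419 : C.T (v3 C) [36, 50, 87, 107, 125] (v17 C) [23, 29, 53, 81, 92, 109, 114] :=
  C.conv (f6822 C) (f7297 C) (f7297 C) _ [154, 168, 175] _ (by decide +kernel) (by decide +kernel) (by decide +kernel)

theorem f9420 : C.S (v3 C) [15, 34, 56, 71, 106, 109, 117] :=
  C.stMul (f331 C) (f353 C) _ (by decide +kernel)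

theorem f9421 : C.T (v3 C) [23, 40, 61, 87, 105, 110, 120] (v18 C) [5, 43, 51, 81, 101, 109, 115] :=
  C.conv (f8223 C) (f8361 C) (f9420 C) _ [134, 154, 168, 175, 177] _ (by decide +kernel) (by decide +kernel) (by decide +kernel)

theorem f9422 : C.T (v18 C) [5, 43, 51, 81, 101, 109, 115] (v3 C) [23, 40, 61, 87, 105, 110, 120] :=
  C.flip (f9421 C)

theorem f9423 : C.T (v17 C) [55, 72, 100, 110, 124] (v18 C) [5, 43, 68, 75, 93, 109, 116] :=
  C.closeT (p := (v3 C)) (pu := [36, 50, 87, 107, 125])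
    (C.pT (f9419 C)
    (C.pH [12, 35, 50, 83] [55, 72, 100, 110, 124] (by decide +kernel) (C.pNil _ _)))
    (C.pH [12, 35, 50, 83] [5, 43, 51, 81, 101, 109, 115] (by decide +kernel)
    (C.pT (f9422 C)
    (C.pH [12, 35, 50, 83] [36, 50, 87, 107, 125] (by decide +kernel) (C.pNil _ _))))
    (C.loop_of_one (relLoop0 C) _ _)

theorem f9424 : C.T (v18 C) [5, 43, 68, 75, 93, 109, 116] (v17 C) [55, 72, 100, 110, 124] :=
  C.flip (f9423 C)

theorem f9425 : C.S (v3 C) [13, 29, 60, 92, 109, 121] :=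
  C.stMul (f353 C) (f328 C) _ (by decide +kernel)

theorem f9426 : C.S (v3 C) [30, 69, 79, 91] :=
  C.stMul (f335 C) (f9425 C) _ (by decide +kernel)

theorem f9427 : C.S (v3 C) [11, 37, 67, 78, 101, 109, 120] :=
  C.stMul (f328 C) (f9426 C) _ (by decide +kernel)

theorem f9428 : C.T (v3 C) [9, 32, 62, 81, 95] (v17 C) [7, 42, 58, 82, 92, 110, 125] :=
  C.conv (f6828 C) (f9427 C) (f9427 C) _ [142, 164] _ (by decide +kernel) (by decide +kernel) (by decide +kernel)

theorem f9429 : C.S (v17 C) [51, 81, 96, 109, 125] :=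
  C.stMul (f4132 C) (f4137 C) _ (by decide +kernel)

theorem f9430 : C.T (v17 C) [7, 33, 53, 89, 96, 122] (v18 C) [8, 27, 65, 87, 93, 109] :=
  C.conv (f8484 C) (f9429 C) (f4132 C) _ [138, 149, 170, 174, 178] _ (by decide +kernel) (by decide +kernel) (by decide +kernel)

theorem f9431 : C.T (v18 C) [10, 45, 60, 84, 96, 111] (v3 C) [25, 31, 61, 77, 125] :=
  C.closeT (p := (v3 C)) (pu := [9, 32, 62, 81, 95])
    (C.pT (f9428 C)
    (C.pH [12, 35, 50, 83] [7, 33, 53, 89, 96, 122] (by decide +kernel)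
    (C.pT (f9430 C)
    (C.pH [12, 35, 50, 83] [10, 45, 60, 84, 96, 111] (by decide +kernel) (C.pNil _ _)))))
    (C.pH [12, 35, 50, 83] [9, 32, 62, 81, 95] (by decide +kernel) (C.pNil _ _))
    (C.loop_of_one (relLoop0 C) _ _)

theorem f9432 : C.T (v3 C) [25, 31, 61, 77, 125] (v18 C) [10, 45, 60, 84, 96, 111] :=
  C.flip (f9431 C)

theorem f9433 : C.T (v3 C) [6, 37, 81, 91, 115] (v17 C) [23, 27, 61, 86, 107, 110, 111] :=
  C.conv (f6828 C) (f9427 C) (f9427 C) _ [149, 164, 175, 178] _ (by decide +kernel) (by decide +kernel) (by decide +kernel)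

theorem f9434 : C.S (v3 C) [12, 29, 49, 79, 92, 110, 117] :=
  C.stMul (f353 C) (f9343 C) _ (by decide +kernel)

theorem f9435 : C.S (v3 C) [25, 34, 84, 93, 109, 116] :=
  C.stMul (f335 C) (f9434 C) _ (by decide +kernel)

theorem f9436 : C.S (v3 C) [21, 32, 61, 77, 107, 110, 118] :=
  C.stMul (f328 C) (f9435 C) _ (by decide +kernel)

theorem f9437 : C.T (v3 C) [24, 37, 64, 104, 111] (v18 C) [20, 33, 59, 88, 108, 109, 117] :=
  C.conv (f8216 C) (f8435 C) (f9436 C) _ [144, 158, 169, 171, 178] _ (by decide +kernel) (by decide +kernel) (by decide +kernel)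

theorem f9438 : C.T (v18 C) [20, 33, 59, 88, 108, 109, 117] (v3 C) [24, 37, 64, 104, 111] :=
  C.flip (f9437 C)

theorem f9439 : C.T (v17 C) [29, 65, 88, 106, 112] (v18 C) [11, 33, 54, 86, 106, 123] :=
  C.closeT (p := (v3 C)) (pu := [6, 37, 81, 91, 115])
    (C.pT (f9433 C)
    (C.pH [12, 35, 50, 83] [29, 65, 88, 106, 112] (by decide +kernel) (C.pNil _ _)))
    (C.pH [12, 35, 50, 83] [20, 33, 59, 88, 108, 109, 117] (by decide +kernel)
    (C.pT (f9438 C)
    (C.pH [12, 35, 50, 83] [6, 37, 81, 91, 115] (by decide +kernel) (C.pNil _ _))))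
    (C.loop_of_one (relLoop0 C) _ _)

theorem f9440 : C.T (v18 C) [11, 33, 54, 86, 106, 123] (v17 C) [29, 65, 88, 106, 112] :=
  C.flip (f9439 C)

theorem f9441 : C.T (v3 C) [20, 44, 55, 80, 106, 109, 116] (v17 C) [15, 33, 61, 81, 106, 110, 123] :=
  C.conv (f6828 C) (f9427 C) (f9427 C) _ [127, 157, 165, 177] _ (by decide +kernel) (by decide +kernel) (by decide +kernel)

theorem f9442 : C.S (v3 C) [13, 29, 60, 92, 109, 121] :=
  C.stMul (f353 C) (f328 C) _ (by decide +kernel)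

theorem f9443 : C.T (v3 C) [11, 29, 57, 82, 103, 110, 114] (v18 C) [15, 45, 69, 83, 105, 109, 112] :=
  C.conv (f6888 C) (f7333 C) (f9442 C) _ [141, 155, 166, 178] _ (by decide +kernel) (by decide +kernel) (by decide +kernel)

theorem f9444 : C.T (v18 C) [15, 45, 69, 83, 105, 109, 112] (v3 C) [11, 29, 57, 82, 103, 110, 114] :=
  C.flip (f9443 C)

theorem f9445 : C.T (v17 C) [15, 28, 61, 75, 100, 110, 113] (v18 C) [15, 67, 76, 94, 109, 112] :=
  C.closeT (p := (v3 C)) (pu := [20, 44, 55, 80, 106, 109, 116])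
    (C.pT (f9441 C)
    (C.pH [12, 35, 50, 83] [15, 28, 61, 75, 100, 110, 113] (by decide +kernel) (C.pNil _ _)))
    (C.pH [12, 35, 50, 83] [15, 45, 69, 83, 105, 109, 112] (by decide +kernel)
    (C.pT (f9444 C)
    (C.pH [12, 35, 50, 83] [20, 44, 55, 80, 106, 109, 116] (by decide +kernel) (C.pNil _ _))))
    (C.loop_of_one (relLoop0 C) _ _)

theorem f9446 : C.T (v18 C) [15, 67, 76, 94, 109, 112] (v17 C) [15, 28, 61, 75, 100, 110, 113] :=
  C.flip (f9445 C)

theorem f9447 : C.T (v3 C) [18, 44, 50, 78, 96, 109, 115] (v17 C) [16, 40, 57, 89, 97, 109, 112] :=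
  C.conv (f6828 C) (f9427 C) (f9427 C) _ [130, 156, 166, 175] _ (by decide +kernel) (by decide +kernel) (by decide +kernel)

theorem f9448 : C.S (v3 C) [19, 30, 60, 72, 107, 110, 116] :=
  C.stMul (f331 C) (f335 C) _ (by decide +kernel)

theorem f9449 : C.S (v3 C) [5, 38, 50, 82, 105, 109, 122] :=
  C.stMul (f353 C) (f9448 C) _ (by decide +kernel)

theorem f9450 : C.T (v3 C) [18, 43, 58, 78, 96, 109, 115] (v18 C) [13, 31, 59, 91, 120] :=
  C.conv (f8216 C) (f8435 C) (f9449 C) _ [128, 158, 164, 173, 177] _ (by decide +kernel) (by decide +kernel) (by decide +kernel)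

theorem f9451 : C.T (v18 C) [13, 31, 59, 91, 120] (v3 C) [18, 43, 58, 78, 96, 109, 115] :=
  C.flip (f9450 C)

theorem f9452 : C.T (v17 C) [16, 40, 54, 74, 98, 110, 124] (v18 C) [4, 42, 61, 70, 90, 122] :=
  C.closeT (p := (v3 C)) (pu := [18, 44, 50, 78, 96, 109, 115])
    (C.pT (f9447 C)
    (C.pH [12, 35, 50, 83] [16, 40, 54, 74, 98, 110, 124] (by decide +kernel) (C.pNil _ _)))
    (C.pH [12, 35, 50, 83] [13, 31, 59, 91, 120] (by decide +kernel)
    (C.pT (f9451 C)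
    (C.pH [12, 35, 50, 83] [18, 44, 50, 78, 96, 109, 115] (by decide +kernel) (C.pNil _ _))))
    (C.loop_of_one (relLoop0 C) _ _)

theorem f9453 : C.T (v18 C) [4, 42, 61, 70, 90, 122] (v17 C) [16, 40, 54, 74, 98, 110, 124] :=
  C.flip (f9452 C)

theorem f9454 : C.T (v3 C) [23, 31, 51, 87, 98, 109, 118] (v17 C) [5, 44, 53, 84, 93, 109, 116] :=
  C.conv (f6828 C) (f9427 C) (f9427 C) _ [137, 150, 165, 174] _ (by decide +kernel) (by decide +kernel) (by decide +kernel)

theorem f9455 : C.S (v3 C) [10, 28, 62, 78, 98, 110, 120] :=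
  C.stMul (f328 C) (f335 C) _ (by decide +kernel)

theorem f9456 : C.S (v3 C) [20, 30, 59, 75, 96, 110, 111] :=
  C.stMul (f353 C) (f9455 C) _ (by decide +kernel)

theorem f9457 : C.T (v3 C) [12, 34, 51, 75, 99, 110, 111] (v18 C) [25, 44, 53, 100, 114] :=
  C.conv (f9221 C) (f9279 C) (f9456 C) _ [140, 157, 169, 171, 177] _ (by decide +kernel) (by decide +kernel) (by decide +kernel)

theorem f9458 : C.T (v18 C) [25, 44, 53, 100, 114] (v3 C) [12, 34, 51, 75, 99, 110, 111] :=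
  C.flip (f9457 C)

theorem f9459 : C.T (v17 C) [5, 31, 62, 84, 97, 109, 111] (v18 C) [17, 35, 49, 75, 103, 110, 117] :=
  C.closeT (p := (v3 C)) (pu := [23, 31, 51, 87, 98, 109, 118])
    (C.pT (f9454 C)
    (C.pH [12, 35, 50, 83] [5, 31, 62, 84, 97, 109, 111] (by decide +kernel) (C.pNil _ _)))
    (C.pH [12, 35, 50, 83] [25, 44, 53, 100, 114] (by decide +kernel)
    (C.pT (f9458 C)
    (C.pH [12, 35, 50, 83] [23, 31, 51, 87, 98, 109, 118] (by decide +kernel) (C.pNil _ _))))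
    (C.loop_of_one (relLoop0 C) _ _)

theorem f9460 : C.T (v18 C) [17, 35, 49, 75, 103, 110, 117] (v17 C) [5, 31, 62, 84, 97, 109, 111] :=
  C.flip (f9459 C)

theorem f9461 : C.T (v3 C) [13, 42, 62, 76, 92, 110, 119] (v18 C) [8, 39, 52, 72, 98, 117] :=
  C.conv (f6888 C) (f7333 C) (f7333 C) _ [139, 161, 168, 174, 178] _ (by decide +kernel) (by decide +kernel) (by decide +kernel)

theorem f9462 : C.S (v3 C) [15, 34, 56, 71, 106, 109, 117] :=
  C.stMul (f331 C) (f353 C) _ (by decide +kernel)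

theorem f9463 : C.S (v3 C) [15, 40, 50, 78, 92, 118] :=
  C.stMul (f328 C) (f9462 C) _ (by decide +kernel)

theorem f9464 : C.T (v3 C) [4, 44, 75, 101, 110, 116] (v17 C) [8, 43, 53, 77, 103, 110] :=
  C.conv (f6822 C) (f7297 C) (f9463 C) _ [138, 150, 165, 176] _ (by decide +kernel) (by decide +kernel) (by decide +kernel)

theorem f9465 : C.T (v17 C) [8, 43, 53, 77, 103, 110] (v3 C) [4, 44, 75, 101, 110, 116] :=
  C.flip (f9464 C)

theorem f9466 : C.T (v18 C) [10, 33, 51, 74, 92, 121] (v17 C) [21, 43, 54, 83, 101, 109] :=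
  C.closeT (p := (v3 C)) (pu := [13, 42, 62, 76, 92, 110, 119])
    (C.pT (f9461 C)
    (C.pH [12, 35, 50, 83] [10, 33, 51, 74, 92, 121] (by decide +kernel) (C.pNil _ _)))
    (C.pH [12, 35, 50, 83] [8, 43, 53, 77, 103, 110] (by decide +kernel)
    (C.pT (f9465 C)
    (C.pH [12, 35, 50, 83] [13, 42, 62, 76, 92, 110, 119] (by decide +kernel) (C.pNil _ _))))
    (C.loop_of_one (relLoop0 C) _ _)

theorem f9467 : C.T (v17 C) [21, 43, 54, 83, 101, 109] (v18 C) [10, 33, 51, 74, 92, 121] :=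
  C.flip (f9466 C)

theorem f9468 : C.T (v3 C) [17, 41, 59, 80, 99, 110, 123] (v18 C) [24, 30, 58, 73, 104, 110, 116] :=
  C.conv (f6888 C) (f7333 C) (f7333 C) _ [143, 153, 169, 173, 178] _ (by decide +kernel) (by decide +kernel) (by decide +kernel)

theorem f9469 : C.S (v3 C) [18, 35, 57, 82, 93, 110, 115] :=
  C.stMul (f353 C) (f331 C) _ (by decide +kernel)

theorem f9470 : C.S (v3 C) [6, 45, 53, 79, 94, 110, 115] :=
  C.stMul (f335 C) (f9469 C) _ (by decide +kernel)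

theorem f9471 : C.S (v3 C) [4, 28, 64, 75, 93, 109, 113] :=
  C.stMul (f328 C) (f9470 C) _ (by decide +kernel)

theorem f9472 : C.T (v3 C) [9, 39, 50, 73, 92, 110, 120] (v18 C) [13, 40, 56, 84, 98, 116] :=
  C.conv (f9221 C) (f9279 C) (f9471 C) _ [134, 161, 166, 171, 177] _ (by decide +kernel) (by decide +kernel) (by decide +kernel)

theorem f9473 : C.T (v18 C) [13, 40, 56, 84, 98, 116] (v3 C) [9, 39, 50, 73, 92, 110, 120] :=
  C.flip (f9472 C)

theorem f9474 : C.T (v18 C) [6, 43, 66, 81, 93, 109, 119] (v18 C) [4, 28, 50, 100, 124] :=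
  C.closeT (p := (v3 C)) (pu := [17, 41, 59, 80, 99, 110, 123])
    (C.pT (f9468 C)
    (C.pH [12, 35, 50, 83] [6, 43, 66, 81, 93, 109, 119] (by decide +kernel) (C.pNil _ _)))
    (C.pH [12, 35, 50, 83] [13, 40, 56, 84, 98, 116] (by decide +kernel)
    (C.pT (f9473 C)
    (C.pH [12, 35, 50, 83] [17, 41, 59, 80, 99, 110, 123] (by decide +kernel) (C.pNil _ _))))
    (C.loop_of_one (relLoop0 C) _ _)

theorem f9475 : C.T (v18 C) [4, 28, 50, 100, 124] (v18 C) [6, 43, 66, 81, 93, 109, 119] :=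
  C.flip (f9474 C)

theorem f9476 : C.T (v3 C) [14, 34, 53, 86, 93] (v18 C) [25, 30, 51, 81, 101, 109] :=
  C.conv (f6888 C) (f7333 C) (f7333 C) _ [126, 156, 170, 176] _ (by decide +kernel) (by decide +kernel) (by decide +kernel)

theorem f9477 : C.S (v3 C) [21, 45, 66, 81, 102, 110] :=
  C.stMul (f335 C) (f7374 C) _ (by decide +kernel)

theorem f9478 : C.S (v3 C) [14, 36, 68, 75, 101, 109, 114] :=
  C.stMul (f353 C) (f9477 C) _ (by decide +kernel)

theorem f9479 : C.T (v3 C) [14, 44, 66, 86, 93, 121] (v18 C) [12, 36, 60, 79, 105, 110, 113] :=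
  C.conv (f6902 C) (f7285 C) (f9478 C) _ [135, 161, 165, 174] _ (by decide +kernel) (by decide +kernel) (by decide +kernel)

theorem f9480 : C.T (v18 C) [12, 36, 60, 79, 105, 110, 113] (v3 C) [14, 44, 66, 86, 93, 121] :=
  C.flip (f9479 C)

theorem f9481 : C.T (v18 C) [9, 36, 58, 76, 102, 110, 113] (v18 C) [36, 54, 75, 97, 120] :=
  C.closeT (p := (v3 C)) (pu := [14, 34, 53, 86, 93])
    (C.pT (f9476 C)
    (C.pH [12, 35, 50, 83] [9, 36, 58, 76, 102, 110, 113] (by decide +kernel) (C.pNil _ _)))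
    (C.pH [12, 35, 50, 83] [12, 36, 60, 79, 105, 110, 113] (by decide +kernel)
    (C.pT (f9480 C)
    (C.pH [12, 35, 50, 83] [14, 34, 53, 86, 93] (by decide +kernel) (C.pNil _ _))))
    (C.loop_of_one (relLoop0 C) _ _)

theorem f9482 : C.T (v18 C) [36, 54, 75, 97, 120] (v18 C) [9, 36, 58, 76, 102, 110, 113] :=
  C.flip (f9481 C)

theorem f9483 : C.T (v3 C) [29, 52, 86, 100, 110, 125] (v18 C) [6, 45, 62, 85, 94, 110, 114] :=
  C.conv (f6888 C) (f7333 C) (f7333 C) _ [147, 162, 170, 173, 178] _ (by decide +kernel) (by decide +kernel) (by decide +kernel)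

theorem f9484 : C.S (v3 C) [11, 28, 50, 85, 94, 124] :=
  C.stMul (f353 C) (f9404 C) _ (by decide +kernel)

theorem f9485 : C.T (v3 C) [23, 27, 62, 87, 96, 110, 118] (v18 C) [26, 40, 62, 93, 119] :=
  C.conv (f9221 C) (f9279 C) (f9484 C) _ [135, 149, 169, 171, 178] _ (by decide +kernel) (by decide +kernel) (by decide +kernel)

theorem f9486 : C.T (v18 C) [26, 40, 62, 93, 119] (v3 C) [23, 27, 62, 87, 96, 110, 118] :=
  C.flip (f9485 C)

theorem f9487 : C.T (v18 C) [19, 33, 63, 87, 97, 109, 112] (v18 C) [13, 33, 62, 70, 94, 110, 114] :=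
  C.closeT (p := (v3 C)) (pu := [29, 52, 86, 100, 110, 125])
    (C.pT (f9483 C)
    (C.pH [12, 35, 50, 83] [19, 33, 63, 87, 97, 109, 112] (by decide +kernel) (C.pNil _ _)))
    (C.pH [12, 35, 50, 83] [26, 40, 62, 93, 119] (by decide +kernel)
    (C.pT (f9486 C)
    (C.pH [12, 35, 50, 83] [29, 52, 86, 100, 110, 125] (by decide +kernel) (C.pNil _ _))))
    (C.loop_of_one (relLoop0 C) _ _)

theorem f9491 : C.T (v3 C) [22, 44, 49, 87, 99, 110, 122] (v18 C) [13, 34, 65, 77, 101, 109, 116] :=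
  C.conv (f6888 C) (f7333 C) (f7333 C) _ [143, 163, 176, 177] _ (by decide +kernel) (by decide +kernel) (by decide +kernel)

theorem f9492 : C.S (v3 C) [11, 28, 50, 85, 94, 124] :=
  C.stMul (f353 C) (f9200 C) _ (by decide +kernel)

theorem f9493 : C.T (v3 C) [20, 30, 69, 74, 108, 116] (v18 C) [30, 68, 84, 109] :=
  C.conv (f6916 C) (f7402 C) (f9492 C) _ [131, 154, 165, 172, 177] _ (by decide +kernel) (by decide +kernel) (by decide +kernel)

theorem f9494 : C.T (v18 C) [30, 68, 84, 109] (v3 C) [20, 30, 69, 74, 108, 116] :=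
  C.flip (f9493 C)

theorem f9495 : C.T (v18 C) [26, 49, 86, 107, 110, 124] (v18 C) [23, 30, 51, 72, 95, 109, 121] :=
  C.closeT (p := (v3 C)) (pu := [22, 44, 49, 87, 99, 110, 122])
    (C.pT (f9491 C)
    (C.pH [12, 35, 50, 83] [26, 49, 86, 107, 110, 124] (by decide +kernel) (C.pNil _ _)))
    (C.pH [12, 35, 50, 83] [30, 68, 84, 109] (by decide +kernel)
    (C.pT (f9494 C)
    (C.pH [12, 35, 50, 83] [22, 44, 49, 87, 99, 110, 122] (by decide +kernel) (C.pNil _ _))))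
    (C.loop_of_one (relLoop0 C) _ _)

theorem f9496 : C.T (v18 C) [23, 30, 51, 72, 95, 109, 121] (v18 C) [26, 49, 86, 107, 110, 124] :=
  C.flip (f9495 C)

theorem f9497 : C.T (v3 C) [17, 44, 51, 70, 119] (v18 C) [10, 37, 52, 88, 103, 111] :=
  C.conv (f6888 C) (f7333 C) (f7333 C) _ [143, 154, 165, 173, 177] _ (by decide +kernel) (by decide +kernel) (by decide +kernel)

theorem f9498 : C.S (v3 C) [15, 34, 56, 71, 106, 109, 117] :=
  C.stMul (f331 C) (f353 C) _ (by decide +kernel)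

theorem f9499 : C.S (v3 C) [8, 29, 61, 75, 96, 110, 111] :=
  C.stMul (f353 C) (f9498 C) _ (by decide +kernel)

theorem f9500 : C.T (v3 C) [9, 27, 51, 70, 119] (v15 C) [7, 34, 58, 89, 105, 125] :=
  C.conv (f3166 C) (f3236 C) (f9499 C) _ [126, 158, 168, 172, 177] _ (by decide +kernel) (by decide +kernel) (by decide +kernel)

theorem f9501 : C.T (v15 C) [7, 34, 58, 89, 105, 125] (v3 C) [9, 27, 51, 70, 119] :=
  C.flip (f9500 C)

theorem f9502 : C.T (v18 C) [21, 34, 50, 88, 103, 111] (v15 C) [7, 47, 55, 81, 101, 109, 115] :=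
  C.closeT (p := (v3 C)) (pu := [17, 44, 51, 70, 119])
    (C.pT (f9497 C)
    (C.pH [12, 35, 50, 83] [21, 34, 50, 88, 103, 111] (by decide +kernel) (C.pNil _ _)))
    (C.pH [12, 35, 50, 83] [7, 34, 58, 89, 105, 125] (by decide +kernel)
    (C.pT (f9501 C)
    (C.pH [12, 35, 50, 83] [17, 44, 51, 70, 119] (by decide +kernel) (C.pNil _ _))))
    (C.loop_of_one (relLoop0 C) _ _)

theorem f9503 : C.T (v15 C) [7, 47, 55, 81, 101, 109, 115] (v18 C) [21, 34, 50, 88, 103, 111] :=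
  C.flip (f9502 C)

theorem f9504 : C.T (v3 C) [10, 33, 49, 72, 108, 110] (v18 C) [15, 34, 54, 89, 90, 110, 113] :=
  C.conv (f6888 C) (f7333 C) (f7333 C) _ [139, 162, 168, 174] _ (by decide +kernel) (by decide +kernel) (by decide +kernel)

theorem f9505 : C.S (v3 C) [21, 46, 68, 75, 95] :=
  C.stMul (f335 C) (f9344 C) _ (by decide +kernel)

theorem f9506 : C.S (v3 C) [14, 46, 79, 106, 123] :=
  C.stMul (f353 C) (f9505 C) _ (by decide +kernel)

theorem f9507 : C.S (v3 C) [19, 34, 68, 75, 94, 111] :=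
  C.stMul (f335 C) (f9506 C) _ (by decide +kernel)

theorem f9508 : C.T (v3 C) [8, 39, 68, 75, 90, 110, 123] (v18 C) [10, 48, 60, 79, 107, 109, 120] :=
  C.conv (f8216 C) (f8435 C) (f9507 C) _ [126, 158, 170, 175, 178] _ (by decide +kernel) (by decide +kernel) (by decide +kernel)

theorem f9509 : C.T (v18 C) [10, 48, 60, 79, 107, 109, 120] (v3 C) [8, 39, 68, 75, 90, 110, 123] :=
  C.flip (f9508 C)

theorem f9510 : C.T (v18 C) [15, 47, 65, 86, 99, 119] (v18 C) [8, 41, 62, 84, 105, 110, 119] :=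
  C.closeT (p := (v3 C)) (pu := [10, 33, 49, 72, 108, 110])
    (C.pT (f9504 C)
    (C.pH [12, 35, 50, 83] [15, 47, 65, 86, 99, 119] (by decide +kernel) (C.pNil _ _)))
    (C.pH [12, 35, 50, 83] [10, 48, 60, 79, 107, 109, 120] (by decide +kernel)
    (C.pT (f9509 C)
    (C.pH [12, 35, 50, 83] [10, 33, 49, 72, 108, 110] (by decide +kernel) (C.pNil _ _))))
    (C.loop_of_one (relLoop0 C) _ _)

theorem f9511 : C.T (v18 C) [8, 41, 62, 84, 105, 110, 119] (v18 C) [15, 47, 65, 86, 99, 119] :=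
  C.flip (f9510 C)

theorem f9512 : C.T (v3 C) [24, 36, 50, 95, 109, 121] (v18 C) [26, 31, 58, 84, 91, 120] :=
  C.conv (f6888 C) (f7333 C) (f7333 C) _ [138, 163, 170, 174, 178] _ (by decide +kernel) (by decide +kernel) (by decide +kernel)

theorem f9513 : C.S (v3 C) [20, 42, 68, 89, 99] :=
  C.stMul (f335 C) (f353 C) _ (by decide +kernel)

theorem f9514 : C.S (v3 C) [18, 33, 63, 86, 90, 124] :=
  C.stMul (f331 C) (f9513 C) _ (by decide +kernel)

theorem f9515 : C.S (v3 C) [22, 44, 63, 70, 99, 110, 123] :=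
  C.stMul (f353 C) (f9514 C) _ (by decide +kernel)

theorem f9516 : C.T (v3 C) [19, 39, 51, 77, 98, 109, 121] (v18 C) [19, 41, 57, 81] :=
  C.conv (f9221 C) (f9279 C) (f9515 C) _ [128, 150, 165, 171, 177] _ (by decide +kernel) (by decide +kernel) (by decide +kernel)

theorem f9517 : C.T (v18 C) [19, 41, 57, 81] (v3 C) [19, 39, 51, 77, 98, 109, 121] :=
  C.flip (f9516 C)

theorem f9518 : C.T (v18 C) [4, 45, 65, 74, 96, 125] (v18 C) [6, 32, 49, 87, 104, 109, 118] :=
  C.closeT (p := (v3 C)) (pu := [24, 36, 50, 95, 109, 121])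
    (C.pT (f9512 C)
    (C.pH [12, 35, 50, 83] [4, 45, 65, 74, 96, 125] (by decide +kernel) (C.pNil _ _)))
    (C.pH [12, 35, 50, 83] [19, 41, 57, 81] (by decide +kernel)
    (C.pT (f9517 C)
    (C.pH [12, 35, 50, 83] [24, 36, 50, 95, 109, 121] (by decide +kernel) (C.pNil _ _))))
    (C.loop_of_one (relLoop0 C) _ _)

theorem f9519 : C.T (v18 C) [6, 32, 49, 87, 104, 109, 118] (v18 C) [4, 45, 65, 74, 96, 125] :=
  C.flip (f9518 C)

theorem f9520 : C.T (v3 C) [10, 42, 57, 87, 100] (v18 C) [16, 37, 69, 73, 103, 109, 125] :=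
  C.conv (f6888 C) (f7333 C) (f7333 C) _ [141, 157, 168, 172, 178] _ (by decide +kernel) (by decide +kernel) (by decide +kernel)

theorem f9521 : C.S (v3 C) [12, 29, 49, 79, 92, 110, 117] :=
  C.stMul (f353 C) (f7560 C) _ (by decide +kernel)

theorem f9522 : C.S (v3 C) [25, 34, 84, 93, 109, 116] :=
  C.stMul (f335 C) (f9521 C) _ (by decide +kernel)

theorem f9523 : C.S (v3 C) [21, 32, 61, 77, 107, 110, 118] :=
  C.stMul (f328 C) (f9522 C) _ (by decide +kernel)

theorem f9524 : C.T (v3 C) [8, 30, 58, 81, 109, 112] (v18 C) [17, 32, 58, 89, 97, 109, 124] :=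
  C.conv (f6888 C) (f7333 C) (f9523 C) _ [127, 155, 166, 174, 178] _ (by decide +kernel) (by decide +kernel) (by decide +kernel)

theorem f9525 : C.T (v18 C) [17, 32, 58, 89, 97, 109, 124] (v3 C) [8, 30, 58, 81, 109, 112] :=
  C.flip (f9524 C)

theorem f9526 : C.T (v18 C) [16, 34, 66, 73, 94, 119] (v18 C) [9, 41, 50, 73, 106, 110, 122] :=
  C.closeT (p := (v3 C)) (pu := [10, 42, 57, 87, 100])
    (C.pT (f9520 C)
    (C.pH [12, 35, 50, 83] [16, 34, 66, 73, 94, 119] (by decide +kernel) (C.pNil _ _)))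
    (C.pH [12, 35, 50, 83] [17, 32, 58, 89, 97, 109, 124] (by decide +kernel)
    (C.pT (f9525 C)
    (C.pH [12, 35, 50, 83] [10, 42, 57, 87, 100] (by decide +kernel) (C.pNil _ _))))
    (C.loop_of_one (relLoop0 C) _ _)

theorem f9527 : C.T (v18 C) [9, 41, 50, 73, 106, 110, 122] (v18 C) [16, 34, 66, 73, 94, 119] :=
  C.flip (f9526 C)

theorem f9528 : C.T (v3 C) [16, 45, 58, 89, 98, 110, 117] (v18 C) [12, 34, 65, 71, 94, 110, 122] :=
  C.conv (f6888 C) (f7333 C) (f7333 C) _ [145, 160, 169, 176, 178] _ (by decide +kernel) (by decide +kernel) (by decide +kernel)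

theorem f9529 : C.S (v3 C) [7, 37, 53, 78, 98, 118] :=
  C.stMul (f353 C) (f335 C) _ (by decide +kernel)

theorem f9530 : C.S (v3 C) [13, 42, 59, 86, 99, 123] :=
  C.stMul (f335 C) (f9529 C) _ (by decide +kernel)

theorem f9531 : C.T (v3 C) [16, 45, 66, 84, 103, 110, 125] (v18 C) [12, 46, 68, 86, 107, 112] :=
  C.conv (f9184 C) (f9232 C) (f9530 C) _ [140, 154, 166, 172, 178] _ (by decide +kernel) (by decide +kernel) (by decide +kernel)

theorem f9532 : C.T (v18 C) [12, 46, 68, 86, 107, 112] (v3 C) [16, 45, 66, 84, 103, 110, 125] :=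
  C.flip (f9531 C)

theorem f9533 : C.T (v18 C) [23, 31, 63, 83, 96, 116] (v18 C) [30, 49, 87, 99, 110, 116] :=
  C.closeT (p := (v3 C)) (pu := [16, 45, 58, 89, 98, 110, 117])
    (C.pT (f9528 C)
    (C.pH [12, 35, 50, 83] [23, 31, 63, 83, 96, 116] (by decide +kernel) (C.pNil _ _)))
    (C.pH [12, 35, 50, 83] [12, 46, 68, 86, 107, 112] (by decide +kernel)
    (C.pT (f9532 C)
    (C.pH [12, 35, 50, 83] [16, 45, 58, 89, 98, 110, 117] (by decide +kernel) (C.pNil _ _))))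
    (C.loop_of_one (relLoop0 C) _ _)

theorem f9534 : C.T (v18 C) [30, 49, 87, 99, 110, 116] (v18 C) [23, 31, 63, 83, 96, 116] :=
  C.flip (f9533 C)

theorem f9535 : C.T (v3 C) [18, 27, 58, 73, 96, 110, 114] (v18 C) [14, 37, 61, 89, 107, 110, 111] :=
  C.conv (f6888 C) (f7333 C) (f7333 C) _ [148, 169, 174] _ (by decide +kernel) (by decide +kernel) (by decide +kernel)

theorem f9536 : C.T (v3 C) [18, 31, 64, 76, 90, 109, 120] (v17 C) [15, 41, 75, 90, 109, 116] :=
  C.conv (f6822 C) (f7297 C) (f7295 C) _ [139, 163, 164, 175, 178] _ (by decide +kernel) (by decide +kernel) (by decide +kernel)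

theorem f9537 : C.T (v17 C) [15, 41, 75, 90, 109, 116] (v3 C) [18, 31, 64, 76, 90, 109, 120] :=
  C.flip (f9536 C)

theorem f9538 : C.T (v18 C) [14, 27, 65, 78, 97, 110, 118] (v17 C) [15, 36, 53, 79, 105, 110, 117] :=
  C.closeT (p := (v3 C)) (pu := [18, 27, 58, 73, 96, 110, 114])
    (C.pT (f9535 C)
    (C.pH [12, 35, 50, 83] [14, 27, 65, 78, 97, 110, 118] (by decide +kernel) (C.pNil _ _)))
    (C.pH [12, 35, 50, 83] [15, 41, 75, 90, 109, 116] (by decide +kernel)
    (C.pT (f9537 C)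
    (C.pH [12, 35, 50, 83] [18, 27, 58, 73, 96, 110, 114] (by decide +kernel) (C.pNil _ _))))
    (C.loop_of_one (relLoop0 C) _ _)

theorem f9539 : C.T (v17 C) [15, 36, 53, 79, 105, 110, 117] (v18 C) [14, 27, 65, 78, 97, 110, 118] :=
  C.flip (f9538 C)

theorem f9540 : C.T (v3 C) [15, 32, 71, 92, 110, 118] (v18 C) [13, 29, 52, 71, 102] :=
  C.conv (f6888 C) (f7333 C) (f7333 C) _ [143, 150] _ (by decide +kernel) (by decide +kernel) (by decide +kernel)

theorem f9541 : C.S (v3 C) [15, 34, 56, 71, 106, 109, 117] :=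
  C.stMul (f331 C) (f353 C) _ (by decide +kernel)

theorem f9542 : C.S (v3 C) [8, 29, 61, 75, 96, 110, 111] :=
  C.stMul (f353 C) (f9541 C) _ (by decide +kernel)

theorem f9543 : C.T (v3 C) [15, 47, 86, 105, 110, 125] (v17 C) [15, 45, 60, 77, 92, 109, 114] :=
  C.conv (f6269 C) (f7309 C) (f9542 C) _ [135, 151, 167, 172, 177] _ (by decide +kernel) (by decide +kernel) (by decide +kernel)

theorem f9544 : C.T (v17 C) [15, 45, 60, 77, 92, 109, 114] (v3 C) [15, 47, 86, 105, 110, 125] :=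
  C.flip (f9543 C)

theorem f9545 : C.T (v18 C) [26, 31, 49, 78, 105, 113] (v17 C) [15, 57, 76, 110, 116] :=
  C.closeT (p := (v3 C)) (pu := [15, 32, 71, 92, 110, 118])
    (C.pT (f9540 C)
    (C.pH [12, 35, 50, 83] [26, 31, 49, 78, 105, 113] (by decide +kernel) (C.pNil _ _)))
    (C.pH [12, 35, 50, 83] [15, 45, 60, 77, 92, 109, 114] (by decide +kernel)
    (C.pT (f9544 C)
    (C.pH [12, 35, 50, 83] [15, 32, 71, 92, 110, 118] (by decide +kernel) (C.pNil _ _))))
    (C.loop_of_one (relLoop0 C) _ _)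

theorem f9546 : C.T (v17 C) [15, 57, 76, 110, 116] (v18 C) [26, 31, 49, 78, 105, 113] :=
  C.flip (f9545 C)

theorem f9547 : C.T (v3 C) [26, 48, 66, 83, 100, 125] (v18 C) [22, 62, 75, 97, 117] :=
  C.conv (f6902 C) (f7285 C) (f7285 C) _ [146, 152, 168, 172] _ (by decide +kernel) (by decide +kernel) (by decide +kernel)

theorem f9548 : C.T (v3 C) [13, 38, 53, 85, 96] (v18 C) [21, 28, 49, 85, 91, 110, 121] :=
  C.conv (f8216 C) (f8435 C) (f9505 C) _ [147, 156, 165, 171, 177] _ (by decide +kernel) (by decide +kernel) (by decide +kernel)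

theorem f9549 : C.T (v18 C) [21, 28, 49, 85, 91, 110, 121] (v3 C) [13, 38, 53, 85, 96] :=
  C.flip (f9548 C)

theorem f9550 : C.T (v18 C) [11, 67, 86, 101, 110, 111] (v18 C) [10, 33, 58, 75, 99, 110, 120] :=
  C.closeT (p := (v3 C)) (pu := [26, 48, 66, 83, 100, 125])
    (C.pT (f9547 C)
    (C.pH [12, 35, 50, 83] [11, 67, 86, 101, 110, 111] (by decide +kernel) (C.pNil _ _)))
    (C.pH [12, 35, 50, 83] [21, 28, 49, 85, 91, 110, 121] (by decide +kernel)
    (C.pT (f9549 C)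
    (C.pH [12, 35, 50, 83] [26, 48, 66, 83, 100, 125] (by decide +kernel) (C.pNil _ _))))
    (C.loop_of_one (relLoop0 C) _ _)

theorem f9551 : C.T (v18 C) [10, 33, 58, 75, 99, 110, 120] (v18 C) [11, 67, 86, 101, 110, 111] :=
  C.flip (f9550 C)

theorem f9552 : C.T (v3 C) [18, 44, 54, 71, 94, 110, 125] (v18 C) [25, 44, 63, 88, 99, 109, 112] :=
  C.conv (f6902 C) (f7285 C) (f7285 C) _ [148, 161, 170, 172] _ (by decide +kernel) (by decide +kernel) (by decide +kernel)

theorem f9553 : C.T (v3 C) [18, 43, 57, 73, 92, 110, 119] (v17 C) [22, 35, 56, 75, 95, 109, 118] :=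
  C.conv (f6269 C) (f7309 C) (f9541 C) _ [130, 150, 166, 173, 178] _ (by decide +kernel) (by decide +kernel) (by decide +kernel)

theorem f9554 : C.T (v17 C) [22, 35, 56, 75, 95, 109, 118] (v3 C) [18, 43, 57, 73, 92, 110, 119] :=
  C.flip (f9553 C)

theorem f9555 : C.T (v18 C) [9, 63, 82, 107, 110, 123] (v17 C) [20, 29, 53, 79, 104, 110, 113] :=
  C.closeT (p := (v3 C)) (pu := [18, 44, 54, 71, 94, 110, 125])
    (C.pT (f9552 C)
    (C.pH [12, 35, 50, 83] [9, 63, 82, 107, 110, 123] (by decide +kernel) (C.pNil _ _)))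
    (C.pH [12, 35, 50, 83] [22, 35, 56, 75, 95, 109, 118] (by decide +kernel)
    (C.pT (f9554 C)
    (C.pH [12, 35, 50, 83] [18, 44, 54, 71, 94, 110, 125] (by decide +kernel) (C.pNil _ _))))
    (C.loop_of_one (relLoop0 C) _ _)

theorem f9556 : C.T (v17 C) [20, 29, 53, 79, 104, 110, 113] (v18 C) [9, 63, 82, 107, 110, 123] :=
  C.flip (f9555 C)

theorem f9557 : C.T (v3 C) [13, 45, 69, 74, 113] (v18 C) [7, 40, 58, 76, 91, 110] :=
  C.conv (f6902 C) (f7285 C) (f7285 C) _ [136, 152, 164, 172, 178] _ (by decide +kernel) (by decide +kernel) (by decide +kernel)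

theorem f9558 : C.S (v3 C) [20, 56, 88, 105, 110, 120] :=
  C.stMul (f331 C) (f331 C) _ (by decide +kernel)

theorem f9559 : C.S (v3 C) [18, 48, 67, 88, 96, 109, 120] :=
  C.stMul (f331 C) (f9558 C) _ (by decide +kernel)

theorem f9560 : C.T (v3 C) [4, 47, 58, 70, 99, 109, 120] (v18 C) [13, 40, 59, 90, 109, 122] :=
  C.conv (f9221 C) (f9279 C) (f9559 C) _ [129, 150, 169, 173, 178] _ (by decide +kernel) (by decide +kernel) (by decide +kernel)

theorem f9561 : C.T (v18 C) [13, 40, 59, 90, 109, 122] (v3 C) [4, 47, 58, 70, 99, 109, 120] :=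
  C.flip (f9560 C)

theorem f9562 : C.T (v18 C) [7, 30, 55, 76, 93, 110] (v18 C) [4, 28, 53, 84, 96, 110, 119] :=
  C.closeT (p := (v3 C)) (pu := [13, 45, 69, 74, 113])
    (C.pT (f9557 C)
    (C.pH [12, 35, 50, 83] [7, 30, 55, 76, 93, 110] (by decide +kernel) (C.pNil _ _)))
    (C.pH [12, 35, 50, 83] [13, 40, 59, 90, 109, 122] (by decide +kernel)
    (C.pT (f9561 C)
    (C.pH [12, 35, 50, 83] [13, 45, 69, 74, 113] (by decide +kernel) (C.pNil _ _))))
    (C.loop_of_one (relLoop0 C) _ _)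

theorem f9563 : C.T (v18 C) [4, 28, 53, 84, 96, 110, 119] (v18 C) [7, 30, 55, 76, 93, 110] :=
  C.flip (f9562 C)

theorem f9564 : C.T (v3 C) [7, 39, 63, 79, 90, 109, 124] (v18 C) [4, 27, 58, 82, 99, 119] :=
  C.conv (f6902 C) (f7285 C) (f7285 C) _ [130, 158, 164, 175, 178] _ (by decide +kernel) (by decide +kernel) (by decide +kernel)

theorem f9565 : C.S (v3 C) [15, 38, 55, 77, 98, 114] :=
  C.stMul (f331 C) (f9229 C) _ (by decide +kernel)

theorem f9566 : C.S (v3 C) [15, 41, 51, 77, 100, 110, 113] :=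
  C.stMul (f328 C) (f9565 C) _ (by decide +kernel)

theorem f9567 : C.T (v3 C) [7, 44, 61, 87, 103, 124] (v18 C) [9, 44, 61, 81, 102, 115] :=
  C.conv (f9184 C) (f9232 C) (f9566 C) _ [128, 152, 169, 176] _ (by decide +kernel) (by decide +kernel) (by decide +kernel)

theorem f9568 : C.T (v18 C) [9, 44, 61, 81, 102, 115] (v3 C) [7, 44, 61, 87, 103, 124] :=
  C.flip (f9567 C)

theorem f9569 : C.T (v18 C) [13, 36, 67, 86, 105, 109, 124] (v18 C) [25, 43, 57, 77, 93, 110, 115] :=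
  C.closeT (p := (v3 C)) (pu := [7, 39, 63, 79, 90, 109, 124])
    (C.pT (f9564 C)
    (C.pH [12, 35, 50, 83] [13, 36, 67, 86, 105, 109, 124] (by decide +kernel) (C.pNil _ _)))
    (C.pH [12, 35, 50, 83] [9, 44, 61, 81, 102, 115] (by decide +kernel)
    (C.pT (f9568 C)
    (C.pH [12, 35, 50, 83] [7, 39, 63, 79, 90, 109, 124] (by decide +kernel) (C.pNil _ _))))
    (C.loop_of_one (relLoop0 C) _ _)

theorem f9570 : C.T (v18 C) [25, 43, 57, 77, 93, 110, 115] (v18 C) [13, 36, 67, 86, 105, 109, 124] :=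
  C.flip (f9569 C)

theorem f9571 : C.T (v3 C) [30, 55, 74, 91, 109, 117] (v18 C) [14, 33, 61, 89, 100] :=
  C.conv (f6902 C) (f7285 C) (f7285 C) _ [135, 156, 166, 171, 178] _ (by decide +kernel) (by decide +kernel) (by decide +kernel)

theorem f9572 : C.S (v3 C) [4, 67, 86, 105, 116] :=
  C.stMul (f335 C) (f8983 C) _ (by decide +kernel)

theorem f9573 : C.S (v3 C) [6, 44, 60, 85, 94, 120] :=
  C.stMul (f328 C) (f9572 C) _ (by decide +kernel)

theorem f9574 : C.S (v3 C) [26, 41, 49, 77, 105, 123] :=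
  C.stMul (f353 C) (f9573 C) _ (by decide +kernel)

theorem f9575 : C.T (v3 C) [23, 30, 55, 81, 91, 110, 111] (v18 C) [35, 51, 72, 95, 110, 113] :=
  C.conv (f8216 C) (f8435 C) (f9574 C) _ [140, 154, 168, 171, 178] _ (by decide +kernel) (by decide +kernel) (by decide +kernel)

theorem f9576 : C.T (v18 C) [35, 51, 72, 95, 110, 113] (v3 C) [23, 30, 55, 81, 91, 110, 111] :=
  C.flip (f9575 C)

theorem f9577 : C.T (v18 C) [14, 42, 57, 85, 96, 125] (v18 C) [23, 31, 57, 75, 105, 110, 121] :=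
  C.closeT (p := (v3 C)) (pu := [30, 55, 74, 91, 109, 117])
    (C.pT (f9571 C)
    (C.pH [12, 35, 50, 83] [14, 42, 57, 85, 96, 125] (by decide +kernel) (C.pNil _ _)))
    (C.pH [12, 35, 50, 83] [35, 51, 72, 95, 110, 113] (by decide +kernel)
    (C.pT (f9576 C)
    (C.pH [12, 35, 50, 83] [30, 55, 74, 91, 109, 117] (by decide +kernel) (C.pNil _ _))))
    (C.loop_of_one (relLoop0 C) _ _)

theorem f9578 : C.T (v18 C) [23, 31, 57, 75, 105, 110, 121] (v18 C) [14, 42, 57, 85, 96, 125] :=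
  C.flip (f9577 C)

theorem f9579 : C.T (v3 C) [18, 47, 63, 88, 91, 124] (v18 C) [10, 31, 62, 80, 93, 115] :=
  C.conv (f6902 C) (f7285 C) (f7285 C) _ [141, 150, 165, 175, 177] _ (by decide +kernel) (by decide +kernel) (by decide +kernel)

theorem f9580 : C.S (v3 C) [9, 29, 68, 75, 108, 110, 124] :=
  C.stMul (f335 C) (f328 C) _ (by decide +kernel)

theorem f9581 : C.S (v3 C) [20, 29, 56, 72, 109, 121] :=
  C.stMul (f335 C) (f9580 C) _ (by decide +kernel)

theorem f9582 : C.S (v3 C) [10, 47, 54, 88, 107, 109, 117] :=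
  C.stMul (f335 C) (f9581 C) _ (by decide +kernel)

theorem f9583 : C.S (v3 C) [20, 31, 50, 86, 94, 110, 111] :=
  C.stMul (f353 C) (f9582 C) _ (by decide +kernel)

theorem f9584 : C.T (v3 C) [18, 41, 69, 74, 94, 123] (v17 C) [22, 44, 60, 80, 90, 109, 117] :=
  C.conv (f6828 C) (f9427 C) (f9583 C) _ [145, 157, 168, 176, 178] _ (by decide +kernel) (by decide +kernel) (by decide +kernel)

theorem f9585 : C.T (v17 C) [22, 44, 60, 80, 90, 109, 117] (v3 C) [18, 41, 69, 74, 94, 123] :=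
  C.flip (f9584 C)

theorem f9586 : C.T (v18 C) [21, 31, 52, 77, 107, 110, 124] (v17 C) [20, 30, 54, 89, 101, 110, 120] :=
  C.closeT (p := (v3 C)) (pu := [18, 47, 63, 88, 91, 124])
    (C.pT (f9579 C)
    (C.pH [12, 35, 50, 83] [21, 31, 52, 77, 107, 110, 124] (by decide +kernel) (C.pNil _ _)))
    (C.pH [12, 35, 50, 83] [22, 44, 60, 80, 90, 109, 117] (by decide +kernel)
    (C.pT (f9585 C)
    (C.pH [12, 35, 50, 83] [18, 47, 63, 88, 91, 124] (by decide +kernel) (C.pNil _ _))))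
    (C.loop_of_one (relLoop0 C) _ _)

theorem f9587 : C.T (v17 C) [20, 30, 54, 89, 101, 110, 120] (v18 C) [21, 31, 52, 77, 107, 110, 124] :=
  C.flip (f9586 C)

theorem f9588 : C.T (v3 C) [14, 29, 49, 70, 108, 113] (v18 C) [15, 48, 62, 87, 108, 115] :=
  C.conv (f6911 C) (f8231 C) (f8231 C) _ [140, 166, 171, 178] _ (by decide +kernel) (by decide +kernel) (by decide +kernel)

theorem f9589 : C.T (v3 C) [14, 31, 88, 103, 110, 115] (v18 C) [9, 35, 56, 89, 103, 120] :=
  C.conv (f6902 C) (f7285 C) (f7285 C) _ [129, 160, 165, 172] _ (by decide +kernel) (by decide +kernel) (by decide +kernel)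

theorem f9590 : C.T (v18 C) [9, 35, 56, 89, 103, 120] (v3 C) [14, 31, 88, 103, 110, 115] :=
  C.flip (f9589 C)

theorem f9591 : C.T (v18 C) [15, 37, 64, 75, 109, 115] (v18 C) [25, 45, 56, 70, 90, 110] :=
  C.closeT (p := (v3 C)) (pu := [14, 29, 49, 70, 108, 113])
    (C.pT (f9588 C)
    (C.pH [12, 35, 50, 83] [15, 37, 64, 75, 109, 115] (by decide +kernel) (C.pNil _ _)))
    (C.pH [12, 35, 50, 83] [9, 35, 56, 89, 103, 120] (by decide +kernel)
    (C.pT (f9590 C)
    (C.pH [12, 35, 50, 83] [14, 29, 49, 70, 108, 113] (by decide +kernel) (C.pNil _ _))))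
    (C.loop_of_one (relLoop0 C) _ _)

theorem f9592 : C.T (v18 C) [25, 45, 56, 70, 90, 110] (v18 C) [15, 37, 64, 75, 109, 115] :=
  C.flip (f9591 C)

theorem f9593 : C.T (v3 C) [10, 47, 53, 87, 104, 109, 114] (v18 C) [4, 68, 88, 102, 110, 125] :=
  C.conv (f6911 C) (f8231 C) (f8231 C) _ [136, 156, 173, 178] _ (by decide +kernel) (by decide +kernel) (by decide +kernel)

theorem f9594 : C.S (v3 C) [8, 48, 63, 86, 90, 110, 123] :=
  C.stMul (f331 C) (f7804 C) _ (by decide +kernel)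

theorem f9595 : C.T (v3 C) [8, 34, 60, 71, 104, 109, 114] (v18 C) [6, 45, 69, 72, 95, 115] :=
  C.conv (f7327 C) (f7806 C) (f9594 C) _ [133, 151, 168, 175] _ (by decide +kernel) (by decide +kernel) (by decide +kernel)

theorem f9596 : C.T (v18 C) [6, 45, 69, 72, 95, 115] (v3 C) [8, 34, 60, 71, 104, 109, 114] :=
  C.flip (f9595 C)

theorem f9597 : C.T (v18 C) [13, 41, 50, 74, 107, 109, 121] (v18 C) [24, 29, 62, 88, 95, 120] :=
  C.closeT (p := (v3 C)) (pu := [10, 47, 53, 87, 104, 109, 114])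
    (C.pT (f9593 C)
    (C.pH [12, 35, 50, 83] [13, 41, 50, 74, 107, 109, 121] (by decide +kernel) (C.pNil _ _)))
    (C.pH [12, 35, 50, 83] [6, 45, 69, 72, 95, 115] (by decide +kernel)
    (C.pT (f9596 C)
    (C.pH [12, 35, 50, 83] [10, 47, 53, 87, 104, 109, 114] (by decide +kernel) (C.pNil _ _))))
    (C.loop_of_one (relLoop0 C) _ _)

theorem f9598 : C.T (v18 C) [24, 29, 62, 88, 95, 120] (v18 C) [13, 41, 50, 74, 107, 109, 121] :=
  C.flip (f9597 C)

theorem f9599 : C.T (v3 C) [8, 47, 58, 73, 104, 110, 115] (v18 C) [17, 34, 57, 80, 91, 109, 123] :=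
  C.conv (f6911 C) (f8231 C) (f8231 C) _ [135, 159, 169, 175, 177] _ (by decide +kernel) (by decide +kernel) (by decide +kernel)

theorem f9600 : C.S (v3 C) [8, 39, 58, 72, 107, 109, 119] :=
  C.stMul (f328 C) (f9594 C) _ (by decide +kernel)

theorem f9601 : C.T (v3 C) [21, 37, 68, 76, 100, 109, 113] (v18 C) [17, 28, 66, 73, 105, 115] :=
  C.conv (f7327 C) (f7806 C) (f9600 C) _ [142, 159, 166, 171] _ (by decide +kernel) (by decide +kernel) (by decide +kernel)

theorem f9602 : C.T (v18 C) [17, 28, 66, 73, 105, 115] (v3 C) [21, 37, 68, 76, 100, 109, 113] :=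
  C.flip (f9601 C)

theorem f9603 : C.T (v18 C) [25, 36, 54, 81, 107, 123] (v18 C) [9, 34, 59, 84, 106, 110, 124] :=
  C.closeT (p := (v3 C)) (pu := [8, 47, 58, 73, 104, 110, 115])
    (C.pT (f9599 C)
    (C.pH [12, 35, 50, 83] [25, 36, 54, 81, 107, 123] (by decide +kernel) (C.pNil _ _)))
    (C.pH [12, 35, 50, 83] [17, 28, 66, 73, 105, 115] (by decide +kernel)
    (C.pT (f9602 C)
    (C.pH [12, 35, 50, 83] [8, 47, 58, 73, 104, 110, 115] (by decide +kernel) (C.pNil _ _))))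
    (C.loop_of_one (relLoop0 C) _ _)

theorem f9604 : C.T (v18 C) [9, 34, 59, 84, 106, 110, 124] (v18 C) [25, 36, 54, 81, 107, 123] :=
  C.flip (f9603 C)

theorem f9605 : C.T (v3 C) [11, 44, 55, 74, 111] (v18 C) [12, 43, 58, 73, 90, 110, 111] :=
  C.conv (f6911 C) (f8231 C) (f8231 C) _ [138, 157, 165, 176, 178] _ (by decide +kernel) (by decide +kernel) (by decide +kernel)

theorem f9606 : C.S (v3 C) [4, 35, 66, 84, 105, 109, 115] :=
  C.stMul (f335 C) (f331 C) _ (by decide +kernel)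

theorem f9607 : C.S (v3 C) [17, 52, 88, 94, 110, 125] :=
  C.stMul (f331 C) (f9606 C) _ (by decide +kernel)

theorem f9608 : C.T (v3 C) [22, 32, 62, 70, 121] (v18 C) [13, 31, 63, 74, 91, 113] :=
  C.conv (f6916 C) (f7402 C) (f9607 C) _ [134, 149, 171, 177] _ (by decide +kernel) (by decide +kernel) (by decide +kernel)

theorem f9609 : C.T (v18 C) [13, 31, 63, 74, 91, 113] (v3 C) [22, 32, 62, 70, 121] :=
  C.flip (f9608 C)

theorem f9610 : C.T (v18 C) [23, 43, 62, 82, 96, 115] (v18 C) [4, 42, 58, 88, 99, 109, 114] :=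
  C.closeT (p := (v3 C)) (pu := [11, 44, 55, 74, 111])
    (C.pT (f9605 C)
    (C.pH [12, 35, 50, 83] [23, 43, 62, 82, 96, 115] (by decide +kernel) (C.pNil _ _)))
    (C.pH [12, 35, 50, 83] [13, 31, 63, 74, 91, 113] (by decide +kernel)
    (C.pT (f9609 C)
    (C.pH [12, 35, 50, 83] [11, 44, 55, 74, 111] (by decide +kernel) (C.pNil _ _))))
    (C.loop_of_one (relLoop0 C) _ _)

theorem f9611 : C.T (v18 C) [4, 42, 58, 88, 99, 109, 114] (v18 C) [23, 43, 62, 82, 96, 115] :=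
  C.flip (f9610 C)

theorem f9612 : C.T (v3 C) [20, 39, 54, 80, 106, 110, 116] (v18 C) [21, 28, 62, 87, 101, 110, 114] :=
  C.conv (f6916 C) (f7402 C) (f7402 C) _ [144, 161, 173, 178] _ (by decide +kernel) (by decide +kernel) (by decide +kernel)

theorem f9613 : C.S (v3 C) [12, 47, 57, 74, 97, 110] :=
  C.stMul (f335 C) (f8134 C) _ (by decide +kernel)

theorem f9614 : C.S (v3 C) [25, 41, 58, 92, 119] :=
  C.stMul (f335 C) (f9613 C) _ (by decide +kernel)

theorem f9615 : C.S (v3 C) [17, 41, 68, 88, 104, 109, 115] :=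
  C.stMul (f353 C) (f9614 C) _ (by decide +kernel)

theorem f9616 : C.T (v3 C) [11, 32, 54, 70, 100, 110, 119] (v18 C) [4, 28, 49, 73, 97, 110, 116] :=
  C.conv (f7327 C) (f7806 C) (f9615 C) _ [144, 166, 174, 177] _ (by decide +kernel) (by decide +kernel) (by decide +kernel)

theorem f9617 : C.T (v18 C) [4, 28, 49, 73, 97, 110, 116] (v3 C) [11, 32, 54, 70, 100, 110, 119] :=
  C.flip (f9616 C)

theorem f9618 : C.T (v18 C) [8, 39, 57, 81, 106, 110, 119] (v18 C) [26, 46, 65, 79, 92, 110, 115] :=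
  C.closeT (p := (v3 C)) (pu := [20, 39, 54, 80, 106, 110, 116])
    (C.pT (f9612 C)
    (C.pH [12, 35, 50, 83] [8, 39, 57, 81, 106, 110, 119] (by decide +kernel) (C.pNil _ _)))
    (C.pH [12, 35, 50, 83] [4, 28, 49, 73, 97, 110, 116] (by decide +kernel)
    (C.pT (f9617 C)
    (C.pH [12, 35, 50, 83] [20, 39, 54, 80, 106, 110, 116] (by decide +kernel) (C.pNil _ _))))
    (C.loop_of_one (relLoop0 C) _ _)

theorem f9619 : C.T (v18 C) [26, 46, 65, 79, 92, 110, 115] (v18 C) [8, 39, 57, 81, 106, 110, 119] :=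
  C.flip (f9618 C)

theorem f9620 : C.T (v3 C) [25, 31, 66, 77, 91, 119] (v18 C) [14, 32, 69, 84, 97, 109, 116] :=
  C.conv (f6916 C) (f7402 C) (f7402 C) _ [132, 164, 171] _ (by decide +kernel) (by decide +kernel) (by decide +kernel)

theorem f9621 : C.S (v3 C) [7, 39, 56, 89, 103, 119] :=
  C.stMul (f331 C) (f7362 C) _ (by decide +kernel)

theorem f9622 : C.S (v3 C) [12, 34, 51, 89, 101, 111] :=
  C.stMul (f331 C) (f9621 C) _ (by decide +kernel)

theorem f9623 : C.S (v3 C) [23, 31, 52, 82, 100, 112] :=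
  C.stMul (f353 C) (f9622 C) _ (by decide +kernel)

theorem f9624 : C.S (v3 C) [7, 32, 55, 86, 103, 110, 119] :=
  C.stMul (f331 C) (f9623 C) _ (by decide +kernel)

theorem f9625 : C.T (v3 C) [17, 46, 67, 76, 103, 115] (v17 C) [6, 37, 62, 71, 97, 119] :=
  C.conv (f6814 C) (f7361 C) (f9624 C) _ [126, 162, 168, 174] _ (by decide +kernel) (by decide +kernel) (by decide +kernel)

theorem f9626 : C.T (v17 C) [6, 37, 62, 71, 97, 119] (v3 C) [17, 46, 67, 76, 103, 115] :=
  C.flip (f9625 C)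

theorem f9627 : C.T (v18 C) [14, 33, 51, 88, 106, 123] (v17 C) [24, 37, 66, 89, 105, 109, 118] :=
  C.closeT (p := (v3 C)) (pu := [25, 31, 66, 77, 91, 119])
    (C.pT (f9620 C)
    (C.pH [12, 35, 50, 83] [14, 33, 51, 88, 106, 123] (by decide +kernel) (C.pNil _ _)))
    (C.pH [12, 35, 50, 83] [6, 37, 62, 71, 97, 119] (by decide +kernel)
    (C.pT (f9626 C)
    (C.pH [12, 35, 50, 83] [25, 31, 66, 77, 91, 119] (by decide +kernel) (C.pNil _ _))))
    (C.loop_of_one (relLoop0 C) _ _)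

theorem f9628 : C.T (v17 C) [24, 37, 66, 89, 105, 109, 118] (v18 C) [14, 33, 51, 88, 106, 123] :=
  C.flip (f9627 C)

theorem f9629 : C.T (v3 C) [15, 46, 59, 81, 105, 124] (v18 C) [13, 48, 69, 81, 100, 109, 124] :=
  C.conv (f6916 C) (f7402 C) (f7402 C) _ [141, 155, 166, 172] _ (by decide +kernel) (by decide +kernel) (by decide +kernel)

theorem f9630 : C.S (v3 C) [4, 67, 86, 105, 116] :=
  C.stMul (f335 C) (f9262 C) _ (by decide +kernel)

theorem f9631 : C.S (v3 C) [6, 44, 60, 85, 94, 120] :=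
  C.stMul (f328 C) (f9630 C) _ (by decide +kernel)

theorem f9632 : C.T (v3 C) [15, 46, 53, 77, 97, 111] (v18 C) [17, 29, 55, 99, 109, 111] :=
  C.conv (f6902 C) (f7285 C) (f9631 C) _ [128, 162, 168, 171, 178] _ (by decide +kernel) (by decide +kernel) (by decide +kernel)

theorem f9633 : C.T (v18 C) [17, 29, 55, 99, 109, 111] (v3 C) [15, 46, 53, 77, 97, 111] :=
  C.flip (f9632 C)

theorem f9634 : C.T (v18 C) [26, 47, 68, 75, 105, 123] (v18 C) [9, 40, 66, 78, 95, 111] :=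
  C.closeT (p := (v3 C)) (pu := [15, 46, 59, 81, 105, 124])
    (C.pT (f9629 C)
    (C.pH [12, 35, 50, 83] [26, 47, 68, 75, 105, 123] (by decide +kernel) (C.pNil _ _)))
    (C.pH [12, 35, 50, 83] [17, 29, 55, 99, 109, 111] (by decide +kernel)
    (C.pT (f9633 C)
    (C.pH [12, 35, 50, 83] [15, 46, 59, 81, 105, 124] (by decide +kernel) (C.pNil _ _))))
    (C.loop_of_one (relLoop0 C) _ _)

theorem f9635 : C.T (v18 C) [9, 40, 66, 78, 95, 111] (v18 C) [26, 47, 68, 75, 105, 123] :=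
  C.flip (f9634 C)

theorem f9636 : C.T (v3 C) [25, 27, 60, 86, 98, 112] (v18 C) [17, 30, 62, 82, 91, 116] :=
  C.conv (f6916 C) (f7402 C) (f7402 C) _ [131, 157, 167, 175, 178] _ (by decide +kernel) (by decide +kernel) (by decide +kernel)

theorem f9637 : C.S (v3 C) [9, 29, 68, 75, 108, 110, 124] :=
  C.stMul (f335 C) (f328 C) _ (by decide +kernel)

theorem f9638 : C.S (v3 C) [13, 45, 62, 78, 97, 110, 120] :=
  C.stMul (f328 C) (f9637 C) _ (by decide +kernel)

theorem f9639 : C.S (v3 C) [8, 44, 66, 72, 107, 109, 116] :=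
  C.stMul (f331 C) (f9638 C) _ (by decide +kernel)

theorem f9640 : C.S (v3 C) [15, 28, 70, 106, 118] :=
  C.stMul (f353 C) (f9639 C) _ (by decide +kernel)

theorem f9641 : C.S (v3 C) [18, 35, 57, 82, 93, 110, 115] :=
  C.stMul (f353 C) (f331 C) _ (by decide +kernel)

theorem f9642 : C.S (v3 C) [6, 45, 53, 79, 94, 110, 115] :=
  C.stMul (f335 C) (f9641 C) _ (by decide +kernel)

theorem f9643 : C.S (v3 C) [26, 34, 52, 84, 93, 110, 125] :=
  C.stMul (f331 C) (f9642 C) _ (by decide +kernel)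

theorem f9644 : C.T (v3 C) [17, 39, 56, 76, 92, 110, 118] (v18 C) [26, 44, 51, 74, 103, 109, 114] :=
  C.conv (f9432 C) (f9640 C) (f9643 C) _ [134, 155] _ (by decide +kernel) (by decide +kernel) (by decide +kernel)

theorem f9645 : C.T (v18 C) [26, 44, 51, 74, 103, 109, 114] (v3 C) [17, 39, 56, 76, 92, 110, 118] :=
  C.flip (f9644 C)

theorem f9646 : C.T (v18 C) [25, 29, 68, 70, 100, 110, 116] (v18 C) [13, 28, 57, 89, 108, 110, 111] :=
  C.closeT (p := (v3 C)) (pu := [25, 27, 60, 86, 98, 112])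
    (C.pT (f9636 C)
    (C.pH [12, 35, 50, 83] [25, 29, 68, 70, 100, 110, 116] (by decide +kernel) (C.pNil _ _)))
    (C.pH [12, 35, 50, 83] [26, 44, 51, 74, 103, 109, 114] (by decide +kernel)
    (C.pT (f9645 C)
    (C.pH [12, 35, 50, 83] [25, 27, 60, 86, 98, 112] (by decide +kernel) (C.pNil _ _))))
    (C.loop_of_one (relLoop0 C) _ _)

theorem f9647 : C.T (v18 C) [13, 28, 57, 89, 108, 110, 111] (v18 C) [25, 29, 68, 70, 100, 110, 116] :=
  C.flip (f9646 C)

theorem f9648 : C.T (v3 C) [4, 37, 64, 74, 92, 125] (v18 C) [22, 34, 55, 83, 92, 114] :=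
  C.conv (f6916 C) (f7402 C) (f7402 C) _ [146, 149, 169, 176] _ (by decide +kernel) (by decide +kernel) (by decide +kernel)

theorem f9649 : C.S (v3 C) [20, 42, 68, 89, 99] :=
  C.stMul (f335 C) (f353 C) _ (by decide +kernel)

theorem f9650 : C.S (v3 C) [18, 33, 63, 86, 90, 124] :=
  C.stMul (f331 C) (f9649 C) _ (by decide +kernel)

theorem f9651 : C.S (v3 C) [18, 44, 62, 72, 95, 109, 113] :=
  C.stMul (f328 C) (f9650 C) _ (by decide +kernel)

theorem f9652 : C.T (v3 C) [26, 39, 58, 84, 110, 122] (v18 C) [22, 46, 57, 88, 95, 109, 120] :=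
  C.conv (f6902 C) (f7285 C) (f9651 C) _ [127, 153, 170, 177] _ (by decide +kernel) (by decide +kernel) (by decide +kernel)

theorem f9653 : C.T (v18 C) [22, 46, 57, 88, 95, 109, 120] (v3 C) [26, 39, 58, 84, 110, 122] :=
  C.flip (f9652 C)

theorem f9654 : C.T (v18 C) [11, 40, 66, 74, 107] (v18 C) [20, 44, 57, 88, 95, 109, 120] :=
  C.closeT (p := (v3 C)) (pu := [4, 37, 64, 74, 92, 125])
    (C.pT (f9648 C)
    (C.pH [12, 35, 50, 83] [11, 40, 66, 74, 107] (by decide +kernel) (C.pNil _ _)))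
    (C.pH [12, 35, 50, 83] [22, 46, 57, 88, 95, 109, 120] (by decide +kernel)
    (C.pT (f9653 C)
    (C.pH [12, 35, 50, 83] [4, 37, 64, 74, 92, 125] (by decide +kernel) (C.pNil _ _))))
    (C.loop_of_one (relLoop0 C) _ _)

theorem f9655 : C.T (v18 C) [20, 44, 57, 88, 95, 109, 120] (v18 C) [11, 40, 66, 74, 107] :=
  C.flip (f9654 C)

theorem f9656 : C.T (v3 C) [19, 56, 79, 100, 110, 115] (v18 C) [7, 40, 52, 75, 92, 116] :=
  C.conv (f6916 C) (f7402 C) (f7402 C) _ [130, 158, 168, 171, 177] _ (by decide +kernel) (by decide +kernel) (by decide +kernel)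

theorem f9657 : C.S (v3 C) [23, 35, 58, 78, 94, 110, 123] :=
  C.stMul (f328 C) (f7560 C) _ (by decide +kernel)

theorem f9658 : C.T (v3 C) [6, 27, 63, 78, 93, 110, 125] (v18 C) [16, 33, 58, 88, 100, 109, 120] :=
  C.conv (f6888 C) (f7333 C) (f9657 C) _ [136, 162, 165, 171, 178] _ (by decide +kernel) (by decide +kernel) (by decide +kernel)

theorem f9659 : C.T (v18 C) [16, 33, 58, 88, 100, 109, 120] (v3 C) [6, 27, 63, 78, 93, 110, 125] :=
  C.flip (f9658 C)

theorem f9660 : C.T (v18 C) [7, 30, 66, 82, 93, 122] (v18 C) [16, 42, 68, 80, 99, 125] :=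
  C.closeT (p := (v3 C)) (pu := [19, 56, 79, 100, 110, 115])
    (C.pT (f9656 C)
    (C.pH [12, 35, 50, 83] [7, 30, 66, 82, 93, 122] (by decide +kernel) (C.pNil _ _)))
    (C.pH [12, 35, 50, 83] [16, 33, 58, 88, 100, 109, 120] (by decide +kernel)
    (C.pT (f9659 C)
    (C.pH [12, 35, 50, 83] [19, 56, 79, 100, 110, 115] (by decide +kernel) (C.pNil _ _))))
    (C.loop_of_one (relLoop0 C) _ _)

theorem f9661 : C.T (v18 C) [16, 42, 68, 80, 99, 125] (v18 C) [7, 30, 66, 82, 93, 122] :=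
  C.flip (f9660 C)

theorem f9662 : C.T (v3 C) [8, 46, 69, 78, 104, 110, 115] (v18 C) [11, 34, 57, 70, 108, 110, 112] :=
  C.conv (f6916 C) (f7402 C) (f7402 C) _ [137, 154, 170, 172] _ (by decide +kernel) (by decide +kernel) (by decide +kernel)

theorem f9663 : C.T (v3 C) [21, 48, 58, 75, 105, 125] (v18 C) [4, 35, 55, 77, 102, 110, 115] :=
  C.conv (f8216 C) (f8435 C) (f8434 C) _ [146, 153, 169, 177] _ (by decide +kernel) (by decide +kernel) (by decide +kernel)

theorem f9664 : C.T (v18 C) [4, 35, 55, 77, 102, 110, 115] (v3 C) [21, 48, 58, 75, 105, 125] :=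
  C.flip (f9663 C)

theorem f9665 : C.T (v18 C) [20, 48, 69, 85, 91, 116] (v18 C) [26, 37, 57, 71, 105, 110] :=
  C.closeT (p := (v3 C)) (pu := [8, 46, 69, 78, 104, 110, 115])
    (C.pT (f9662 C)
    (C.pH [12, 35, 50, 83] [20, 48, 69, 85, 91, 116] (by decide +kernel) (C.pNil _ _)))
    (C.pH [12, 35, 50, 83] [4, 35, 55, 77, 102, 110, 115] (by decide +kernel)
    (C.pT (f9664 C)
    (C.pH [12, 35, 50, 83] [8, 46, 69, 78, 104, 110, 115] (by decide +kernel) (C.pNil _ _))))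
    (C.loop_of_one (relLoop0 C) _ _)

theorem f9666 : C.T (v18 C) [26, 37, 57, 71, 105, 110] (v18 C) [20, 48, 69, 85, 91, 116] :=
  C.flip (f9665 C)

theorem f9667 : C.T (v3 C) [4, 39, 53, 88, 108, 109, 125] (v18 C) [8, 34, 68, 71, 94, 109, 125] :=
  C.conv (f6916 C) (f7402 C) (f7402 C) _ [131, 157, 176] _ (by decide +kernel) (by decide +kernel) (by decide +kernel)

theorem f9668 : C.S (v3 C) [19, 30, 60, 72, 107, 110, 116] :=
  C.stMul (f331 C) (f335 C) _ (by decide +kernel)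

theorem f9669 : C.S (v3 C) [19, 31, 52, 79, 98, 122] :=
  C.stMul (f328 C) (f9668 C) _ (by decide +kernel)

theorem f9670 : C.T (v3 C) [26, 32, 61, 85, 96, 110, 111] (v18 C) [13, 30, 56, 79, 94, 109, 120] :=
  C.conv (f9184 C) (f9232 C) (f9669 C) _ [143, 162, 169, 176] _ (by decide +kernel) (by decide +kernel) (by decide +kernel)

theorem f9671 : C.T (v18 C) [13, 30, 56, 79, 94, 109, 120] (v3 C) [26, 32, 61, 85, 96, 110, 111] :=
  C.flip (f9670 C)

theorem f9672 : C.T (v18 C) [10, 47, 56, 81, 92, 109, 117] (v18 C) [4, 43, 62, 84, 101] :=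
  C.closeT (p := (v3 C)) (pu := [4, 39, 53, 88, 108, 109, 125])
    (C.pT (f9667 C)
    (C.pH [12, 35, 50, 83] [10, 47, 56, 81, 92, 109, 117] (by decide +kernel) (C.pNil _ _)))
    (C.pH [12, 35, 50, 83] [13, 30, 56, 79, 94, 109, 120] (by decide +kernel)
    (C.pT (f9671 C)
    (C.pH [12, 35, 50, 83] [4, 39, 53, 88, 108, 109, 125] (by decide +kernel) (C.pNil _ _))))
    (C.loop_of_one (relLoop0 C) _ _)

theorem f9673 : C.T (v18 C) [4, 43, 62, 84, 101] (v18 C) [10, 47, 56, 81, 92, 109, 117] :=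
  C.flip (f9672 C)

theorem f9674 : C.T (v3 C) [26, 42, 56, 79, 100, 109, 117] (v18 C) [13, 37, 51, 87, 108, 110] :=
  C.conv (f7327 C) (f7806 C) (f7806 C) _ [127, 153, 165] _ (by decide +kernel) (by decide +kernel) (by decide +kernel)

theorem f9675 : C.T (v3 C) [13, 36, 58, 86, 115] (v18 C) [18, 35, 52, 86, 100, 110, 123] :=
  C.conv (f9221 C) (f9279 C) (f9469 C) _ [126, 163, 166, 171] _ (by decide +kernel) (by decide +kernel) (by decide +kernel)

theorem f9676 : C.T (v18 C) [18, 35, 52, 86, 100, 110, 123] (v3 C) [13, 36, 58, 86, 115] :=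
  C.flip (f9675 C)

theorem f9677 : C.T (v18 C) [26, 37, 53, 77, 92, 114] (v18 C) [18, 29, 62, 82, 98, 109, 119] :=
  C.closeT (p := (v3 C)) (pu := [26, 42, 56, 79, 100, 109, 117])
    (C.pT (f9674 C)
    (C.pH [12, 35, 50, 83] [26, 37, 53, 77, 92, 114] (by decide +kernel) (C.pNil _ _)))
    (C.pH [12, 35, 50, 83] [18, 35, 52, 86, 100, 110, 123] (by decide +kernel)
    (C.pT (f9676 C)
    (C.pH [12, 35, 50, 83] [26, 42, 56, 79, 100, 109, 117] (by decide +kernel) (C.pNil _ _))))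
    (C.loop_of_one (relLoop0 C) _ _)

theorem f9678 : C.T (v18 C) [18, 29, 62, 82, 98, 109, 119] (v18 C) [26, 37, 53, 77, 92, 114] :=
  C.flip (f9677 C)

theorem f9679 : C.T (v3 C) [23, 43, 50, 85, 105, 125] (v18 C) [16, 48, 53, 75, 103, 109, 118] :=
  C.conv (f7327 C) (f7806 C) (f7806 C) _ [140, 157, 165, 174, 177] _ (by decide +kernel) (by decide +kernel) (by decide +kernel)

theorem f9680 : C.T (v3 C) [12, 43, 52, 72, 91, 122] (v15 C) [6, 30, 59, 75, 104, 115] :=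
  C.conv (f3166 C) (f3236 C) (f9499 C) _ [142, 155, 166, 175, 177] _ (by decide +kernel) (by decide +kernel) (by decide +kernel)

theorem f9681 : C.T (v15 C) [6, 30, 59, 75, 104, 115] (v3 C) [12, 43, 52, 72, 91, 122] :=
  C.flip (f9680 C)

theorem f9682 : C.T (v18 C) [16, 29, 66, 84, 96, 110, 118] (v15 C) [24, 42, 60, 72, 108, 109, 114] :=
  C.closeT (p := (v3 C)) (pu := [23, 43, 50, 85, 105, 125])
    (C.pT (f9679 C)
    (C.pH [12, 35, 50, 83] [16, 29, 66, 84, 96, 110, 118] (by decide +kernel) (C.pNil _ _)))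
    (C.pH [12, 35, 50, 83] [6, 30, 59, 75, 104, 115] (by decide +kernel)
    (C.pT (f9681 C)
    (C.pH [12, 35, 50, 83] [23, 43, 50, 85, 105, 125] (by decide +kernel) (C.pNil _ _))))
    (C.loop_of_one (relLoop0 C) _ _)

theorem f9683 : C.T (v15 C) [24, 42, 60, 72, 108, 109, 114] (v18 C) [16, 29, 66, 84, 96, 110, 118] :=
  C.flip (f9682 C)

theorem f9684 : C.T (v3 C) [8, 60, 87, 101, 110, 113] (v18 C) [24, 38, 69, 73, 92, 110] :=
  C.conv (f7327 C) (f7806 C) (f7806 C) _ [141, 159, 165, 175, 178] _ (by decide +kernel) (by decide +kernel) (by decide +kernel)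

theorem f9685 : C.S (v3 C) [4, 67, 86, 105, 116] :=
  C.stMul (f335 C) (f8177 C) _ (by decide +kernel)

theorem f9686 : C.S (v3 C) [17, 42, 51, 85, 96, 109, 120] :=
  C.stMul (f331 C) (f9685 C) _ (by decide +kernel)

theorem f9687 : C.T (v3 C) [21, 47, 65, 83, 94, 110, 118] (v17 C) [18, 35, 62, 73, 106, 109, 113] :=
  C.conv (f6822 C) (f7297 C) (f9686 C) _ [144, 160, 167, 172, 178] _ (by decide +kernel) (by decide +kernel) (by decide +kernel)

theorem f9688 : C.T (v17 C) [18, 35, 62, 73, 106, 109, 113] (v3 C) [21, 47, 65, 83, 94, 110, 118] :=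
  C.flip (f9687 C)

theorem f9689 : C.T (v18 C) [6, 47, 53, 87, 90, 110, 119] (v17 C) [18, 29, 54, 79, 96, 109, 114] :=
  C.closeT (p := (v3 C)) (pu := [8, 60, 87, 101, 110, 113])
    (C.pT (f9684 C)
    (C.pH [12, 35, 50, 83] [6, 47, 53, 87, 90, 110, 119] (by decide +kernel) (C.pNil _ _)))
    (C.pH [12, 35, 50, 83] [18, 35, 62, 73, 106, 109, 113] (by decide +kernel)
    (C.pT (f9688 C)
    (C.pH [12, 35, 50, 83] [8, 60, 87, 101, 110, 113] (by decide +kernel) (C.pNil _ _))))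
    (C.loop_of_one (relLoop0 C) _ _)

theorem f9690 : C.T (v17 C) [18, 29, 54, 79, 96, 109, 114] (v18 C) [6, 47, 53, 87, 90, 110, 119] :=
  C.flip (f9689 C)

theorem f9691 : C.T (v3 C) [21, 35, 68, 75, 106, 114] (v18 C) [20, 34, 69, 85, 95, 110, 115] :=
  C.conv (f7327 C) (f7806 C) (f7806 C) _ [135, 149, 165, 175] _ (by decide +kernel) (by decide +kernel) (by decide +kernel)

theorem f9692 : C.T (v3 C) [10, 38, 55, 73, 92, 109, 116] (v18 C) [26, 34, 51, 81, 107, 109, 117] :=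
  C.conv (f8216 C) (f8435 C) (f9449 C) _ [141, 166, 173, 177] _ (by decide +kernel) (by decide +kernel) (by decide +kernel)

theorem f9693 : C.T (v18 C) [26, 34, 51, 81, 107, 109, 117] (v3 C) [10, 38, 55, 73, 92, 109, 116] :=
  C.flip (f9692 C)

theorem f9694 : C.T (v18 C) [22, 38, 53, 85, 99, 110, 124] (v18 C) [13, 45, 50, 78, 96, 109, 119] :=
  C.closeT (p := (v3 C)) (pu := [21, 35, 68, 75, 106, 114])
    (C.pT (f9691 C)
    (C.pH [12, 35, 50, 83] [22, 38, 53, 85, 99, 110, 124] (by decide +kernel) (C.pNil _ _)))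
    (C.pH [12, 35, 50, 83] [26, 34, 51, 81, 107, 109, 117] (by decide +kernel)
    (C.pT (f9693 C)
    (C.pH [12, 35, 50, 83] [21, 35, 68, 75, 106, 114] (by decide +kernel) (C.pNil _ _))))
    (C.loop_of_one (relLoop0 C) _ _)

theorem f9695 : C.T (v18 C) [13, 45, 50, 78, 96, 109, 119] (v18 C) [22, 38, 53, 85, 99, 110, 124] :=
  C.flip (f9694 C)

theorem f9696 : C.T (v3 C) [9, 53, 82, 104, 112] (v18 C) [15, 28, 59, 80, 95, 110, 124] :=
  C.conv (f7327 C) (f7806 C) (f7806 C) _ [126, 151, 171] _ (by decide +kernel) (by decide +kernel) (by decide +kernel)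

theorem f9697 : C.S (v3 C) [22, 29, 89, 96, 109, 125] :=
  C.stMul (f328 C) (f331 C) _ (by decide +kernel)

theorem f9698 : C.S (v3 C) [4, 67, 86, 105, 116] :=
  C.stMul (f335 C) (f9697 C) _ (by decide +kernel)

theorem f9699 : C.S (v3 C) [17, 42, 51, 85, 96, 109, 120] :=
  C.stMul (f331 C) (f9698 C) _ (by decide +kernel)

theorem f9700 : C.T (v3 C) [25, 44, 56, 71, 98, 109, 125] (v18 C) [19, 66, 73, 100, 110, 119] :=
  C.conv (f9432 C) (f9640 C) (f9699 C) _ [135, 163, 169, 175, 177] _ (by decide +kernel) (by decide +kernel) (by decide +kernel)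

theorem f9701 : C.T (v18 C) [19, 66, 73, 100, 110, 119] (v3 C) [25, 44, 56, 71, 98, 109, 125] :=
  C.flip (f9700 C)

theorem f9702 : C.T (v18 C) [15, 40, 58, 83, 100, 109, 122] (v18 C) [6, 27, 52, 87, 104, 109, 112] :=
  C.closeT (p := (v3 C)) (pu := [9, 53, 82, 104, 112])
    (C.pT (f9696 C)
    (C.pH [12, 35, 50, 83] [15, 40, 58, 83, 100, 109, 122] (by decide +kernel) (C.pNil _ _)))
    (C.pH [12, 35, 50, 83] [19, 66, 73, 100, 110, 119] (by decide +kernel)
    (C.pT (f9701 C)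
    (C.pH [12, 35, 50, 83] [9, 53, 82, 104, 112] (by decide +kernel) (C.pNil _ _))))
    (C.loop_of_one (relLoop0 C) _ _)

theorem f9703 : C.T (v18 C) [6, 27, 52, 87, 104, 109, 112] (v18 C) [15, 40, 58, 83, 100, 109, 122] :=
  C.flip (f9702 C)

theorem f9704 : C.T (v3 C) [25, 38, 62, 89, 104, 110, 111] (v18 C) [23, 39, 86, 101, 119] :=
  C.conv (f7327 C) (f7806 C) (f7806 C) _ [132, 156, 169, 171, 177] _ (by decide +kernel) (by decide +kernel) (by decide +kernel)

theorem f9705 : C.S (v3 C) [4, 35, 66, 84, 105, 109, 115] :=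
  C.stMul (f335 C) (f331 C) _ (by decide +kernel)

theorem f9706 : C.S (v3 C) [12, 47, 57, 74, 97, 110] :=
  C.stMul (f335 C) (f9705 C) _ (by decide +kernel)

theorem f9707 : C.S (v3 C) [25, 41, 58, 92, 119] :=
  C.stMul (f335 C) (f9706 C) _ (by decide +kernel)

theorem f9708 : C.S (v3 C) [17, 41, 68, 88, 104, 109, 115] :=
  C.stMul (f353 C) (f9707 C) _ (by decide +kernel)

theorem f9709 : C.T (v3 C) [17, 36, 51, 85, 97, 109, 120] (v18 C) [12, 28, 52, 88, 107, 120] :=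
  C.conv (f9221 C) (f9279 C) (f9708 C) _ [147, 159, 166, 174, 177] _ (by decide +kernel) (by decide +kernel) (by decide +kernel)

theorem f9710 : C.T (v18 C) [12, 28, 52, 88, 107, 120] (v3 C) [17, 36, 51, 85, 97, 109, 120] :=
  C.flip (f9709 C)

theorem f9711 : C.T (v18 C) [28, 69, 73, 106, 109, 118] (v18 C) [46, 67, 89, 109, 111] :=
  C.closeT (p := (v3 C)) (pu := [25, 38, 62, 89, 104, 110, 111])
    (C.pT (f9704 C)
    (C.pH [12, 35, 50, 83] [28, 69, 73, 106, 109, 118] (by decide +kernel) (C.pNil _ _)))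
    (C.pH [12, 35, 50, 83] [12, 28, 52, 88, 107, 120] (by decide +kernel)
    (C.pT (f9710 C)
    (C.pH [12, 35, 50, 83] [25, 38, 62, 89, 104, 110, 111] (by decide +kernel) (C.pNil _ _))))
    (C.loop_of_one (relLoop0 C) _ _)

theorem f9712 : C.T (v18 C) [46, 67, 89, 109, 111] (v18 C) [28, 69, 73, 106, 109, 118] :=
  C.flip (f9711 C)

theorem f9713 : C.T (v3 C) [12, 40, 62, 76, 107, 110, 117] (v18 C) [17, 32, 68, 74, 103, 109, 111] :=
  C.conv (f7327 C) (f7806 C) (f7806 C) _ [142, 149, 168] _ (by decide +kernel) (by decide +kernel) (by decide +kernel)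

theorem f9714 : C.S (v3 C) [11, 33, 69, 85, 97, 109, 117] :=
  C.stMul (f335 C) (f8375 C) _ (by decide +kernel)

theorem f9715 : C.T (v3 C) [41, 59, 70, 104, 110, 124] (v18 C) [13, 48, 57, 87, 100, 110, 117] :=
  C.conv (f7327 C) (f7806 C) (f9714 C) _ [133, 156, 168, 174] _ (by decide +kernel) (by decide +kernel) (by decide +kernel)

theorem f9716 : C.T (v18 C) [13, 48, 57, 87, 100, 110, 117] (v3 C) [41, 59, 70, 104, 110, 124] :=
  C.flip (f9715 C)

theorem f9717 : C.T (v18 C) [25, 47, 69, 84, 118] (v18 C) [4, 48, 54, 86, 96, 125] :=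
  C.closeT (p := (v3 C)) (pu := [12, 40, 62, 76, 107, 110, 117])
    (C.pT (f9713 C)
    (C.pH [12, 35, 50, 83] [25, 47, 69, 84, 118] (by decide +kernel) (C.pNil _ _)))
    (C.pH [12, 35, 50, 83] [13, 48, 57, 87, 100, 110, 117] (by decide +kernel)
    (C.pT (f9716 C)
    (C.pH [12, 35, 50, 83] [12, 40, 62, 76, 107, 110, 117] (by decide +kernel) (C.pNil _ _))))
    (C.loop_of_one (relLoop0 C) _ _)

theorem f9720 : C.T (v3 C) [13, 33, 52, 78, 107, 114] (v18 C) [23, 43, 69, 80, 91, 109, 124] :=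
  C.conv (f7327 C) (f7806 C) (f7806 C) _ [128, 150, 167, 173] _ (by decide +kernel) (by decide +kernel) (by decide +kernel)

theorem f9721 : C.T (v3 C) [4, 33, 57, 75, 95, 110, 121] (v18 C) [17, 28, 63, 86, 109, 113] :=
  C.conv (f8223 C) (f8361 C) (f328 C) _ [133, 154, 167, 174] _ (by decide +kernel) (by decide +kernel) (by decide +kernel)

theorem f9722 : C.T (v18 C) [17, 28, 63, 86, 109, 113] (v3 C) [4, 33, 57, 75, 95, 110, 121] :=
  C.flip (f9721 C)

theorem f9723 : C.T (v18 C) [43, 52, 74, 91, 109, 120] (v18 C) [9, 34, 51, 84, 104, 110, 125] :=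
  C.closeT (p := (v3 C)) (pu := [13, 33, 52, 78, 107, 114])
    (C.pT (f9720 C)
    (C.pH [12, 35, 50, 83] [43, 52, 74, 91, 109, 120] (by decide +kernel) (C.pNil _ _)))
    (C.pH [12, 35, 50, 83] [17, 28, 63, 86, 109, 113] (by decide +kernel)
    (C.pT (f9722 C)
    (C.pH [12, 35, 50, 83] [13, 33, 52, 78, 107, 114] (by decide +kernel) (C.pNil _ _))))
    (C.loop_of_one (relLoop0 C) _ _)

theorem f9724 : C.T (v18 C) [9, 34, 51, 84, 104, 110, 125] (v18 C) [43, 52, 74, 91, 109, 120] :=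
  C.flip (f9723 C)

theorem f9725 : C.T (v3 C) [16, 37, 68, 93, 109, 115] (v18 C) [20, 35, 62, 83, 95, 110, 113] :=
  C.conv (f7327 C) (f7806 C) (f7806 C) _ [139, 159, 164] _ (by decide +kernel) (by decide +kernel) (by decide +kernel)

theorem f9726 : C.S (v3 C) [23, 29, 57, 87, 91, 110, 120] :=
  C.stMul (f331 C) (f328 C) _ (by decide +kernel)

theorem f9727 : C.S (v3 C) [7, 39, 56, 89, 103, 119] :=
  C.stMul (f331 C) (f9726 C) _ (by decide +kernel)

theorem f9728 : C.T (v3 C) [16, 47, 69, 85, 91, 109, 123] (v18 C) [21, 33, 58, 81, 99, 121] :=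
  C.conv (f8165 C) (f8200 C) (f9727 C) _ [144, 157, 164, 173, 177] _ (by decide +kernel) (by decide +kernel) (by decide +kernel)

theorem f9729 : C.T (v18 C) [21, 33, 58, 81, 99, 121] (v3 C) [16, 47, 69, 85, 91, 109, 123] :=
  C.flip (f9728 C)

theorem f9730 : C.T (v18 C) [22, 48, 54, 85, 95, 110, 119] (v18 C) [10, 30, 61, 107, 109, 120] :=
  C.closeT (p := (v3 C)) (pu := [16, 37, 68, 93, 109, 115])
    (C.pT (f9725 C)
    (C.pH [12, 35, 50, 83] [22, 48, 54, 85, 95, 110, 119] (by decide +kernel) (C.pNil _ _)))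
    (C.pH [12, 35, 50, 83] [21, 33, 58, 81, 99, 121] (by decide +kernel)
    (C.pT (f9729 C)
    (C.pH [12, 35, 50, 83] [16, 37, 68, 93, 109, 115] (by decide +kernel) (C.pNil _ _))))
    (C.loop_of_one (relLoop0 C) _ _)

theorem f9731 : C.T (v18 C) [10, 30, 61, 107, 109, 120] (v18 C) [22, 48, 54, 85, 95, 110, 119] :=
  C.flip (f9730 C)

theorem f9732 : C.T (v3 C) [23, 46, 60, 73, 99, 110, 114] (v18 C) [10, 28, 63, 89, 99, 115] :=
  C.conv (f7327 C) (f7806 C) (f7806 C) _ [129, 156, 168, 176, 177] _ (by decide +kernel) (by decide +kernel) (by decide +kernel)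

theorem f9733 : C.S (v3 C) [21, 39, 65, 74, 103, 110, 122] :=
  C.stMul (f353 C) (f9607 C) _ (by decide +kernel)

theorem f9734 : C.T (v3 C) [12, 28, 61, 77, 100, 123] (v18 C) [10, 27, 61, 79, 92, 109, 117] :=
  C.conv (f6916 C) (f7402 C) (f9733 C) _ [158, 166, 177] _ (by decide +kernel) (by decide +kernel) (by decide +kernel)

theorem f9735 : C.T (v18 C) [10, 27, 61, 79, 92, 109, 117] (v3 C) [12, 28, 61, 77, 100, 123] :=
  C.flip (f9734 C)

theorem f9736 : C.T (v18 C) [21, 30, 51, 72, 110] (v18 C) [8, 48, 53, 89, 93, 110, 114] :=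
  C.closeT (p := (v3 C)) (pu := [23, 46, 60, 73, 99, 110, 114])
    (C.pT (f9732 C)
    (C.pH [12, 35, 50, 83] [21, 30, 51, 72, 110] (by decide +kernel) (C.pNil _ _)))
    (C.pH [12, 35, 50, 83] [10, 27, 61, 79, 92, 109, 117] (by decide +kernel)
    (C.pT (f9735 C)
    (C.pH [12, 35, 50, 83] [23, 46, 60, 73, 99, 110, 114] (by decide +kernel) (C.pNil _ _))))
    (C.loop_of_one (relLoop0 C) _ _)

theorem f9737 : C.T (v18 C) [8, 48, 53, 89, 93, 110, 114] (v18 C) [21, 30, 51, 72, 110] :=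
  C.flip (f9736 C)

theorem f9738 : C.T (v3 C) [14, 31, 66, 80, 106, 110, 121] (v18 C) [20, 35, 79, 105, 109, 125] :=
  C.conv (f7327 C) (f7806 C) (f7806 C) _ [141, 153, 169, 175] _ (by decide +kernel) (by decide +kernel) (by decide +kernel)

theorem f9739 : C.S (v3 C) [11, 28, 50, 85, 94, 124] :=
  C.stMul (f353 C) (f9637 C) _ (by decide +kernel)

theorem f9740 : C.S (v3 C) [23, 36, 66, 83, 90, 109, 121] :=
  C.stMul (f331 C) (f9739 C) _ (by decide +kernel)

theorem f9741 : C.S (v3 C) [23, 34, 61, 84, 123] :=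
  C.stMul (f328 C) (f9740 C) _ (by decide +kernel)

theorem f9742 : C.T (v3 C) [14, 46, 50, 78, 92, 118] (v18 C) [15, 33, 52, 77, 94, 110, 114] :=
  C.conv (f9432 C) (f9640 C) (f9741 C) _ [146, 156, 164, 173, 177] _ (by decide +kernel) (by decide +kernel) (by decide +kernel)

theorem f9743 : C.T (v18 C) [15, 33, 52, 77, 94, 110, 114] (v3 C) [14, 46, 50, 78, 92, 118] :=
  C.flip (f9742 C)

theorem f9744 : C.T (v18 C) [22, 48, 55, 81, 103, 109] (v18 C) [15, 40, 61, 70, 105, 110, 119] :=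
  C.closeT (p := (v3 C)) (pu := [14, 31, 66, 80, 106, 110, 121])
    (C.pT (f9738 C)
    (C.pH [12, 35, 50, 83] [22, 48, 55, 81, 103, 109] (by decide +kernel) (C.pNil _ _)))
    (C.pH [12, 35, 50, 83] [15, 33, 52, 77, 94, 110, 114] (by decide +kernel)
    (C.pT (f9743 C)
    (C.pH [12, 35, 50, 83] [14, 31, 66, 80, 106, 110, 121] (by decide +kernel) (C.pNil _ _))))
    (C.loop_of_one (relLoop0 C) _ _)

theorem f9745 : C.T (v18 C) [15, 40, 61, 70, 105, 110, 119] (v18 C) [22, 48, 55, 81, 103, 109] :=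
  C.flip (f9744 C)

theorem f9746 : C.T (v3 C) [15, 28, 55, 76, 91, 120] (v18 C) [17, 47, 62, 76, 106, 110, 114] :=
  C.conv (f8165 C) (f8200 C) (f8200 C) _ [144, 165, 176, 178] _ (by decide +kernel) (by decide +kernel) (by decide +kernel)

theorem f9747 : C.S (v3 C) [20, 29, 56, 72, 109, 121] :=
  C.stMul (f335 C) (f9404 C) _ (by decide +kernel)

theorem f9748 : C.S (v3 C) [10, 47, 54, 88, 107, 109, 117] :=
  C.stMul (f335 C) (f9747 C) _ (by decide +kernel)

theorem f9749 : C.T (v3 C) [15, 33, 52, 87, 106, 117] (v18 C) [23, 29, 64, 81, 107, 109, 122] :=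
  C.conv (f9221 C) (f9279 C) (f9748 C) _ [137, 156, 167, 177] _ (by decide +kernel) (by decide +kernel) (by decide +kernel)

theorem f9750 : C.T (v18 C) [23, 29, 64, 81, 107, 109, 122] (v3 C) [15, 33, 52, 87, 106, 117] :=
  C.flip (f9749 C)

theorem f9751 : C.T (v18 C) [25, 30, 60, 77, 94, 114] (v18 C) [12, 35, 65, 74, 96, 109, 121] :=
  C.closeT (p := (v3 C)) (pu := [15, 28, 55, 76, 91, 120])
    (C.pT (f9746 C)
    (C.pH [12, 35, 50, 83] [25, 30, 60, 77, 94, 114] (by decide +kernel) (C.pNil _ _)))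
    (C.pH [12, 35, 50, 83] [23, 29, 64, 81, 107, 109, 122] (by decide +kernel)
    (C.pT (f9750 C)
    (C.pH [12, 35, 50, 83] [15, 28, 55, 76, 91, 120] (by decide +kernel) (C.pNil _ _))))
    (C.loop_of_one (relLoop0 C) _ _)

theorem f9752 : C.T (v18 C) [12, 35, 65, 74, 96, 109, 121] (v18 C) [25, 30, 60, 77, 94, 114] :=
  C.flip (f9751 C)

theorem f9753 : C.T (v3 C) [25, 28, 68, 99, 109, 116] (v18 C) [10, 37, 59, 89, 121] :=
  C.conv (f8165 C) (f8200 C) (f8200 C) _ [140, 159, 165, 177] _ (by decide +kernel) (by decide +kernel) (by decide +kernel)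

theorem f9754 : C.S (v3 C) [22, 29, 89, 96, 109, 125] :=
  C.stMul (f328 C) (f331 C) _ (by decide +kernel)

theorem f9755 : C.T (v3 C) [17, 42, 68, 99, 109, 116] (v17 C) [20, 37, 61, 74, 103, 109, 123] :=
  C.conv (f6808 C) (f9290 C) (f9754 C) _ [130, 152, 167, 176] _ (by decide +kernel) (by decide +kernel) (by decide +kernel)

theorem f9756 : C.T (v17 C) [20, 37, 61, 74, 103, 109, 123] (v3 C) [17, 42, 68, 99, 109, 116] :=
  C.flip (f9755 C)

theorem f9757 : C.T (v18 C) [21, 34, 59, 80, 99, 123] (v17 C) [11, 35, 52, 82, 97, 109, 112] :=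
  C.closeT (p := (v3 C)) (pu := [25, 28, 68, 99, 109, 116])
    (C.pT (f9753 C)
    (C.pH [12, 35, 50, 83] [21, 34, 59, 80, 99, 123] (by decide +kernel) (C.pNil _ _)))
    (C.pH [12, 35, 50, 83] [20, 37, 61, 74, 103, 109, 123] (by decide +kernel)
    (C.pT (f9756 C)
    (C.pH [12, 35, 50, 83] [25, 28, 68, 99, 109, 116] (by decide +kernel) (C.pNil _ _))))
    (C.loop_of_one (relLoop0 C) _ _)

theorem f9758 : C.T (v17 C) [11, 35, 52, 82, 97, 109, 112] (v18 C) [21, 34, 59, 80, 99, 123] :=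
  C.flip (f9757 C)

theorem f9759 : C.T (v3 C) [23, 35, 57, 88, 90, 123] (v18 C) [12, 36, 58, 70, 104, 110, 115] :=
  C.conv (f8165 C) (f8200 C) (f8200 C) _ [143, 162, 177] _ (by decide +kernel) (by decide +kernel) (by decide +kernel)

theorem f9760 : C.S (v3 C) [9, 29, 68, 75, 108, 110, 124] :=
  C.stMul (f335 C) (f328 C) _ (by decide +kernel)

theorem f9761 : C.S (v3 C) [20, 29, 56, 72, 109, 121] :=
  C.stMul (f335 C) (f9760 C) _ (by decide +kernel)

theorem f9762 : C.S (v3 C) [10, 47, 54, 88, 107, 109, 117] :=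
  C.stMul (f335 C) (f9761 C) _ (by decide +kernel)

theorem f9763 : C.T (v3 C) [12, 47, 50, 89, 93, 109] (v17 C) [23, 47, 62, 76, 97, 112] :=
  C.conv (f6822 C) (f7297 C) (f9762 C) _ [144, 162, 165, 175] _ (by decide +kernel) (by decide +kernel) (by decide +kernel)

theorem f9764 : C.T (v17 C) [23, 47, 62, 76, 97, 112] (v3 C) [12, 47, 50, 89, 93, 109] :=
  C.flip (f9763 C)

theorem f9765 : C.T (v18 C) [23, 40, 57, 80, 98, 117] (v17 C) [12, 45, 49, 76, 108, 111] :=
  C.closeT (p := (v3 C)) (pu := [23, 35, 57, 88, 90, 123])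
    (C.pT (f9759 C)
    (C.pH [12, 35, 50, 83] [23, 40, 57, 80, 98, 117] (by decide +kernel) (C.pNil _ _)))
    (C.pH [12, 35, 50, 83] [23, 47, 62, 76, 97, 112] (by decide +kernel)
    (C.pT (f9764 C)
    (C.pH [12, 35, 50, 83] [23, 35, 57, 88, 90, 123] (by decide +kernel) (C.pNil _ _))))
    (C.loop_of_one (relLoop0 C) _ _)

theorem f9766 : C.T (v17 C) [12, 45, 49, 76, 108, 111] (v18 C) [23, 40, 57, 80, 98, 117] :=
  C.flip (f9765 C)

theorem f9767 : C.T (v3 C) [18, 31, 56, 70, 92, 110, 117] (v18 C) [19, 36, 62, 71, 98, 110, 121] :=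
  C.conv (f8216 C) (f8435 C) (f8435 C) _ [137, 152, 174] _ (by decide +kernel) (by decide +kernel) (by decide +kernel)

theorem f9768 : C.S (v3 C) [7, 39, 56, 89, 103, 119] :=
  C.stMul (f331 C) (f7807 C) _ (by decide +kernel)

theorem f9769 : C.S (v3 C) [12, 34, 51, 89, 101, 111] :=
  C.stMul (f331 C) (f9768 C) _ (by decide +kernel)

theorem f9770 : C.T (v3 C) [18, 37, 66, 79, 104, 120] (v18 C) [9, 27, 57, 82, 108, 110] :=
  C.conv (f7327 C) (f7806 C) (f9769 C) _ [141, 151, 167] _ (by decide +kernel) (by decide +kernel) (by decide +kernel)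

theorem f9771 : C.T (v18 C) [9, 27, 57, 82, 108, 110] (v3 C) [18, 37, 66, 79, 104, 120] :=
  C.flip (f9770 C)

theorem f9772 : C.T (v18 C) [24, 45, 60, 87, 98, 110, 121] (v18 C) [25, 41, 66, 75, 102, 109, 112] :=
  C.closeT (p := (v3 C)) (pu := [18, 31, 56, 70, 92, 110, 117])
    (C.pT (f9767 C)
    (C.pH [12, 35, 50, 83] [24, 45, 60, 87, 98, 110, 121] (by decide +kernel) (C.pNil _ _)))
    (C.pH [12, 35, 50, 83] [9, 27, 57, 82, 108, 110] (by decide +kernel)
    (C.pT (f9771 C)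
    (C.pH [12, 35, 50, 83] [18, 31, 56, 70, 92, 110, 117] (by decide +kernel) (C.pNil _ _))))
    (C.loop_of_one (relLoop0 C) _ _)

theorem f9773 : C.T (v18 C) [25, 41, 66, 75, 102, 109, 112] (v18 C) [24, 45, 60, 87, 98, 110, 121] :=
  C.flip (f9772 C)

theorem f9774 : C.T (v3 C) [10, 29, 59, 89, 100, 110, 115] (v18 C) [12, 29, 62, 88, 103, 110, 111] :=
  C.conv (f8216 C) (f8435 C) (f8435 C) _ [142, 154, 166, 176] _ (by decide +kernel) (by decide +kernel) (by decide +kernel)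

theorem f9775 : C.S (v3 C) [22, 29, 89, 96, 109, 125] :=
  C.stMul (f328 C) (f331 C) _ (by decide +kernel)

theorem f9776 : C.T (v3 C) [8, 46, 60, 100, 110, 115] (v18 C) [4, 31, 67, 74, 93, 110, 116] :=
  C.conv (f9184 C) (f9232 C) (f9775 C) _ [143, 156, 176, 177] _ (by decide +kernel) (by decide +kernel) (by decide +kernel)

theorem f9777 : C.T (v18 C) [4, 31, 67, 74, 93, 110, 116] (v3 C) [8, 46, 60, 100, 110, 115] :=
  C.flip (f9776 C)

theorem f9778 : C.T (v18 C) [23, 37, 54, 82, 95, 110, 113] (v18 C) [26, 56, 76, 105, 116] :=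
  C.closeT (p := (v3 C)) (pu := [10, 29, 59, 89, 100, 110, 115])
    (C.pT (f9774 C)
    (C.pH [12, 35, 50, 83] [23, 37, 54, 82, 95, 110, 113] (by decide +kernel) (C.pNil _ _)))
    (C.pH [12, 35, 50, 83] [4, 31, 67, 74, 93, 110, 116] (by decide +kernel)
    (C.pT (f9777 C)
    (C.pH [12, 35, 50, 83] [10, 29, 59, 89, 100, 110, 115] (by decide +kernel) (C.pNil _ _))))
    (C.loop_of_one (relLoop0 C) _ _)

theorem f9779 : C.T (v18 C) [26, 56, 76, 105, 116] (v18 C) [23, 37, 54, 82, 95, 110, 113] :=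
  C.flip (f9778 C)

theorem f9780 : C.T (v3 C) [15, 32, 62, 74, 104, 123] (v18 C) [25, 40, 53, 89, 92, 109, 124] :=
  C.conv (f8216 C) (f8435 C) (f8435 C) _ [126, 149, 167, 172, 177] _ (by decide +kernel) (by decide +kernel) (by decide +kernel)

theorem f9781 : C.S (v3 C) [30, 69, 79, 91] :=
  C.stMul (f335 C) (f9442 C) _ (by decide +kernel)

theorem f9782 : C.S (v3 C) [9, 35, 69, 77, 96, 110, 118] :=
  C.stMul (f353 C) (f9781 C) _ (by decide +kernel)

theorem f9783 : C.S (v3 C) [15, 44, 63, 84, 96, 110, 125] :=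
  C.stMul (f331 C) (f9782 C) _ (by decide +kernel)

theorem f9784 : C.T (v3 C) [15, 47, 63, 84, 98, 109, 118] (v18 C) [24, 45, 63, 105, 110, 125] :=
  C.conv (f6888 C) (f7333 C) (f9783 C) _ [143, 159, 169] _ (by decide +kernel) (by decide +kernel) (by decide +kernel)

theorem f9785 : C.T (v18 C) [24, 45, 63, 105, 110, 125] (v3 C) [15, 47, 63, 84, 98, 109, 118] :=
  C.flip (f9784 C)

theorem f9786 : C.T (v18 C) [9, 43, 66, 84, 100] (v18 C) [19, 36, 67, 75, 90, 119] :=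
  C.closeT (p := (v3 C)) (pu := [15, 32, 62, 74, 104, 123])
    (C.pT (f9780 C)
    (C.pH [12, 35, 50, 83] [9, 43, 66, 84, 100] (by decide +kernel) (C.pNil _ _)))
    (C.pH [12, 35, 50, 83] [24, 45, 63, 105, 110, 125] (by decide +kernel)
    (C.pT (f9785 C)
    (C.pH [12, 35, 50, 83] [15, 32, 62, 74, 104, 123] (by decide +kernel) (C.pNil _ _))))
    (C.loop_of_one (relLoop0 C) _ _)

theorem f9787 : C.T (v18 C) [19, 36, 67, 75, 90, 119] (v18 C) [9, 43, 66, 84, 100] :=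
  C.flip (f9786 C)

theorem f9788 : C.T (v3 C) [20, 38, 61, 77, 96, 109, 120] (v18 C) [25, 34, 64, 84, 95, 109, 121] :=
  C.conv (f8216 C) (f8435 C) (f8435 C) _ [143, 156, 175] _ (by decide +kernel) (by decide +kernel) (by decide +kernel)

theorem f9789 : C.S (v3 C) [13, 29, 60, 92, 109, 121] :=
  C.stMul (f353 C) (f328 C) _ (by decide +kernel)

theorem f9790 : C.S (v3 C) [30, 69, 79, 91] :=
  C.stMul (f335 C) (f9789 C) _ (by decide +kernel)

theorem f9791 : C.S (v3 C) [9, 35, 69, 77, 96, 110, 118] :=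
  C.stMul (f353 C) (f9790 C) _ (by decide +kernel)

theorem f9792 : C.T (v3 C) [11, 27, 62, 81, 109, 113] (v18 C) [5, 45, 57, 72, 109, 122] :=
  C.conv (f9432 C) (f9640 C) (f9791 C) _ [146, 149, 167, 175] _ (by decide +kernel) (by decide +kernel) (by decide +kernel)

theorem f9793 : C.T (v18 C) [5, 45, 57, 72, 109, 122] (v3 C) [11, 27, 62, 81, 109, 113] :=
  C.flip (f9792 C)

theorem f9794 : C.T (v18 C) [9, 29, 59, 80, 90, 113] (v18 C) [5, 45, 52, 103, 118] :=
  C.closeT (p := (v3 C)) (pu := [20, 38, 61, 77, 96, 109, 120])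
    (C.pT (f9788 C)
    (C.pH [12, 35, 50, 83] [9, 29, 59, 80, 90, 113] (by decide +kernel) (C.pNil _ _)))
    (C.pH [12, 35, 50, 83] [5, 45, 57, 72, 109, 122] (by decide +kernel)
    (C.pT (f9793 C)
    (C.pH [12, 35, 50, 83] [20, 38, 61, 77, 96, 109, 120] (by decide +kernel) (C.pNil _ _))))
    (C.loop_of_one (relLoop0 C) _ _)

theorem f9795 : C.T (v18 C) [5, 45, 52, 103, 118] (v18 C) [9, 29, 59, 80, 90, 113] :=
  C.flip (f9794 C)

theorem f9796 : C.T (v3 C) [24, 47, 61, 70, 109, 118] (v18 C) [19, 35, 51, 72, 100, 109, 115] :=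
  C.conv (f8216 C) (f8435 C) (f8435 C) _ [136, 152, 165, 174, 178] _ (by decide +kernel) (by decide +kernel) (by decide +kernel)

theorem f9797 : C.S (v3 C) [24, 63, 83, 91, 110, 113] :=
  C.stMul (f353 C) (f9513 C) _ (by decide +kernel)

theorem f9798 : C.S (v3 C) [19, 41, 65, 84, 102, 117] :=
  C.stMul (f331 C) (f9797 C) _ (by decide +kernel)

theorem f9799 : C.T (v3 C) [19, 40, 57, 79, 97, 110, 113] (v18 C) [15, 38, 62, 89, 106, 110, 123] :=
  C.conv (f9221 C) (f9279 C) (f9798 C) _ [156, 170, 177] _ (by decide +kernel) (by decide +kernel) (by decide +kernel)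

theorem f9800 : C.T (v18 C) [15, 38, 62, 89, 106, 110, 123] (v3 C) [19, 40, 57, 79, 97, 110, 113] :=
  C.flip (f9799 C)

theorem f9801 : C.T (v18 C) [24, 32, 81, 103, 109, 116] (v18 C) [15, 38, 65, 84, 104, 109, 125] :=
  C.closeT (p := (v3 C)) (pu := [24, 47, 61, 70, 109, 118])
    (C.pT (f9796 C)
    (C.pH [12, 35, 50, 83] [24, 32, 81, 103, 109, 116] (by decide +kernel) (C.pNil _ _)))
    (C.pH [12, 35, 50, 83] [15, 38, 62, 89, 106, 110, 123] (by decide +kernel)
    (C.pT (f9800 C)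
    (C.pH [12, 35, 50, 83] [24, 47, 61, 70, 109, 118] (by decide +kernel) (C.pNil _ _))))
    (C.loop_of_one (relLoop0 C) _ _)

theorem f9802 : C.T (v18 C) [15, 38, 65, 84, 104, 109, 125] (v18 C) [24, 32, 81, 103, 109, 116] :=
  C.flip (f9801 C)

theorem f9803 : C.T (v3 C) [13, 27, 62, 83, 107, 110, 115] (v18 C) [17, 34, 51, 84, 98, 110, 122] :=
  C.conv (f8216 C) (f8435 C) (f8435 C) _ [137, 151, 164, 177] _ (by decide +kernel) (by decide +kernel) (by decide +kernel)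

theorem f9804 : C.S (v3 C) [23, 35, 58, 78, 94, 110, 123] :=
  C.stMul (f328 C) (f9298 C) _ (by decide +kernel)

theorem f9805 : C.S (v3 C) [12, 28, 65, 85, 98, 110, 116] :=
  C.stMul (f353 C) (f9804 C) _ (by decide +kernel)

theorem f9806 : C.S (v3 C) [11, 43, 53, 80, 104, 110] :=
  C.stMul (f331 C) (f9805 C) _ (by decide +kernel)

theorem f9807 : C.S (v3 C) [13, 46, 69, 87, 104, 109, 118] :=
  C.stMul (f353 C) (f9806 C) _ (by decide +kernel)

theorem f9808 : C.T (v3 C) [4, 32, 66, 72, 99, 109, 125] (v18 C) [17, 43, 63, 79, 96, 121] :=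
  C.conv (f9221 C) (f9279 C) (f9807 C) _ [126, 162, 169, 173, 177] _ (by decide +kernel) (by decide +kernel) (by decide +kernel)

theorem f9809 : C.T (v18 C) [17, 43, 63, 79, 96, 121] (v3 C) [4, 32, 66, 72, 99, 109, 125] :=
  C.flip (f9808 C)

theorem f9810 : C.T (v18 C) [25, 36, 60, 84, 91, 116] (v18 C) [9, 31, 67, 79, 110, 124] :=
  C.closeT (p := (v3 C)) (pu := [13, 27, 62, 83, 107, 110, 115])
    (C.pT (f9803 C)
    (C.pH [12, 35, 50, 83] [25, 36, 60, 84, 91, 116] (by decide +kernel) (C.pNil _ _)))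
    (C.pH [12, 35, 50, 83] [17, 43, 63, 79, 96, 121] (by decide +kernel)
    (C.pT (f9809 C)
    (C.pH [12, 35, 50, 83] [13, 27, 62, 83, 107, 110, 115] (by decide +kernel) (C.pNil _ _))))
    (C.loop_of_one (relLoop0 C) _ _)

theorem f9811 : C.T (v18 C) [9, 31, 67, 79, 110, 124] (v18 C) [25, 36, 60, 84, 91, 116] :=
  C.flip (f9810 C)

theorem f9812 : C.T (v3 C) [7, 33, 52, 79, 104, 109, 119] (v18 C) [25, 43, 60, 86, 101, 110, 124] :=
  C.conv (f8216 C) (f8435 C) (f8435 C) _ [128, 154, 164, 172] _ (by decide +kernel) (by decide +kernel) (by decide +kernel)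

theorem f9813 : C.S (v3 C) [19, 30, 60, 72, 107, 110, 116] :=
  C.stMul (f331 C) (f335 C) _ (by decide +kernel)

theorem f9814 : C.S (v3 C) [26, 29, 49, 97, 123] :=
  C.stMul (f335 C) (f9813 C) _ (by decide +kernel)

theorem f9815 : C.S (v3 C) [4, 30, 49, 89, 105, 125] :=
  C.stMul (f353 C) (f9814 C) _ (by decide +kernel)

theorem f9816 : C.T (v3 C) [7, 42, 62, 79, 107, 109, 115] (v18 C) [23, 31, 59, 81, 98, 110] :=
  C.conv (f9221 C) (f9279 C) (f9815 C) _ [132, 160, 175, 177] _ (by decide +kernel) (by decide +kernel) (by decide +kernel)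

theorem f9817 : C.T (v18 C) [23, 31, 59, 81, 98, 110] (v3 C) [7, 42, 62, 79, 107, 109, 115] :=
  C.flip (f9816 C)

theorem f9818 : C.T (v18 C) [9, 44, 62, 73, 106, 110, 124] (v18 C) [12, 34, 58, 73, 93, 110, 116] :=
  C.closeT (p := (v3 C)) (pu := [7, 33, 52, 79, 104, 109, 119])
    (C.pT (f9812 C)
    (C.pH [12, 35, 50, 83] [9, 44, 62, 73, 106, 110, 124] (by decide +kernel) (C.pNil _ _)))
    (C.pH [12, 35, 50, 83] [23, 31, 59, 81, 98, 110] (by decide +kernel)
    (C.pT (f9817 C)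
    (C.pH [12, 35, 50, 83] [7, 33, 52, 79, 104, 109, 119] (by decide +kernel) (C.pNil _ _))))
    (C.loop_of_one (relLoop0 C) _ _)

theorem f9819 : C.T (v18 C) [12, 34, 58, 73, 93, 110, 116] (v18 C) [9, 44, 62, 73, 106, 110, 124] :=
  C.flip (f9818 C)

theorem f9820 : C.T (v3 C) [20, 39, 65, 86, 91, 109] (v18 C) [14, 35, 51, 83, 103, 116] :=
  C.conv (f8216 C) (f8435 C) (f8435 C) _ [130, 149, 169, 174] _ (by decide +kernel) (by decide +kernel) (by decide +kernel)

theorem f9821 : C.S (v3 C) [9, 35, 69, 77, 96, 110, 118] :=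
  C.stMul (f353 C) (f7296 C) _ (by decide +kernel)

theorem f9822 : C.T (v3 C) [11, 32, 60, 73, 94, 110, 115] (v17 C) [7, 32, 61, 89, 100, 109, 111] :=
  C.conv (f6822 C) (f7297 C) (f9821 C) _ [134, 162, 168, 177] _ (by decide +kernel) (by decide +kernel) (by decide +kernel)

theorem f9823 : C.T (v17 C) [7, 32, 61, 89, 100, 109, 111] (v3 C) [11, 32, 60, 73, 94, 110, 115] :=
  C.flip (f9822 C)

theorem f9824 : C.T (v18 C) [14, 35, 78, 96, 118] (v17 C) [7, 31, 55, 75, 106, 110, 113] :=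
  C.closeT (p := (v3 C)) (pu := [20, 39, 65, 86, 91, 109])
    (C.pT (f9820 C)
    (C.pH [12, 35, 50, 83] [14, 35, 78, 96, 118] (by decide +kernel) (C.pNil _ _)))
    (C.pH [12, 35, 50, 83] [7, 32, 61, 89, 100, 109, 111] (by decide +kernel)
    (C.pT (f9823 C)
    (C.pH [12, 35, 50, 83] [20, 39, 65, 86, 91, 109] (by decide +kernel) (C.pNil _ _))))
    (C.loop_of_one (relLoop0 C) _ _)

theorem f9825 : C.T (v17 C) [7, 31, 55, 75, 106, 110, 113] (v18 C) [14, 35, 78, 96, 118] :=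
  C.flip (f9824 C)

theorem f9826 : C.T (v3 C) [9, 30, 64, 85, 91, 114] (v18 C) [22, 48, 64, 84, 95, 115] :=
  C.conv (f8216 C) (f8435 C) (f8435 C) _ [133, 157, 173] _ (by decide +kernel) (by decide +kernel) (by decide +kernel)

theorem f9827 : C.S (v3 C) [23, 29, 57, 87, 91, 110, 120] :=
  C.stMul (f331 C) (f328 C) _ (by decide +kernel)

theorem f9828 : C.S (v3 C) [23, 35, 58, 78, 94, 110, 123] :=
  C.stMul (f328 C) (f9827 C) _ (by decide +kernel)

theorem f9829 : C.S (v3 C) [21, 46, 68, 75, 95] :=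
  C.stMul (f335 C) (f9828 C) _ (by decide +kernel)

theorem f9830 : C.T (v3 C) [25, 39, 56, 100, 110, 117] (v15 C) [14, 34, 56, 77, 100, 109, 113] :=
  C.conv (f3166 C) (f3236 C) (f9829 C) _ [143, 157, 165, 171] _ (by decide +kernel) (by decide +kernel) (by decide +kernel)

theorem f9831 : C.T (v15 C) [14, 34, 56, 77, 100, 109, 113] (v3 C) [25, 39, 56, 100, 110, 117] :=
  C.flip (f9830 C)

theorem f9832 : C.T (v18 C) [11, 45, 52, 81, 90, 110, 125] (v15 C) [14, 44, 83, 104, 119] :=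
  C.closeT (p := (v3 C)) (pu := [9, 30, 64, 85, 91, 114])
    (C.pT (f9826 C)
    (C.pH [12, 35, 50, 83] [11, 45, 52, 81, 90, 110, 125] (by decide +kernel) (C.pNil _ _)))
    (C.pH [12, 35, 50, 83] [14, 34, 56, 77, 100, 109, 113] (by decide +kernel)
    (C.pT (f9831 C)
    (C.pH [12, 35, 50, 83] [9, 30, 64, 85, 91, 114] (by decide +kernel) (C.pNil _ _))))
    (C.loop_of_one (relLoop0 C) _ _)

theorem f9833 : C.T (v15 C) [14, 44, 83, 104, 119] (v18 C) [11, 45, 52, 81, 90, 110, 125] :=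
  C.flip (f9832 C)

theorem f9834 : C.T (v3 C) [15, 38, 65, 72, 99, 124] (v18 C) [16, 31, 59, 89, 95, 109, 125] :=
  C.conv (f8223 C) (f8361 C) (f8361 C) _ [144, 151, 167, 174] _ (by decide +kernel) (by decide +kernel) (by decide +kernel)

theorem f9835 : C.S (v3 C) [15, 34, 56, 71, 106, 109, 117] :=
  C.stMul (f331 C) (f353 C) _ (by decide +kernel)

theorem f9836 : C.S (v3 C) [16, 65, 76, 94, 125] :=
  C.stMul (f335 C) (f9835 C) _ (by decide +kernel)

theorem f9837 : C.T (v3 C) [15, 38, 64, 83, 91, 122] (v18 C) [14, 36, 56, 88, 90, 110] :=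
  C.conv (f9432 C) (f9640 C) (f9836 C) _ [126, 150, 174, 178] _ (by decide +kernel) (by decide +kernel) (by decide +kernel)

theorem f9838 : C.T (v18 C) [14, 36, 56, 88, 90, 110] (v3 C) [15, 38, 64, 83, 91, 122] :=
  C.flip (f9837 C)

theorem f9839 : C.T (v18 C) [16, 31, 69, 86, 92, 109] (v18 C) [14, 36, 56, 77, 100, 110, 119] :=
  C.closeT (p := (v3 C)) (pu := [15, 38, 65, 72, 99, 124])
    (C.pT (f9834 C)
    (C.pH [12, 35, 50, 83] [16, 31, 69, 86, 92, 109] (by decide +kernel) (C.pNil _ _)))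
    (C.pH [12, 35, 50, 83] [14, 36, 56, 88, 90, 110] (by decide +kernel)
    (C.pT (f9838 C)
    (C.pH [12, 35, 50, 83] [15, 38, 65, 72, 99, 124] (by decide +kernel) (C.pNil _ _))))
    (C.loop_of_one (relLoop0 C) _ _)

theorem f9840 : C.T (v18 C) [14, 36, 56, 77, 100, 110, 119] (v18 C) [16, 31, 69, 86, 92, 109] :=
  C.flip (f9839 C)

theorem f9841 : C.T (v3 C) [17, 31, 53, 83, 102, 110, 121] (v18 C) [14, 47, 55, 76, 94, 110, 113] :=
  C.conv (f8223 C) (f8361 C) (f8361 C) _ [162, 165, 171] _ (by decide +kernel) (by decide +kernel) (by decide +kernel)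

theorem f9842 : C.T (v3 C) [9, 46, 57, 80, 104, 110, 113] (v18 C) [14, 37, 64, 76, 91, 110, 118] :=
  C.conv (f8216 C) (f8435 C) (f8437 C) _ [139, 157, 176] _ (by decide +kernel) (by decide +kernel) (by decide +kernel)

theorem f9843 : C.T (v18 C) [14, 37, 64, 76, 91, 110, 118] (v3 C) [9, 46, 57, 80, 104, 110, 113] :=
  C.flip (f9842 C)

theorem f9844 : C.T (v18 C) [14, 37, 56, 74, 101, 117] (v18 C) [14, 47, 64, 81, 93, 122] :=
  C.closeT (p := (v3 C)) (pu := [17, 31, 53, 83, 102, 110, 121])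
    (C.pT (f9841 C)
    (C.pH [12, 35, 50, 83] [14, 37, 56, 74, 101, 117] (by decide +kernel) (C.pNil _ _)))
    (C.pH [12, 35, 50, 83] [14, 37, 64, 76, 91, 110, 118] (by decide +kernel)
    (C.pT (f9843 C)
    (C.pH [12, 35, 50, 83] [17, 31, 53, 83, 102, 110, 121] (by decide +kernel) (C.pNil _ _))))
    (C.loop_of_one (relLoop0 C) _ _)

theorem f9845 : C.T (v18 C) [14, 47, 64, 81, 93, 122] (v18 C) [14, 37, 56, 74, 101, 117] :=
  C.flip (f9844 C)

theorem f9846 : C.T (v3 C) [12, 37, 67, 84, 106, 109, 112] (v2 C) [5, 36, 67, 79, 105, 112] :=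
  C.conv (f346 C) (f391 C) (f391 C) _ [133, 160, 169, 176, 177] _ (by decide +kernel) (by decide +kernel) (by decide +kernel)

theorem f9847 : C.S (v2 C) [18, 29, 52, 78, 97, 114] :=
  C.stMul (f125 C) (f109 C) _ (by decide +kernel)

theorem f9848 : C.S (v2 C) [25, 37, 68, 87, 103, 110, 112] :=
  C.stMul (f243 C) (f9847 C) _ (by decide +kernel)

theorem f9849 : C.T (v2 C) [12, 38, 59, 88, 108, 116] (v18 C) [21, 35, 49, 80, 109, 112] :=
  C.conv (f6850 C) (f6867 C) (f9848 C) _ [147, 163, 165, 176, 178] _ (by decide +kernel) (by decide +kernel) (by decide +kernel)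

theorem f9850 : C.S (v3 C) [13, 29, 60, 92, 109, 121] :=
  C.stMul (f353 C) (f328 C) _ (by decide +kernel)

theorem f9851 : C.S (v3 C) [8, 48, 63, 86, 90, 110, 123] :=
  C.stMul (f331 C) (f9850 C) _ (by decide +kernel)

theorem f9852 : C.S (v3 C) [15, 29, 55, 75, 90, 119] :=
  C.stMul (f353 C) (f9851 C) _ (by decide +kernel)

theorem f9853 : C.T (v3 C) [24, 31, 66, 79, 98, 110, 114] (v18 C) [4, 42, 51, 88, 97, 109, 118] :=
  C.conv (f9184 C) (f9232 C) (f9852 C) _ [128, 155, 167, 174, 178] _ (by decide +kernel) (by decide +kernel) (by decide +kernel)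

theorem f9854 : C.T (v18 C) [4, 42, 51, 88, 97, 109, 118] (v3 C) [24, 31, 66, 79, 98, 110, 114] :=
  C.flip (f9853 C)

theorem f9855 : C.T (v18 C) [6, 27, 54, 84, 104] (v18 C) [18, 38, 65, 72, 92, 109, 123] :=
  C.closeT (p := (v3 C)) (pu := [12, 37, 67, 84, 106, 109, 112])
    (C.pT (f9846 C)
    (C.pH [8, 30, 65, 84, 94, 117] [12, 38, 59, 88, 108, 116] (by decide +kernel)
    (C.pT (f9849 C)
    (C.pH [26, 38, 54, 89, 90, 113] [6, 27, 54, 84, 104] (by decide +kernel) (C.pNil _ _)))))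
    (C.pH [8, 30, 65, 84, 94, 117] [4, 42, 51, 88, 97, 109, 118] (by decide +kernel)
    (C.pT (f9854 C)
    (C.pH [26, 38, 54, 89, 90, 113] [12, 37, 67, 84, 106, 109, 112] (by decide +kernel) (C.pNil _ _))))
    (C.loop_of_one (relLoop1 C) _ _)

theorem f9856 : C.T (v18 C) [18, 38, 65, 72, 92, 109, 123] (v18 C) [6, 27, 54, 84, 104] :=
  C.flip (f9855 C)

theorem f9857 : C.T (v3 C) [4, 48, 66, 71, 95, 110, 119] (v2 C) [7, 39, 74, 100, 109, 117] :=
  C.conv (f346 C) (f391 C) (f391 C) _ [143, 156, 170, 172, 177] _ (by decide +kernel) (by decide +kernel) (by decide +kernel)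

theorem f9858 : C.S (v2 C) [26, 45, 56, 81, 108, 109, 124] :=
  C.stMul (f243 C) (f7250 C) _ (by decide +kernel)

theorem f9859 : C.T (v2 C) [17, 43, 55, 71, 90, 109, 115] (v18 C) [12, 35, 66, 74, 107, 125] :=
  C.conv (f6850 C) (f6867 C) (f9858 C) _ [156, 166, 173, 177] _ (by decide +kernel) (by decide +kernel) (by decide +kernel)

theorem f9860 : C.S (v3 C) [6, 29, 67, 88, 100, 110] :=
  C.stMul (f335 C) (f8178 C) _ (by decide +kernel)

theorem f9861 : C.S (v3 C) [26, 42, 53, 74, 94, 109, 111] :=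
  C.stMul (f331 C) (f9860 C) _ (by decide +kernel)

theorem f9862 : C.T (v3 C) [6, 40, 69, 72, 96, 110, 124] (v17 C) [10, 27, 64, 81, 105, 115] :=
  C.conv (f6822 C) (f7297 C) (f9861 C) _ [131, 155, 166, 174, 178] _ (by decide +kernel) (by decide +kernel) (by decide +kernel)

theorem f9863 : C.T (v17 C) [10, 27, 64, 81, 105, 115] (v3 C) [6, 40, 69, 72, 96, 110, 124] :=
  C.flip (f9862 C)

theorem f9864 : C.T (v18 C) [14, 33, 61, 88, 96, 110, 121] (v17 C) [23, 45, 61, 82, 98, 110, 120] :=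
  C.closeT (p := (v3 C)) (pu := [4, 48, 66, 71, 95, 110, 119])
    (C.pT (f9857 C)
    (C.pH [8, 30, 65, 84, 94, 117] [17, 43, 55, 71, 90, 109, 115] (by decide +kernel)
    (C.pT (f9859 C)
    (C.pH [26, 38, 54, 89, 90, 113] [14, 33, 61, 88, 96, 110, 121] (by decide +kernel) (C.pNil _ _)))))
    (C.pH [8, 30, 65, 84, 94, 117] [10, 27, 64, 81, 105, 115] (by decide +kernel)
    (C.pT (f9863 C)
    (C.pH [26, 38, 54, 89, 90, 113] [4, 48, 66, 71, 95, 110, 119] (by decide +kernel) (C.pNil _ _))))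
    (C.loop_of_one (relLoop1 C) _ _)

theorem f9865 : C.T (v17 C) [23, 45, 61, 82, 98, 110, 120] (v18 C) [14, 33, 61, 88, 96, 110, 121] :=
  C.flip (f9864 C)

theorem f9866 : C.T (v3 C) [41, 53, 86, 107, 110, 111] (v2 C) [15, 37, 62, 84, 101, 110, 117] :=
  C.conv (f346 C) (f391 C) (f391 C) _ [144, 151, 167, 172, 177] _ (by decide +kernel) (by decide +kernel) (by decide +kernel)

theorem f9867 : C.S (v3 C) [4, 67, 86, 105, 116] :=
  C.stMul (f335 C) (f7330 C) _ (by decide +kernel)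

theorem f9868 : C.S (v3 C) [6, 44, 60, 85, 94, 120] :=
  C.stMul (f328 C) (f9867 C) _ (by decide +kernel)

theorem f9869 : C.T (v3 C) [7, 42, 54, 82, 91, 110, 124] (v18 C) [9, 42, 56, 72, 97, 110, 116] :=
  C.conv (f6888 C) (f7333 C) (f9868 C) _ [128, 158, 167, 172] _ (by decide +kernel) (by decide +kernel) (by decide +kernel)

theorem f9870 : C.T (v18 C) [9, 42, 56, 72, 97, 110, 116] (v3 C) [7, 42, 54, 82, 91, 110, 124] :=
  C.flip (f9869 C)

theorem f9871 : C.T (v18 C) [25, 45, 64, 84, 91, 110, 122] (v18 C) [12, 39, 56, 78, 95, 109, 115] :=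
  C.conv (f9855 C) (f7121 C) (f7121 C) _ [129, 162, 166, 171, 178] _ (by decide +kernel) (by decide +kernel) (by decide +kernel)

theorem f9872 : C.T (v18 C) [12, 39, 56, 78, 95, 109, 115] (v18 C) [25, 45, 64, 84, 91, 110, 122] :=
  C.flip (f9871 C)

theorem f9873 : C.T (v2 C) [19, 32, 63, 70, 106, 109, 123] (v18 C) [24, 56, 74, 100, 117] :=
  C.closeT (p := (v3 C)) (pu := [41, 53, 86, 107, 110, 111])
    (C.pT (f9866 C)
    (C.pH [8, 30, 65, 84, 94, 117] [19, 32, 63, 70, 106, 109, 123] (by decide +kernel) (C.pNil _ _)))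
    (C.pH [26, 38, 54, 89, 90, 113] [12, 39, 56, 78, 95, 109, 115] (by decide +kernel)
    (C.pT (f9872 C)
    (C.pH [8, 30, 65, 84, 94, 117] [9, 42, 56, 72, 97, 110, 116] (by decide +kernel)
    (C.pT (f9870 C)
    (C.pH [26, 38, 54, 89, 90, 113] [41, 53, 86, 107, 110, 111] (by decide +kernel) (C.pNil _ _))))))
    (C.loop_of_one (relLoop1 C) _ _)

theorem f9874 : C.T (v18 C) [24, 56, 74, 100, 117] (v2 C) [19, 32, 63, 70, 106, 109, 123] :=
  C.flip (f9873 C)

theorem f9875 : C.T (v3 C) [13, 45, 60, 83, 99, 109, 119] (v2 C) [47, 51, 103, 110, 117] :=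
  C.conv (f346 C) (f391 C) (f391 C) _ [146, 157, 170, 177] _ (by decide +kernel) (by decide +kernel) (by decide +kernel)

theorem f9876 : C.S (v2 C) [24, 37, 50, 85, 99, 110, 113] :=
  C.stMul (f243 C) (f101 C) _ (by decide +kernel)

theorem f9877 : C.S (v2 C) [22, 45, 65, 80, 91, 109, 111] :=
  C.stMul (f109 C) (f9876 C) _ (by decide +kernel)

theorem f9878 : C.S (v2 C) [13, 42, 50, 76, 101, 124] :=
  C.stMul (f149 C) (f9877 C) _ (by decide +kernel)

theorem f9879 : C.S (v2 C) [18, 44, 60, 72, 100, 117] :=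
  C.stMul (f138 C) (f125 C) _ (by decide +kernel)

theorem f9880 : C.S (v2 C) [68, 75, 94, 109, 121] :=
  C.stMul (f211 C) (f9879 C) _ (by decide +kernel)

theorem f9881 : C.T (v2 C) [8, 41, 56, 83, 106, 109, 120] (v18 C) [18, 41, 66, 75, 110, 123] :=
  C.conv (f9873 C) (f9878 C) (f9880 C) _ [132, 153, 167, 176, 178] _ (by decide +kernel) (by decide +kernel) (by decide +kernel)

theorem f9882 : C.S (v3 C) [20, 56, 88, 105, 110, 120] :=
  C.stMul (f331 C) (f331 C) _ (by decide +kernel)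

theorem f9883 : C.S (v3 C) [24, 43, 51, 89, 106, 110, 114] :=
  C.stMul (f353 C) (f9882 C) _ (by decide +kernel)

theorem f9884 : C.S (v3 C) [19, 48, 52, 86, 91, 110, 115] :=
  C.stMul (f331 C) (f9883 C) _ (by decide +kernel)

theorem f9885 : C.T (v3 C) [16, 37, 67, 72, 92, 110, 117] (v17 C) [15, 37, 64, 75, 90, 122] :=
  C.conv (f6269 C) (f7309 C) (f9884 C) _ [145, 159, 170, 174, 178] _ (by decide +kernel) (by decide +kernel) (by decide +kernel)

theorem f9886 : C.T (v17 C) [15, 37, 64, 75, 90, 122] (v3 C) [16, 37, 67, 72, 92, 110, 117] :=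
  C.flip (f9885 C)

theorem f9887 : C.T (v18 C) [10, 48, 63, 77, 99, 110, 123] (v17 C) [10, 31, 65, 89, 123] :=
  C.closeT (p := (v3 C)) (pu := [13, 45, 60, 83, 99, 109, 119])
    (C.pT (f9875 C)
    (C.pH [8, 30, 65, 84, 94, 117] [8, 41, 56, 83, 106, 109, 120] (by decide +kernel)
    (C.pT (f9881 C)
    (C.pH [26, 38, 54, 89, 90, 113] [10, 48, 63, 77, 99, 110, 123] (by decide +kernel) (C.pNil _ _)))))
    (C.pH [8, 30, 65, 84, 94, 117] [15, 37, 64, 75, 90, 122] (by decide +kernel)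
    (C.pT (f9886 C)
    (C.pH [26, 38, 54, 89, 90, 113] [13, 45, 60, 83, 99, 109, 119] (by decide +kernel) (C.pNil _ _))))
    (C.loop_of_one (relLoop1 C) _ _)

theorem f9888 : C.T (v17 C) [10, 31, 65, 89, 123] (v18 C) [10, 48, 63, 77, 99, 110, 123] :=
  C.flip (f9887 C)

theorem f9889 : C.T (v3 C) [20, 41, 61, 79, 107, 110, 120] (v2 C) [6, 35, 51, 75, 91, 109, 124] :=
  C.conv (f346 C) (f391 C) (f391 C) _ [145, 157, 167, 172] _ (by decide +kernel) (by decide +kernel) (by decide +kernel)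

theorem f9890 : C.T (v2 C) [13, 34, 56, 79, 113] (v18 C) [22, 50, 85, 94, 110, 120] :=
  C.conv (f9873 C) (f9878 C) (f101 C) _ [128, 158, 173] _ (by decide +kernel) (by decide +kernel) (by decide +kernel)

theorem f9891 : C.S (v3 C) [20, 43, 61, 80, 107, 110, 114] :=
  C.stMul (f335 C) (f9782 C) _ (by decide +kernel)

theorem f9892 : C.T (v3 C) [17, 35, 64, 72, 104, 109, 115] (v18 C) [21, 30, 77, 94, 109, 117] :=
  C.conv (f6888 C) (f7333 C) (f9891 C) _ [128, 154, 166, 173] _ (by decide +kernel) (by decide +kernel) (by decide +kernel)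

theorem f9893 : C.T (v18 C) [21, 30, 77, 94, 109, 117] (v3 C) [17, 35, 64, 72, 104, 109, 115] :=
  C.flip (f9892 C)

theorem f9894 : C.T (v18 C) [19, 40, 59, 70, 106, 110, 120] (v18 C) [12, 42, 68, 71, 99, 109, 124] :=
  C.closeT (p := (v3 C)) (pu := [20, 41, 61, 79, 107, 110, 120])
    (C.pT (f9889 C)
    (C.pH [8, 30, 65, 84, 94, 117] [13, 34, 56, 79, 113] (by decide +kernel)
    (C.pT (f9890 C)
    (C.pH [26, 38, 54, 89, 90, 113] [19, 40, 59, 70, 106, 110, 120] (by decide +kernel) (C.pNil _ _)))))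
    (C.pH [8, 30, 65, 84, 94, 117] [21, 30, 77, 94, 109, 117] (by decide +kernel)
    (C.pT (f9893 C)
    (C.pH [26, 38, 54, 89, 90, 113] [20, 41, 61, 79, 107, 110, 120] (by decide +kernel) (C.pNil _ _))))
    (C.loop_of_one (relLoop1 C) _ _)

theorem f9895 : C.T (v18 C) [12, 42, 68, 71, 99, 109, 124] (v18 C) [19, 40, 59, 70, 106, 110, 120] :=
  C.flip (f9894 C)

theorem f9896 : C.T (v3 C) [15, 44, 63, 72, 103, 110, 111] (v2 C) [21, 46, 51, 75, 108, 121] :=
  C.conv (f346 C) (f391 C) (f391 C) _ [139, 162, 169, 174] _ (by decide +kernel) (by decide +kernel) (by decide +kernel)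

theorem f9897 : C.T (v2 C) [24, 39, 49, 73, 97, 109, 120] (v18 C) [18, 38, 61, 87, 107, 121] :=
  C.conv (f6850 C) (f6867 C) (f7015 C) _ [170, 174] _ (by decide +kernel) (by decide +kernel) (by decide +kernel)

theorem f9898 : C.S (v3 C) [18, 35, 57, 82, 93, 110, 115] :=
  C.stMul (f353 C) (f331 C) _ (by decide +kernel)

theorem f9899 : C.S (v3 C) [6, 45, 53, 79, 94, 110, 115] :=
  C.stMul (f335 C) (f9898 C) _ (by decide +kernel)

theorem f9900 : C.S (v3 C) [26, 34, 52, 84, 93, 110, 125] :=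
  C.stMul (f331 C) (f9899 C) _ (by decide +kernel)

theorem f9901 : C.T (v3 C) [20, 45, 55, 77, 98, 110, 116] (v18 C) [20, 46, 61, 89, 106, 109, 115] :=
  C.conv (f8216 C) (f8435 C) (f9900 C) _ [134, 149, 170, 176, 177] _ (by decide +kernel) (by decide +kernel) (by decide +kernel)

theorem f9902 : C.T (v18 C) [20, 46, 61, 89, 106, 109, 115] (v3 C) [20, 45, 55, 77, 98, 110, 116] :=
  C.flip (f9901 C)

theorem f9903 : C.T (v18 C) [10, 41, 65, 72, 98, 114] (v18 C) [16, 35, 51, 78, 92, 113] :=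
  C.closeT (p := (v3 C)) (pu := [15, 44, 63, 72, 103, 110, 111])
    (C.pT (f9896 C)
    (C.pH [8, 30, 65, 84, 94, 117] [24, 39, 49, 73, 97, 109, 120] (by decide +kernel)
    (C.pT (f9897 C)
    (C.pH [26, 38, 54, 89, 90, 113] [10, 41, 65, 72, 98, 114] (by decide +kernel) (C.pNil _ _)))))
    (C.pH [8, 30, 65, 84, 94, 117] [20, 46, 61, 89, 106, 109, 115] (by decide +kernel)
    (C.pT (f9902 C)
    (C.pH [26, 38, 54, 89, 90, 113] [15, 44, 63, 72, 103, 110, 111] (by decide +kernel) (C.pNil _ _))))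
    (C.loop_of_one (relLoop1 C) _ _)

theorem f9904 : C.T (v18 C) [16, 35, 51, 78, 92, 113] (v18 C) [10, 41, 65, 72, 98, 114] :=
  C.flip (f9903 C)

theorem f9905 : C.T (v3 C) [6, 76, 91] (v2 C) [21, 43, 58, 89, 92, 110, 116] :=
  C.conv (f336 C) (f376 C) (f376 C) _ [128, 157, 170, 175, 178] _ (by decide +kernel) (by decide +kernel) (by decide +kernel)

theorem f9906 : C.T (v2 C) [24, 35, 61, 81, 94, 110, 116] (v18 C) [18, 52, 78, 99, 118] :=
  C.conv (f6850 C) (f6867 C) (f7172 C) _ [142, 159, 165, 174, 177] _ (by decide +kernel) (by decide +kernel) (by decide +kernel)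

theorem f9907 : C.S (v3 C) [22, 29, 89, 96, 109, 125] :=
  C.stMul (f328 C) (f331 C) _ (by decide +kernel)

theorem f9908 : C.S (v3 C) [4, 67, 86, 105, 116] :=
  C.stMul (f335 C) (f9907 C) _ (by decide +kernel)

theorem f9909 : C.S (v3 C) [17, 42, 51, 85, 96, 109, 120] :=
  C.stMul (f331 C) (f9908 C) _ (by decide +kernel)

theorem f9910 : C.S (v3 C) [21, 37, 66, 85, 97, 109, 112] :=
  C.stMul (f353 C) (f9909 C) _ (by decide +kernel)

theorem f9911 : C.T (v3 C) [21, 29, 51, 74, 90, 110, 117] (v18 C) [10, 36, 59, 76, 106, 117] :=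
  C.conv (f7327 C) (f7806 C) (f9910 C) _ [141, 156, 168, 173] _ (by decide +kernel) (by decide +kernel) (by decide +kernel)

theorem f9912 : C.T (v18 C) [10, 36, 59, 76, 106, 117] (v3 C) [21, 29, 51, 74, 90, 110, 117] :=
  C.flip (f9911 C)

theorem f9913 : C.T (v18 C) [10, 37, 67, 83, 90, 109, 117] (v18 C) [23, 39, 68, 82, 99, 110, 124] :=
  C.closeT (p := (v3 C)) (pu := [6, 76, 91])
    (C.pT (f9905 C)
    (C.pH [8, 30, 65, 84, 94, 117] [24, 35, 61, 81, 94, 110, 116] (by decide +kernel)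
    (C.pT (f9906 C)
    (C.pH [26, 38, 54, 89, 90, 113] [10, 37, 67, 83, 90, 109, 117] (by decide +kernel) (C.pNil _ _)))))
    (C.pH [8, 30, 65, 84, 94, 117] [10, 36, 59, 76, 106, 117] (by decide +kernel)
    (C.pT (f9912 C)
    (C.pH [26, 38, 54, 89, 90, 113] [6, 76, 91] (by decide +kernel) (C.pNil _ _))))
    (C.loop_of_one (relLoop1 C) _ _)

theorem f9914 : C.T (v18 C) [23, 39, 68, 82, 99, 110, 124] (v18 C) [10, 37, 67, 83, 90, 109, 117] :=
  C.flip (f9913 C)

theorem f9915 : C.T (v3 C) [21, 46, 52, 80, 98, 109, 119] (v2 C) [13, 42, 49, 87, 110, 111] :=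
  C.conv (f368 C) (f376 C) (f376 C) _ [133, 150, 167, 176] _ (by decide +kernel) (by decide +kernel) (by decide +kernel)

theorem f9916 : C.T (v2 C) [11, 34, 58, 89, 106, 109, 121] (v18 C) [17, 28, 58, 83, 104, 110, 125] :=
  C.conv (f6850 C) (f6867 C) (f8101 C) _ [130, 158, 166, 172] _ (by decide +kernel) (by decide +kernel) (by decide +kernel)

theorem f9917 : C.S (v3 C) [11, 28, 50, 85, 94, 124] :=
  C.stMul (f353 C) (f9760 C) _ (by decide +kernel)

theorem f9918 : C.S (v3 C) [23, 36, 66, 83, 90, 109, 121] :=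
  C.stMul (f331 C) (f9917 C) _ (by decide +kernel)

theorem f9919 : C.T (v3 C) [10, 38, 62, 70, 98, 110, 116] (v17 C) [9, 48, 56, 76, 105, 110, 122] :=
  C.conv (f6822 C) (f7297 C) (f9918 C) _ [146, 157, 169, 176, 178] _ (by decide +kernel) (by decide +kernel) (by decide +kernel)

theorem f9920 : C.T (v17 C) [9, 48, 56, 76, 105, 110, 122] (v3 C) [10, 38, 62, 70, 98, 110, 116] :=
  C.flip (f9919 C)

theorem f9921 : C.T (v18 C) [20, 37, 69, 89, 103, 109, 124] (v17 C) [25, 41, 63, 70, 102, 110, 116] :=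
  C.closeT (p := (v3 C)) (pu := [21, 46, 52, 80, 98, 109, 119])
    (C.pT (f9915 C)
    (C.pH [8, 30, 65, 84, 94, 117] [11, 34, 58, 89, 106, 109, 121] (by decide +kernel)
    (C.pT (f9916 C)
    (C.pH [26, 38, 54, 89, 90, 113] [20, 37, 69, 89, 103, 109, 124] (by decide +kernel) (C.pNil _ _)))))
    (C.pH [8, 30, 65, 84, 94, 117] [9, 48, 56, 76, 105, 110, 122] (by decide +kernel)
    (C.pT (f9920 C)
    (C.pH [26, 38, 54, 89, 90, 113] [21, 46, 52, 80, 98, 109, 119] (by decide +kernel) (C.pNil _ _))))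
    (C.loop_of_one (relLoop1 C) _ _)

theorem f9922 : C.T (v17 C) [25, 41, 63, 70, 102, 110, 116] (v18 C) [20, 37, 69, 89, 103, 109, 124] :=
  C.flip (f9921 C)

theorem f9923 : C.T (v3 C) [11, 35, 53, 81, 105, 116] (v2 C) [20, 45, 55, 76, 94, 109, 119] :=
  C.conv (f368 C) (f376 C) (f376 C) _ [132, 152, 174, 178] _ (by decide +kernel) (by decide +kernel) (by decide +kernel)

theorem f9924 : C.T (v2 C) [23, 27, 60, 72, 100, 110, 117] (v18 C) [7, 44, 51, 76, 98, 113] :=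
  C.conv (f6830 C) (f323 C) (f149 C) _ [129, 161, 164, 172, 177] _ (by decide +kernel) (by decide +kernel) (by decide +kernel)

theorem f9925 : C.T (v3 C) [8, 43, 54, 85, 105, 110, 123] (v18 C) [20, 46, 56, 83, 96, 110, 119] :=
  C.conv (f8165 C) (f8200 C) (f331 C) _ [137, 151, 170, 176] _ (by decide +kernel) (by decide +kernel) (by decide +kernel)

theorem f9926 : C.T (v18 C) [20, 46, 56, 83, 96, 110, 119] (v3 C) [8, 43, 54, 85, 105, 110, 123] :=
  C.flip (f9925 C)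

theorem f9927 : C.T (v18 C) [34, 54, 77, 108, 110, 117] (v18 C) [16, 35, 68, 71, 95, 110, 113] :=
  C.closeT (p := (v3 C)) (pu := [11, 35, 53, 81, 105, 116])
    (C.pT (f9923 C)
    (C.pH [8, 30, 65, 84, 94, 117] [23, 27, 60, 72, 100, 110, 117] (by decide +kernel)
    (C.pT (f9924 C)
    (C.pH [26, 38, 54, 89, 90, 113] [34, 54, 77, 108, 110, 117] (by decide +kernel) (C.pNil _ _)))))
    (C.pH [8, 30, 65, 84, 94, 117] [20, 46, 56, 83, 96, 110, 119] (by decide +kernel)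
    (C.pT (f9926 C)
    (C.pH [26, 38, 54, 89, 90, 113] [11, 35, 53, 81, 105, 116] (by decide +kernel) (C.pNil _ _))))
    (C.loop_of_one (relLoop1 C) _ _)

theorem f9931 : C.T (v3 C) [11, 31, 55, 82, 105, 114] (v2 C) [33, 54, 80, 100, 111] :=
  C.conv (f368 C) (f376 C) (f376 C) _ [147, 149, 167, 176, 177] _ (by decide +kernel) (by decide +kernel) (by decide +kernel)

theorem f9932 : C.S (v2 C) [22, 45, 57, 85, 99, 109, 112] :=
  C.stMul (f149 C) (f7828 C) _ (by decide +kernel)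

theorem f9933 : C.S (v2 C) [25, 37, 63, 75, 101, 110, 125] :=
  C.stMul (f138 C) (f9932 C) _ (by decide +kernel)

theorem f9934 : C.T (v2 C) [8, 44, 64, 105, 109, 112] (v17 C) [10, 44, 69, 81, 90, 109, 119] :=
  C.conv (f6632 C) (f6971 C) (f9933 C) _ [142, 152, 167, 178] _ (by decide +kernel) (by decide +kernel) (by decide +kernel)

theorem f9935 : C.T (v3 C) [8, 50, 88, 103, 109, 111] (v18 C) [19, 43, 52, 84, 93, 125] :=
  C.conv (f8216 C) (f8435 C) (f8984 C) _ [137, 155, 166, 178] _ (by decide +kernel) (by decide +kernel) (by decide +kernel)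

theorem f9936 : C.T (v18 C) [19, 43, 52, 84, 93, 125] (v3 C) [8, 50, 88, 103, 109, 111] :=
  C.flip (f9935 C)

theorem f9937 : C.T (v17 C) [21, 42, 58, 81, 98, 110, 124] (v18 C) [15, 48, 69, 86, 92, 119] :=
  C.closeT (p := (v3 C)) (pu := [11, 31, 55, 82, 105, 114])
    (C.pT (f9931 C)
    (C.pH [8, 30, 65, 84, 94, 117] [8, 44, 64, 105, 109, 112] (by decide +kernel)
    (C.pT (f9934 C)
    (C.pH [26, 38, 54, 89, 90, 113] [21, 42, 58, 81, 98, 110, 124] (by decide +kernel) (C.pNil _ _)))))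
    (C.pH [8, 30, 65, 84, 94, 117] [19, 43, 52, 84, 93, 125] (by decide +kernel)
    (C.pT (f9936 C)
    (C.pH [26, 38, 54, 89, 90, 113] [11, 31, 55, 82, 105, 114] (by decide +kernel) (C.pNil _ _))))
    (C.loop_of_one (relLoop1 C) _ _)

theorem f9938 : C.T (v18 C) [15, 48, 69, 86, 92, 119] (v17 C) [21, 42, 58, 81, 98, 110, 124] :=
  C.flip (f9937 C)

theorem f9939 : C.T (v3 C) [13, 29, 55, 77, 99, 112] (v3 C) [24, 32, 64, 86, 105, 109, 122] :=
  C.conv (f374 C) (f376 C) (f376 C) _ [145, 161, 164, 171] _ (by decide +kernel) (by decide +kernel) (by decide +kernel)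

theorem f9940 : C.T (v3 C) [16, 40, 59, 78, 97, 116] (v17 C) [6, 46, 52, 87, 104, 109, 118] :=
  C.conv (f6822 C) (f7297 C) (f8179 C) _ [131, 161, 172] _ (by decide +kernel) (by decide +kernel) (by decide +kernel)

theorem f9941 : C.T (v3 C) [16, 48, 59, 107, 114] (v18 C) [10, 31, 63, 75, 106, 110, 111] :=
  C.conv (f9221 C) (f9279 C) (f9813 C) _ [144, 158, 169, 174] _ (by decide +kernel) (by decide +kernel) (by decide +kernel)

theorem f9942 : C.T (v18 C) [10, 31, 63, 75, 106, 110, 111] (v3 C) [16, 48, 59, 107, 114] :=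
  C.flip (f9941 C)

theorem f9943 : C.T (v17 C) [4, 34, 53, 79, 123] (v18 C) [23, 35, 57, 81, 97, 115] :=
  C.closeT (p := (v3 C)) (pu := [13, 29, 55, 77, 99, 112])
    (C.pT (f9939 C)
    (C.pH [8, 30, 65, 84, 94, 117] [16, 40, 59, 78, 97, 116] (by decide +kernel)
    (C.pT (f9940 C)
    (C.pH [26, 38, 54, 89, 90, 113] [4, 34, 53, 79, 123] (by decide +kernel) (C.pNil _ _)))))
    (C.pH [8, 30, 65, 84, 94, 117] [10, 31, 63, 75, 106, 110, 111] (by decide +kernel)
    (C.pT (f9942 C)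
    (C.pH [26, 38, 54, 89, 90, 113] [13, 29, 55, 77, 99, 112] (by decide +kernel) (C.pNil _ _))))
    (C.loop_of_one (relLoop1 C) _ _)

theorem f9944 : C.T (v18 C) [23, 35, 57, 81, 97, 115] (v17 C) [4, 34, 53, 79, 123] :=
  C.flip (f9943 C)

theorem f9945 : C.T (v3 C) [23, 37, 55, 71, 106, 109, 119] (v3 C) [18, 33, 49, 89, 108, 113] :=
  C.conv (f374 C) (f376 C) (f376 C) _ [137, 149, 164, 171, 178] _ (by decide +kernel) (by decide +kernel) (by decide +kernel)

theorem f9946 : C.S (v3 C) [8, 29, 61, 75, 96, 110, 111] :=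
  C.stMul (f353 C) (f9420 C) _ (by decide +kernel)

theorem f9947 : C.T (v3 C) [4, 30, 84, 90, 110, 125] (v18 C) [12, 29, 50, 88, 102, 109, 112] :=
  C.conv (f8223 C) (f8361 C) (f9946 C) _ [135, 163, 170, 175] _ (by decide +kernel) (by decide +kernel) (by decide +kernel)

theorem f9948 : C.T (v3 C) [13, 35, 67, 106, 109, 124] (v18 C) [8, 43, 68, 74, 101, 109, 125] :=
  C.conv (f8165 C) (f8200 C) (f331 C) _ [128, 150, 165, 178] _ (by decide +kernel) (by decide +kernel) (by decide +kernel)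

theorem f9949 : C.T (v18 C) [8, 43, 68, 74, 101, 109, 125] (v3 C) [13, 35, 67, 106, 109, 124] :=
  C.flip (f9948 C)

theorem f9950 : C.T (v18 C) [14, 39, 50, 84, 92, 110, 123] (v18 C) [27, 57, 81, 100, 110, 112] :=
  C.closeT (p := (v3 C)) (pu := [23, 37, 55, 71, 106, 109, 119])
    (C.pT (f9945 C)
    (C.pH [8, 30, 65, 84, 94, 117] [4, 30, 84, 90, 110, 125] (by decide +kernel)
    (C.pT (f9947 C)
    (C.pH [26, 38, 54, 89, 90, 113] [14, 39, 50, 84, 92, 110, 123] (by decide +kernel) (C.pNil _ _)))))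
    (C.pH [8, 30, 65, 84, 94, 117] [8, 43, 68, 74, 101, 109, 125] (by decide +kernel)
    (C.pT (f9949 C)
    (C.pH [26, 38, 54, 89, 90, 113] [23, 37, 55, 71, 106, 109, 119] (by decide +kernel) (C.pNil _ _))))
    (C.loop_of_one (relLoop1 C) _ _)

theorem f9954 : C.T (v3 C) [12, 37, 68, 86, 107, 109, 124] (v3 C) [6, 44, 60, 85, 108, 114] :=
  C.conv (f383 C) (f386 C) (f386 C) _ [138, 153, 164, 172] _ (by decide +kernel) (by decide +kernel) (by decide +kernel)

theorem f9955 : C.S (v3 C) [19, 30, 60, 72, 107, 110, 116] :=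
  C.stMul (f331 C) (f335 C) _ (by decide +kernel)

theorem f9956 : C.S (v3 C) [26, 29, 49, 97, 123] :=
  C.stMul (f335 C) (f9955 C) _ (by decide +kernel)

theorem f9957 : C.T (v3 C) [13, 29, 69, 77, 92, 109, 113] (v18 C) [9, 27, 66, 86, 98, 123] :=
  C.conv (f6888 C) (f7333 C) (f9956 C) _ [126, 159, 169, 173, 177] _ (by decide +kernel) (by decide +kernel) (by decide +kernel)

theorem f9958 : C.S (v3 C) [7, 29, 51, 83, 103, 109, 117] :=
  C.stMul (f335 C) (f335 C) _ (by decide +kernel)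

theorem f9959 : C.S (v3 C) [10, 48, 60, 84, 100, 110, 123] :=
  C.stMul (f353 C) (f9958 C) _ (by decide +kernel)

theorem f9960 : C.S (v3 C) [5, 60, 81, 94, 109, 125] :=
  C.stMul (f331 C) (f9959 C) _ (by decide +kernel)

theorem f9961 : C.S (v3 C) [17, 28, 66, 83, 91, 110, 125] :=
  C.stMul (f335 C) (f9960 C) _ (by decide +kernel)

theorem f9962 : C.T (v3 C) [24, 31, 57, 77, 104, 110] (v18 C) [6, 28, 65, 104, 109, 123] :=
  C.conv (f6888 C) (f7333 C) (f9961 C) _ [131, 154, 167, 171, 177] _ (by decide +kernel) (by decide +kernel) (by decide +kernel)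

theorem f9963 : C.T (v18 C) [6, 28, 65, 104, 109, 123] (v3 C) [24, 31, 57, 77, 104, 110] :=
  C.flip (f9962 C)

theorem f9964 : C.T (v18 C) [22, 35, 58, 76, 105, 110, 123] (v18 C) [22, 68, 87, 90, 110, 120] :=
  C.closeT (p := (v3 C)) (pu := [12, 37, 68, 86, 107, 109, 124])
    (C.pT (f9954 C)
    (C.pH [8, 30, 65, 84, 94, 117] [13, 29, 69, 77, 92, 109, 113] (by decide +kernel)
    (C.pT (f9957 C)
    (C.pH [26, 38, 54, 89, 90, 113] [22, 35, 58, 76, 105, 110, 123] (by decide +kernel) (C.pNil _ _)))))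
    (C.pH [8, 30, 65, 84, 94, 117] [6, 28, 65, 104, 109, 123] (by decide +kernel)
    (C.pT (f9963 C)
    (C.pH [26, 38, 54, 89, 90, 113] [12, 37, 68, 86, 107, 109, 124] (by decide +kernel) (C.pNil _ _))))
    (C.loop_of_one (relLoop1 C) _ _)

theorem f9967 : C.T (v3 C) [5, 46, 66, 85, 90, 119] (v3 C) [24, 29, 49, 86, 98, 109, 115] :=
  C.conv (f383 C) (f386 C) (f386 C) _ [134, 150, 166, 176, 178] _ (by decide +kernel) (by decide +kernel) (by decide +kernel)

theorem f9968 : C.S (v3 C) [20, 42, 68, 89, 99] :=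
  C.stMul (f335 C) (f353 C) _ (by decide +kernel)

theorem f9969 : C.S (v3 C) [7, 59, 76, 107, 120] :=
  C.stMul (f328 C) (f9968 C) _ (by decide +kernel)

theorem f9970 : C.S (v3 C) [10, 27, 53, 86, 103, 122] :=
  C.stMul (f353 C) (f9969 C) _ (by decide +kernel)

theorem f9971 : C.T (v3 C) [16, 47, 59, 73, 95, 109, 116] (v18 C) [24, 28, 49, 73, 104, 110, 118] :=
  C.conv (f6888 C) (f7333 C) (f9970 C) _ [147, 154, 166, 172] _ (by decide +kernel) (by decide +kernel) (by decide +kernel)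

theorem f9972 : C.T (v3 C) [14, 44, 53, 78, 105, 111] (v18 C) [6, 36, 50, 80, 90, 110, 116] :=
  C.conv (f9184 C) (f9232 C) (f9566 C) _ [135, 160, 164, 178] _ (by decide +kernel) (by decide +kernel) (by decide +kernel)

theorem f9973 : C.T (v18 C) [6, 36, 50, 80, 90, 110, 116] (v3 C) [14, 44, 53, 78, 105, 111] :=
  C.flip (f9972 C)

theorem f9974 : C.T (v18 C) [12, 34, 65, 73, 97, 110, 116] (v18 C) [22, 31, 65, 88, 92, 109, 112] :=
  C.closeT (p := (v3 C)) (pu := [5, 46, 66, 85, 90, 119])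
    (C.pT (f9967 C)
    (C.pH [8, 30, 65, 84, 94, 117] [16, 47, 59, 73, 95, 109, 116] (by decide +kernel)
    (C.pT (f9971 C)
    (C.pH [26, 38, 54, 89, 90, 113] [12, 34, 65, 73, 97, 110, 116] (by decide +kernel) (C.pNil _ _)))))
    (C.pH [8, 30, 65, 84, 94, 117] [6, 36, 50, 80, 90, 110, 116] (by decide +kernel)
    (C.pT (f9973 C)
    (C.pH [26, 38, 54, 89, 90, 113] [5, 46, 66, 85, 90, 119] (by decide +kernel) (C.pNil _ _))))
    (C.loop_of_one (relLoop1 C) _ _)

theorem f9975 : C.T (v18 C) [22, 31, 65, 88, 92, 109, 112] (v18 C) [12, 34, 65, 73, 97, 110, 116] :=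
  C.flip (f9974 C)

theorem f9976 : C.T (v3 C) [6, 29, 67, 95, 110, 125] (v3 C) [19, 37, 56, 87, 107, 110, 114] :=
  C.conv (f383 C) (f386 C) (f386 C) _ [140, 154, 167, 174, 177] _ (by decide +kernel) (by decide +kernel) (by decide +kernel)

theorem f9977 : C.S (v3 C) [13, 33, 57, 88, 93, 110, 119] :=
  C.stMul (f331 C) (f7361 C) _ (by decide +kernel)

theorem f9978 : C.T (v3 C) [26, 39, 68, 81, 99, 110, 112] (v17 C) [20, 29, 58, 86, 95, 121] :=
  C.conv (f6814 C) (f7361 C) (f9977 C) _ [133, 160, 169] _ (by decide +kernel) (by decide +kernel) (by decide +kernel)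

theorem f9979 : C.S (v3 C) [19, 31, 52, 79, 98, 122] :=
  C.stMul (f328 C) (f9448 C) _ (by decide +kernel)

theorem f9980 : C.T (v3 C) [21, 44, 61, 72, 95, 110, 114] (v18 C) [21, 28, 56, 87, 104, 110] :=
  C.conv (f8216 C) (f8435 C) (f9979 C) _ [132, 154, 173] _ (by decide +kernel) (by decide +kernel) (by decide +kernel)

theorem f9981 : C.T (v18 C) [21, 28, 56, 87, 104, 110] (v3 C) [21, 44, 61, 72, 95, 110, 114] :=
  C.flip (f9980 C)

theorem f9982 : C.T (v17 C) [15, 43, 49, 80, 101, 122] (v18 C) [12, 27, 65, 73, 90, 109, 118] :=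
  C.closeT (p := (v3 C)) (pu := [6, 29, 67, 95, 110, 125])
    (C.pT (f9976 C)
    (C.pH [8, 30, 65, 84, 94, 117] [26, 39, 68, 81, 99, 110, 112] (by decide +kernel)
    (C.pT (f9978 C)
    (C.pH [26, 38, 54, 89, 90, 113] [15, 43, 49, 80, 101, 122] (by decide +kernel) (C.pNil _ _)))))
    (C.pH [8, 30, 65, 84, 94, 117] [21, 28, 56, 87, 104, 110] (by decide +kernel)
    (C.pT (f9981 C)
    (C.pH [26, 38, 54, 89, 90, 113] [6, 29, 67, 95, 110, 125] (by decide +kernel) (C.pNil _ _))))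
    (C.loop_of_one (relLoop1 C) _ _)

theorem f9983 : C.T (v18 C) [12, 27, 65, 73, 90, 109, 118] (v17 C) [15, 43, 49, 80, 101, 122] :=
  C.flip (f9982 C)

theorem f9984 : C.T (v3 C) [8, 39, 63, 88, 98, 109] (v3 C) [28, 69, 81, 91, 110, 113] :=
  C.conv (f383 C) (f386 C) (f386 C) _ [146, 150, 170, 175, 178] _ (by decide +kernel) (by decide +kernel) (by decide +kernel)

theorem f9985 : C.S (v3 C) [13, 45, 62, 78, 97, 110, 120] :=
  C.stMul (f328 C) (f9404 C) _ (by decide +kernel)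

theorem f9986 : C.S (v3 C) [8, 44, 66, 72, 107, 109, 116] :=
  C.stMul (f331 C) (f9985 C) _ (by decide +kernel)

theorem f9987 : C.T (v3 C) [8, 36, 51, 77, 102, 109, 117] (v18 C) [20, 47, 87, 90, 110, 122] :=
  C.conv (f9221 C) (f9279 C) (f9986 C) _ [148, 155, 168, 175] _ (by decide +kernel) (by decide +kernel) (by decide +kernel)

theorem f9988 : C.S (v3 C) [18, 35, 57, 82, 93, 110, 115] :=
  C.stMul (f353 C) (f331 C) _ (by decide +kernel)

theorem f9989 : C.S (v3 C) [6, 45, 53, 79, 94, 110, 115] :=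
  C.stMul (f335 C) (f9988 C) _ (by decide +kernel)

theorem f9990 : C.S (v3 C) [26, 27, 69, 86, 106, 110, 119] :=
  C.stMul (f353 C) (f9989 C) _ (by decide +kernel)

theorem f9991 : C.S (v3 C) [6, 49, 86, 91, 110, 112] :=
  C.stMul (f331 C) (f9990 C) _ (by decide +kernel)

theorem f9992 : C.T (v3 C) [5, 32, 50, 86, 103, 119] (v18 C) [6, 28, 69, 86, 98, 113] :=
  C.conv (f6902 C) (f7285 C) (f9991 C) _ [148, 153, 178] _ (by decide +kernel) (by decide +kernel) (by decide +kernel)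

theorem f9993 : C.T (v18 C) [6, 28, 69, 86, 98, 113] (v3 C) [5, 32, 50, 86, 103, 119] :=
  C.flip (f9992 C)

theorem f9994 : C.T (v18 C) [15, 41, 67, 78, 95, 121] (v18 C) [22, 54, 85, 106, 110, 125] :=
  C.closeT (p := (v3 C)) (pu := [8, 39, 63, 88, 98, 109])
    (C.pT (f9984 C)
    (C.pH [8, 30, 65, 84, 94, 117] [8, 36, 51, 77, 102, 109, 117] (by decide +kernel)
    (C.pT (f9987 C)
    (C.pH [26, 38, 54, 89, 90, 113] [15, 41, 67, 78, 95, 121] (by decide +kernel) (C.pNil _ _)))))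
    (C.pH [8, 30, 65, 84, 94, 117] [6, 28, 69, 86, 98, 113] (by decide +kernel)
    (C.pT (f9993 C)
    (C.pH [26, 38, 54, 89, 90, 113] [8, 39, 63, 88, 98, 109] (by decide +kernel) (C.pNil _ _))))
    (C.loop_of_one (relLoop1 C) _ _)

theorem f9998 : C.T (v3 C) [14, 33, 61, 78, 102, 110, 118] (v3 C) [13, 34, 68, 79, 95, 110, 118] :=
  C.conv (f383 C) (f386 C) (f386 C) _ [142, 163, 167, 173, 177] _ (by decide +kernel) (by decide +kernel) (by decide +kernel)

theorem f9999 : C.S (v3 C) [14, 48, 51, 82, 94, 110, 111] :=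
  C.stMul (f331 C) (f8126 C) _ (by decide +kernel)

theorem f10000 : C.T (v3 C) [11, 29, 54, 88, 91, 110, 121] (v18 C) [12, 35, 55, 79, 100, 109, 124] :=
  C.conv (f7327 C) (f7806 C) (f9999 C) _ [126, 165, 175] _ (by decide +kernel) (by decide +kernel) (by decide +kernel)

theorem f10001 : C.S (v3 C) [18, 35, 57, 82, 93, 110, 115] :=
  C.stMul (f353 C) (f331 C) _ (by decide +kernel)

theorem f10002 : C.S (v3 C) [36, 68, 80, 97, 109, 111] :=
  C.stMul (f331 C) (f10001 C) _ (by decide +kernel)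

theorem f10003 : C.T (v3 C) [12, 35, 66, 76, 95, 113] (v18 C) [46, 64, 72, 97, 109, 121] :=
  C.conv (f6911 C) (f8231 C) (f10002 C) _ [143, 160, 169, 176, 178] _ (by decide +kernel) (by decide +kernel) (by decide +kernel)

theorem f10004 : C.T (v18 C) [46, 64, 72, 97, 109, 121] (v3 C) [12, 35, 66, 76, 95, 113] :=
  C.flip (f10003 C)

theorem f10005 : C.T (v18 C) [14, 33, 59, 86, 110, 117] (v18 C) [8, 37, 57, 85, 100, 109, 114] :=
  C.closeT (p := (v3 C)) (pu := [14, 33, 61, 78, 102, 110, 118])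
    (C.pT (f9998 C)
    (C.pH [8, 30, 65, 84, 94, 117] [11, 29, 54, 88, 91, 110, 121] (by decide +kernel)
    (C.pT (f10000 C)
    (C.pH [26, 38, 54, 89, 90, 113] [14, 33, 59, 86, 110, 117] (by decide +kernel) (C.pNil _ _)))))
    (C.pH [8, 30, 65, 84, 94, 117] [46, 64, 72, 97, 109, 121] (by decide +kernel)
    (C.pT (f10004 C)
    (C.pH [26, 38, 54, 89, 90, 113] [14, 33, 61, 78, 102, 110, 118] (by decide +kernel) (C.pNil _ _))))
    (C.loop_of_one (relLoop1 C) _ _)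

theorem f10006 : C.T (v18 C) [8, 37, 57, 85, 100, 109, 114] (v18 C) [14, 33, 59, 86, 110, 117] :=
  C.flip (f10005 C)

theorem f10007 : C.T (v3 C) [14, 29, 50, 87, 108, 110, 113] (v3 C) [23, 38, 57, 70, 99, 120] :=
  C.conv (f383 C) (f386 C) (f386 C) _ [135, 161, 166, 175, 177] _ (by decide +kernel) (by decide +kernel) (by decide +kernel)

theorem f10008 : C.S (v3 C) [10, 28, 62, 78, 98, 110, 120] :=
  C.stMul (f328 C) (f335 C) _ (by decide +kernel)

theorem f10009 : C.S (v3 C) [5, 30, 57, 77, 122] :=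
  C.stMul (f331 C) (f10008 C) _ (by decide +kernel)

theorem f10010 : C.T (v3 C) [10, 42, 52, 78, 102, 109, 117] (v18 C) [10, 41, 59, 74, 91, 114] :=
  C.conv (f6916 C) (f7402 C) (f10009 C) _ [140, 162, 168, 171, 178] _ (by decide +kernel) (by decide +kernel) (by decide +kernel)

theorem f10011 : C.S (v3 C) [18, 35, 57, 82, 93, 110, 115] :=
  C.stMul (f353 C) (f331 C) _ (by decide +kernel)

theorem f10012 : C.S (v3 C) [36, 68, 80, 97, 109, 111] :=
  C.stMul (f331 C) (f10011 C) _ (by decide +kernel)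

theorem f10013 : C.T (v3 C) [12, 33, 81, 94, 110] (v17 C) [26, 30, 84, 98, 113] :=
  C.conv (f6822 C) (f7297 C) (f10012 C) _ [127, 160, 165, 175, 178] _ (by decide +kernel) (by decide +kernel) (by decide +kernel)

theorem f10014 : C.T (v17 C) [26, 30, 84, 98, 113] (v3 C) [12, 33, 81, 94, 110] :=
  C.flip (f10013 C)

theorem f10015 : C.T (v18 C) [21, 45, 55, 80, 108, 120] (v17 C) [19, 47, 65, 79, 104, 109, 113] :=
  C.closeT (p := (v3 C)) (pu := [14, 29, 50, 87, 108, 110, 113])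
    (C.pT (f10007 C)
    (C.pH [8, 30, 65, 84, 94, 117] [10, 42, 52, 78, 102, 109, 117] (by decide +kernel)
    (C.pT (f10010 C)
    (C.pH [26, 38, 54, 89, 90, 113] [21, 45, 55, 80, 108, 120] (by decide +kernel) (C.pNil _ _)))))
    (C.pH [8, 30, 65, 84, 94, 117] [26, 30, 84, 98, 113] (by decide +kernel)
    (C.pT (f10014 C)
    (C.pH [26, 38, 54, 89, 90, 113] [14, 29, 50, 87, 108, 110, 113] (by decide +kernel) (C.pNil _ _))))
    (C.loop_of_one (relLoop1 C) _ _)

theorem f10016 : C.T (v17 C) [19, 47, 65, 79, 104, 109, 113] (v18 C) [21, 45, 55, 80, 108, 120] :=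
  C.flip (f10015 C)

theorem f10017 : C.T (v3 C) [17, 28, 54, 78, 92, 109, 117] (v3 C) [9, 44, 66, 83, 101, 110, 114] :=
  C.conv (f383 C) (f386 C) (f386 C) _ [150, 164, 176, 177] _ (by decide +kernel) (by decide +kernel) (by decide +kernel)

theorem f10018 : C.S (v3 C) [7, 29, 51, 83, 103, 109, 117] :=
  C.stMul (f335 C) (f335 C) _ (by decide +kernel)

theorem f10019 : C.S (v3 C) [10, 48, 60, 84, 100, 110, 123] :=
  C.stMul (f353 C) (f10018 C) _ (by decide +kernel)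

theorem f10020 : C.S (v3 C) [11, 33, 69, 85, 97, 109, 117] :=
  C.stMul (f335 C) (f10019 C) _ (by decide +kernel)

theorem f10021 : C.T (v3 C) [18, 46, 73, 93, 118] (v18 C) [12, 29, 49, 81, 97, 118] :=
  C.conv (f6902 C) (f7285 C) (f10020 C) _ [137, 163, 170, 171, 177] _ (by decide +kernel) (by decide +kernel) (by decide +kernel)

theorem f10022 : C.S (v3 C) [20, 56, 88, 105, 110, 120] :=
  C.stMul (f331 C) (f331 C) _ (by decide +kernel)

theorem f10023 : C.S (v3 C) [18, 48, 67, 88, 96, 109, 120] :=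
  C.stMul (f331 C) (f10022 C) _ (by decide +kernel)

theorem f10024 : C.T (v3 C) [19, 46, 63, 79, 96, 116] (v18 C) [16, 46, 51, 83, 107, 109, 118] :=
  C.conv (f9432 C) (f9640 C) (f10023 C) _ [143, 151, 164, 176, 177] _ (by decide +kernel) (by decide +kernel) (by decide +kernel)

theorem f10025 : C.T (v18 C) [16, 46, 51, 83, 107, 109, 118] (v3 C) [19, 46, 63, 79, 96, 116] :=
  C.flip (f10024 C)

theorem f10026 : C.T (v18 C) [14, 39, 69, 70, 103, 109, 112] (v18 C) [24, 38, 64, 81, 108, 110, 115] :=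
  C.closeT (p := (v3 C)) (pu := [17, 28, 54, 78, 92, 109, 117])
    (C.pT (f10017 C)
    (C.pH [8, 30, 65, 84, 94, 117] [18, 46, 73, 93, 118] (by decide +kernel)
    (C.pT (f10021 C)
    (C.pH [26, 38, 54, 89, 90, 113] [14, 39, 69, 70, 103, 109, 112] (by decide +kernel) (C.pNil _ _)))))
    (C.pH [8, 30, 65, 84, 94, 117] [16, 46, 51, 83, 107, 109, 118] (by decide +kernel)
    (C.pT (f10025 C)
    (C.pH [26, 38, 54, 89, 90, 113] [17, 28, 54, 78, 92, 109, 117] (by decide +kernel) (C.pNil _ _))))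
    (C.loop_of_one (relLoop1 C) _ _)

theorem f10027 : C.T (v18 C) [24, 38, 64, 81, 108, 110, 115] (v18 C) [14, 39, 69, 70, 103, 109, 112] :=
  C.flip (f10026 C)

theorem f10028 : C.T (v3 C) [23, 46, 60, 76, 98, 109, 115] (v3 C) [11, 35, 66, 81, 106, 119] :=
  C.conv (f396 C) (f376 C) (f376 C) _ [139, 163, 167, 172] _ (by decide +kernel) (by decide +kernel) (by decide +kernel)

theorem f10029 : C.S (v3 C) [10, 48, 60, 84, 100, 110, 123] :=
  C.stMul (f353 C) (f9353 C) _ (by decide +kernel)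

theorem f10030 : C.T (v3 C) [7, 66, 81, 106, 119] (v18 C) [10, 58, 75, 106, 111] :=
  C.conv (f9184 C) (f9232 C) (f10029 C) _ [147, 162, 169, 172, 177] _ (by decide +kernel) (by decide +kernel) (by decide +kernel)

theorem f10031 : C.S (v3 C) [17, 42, 51, 85, 96, 109, 120] :=
  C.stMul (f331 C) (f9867 C) _ (by decide +kernel)

theorem f10032 : C.T (v3 C) [13, 44, 49, 70, 102, 110, 116] (v18 C) [25, 46, 76, 90, 117] :=
  C.conv (f6888 C) (f7333 C) (f10031 C) _ [146, 156, 174, 177] _ (by decide +kernel) (by decide +kernel) (by decide +kernel)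

theorem f10033 : C.T (v18 C) [25, 46, 76, 90, 117] (v3 C) [13, 44, 49, 70, 102, 110, 116] :=
  C.flip (f10032 C)

theorem f10034 : C.T (v18 C) [21, 58, 76, 95, 109, 118] (v18 C) [4, 32, 76, 90, 117] :=
  C.closeT (p := (v3 C)) (pu := [23, 46, 60, 76, 98, 109, 115])
    (C.pT (f10028 C)
    (C.pH [8, 30, 65, 84, 94, 117] [7, 66, 81, 106, 119] (by decide +kernel)
    (C.pT (f10030 C)
    (C.pH [26, 38, 54, 89, 90, 113] [21, 58, 76, 95, 109, 118] (by decide +kernel) (C.pNil _ _)))))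
    (C.pH [8, 30, 65, 84, 94, 117] [25, 46, 76, 90, 117] (by decide +kernel)
    (C.pT (f10033 C)
    (C.pH [26, 38, 54, 89, 90, 113] [23, 46, 60, 76, 98, 109, 115] (by decide +kernel) (C.pNil _ _))))
    (C.loop_of_one (relLoop1 C) _ _)

theorem f10035 : C.T (v18 C) [4, 32, 76, 90, 117] (v18 C) [21, 58, 76, 95, 109, 118] :=
  C.flip (f10034 C)

theorem f10036 : C.T (v3 C) [16, 41, 56, 80, 110, 114] (v4 C) [9, 32, 61, 88, 98, 111] :=
  C.conv (f808 C) (f938 C) (f938 C) _ [132, 150, 167, 173, 177] _ (by decide +kernel) (by decide +kernel) (by decide +kernel)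

theorem f10037 : C.S (v4 C) [17, 29, 60, 75, 100, 110, 113] :=
  C.stMul (f407 C) (f7628 C) _ (by decide +kernel)

theorem f10038 : C.S (v4 C) [12, 44, 50, 85, 106, 124] :=
  C.stMul (f421 C) (f10037 C) _ (by decide +kernel)

theorem f10039 : C.T (v4 C) [18, 27, 54, 84, 112] (v18 C) [20, 28, 69, 80, 105, 110, 123] :=
  C.conv (f7575 C) (f7630 C) (f10038 C) _ [139, 159, 166, 173] _ (by decide +kernel) (by decide +kernel) (by decide +kernel)

theorem f10040 : C.S (v3 C) [6, 43, 52, 78, 106, 118] :=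
  C.stMul (f328 C) (f9606 C) _ (by decide +kernel)

theorem f10041 : C.S (v3 C) [26, 32, 53, 86, 108, 110, 118] :=
  C.stMul (f331 C) (f10040 C) _ (by decide +kernel)

theorem f10042 : C.S (v3 C) [4, 31, 55, 75, 100, 109, 112] :=
  C.stMul (f353 C) (f10041 C) _ (by decide +kernel)

end CfsgLib.J4Index
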