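import Cfsg.Agent.Lib.J4Index.Cover

/-!
# The size of an orbit from a chain of elements fixing the point
-/

set_option autoImplicit false
set_option maxRecDepth 100000

namespace CfsgLib.J4Index

open Cfsg CfsgLib.Golay CfsgLib.J4P
open CfsgLib.HNxyz (evalW evalW_nil evalW_cons)

/-- The check of a chain: one level is a point and elements with distinct images of it. -/
def chainOk : List ℕ → List (ℕ × List (List ℕ)) → Bool
  | _, [] => true
  | fixed, (pt, reps) :: Ls =>
    Nat.blt pt 24 &&
    (reps.all fun w => okW w && fixed.all fun b => Nat.blt b 24 && Nat.beq (img w b) b) &&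
    decide (reps.map fun w => img w pt).Nodup &&
    chainOk (pt :: fixed) Ls

/-- The bound of a chain. -/
def chainSize : List (ℕ × List (List ℕ)) → ℕ
  | [] => 1
  | (_, reps) :: Ls => reps.length * chainSize Ls

/-- The elements fixing the listed points. -/
noncomputable def fixPts (l : List ℕ) : Subgroup MG where
  carrier := {m | ∀ q : GolayPt, (ptEquiv q).val ∈ l → toPerm m q = q}
  one_mem' := fun q _ => by rw [map_one]; rfl
  mul_mem' := fun {u v} hu hv q hq => by rw [map_mul, Equiv.Perm.mul_apply, hv q hq, hu q hq]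
  inv_mem' := fun {u} hu q hq => by rw [map_inv, Equiv.Perm.inv_eq_iff_eq, hu q hq]

theorem mem_fixPts {l : List ℕ} {m : MG} :
    m ∈ fixPts l ↔ ∀ q : GolayPt, (ptEquiv q).val ∈ l → toPerm m q = q := Iff.rfl

/-- The element of a word. -/
def mgW (w : List ℕ) : MG := evalW (eltL [ga, gb]) (flat w)

theorem mgW_pt {w : List ℕ} (h : okW w = true) (q : GolayPt) :
    (ptEquiv (toPerm (mgW w) q)).val = img w (ptEquiv q).val := by
  rw [mgW, toPerm_eval (flat_lt h), img_eq h (ptEquiv q).isLt]

theorem chain_bound (K : Subgroup MG) : ∀ {fixed : List ℕ} {Ls : List (ℕ × List (List ℕ))},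
    chainOk fixed Ls = true → (∀ L ∈ Ls, ∀ w ∈ L.2, mgW w ∈ K) →
      chainSize Ls ≤ Nat.card ↥(K ⊓ fixPts fixed)
  | fixed, [], _, _ => by
    haveI := card_mg.1
    exact Nat.card_pos
  | fixed, (x, reps) :: Ls, h, hK => by
    haveI := card_mg.1
    simp only [chainOk, Bool.and_eq_true, Nat.blt_eq, List.all_eq_true, Nat.beq_eq,
      decide_eq_true_eq] at h
    obtain ⟨⟨⟨hx, hreps⟩, hnd⟩, hrest⟩ := h
    have ih := chain_bound K hrest fun L hL => hK L (List.mem_cons_of_mem _ hL)
    set A := K ⊓ fixPts fixed with hA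
    set B := K ⊓ fixPts (x :: fixed) with hB
    have hmem : ∀ i : Fin reps.length, mgW reps[i] ∈ A := fun i => by
      obtain ⟨hok, hfix⟩ := hreps _ (List.getElem_mem i.2)
      refine Subgroup.mem_inf.2 ⟨hK _ List.mem_cons_self _ (List.getElem_mem i.2), fun q hq => ?_⟩
      exact ptEquiv.injective (Fin.ext ((mgW_pt hok q).trans (hfix _ hq).2))
    let F : Fin reps.length × B → A := fun p => ⟨mgW reps[p.1] * p.2.1,
      mul_mem (hmem p.1) (Subgroup.mem_inf.2 ⟨(Subgroup.mem_inf.1 p.2.2).1,
        fun q hq => (Subgroup.mem_inf.1 p.2.2).2 q (List.mem_cons_of_mem _ hq)⟩)⟩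
    have hF : Function.Injective F := by
      rintro ⟨i, u⟩ ⟨j, v⟩ e
      have e' : mgW reps[i] * u.1 = mgW reps[j] * v.1 := congrArg Subtype.val e
      have hq : ∀ w : B, toPerm w.1 (pt x) = pt x := fun w =>
        (Subgroup.mem_inf.1 w.2).2 _ (by rw [ptEquiv_pt hx]; exact List.mem_cons_self)
      have e2 := congrArg (fun m => (ptEquiv (toPerm m (pt x))).val) e'
      simp only [map_mul, Equiv.Perm.mul_apply, hq, Fin.getElem_fin] at e2
      rw [mgW_pt (hreps _ (List.getElem_mem i.2)).1, mgW_pt (hreps _ (List.getElem_mem j.2)).1,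
        ptEquiv_pt hx] at e2
      obtain rfl : i = j := by
        refine Fin.ext ((hnd.getElem_inj_iff (hi := by simp) (hj := by simp)).1 ?_)
        simpa using e2
      obtain rfl : u = v := Subtype.ext (mul_left_cancel e')
      rfl
    have := Nat.card_le_card_of_injective F hF
    rw [Nat.card_prod, Nat.card_eq_fintype_card (α := Fin reps.length), Fintype.card_fin] at this
    exact (Nat.mul_le_mul_left _ ih).trans this

variable {G X : Type} [Group G] [MulAction G X] (C : Ctx G X)

/-- The orbit of a point. -/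
def orbSet (p : X) : Set X := {q | ∃ h ∈ C.H, h • p = q}

theorem mgW_toM (w : List ℕ) : toM C.rels (mgW w) = C.W w := by
  rw [mgW, toM_eval, Ctx.W, wv_flat]

theorem orb_bound {p : X} {Ls : List (ℕ × List (List ℕ))} (hok : chainOk [] Ls = true)
    (hS : ∀ L ∈ Ls, ∀ w ∈ L.2, C.S p w) :
    (orbSet C p).Finite ∧ (orbSet C p).ncard * chainSize Ls ≤ 244823040 := by
  haveI := card_mg.1
  let K : Subgroup MG := (MulAction.stabilizer G p).comap (toM C.rels)
  have hK : chainSize Ls ≤ Nat.card K := by
    refine le_trans ?_ (Nat.card_le_card_of_injective (Subgroup.inclusion (inf_le_left : K ⊓ fixPts [] ≤ K))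
      (Subgroup.inclusion_injective _))
    refine chain_bound K hok fun L hL w hw => ?_
    show toM C.rels (mgW w) • p = p
    exact (mgW_toM C w).symm ▸ (hS L hL w hw)
  let f : MG ⧸ K → X := Quotient.lift (fun m => toM C.rels m • p) (fun u v huv => by
    have h : u⁻¹ * v ∈ K := QuotientGroup.leftRel_apply.1 huv
    have h' : toM C.rels (u⁻¹ * v) • p = p := h
    rw [map_mul, map_inv, mul_smul, inv_smul_eq_iff] at h'
    exact h'.symm)
  have hsub : orbSet C p ⊆ Set.range f := by
    rintro q ⟨h, hh, rfl⟩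
    obtain ⟨w, -, rfl⟩ := C.mem_words hh
    exact ⟨(mgW w : MG ⧸ K), congrArg (· • p) (mgW_toM C w)⟩
  refine ⟨(Set.finite_range f).subset hsub, ?_⟩
  have h2 : (orbSet C p).ncard ≤ Nat.card (MG ⧸ K) := by
    refine (Set.ncard_le_ncard hsub (Set.finite_range f)).trans ?_
    rw [← Nat.card_coe_set_eq]
    exact Nat.card_le_card_of_surjective _ Set.rangeFactorization_surjective
  refine le_trans (Nat.mul_le_mul h2 hK) ?_
  rw [← Subgroup.card_eq_card_quotient_mul_card_subgroup, card_mg.2]

end CfsgLib.J4Index
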