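import Cfsg.Agent.Lib.J4Index.Facts18
import Cfsg.Agent.Lib.J4Index.Orbits

/-!
# The live vertices (generated)
-/

set_option autoImplicit false
set_option maxRecDepth 100000
set_option linter.style.longLine false

namespace CfsgLib.J4Index

variable {G X : Type} [Group G] [MulAction G X] (C : Ctx G X)

/-- The vertices of the orbits. -/
def vlist : List X := [v0 C, v1 C, v2 C, v3 C, v4 C, v5 C, v6 C, v7 C, v8 C, v9 C, v10 C, v12 C, v13 C, v14 C, v15 C, v16 C, v17 C, v18 C, v19 C, v20 C]

theorem v0_mem : v0 C ∈ vlist C := List.mem_of_getElem? (i := 0) rfl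

theorem v1_mem : v1 C ∈ vlist C := List.mem_of_getElem? (i := 1) rfl

theorem v2_mem : v2 C ∈ vlist C := List.mem_of_getElem? (i := 2) rfl

theorem v3_mem : v3 C ∈ vlist C := List.mem_of_getElem? (i := 3) rfl

theorem v4_mem : v4 C ∈ vlist C := List.mem_of_getElem? (i := 4) rfl

theorem v5_mem : v5 C ∈ vlist C := List.mem_of_getElem? (i := 5) rfl

theorem v6_mem : v6 C ∈ vlist C := List.mem_of_getElem? (i := 6) rfl

theorem v7_mem : v7 C ∈ vlist C := List.mem_of_getElem? (i := 7) rfl

theorem v8_mem : v8 C ∈ vlist C := List.mem_of_getElem? (i := 8) rfl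

theorem v9_mem : v9 C ∈ vlist C := List.mem_of_getElem? (i := 9) rfl

theorem v10_mem : v10 C ∈ vlist C := List.mem_of_getElem? (i := 10) rfl

theorem v12_mem : v12 C ∈ vlist C := List.mem_of_getElem? (i := 11) rfl

theorem v13_mem : v13 C ∈ vlist C := List.mem_of_getElem? (i := 12) rfl

theorem v14_mem : v14 C ∈ vlist C := List.mem_of_getElem? (i := 13) rfl

theorem v15_mem : v15 C ∈ vlist C := List.mem_of_getElem? (i := 14) rfl

theorem v16_mem : v16 C ∈ vlist C := List.mem_of_getElem? (i := 15) rfl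

theorem v17_mem : v17 C ∈ vlist C := List.mem_of_getElem? (i := 16) rfl

theorem v18_mem : v18 C ∈ vlist C := List.mem_of_getElem? (i := 17) rfl

theorem v19_mem : v19 C ∈ vlist C := List.mem_of_getElem? (i := 18) rfl

theorem v20_mem : v20 C ∈ vlist C := List.mem_of_getElem? (i := 19) rfl

end CfsgLib.J4Index
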