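import Cfsg.Agent.Lib.J4Index.Mathieu
import Cfsg.Agent.Lib.J4Index.MacData

/-!
# Words in the macro letters
-/

set_option autoImplicit false
set_option maxRecDepth 100000

namespace CfsgLib.J4Index

open Cfsg CfsgLib.Golay CfsgLib.J4P
open CfsgLib.HNxyz (evalW evalW_nil evalW_cons)

/-- The image of a point under a macro letter. -/
def pimg (g i : ℕ) : ℕ := (macBig >>> (120 * g + 5 * i)) % 32

/-- The image of a point under a word of macro letters. -/
def img : List ℕ → ℕ → ℕ
  | [], i => i
  | g :: w, i => pimg g (img w i)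

/-- All letters are macro letters. -/
def okW (w : List ℕ) : Bool := w.all fun g => Nat.blt g numMac

/-- The word in x and y of a word of macro letters. -/
def flat (w : List ℕ) : List ℕ := w.flatMap fun g => macW.getD g []

theorem mac_checks : ((List.range numMac).all fun g =>
    ((macW.getD g []).all fun l => Nat.blt l 4) &&
      (List.range 24).all fun i => Nat.beq (pimg g i) (wordImg (macW.getD g []) i)) = true := by
  decide +kernel

theorem okW_iff {w : List ℕ} : okW w = true ↔ ∀ g ∈ w, g < numMac := by
  simp [okW, List.all_eq_true, Nat.blt_eq]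

theorem mac_lt {g : ℕ} (hg : g < numMac) : ∀ l ∈ macW.getD g [], l < 4 := by
  have h := List.all_eq_true.1 mac_checks g (List.mem_range.2 hg)
  simp only [Bool.and_eq_true, List.all_eq_true, Nat.blt_eq] at h
  exact h.1

theorem pimg_eq {g i : ℕ} (hg : g < numMac) (hi : i < 24) :
    pimg g i = wordImg (macW.getD g []) i := by
  have h := List.all_eq_true.1 mac_checks g (List.mem_range.2 hg)
  simp only [Bool.and_eq_true, List.all_eq_true, List.mem_range, Nat.beq_eq] at h
  exact h.2 i hi

theorem flat_lt {w : List ℕ} (h : okW w = true) : ∀ l ∈ flat w, l < 4 := by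
  intro l hl
  obtain ⟨g, hg, hl⟩ := List.mem_flatMap.1 hl
  exact mac_lt (okW_iff.1 h g hg) l hl

theorem wordImg_lt : ∀ {w : List ℕ}, (∀ l ∈ w, l < 4) → ∀ {i : ℕ}, i < 24 → wordImg w i < 24
  | [], _, _, hi => hi
  | g :: w, h, _, hi => validL_getD_lt (valid_let (by have := h g List.mem_cons_self; omega))
      (wordImg_lt (fun a ha => h a (List.mem_cons_of_mem _ ha)) hi)

theorem wordImg_append : ∀ (u v : List ℕ) (i : ℕ), wordImg (u ++ v) i = wordImg u (wordImg v i)
  | [], _, _ => rfl
  | g :: u, v, i => by rw [List.cons_append, wordImg, wordImg_append u v, wordImg]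

theorem img_eq : ∀ {w : List ℕ}, okW w = true → ∀ {i : ℕ}, i < 24 →
    img w i = wordImg (flat w) i
  | [], _, _, _ => rfl
  | g :: w, h, i, hi => by
    have hw : okW w = true := okW_iff.2 fun a ha => okW_iff.1 h a (List.mem_cons_of_mem _ ha)
    rw [img, img_eq hw hi, pimg_eq (okW_iff.1 h g List.mem_cons_self)
      (wordImg_lt (flat_lt hw) hi)]
    show _ = wordImg (macW.getD g [] ++ flat w) i
    rw [wordImg_append]

theorem img_append : ∀ (u v : List ℕ) (i : ℕ), img (u ++ v) i = img u (img v i)
  | [], _, _ => rfl
  | g :: u, v, i => by rw [List.cons_append, img, img_append u v, img]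

theorem img_lt {w : List ℕ} (h : okW w = true) {i : ℕ} (hi : i < 24) : img w i < 24 :=
  img_eq h hi ▸ wordImg_lt (flat_lt h) hi

/-- The test that two words give the same element. -/
def same (u v : List ℕ) : Bool :=
  okW u && okW v && basePts.all fun i => Nat.beq (img u i) (img v i)

/-- The value of a word of macro letters at two elements. -/
def wv {M : Type*} [Group M] (a b : M) (w : List ℕ) : M :=
  evalW (fun g => evalW (eltL [a, b]) (macW.getD g [])) w

theorem wv_flat {M : Type*} [Group M] (a b : M) : ∀ w : List ℕ,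
    wv a b w = evalW (eltL [a, b]) (flat w)
  | [] => rfl
  | g :: w => by
    rw [flat, List.flatMap_cons, evalW_append, ← flat, ← wv_flat a b w]
    rfl

theorem eq_of_same {M : Type*} [Group M] {a b : M} (h : BaseRels a b) {u v : List ℕ}
    (e : same u v = true) : wv a b u = wv a b v := by
  simp only [same, Bool.and_eq_true, List.all_eq_true, Nat.beq_eq] at e
  obtain ⟨⟨hu, hv⟩, hi⟩ := e
  rw [wv_flat, wv_flat]
  refine eq_of_base h (flat_lt hu) (flat_lt hv) fun i hi' => ?_
  have h24 : i < 24 := by
    simp only [basePts, List.mem_cons, List.not_mem_nil, or_false] at hi'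
    omega
  rw [← img_eq hu h24, ← img_eq hv h24]
  exact hi i hi'

/-- The block of a point in a packed list of blocks. -/
def labAt (L i : ℕ) : ℕ := (L >>> (2 * i)) % 4

/-- Points in one block of the fixed trio stay in one block. -/
def LabPres (f : ℕ → ℕ) : Prop :=
  ∀ i < 24, ∀ j < 24, labAt lab0 i = labAt lab0 j → labAt lab0 (f i) = labAt lab0 (f j)

end CfsgLib.J4Index
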