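import Cfsg.Agent.Lib.J4P.Main

/-!
# Equality of words over two elements with the seven relations, read from seven points
-/

set_option autoImplicit false

namespace CfsgLib.J4Index

open Cfsg CfsgLib.Golay CfsgLib.J4P
open CfsgLib.HNxyz (evalW evalW_nil evalW_cons)

/-- The seven relators as elements of a free group. -/
def baseSet : Set (FreeGroup (Fin 2)) :=
  {r | ∃ w ∈ baseRels, r = evalW (eltL [FreeGroup.of 0, FreeGroup.of 1]) w}

/-- The group presented by the seven relators. -/
abbrev MG : Type := PresentedGroup baseSet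

/-- The first generator. -/
def ga : MG := PresentedGroup.of 0

/-- The second generator. -/
def gb : MG := PresentedGroup.of 1

theorem mg_rels : BaseRels ga gb := by
  intro w hw
  have h : PresentedGroup.mk baseSet (evalW (eltL [FreeGroup.of 0, FreeGroup.of 1]) w) = 1 :=
    PresentedGroup.mk_eq_one_iff.2 (Subgroup.subset_normalClosure ⟨w, hw, rfl⟩)
  rw [map_evalW] at h
  exact h

theorem mg_top : Subgroup.closure {ga, gb} = (⊤ : Subgroup MG) := by
  rw [← PresentedGroup.closure_range_of baseSet]
  congr 1
  ext m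
  constructor
  · rintro (rfl | rfl)
    exacts [⟨0, rfl⟩, ⟨1, rfl⟩]
  · rintro ⟨i, rfl⟩
    fin_cases i
    · exact Or.inl rfl
    · exact Or.inr rfl

theorem lift_rels {M : Type*} [Group M] {a b : M} (h : BaseRels a b) :
    ∀ r ∈ baseSet, FreeGroup.lift ![a, b] r = 1 := by
  rintro r ⟨w, hw, rfl⟩
  rw [map_evalW, List.map_cons, List.map_cons, List.map_nil, FreeGroup.lift_apply_of,
    FreeGroup.lift_apply_of]
  exact h w hw

/-- The homomorphism given by two elements with the relations. -/
def toM {M : Type*} [Group M] {a b : M} (h : BaseRels a b) : MG →* M :=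
  PresentedGroup.toGroup (lift_rels h)

theorem toM_eval {M : Type*} [Group M] {a b : M} (h : BaseRels a b) (w : List ℕ) :
    toM h (evalW (eltL [ga, gb]) w) = evalW (eltL [a, b]) w := by
  rw [map_evalW, List.map_cons, List.map_cons, List.map_nil, toM, ga, gb,
    PresentedGroup.toGroup.of, PresentedGroup.toGroup.of]
  rfl

/-- The action on 24 points. -/
noncomputable def toPerm : MG →* Equiv.Perm GolayPt := toM perm_rels

theorem toPerm_range : toPerm.range = M24 ∧ Function.Injective toPerm :=
  structure_thm mg_rels mg_top toPerm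
    (by simp [toPerm, toM, ga, PresentedGroup.toGroup.of])
    (by simp [toPerm, toM, gb, PresentedGroup.toGroup.of])

theorem card_mg : Finite MG ∧ Nat.card MG = 244823040 := by
  have e := Nat.card_congr (MonoidHom.ofInjective toPerm_range.2).toEquiv
  rw [toPerm_range.1, card_M24] at e
  exact ⟨(bound mg_rels mg_top).1, e⟩

/-- The seven points that determine an element. -/
def basePts : List ℕ := [0, 1, 2, 3, 4, 12, 5]

theorem toPerm_eval {w : List ℕ} (hw : ∀ g ∈ w, g < 4) (p : GolayPt) :
    (ptEquiv (toPerm (evalW (eltL [ga, gb]) w) p)).val = wordImg w (ptEquiv p).val := by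
  rw [toPerm, toM_eval]
  exact word_list hw p

theorem eq_in_mg {u v : List ℕ} (hu : ∀ g ∈ u, g < 4) (hv : ∀ g ∈ v, g < 4)
    (h : ∀ i ∈ basePts, wordImg u i = wordImg v i) :
    evalW (eltL [ga, gb]) u = evalW (eltL [ga, gb]) v := by
  refine toPerm_range.2 ?_
  rw [← inv_mul_eq_one]
  refine eq_one_of_base ?_ fun q hq => ?_
  · rw [← toPerm_range.1, ← map_inv, ← map_mul]
    exact ⟨_, rfl⟩
  · rw [Equiv.Perm.mul_apply, Equiv.Perm.inv_eq_iff_eq]
    refine ptEquiv.injective (Fin.ext ?_)
    rw [toPerm_eval hu, toPerm_eval hv]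
    exact (h _ hq).symm

/-- Words with the same images of seven points have the same value. -/
theorem eq_of_base {M : Type*} [Group M] {a b : M} (hab : BaseRels a b) {u v : List ℕ}
    (hu : ∀ g ∈ u, g < 4) (hv : ∀ g ∈ v, g < 4) (h : ∀ i ∈ basePts, wordImg u i = wordImg v i) :
    evalW (eltL [a, b]) u = evalW (eltL [a, b]) v := by
  rw [← toM_eval hab, ← toM_eval hab, eq_in_mg hu hv h]

end CfsgLib.J4Index
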