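import Cfsg.Agent.Lib.J4Index.Trios

/-!
# Checks of the table (generated)
-/

set_option autoImplicit false
set_option maxRecDepth 100000

namespace CfsgLib.J4Index

theorem rows_45 : rowsOk 2880 64 = true := by decide +kernel

theorem rows_46 : rowsOk 2944 64 = true := by decide +kernel

theorem rows_47 : rowsOk 3008 64 = true := by decide +kernel

theorem rows_48 : rowsOk 3072 64 = true := by decide +kernel

theorem rows_49 : rowsOk 3136 64 = true := by decide +kernel

theorem rows_50 : rowsOk 3200 64 = true := by decide +kernel

theorem rows_51 : rowsOk 3264 64 = true := by decide +kernel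

theorem rows_52 : rowsOk 3328 64 = true := by decide +kernel

theorem rows_53 : rowsOk 3392 64 = true := by decide +kernel

theorem rows_54 : rowsOk 3456 64 = true := by decide +kernel

theorem rows_55 : rowsOk 3520 64 = true := by decide +kernel

theorem rows_56 : rowsOk 3584 64 = true := by decide +kernel

theorem rows_57 : rowsOk 3648 64 = true := by decide +kernel

theorem rows_58 : rowsOk 3712 64 = true := by decide +kernel

theorem rows_59 : rowsOk 3776 64 = true := by decide +kernel

end CfsgLib.J4Index
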