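import Cfsg.Agent.Lib.J4Index.Rules
import Cfsg.Agent.Lib.J4Index.TrioData

/-!
# The table of 3795 cosets of the centraliser of t in the group generated by x and y
-/

set_option autoImplicit false
set_option maxRecDepth 100000

namespace CfsgLib.J4Index

open Cfsg CfsgLib.Golay CfsgLib.J4P
open CfsgLib.HNxyz (evalW evalW_nil evalW_cons)
open Ctx (isC)

/-- Equal words have the same images of all points. -/
theorem img_of_same {u v : List ℕ} (e : same u v = true) {i : ℕ} (hi : i < 24) :
    img u i = img v i := by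
  simp only [same, Bool.and_eq_true, List.all_eq_true, Nat.beq_eq] at e
  obtain ⟨⟨hu, hv⟩, h⟩ := e
  have h' : evalW (eltL [ga, gb]) (flat u) = evalW (eltL [ga, gb]) (flat v) := by
    refine eq_in_mg (flat_lt hu) (flat_lt hv) fun k hk => ?_
    have h24 : k < 24 := by
      simp only [basePts, List.mem_cons, List.not_mem_nil, or_false] at hk
      omega
    rw [← img_eq hu h24, ← img_eq hv h24]
    exact h k hk
  have hp := congrArg (fun m => (ptEquiv (toPerm m (pt i))).val) h'
  simp only [toPerm_eval (flat_lt hu), toPerm_eval (flat_lt hv), ptEquiv_pt hi] at hp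
  rw [img_eq hu hi, img_eq hv hi]
  exact hp

theorem same_iff {u v : List ℕ} : same u v = true ↔
    okW u = true ∧ okW v = true ∧ ∀ i ∈ basePts, img u i = img v i := by
  simp [same, Bool.and_eq_true, List.all_eq_true, Nat.beq_eq, and_assoc]

theorem base_lt {i : ℕ} (h : i ∈ basePts) : i < 24 := by
  simp only [basePts, List.mem_cons, List.not_mem_nil, or_false] at h
  omega

theorem okW_append {u v : List ℕ} : okW (u ++ v) = true ↔ okW u = true ∧ okW v = true := by
  simp [okW, List.all_append]

theorem same_app {u v u' v' : List ℕ} (e : same u v = true) (e' : same u' v' = true) :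
    same (u ++ u') (v ++ v') = true := by
  obtain ⟨hu, hv, h⟩ := same_iff.1 e'
  obtain ⟨hu0, hv0, -⟩ := same_iff.1 e
  refine same_iff.2 ⟨okW_append.2 ⟨hu0, hu⟩, okW_append.2 ⟨hv0, hv⟩, fun i hi => ?_⟩
  rw [img_append, img_append, h i hi]
  exact img_of_same e (img_lt hv (base_lt hi))

theorem same_refl {u : List ℕ} (h : okW u = true) : same u u = true :=
  same_iff.2 ⟨h, h, fun _ _ => rfl⟩

theorem same_trans {u v w : List ℕ} (e : same u v = true) (e' : same v w = true) :
    same u w = true := by
  obtain ⟨hu, -, h⟩ := same_iff.1 e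
  obtain ⟨-, hw, h'⟩ := same_iff.1 e'
  exact same_iff.2 ⟨hu, hw, fun i hi => (h i hi).trans (h' i hi)⟩

/-- The number of cosets. -/
def numTrio : ℕ := 3795

/-- The representative of a coset. -/
def tw (k : ℕ) : List ℕ := (twTab.getD (k / 64) []).getD (k % 64) []

/-- The inverse of a representative. -/
def twI (k : ℕ) : List ℕ := (twiTab.getD (k / 64) []).getD (k % 64) []

/-- The next cosets and the correcting words. -/
def nxt (k : ℕ) : ℕ × List ℕ × ℕ × List ℕ := (nxtTab.getD (k / 64) []).getD (k % 64) (0, [], 0, [])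

/-- The blocks after a representative. -/
def trioLab (k : ℕ) : ℕ := (labTab.getD (k / 64) 0 >>> (48 * (k % 64))) % 2 ^ 48

/-- Two points whose blocks are separated by a representative. -/
def wit (k : ℕ) : ℕ × ℕ := (witTab.getD (k / 64) []).getD (k % 64) (0, 0)

/-- The checks of one coset. -/
def rowOk (k : ℕ) : Bool :=
  let T := tw k
  let n := nxt k
  Nat.blt n.1 numTrio && Nat.blt n.2.2.1 numTrio && isC n.2.1 && isC n.2.2.2 &&
    same (T ++ [0]) (n.2.1 ++ tw n.1) && same (T ++ [2]) (n.2.2.2 ++ tw n.2.2.1) &&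
    same (T ++ twI k) [] &&
    ((List.range 24).all fun i => Nat.beq (labAt (trioLab k) i) (labAt lab0 (img T i))) &&
    (Nat.beq k 0 ||
      (Nat.blt (wit k).1 24 && Nat.blt (wit k).2 24 &&
        Nat.beq (labAt lab0 (wit k).1) (labAt lab0 (wit k).2) &&
        !Nat.beq (labAt (trioLab k) (wit k).1) (labAt (trioLab k) (wit k).2)))

/-- The checks of a range of cosets. -/
def rowsOk (lo n : ℕ) : Bool := (List.range n).all fun i => Nat.ble numTrio (lo + i) || rowOk (lo + i)

/-- The blocks after a word correspond to the blocks before it. -/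
def LabIff (w : List ℕ) : Prop :=
  ∀ i < 24, ∀ j < 24, labAt lab0 i = labAt lab0 j ↔ labAt lab0 (img w i) = labAt lab0 (img w j)

theorem small_checks :
    ((List.range numMac).all fun g => Nat.blt g firstComm ||
      (List.range 24).all fun i => (List.range 24).all fun j =>
        Nat.beq (labAt lab0 i) (labAt lab0 j) ==
          Nat.beq (labAt lab0 (pimg g i)) (labAt lab0 (pimg g j))) = true ∧
    same [0] [1] = true ∧ same [3] [2, 2] = true ∧ tw 0 = [] ∧
    macW.getD 0 [] = [0] ∧ macW.getD 1 [] = [1] ∧ macW.getD 2 [] = [2] ∧ macW.getD 3 [] = [3] ∧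
    4 ≤ numMac := by
  decide +kernel

theorem isC_okW {c : List ℕ} (h : isC c = true) : okW c = true := by
  simp only [isC, List.all_eq_true, Bool.and_eq_true, Nat.ble_eq, Nat.blt_eq] at h
  exact okW_iff.2 fun g hg => (h g hg).2

theorem isC_append {c d : List ℕ} : isC (c ++ d) = true ↔ isC c = true ∧ isC d = true := by
  simp [isC, List.all_append]

theorem labIff_of_isC : ∀ {c : List ℕ}, isC c = true → LabIff c
  | [], _ => fun _ _ _ _ => Iff.rfl
  | g :: c, h => by
    have hh := h
    rw [show g :: c = [g] ++ c from rfl, isC_append] at hh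
    obtain ⟨hg, hc⟩ := hh
    simp only [isC, List.all_cons, List.all_nil, Bool.and_true, Bool.and_eq_true, Nat.ble_eq,
      Nat.blt_eq] at hg
    intro i hi j hj
    rw [labIff_of_isC hc i hi j hj]
    have h1 := List.all_eq_true.1 small_checks.1 g (List.mem_range.2 hg.2)
    simp only [Bool.or_eq_true, Nat.blt_eq, List.all_eq_true, List.mem_range, beq_iff_eq] at h1
    rcases h1 with h1 | h1
    · omega
    have h2 := h1 _ (img_lt (isC_okW hc) hi) _ (img_lt (isC_okW hc) hj)
    show _ ↔ labAt lab0 (pimg g (img c i)) = labAt lab0 (pimg g (img c j))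
    rw [← Nat.beq_eq, h2, Nat.beq_eq]

/-- What the checks of one coset say. -/
structure RowSpec (k : ℕ) : Prop where
  lt0 : (nxt k).1 < numTrio
  lt2 : (nxt k).2.2.1 < numTrio
  isC0 : isC (nxt k).2.1 = true
  isC2 : isC (nxt k).2.2.2 = true
  same0 : same (tw k ++ [0]) ((nxt k).2.1 ++ tw (nxt k).1) = true
  same2 : same (tw k ++ [2]) ((nxt k).2.2.2 ++ tw (nxt k).2.2.1) = true
  sameI : same (tw k ++ twI k) [] = true
  labs : ∀ i < 24, labAt (trioLab k) i = labAt lab0 (img (tw k) i)
  sep : k = 0 ∨ ((wit k).1 < 24 ∧ (wit k).2 < 24 ∧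
    labAt lab0 (wit k).1 = labAt lab0 (wit k).2 ∧
    labAt (trioLab k) (wit k).1 ≠ labAt (trioLab k) (wit k).2)

variable (rows : ∀ k < numTrio, rowOk k = true)

include rows

theorem row_spec {k : ℕ} (hk : k < numTrio) : RowSpec k := by
  have h := rows k hk
  simp only [rowOk, Bool.and_eq_true, Bool.or_eq_true, Nat.blt_eq, List.all_eq_true, List.mem_range,
    Nat.beq_eq, Bool.not_eq_true'] at h
  obtain ⟨⟨⟨⟨⟨⟨⟨⟨h1, h2⟩, h3⟩, h4⟩, h5⟩, h6⟩, h7⟩, h8⟩, h9⟩ := h
  refine ⟨h1, h2, h3, h4, h5, h6, h7, h8, h9.imp id fun w => ⟨w.1.1.1, w.1.1.2, w.1.2, ?_⟩⟩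
  intro e
  have := Nat.beq_eq ▸ e
  simp [w.2] at this

theorem okW_tw {k : ℕ} (hk : k < numTrio) : okW (tw k) = true ∧ okW (twI k) = true :=
  okW_append.1 (same_iff.1 (row_spec rows hk).sameI).1

theorem lab_tw {k : ℕ} (hk : k < numTrio) {i : ℕ} (hi : i < 24) :
    labAt (trioLab k) i = labAt lab0 (img (tw k) i) := (row_spec rows hk).labs i hi

/-- One letter moves a representative to a representative. -/
theorem step_letter {k : ℕ} (hk : k < numTrio) {l : ℕ} (hl : l < 4) :
    ∃ k' < numTrio, ∃ c, isC c = true ∧ same (tw k ++ [l]) (c ++ tw k') = true := by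
  have h := row_spec rows hk
  obtain ⟨n0, n2, c0, c2, e0, e2, -, -, -⟩ := h
  obtain ⟨-, hx, hy, -⟩ := small_checks
  have okk := (okW_tw rows hk).1
  interval_cases l
  · exact ⟨_, n0, _, c0, e0⟩
  · have hx' : same [1] [0] = true := by decide +kernel
    exact ⟨_, n0, _, c0, same_trans (same_app (same_refl okk) hx') e0⟩
  · exact ⟨_, n2, _, c2, e2⟩
  · obtain ⟨-, m2, -, d2, -, f2, -, -, -⟩ := row_spec rows n2
    refine ⟨_, m2, (nxt k).2.2.2 ++ (nxt (nxt k).2.2.1).2.2.2, isC_append.2 ⟨c2, d2⟩, ?_⟩
    have h1 := same_trans (same_app (same_refl okk) hy)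
      (List.append_assoc (tw k) [2] [2] ▸ same_app e2 (same_refl (u := [2]) (by decide +kernel)) :
        same (tw k ++ [2, 2]) ((nxt k).2.2.2 ++ tw (nxt k).2.2.1 ++ [2]) = true)
    refine same_trans h1 ?_
    rw [List.append_assoc, List.append_assoc]
    exact same_app (same_refl (isC_okW c2)) f2

theorem decomp_letters : ∀ w : List ℕ, (∀ l ∈ w, l < 4) →
    ∃ k < numTrio, ∃ c, isC c = true ∧ same w (c ++ tw k) = true := by
  intro w
  induction w using List.reverseRecOn with
  | nil =>
    intro _
    exact ⟨0, by decide, [], rfl, by rw [small_checks.2.2.2.1]; exact same_refl rfl⟩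
  | append_singleton w l ih =>
    intro h
    obtain ⟨k, hk, c, hc, e⟩ := ih fun a ha => h a (List.mem_append_left _ ha)
    have hl := h l (List.mem_append_right _ List.mem_cons_self)
    obtain ⟨k', hk', c', hc', e'⟩ := step_letter rows hk hl
    refine ⟨k', hk', c ++ c', isC_append.2 ⟨hc, hc'⟩, ?_⟩
    have hlok : okW [l] = true := by
      have h4 := small_checks.2.2.2.2.2.2.2.2
      exact okW_iff.2 fun g hg => by simp at hg; omega
    refine same_trans (same_app e (same_refl hlok)) ?_
    rw [List.append_assoc, List.append_assoc]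
    exact same_app (same_refl (isC_okW hc)) e'

omit rows in
theorem same_flat {w : List ℕ} (h : okW w = true) : same w (flat w) = true := by
  obtain ⟨-, -, -, -, m0, m1, m2, m3, h4⟩ := small_checks
  have hfl := flat_lt h
  have hok : okW (flat w) = true := okW_iff.2 fun g hg => by have := hfl g hg; omega
  refine same_iff.2 ⟨h, hok, fun i hi => ?_⟩
  rw [img_eq h (base_lt hi), img_eq hok (base_lt hi)]
  congr 1
  revert hfl
  generalize flat w = f
  intro hfl
  induction f with
  | nil => rfl
  | cons a f ih =>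
    rw [flat, List.flatMap_cons, ← flat, ← ih fun g hg => hfl g (List.mem_cons_of_mem _ hg)]
    have := hfl a List.mem_cons_self
    interval_cases a
    · rw [m0]; rfl
    · rw [m1]; rfl
    · rw [m2]; rfl
    · rw [m3]; rfl

/-- A word that keeps the blocks is a word of letters commuting with t. -/
theorem exists_isC {w : List ℕ} (h : okW w = true) (hlab : LabIff w) :
    ∃ c, isC c = true ∧ same w c = true := by
  obtain ⟨k, hk, c, hc, e⟩ := decomp_letters rows (flat w) (flat_lt h)
  have e' := same_trans (same_flat h) e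
  rcases (row_spec rows hk).sep with rfl | ⟨hi, hj, hij, hne⟩
  · rw [small_checks.2.2.2.1, List.append_nil] at e'
    exact ⟨c, hc, e'⟩
  · refine absurd ?_ hne
    rw [lab_tw rows hk hi, lab_tw rows hk hj]
    have okk := (okW_tw rows hk).1
    rw [labIff_of_isC hc _ (img_lt okk hi) _ (img_lt okk hj), ← img_append, ← img_append,
      ← img_of_same e' hi, ← img_of_same e' hj]
    exact (hlab _ hi _ hj).1 hij

end CfsgLib.J4Index
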