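import Cfsg.Agent.Lib.J4Index.Rules

/-!
# The vertices (generated)
-/

set_option autoImplicit false
set_option maxRecDepth 100000
set_option linter.style.longLine false

namespace CfsgLib.J4Index

variable {G X : Type} [Group G] [MulAction G X] (C : Ctx G X)

/-- Vertex 0. -/
abbrev v0 : X := C.p0

/-- Vertex 1. -/
def v1 : X := C.t • C.W [] • v0 C

/-- Vertex 2. -/
def v2 : X := C.t • C.W [7] • v1 C

/-- Vertex 3. -/
def v3 : X := C.t • C.W [20, 40, 66, 78, 91, 109, 118] • v2 C

/-- Vertex 4. -/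
def v4 : X := C.t • C.W [20] • v1 C

/-- Vertex 5. -/
def v5 : X := C.t • C.W [18, 44] • v2 C

/-- Vertex 6. -/
def v6 : X := C.t • C.W [10, 50] • v5 C

/-- Vertex 7. -/
def v7 : X := C.t • C.W [10, 34, 60] • v6 C

/-- Vertex 8. -/
def v8 : X := C.t • C.W [20, 50] • v7 C

/-- Vertex 9. -/
def v9 : X := C.t • C.W [6, 34] • v8 C

/-- Vertex 10. -/
def v10 : X := C.t • C.W [21, 44] • v8 C

/-- Vertex 11. -/
def v11 : X := C.t • C.W [35, 66, 84, 105, 109, 115] • v10 C

/-- Vertex 12. -/
def v12 : X := C.t • C.W [6] • v11 C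

/-- Vertex 13. -/
def v13 : X := C.t • C.W [14, 48, 64, 73, 93, 109, 113] • v12 C

/-- Vertex 14. -/
def v14 : X := C.t • C.W [7, 43] • v12 C

/-- Vertex 15. -/
def v15 : X := C.t • C.W [24, 45] • v5 C

/-- Vertex 16. -/
def v16 : X := C.t • C.W [5, 37, 63, 84, 106, 110, 118] • v5 C

/-- Vertex 17. -/
def v17 : X := C.t • C.W [17] • v8 C

/-- Vertex 18. -/
def v18 : X := C.t • C.W [17] • v2 C

/-- Vertex 19. -/
def v19 : X := C.t • C.W [23, 46, 56, 83, 103, 124] • v4 C

/-- Vertex 20. -/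
def v20 : X := C.t • C.W [9, 28] • v3 C

theorem eq_relA : C.W [12, 35, 50, 83] = C.W relA := C.W_same (by decide +kernel)

theorem eq_relB : C.W [8, 30, 65, 84, 94, 117] = C.W relB := C.W_same (by decide +kernel)

theorem eq_relC : C.W [26, 38, 54, 89, 90, 113] = C.W relC := C.W_same (by decide +kernel)

theorem eq_relU : C.W [20, 50] = C.W relU := C.W_same (by decide +kernel)

theorem eq_relV : C.W [11, 66] = C.W relV := C.W_same (by decide +kernel)

theorem relLoop0 : C.prodOps [none, some [12, 35, 50, 83], none, some [12, 35, 50, 83], none, some [12, 35, 50, 83]] = 1 := by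
  have h : (C.W relA * C.t) ^ 3 = 1 := C.relOne
  rw [← eq_relA C] at h
  simpa [Ctx.prodOps, pow_succ, mul_assoc] using h

theorem relLoop2 : C.prodOps [none, some [26, 38, 54, 89, 90, 113], none, some [8, 30, 65, 84, 94, 117], none, some [26, 38, 54, 89, 90, 113], none, some [8, 30, 65, 84, 94, 117]] = 1 := by
  have h : (C.W relB * C.t * C.W relC * C.t) ^ 2 = 1 := C.relTwo
  rw [← eq_relB C, ← eq_relC C] at h
  simpa [Ctx.prodOps, pow_succ, mul_assoc] using h

theorem relLoop1 : C.prodOps [none, some [8, 30, 65, 84, 94, 117], none, some [26, 38, 54, 89, 90, 113], none, some [8, 30, 65, 84, 94, 117], none, some [26, 38, 54, 89, 90, 113]] = 1 := by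
  have h : (C.W relB * C.t * C.W relC * C.t) ^ 2 = 1 := C.relTwo
  rw [← eq_relB C, ← eq_relC C] at h
  have key : ∀ u v : G, (u * v) ^ 2 = 1 → (v * u) ^ 2 = 1 := fun u v e => by
    calc (v * u) ^ 2 = v * (u * v) ^ 2 * v⁻¹ := by rw [pow_two, pow_two]; group
      _ = 1 := by rw [e, mul_one, mul_inv_cancel]
  have h2 := key _ _ (show (C.W [8, 30, 65, 84, 94, 117] * C.t * (C.W [26, 38, 54, 89, 90, 113] * C.t)) ^ 2 = 1 by rwa [← mul_assoc])
  simpa [Ctx.prodOps, pow_succ, mul_assoc] using h2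

theorem relLoopS : C.Loop [some [20, 50], none, some [11, 66], some [20, 50], none, some [11, 66], some [20, 50], none, some [11, 66]] (v0 C) [] := by
  show C.prodOps _ • C.W [] • C.p0 = C.W [] • C.p0
  rw [Ctx.W_nil, one_smul]
  have h : (C.W relV * C.t * C.W relU) ^ 3 • C.p0 = C.p0 := C.relFix
  rw [← eq_relU C, ← eq_relV C] at h
  simpa [Ctx.prodOps, pow_succ, mul_assoc] using h

/-- All words fix the first vertex. -/
theorem rootAll (u : List ℕ) : C.S (v0 C) u := by
  have h : C.W u ∈ MulAction.stabilizer G C.p0 := by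
    rw [Ctx.W, wv_flat]
    refine CfsgLib.J4P.evalW_mem _ fun g _ => ?_
    have := CfsgLib.J4P.eltL_mem_closure [C.a, C.b] g
    refine (Subgroup.closure_le _).2 ?_ this
    intro m hm
    simp only [Set.mem_setOf_eq, List.mem_cons, List.not_mem_nil, or_false] at hm
    rcases hm with rfl | rfl
    exacts [C.fix_a, C.fix_b]
  exact h

end CfsgLib.J4Index
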